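import Mathlib

set_option autoImplicit false

namespace Groth.Agent.H8Aux18547

def mat (a00 a01 a02 a10 a11 a12 a20 a21 a22 : ZMod 2) : Fin 3 → Fin 3 → ZMod 2 :=
  ![![a00, a01, a02], ![a10, a11, a12], ![a20, a21, a22]]

def pm (a b c : ZMod 2) : Fin 3 → Fin 3 → ZMod 2 :=
  ![![0, a, b], ![a, 0, c], ![b, c, 0]]

def tau (a b c : ZMod 2) (i j : Fin 3) : ZMod 2 :=
  if a = 1 then
    (![1, 0, c] i) * (![1, 0, c] j) + (![1, 0, c] i) * (![0, 1, b] j)
      + (![0, 1, b] i) * (![0, 1, b] j)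
  else
    (![b, c, 0] i) * (![b, c, 0] j) + (![b, c, 0] i) * (![0, 0, 1] j)
      + (b + c + b * c) * ((![0, 0, 1] i) * (![0, 0, 1] j))

theorem tauP : ∀ a b c : ZMod 2, tau a b c 0 1 + tau a b c 1 0 = a ∧
    tau a b c 0 2 + tau a b c 2 0 = b ∧ tau a b c 1 2 + tau a b c 2 1 = c := by decide

set_option maxRecDepth 100000 in
theorem key : ∀ (a00 a01 a02 a10 a11 a12 a20 a21 a22 a b c : ZMod 2),
    (∑ k, ∑ l, mat a00 a01 a02 a10 a11 a12 a20 a21 a22 0 k *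
        mat a00 a01 a02 a10 a11 a12 a20 a21 a22 1 l * pm a b c k l = a) →
    (∑ k, ∑ l, mat a00 a01 a02 a10 a11 a12 a20 a21 a22 0 k *
        mat a00 a01 a02 a10 a11 a12 a20 a21 a22 2 l * pm a b c k l = b) →
    (∑ k, ∑ l, mat a00 a01 a02 a10 a11 a12 a20 a21 a22 1 k *
        mat a00 a01 a02 a10 a11 a12 a20 a21 a22 2 l * pm a b c k l = c) →
    (∀ i j : Fin 3, ∑ k, ∑ l, mat a00 a01 a02 a10 a11 a12 a20 a21 a22 i k *
        mat a00 a01 a02 a10 a11 a12 a20 a21 a22 j l * tau a b c k l - tau a b c i j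
      = ∑ k, ∑ l, mat a00 a01 a02 a10 a11 a12 a20 a21 a22 j k *
        mat a00 a01 a02 a10 a11 a12 a20 a21 a22 i l * tau a b c k l - tau a b c j i) ∧
    (∀ i : Fin 3, ∑ k, ∑ l, mat a00 a01 a02 a10 a11 a12 a20 a21 a22 i k *
        mat a00 a01 a02 a10 a11 a12 a20 a21 a22 i l * tau a b c k l - tau a b c i i = 0) := by
  decide

theorem sym3 (f : Fin 3 → Fin 3 → ZMod 2) (h1 : f 0 1 = f 1 0) (h2 : f 0 2 = f 2 0)
    (h3 : f 1 2 = f 2 1) : ∀ i j, f i j = f j i := by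
  intro i j
  fin_cases i <;> fin_cases j <;>
    first | rfl | exact h1 | exact h1.symm | exact h2 | exact h2.symm | exact h3 | exact h3.symm



end Groth.Agent.H8Aux18547
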