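import Mathlib

set_option autoImplicit false
universe v
open CategoryTheory CategoryTheory.Limits

namespace H8Chain

open ZeroObject

/-- An acyclic ℕ-indexed chain complex of free abelian groups is contractible. -/
theorem contractible (K : ChainComplex (ModuleCat.{v} ℤ) ℕ) [∀ q, Module.Free ℤ (K.X q)]
    (hK : K.Acyclic) : Nonempty (Homotopy (𝟙 K) 0) := by
  have hproj : ∀ n, Projective (K.X n) := fun n => inferInstance
  have hex : ∀ i, ((ChainComplex.single₀ (ModuleCat.{v} ℤ)).obj 0).ExactAt i := by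
    intro i
    apply ShortComplex.exact_of_isZero_X₂
    cases i with
    | zero => exact isZero_zero _
    | succ n => exact HomologicalComplex.isZero_single_obj_X (ComplexShape.down ℕ) 0 (0 : ModuleCat.{v} ℤ) (n + 1) (by simp)
  have hq : QuasiIso (0 : K ⟶ (ChainComplex.single₀ (ModuleCat.{v} ℤ)).obj 0) := by
    constructor
    intro i
    rw [quasiIsoAt_iff_exactAt _ _ (hK i)]
    exact hex i
  let P : ProjectiveResolution (0 : ModuleCat.{v} ℤ) :=
    { complex := K
      projective := hproj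
      π := 0
      quasiIso := hq }
  exact ⟨ProjectiveResolution.liftHomotopyZero (P := P) (Q := P) (𝟙 K) (by simp [P])⟩

theorem shortExact_of (A' A A'' : ChainComplex (ModuleCat.{v} ℤ) ℕ) (f : A' ⟶ A) (p : A ⟶ A'')
    (hf : ∀ q, Function.Injective (f.f q).hom) (hp : ∀ q, Function.Surjective (p.f q).hom)
    (hfp : ∀ q, Function.Exact (f.f q).hom (p.f q).hom) :
    ∃ (w : f ≫ p = 0), (ShortComplex.mk f p w).ShortExact := by
  have w : f ≫ p = 0 := by
    ext q x
    exact (hfp q).apply_apply_eq_zero x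
  refine ⟨w, ?_⟩
  apply HomologicalComplex.shortExact_of_degreewise_shortExact
  intro i
  exact
    { exact := (ShortComplex.ShortExact.moduleCat_exact_iff_function_exact _).mpr (hfp i)
      mono_f := (ModuleCat.mono_iff_injective _).mpr (hf i)
      epi_g := (ModuleCat.epi_iff_surjective _).mpr (hp i) }

theorem exists_contraction (A' A A'' : ChainComplex (ModuleCat.{v} ℤ) ℕ) (f : A' ⟶ A) (p : A ⟶ A'')
    [∀ q, Module.Free ℤ (A''.X q)]
    (hf : ∀ q, Function.Injective (f.f q).hom) (hp : ∀ q, Function.Surjective (p.f q).hom)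
    (hfp : ∀ q, Function.Exact (f.f q).hom (p.f q).hom) [QuasiIso f] :
    Nonempty (Homotopy (𝟙 A'') 0) := by
  obtain ⟨w, hS⟩ := shortExact_of A' A A'' f p hf hp hfp
  have : QuasiIso (ShortComplex.mk f p w).f := by dsimp; infer_instance
  exact contractible A'' (hS.acyclic_X₃ this)

theorem exists_section (A' A A'' : ChainComplex (ModuleCat.{v} ℤ) ℕ) (f : A' ⟶ A) (p : A ⟶ A'')
    [∀ q, Module.Free ℤ (A''.X q)]
    (hf : ∀ q, Function.Injective (f.f q).hom) (hp : ∀ q, Function.Surjective (p.f q).hom)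
    (hfp : ∀ q, Function.Exact (f.f q).hom (p.f q).hom) [QuasiIso f] :
    ∃ h : A'' ⟶ A, h ≫ p = 𝟙 A'' := by
  obtain ⟨s⟩ := exists_contraction A' A A'' f p hf hp hfp
  have hσ : ∀ q, ∃ σ : A''.X q ⟶ A.X q, σ ≫ p.f q = 𝟙 _ := by
    intro q
    obtain ⟨σ, hσ⟩ := Module.projective_lifting_property (p.f q).hom LinearMap.id (hp q)
    exact ⟨ModuleCat.ofHom σ, ModuleCat.hom_ext hσ⟩
  choose σ hσ using hσ
  refine ⟨Homotopy.nullHomotopicMap (fun i j => s.hom i j ≫ σ j), ?_⟩
  rw [Homotopy.nullHomotopicMap_comp]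
  have : (fun i j => (s.hom i j ≫ σ j) ≫ p.f j) = fun i j => s.hom i j := by
    funext i j
    rw [Category.assoc, hσ, Category.comp_id]
  rw [this]
  ext i : 1
  have := s.comm i
  simp only [HomologicalComplex.zero_f, add_zero] at this
  rw [this]
  rfl

theorem free_of_addEquiv {M N : Type*} [AddCommGroup M] [AddCommGroup N] (i1 : Module ℤ M)
    (i2 : Module ℤ N) (e : M ≃+ N) (h : @Module.Free ℤ M _ _ i1) : @Module.Free ℤ N _ _ i2 := by
  have h1 : i1 = AddCommGroup.toIntModule M := Subsingleton.elim _ _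
  have h2 : i2 = AddCommGroup.toIntModule N := Subsingleton.elim _ _
  subst h1 h2
  exact Module.Free.of_equiv e.toIntLinearEquiv

section Coker

variable {A' A : ChainComplex (ModuleCat.{v} ℤ) ℕ} (f : A' ⟶ A)

theorem coker_shortExact (hf : ∀ q, Function.Injective (f.f q).hom) :
    (ShortComplex.mk f (cokernel.π f) (cokernel.condition f)).ShortExact := by
  have : Mono f := by
    have : ∀ q, Mono (f.f q) := fun q => (ModuleCat.mono_iff_injective _).mpr (hf q)
    exact HomologicalComplex.mono_of_mono_f f inferInstance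
  exact { exact := ShortComplex.exact_cokernel f
          mono_f := this
          epi_g := by dsimp; infer_instance }

theorem fun_of_shortExact {A'' : ChainComplex (ModuleCat.{v} ℤ) ℕ} (p : A ⟶ A'') (w : f ≫ p = 0)
    (hS : (ShortComplex.mk f p w).ShortExact) :
    (∀ q, Function.Surjective (p.f q).hom) ∧ (∀ q, Function.Exact (f.f q).hom (p.f q).hom) := by
  have h := (HomologicalComplex.shortExact_iff_degreewise_shortExact _).mp hS
  refine ⟨fun q => ?_, fun q => ?_⟩
  · exact (h q).moduleCat_surjective_g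
  · exact (ShortComplex.ShortExact.moduleCat_exact_iff_function_exact _).mp (h q).exact

theorem free_coker (hf : ∀ q, Function.Injective (f.f q).hom)
    (hq : ∀ q, Module.Free ℤ ((A.X q) ⧸ LinearMap.range (f.f q).hom)) (q : ℕ) :
    Module.Free ℤ ((cokernel f).X q) := by
  obtain ⟨hsurj, hex⟩ := fun_of_shortExact f (cokernel.π f) (cokernel.condition f)
    (coker_shortExact f hf)
  have hker : LinearMap.ker ((cokernel.π f).f q).hom = LinearMap.range (f.f q).hom :=
    (LinearMap.exact_iff.mp (hex q))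
  have e1 := ((cokernel.π f).f q).hom.quotKerEquivOfSurjective (hsurj q)
  have e2 := Submodule.quotEquivOfEq _ _ hker
  let i1 : Module ℤ ((A.X q) ⧸ LinearMap.range (f.f q).hom) := Submodule.Quotient.module _
  let i2 : Module ℤ ((A.X q) ⧸ LinearMap.ker ((cokernel.π f).f q).hom) :=
    Submodule.Quotient.module _
  exact free_of_addEquiv _ _ (e2.symm.trans e1).toAddEquiv (hq q)

theorem exists_retraction [∀ q, Module.Free ℤ (A.X q)]
    (hf : ∀ q, Function.Injective (f.f q).hom)
    (hq : ∀ q, Module.Free ℤ ((A.X q) ⧸ LinearMap.range (f.f q).hom)) [QuasiIso f] :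
    ∃ g : A ⟶ A', f ≫ g = 𝟙 A' := by
  have hS := coker_shortExact f hf
  obtain ⟨hsurj, hex⟩ := fun_of_shortExact f (cokernel.π f) (cokernel.condition f) hS
  have : ∀ q, Module.Free ℤ ((cokernel f).X q) := free_coker f hf hq
  obtain ⟨h, hh⟩ := exists_section A' A (cokernel f) f (cokernel.π f) hf hsurj hex
  let sp := ShortComplex.Splitting.ofExactOfSection _ hS.exact h hh hS.mono_f
  exact ⟨sp.r, sp.f_r⟩

theorem exists_homotopy [∀ q, Module.Free ℤ (A.X q)]
    (hf : ∀ q, Function.Injective (f.f q).hom)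
    (hq : ∀ q, Module.Free ℤ ((A.X q) ⧸ LinearMap.range (f.f q).hom)) [QuasiIso f]
    (g₁ g₂ : A ⟶ A') (h₁ : f ≫ g₁ = 𝟙 A') (h₂ : f ≫ g₂ = 𝟙 A') :
    ∃ H : Homotopy g₁ g₂, ∀ i j : ℕ, f.f i ≫ H.hom i j = 0 := by
  have hS := coker_shortExact f hf
  obtain ⟨hsurj, hex⟩ := fun_of_shortExact f (cokernel.π f) (cokernel.condition f) hS
  have : ∀ q, Module.Free ℤ ((cokernel f).X q) := free_coker f hf hq
  obtain ⟨s⟩ := exists_contraction A' A (cokernel f) f (cokernel.π f) hf hsurj hex
  have : Epi (ShortComplex.mk f (cokernel.π f) (cokernel.condition f)).g := hS.epi_g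
  have hk : (ShortComplex.mk f (cokernel.π f) (cokernel.condition f)).f ≫ (g₁ - g₂) = 0 := by
    simp [h₁, h₂]
  let φ : cokernel f ⟶ A' := hS.exact.desc (g₁ - g₂) hk
  have hφ : cokernel.π f ≫ φ = g₁ - g₂ := hS.exact.g_desc (g₁ - g₂) hk
  let H0 : Homotopy (cokernel.π f ≫ 𝟙 _ ≫ φ) (cokernel.π f ≫ 0 ≫ φ) :=
    (s.compRight φ).compLeft (cokernel.π f)
  have e1 : g₁ - g₂ = cokernel.π f ≫ 𝟙 _ ≫ φ := by simp [hφ]
  have e2 : cokernel.π f ≫ 0 ≫ φ = 0 := by simp
  let H1 : Homotopy (g₁ - g₂) 0 := (Homotopy.ofEq e1).trans (H0.trans (Homotopy.ofEq e2))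
  refine ⟨Homotopy.equivSubZero.symm H1, fun i j => ?_⟩
  have hfp : f.f i ≫ (cokernel.π f).f i = 0 := by
    rw [← HomologicalComplex.comp_f, cokernel.condition]; rfl
  have : (Homotopy.equivSubZero.symm H1).hom i j =
      0 + ((cokernel.π f).f i ≫ s.hom i j ≫ φ.f j + 0) := rfl
  rw [this, zero_add, add_zero, ← Category.assoc, hfp, Limits.zero_comp]

end Coker

end H8Chain
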