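import Mathlib

set_option autoImplicit false
universe u

open TensorProduct

namespace H8Conn

variable {B : Type*} [CommRing B] {Ω X Y : Type*} [AddCommGroup Ω] [Module B Ω]
  [AddCommGroup X] [Module B X] [AddCommGroup Y] [Module B Y]

theorem equiv_map {κ : Type*} [DecidableEq κ] (𝒞 : Module.Basis κ B Ω) (f : X →ₗ[B] Y)
    (t : X ⊗[B] Ω) (i : κ) :
    TensorProduct.equivFinsuppOfBasisRight 𝒞 (TensorProduct.map f LinearMap.id t) i =
      f (TensorProduct.equivFinsuppOfBasisRight 𝒞 t i) := by
  induction t using TensorProduct.induction_on with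
  | zero => simp
  | add s s' hs hs' => simp only [map_add, Finsupp.add_apply, hs, hs']
  | tmul x ω =>
    rw [TensorProduct.map_tmul, TensorProduct.equivFinsuppOfBasisRight_apply_tmul_apply,
      TensorProduct.equivFinsuppOfBasisRight_apply_tmul_apply, LinearMap.id_apply, map_smul]

/-- elements of `Hom(E,G) ⊗ Ω` with `Ω` free are determined by their evaluations. -/
theorem tensor_hom_ext {E G : Type*} [AddCommGroup E] [Module B E] [AddCommGroup G] [Module B G]
    [Module.Free B Ω] (t t' : (E →ₗ[B] G) ⊗[B] Ω)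
    (h : ∀ e : E, TensorProduct.map (LinearMap.applyₗ e) LinearMap.id t =
      TensorProduct.map (LinearMap.applyₗ e) LinearMap.id t') : t = t' := by
  classical
  let 𝒞 := Module.Free.chooseBasis B Ω
  apply (TensorProduct.equivFinsuppOfBasisRight 𝒞).injective
  ext i e
  have h1 := equiv_map 𝒞 (LinearMap.applyₗ e : (E →ₗ[B] G) →ₗ[B] G) t i
  have h2 := equiv_map 𝒞 (LinearMap.applyₗ e : (E →ₗ[B] G) →ₗ[B] G) t' i
  rw [h e] at h1
  rw [h2] at h1
  exact h1.symm

end H8Conn
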