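import Mathlib

set_option autoImplicit false
universe v u

open CategoryTheory

namespace H8Cx

variable {ι : Type*} {c : ComplexShape ι} {R : Type u} [Ring R]
  {K L : HomologicalComplex (ModuleCat.{v} R) c} (φ : K ⟶ L)

theorem mono_homologyMap_iff (i j k : ι) (hi : c.prev j = i) (hk : c.next j = k) :
    Mono (HomologicalComplex.homologyMap φ j) ↔
      ∀ x : K.X j, (K.d j k).hom x = 0 → (∃ y : L.X i, (φ.f j).hom x = (L.d i j).hom y) →
        ∃ x₁ : K.X i, x = (K.d i j).hom x₁ := by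
  rw [HomologicalComplex.mono_homologyMap_iff_up_to_refinements φ i j k hi hk]
  constructor
  · intro h x hx hy
    obtain ⟨y, hy⟩ := hy
    let P : Submodule R (K.X j × L.X i) :=
      LinearMap.ker ((K.d j k).hom ∘ₗ LinearMap.fst R (K.X j) (L.X i)) ⊓
        LinearMap.eqLocus ((φ.f j).hom ∘ₗ LinearMap.fst R (K.X j) (L.X i))
          ((L.d i j).hom ∘ₗ LinearMap.snd R (K.X j) (L.X i))
    let x₂ : ModuleCat.of R P ⟶ K.X j :=
      ModuleCat.ofHom (LinearMap.fst R (K.X j) (L.X i) ∘ₗ P.subtype)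
    let y₁ : ModuleCat.of R P ⟶ L.X i :=
      ModuleCat.ofHom (LinearMap.snd R (K.X j) (L.X i) ∘ₗ P.subtype)
    have h1 : x₂ ≫ K.d j k = 0 := by
      apply ModuleCat.hom_ext
      apply LinearMap.ext
      intro p
      exact p.2.1
    have h2 : x₂ ≫ φ.f j = y₁ ≫ L.d i j := by
      apply ModuleCat.hom_ext
      apply LinearMap.ext
      intro p
      exact p.2.2
    obtain ⟨A', π, hπ, x₁, hx₁⟩ := h x₂ h1 y₁ h2
    have hsurj := (ModuleCat.epi_iff_surjective π).mp hπ
    have hmem : ((x, y) : K.X j × L.X i) ∈ P := ⟨hx, hy⟩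
    obtain ⟨a', ha'⟩ := hsurj ⟨(x, y), hmem⟩
    refine ⟨x₁.hom a', ?_⟩
    have h3 := congrArg (fun m => m.hom a') hx₁
    simp only [ModuleCat.hom_comp, LinearMap.comp_apply] at h3
    rw [← h3, ha']
    rfl
  · intro h A x₂ hx₂ y₁ hy₁
    let P' : Submodule R (A × K.X i) :=
      LinearMap.eqLocus (x₂.hom ∘ₗ LinearMap.fst R A (K.X i))
        ((K.d i j).hom ∘ₗ LinearMap.snd R A (K.X i))
    let π : ModuleCat.of R P' ⟶ A := ModuleCat.ofHom (LinearMap.fst R A (K.X i) ∘ₗ P'.subtype)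
    let x₁ : ModuleCat.of R P' ⟶ K.X i :=
      ModuleCat.ofHom (LinearMap.snd R A (K.X i) ∘ₗ P'.subtype)
    have hπ : Epi π := by
      rw [ModuleCat.epi_iff_surjective]
      intro a
      have e1 : (K.d j k).hom (x₂.hom a) = 0 := by
        have := congrArg (fun m => m.hom a) hx₂
        simpa only [ModuleCat.hom_comp, LinearMap.comp_apply, ModuleCat.hom_zero, LinearMap.zero_apply] using this
      have e2 : (φ.f j).hom (x₂.hom a) = (L.d i j).hom (y₁.hom a) := by
        have := congrArg (fun m => m.hom a) hy₁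
        simpa only [ModuleCat.hom_comp, LinearMap.comp_apply, ModuleCat.hom_zero, LinearMap.zero_apply] using this
      obtain ⟨c, hc⟩ := h (x₂.hom a) e1 ⟨y₁.hom a, e2⟩
      exact ⟨⟨(a, c), hc⟩, rfl⟩
    refine ⟨ModuleCat.of R P', π, hπ, x₁, ?_⟩
    apply ModuleCat.hom_ext
    apply LinearMap.ext
    intro p
    exact p.2

theorem epi_homologyMap_iff (i j k : ι) (hi : c.prev j = i) (hk : c.next j = k) :
    Epi (HomologicalComplex.homologyMap φ j) ↔
      ∀ y : L.X j, (L.d j k).hom y = 0 →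
        ∃ x : K.X j, (K.d j k).hom x = 0 ∧ ∃ y₁ : L.X i, y = (φ.f j).hom x + (L.d i j).hom y₁ := by
  rw [HomologicalComplex.epi_homologyMap_iff_up_to_refinements φ i j k hi hk]
  constructor
  · intro h y hy
    let P : Submodule R (L.X j) := LinearMap.ker (L.d j k).hom
    let y₂ : ModuleCat.of R P ⟶ L.X j := ModuleCat.ofHom P.subtype
    have h1 : y₂ ≫ L.d j k = 0 := by
      apply ModuleCat.hom_ext
      apply LinearMap.ext
      intro p
      exact p.2
    obtain ⟨A', π, hπ, x₂, hx₂, y₁, hy₁⟩ := h y₂ h1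
    have hsurj := (ModuleCat.epi_iff_surjective π).mp hπ
    obtain ⟨a', ha'⟩ := hsurj ⟨y, hy⟩
    refine ⟨x₂.hom a', ?_, y₁.hom a', ?_⟩
    · have := congrArg (fun m => m.hom a') hx₂
      simpa only [ModuleCat.hom_comp, LinearMap.comp_apply, ModuleCat.hom_zero, LinearMap.zero_apply] using this
    · have h3 := congrArg (fun m => m.hom a') hy₁
      simp only [ModuleCat.hom_comp, LinearMap.comp_apply, ModuleCat.hom_add,
        LinearMap.add_apply] at h3
      rw [← h3, ha']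
      rfl
  · intro h A y₂ hy₂
    let P' : Submodule R (A × (K.X j × L.X i)) :=
      LinearMap.ker ((K.d j k).hom ∘ₗ LinearMap.fst R (K.X j) (L.X i) ∘ₗ
        LinearMap.snd R A (K.X j × L.X i)) ⊓
      LinearMap.eqLocus (y₂.hom ∘ₗ LinearMap.fst R A (K.X j × L.X i))
        (((φ.f j).hom ∘ₗ LinearMap.fst R (K.X j) (L.X i) +
          (L.d i j).hom ∘ₗ LinearMap.snd R (K.X j) (L.X i)) ∘ₗ LinearMap.snd R A (K.X j × L.X i))
    let π : ModuleCat.of R P' ⟶ A :=
      ModuleCat.ofHom (LinearMap.fst R A (K.X j × L.X i) ∘ₗ P'.subtype)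
    let x₂ : ModuleCat.of R P' ⟶ K.X j :=
      ModuleCat.ofHom (LinearMap.fst R (K.X j) (L.X i) ∘ₗ LinearMap.snd R A (K.X j × L.X i) ∘ₗ
        P'.subtype)
    let y₁ : ModuleCat.of R P' ⟶ L.X i :=
      ModuleCat.ofHom (LinearMap.snd R (K.X j) (L.X i) ∘ₗ LinearMap.snd R A (K.X j × L.X i) ∘ₗ
        P'.subtype)
    have hπ : Epi π := by
      rw [ModuleCat.epi_iff_surjective]
      intro a
      have e1 : (L.d j k).hom (y₂.hom a) = 0 := by
        have := congrArg (fun m => m.hom a) hy₂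
        simpa only [ModuleCat.hom_comp, LinearMap.comp_apply, ModuleCat.hom_zero, LinearMap.zero_apply] using this
      obtain ⟨x, hx, y1, hy1⟩ := h (y₂.hom a) e1
      exact ⟨⟨(a, (x, y1)), ⟨hx, hy1⟩⟩, rfl⟩
    refine ⟨ModuleCat.of R P', π, hπ, x₂, ?_, y₁, ?_⟩
    · apply ModuleCat.hom_ext
      apply LinearMap.ext
      intro p
      exact p.2.1
    · apply ModuleCat.hom_ext
      apply LinearMap.ext
      intro p
      exact p.2.2

end H8Cx
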