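import Mathlib
import Groth.Prelude.Def_W4c5adicflatcomplDec

set_option autoImplicit false
universe u v w

open W4c5adicflatcompl

namespace H8Dec

variable {A : Type u} [CommRing A] (I : Ideal A) (Z : Type v) (M : Type w) [AddCommGroup M] [Module A M]

/-- elements of `span(s) • N` are combinations of the generators with coefficients in `N`. -/
theorem exists_coeffs (s : Finset A) (N : Submodule A M) (x : M)
    (hx : x ∈ (Submodule.span A (s : Set A) : Ideal A) • N) :
    ∃ c : s → M, (∀ i, c i ∈ N) ∧ x = ∑ i : s, (i : A) • c i := by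
  classical
  refine Submodule.smul_induction_on (p := fun x => ∃ c : s → M, (∀ i, c i ∈ N) ∧
    x = ∑ i : s, (i : A) • c i) hx ?_ ?_
  · intro r hr y hy
    obtain ⟨a, -, ha⟩ := Submodule.mem_span_finset.mp hr
    refine ⟨fun i => a i • y, fun i => N.smul_mem _ hy, ?_⟩
    rw [← ha, Finset.sum_smul, ← Finset.sum_coe_sort s (fun i => (a i • i) • y)]
    apply Finset.sum_congr rfl
    intro i _
    rw [smul_eq_mul, mul_comm, mul_smul]
  · rintro x y ⟨c, hc1, hc2⟩ ⟨d, hd1, hd2⟩
    refine ⟨fun i => c i + d i, fun i => N.add_mem (hc1 i) (hd1 i), ?_⟩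
    rw [hc2, hd2, ← Finset.sum_add_distrib]
    apply Finset.sum_congr rfl
    intro i _
    rw [smul_add]

variable {I Z M}

theorem mem_pow_smul_top_iff [IsNoetherianRing A] [IsHausdorff I M] (n : ℕ)
    (f : decaying I Z M) :
    f ∈ (I ^ n • ⊤ : Submodule A (decaying I Z M)) ↔
      ∀ z, (f : Z → M) z ∈ (I ^ n • ⊤ : Submodule A M) := by
  classical
  constructor
  · intro hf z
    refine Submodule.smul_induction_on hf (fun r hr h _ => ?_) (fun x y hx hy => ?_)
    · change r • (h : Z → M) z ∈ _
      exact Submodule.smul_mem_smul hr Submodule.mem_top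
    · change (x : Z → M) z + (y : Z → M) z ∈ _
      exact Submodule.add_mem _ hx hy
  · intro hf
    obtain ⟨s, hs⟩ := (IsNoetherian.noetherian (I ^ n) : (I ^ n).FG)
    have hpow : ∀ m : ℕ, (I ^ (n + m) • ⊤ : Submodule A M) =
        (Submodule.span A (s : Set A) : Ideal A) • (I ^ m • ⊤ : Submodule A M) := by
      intro m
      rw [show (Submodule.span A (s : Set A) : Ideal A) = I ^ n from hs, ← Submodule.mul_smul,
        ← pow_add]
    have hanti : ∀ {a b : ℕ}, a ≤ b → (I ^ b • ⊤ : Submodule A M) ≤ (I ^ a • ⊤ : Submodule A M) :=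
      fun h => Submodule.smul_mono_left (Ideal.pow_le_pow_right h)
    have key : ∀ z, ∃ c : s → M, (f : Z → M) z = ∑ i : s, (i : A) • c i ∧
        ∀ m : ℕ, (f : Z → M) z ∈ (I ^ (n + m) • ⊤ : Submodule A M) →
          ∀ i, c i ∈ (I ^ m • ⊤ : Submodule A M) := by
      intro z
      by_cases hz : (f : Z → M) z = 0
      · exact ⟨fun _ => 0, by simp [hz], fun m _ i => Submodule.zero_mem _⟩
      · have hex : ∃ m : ℕ, (f : Z → M) z ∉ (I ^ (n + m) • ⊤ : Submodule A M) := by
          by_contra hall
          push Not at hall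
          apply hz
          apply IsHausdorff.haus' (I := I)
          intro i
          rw [SModEq.zero]
          exact hanti (by omega : i ≤ n + i) (hall i)
        let m₀ := Nat.find hex
        have hm₀ : (f : Z → M) z ∉ (I ^ (n + m₀) • ⊤ : Submodule A M) := Nat.find_spec hex
        have hm₀pos : m₀ ≠ 0 := by
          intro h0
          apply hm₀
          rw [h0, add_zero]
          exact hf z
        have hprev : (f : Z → M) z ∈ (I ^ (n + (m₀ - 1)) • ⊤ : Submodule A M) := by
          by_contra hnot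
          exact Nat.find_min hex (by omega : m₀ - 1 < m₀) hnot
        rw [hpow] at hprev
        obtain ⟨c, hc, hsum⟩ := exists_coeffs M s _ _ hprev
        refine ⟨c, hsum, fun m hm i => ?_⟩
        have hlt : m < m₀ := by
          by_contra hge
          push Not at hge
          exact hm₀ (hanti (by omega : n + m₀ ≤ n + m) hm)
        exact hanti (by omega : m ≤ m₀ - 1) (hc i)
    choose c hc1 hc2 using key
    have hdec : ∀ i : s, (fun z => c z i) ∈ decaying I Z M := by
      intro i m
      refine (f.2 (n + m)).subset ?_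
      intro z hz
      simp only [Set.mem_ofPred_eq] at hz ⊢
      intro hmem
      exact hz (hc2 z m hmem i)
    have hfeq : f = ∑ i : s, (i : A) • (⟨fun z => c z i, hdec i⟩ : decaying I Z M) := by
      apply Subtype.ext
      funext z
      rw [Submodule.coe_sum, Finset.sum_apply, hc1 z]
      rfl
    rw [hfeq]
    apply Submodule.sum_mem
    intro i _
    apply Submodule.smul_mem_smul _ Submodule.mem_top
    rw [← hs]
    exact Submodule.subset_span i.2

theorem isHausdorff_decaying [IsHausdorff I M] : IsHausdorff I (decaying I Z M) := by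
  constructor
  intro f hf
  apply Subtype.ext
  funext z
  apply IsHausdorff.haus' (I := I)
  intro n
  rw [SModEq.zero]
  have h1 := hf n
  rw [SModEq.zero] at h1
  refine Submodule.smul_induction_on h1 (fun r hr h _ => ?_) (fun x y hx hy => ?_)
  · change r • (h : Z → M) z ∈ _
    exact Submodule.smul_mem_smul hr Submodule.mem_top
  · change (x : Z → M) z + (y : Z → M) z ∈ _
    exact Submodule.add_mem _ hx hy

theorem isAdicComplete_decaying [IsNoetherianRing A] [IsAdicComplete I M] :
    IsAdicComplete I (decaying I Z M) := by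
  have hH : IsHausdorff I (decaying I Z M) := isHausdorff_decaying
  have hP : IsPrecomplete I (decaying I Z M) := by
    constructor
    intro f hf
    have hpt : ∀ z n n', n ≤ n' → ((f n : decaying I Z M) : Z → M) z -
        ((f n' : decaying I Z M) : Z → M) z ∈ (I ^ n • ⊤ : Submodule A M) := by
      intro z n n' hnn'
      have h1 := hf hnn'
      rw [SModEq.sub_mem] at h1
      exact ((mem_pow_smul_top_iff n (f n - f n')).mp h1) z
    have hlim : ∀ z, ∃ Lz : M, ∀ n, ((f n : decaying I Z M) : Z → M) z - Lz ∈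
        (I ^ n • ⊤ : Submodule A M) := by
      intro z
      obtain ⟨Lz, hLz⟩ := IsPrecomplete.prec' (I := I)
        (fun n => ((f n : decaying I Z M) : Z → M) z) (by
        intro n n' hnn'
        rw [SModEq.sub_mem]
        exact hpt z n n' hnn')
      refine ⟨Lz, fun n => ?_⟩
      have := hLz n
      rwa [SModEq.sub_mem] at this
    choose L hL using hlim
    have hLdec : L ∈ decaying I Z M := by
      intro n
      refine ((f n).2 n).subset ?_
      intro z hz
      simp only [Set.mem_ofPred_eq] at hz ⊢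
      intro hmem
      apply hz
      have := hL z n
      have h2 : L z = ((f n : decaying I Z M) : Z → M) z -
          (((f n : decaying I Z M) : Z → M) z - L z) := by abel
      rw [h2]
      exact Submodule.sub_mem _ hmem this
    refine ⟨⟨L, hLdec⟩, fun n => ?_⟩
    rw [SModEq.sub_mem]
    apply (mem_pow_smul_top_iff n _).mpr
    intro z
    exact hL z n
  exact { toIsHausdorff := hH, toIsPrecomplete := hP }

/-- Convergent sums: for a family of linear maps `ψ z : N → M` into a complete module, the map
`g ↦ ∑ z, ψ z (g z)` on decaying functions. -/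
theorem exists_sum_map {N : Type*} [AddCommGroup N] [Module A N] [IsAdicComplete I M]
    (ψ : Z → N →ₗ[A] M) :
    ∃ φ : decaying I Z N →ₗ[A] M, ∀ (g : decaying I Z N) (n : ℕ), ∃ S : Finset Z,
      (∀ z, z ∉ S → ψ z ((g : Z → N) z) ∈ (I ^ n • ⊤ : Submodule A M)) ∧
      φ g - (∑ z ∈ S, ψ z ((g : Z → N) z)) ∈ (I ^ n • ⊤ : Submodule A M) := by
  classical
  let NN : ℕ → Submodule A M := fun n => (I ^ n • ⊤ : Submodule A M)
  let P : (Z → N) → M → Prop := fun g x => ∀ n : ℕ, ∃ S : Finset Z,
      (∀ z, z ∉ S → ψ z (g z) ∈ NN n) ∧ x - (∑ z ∈ S, ψ z (g z)) ∈ NN n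
  have hmono : ∀ (g : Z → N) (x : M) (n : ℕ) (S T : Finset Z), S ⊆ T →
      (∀ z, z ∉ S → ψ z (g z) ∈ NN n) → x - (∑ z ∈ S, ψ z (g z)) ∈ NN n →
      (∀ z, z ∉ T → ψ z (g z) ∈ NN n) ∧ x - (∑ z ∈ T, ψ z (g z)) ∈ NN n := by
    intro g x n S T hST h1 h2
    refine ⟨fun z hz => h1 z (fun h => hz (hST h)), ?_⟩
    have h3 : ∑ z ∈ T, ψ z (g z) = ∑ z ∈ T \ S, ψ z (g z) + ∑ z ∈ S, ψ z (g z) :=
      (Finset.sum_sdiff hST).symm
    have h4 : ∑ z ∈ T \ S, ψ z (g z) ∈ NN n :=
      Submodule.sum_mem _ (fun z hz => h1 z (Finset.mem_sdiff.mp hz).2)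
    have : x - ∑ z ∈ T, ψ z (g z) = (x - ∑ z ∈ S, ψ z (g z)) - ∑ z ∈ T \ S, ψ z (g z) := by
      rw [h3]; abel
    rw [this]
    exact Submodule.sub_mem _ h2 h4
  have huniq : ∀ (g : Z → N) (x x' : M), P g x → P g x' → x = x' := by
    intro g x x' hx hx'
    rw [← sub_eq_zero]
    apply IsHausdorff.haus' (I := I)
    intro n
    rw [SModEq.zero]
    obtain ⟨S, h1, h2⟩ := hx n
    obtain ⟨S', h1', h2'⟩ := hx' n
    have a1 := (hmono g x n S (S ∪ S') Finset.subset_union_left h1 h2).2
    have a2 := (hmono g x' n S' (S ∪ S') Finset.subset_union_right h1' h2').2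
    have : x - x' = (x - ∑ z ∈ S ∪ S', ψ z (g z)) - (x' - ∑ z ∈ S ∪ S', ψ z (g z)) := by abel
    rw [this]
    exact Submodule.sub_mem _ a1 a2
  have hψmem : ∀ (n : ℕ) (z : Z) (y : N), y ∈ (I ^ n • ⊤ : Submodule A N) → ψ z y ∈ NN n := by
    intro n z y hy
    refine Submodule.smul_induction_on hy (fun r hr w _ => ?_) (fun a b ha hb => ?_)
    · rw [map_smul]
      exact Submodule.smul_mem_smul hr Submodule.mem_top
    · rw [map_add]
      exact Submodule.add_mem _ ha hb
  have hex : ∀ g : decaying I Z N, ∃ x, P (g : Z → N) x := by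
    intro g
    have hg := g.2
    let S : ℕ → Finset Z := fun n => (hg n).toFinset
    have hS : ∀ n z, z ∉ S n → ψ z ((g : Z → N) z) ∈ NN n := by
      intro n z hz
      have : ¬ ((g : Z → N) z ∉ (I ^ n • ⊤ : Submodule A N)) := by
        intro h
        exact hz ((Set.Finite.mem_toFinset _).mpr h)
      rw [not_not] at this
      exact hψmem n z _ this
    have hSmono : ∀ a b, a ≤ b → S a ⊆ S b := by
      intro a b hab z hz
      rw [Set.Finite.mem_toFinset] at hz ⊢
      intro h
      apply hz
      exact Submodule.smul_mono_left (Ideal.pow_le_pow_right hab) h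
    obtain ⟨L, hL⟩ := IsPrecomplete.prec' (I := I) (fun n => ∑ z ∈ S n, ψ z ((g : Z → N) z)) (by
      intro a b hab
      rw [SModEq.sub_mem]
      have h3 : ∑ z ∈ S b, ψ z ((g : Z → N) z) =
          ∑ z ∈ S b \ S a, ψ z ((g : Z → N) z) + ∑ z ∈ S a, ψ z ((g : Z → N) z) :=
        (Finset.sum_sdiff (hSmono a b hab)).symm
      rw [h3, sub_add_cancel_right]
      apply Submodule.neg_mem
      exact Submodule.sum_mem _ (fun z hz => hS a z (Finset.mem_sdiff.mp hz).2))
    refine ⟨L, fun n => ⟨S n, hS n, ?_⟩⟩
    have := hL n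
    rw [SModEq.sub_mem] at this
    have h5 : L - ∑ z ∈ S n, ψ z ((g : Z → N) z) = -(∑ z ∈ S n, ψ z ((g : Z → N) z) - L) := by abel
    rw [h5]
    exact Submodule.neg_mem _ this
  choose φ hφ using hex
  have hadd : ∀ g g' : decaying I Z N, φ (g + g') = φ g + φ g' := by
    intro g g'
    apply huniq ((g + g' : decaying I Z N) : Z → N) _ _ (hφ (g + g'))
    intro n
    obtain ⟨S, h1, h2⟩ := hφ g n
    obtain ⟨S', h1', h2'⟩ := hφ g' n
    obtain ⟨b1, a1⟩ := hmono _ _ n S (S ∪ S') Finset.subset_union_left h1 h2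
    obtain ⟨b2, a2⟩ := hmono _ _ n S' (S ∪ S') Finset.subset_union_right h1' h2'
    refine ⟨S ∪ S', ?_, ?_⟩
    · intro z hz
      show ψ z ((g : Z → N) z + (g' : Z → N) z) ∈ NN n
      rw [map_add]
      exact Submodule.add_mem _ (b1 z hz) (b2 z hz)
    · have : φ g + φ g' - ∑ z ∈ S ∪ S', ψ z (((g + g' : decaying I Z N) : Z → N) z) =
          (φ g - ∑ z ∈ S ∪ S', ψ z ((g : Z → N) z)) + (φ g' - ∑ z ∈ S ∪ S', ψ z ((g' : Z → N) z)) := by
        have : ∀ z, ψ z (((g + g' : decaying I Z N) : Z → N) z) =
            ψ z ((g : Z → N) z) + ψ z ((g' : Z → N) z) := fun z => map_add _ _ _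
        simp only [this, Finset.sum_add_distrib]
        abel
      rw [this]
      exact Submodule.add_mem _ a1 a2
  have hsmul : ∀ (a : A) (g : decaying I Z N), φ (a • g) = a • φ g := by
    intro a g
    apply huniq ((a • g : decaying I Z N) : Z → N) _ _ (hφ (a • g))
    intro n
    obtain ⟨S, h1, h2⟩ := hφ g n
    refine ⟨S, ?_, ?_⟩
    · intro z hz
      show ψ z (a • (g : Z → N) z) ∈ NN n
      rw [map_smul]
      exact Submodule.smul_mem _ a (h1 z hz)
    · have : a • φ g - ∑ z ∈ S, ψ z (((a • g : decaying I Z N) : Z → N) z) =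
          a • (φ g - ∑ z ∈ S, ψ z ((g : Z → N) z)) := by
        have : ∀ z, ψ z (((a • g : decaying I Z N) : Z → N) z) = a • ψ z ((g : Z → N) z) :=
          fun z => map_smul _ _ _
        simp only [this, ← Finset.smul_sum, smul_sub]
      rw [this]
      exact Submodule.smul_mem _ a h2
  exact ⟨{ toFun := φ, map_add' := hadd, map_smul' := hsmul }, fun g n => hφ g n⟩

/-- lifting decaying functions along a surjection (universe-polymorphic version). -/
theorem lift_decaying {A : Type u} [CommRing A] [IsNoetherianRing A] (I : Ideal A)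
    [IsAdicComplete I A] (Z : Type v) {M : Type*} {M'' : Type*} [AddCommGroup M] [Module A M]
    [Module.Finite A M] [AddCommGroup M''] [Module A M''] (φ : M →ₗ[A] M'')
    (hφ : Function.Surjective φ) (g : Z → M'') (hg : g ∈ decaying I Z M'') :
    ∃ f : Z → M, f ∈ decaying I Z M ∧ ∀ z, φ (f z) = g z := by
  classical
  have hfin : Module.Finite A M'' := Module.Finite.of_surjective φ hφ
  have hHaus : (⨅ i : ℕ, I ^ i • ⊤ : Submodule A M'') = ⊥ :=
    Ideal.iInf_pow_smul_eq_bot_of_le_jacobson I (IsAdicComplete.le_jacobson_bot I)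
  have hmap : ∀ n : ℕ, Submodule.map φ (I ^ n • ⊤ : Submodule A M) = (I ^ n • ⊤ : Submodule A M'') := by
    intro n
    rw [Submodule.map_smul'', Submodule.map_top, LinearMap.range_eq_top.2 hφ]
  have hanti : ∀ {a b : ℕ}, a ≤ b → (I ^ b • ⊤ : Submodule A M) ≤ I ^ a • ⊤ := fun h =>
    Submodule.smul_mono (Ideal.pow_le_pow_right h) le_rfl
  have hanti'' : ∀ {a b : ℕ}, a ≤ b → (I ^ b • ⊤ : Submodule A M'') ≤ I ^ a • ⊤ := fun h =>
    Submodule.smul_mono (Ideal.pow_le_pow_right h) le_rfl
  have key : ∀ z, ∃ x : M, φ x = g z ∧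
      ∀ n : ℕ, g z ∈ (I ^ n • ⊤ : Submodule A M'') → x ∈ (I ^ n • ⊤ : Submodule A M) := by
    intro z
    by_cases hz : g z = 0
    · exact ⟨0, by rw [map_zero, hz], fun n _ => Submodule.zero_mem _⟩
    · have hex : ∃ n : ℕ, g z ∉ (I ^ n • ⊤ : Submodule A M'') := by
        by_contra hall
        push Not at hall
        apply hz
        have : g z ∈ (⨅ i : ℕ, I ^ i • ⊤ : Submodule A M'') := by
          rw [Submodule.mem_iInf]; exact hall
        rw [hHaus] at this
        exact (Submodule.mem_bot A).1 this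
      let n₀ := Nat.find hex
      have hn₀ : g z ∉ (I ^ n₀ • ⊤ : Submodule A M'') := Nat.find_spec hex
      have hn₀pos : n₀ ≠ 0 := by
        intro h0
        apply hn₀
        rw [h0, pow_zero, Ideal.one_eq_top, Submodule.top_smul]
        trivial
      have hprev : g z ∈ (I ^ (n₀ - 1) • ⊤ : Submodule A M'') := by
        by_contra hnot
        exact Nat.find_min hex (by omega : n₀ - 1 < n₀) hnot
      rw [← hmap] at hprev
      obtain ⟨x, hx, hxz⟩ := Submodule.mem_map.1 hprev
      refine ⟨x, hxz, fun n hn => ?_⟩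
      have hlt : n < n₀ := by
        by_contra hge
        push Not at hge
        exact hn₀ (hanti'' hge hn)
      exact hanti (by omega : n ≤ n₀ - 1) hx
  choose f hf1 hf2 using key
  refine ⟨f, ?_, hf1⟩
  intro n
  refine (hg n).subset ?_
  intro z hz
  simp only [Set.mem_ofPred_eq] at hz ⊢
  exact fun hmem => hz (hf2 z n hmem)

/-- membership in `I^n • ⊤` for finite products of copies of `A`. -/
theorem pi_mem_pow_smul_top_iff {A : Type u} [CommRing A] (I : Ideal A) (k n : ℕ)
    (c : Fin k → A) :
    c ∈ (I ^ n • ⊤ : Submodule A (Fin k → A)) ↔ ∀ i, c i ∈ I ^ n := by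
  classical
  constructor
  · intro hc i
    refine Submodule.smul_induction_on hc (fun r hr w _ => ?_) (fun a b ha hb => ?_)
    · show r * w i ∈ I ^ n
      exact Ideal.mul_mem_right _ _ hr
    · exact Ideal.add_mem _ ha hb
  · intro hc
    have : c = ∑ i, c i • (Pi.single i (1 : A) : Fin k → A) := by
      funext j
      simp [Finset.sum_apply, Pi.single_apply]
    rw [this]
    exact Submodule.sum_mem _ (fun i _ => Submodule.smul_mem_smul (hc i) Submodule.mem_top)

theorem map_mem_pow_smul_top {A : Type u} [CommRing A] (I : Ideal A) {X Y : Type*}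
    [AddCommGroup X] [Module A X] [AddCommGroup Y] [Module A Y]
    (χ : X →ₗ[A] Y) (n : ℕ) (x : X) (hx : x ∈ (I ^ n • ⊤ : Submodule A X)) :
    χ x ∈ (I ^ n • ⊤ : Submodule A Y) := by
  refine Submodule.smul_induction_on hx (fun a ha w _ => ?_) (fun a b ha hb => ?_)
  · rw [map_smul]
    exact Submodule.smul_mem_smul ha Submodule.mem_top
  · rw [map_add]
    exact Submodule.add_mem _ ha hb

/-- a linear retract of an adically complete module is adically complete. -/
theorem isAdicComplete_of_retract {A : Type u} [CommRing A] (I : Ideal A) {P D : Type*}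
    [AddCommGroup P] [Module A P] [AddCommGroup D] [Module A D] [IsAdicComplete I D]
    (i : P →ₗ[A] D) (r : D →ₗ[A] P) (hri : ∀ x, r (i x) = x) : IsAdicComplete I P := by
  have hH : IsHausdorff I P := by
    constructor
    intro x hx
    have : i x = 0 := by
      apply IsHausdorff.haus' (I := I)
      intro n
      rw [SModEq.zero]
      have := hx n
      rw [SModEq.zero] at this
      exact map_mem_pow_smul_top I i n x this
    rw [← hri x, this, map_zero]
  have hP : IsPrecomplete I P := by
    constructor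
    intro f hf
    obtain ⟨L, hL⟩ := IsPrecomplete.prec' (I := I) (fun n => i (f n)) (by
      intro a b hab
      rw [SModEq.sub_mem, ← map_sub]
      have := hf hab
      rw [SModEq.sub_mem] at this
      exact map_mem_pow_smul_top I i a _ this)
    refine ⟨r L, fun n => ?_⟩
    rw [SModEq.sub_mem]
    have := hL n
    rw [SModEq.sub_mem] at this
    have h2 := map_mem_pow_smul_top I r n _ this
    rwa [map_sub, hri] at h2
  exact { toIsHausdorff := hH, toIsPrecomplete := hP }

/-- a linear equivalence of modules induces one on decaying functions. -/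
noncomputable def decayingCongr {A : Type u} [CommRing A] (I : Ideal A) (Z : Type v) {M N : Type*}
    [AddCommGroup M] [Module A M] [AddCommGroup N] [Module A N] (e : M ≃ₗ[A] N) :
    decaying I Z M ≃ₗ[A] decaying I Z N where
  toFun g := ⟨fun z => e ((g : Z → M) z), fun n => (g.2 n).subset (fun z hz => by
    simp only [Set.mem_ofPred_eq] at hz ⊢
    intro hmem
    apply hz
    exact map_mem_pow_smul_top I e.toLinearMap n _ hmem)⟩
  invFun g := ⟨fun z => e.symm ((g : Z → N) z), fun n => (g.2 n).subset (fun z hz => by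
    simp only [Set.mem_ofPred_eq] at hz ⊢
    intro hmem
    apply hz
    exact map_mem_pow_smul_top I e.symm.toLinearMap n _ hmem)⟩
  map_add' g h := by
    apply Subtype.ext
    funext z
    exact map_add e _ _
  map_smul' a g := by
    apply Subtype.ext
    funext z
    exact map_smul e _ _
  left_inv g := by
    apply Subtype.ext
    funext z
    exact e.symm_apply_apply _
  right_inv g := by
    apply Subtype.ext
    funext z
    exact e.apply_symm_apply _

/-- the canonical map out of decaying functions determined by a family in a complete module. -/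
theorem exists_map_single {A : Type u} [CommRing A] (I : Ideal A) (Z : Type v) [DecidableEq Z]
    {M : Type*} [AddCommGroup M] [Module A M] [IsAdicComplete I M] (x : Z → M) :
    ∃ φ : decaying I Z A →ₗ[A] M, ∀ (z : Z) (a : A), φ (single I z a) = a • x z := by
  let ψ : Z → A →ₗ[A] M := fun z => LinearMap.toSpanSingleton A M (x z)
  obtain ⟨φ, hφ⟩ := exists_sum_map (I := I) (Z := Z) (M := M) ψ
  refine ⟨φ, fun z a => ?_⟩
  rw [← sub_eq_zero]
  apply IsHausdorff.haus' (I := I)
  intro n
  rw [SModEq.zero]
  obtain ⟨S, h1, h2⟩ := hφ (single I z a) n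
  have hsum : ∑ w ∈ S, ψ w (((single I z a) : Z → A) w) = if z ∈ S then a • x z else 0 := by
    rw [coe_single]
    by_cases hz : z ∈ S
    · rw [if_pos hz, Finset.sum_eq_single z]
      · rw [Pi.single_eq_same]
        rfl
      · intro w _ hwz
        rw [Pi.single_eq_of_ne hwz, map_zero]
      · intro h; exact absurd hz h
    · rw [if_neg hz]
      apply Finset.sum_eq_zero
      intro w hw
      have : w ≠ z := fun h => hz (h ▸ hw)
      rw [Pi.single_eq_of_ne this, map_zero]
  rw [hsum] at h2
  by_cases hz : z ∈ S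
  · rw [if_pos hz] at h2
    exact h2
  · rw [if_neg hz, sub_zero] at h2
    have h3 := h1 z hz
    rw [coe_single, Pi.single_eq_same] at h3
    exact Submodule.sub_mem _ h2 h3

/-- a decaying function differs from a finite sum of singles by an element of `I^n • ⊤`. -/
theorem sub_sum_single_mem {A : Type u} [CommRing A] [IsNoetherianRing A] (I : Ideal A)
    (Z : Type v) [DecidableEq Z] {M : Type*} [AddCommGroup M] [Module A M] [IsHausdorff I M]
    (g : decaying I Z M) (n : ℕ) :
    g - ∑ z ∈ (g.2 n).toFinset, single I z ((g : Z → M) z) ∈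
      (I ^ n • ⊤ : Submodule A (decaying I Z M)) := by
  set S : Finset Z := (g.2 n).toFinset with hS
  rw [mem_pow_smul_top_iff]
  intro w
  have hval : ((g - ∑ z ∈ S, single I z ((g : Z → M) z) : decaying I Z M) : Z → M) w =
      (g : Z → M) w - ∑ z ∈ S, (Pi.single z ((g : Z → M) z) : Z → M) w := by
    show (g : Z → M) w - ((∑ z ∈ S, single I z ((g : Z → M) z) : decaying I Z M) : Z → M) w = _
    congr 1
    rw [Submodule.coe_sum, Finset.sum_apply]
    rfl
  rw [hval]
  by_cases hw : w ∈ S
  · rw [Finset.sum_eq_single w, Pi.single_eq_same, sub_self]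
    · exact Submodule.zero_mem _
    · intro z _ hzw
      exact Pi.single_eq_of_ne hzw.symm _
    · intro h; exact absurd hw h
  · rw [Finset.sum_eq_zero, sub_zero]
    · by_contra hmem
      exact hw ((Set.Finite.mem_toFinset _).mpr hmem)
    · intro z hz
      have : w ≠ z := fun h => hw (h ▸ hz)
      exact Pi.single_eq_of_ne this _

end H8Dec
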