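import Groth.Statements.S17335
import Mathlib

set_option autoImplicit false
universe u v
open CAlg

namespace Groth.Agent.S17335

/-- Let k be an algebraically closed field and A a commutative k-algebra which is finite-dimensional as
a k-vector space, and let E be the set of k-algebra homomorphisms A → k. Then E is finite, and the
evaluation homomorphism A → O(E) = (E → k), a ↦ (f ↦ f(a)), is surjective with kernel the nilradical
of A; it therefore induces an isomorphism of A_red = A/nilradical(A) onto O(E). -/
theorem result (k : Type u) [Field k]
    [IsAlgClosed k] (A : Type v) [CommRing A] [Algebra k A] [Module.Finite k A] :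
    Finite (A →ₐ[k] k) ∧
      Function.Surjective (AlgHom.pi (R := k) (fun f : A →ₐ[k] k => f)) ∧
      RingHom.ker (AlgHom.pi (R := k) (fun f : A →ₐ[k] k => f)) = nilradical A := by
  classical
  have hArt : IsArtinianRing A := IsArtinianRing.of_finite k A
  have hmem : ∀ a : A, a ∈ RingHom.ker (AlgHom.pi (R := k) (fun f : A →ₐ[k] k => f)) ↔
      ∀ f : A →ₐ[k] k, f a = 0 := by
    intro a
    rw [RingHom.mem_ker]
    constructor
    · intro h f
      exact congrFun h f
    · intro h
      funext f
      exact h f
  have hkermax : ∀ f : A →ₐ[k] k, (RingHom.ker f.toRingHom).IsMaximal := by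
    intro f
    exact RingHom.ker_isMaximal_of_surjective f.toRingHom (fun c => ⟨algebraMap k A c, by simp⟩)
  refine ⟨inferInstance, ?_, ?_⟩
  · -- surjectivity by the Chinese remainder theorem
    intro x
    have hne : ∀ f g : A →ₐ[k] k, f ≠ g → RingHom.ker f.toRingHom ≠ RingHom.ker g.toRingHom := by
      intro f g hfg hker
      apply hfg
      apply AlgHom.ext
      intro a
      have h1 : a - algebraMap k A (f a) ∈ RingHom.ker f.toRingHom := by
        rw [RingHom.mem_ker]
        simp
      rw [hker, RingHom.mem_ker] at h1
      have h2 : g a - f a = 0 := by simpa using h1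
      exact (sub_eq_zero.1 h2).symm
    have hcop : Pairwise (Function.onFun IsCoprime
        (fun f : A →ₐ[k] k => RingHom.ker f.toRingHom)) := by
      intro f g hfg
      have := hkermax f
      have := hkermax g
      exact Ideal.isCoprime_of_isMaximal (hne f g hfg)
    obtain ⟨r, hr⟩ := Ideal.pi_quotient_surjective hcop
      (fun f => Ideal.Quotient.mk _ (algebraMap k A (x f)))
    refine ⟨r, ?_⟩
    funext f
    have h1 := hr f
    rw [Ideal.Quotient.eq, RingHom.mem_ker] at h1
    have h2 : f r - x f = 0 := by simpa using h1
    exact sub_eq_zero.1 h2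
  · ext a
    rw [hmem]
    constructor
    · intro h
      rw [nilradical_eq_sInf, Ideal.mem_sInf]
      intro P hP
      have hPprime : P.IsPrime := hP
      have hPmax : P.IsMaximal := (IsArtinianRing.isPrime_iff_isMaximal P).1 hPprime
      let _ : Field (A ⧸ P) := Ideal.Quotient.field P
      have hbij : Function.Bijective (algebraMap k (A ⧸ P)) :=
        IsAlgClosed.algebraMap_bijective_of_isIntegral
      let e : k ≃ₐ[k] (A ⧸ P) := AlgEquiv.ofBijective (Algebra.ofId k (A ⧸ P)) hbij
      let f : A →ₐ[k] k := e.symm.toAlgHom.comp (Ideal.Quotient.mkₐ k P)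
      have hf := h f
      have h1 : e.symm (Ideal.Quotient.mk P a) = 0 := hf
      have h2 : Ideal.Quotient.mk P a = 0 := by
        have := congrArg e h1
        simpa using this
      exact Ideal.Quotient.eq_zero_iff_mem.1 h2
    · intro h f
      have hnil : IsNilpotent a := h
      exact (hnil.map f).eq_zero

end Groth.Agent.S17335
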