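import Mathlib
import Groth.Agent.S17335
import Groth.Agent.S17336

set_option autoImplicit false
universe u v

namespace Groth.Agent.H8FinAlg

/-- A reduced finite algebra over an algebraically closed field is formally étale. -/
theorem formallyEtale_of_isReduced (k : Type u) [Field k] [IsAlgClosed k]
    (A : Type v) [CommRing A] [Algebra k A] [Module.Finite k A] [IsReduced A] :
    Algebra.FormallyEtale k A := by
  classical
  obtain ⟨hfin, hsurj, hker⟩ := Groth.Agent.S17335.result k A
  have hinj : Function.Injective (AlgHom.pi (R := k) (fun f : A →ₐ[k] k => f)) := by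
    rw [injective_iff_map_eq_zero]
    intro a ha
    have : a ∈ nilradical A := by rw [← hker]; exact ha
    rw [nilradical_eq_zero, Ideal.zero_eq_bot, Ideal.mem_bot] at this
    exact this
  exact Algebra.FormallyEtale.of_equiv (AlgEquiv.ofBijective _ ⟨hinj, hsurj⟩).symm

theorem isNilpotent_ker_mk (k : Type u) [Field k]
    (A : Type v) [CommRing A] [Algebra k A] [Module.Finite k A] :
    IsNilpotent (RingHom.ker
      ((Ideal.Quotient.mkₐ k (nilradical A) : A →ₐ[k] A ⧸ nilradical A) :
        A →+* A ⧸ nilradical A)) := by
  have hNoeth : IsNoetherianRing A := IsNoetherianRing.of_finite k A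
  have : RingHom.ker ((Ideal.Quotient.mkₐ k (nilradical A) : A →ₐ[k] A ⧸ nilradical A) :
      A →+* A ⧸ nilradical A) = nilradical A := by
    ext x
    simp
  rw [this]
  exact IsNoetherianRing.isNilpotent_nilradical A

end Groth.Agent.H8FinAlg
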