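import Mathlib

/-!
Helper lemmas on flatness (helper8).
-/

set_option autoImplicit false

namespace Groth.Agent.H8Flat

open TensorProduct

universe u v₁ v₂ v₃ v₄ v₅ v₆

variable {R : Type u} [CommRing R]

/-- Diagram chase: rows `S → P → X → 0` and columns `K → M → N → 0`. -/
theorem chase
    {K : Type v₁} {M : Type v₂} {N : Type v₃} [AddCommGroup K] [Module R K] [AddCommGroup M]
    [Module R M] [AddCommGroup N] [Module R N]
    (i : K →ₗ[R] M) (p : M →ₗ[R] N)
    (hex : Function.Exact i p) (hp : Function.Surjective p)
    {S : Type v₄} {P : Type v₅} {X : Type v₆} [AddCommGroup S] [Module R S] [AddCommGroup P]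
    [Module R P] [AddCommGroup X] [Module R X]
    (j : S →ₗ[R] P) (π : P →ₗ[R] X) (hjπ : Function.Exact j π) (hπ : Function.Surjective π)
    (injP : Function.Injective (i.lTensor P)) (injN : Function.Injective (j.rTensor N)) :
    Function.Injective (i.lTensor X) := by
  have exM : Function.Exact (j.rTensor M) (π.rTensor M) := rTensor_exact M hjπ hπ
  have exK : Function.Exact (j.rTensor K) (π.rTensor K) := rTensor_exact K hjπ hπ
  have exS : Function.Exact (i.lTensor S) (p.lTensor S) := lTensor_exact S hex hp
  have surjK : Function.Surjective (π.rTensor K) := LinearMap.rTensor_surjective K hπ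
  have c1 : ∀ y, (i.lTensor X) ((π.rTensor K) y) = (π.rTensor M) ((i.lTensor P) y) := by
    intro y
    rw [← LinearMap.comp_apply, ← LinearMap.comp_apply, LinearMap.lTensor_comp_rTensor,
      LinearMap.rTensor_comp_lTensor]
  have c2 : ∀ z, (p.lTensor P) ((j.rTensor M) z) = (j.rTensor N) ((p.lTensor S) z) := by
    intro z
    rw [← LinearMap.comp_apply, ← LinearMap.comp_apply, LinearMap.lTensor_comp_rTensor,
      LinearMap.rTensor_comp_lTensor]
  have c3 : ∀ w, (i.lTensor P) ((j.rTensor K) w) = (j.rTensor M) ((i.lTensor S) w) := by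
    intro w
    rw [← LinearMap.comp_apply, ← LinearMap.comp_apply, LinearMap.lTensor_comp_rTensor,
      LinearMap.rTensor_comp_lTensor]
  have hpi : p ∘ₗ i = 0 := by
    ext k
    exact (hex (i k)).mpr ⟨k, rfl⟩
  have c4 : ∀ y, (p.lTensor P) ((i.lTensor P) y) = 0 := by
    intro y
    rw [← LinearMap.comp_apply, ← LinearMap.lTensor_comp, hpi, LinearMap.lTensor_zero,
      LinearMap.zero_apply]
  rw [injective_iff_map_eq_zero]
  intro x hx
  obtain ⟨y, rfl⟩ := surjK x
  rw [c1] at hx
  obtain ⟨z, hz⟩ := (exM _).mp hx
  have hz2 : (p.lTensor S) z = 0 := by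
    apply injN
    rw [← c2, hz, c4, map_zero]
  obtain ⟨w, hw⟩ := (exS _).mp hz2
  have hy : (j.rTensor K) w = y := by
    apply injP
    rw [c3, hw, hz]
  rw [← hy]
  exact (exK _).mpr ⟨w, rfl⟩

/-- If `0 → K → M → N → 0` is exact and `N` is flat, then `X ⊗ K → X ⊗ M` is injective for every
module `X`. -/
theorem lTensor_injective_of_flat_quotient
    {K : Type v₁} {M : Type v₂} {N : Type v₃} [AddCommGroup K] [Module R K] [AddCommGroup M]
    [Module R M] [AddCommGroup N] [Module R N] [Module.Flat R N]
    (i : K →ₗ[R] M) (p : M →ₗ[R] N) (hi : Function.Injective i)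
    (hex : Function.Exact i p) (hp : Function.Surjective p)
    (X : Type v₆) [AddCommGroup X] [Module R X] :
    Function.Injective (i.lTensor X) := by
  classical
  have hπ : Function.Surjective (Finsupp.linearCombination R (id : X → X)) := by
    intro x
    exact ⟨Finsupp.single x 1, by simp [Finsupp.linearCombination_single]⟩
  have hjπ : Function.Exact (LinearMap.ker (Finsupp.linearCombination R (id : X → X))).subtype
      (Finsupp.linearCombination R (id : X → X)) := by
    intro y
    constructor
    · intro hy
      exact ⟨⟨y, hy⟩, rfl⟩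
    · rintro ⟨z, rfl⟩
      exact z.2
  exact chase i p hex hp _ _ hjπ hπ
    (Module.Flat.lTensor_preserves_injective_linearMap i hi)
    (Module.Flat.rTensor_preserves_injective_linearMap _ (Submodule.injective_subtype _))

/-- Kernel of a surjection of flat modules onto a flat module is flat. -/
theorem flat_of_exact
    {K : Type v₁} {M : Type v₂} {N : Type v₃} [AddCommGroup K] [Module R K] [AddCommGroup M]
    [Module R M] [AddCommGroup N] [Module R N] [Module.Flat R M] [Module.Flat R N]
    (i : K →ₗ[R] M) (p : M →ₗ[R] N) (hi : Function.Injective i)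
    (hex : Function.Exact i p) (hp : Function.Surjective p) :
    Module.Flat R K := by
  rw [Module.Flat.iff_lTensor_preserves_injective_linearMap]
  intro T Q _ _ _ _ f hf
  have h1 : Function.Injective (i.rTensor T) := by
    have := lTensor_injective_of_flat_quotient i p hi hex hp T
    rwa [LinearMap.lTensor_inj_iff_rTensor_inj] at this
  have h2 : Function.Injective (f.lTensor M) :=
    Module.Flat.lTensor_preserves_injective_linearMap _ hf
  have h3 : (i.rTensor Q) ∘ₗ (f.lTensor K) = (f.lTensor M) ∘ₗ (i.rTensor T) := by
    rw [LinearMap.rTensor_comp_lTensor, LinearMap.lTensor_comp_rTensor]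
  have h4 : Function.Injective ((i.rTensor Q) ∘ₗ (f.lTensor K)) := by
    rw [h3]
    exact h2.comp h1
  exact Function.Injective.of_comp h4

/-- Product of flat modules is flat. -/
theorem flat_prod
    {M : Type v₂} {N : Type v₃} [AddCommGroup M] [Module R M] [AddCommGroup N] [Module R N]
    [Module.Flat R M] [Module.Flat R N] : Module.Flat R (M × N) := by
  rw [Module.Flat.iff_lTensor_preserves_injective_linearMap]
  intro T Q _ _ _ _ f hf
  have h1 : Function.Injective (f.lTensor M) :=
    Module.Flat.lTensor_preserves_injective_linearMap _ hf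
  have h2 : Function.Injective (f.lTensor N) :=
    Module.Flat.lTensor_preserves_injective_linearMap _ hf
  have hcomm : (TensorProduct.prodLeft R R M N Q).toLinearMap ∘ₗ (f.lTensor (M × N)) =
      (LinearMap.prodMap (f.lTensor M) (f.lTensor N)) ∘ₗ
        (TensorProduct.prodLeft R R M N T).toLinearMap := by
    apply TensorProduct.ext'
    rintro ⟨m, n⟩ t
    simp
  have h3 : Function.Injective ((TensorProduct.prodLeft R R M N Q).toLinearMap ∘ₗ
      (f.lTensor (M × N))) := by
    rw [hcomm]
    exact (Function.Injective.prodMap h1 h2).comp (TensorProduct.prodLeft R R M N T).injective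
  rw [LinearMap.coe_comp] at h3
  exact Function.Injective.of_comp h3

end Groth.Agent.H8Flat
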