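import Mathlib

set_option autoImplicit false

namespace Groth.Agent.H8FwdDiff

open Finset Function

variable {A : Type*} [CommRing A] (h : A)

theorem fwdDiff_pow (j : ℕ) : fwdDiff h (fun r : A => r ^ j) =
    ∑ i ∈ range j, ((j.choose i : A) * h ^ (j - i)) • fun r : A => r ^ i := by
  ext x
  simp only [fwdDiff, add_pow, sum_range_succ, Nat.sub_self, pow_zero, mul_one, Nat.choose_self,
    Nat.cast_one, add_sub_cancel_right, Finset.sum_apply, Pi.smul_apply, smul_eq_mul]
  apply sum_congr rfl
  intro i _
  ring

theorem iter_pow_lt {j n : ℕ} (hjn : j < n) : (fwdDiff h)^[n] (fun r : A => r ^ j) = 0 := by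
  induction n generalizing j with
  | zero => omega
  | succ n ih =>
    rw [iterate_succ_apply, fwdDiff_pow, fwdDiff_iter_finsetSum]
    apply sum_eq_zero
    intro i hi
    rw [fwdDiff_iter_const_smul, ih (by have := mem_range.1 hi; omega), smul_zero]

theorem iter_pow_self (n : ℕ) : (fwdDiff h)^[n] (fun r : A => r ^ n) =
    fun _ => (n.factorial : A) * h ^ n := by
  induction n with
  | zero => ext; simp
  | succ n ih =>
    rw [iterate_succ_apply, fwdDiff_pow, fwdDiff_iter_finsetSum, sum_range_succ]
    rw [sum_eq_zero (fun i hi => by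
      rw [fwdDiff_iter_const_smul, iter_pow_lt h (mem_range.1 hi), smul_zero]), zero_add,
      fwdDiff_iter_const_smul, ih]
    ext x
    simp only [Pi.smul_apply, smul_eq_mul, Nat.choose_succ_self_right, Nat.factorial_succ]
    have : n + 1 - n = 1 := by omega
    rw [this]
    push_cast
    ring

theorem choose_two_rec (n : ℕ) : (n + 2).choose 2 * (n + 1).factorial =
    (n + 2) * ((n + 1).choose 2 * n.factorial) + (n + 2).choose 2 * n.factorial := by
  have h1 : (n + 2).choose 2 * 2 = (n + 2) * (n + 1) := by
    have := Nat.add_one_mul_choose_eq (n + 1) 1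
    simp only [Nat.choose_one_right] at this
    have e : (n + 1 + 1).choose (1 + 1) = (n + 2).choose 2 := rfl
    rw [e] at this
    rw [← this]
  have h2 : (n + 1).choose 2 * 2 = (n + 1) * n := by
    have := Nat.add_one_mul_choose_eq n 1
    simp only [Nat.choose_one_right] at this
    have e : (n + 1).choose (1 + 1) = (n + 1).choose 2 := rfl
    rw [e] at this
    rw [← this]
  have h3 : (n + 2).choose 2 * (n + 1) = (n + 2) * (n + 1).choose 2 + (n + 2).choose 2 := by
    apply Nat.eq_of_mul_eq_mul_right (by norm_num : 0 < 2)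
    calc (n + 2).choose 2 * (n + 1) * 2 = ((n + 2).choose 2 * 2) * (n + 1) := by ring
      _ = (n + 2) * (n + 1) * (n + 1) := by rw [h1]
      _ = (n + 2) * ((n + 1) * n) + (n + 2) * (n + 1) := by ring
      _ = (n + 2) * ((n + 1).choose 2 * 2) + (n + 2).choose 2 * 2 := by rw [h2, h1]
      _ = ((n + 2) * (n + 1).choose 2 + (n + 2).choose 2) * 2 := by ring
  calc (n + 2).choose 2 * (n + 1).factorial = ((n + 2).choose 2 * (n + 1)) * n.factorial := by
        rw [Nat.factorial_succ]; ring
    _ = _ := by rw [h3]; ring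

theorem iter_pow_succ (n : ℕ) : (fwdDiff h)^[n] (fun r : A => r ^ (n + 1)) =
    fun t => ((n + 1).factorial : A) * h ^ n * t +
      (((n + 1).choose 2 * n.factorial : ℕ) : A) * h ^ (n + 1) := by
  induction n with
  | zero => ext; simp
  | succ n ih =>
    rw [iterate_succ_apply, fwdDiff_pow, fwdDiff_iter_finsetSum, sum_range_succ, sum_range_succ]
    rw [sum_eq_zero (fun i hi => by
      rw [fwdDiff_iter_const_smul, iter_pow_lt h (mem_range.1 hi), smul_zero]), zero_add,
      fwdDiff_iter_const_smul, fwdDiff_iter_const_smul, ih, iter_pow_self]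
    ext t
    simp only [Pi.add_apply, Pi.smul_apply, smul_eq_mul]
    have e1 : n + 1 + 1 - n = 2 := by omega
    have e2 : n + 1 + 1 - (n + 1) = 1 := by omega
    have e3 : (n + 1 + 1).choose n = (n + 2).choose 2 := by
      rw [show n + 1 + 1 = n + 2 by ring]
      exact Nat.choose_symm_add
    have e4 : (n + 1 + 1).choose (n + 1) = n + 2 := by
      rw [Nat.choose_succ_self_right]
    rw [e1, e2, e3, e4]
    have hrec := congrArg (Nat.cast (R := A)) (choose_two_rec n)
    have hfac : ((n + 1 + 1).factorial : A) = ((n + 2 : ℕ) : A) * ((n + 1).factorial : A) := by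
      rw [show n + 1 + 1 = (n + 1) + 1 by ring, Nat.factorial_succ]
      push_cast
      ring
    rw [hfac]
    push_cast at hrec ⊢
    linear_combination (-(h ^ (n + 2))) * hrec

end Groth.Agent.H8FwdDiff
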