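import Mathlib
import Groth.Prelude.Def_Isoc

set_option autoImplicit false
set_option linter.unusedSectionVars false

open scoped Pointwise Isocrystal

universe u v

namespace H8Isoc

variable {p : ℕ} [Fact p.Prime] {k : Type u} [Field k] [CharP k p]
variable {N : Type v} [AddCommGroup N] [Module (WittVector p k) N] [Module K(p, k) N]
  [IsScalarTower (WittVector p k) K(p, k) N]
variable {τ : K(p, k) →+* K(p, k)}

theorem mem_pPow (r : ℤ) (M : Submodule (WittVector p k) N) (x : N) :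
    x ∈ Isoc.pPow r M ↔ ∃ m ∈ M, ((p : K(p, k)) ^ r) • m = x :=
  Submodule.mem_smul_pointwise_iff_exists x _ M

theorem latImg_def (F : N →ₛₗ[τ] N) (s : ℕ) (M : Submodule (WittVector p k) N) :
    Isoc.latImg F s M = Submodule.span (WittVector p k) ((⇑F)^[s] '' (M : Set N)) := rfl

section Quot

variable (P : Submodule K(p, k) N) (F : N →ₛₗ[τ] N) (hP : P ≤ P.comap F)

theorem mapQ_iterate (s : ℕ) (x : N) :
    (⇑(P.mapQ P F hP))^[s] (P.mkQ x) = P.mkQ ((⇑F)^[s] x) := by
  induction s generalizing x with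
  | zero => rfl
  | succ s ih =>
    rw [Function.iterate_succ_apply, Function.iterate_succ_apply, ← ih]
    rfl

/-- the image lattice in the quotient -/
noncomputable def imgQ (M : Submodule (WittVector p k) N) : Submodule (WittVector p k) (N ⧸ P) :=
  M.map (P.mkQ.restrictScalars (WittVector p k))

theorem imgQ_lattice (M : Submodule (WittVector p k) N) (hM : M.IsLattice K(p, k)) :
    (imgQ P M).IsLattice K(p, k) := by
  constructor
  · exact hM.fg.map _
  · have h1 : ((imgQ P M : Submodule (WittVector p k) (N ⧸ P)) : Set (N ⧸ P)) =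
        P.mkQ '' (M : Set N) := rfl
    rw [h1, ← Submodule.map_span, hM.span_eq_top, Submodule.map_top, Submodule.range_mkQ]

theorem imgQ_pPow (r : ℤ) (M : Submodule (WittVector p k) N) :
    imgQ P (Isoc.pPow r M) = Isoc.pPow r (imgQ P M) := by
  ext y
  constructor
  · rintro ⟨x, hx, rfl⟩
    obtain ⟨m, hm, rfl⟩ := (mem_pPow r M x).mp hx
    refine (mem_pPow r _ _).mpr ⟨P.mkQ m, ⟨m, hm, rfl⟩, ?_⟩
    simp
  · intro hy
    obtain ⟨z, ⟨m, hm, rfl⟩, rfl⟩ := (mem_pPow r _ _).mp hy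
    refine ⟨((p : K(p, k)) ^ r) • m, (mem_pPow r M _).mpr ⟨m, hm, rfl⟩, ?_⟩
    simp

theorem imgQ_latImg (s : ℕ) (M : Submodule (WittVector p k) N) :
    imgQ P (Isoc.latImg F s M) = Isoc.latImg (P.mapQ P F hP) s (imgQ P M) := by
  rw [latImg_def, latImg_def, imgQ, Submodule.map_span]
  congr 1
  ext y
  constructor
  · rintro ⟨_, ⟨m, hm, rfl⟩, rfl⟩
    refine ⟨P.mkQ m, ⟨m, hm, rfl⟩, ?_⟩
    rw [mapQ_iterate]; rfl
  · rintro ⟨_, ⟨m, hm, rfl⟩, rfl⟩
    refine ⟨(⇑F)^[s] m, ⟨m, hm, rfl⟩, ?_⟩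
    exact (mapQ_iterate P F hP s m).symm

theorem isoclinic_quot (μ : ℚ) (hμ : Isoc.IsIsoclinic F μ) :
    Isoc.IsIsoclinic (P.mapQ P F hP) μ := by
  obtain ⟨M, hM, r, s, hs, hrs, h⟩ := hμ
  refine ⟨imgQ P M, imgQ_lattice P M hM, r, s, hs, hrs, ?_⟩
  rw [← imgQ_latImg, h, imgQ_pPow]

end Quot

section Base

variable [PerfectRing k p]

theorem p_ne : (p : K(p, k)) ≠ 0 := WittVector.FractionRing.p_nonzero p k

theorem algebraMap_p : algebraMap (WittVector p k) K(p, k) (p : WittVector p k) = (p : K(p, k)) :=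
  map_natCast _ p

/-- every element of `L` becomes integral after multiplying by a power of `p` -/
theorem exists_pow_mul_mem (c : K(p, k)) :
    ∃ (n : ℕ) (w : WittVector p k), (p : K(p, k)) ^ n * c = algebraMap _ _ w := by
  obtain ⟨a, b, hb, rfl⟩ := IsFractionRing.div_surjective (A := WittVector p k) c
  have hb0 : b ≠ 0 := nonZeroDivisors.ne_zero hb
  obtain ⟨m, u, rfl⟩ := WittVector.exists_eq_pow_p_mul' b hb0
  refine ⟨m, a * ((u⁻¹ : (WittVector p k)ˣ) : WittVector p k), ?_⟩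
  have hu : algebraMap (WittVector p k) K(p, k) (u : WittVector p k) ≠ 0 := by
    intro h
    have := (IsFractionRing.injective (WittVector p k) K(p, k)) (h.trans (map_zero _).symm)
    exact u.ne_zero this
  have hinv : algebraMap (WittVector p k) K(p, k) ((u⁻¹ : (WittVector p k)ˣ) : WittVector p k) =
      (algebraMap (WittVector p k) K(p, k) (u : WittVector p k))⁻¹ := by
    apply eq_inv_of_mul_eq_one_left
    rw [← map_mul]
    simp
  rw [map_mul, map_mul, map_pow, algebraMap_p, hinv]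
  have hp := p_ne (p := p) (k := k)
  field_simp

theorem frob_p (a : ℤ) : Isoc.frob p k a (p : K(p, k)) = p := map_natCast _ p

theorem frob_zpow_p (a : ℤ) (r : ℤ) : Isoc.frob p k a ((p : K(p, k)) ^ r) = (p : K(p, k)) ^ r := by
  rw [map_zpow₀, frob_p]

theorem frob_bijective (a : ℤ) : Function.Bijective (Isoc.frob p k a) :=
  (IsFractionRing.ringEquivOfRingEquiv (K := K(p, k)) (L := K(p, k))
    (WittVector.frobeniusEquiv p k ^ a)).bijective

theorem frob_surj_W (a : ℤ) (w : WittVector p k) :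
    ∃ w' : WittVector p k, Isoc.frob p k a (algebraMap _ _ w') = algebraMap _ _ w := by
  refine ⟨(WittVector.frobeniusEquiv p k ^ a).symm w, ?_⟩
  rw [Isoc.frob_algebraMap, RingEquiv.apply_symm_apply]

theorem frob_pow_surj_W (a : ℤ) (s : ℕ) (w : WittVector p k) :
    ∃ w' : WittVector p k, (Isoc.frob p k a ^ s) (algebraMap _ _ w') = algebraMap _ _ w := by
  induction s generalizing w with
  | zero => exact ⟨w, rfl⟩
  | succ s ih =>
    obtain ⟨w₁, h₁⟩ := frob_surj_W a w
    obtain ⟨w₂, h₂⟩ := ih w₁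
    refine ⟨w₂, ?_⟩
    rw [pow_succ', RingHom.mul_def, RingHom.comp_apply, h₂, h₁]

theorem frob_pow_zpow_p (a : ℤ) (s : ℕ) (r : ℤ) :
    (Isoc.frob p k a ^ s) ((p : K(p, k)) ^ r) = (p : K(p, k)) ^ r := by
  induction s with
  | zero => rfl
  | succ s ih => rw [pow_succ', RingHom.mul_def, RingHom.comp_apply, ih, frob_zpow_p]

end Base

section PPow

variable [PerfectRing k p]

theorem pPow_zero (M : Submodule (WittVector p k) N) : Isoc.pPow 0 M = M := by
  rw [Isoc.pPow, zpow_zero, one_smul]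

theorem pPow_add (r s : ℤ) (M : Submodule (WittVector p k) N) :
    Isoc.pPow (r + s) M = Isoc.pPow r (Isoc.pPow s M) := by
  rw [Isoc.pPow, Isoc.pPow, Isoc.pPow, zpow_add₀ p_ne, mul_smul]

theorem pPow_mono (r : ℤ) {M M' : Submodule (WittVector p k) N} (h : M ≤ M') :
    Isoc.pPow r M ≤ Isoc.pPow r M' := by
  intro x hx
  obtain ⟨m, hm, rfl⟩ := (mem_pPow r M x).mp hx
  exact (mem_pPow r M' _).mpr ⟨m, h hm, rfl⟩

theorem pPow_le_iff (r : ℤ) {M M' : Submodule (WittVector p k) N} :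
    Isoc.pPow r M ≤ Isoc.pPow r M' ↔ M ≤ M' := by
  constructor
  · intro h
    have := pPow_mono (-r) h
    rwa [← pPow_add, ← pPow_add, neg_add_cancel, pPow_zero, pPow_zero] at this
  · exact pPow_mono r

theorem pPow_nat_le (n : ℕ) (M : Submodule (WittVector p k) N) : Isoc.pPow n M ≤ M := by
  intro x hx
  obtain ⟨m, hm, rfl⟩ := (mem_pPow n M x).mp hx
  have : ((p : K(p, k)) ^ (n : ℤ)) • m = ((p : WittVector p k) ^ n) • m := by
    rw [zpow_natCast, ← algebraMap_p, ← map_pow, algebraMap_smul]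
  rw [this]
  exact M.smul_mem _ hm

theorem pPow_anti {r r' : ℤ} (h : r ≤ r') (M : Submodule (WittVector p k) N) :
    Isoc.pPow r' M ≤ Isoc.pPow r M := by
  obtain ⟨n, hn⟩ := Int.eq_ofNat_of_zero_le (sub_nonneg.mpr h)
  have : r' = r + n := by omega
  rw [this, pPow_add]
  exact pPow_mono r (pPow_nat_le n M)

theorem mem_pPow' (r : ℤ) (M : Submodule (WittVector p k) N) (x : N) :
    x ∈ Isoc.pPow r M ↔ ((p : K(p, k)) ^ (-r)) • x ∈ M := by
  rw [mem_pPow]
  constructor
  · rintro ⟨m, hm, rfl⟩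
    rw [smul_smul, ← zpow_add₀ p_ne, neg_add_cancel, zpow_zero, one_smul]
    exact hm
  · intro h
    refine ⟨_, h, ?_⟩
    rw [smul_smul, ← zpow_add₀ p_ne, add_neg_cancel, zpow_zero, one_smul]

theorem smul_mem_pPow (r : ℤ) (M : Submodule (WittVector p k) N) {x : N} (hx : x ∈ M) :
    ((p : K(p, k)) ^ r) • x ∈ Isoc.pPow r M :=
  (mem_pPow r M _).mpr ⟨x, hx, rfl⟩

theorem pPow_fg (r : ℤ) {M : Submodule (WittVector p k) N} (hM : M.FG) : (Isoc.pPow r M).FG :=
  hM.map _

theorem pPow_eq_bot_iff (r : ℤ) {M : Submodule (WittVector p k) N} :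
    Isoc.pPow r M = ⊥ ↔ M = ⊥ := by
  constructor
  · intro h
    have := congrArg (Isoc.pPow (-r)) h
    rw [← pPow_add, neg_add_cancel, pPow_zero] at this
    rw [this, Isoc.pPow, Submodule.smul_bot']
  · rintro rfl
    rw [Isoc.pPow, Submodule.smul_bot']

end PPow

section LatImg

variable [PerfectRing k p] {a : ℤ} (F : N →ₛₗ[Isoc.frob p k a] N)

theorem iterate_smul (s : ℕ) (c : K(p, k)) (x : N) :
    (⇑F)^[s] (c • x) = ((Isoc.frob p k a ^ s) c) • (⇑F)^[s] x := by
  exact (Isoc.iter F s).map_smulₛₗ c x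

theorem iterate_add (s : ℕ) (x y : N) : (⇑F)^[s] (x + y) = (⇑F)^[s] x + (⇑F)^[s] y := by
  exact (Isoc.iter F s).map_add x y

theorem iterate_zero (s : ℕ) : (⇑F)^[s] (0 : N) = 0 := by
  exact (Isoc.iter F s).map_zero

theorem iterate_pow_smul (s : ℕ) (r : ℤ) (x : N) :
    (⇑F)^[s] (((p : K(p, k)) ^ r) • x) = ((p : K(p, k)) ^ r) • (⇑F)^[s] x := by
  rw [iterate_smul, frob_pow_zpow_p]

theorem mem_latImg (s : ℕ) (M : Submodule (WittVector p k) N) (y : N) :
    y ∈ Isoc.latImg F s M ↔ ∃ m ∈ M, (⇑F)^[s] m = y := by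
  constructor
  · intro hy
    rw [latImg_def] at hy
    induction hy using Submodule.span_induction with
    | mem y hy => exact hy
    | zero => exact ⟨0, M.zero_mem, iterate_zero F s⟩
    | add y z _ _ hy hz =>
      obtain ⟨m, hm, rfl⟩ := hy
      obtain ⟨m', hm', rfl⟩ := hz
      exact ⟨m + m', M.add_mem hm hm', iterate_add F s m m'⟩
    | smul w y _ hy =>
      obtain ⟨m, hm, rfl⟩ := hy
      obtain ⟨w', hw'⟩ := frob_pow_surj_W (p := p) (k := k) a s w
      refine ⟨w' • m, M.smul_mem _ hm, ?_⟩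
      rw [← algebraMap_smul K(p, k) w' m, iterate_smul, hw', algebraMap_smul]
  · rintro ⟨m, hm, rfl⟩
    exact Submodule.subset_span ⟨m, hm, rfl⟩

theorem latImg_mono (s : ℕ) {M M' : Submodule (WittVector p k) N} (h : M ≤ M') :
    Isoc.latImg F s M ≤ Isoc.latImg F s M' := by
  intro y hy
  obtain ⟨m, hm, rfl⟩ := (mem_latImg F s M y).mp hy
  exact (mem_latImg F s M' _).mpr ⟨m, h hm, rfl⟩

theorem latImg_pPow (s : ℕ) (r : ℤ) (M : Submodule (WittVector p k) N) :
    Isoc.latImg F s (Isoc.pPow r M) = Isoc.pPow r (Isoc.latImg F s M) := by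
  ext y
  rw [mem_latImg, mem_pPow]
  constructor
  · rintro ⟨x, hx, rfl⟩
    obtain ⟨m, hm, rfl⟩ := (mem_pPow r M x).mp hx
    exact ⟨(⇑F)^[s] m, (mem_latImg F s M _).mpr ⟨m, hm, rfl⟩, (iterate_pow_smul F s r m).symm⟩
  · rintro ⟨z, hz, rfl⟩
    obtain ⟨m, hm, rfl⟩ := (mem_latImg F s M z).mp hz
    exact ⟨((p : K(p, k)) ^ r) • m, smul_mem_pPow r M hm, iterate_pow_smul F s r m⟩

theorem latImg_add (s t : ℕ) (M : Submodule (WittVector p k) N) :
    Isoc.latImg F (s + t) M = Isoc.latImg F s (Isoc.latImg F t M) := by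
  ext y
  rw [mem_latImg, mem_latImg]
  constructor
  · rintro ⟨m, hm, rfl⟩
    exact ⟨(⇑F)^[t] m, (mem_latImg F t M _).mpr ⟨m, hm, rfl⟩, (Function.iterate_add_apply _ s t m).symm⟩
  · rintro ⟨z, hz, rfl⟩
    obtain ⟨m, hm, rfl⟩ := (mem_latImg F t M z).mp hz
    exact ⟨m, hm, Function.iterate_add_apply _ s t m⟩

theorem latImg_zero (M : Submodule (WittVector p k) N) : Isoc.latImg F 0 M = M := by
  ext y
  rw [mem_latImg]
  simp

theorem latImg_fg (s : ℕ) {M : Submodule (WittVector p k) N} (hM : M.FG) :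
    (Isoc.latImg F s M).FG := by
  obtain ⟨S, hS⟩ := hM
  classical
  refine ⟨S.image (⇑F)^[s], ?_⟩
  apply le_antisymm
  · rw [Submodule.span_le]
    intro y hy
    simp only [Finset.coe_image, Set.mem_image] at hy
    obtain ⟨x, hx, rfl⟩ := hy
    exact (mem_latImg F s M _).mpr ⟨x, hS ▸ Submodule.subset_span hx, rfl⟩
  · have hW : ∀ w : WittVector p k, ∃ w'' : WittVector p k,
        (Isoc.frob p k a ^ s) (algebraMap _ _ w) = algebraMap _ _ w'' := by
      induction s with
      | zero => exact fun w => ⟨w, rfl⟩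
      | succ s ih =>
        intro w
        obtain ⟨w₁, h₁⟩ := ih w
        refine ⟨(WittVector.frobeniusEquiv p k ^ a) w₁, ?_⟩
        rw [pow_succ', RingHom.mul_def, RingHom.comp_apply, h₁, Isoc.frob_algebraMap]
    intro y hy
    obtain ⟨m, hm, rfl⟩ := (mem_latImg F s M y).mp hy
    clear hy
    rw [← hS] at hm
    induction hm using Submodule.span_induction with
    | mem x hx =>
      apply Submodule.subset_span
      simp only [Finset.coe_image, Set.mem_image]
      exact ⟨x, hx, rfl⟩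
    | zero => rw [iterate_zero]; exact Submodule.zero_mem _
    | add x z _ _ hx hz => rw [iterate_add]; exact Submodule.add_mem _ hx hz
    | smul w x _ hx =>
      rw [← algebraMap_smul K(p, k) w x, iterate_smul]
      obtain ⟨w'', hw''⟩ := hW w
      rw [hw'', algebraMap_smul]
      exact Submodule.smul_mem _ _ hx

end LatImg

section Lattice

variable [PerfectRing k p]

theorem natPow_smul_mem (n : ℕ) (M : Submodule (WittVector p k) N) {x : N} (hx : x ∈ M) :
    ((p : K(p, k)) ^ n) • x ∈ M := by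
  have : ((p : K(p, k)) ^ n) • x = ((p : WittVector p k) ^ n) • x := by
    rw [← algebraMap_p, ← map_pow, algebraMap_smul]
  rw [this]
  exact M.smul_mem _ hx

theorem exists_pow_smul_mem {M : Submodule (WittVector p k) N} (hM : M.IsLattice K(p, k)) (x : N) :
    ∃ n : ℕ, ((p : K(p, k)) ^ n) • x ∈ M := by
  have hx : x ∈ Submodule.span K(p, k) (M : Set N) := by
    rw [hM.span_eq_top]; exact Submodule.mem_top
  induction hx using Submodule.span_induction with
  | mem x hx => exact ⟨0, by simpa using hx⟩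
  | zero => exact ⟨0, by simp⟩
  | add x y _ _ hx hy =>
    obtain ⟨n₁, h₁⟩ := hx
    obtain ⟨n₂, h₂⟩ := hy
    refine ⟨n₁ + n₂, ?_⟩
    rw [smul_add]
    apply M.add_mem
    · rw [pow_add, mul_comm, mul_smul]; exact natPow_smul_mem n₂ M h₁
    · rw [pow_add, mul_smul]; exact natPow_smul_mem n₁ M h₂
  | smul c x _ hx =>
    obtain ⟨n, hn⟩ := hx
    obtain ⟨j, w, hw⟩ := exists_pow_mul_mem (p := p) (k := k) c
    refine ⟨j + n, ?_⟩
    have : ((p : K(p, k)) ^ (j + n)) • c • x = w • (((p : K(p, k)) ^ n) • x) := by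
      rw [← algebraMap_smul K(p, k) w, ← hw, smul_smul, smul_smul, pow_add]
      congr 1; ring
    rw [this]
    exact M.smul_mem _ hn

theorem exists_le_pPow_neg {M₁ M₂ : Submodule (WittVector p k) N} (hM₁ : M₁.FG)
    (hM₂ : M₂.IsLattice K(p, k)) : ∃ c : ℕ, M₁ ≤ Isoc.pPow (-(c : ℤ)) M₂ := by
  induction M₁, hM₁ using Submodule.fg_induction with
  | singleton x =>
    obtain ⟨n, hn⟩ := exists_pow_smul_mem hM₂ x
    refine ⟨n, ?_⟩
    rw [Submodule.span_le, Set.singleton_subset_iff, SetLike.mem_coe, mem_pPow', neg_neg,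
      zpow_natCast]
    exact hn
  | sup M₁ M₂' _ _ h₁ h₂ =>
    obtain ⟨c₁, h₁⟩ := h₁
    obtain ⟨c₂, h₂⟩ := h₂
    refine ⟨max c₁ c₂, sup_le (h₁.trans ?_) (h₂.trans ?_)⟩
    · apply pPow_anti; simp
    · apply pPow_anti; simp

theorem sep {M : Submodule (WittVector p k) N} (hM : M.FG) {x : N}
    (hx : ∀ n : ℕ, x ∈ Isoc.pPow n M) : x = 0 := by
  have : Module.Finite (WittVector p k) M := Module.Finite.iff_fg.mpr hM
  have hxM : x ∈ M := by simpa [pPow_zero] using hx 0
  have hI : (Ideal.span {(p : WittVector p k)}) ≠ ⊤ := by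
    rw [Ne, Ideal.span_singleton_eq_top]
    exact (WittVector.irreducible p).not_isUnit
  have hK := Ideal.iInf_pow_smul_eq_bot_of_isLocalRing (M := M) _ hI
  have hmem : (⟨x, hxM⟩ : M) ∈ (⨅ i : ℕ, (Ideal.span {(p : WittVector p k)}) ^ i • ⊤ :
      Submodule (WittVector p k) M) := by
    rw [Submodule.mem_iInf]
    intro n
    obtain ⟨m, hm, hmx⟩ := (mem_pPow n M x).mp (hx n)
    have : (⟨x, hxM⟩ : M) = ((p : WittVector p k) ^ n) • (⟨m, hm⟩ : M) := by
      apply Subtype.ext
      rw [Submodule.coe_smul]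
      show x = _
      rw [← hmx, zpow_natCast, ← algebraMap_p, ← map_pow, algebraMap_smul]
    rw [this]
    exact Submodule.smul_mem_smul (Ideal.pow_mem_pow (Ideal.mem_span_singleton_self _) n)
      Submodule.mem_top
  rw [hK, Submodule.mem_bot] at hmem
  exact congrArg Subtype.val hmem

theorem not_le_pPow_one {M : Submodule (WittVector p k) N} (hM : M.FG) (h0 : M ≠ ⊥) :
    ¬ M ≤ Isoc.pPow 1 M := by
  intro h
  apply h0
  have hn : ∀ n : ℕ, M ≤ Isoc.pPow n M := by
    intro n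
    induction n with
    | zero => simp [pPow_zero]
    | succ n ih =>
      calc M ≤ Isoc.pPow n M := ih
        _ ≤ Isoc.pPow n (Isoc.pPow 1 M) := pPow_mono _ h
        _ = Isoc.pPow ((n + 1 : ℕ) : ℤ) M := by rw [← pPow_add]; congr 1
  rw [eq_bot_iff]
  intro x hx
  rw [Submodule.mem_bot]
  exact sep hM (fun n => hn n hx)

theorem le_of_pPow_le_pPow {M : Submodule (WittVector p k) N} (hM : M.FG) (h0 : M ≠ ⊥) {r r' : ℤ}
    (h : Isoc.pPow r M ≤ Isoc.pPow r' M) : r' ≤ r := by
  by_contra hlt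
  push Not at hlt
  apply not_le_pPow_one hM h0
  have h1 : Isoc.pPow r M ≤ Isoc.pPow (r + 1) M := h.trans (pPow_anti (by omega) M)
  rw [pPow_add] at h1
  exact (pPow_le_iff r).mp h1

end Lattice

section Ord

variable [PerfectRing k p] {a : ℤ} (F : N →ₛₗ[Isoc.frob p k a] N)

theorem isOrd_le {M : Submodule (WittVector p k) N} {s : ℕ} {r r' : ℤ} (h : Isoc.IsOrd M F s r)
    (h' : Isoc.latImg F s M ≤ Isoc.pPow r' M) : r' ≤ r := by
  by_contra hlt
  push Not at hlt
  exact h.2 (h'.trans (pPow_anti (by omega) M))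

theorem isOrd_ne_bot {M : Submodule (WittVector p k) N} {s : ℕ} {r : ℤ} (h : Isoc.IsOrd M F s r) :
    M ≠ ⊥ := by
  rintro rfl
  apply h.2
  intro y hy
  obtain ⟨m, hm, rfl⟩ := (mem_latImg F s ⊥ y).mp hy
  rw [Submodule.mem_bot] at hm
  subst hm
  rw [iterate_zero]
  exact Submodule.zero_mem _

end Ord

section Twist

variable [PerfectRing k p] {a : ℤ} (F : N →ₛₗ[Isoc.frob p k a] N)

theorem twist_iterate (m : ℤ) (n j : ℕ) (x : N) :
    (⇑((p : K(p, k)) ^ m • Isoc.iter F n))^[j] x =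
      ((p : K(p, k)) ^ (m * j)) • (⇑F)^[n * j] x := by
  induction j with
  | zero => simp
  | succ j ih =>
    rw [Function.iterate_succ_apply', ih, LinearMap.smul_apply, Isoc.iter_apply,
      iterate_pow_smul, smul_smul, ← zpow_add₀ p_ne, ← Function.iterate_add_apply]
    congr 2
    · push_cast; ring
    · ring

theorem latImg_twist (m : ℤ) (n j : ℕ) (M : Submodule (WittVector p k) N) :
    Isoc.latImg ((p : K(p, k)) ^ m • Isoc.iter F n) j M =
      Isoc.pPow (m * j) (Isoc.latImg F (n * j) M) := by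
  apply le_antisymm
  · rw [latImg_def, Submodule.span_le]
    rintro _ ⟨x, hx, rfl⟩
    rw [twist_iterate]
    exact smul_mem_pPow _ _ ((mem_latImg F _ M _).mpr ⟨x, hx, rfl⟩)
  · intro y hy
    obtain ⟨z, hz, rfl⟩ := (mem_pPow _ _ y).mp hy
    obtain ⟨x, hx, rfl⟩ := (mem_latImg F _ M z).mp hz
    rw [← twist_iterate]
    exact Submodule.subset_span ⟨x, hx, rfl⟩

end Twist

section Semilin

/-- An injective semilinear endomorphism (w.r.t. a surjective ring hom) of a finite-dimensional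
vector space is surjective. -/
theorem semilinear_surj_of_inj {K : Type*} [Field K] {V : Type*} [AddCommGroup V] [Module K V]
    [FiniteDimensional K V] {σ : K →+* K} (hσ : Function.Surjective σ) (G : V →ₛₗ[σ] V)
    (hG : Function.Injective G) : Function.Surjective G := by
  classical
  let b := Module.finBasis K V
  have hli : LinearIndependent K (G.toAddMonoidHom ∘ b) :=
    b.linearIndependent.map_of_surjective_injective σ G.toAddMonoidHom hσ
      (fun m hm => hG (hm.trans (map_zero G).symm)) (fun r m => G.map_smulₛₗ r m)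
  have hspan : Submodule.span K (Set.range (G.toAddMonoidHom ∘ b)) = ⊤ :=
    hli.span_eq_top_of_card_eq_finrank' (by simp)
  intro y
  have hy : y ∈ Submodule.span K (Set.range (G.toAddMonoidHom ∘ b)) := by
    rw [hspan]; exact Submodule.mem_top
  induction hy using Submodule.span_induction with
  | mem y hy =>
    obtain ⟨i, rfl⟩ := hy
    exact ⟨b i, rfl⟩
  | zero => exact ⟨0, map_zero G⟩
  | add y z _ _ hy hz =>
    obtain ⟨x, rfl⟩ := hy
    obtain ⟨x', rfl⟩ := hz
    exact ⟨x + x', map_add G x x'⟩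
  | smul c y _ hy =>
    obtain ⟨x, rfl⟩ := hy
    obtain ⟨c', rfl⟩ := hσ c
    exact ⟨c' • x, G.map_smulₛₗ c' x⟩

end Semilin

section Sub

variable [PerfectRing k p] {a : ℤ} (F : N →ₛₗ[Isoc.frob p k a] N)
  (P : Submodule K(p, k) N) (hP : ∀ x ∈ P, F x ∈ P)

theorem restrict_iterate (s : ℕ) (x : P) :
    (((⇑(F.restrict hP))^[s] x : P) : N) = (⇑F)^[s] (x : N) := by
  induction s generalizing x with
  | zero => rfl
  | succ s ih =>
    rw [Function.iterate_succ_apply, Function.iterate_succ_apply, ih]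
    rfl

theorem iterate_injective (hF : Function.Injective F) (s : ℕ) : Function.Injective (⇑F)^[s] :=
  hF.iterate s

/-- the intersection lattice `M ∩ P` inside `P` -/
noncomputable def subLat (M : Submodule (WittVector p k) N) : Submodule (WittVector p k) P :=
  M.comap (P.subtype.restrictScalars (WittVector p k))

theorem mem_subLat (M : Submodule (WittVector p k) N) (x : P) : x ∈ subLat P M ↔ (x : N) ∈ M :=
  Iff.rfl

theorem subLat_lattice {M : Submodule (WittVector p k) N} (hM : M.IsLattice K(p, k)) :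
    (subLat P M).IsLattice K(p, k) := by
  constructor
  · have hN : IsNoetherian (WittVector p k) M := isNoetherian_of_fg_of_noetherian M hM.fg
    apply Submodule.fg_of_fg_map_injective (P.subtype.restrictScalars (WittVector p k))
      (fun x y h => Subtype.ext h)
    apply (isNoetherian_submodule.mp hN)
    rintro _ ⟨x, hx, rfl⟩
    exact hx
  · rw [eq_top_iff]
    intro x _
    obtain ⟨n, hn⟩ := exists_pow_smul_mem hM (x : N)
    have h1 : ((p : K(p, k)) ^ n) • x ∈ Submodule.span K(p, k) (subLat P M : Set P) :=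
      Submodule.subset_span (by
        rw [SetLike.mem_coe, mem_subLat, Submodule.coe_smul]; exact hn)
    have h2 := Submodule.smul_mem _ (((p : K(p, k)) ^ n)⁻¹) h1
    rwa [smul_smul, inv_mul_cancel₀ (pow_ne_zero n p_ne), one_smul] at h2

theorem subLat_latImg (hF : Isoc.IsIsoc F) {M : Submodule (WittVector p k) N} {r : ℤ} {s : ℕ}
    (h : Isoc.latImg F s M = Isoc.pPow r M) :
    Isoc.latImg (F.restrict hP) s (subLat P M) = Isoc.pPow r (subLat P M) := by
  have hfd : FiniteDimensional K(p, k) N := hF.finite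
  have hsurj : Function.Surjective (⇑(F.restrict hP))^[s] := by
    apply Function.Surjective.iterate
    apply semilinear_surj_of_inj (frob_bijective a).2
    intro x y hxy
    apply Subtype.ext
    apply hF.bijective.1
    have := congrArg (Subtype.val) hxy
    simpa using this
  ext y
  rw [mem_latImg, mem_pPow', mem_subLat, Submodule.coe_smul]
  constructor
  · rintro ⟨x, hx, rfl⟩
    rw [restrict_iterate, ← mem_pPow', ← h]
    exact (mem_latImg F s M _).mpr ⟨x, hx, rfl⟩
  · intro hy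
    rw [← mem_pPow', ← h] at hy
    obtain ⟨m, hm, hmy⟩ := (mem_latImg F s M _).mp hy
    obtain ⟨x, rfl⟩ := hsurj y
    rw [restrict_iterate] at hmy
    have : m = (x : N) := iterate_injective F hF.bijective.1 s hmy
    refine ⟨x, ?_, rfl⟩
    rw [mem_subLat, ← this]
    exact hm

theorem isoclinic_sub (hF : Isoc.IsIsoc F) (μ : ℚ) (hμ : Isoc.IsIsoclinic F μ) :
    Isoc.IsIsoclinic (F.restrict hP) μ := by
  obtain ⟨M, hM, r, s, hs, hrs, h⟩ := hμ
  exact ⟨subLat P M, subLat_lattice P hM, r, s, hs, hrs, subLat_latImg F P hP hF h⟩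

end Sub

section Surj

universe w

variable [PerfectRing k p] {a : ℤ}
variable {N₂ : Type w} [AddCommGroup N₂] [Module (WittVector p k) N₂] [Module K(p, k) N₂]
  [IsScalarTower (WittVector p k) K(p, k) N₂]
variable (F : N →ₛₗ[Isoc.frob p k a] N) (F₂ : N₂ →ₛₗ[Isoc.frob p k a] N₂)
  (f : N →ₗ[K(p, k)] N₂) (hf : ∀ x, f (F x) = F₂ (f x))

include hf in
theorem equivariant_iterate (s : ℕ) (x : N) : f ((⇑F)^[s] x) = (⇑F₂)^[s] (f x) := by
  induction s generalizing x with
  | zero => rfl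
  | succ s ih =>
    rw [Function.iterate_succ_apply, Function.iterate_succ_apply, ih, hf]

/-- the image of a `W`-submodule under an `L`-linear map -/
noncomputable def imgL (M : Submodule (WittVector p k) N) : Submodule (WittVector p k) N₂ :=
  M.map (f.restrictScalars (WittVector p k))

theorem mem_imgL (M : Submodule (WittVector p k) N) (y : N₂) :
    y ∈ imgL f M ↔ ∃ m ∈ M, f m = y := Iff.rfl

theorem imgL_lattice (hsurj : Function.Surjective f) {M : Submodule (WittVector p k) N}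
    (hM : M.IsLattice K(p, k)) : (imgL f M).IsLattice K(p, k) := by
  constructor
  · exact hM.fg.map _
  · have h1 : ((imgL f M : Submodule (WittVector p k) N₂) : Set N₂) = f '' (M : Set N) := rfl
    rw [h1, ← Submodule.map_span, hM.span_eq_top, Submodule.map_top, LinearMap.range_eq_top.mpr hsurj]

theorem imgL_pPow (r : ℤ) (M : Submodule (WittVector p k) N) :
    imgL f (Isoc.pPow r M) = Isoc.pPow r (imgL f M) := by
  ext y
  rw [mem_imgL, mem_pPow]
  constructor
  · rintro ⟨x, hx, rfl⟩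
    obtain ⟨m, hm, rfl⟩ := (mem_pPow r M x).mp hx
    exact ⟨f m, ⟨m, hm, rfl⟩, (f.map_smul _ m).symm⟩
  · rintro ⟨z, ⟨m, hm, rfl⟩, rfl⟩
    exact ⟨_, smul_mem_pPow r M hm, f.map_smul _ m⟩

include hf in
theorem imgL_latImg (s : ℕ) (M : Submodule (WittVector p k) N) :
    imgL f (Isoc.latImg F s M) = Isoc.latImg F₂ s (imgL f M) := by
  ext y
  rw [mem_imgL, mem_latImg]
  constructor
  · rintro ⟨x, hx, rfl⟩
    obtain ⟨m, hm, rfl⟩ := (mem_latImg F s M x).mp hx
    exact ⟨f m, ⟨m, hm, rfl⟩, (equivariant_iterate F F₂ f hf s m).symm⟩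
  · rintro ⟨z, ⟨m, hm, rfl⟩, rfl⟩
    exact ⟨_, (mem_latImg F s M _).mpr ⟨m, hm, rfl⟩, equivariant_iterate F F₂ f hf s m⟩

include hf in
theorem isoclinic_of_surj (hsurj : Function.Surjective f) (μ : ℚ) (hμ : Isoc.IsIsoclinic F μ) :
    Isoc.IsIsoclinic F₂ μ := by
  obtain ⟨M, hM, r, s, hs, hrs, h⟩ := hμ
  refine ⟨imgL f M, imgL_lattice f hsurj hM, r, s, hs, hrs, ?_⟩
  rw [← imgL_latImg F F₂ f hf, h, imgL_pPow]

end Surj

section Unique

variable [PerfectRing k p] {a : ℤ} (F : N →ₛₗ[Isoc.frob p k a] N)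

theorem latImg_iter {M : Submodule (WittVector p k) N} {r : ℤ} {s : ℕ}
    (h : Isoc.latImg F s M = Isoc.pPow r M) (n : ℕ) :
    Isoc.latImg F (n * s) M = Isoc.pPow (n * r) M := by
  induction n with
  | zero => simp [latImg_zero, pPow_zero]
  | succ n ih =>
    rw [Nat.succ_mul, latImg_add, h, latImg_pPow, ih, ← pPow_add]
    congr 1; push_cast; ring

theorem lattice_ne_bot [Nontrivial N] {M : Submodule (WittVector p k) N}
    (hM : M.IsLattice K(p, k)) : M ≠ ⊥ := by
  rintro rfl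
  have := hM.span_eq_top
  simp only [Submodule.bot_coe, Submodule.span_zero_singleton] at this
  exact bot_ne_top this

theorem slope_unique [Nontrivial N] {μ μ' : ℚ} (hμ : Isoc.IsIsoclinic F μ)
    (hμ' : Isoc.IsIsoclinic F μ') : μ = μ' := by
  obtain ⟨M, hM, r, s, hs, hrs, h⟩ := hμ
  obtain ⟨M', hM', r', s', hs', hrs', h'⟩ := hμ'
  obtain ⟨c, hc⟩ := exists_le_pPow_neg hM.fg hM'
  obtain ⟨c', hc'⟩ := exists_le_pPow_neg hM'.fg hM
  -- common exponent
  have key : ∀ (M M' : Submodule (WittVector p k) N) (r r' : ℤ) (s s' c c' : ℕ),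
      M.FG → M ≠ ⊥ → Isoc.latImg F s M = Isoc.pPow r M → Isoc.latImg F s' M' = Isoc.pPow r' M' →
      M ≤ Isoc.pPow (-(c : ℤ)) M' → M' ≤ Isoc.pPow (-(c' : ℤ)) M →
      ∀ n : ℕ, (n : ℤ) * (s * r') - c - c' ≤ n * (s' * r) := by
    intro M M' r r' s s' c c' hfg h0 h h' hc hc' n
    apply le_of_pPow_le_pPow hfg h0
    have e1 : Isoc.latImg F (n * s' * s) M = Isoc.pPow ((n : ℤ) * (s' * r)) M := by
      rw [latImg_iter F h]; congr 1; push_cast; ring
    have e2 : Isoc.latImg F (n * s' * s) M' = Isoc.pPow ((n : ℤ) * (s * r')) M' := by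
      have : n * s' * s = n * s * s' := by ring
      rw [this, latImg_iter F h']; congr 1; push_cast; ring
    calc Isoc.pPow ((n : ℤ) * (s' * r)) M = Isoc.latImg F (n * s' * s) M := e1.symm
      _ ≤ Isoc.latImg F (n * s' * s) (Isoc.pPow (-(c : ℤ)) M') := latImg_mono F _ hc
      _ = Isoc.pPow (-(c : ℤ)) (Isoc.pPow ((n : ℤ) * (s * r')) M') := by rw [latImg_pPow, e2]
      _ ≤ Isoc.pPow (-(c : ℤ)) (Isoc.pPow ((n : ℤ) * (s * r')) (Isoc.pPow (-(c' : ℤ)) M)) :=
          pPow_mono _ (pPow_mono _ hc')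
      _ = Isoc.pPow ((n : ℤ) * (s * r') - c - c') M := by
          rw [← pPow_add, ← pPow_add]; congr 1; ring
  have k1 := key M M' r r' s s' c c' hM.fg (lattice_ne_bot hM) h h' hc hc'
  have k2 := key M' M r' r s' s c' c hM'.fg (lattice_ne_bot hM') h' h hc' hc
  have hAB : (s : ℤ) * r' = s' * r := by
    by_contra hne
    rcases lt_or_gt_of_ne hne with hlt | hgt
    · have := k2 (c + c' + 1)
      push_cast at this
      nlinarith
    · have := k1 (c + c' + 1)
      push_cast at this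
      nlinarith
  rw [← hrs, ← hrs']
  have hs0 : (s : ℚ) ≠ 0 := by positivity
  have hs0' : (s' : ℚ) ≠ 0 := by positivity
  rw [div_eq_div_iff hs0 hs0']
  have : ((s : ℤ) * r' : ℚ) = ((s' : ℤ) * r : ℚ) := by exact_mod_cast hAB
  push_cast at this
  linarith

end Unique

section OrdExists

variable [PerfectRing k p] {a : ℤ} (F : N →ₛₗ[Isoc.frob p k a] N)

theorem latImg_lattice (hsurj : Function.Surjective F) {M : Submodule (WittVector p k) N}
    (hM : M.IsLattice K(p, k)) (n : ℕ) : (Isoc.latImg F n M).IsLattice K(p, k) := by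
  constructor
  · exact latImg_fg F n hM.fg
  · rw [eq_top_iff]
    intro y hy
    clear hy
    obtain ⟨x, rfl⟩ := (hsurj.iterate n) y
    have hx : x ∈ Submodule.span K(p, k) (M : Set N) := by
      rw [hM.span_eq_top]; exact Submodule.mem_top
    induction hx using Submodule.span_induction with
    | mem x hx => exact Submodule.subset_span ((mem_latImg F n M _).mpr ⟨x, hx, rfl⟩)
    | zero => rw [iterate_zero]; exact Submodule.zero_mem _
    | add x z _ _ hx hz => rw [iterate_add]; exact Submodule.add_mem _ hx hz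
    | smul c x _ hx => rw [iterate_smul]; exact Submodule.smul_mem _ _ hx

theorem latImg_ne_bot (hinj : Function.Injective F) {M : Submodule (WittVector p k) N}
    (h0 : M ≠ ⊥) (n : ℕ) : Isoc.latImg F n M ≠ ⊥ := by
  intro h
  apply h0
  rw [eq_bot_iff]
  intro x hx
  have : (⇑F)^[n] x ∈ Isoc.latImg F n M := (mem_latImg F n M _).mpr ⟨x, hx, rfl⟩
  rw [h, Submodule.mem_bot] at this
  rw [Submodule.mem_bot]
  exact (hinj.iterate n) (this.trans (iterate_zero F n).symm)

theorem exists_isOrd (hinj : Function.Injective F) {M : Submodule (WittVector p k) N}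
    (hM : M.IsLattice K(p, k)) (h0 : M ≠ ⊥) (n : ℕ) : ∃ r : ℤ, Isoc.IsOrd M F n r := by
  have hne := latImg_ne_bot F hinj h0 n
  obtain ⟨c, hc⟩ := exists_le_pPow_neg (latImg_fg F n hM.fg) hM
  -- a nonzero element
  obtain ⟨y, hy, hy0⟩ := (Submodule.ne_bot_iff _).mp hne
  have hnot : ∃ j : ℕ, y ∉ Isoc.pPow j M := by
    by_contra hcon
    push Not at hcon
    exact hy0 (sep hM.fg hcon)
  obtain ⟨j, hj⟩ := hnot
  obtain ⟨r, hr, hmax⟩ := Int.exists_greatest_of_bdd
    (P := fun r : ℤ => Isoc.latImg F n M ≤ Isoc.pPow r M)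
    ⟨j, fun z hz => by
      by_contra hlt
      push Not at hlt
      exact hj (pPow_anti hlt.le M (hz hy))⟩ ⟨-(c : ℤ), hc⟩
  refine ⟨r, hr, fun h => ?_⟩
  have := hmax (r + 1) h
  omega

theorem isOrd_superadd {M : Submodule (WittVector p k) N} {m n : ℕ} {rm rn rmn : ℤ}
    (hm : Isoc.IsOrd M F m rm) (hn : Isoc.IsOrd M F n rn) (hmn : Isoc.IsOrd M F (m + n) rmn) :
    rm + rn ≤ rmn := by
  apply isOrd_le F hmn
  calc Isoc.latImg F (m + n) M = Isoc.latImg F m (Isoc.latImg F n M) := latImg_add F m n M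
    _ ≤ Isoc.latImg F m (Isoc.pPow rn M) := latImg_mono F m hn.1
    _ = Isoc.pPow rn (Isoc.latImg F m M) := latImg_pPow F m rn M
    _ ≤ Isoc.pPow rn (Isoc.pPow rm M) := pPow_mono _ hm.1
    _ = Isoc.pPow (rm + rn) M := by rw [← pPow_add]; congr 1; ring

theorem isOrd_upper (hbij : Function.Bijective F) {M : Submodule (WittVector p k) N}
    (hM : M.IsLattice K(p, k)) (h0 : M ≠ ⊥) :
    ∃ e : ℕ, ∀ (n : ℕ) (r : ℤ), Isoc.IsOrd M F n r → r ≤ n * e := by
  obtain ⟨e, he⟩ := exists_le_pPow_neg hM.fg (latImg_lattice F hbij.2 hM 1)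
  refine ⟨e, ?_⟩
  have hind : ∀ n : ℕ, M ≤ Isoc.pPow (-((n * e : ℕ) : ℤ)) (Isoc.latImg F n M) := by
    intro n
    induction n with
    | zero => simp [latImg_zero, pPow_zero]
    | succ n ih =>
      calc M ≤ Isoc.pPow (-(e : ℤ)) (Isoc.latImg F 1 M) := he
        _ ≤ Isoc.pPow (-(e : ℤ)) (Isoc.latImg F 1
              (Isoc.pPow (-((n * e : ℕ) : ℤ)) (Isoc.latImg F n M))) :=
            pPow_mono _ (latImg_mono F 1 ih)
        _ = Isoc.pPow (-(((n + 1) * e : ℕ) : ℤ)) (Isoc.latImg F (n + 1) M) := by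
            rw [latImg_pPow, ← pPow_add, ← latImg_add, Nat.add_comm 1 n]
            congr 1; push_cast; ring
  intro n r hr
  have h1 : Isoc.pPow 0 M ≤ Isoc.pPow (r - (n * e : ℕ)) M := by
    rw [pPow_zero]
    calc M ≤ Isoc.pPow (-((n * e : ℕ) : ℤ)) (Isoc.latImg F n M) := hind n
      _ ≤ Isoc.pPow (-((n * e : ℕ) : ℤ)) (Isoc.pPow r M) := pPow_mono _ hr.1
      _ = Isoc.pPow (r - (n * e : ℕ)) M := by rw [← pPow_add]; congr 1; ring
  have := le_of_pPow_le_pPow hM.fg h0 h1
  push_cast at this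
  linarith

theorem exists_ord_limit (hbij : Function.Bijective F) {M : Submodule (WittVector p k) N}
    (hM : M.IsLattice K(p, k)) (h0 : M ≠ ⊥) :
    ∃ o : ℕ → ℤ, (∀ n : ℕ, Isoc.IsOrd M F n (o n)) ∧
      ∃ lam : ℝ, Filter.Tendsto (fun n : ℕ => (o n : ℝ) / n) Filter.atTop (nhds lam) := by
  choose o ho using exists_isOrd F hbij.1 hM h0
  refine ⟨o, ho, ?_⟩
  obtain ⟨e, he⟩ := isOrd_upper F hbij hM h0
  have hsub : Subadditive (fun n : ℕ => -(o n : ℝ)) := by
    intro m n
    have := isOrd_superadd F (ho m) (ho n) (ho (m + n))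
    have h' : (o m : ℝ) + o n ≤ o (m + n) := by exact_mod_cast this
    linarith
  have hbdd : BddBelow (Set.range fun n : ℕ => -(o n : ℝ) / n) := by
    refine ⟨-(e : ℝ), ?_⟩
    rintro _ ⟨n, rfl⟩
    rcases Nat.eq_zero_or_pos n with rfl | hn
    · simp
    · have hn0 : (0 : ℝ) < n := by exact_mod_cast hn
      rw [le_div_iff₀ hn0]
      have := he n (o n) (ho n)
      have h' : (o n : ℝ) ≤ n * e := by exact_mod_cast this
      linarith
  refine ⟨-hsub.lim, ?_⟩
  have := (hsub.tendsto_lim hbdd).neg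
  refine this.congr (fun n => ?_)
  simp [neg_div]

end OrdExists

section SlopePart

variable [PerfectRing k p] {a : ℤ} (F : N →ₛₗ[Isoc.frob p k a] N)

/-- isoclinic of slope `μ` on the subspace `P`, phrased inside `N` -/
def IsoIn (P : Submodule K(p, k) N) (μ : ℚ) : Prop :=
  ∃ Λ : Submodule (WittVector p k) N, Λ.FG ∧ Submodule.span K(p, k) (Λ : Set N) = P ∧
    ∃ (r : ℤ) (s : ℕ), 0 < s ∧ (r : ℚ) / s = μ ∧ Isoc.latImg F s Λ = Isoc.pPow r Λ

theorem isoIn_of_restrict (P : Submodule K(p, k) N) (hP : ∀ x ∈ P, F x ∈ P) (μ : ℚ)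
    (h : Isoc.IsIsoclinic (F.restrict hP) μ) : IsoIn F P μ := by
  obtain ⟨M', hM', r, s, hs, hrs, hFM⟩ := h
  refine ⟨M'.map (P.subtype.restrictScalars (WittVector p k)), hM'.fg.map _, ?_, r, s, hs, hrs, ?_⟩
  · have h1 : ((M'.map (P.subtype.restrictScalars (WittVector p k)) :
        Submodule (WittVector p k) N) : Set N) = P.subtype '' (M' : Set P) := rfl
    rw [h1, ← Submodule.map_span, hM'.span_eq_top, Submodule.map_top, Submodule.range_subtype]
  · ext y
    rw [mem_latImg, mem_pPow]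
    constructor
    · rintro ⟨_, ⟨x, hx, rfl⟩, rfl⟩
      have h2 : (⇑(F.restrict hP))^[s] x ∈ Isoc.latImg (F.restrict hP) s M' :=
        (mem_latImg _ s M' _).mpr ⟨x, hx, rfl⟩
      rw [hFM] at h2
      obtain ⟨z, hz, hzx⟩ := (mem_pPow r M' _).mp h2
      refine ⟨(z : N), ⟨z, hz, rfl⟩, ?_⟩
      have := congrArg (Subtype.val) hzx
      rw [Submodule.coe_smul, restrict_iterate] at this
      exact this
    · rintro ⟨_, ⟨z, hz, rfl⟩, rfl⟩
      have h2 : ((p : K(p, k)) ^ r) • z ∈ Isoc.pPow r M' := smul_mem_pPow r M' hz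
      rw [← hFM] at h2
      obtain ⟨x, hx, hxz⟩ := (mem_latImg _ s M' _).mp h2
      refine ⟨(x : N), ⟨x, hx, rfl⟩, ?_⟩
      have := congrArg (Subtype.val) hxz
      rw [Submodule.coe_smul, restrict_iterate] at this
      exact this

theorem restrict_of_isoIn (P : Submodule K(p, k) N) (hP : ∀ x ∈ P, F x ∈ P) (μ : ℚ)
    (h : IsoIn F P μ) : Isoc.IsIsoclinic (F.restrict hP) μ := by
  obtain ⟨Λ, hfg, hspan, r, s, hs, hrs, hFΛ⟩ := h
  have hΛP : ∀ x ∈ Λ, x ∈ P := fun x hx => hspan ▸ Submodule.subset_span hx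
  have himg : P.subtype '' ((subLat P Λ : Submodule (WittVector p k) P) : Set P) = (Λ : Set N) := by
    ext x
    constructor
    · rintro ⟨z, hz, rfl⟩; exact hz
    · intro hx; exact ⟨⟨x, hΛP x hx⟩, hx, rfl⟩
  refine ⟨subLat P Λ, ⟨?_, ?_⟩, r, s, hs, hrs, ?_⟩
  · apply Submodule.fg_of_fg_map_injective (P.subtype.restrictScalars (WittVector p k))
      (fun x y h => Subtype.ext h)
    have : (subLat P Λ).map (P.subtype.restrictScalars (WittVector p k)) = Λ :=
      SetLike.coe_injective himg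
    rw [this]; exact hfg
  · apply Submodule.map_injective_of_injective (f := P.subtype) (Subtype.val_injective)
    rw [Submodule.map_span, himg, hspan, Submodule.map_top, Submodule.range_subtype]
  · ext y
    rw [mem_latImg, mem_pPow', mem_subLat, Submodule.coe_smul, ← mem_pPow', ← hFΛ, mem_latImg]
    constructor
    · rintro ⟨x, hx, rfl⟩
      exact ⟨(x : N), hx, (restrict_iterate F P hP s x).symm⟩
    · rintro ⟨m, hm, hmy⟩
      refine ⟨⟨m, hΛP m hm⟩, hm, ?_⟩
      apply Subtype.ext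
      rw [restrict_iterate]; exact hmy

theorem latImg_sup (n : ℕ) (Λ Λ' : Submodule (WittVector p k) N) :
    Isoc.latImg F n (Λ ⊔ Λ') = Isoc.latImg F n Λ ⊔ Isoc.latImg F n Λ' := by
  apply le_antisymm
  · intro y hy
    obtain ⟨m, hm, rfl⟩ := (mem_latImg F n _ y).mp hy
    obtain ⟨u, hu, v, hv, rfl⟩ := Submodule.mem_sup.mp hm
    rw [iterate_add]
    exact Submodule.add_mem_sup ((mem_latImg F n Λ _).mpr ⟨u, hu, rfl⟩)
      ((mem_latImg F n Λ' _).mpr ⟨v, hv, rfl⟩)
  · exact sup_le (latImg_mono F n le_sup_left) (latImg_mono F n le_sup_right)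

theorem pPow_sup (r : ℤ) (Λ Λ' : Submodule (WittVector p k) N) :
    Isoc.pPow r (Λ ⊔ Λ') = Isoc.pPow r Λ ⊔ Isoc.pPow r Λ' :=
  Submodule.smul_sup' _ Λ Λ'

theorem isoIn_bot (μ : ℚ) : IsoIn F (⊥ : Submodule K(p, k) N) μ := by
  refine ⟨⊥, Submodule.fg_bot, by simp, μ.num, μ.den, μ.den_pos, ?_, ?_⟩
  · exact_mod_cast Rat.num_div_den μ
  · rw [(pPow_eq_bot_iff _).mpr rfl]
    rw [eq_bot_iff]
    intro y hy
    obtain ⟨m, hm, rfl⟩ := (mem_latImg F _ _ y).mp hy
    rw [Submodule.mem_bot] at hm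
    subst hm
    rw [iterate_zero]; exact Submodule.zero_mem _

theorem isoIn_sup {P P' : Submodule K(p, k) N} {μ : ℚ} (h : IsoIn F P μ) (h' : IsoIn F P' μ) :
    IsoIn F (P ⊔ P') μ := by
  obtain ⟨Λ, hfg, hspan, r, s, hs, hrs, hFΛ⟩ := h
  obtain ⟨Λ', hfg', hspan', r', s', hs', hrs', hFΛ'⟩ := h'
  have hrr : (s' : ℤ) * r = s * r' := by
    have hs0 : (s : ℚ) ≠ 0 := by positivity
    have hs0' : (s' : ℚ) ≠ 0 := by positivity
    have h1 : (r : ℚ) / s = r' / s' := hrs.trans hrs'.symm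
    rw [div_eq_div_iff hs0 hs0'] at h1
    have : ((s' : ℤ) * r : ℚ) = ((s : ℤ) * r' : ℚ) := by push_cast; linarith
    exact_mod_cast this
  refine ⟨Λ ⊔ Λ', hfg.sup hfg', ?_, s' * r, s' * s, Nat.mul_pos hs' hs, ?_, ?_⟩
  · apply le_antisymm
    · rw [Submodule.span_le]
      intro x hx
      obtain ⟨u, hu, v, hv, rfl⟩ := Submodule.mem_sup.mp hx
      exact Submodule.add_mem_sup (hspan ▸ Submodule.subset_span hu)
        (hspan' ▸ Submodule.subset_span hv)
    · rw [← hspan, ← hspan']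
      exact sup_le (Submodule.span_mono (fun x hx => (le_sup_left : Λ ≤ Λ ⊔ Λ') hx))
        (Submodule.span_mono (fun x hx => (le_sup_right : Λ' ≤ Λ ⊔ Λ') hx))
  · rw [← hrs]
    have hs0 : (s : ℚ) ≠ 0 := by positivity
    have hs0' : (s' : ℚ) ≠ 0 := by positivity
    push_cast
    field_simp
  · rw [latImg_sup, pPow_sup, latImg_iter F hFΛ s']
    have : s' * s = s * s' := Nat.mul_comm _ _
    rw [this, latImg_iter F hFΛ' s, hrr]

theorem slopePart_isoIn [FiniteDimensional K(p, k) N] (μ : ℚ) :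
    (∀ x ∈ Isoc.slopePart F μ, F x ∈ Isoc.slopePart F μ) ∧ IsoIn F (Isoc.slopePart F μ) μ := by
  classical
  obtain ⟨t, ht, hsup⟩ := CompleteLattice.WellFoundedGT.isSupFiniteCompact
    (Submodule K(p, k) N)
    {P : Submodule K(p, k) N | ∃ hP : ∀ x ∈ P, F x ∈ P, Isoc.IsIsoclinic (F.restrict hP) μ}
  rw [Isoc.slopePart, hsup]
  apply Finset.sup_induction (p := fun P : Submodule K(p, k) N =>
    (∀ x ∈ P, F x ∈ P) ∧ IsoIn F P μ)
  · refine ⟨fun x hx => ?_, isoIn_bot F μ⟩
    rw [Submodule.mem_bot] at hx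
    subst hx
    rw [map_zero]; exact Submodule.zero_mem _
  · rintro P ⟨hP, hPi⟩ P' ⟨hP', hPi'⟩
    refine ⟨fun x hx => ?_, isoIn_sup F hPi hPi'⟩
    obtain ⟨u, hu, v, hv, rfl⟩ := Submodule.mem_sup.mp hx
    rw [map_add]
    exact Submodule.add_mem_sup (hP u hu) (hP' v hv)
  · intro P hPt
    obtain ⟨hP, hiso⟩ := ht hPt
    exact ⟨hP, isoIn_of_restrict F P hP μ hiso⟩

end SlopePart

section OrdP

variable [PerfectRing k p]

theorem isOrdP_mul {c c' : K(p, k)} {r r' : ℤ} (h : Isoc.IsOrdP c r) (h' : Isoc.IsOrdP c' r') :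
    Isoc.IsOrdP (c * c') (r + r') := by
  obtain ⟨u, rfl⟩ := h
  obtain ⟨u', rfl⟩ := h'
  refine ⟨u * u', ?_⟩
  rw [zpow_add₀ p_ne, Units.val_mul, map_mul]; ring

theorem isOrdP_one : Isoc.IsOrdP (1 : K(p, k)) 0 := ⟨1, by simp⟩

theorem isOrdP_inv {c : K(p, k)} {r : ℤ} (h : Isoc.IsOrdP c r) : Isoc.IsOrdP c⁻¹ (-r) := by
  obtain ⟨u, rfl⟩ := h
  refine ⟨u⁻¹, ?_⟩
  have hu : algebraMap (WittVector p k) K(p, k) ((u⁻¹ : (WittVector p k)ˣ) : WittVector p k) =
      (algebraMap (WittVector p k) K(p, k) (u : WittVector p k))⁻¹ := by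
    apply eq_inv_of_mul_eq_one_left
    rw [← map_mul]; simp
  rw [hu, mul_inv, zpow_neg]

theorem isOrdP_ne_zero {c : K(p, k)} {r : ℤ} (h : Isoc.IsOrdP c r) : c ≠ 0 := by
  obtain ⟨u, rfl⟩ := h
  apply mul_ne_zero (zpow_ne_zero _ p_ne)
  intro h0
  exact u.ne_zero ((IsFractionRing.injective (WittVector p k) K(p, k)) (h0.trans (map_zero _).symm))

theorem exists_isOrdP {c : K(p, k)} (hc : c ≠ 0) : ∃ r : ℤ, Isoc.IsOrdP c r := by
  obtain ⟨x, y, hy, rfl⟩ := IsFractionRing.div_surjective (A := WittVector p k) c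
  have hy0 : y ≠ 0 := nonZeroDivisors.ne_zero hy
  have hx0 : x ≠ 0 := by
    rintro rfl
    simp at hc
  obtain ⟨m, u, rfl⟩ := WittVector.exists_eq_pow_p_mul' x hx0
  obtain ⟨n, v, rfl⟩ := WittVector.exists_eq_pow_p_mul' y hy0
  have h1 : Isoc.IsOrdP (algebraMap (WittVector p k) K(p, k) ((p : WittVector p k) ^ m * u)) m :=
    ⟨u, by rw [map_mul, map_pow, algebraMap_p, zpow_natCast]⟩
  have h2 : Isoc.IsOrdP (algebraMap (WittVector p k) K(p, k) ((p : WittVector p k) ^ n * v)) n :=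
    ⟨v, by rw [map_mul, map_pow, algebraMap_p, zpow_natCast]⟩
  exact ⟨m + -n, by rw [div_eq_mul_inv]; exact isOrdP_mul h1 (isOrdP_inv h2)⟩

/-- an integral element of order `r` has `r ≥ 0` -/
theorem isOrdP_nonneg {w : WittVector p k} {r : ℤ}
    (h : Isoc.IsOrdP (algebraMap (WittVector p k) K(p, k) w) r) : 0 ≤ r := by
  by_contra hneg
  push Not at hneg
  obtain ⟨u, hu⟩ := h
  obtain ⟨n, hn⟩ := Int.eq_ofNat_of_zero_le (neg_nonneg.mpr hneg.le)
  have hr : r = -(n : ℤ) := by omega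
  have hn0 : 0 < n := by omega
  rw [hr, zpow_neg, zpow_natCast] at hu
  have h1 : algebraMap (WittVector p k) K(p, k) ((p : WittVector p k) ^ n * w) =
      algebraMap (WittVector p k) K(p, k) (u : WittVector p k) := by
    rw [map_mul, map_pow, algebraMap_p, hu, ← mul_assoc, mul_inv_cancel₀ (pow_ne_zero n p_ne),
      one_mul]
  have h2 := (IsFractionRing.injective (WittVector p k) K(p, k)) h1
  have hunit : IsUnit ((p : WittVector p k) ^ n * w) := h2 ▸ u.isUnit
  have hpu : IsUnit ((p : WittVector p k) ^ n) := isUnit_of_mul_isUnit_left hunit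
  have : IsUnit (p : WittVector p k) := (isUnit_pow_iff hn0.ne').mp hpu
  exact (WittVector.irreducible p).not_isUnit this

theorem isOrdP_unique {c : K(p, k)} {r r' : ℤ} (h : Isoc.IsOrdP c r) (h' : Isoc.IsOrdP c r') :
    r = r' := by
  have key : ∀ {r r' : ℤ}, Isoc.IsOrdP c r → Isoc.IsOrdP c r' → r ≤ r' := by
    intro r r' h h'
    have h1 : Isoc.IsOrdP (c * c⁻¹) (r' + -r) := isOrdP_mul h' (isOrdP_inv h)
    rw [mul_inv_cancel₀ (isOrdP_ne_zero h)] at h1
    have h2 : Isoc.IsOrdP (algebraMap (WittVector p k) K(p, k) 1) (r' + -r) := by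
      rw [map_one]; exact h1
    have := isOrdP_nonneg h2
    omega
  exact le_antisymm (key h h') (key h' h)

/-- if `c = p^j * w` with `w` integral and `c` has order `r`, then `j ≤ r` -/
theorem isOrdP_ge {c : K(p, k)} {r j : ℤ} {w : WittVector p k} (h : Isoc.IsOrdP c r)
    (hc : c = (p : K(p, k)) ^ j * algebraMap (WittVector p k) K(p, k) w) : j ≤ r := by
  have hj : Isoc.IsOrdP ((p : K(p, k)) ^ j) j := ⟨1, by simp⟩
  have h1 : Isoc.IsOrdP (algebraMap (WittVector p k) K(p, k) w) (r + -j) := by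
    have : algebraMap (WittVector p k) K(p, k) w = c * ((p : K(p, k)) ^ j)⁻¹ := by
      rw [hc, mul_comm, ← mul_assoc, inv_mul_cancel₀ (zpow_ne_zero _ p_ne), one_mul]
    rw [this]
    exact isOrdP_mul h (isOrdP_inv hj)
  have := isOrdP_nonneg h1
  omega

theorem frob_pow_W (a : ℤ) (s : ℕ) (w : WittVector p k) : ∃ w'' : WittVector p k,
    (Isoc.frob p k a ^ s) (algebraMap _ _ w) = algebraMap _ _ w'' := by
  induction s with
  | zero => exact ⟨w, rfl⟩
  | succ s ih =>
    obtain ⟨w₁, h₁⟩ := ih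
    refine ⟨(WittVector.frobeniusEquiv p k ^ a) w₁, ?_⟩
    rw [pow_succ', RingHom.mul_def, RingHom.comp_apply, h₁, Isoc.frob_algebraMap]

theorem isOrdP_frob (a : ℤ) {c : K(p, k)} {r : ℤ} (h : Isoc.IsOrdP c r) :
    Isoc.IsOrdP (Isoc.frob p k a c) r := by
  obtain ⟨u, rfl⟩ := h
  refine ⟨Units.map (WittVector.frobeniusEquiv p k ^ a).toRingHom.toMonoidHom u, ?_⟩
  rw [map_mul, frob_zpow_p, Isoc.frob_algebraMap]
  rfl

end OrdP

section Det

variable [PerfectRing k p] {h : ℕ}

/-- the matrix of a semilinear map in a basis -/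
noncomputable def mat {σ : K(p, k) →+* K(p, k)} (b : Module.Basis (Fin h) K(p, k) N)
    (G : N →ₛₗ[σ] N) : Matrix (Fin h) (Fin h) K(p, k) :=
  Matrix.of fun i j => b.repr (G (b j)) i

theorem detCoeff_eq {σ : K(p, k) →+* K(p, k)} (b : Module.Basis (Fin h) K(p, k) N)
    (G : N →ₛₗ[σ] N) : Isoc.detCoeff b G = (mat b G).det := rfl

theorem repr_apply_semilin {σ : K(p, k) →+* K(p, k)} (b : Module.Basis (Fin h) K(p, k) N)
    (G : N →ₛₗ[σ] N) (x : N) (i : Fin h) :
    b.repr (G x) i = ∑ j, mat b G i j * σ (b.repr x j) := by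
  conv_lhs => rw [← b.sum_repr x]
  rw [map_sum, map_sum, Finset.sum_apply']
  apply Finset.sum_congr rfl
  intro j _
  rw [map_smulₛₗ, map_smul, Finsupp.smul_apply, smul_eq_mul, mul_comm]
  rfl

theorem mat_basis_change {σ : K(p, k) →+* K(p, k)} (b e : Module.Basis (Fin h) K(p, k) N)
    (G : N →ₛₗ[σ] N) :
    b.toMatrix e * mat e G = mat b G * (b.toMatrix e).map σ := by
  ext l j
  rw [Matrix.mul_apply, Matrix.mul_apply]
  have h1 : ∑ i, b.toMatrix e l i * mat e G i j = b.repr (G (e j)) l := by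
    conv_rhs => rw [← e.sum_repr (G (e j))]
    rw [map_sum, Finset.sum_apply']
    apply Finset.sum_congr rfl
    intro i _
    rw [map_smul, Finsupp.smul_apply, smul_eq_mul, mul_comm]
    rfl
  rw [h1, repr_apply_semilin]
  rfl

theorem det_basis_change {σ : K(p, k) →+* K(p, k)} (b e : Module.Basis (Fin h) K(p, k) N)
    (G : N →ₛₗ[σ] N) :
    (b.toMatrix e).det * (mat e G).det = (mat b G).det * σ (b.toMatrix e).det := by
  have := congrArg Matrix.det (mat_basis_change b e G)
  rw [Matrix.det_mul, Matrix.det_mul] at this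
  rw [this, RingHom.map_det]
  rfl

theorem det_toMatrix_ne_zero (b e : Module.Basis (Fin h) K(p, k) N) :
    (b.toMatrix e).det ≠ 0 := by
  intro h0
  have := congrArg Matrix.det (Module.Basis.toMatrix_mul_toMatrix_flip b e)
  rw [Matrix.det_mul, h0, zero_mul, Matrix.det_one] at this
  exact zero_ne_one this

theorem isOrdP_basis_change {a : ℤ} (b e : Module.Basis (Fin h) K(p, k) N)
    (F : N →ₛₗ[Isoc.frob p k a] N) {d : ℤ} (hd : Isoc.IsOrdP (mat b F).det d) :
    Isoc.IsOrdP (mat e F).det d := by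
  have hC := det_toMatrix_ne_zero b e
  obtain ⟨c, hc⟩ := exists_isOrdP hC
  have h1 := det_basis_change b e F
  have h2 : (mat e F).det = (mat b F).det * Isoc.frob p k a (b.toMatrix e).det *
      ((b.toMatrix e).det)⁻¹ := by
    rw [← h1, mul_comm, ← mul_assoc, inv_mul_cancel₀ hC, one_mul]
  rw [h2]
  have := isOrdP_mul (isOrdP_mul hd (isOrdP_frob a hc)) (isOrdP_inv hc)
  have e : d + c + -c = d := by ring
  rw [e] at this
  exact this

theorem mat_iter_succ {a : ℤ} (b : Module.Basis (Fin h) K(p, k) N)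
    (F : N →ₛₗ[Isoc.frob p k a] N) (n : ℕ) :
    mat b (Isoc.iter F (n + 1)) = mat b F * (mat b (Isoc.iter F n)).map (Isoc.frob p k a) := by
  ext l j
  rw [Matrix.mul_apply]
  have : (Isoc.iter F (n + 1)) (b j) = F ((Isoc.iter F n) (b j)) := by
    rw [Isoc.iter_apply, Isoc.iter_apply, Function.iterate_succ_apply']
  show b.repr ((Isoc.iter F (n + 1)) (b j)) l = _
  rw [this, repr_apply_semilin]
  rfl

theorem isOrdP_det_iter {a : ℤ} (b : Module.Basis (Fin h) K(p, k) N)
    (F : N →ₛₗ[Isoc.frob p k a] N) {d : ℤ} (hd : Isoc.IsOrdP (mat b F).det d) (n : ℕ) :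
    Isoc.IsOrdP (mat b (Isoc.iter F n)).det (n * d) := by
  induction n with
  | zero =>
    have : mat b (Isoc.iter F 0) = 1 := by
      ext i j
      show b.repr ((Isoc.iter F 0) (b j)) i = _
      rw [Isoc.iter_apply, Function.iterate_zero, id_eq, b.repr_self, Matrix.one_apply,
        Finsupp.single_apply]
      simp [eq_comm]
    rw [this, Matrix.det_one]
    simpa using isOrdP_one (p := p) (k := k)
  | succ n ih =>
    rw [mat_iter_succ, Matrix.det_mul]
    have h1 : ((mat b (Isoc.iter F n)).map (Isoc.frob p k a)).det =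
        Isoc.frob p k a (mat b (Isoc.iter F n)).det := by
      rw [RingHom.map_det]; rfl
    rw [h1]
    have := isOrdP_mul hd (isOrdP_frob a ih)
    have e : d + n * d = ((n + 1 : ℕ) : ℤ) * d := by push_cast; ring
    rw [e] at this
    exact this

/-- a basis of `N` adapted to the lattice `M` -/
theorem exists_lattice_basis (b : Module.Basis (Fin h) K(p, k) N)
    {M : Submodule (WittVector p k) N} (hM : M.IsLattice K(p, k)) :
    ∃ e : Module.Basis (Fin h) K(p, k) N, (∀ j, e j ∈ M) ∧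
      ∀ x ∈ M, ∀ i, ∃ w : WittVector p k, e.repr x i = algebraMap _ _ w := by
  classical
  have := hM
  let bM := Module.Free.chooseBasis (WittVector p k) M
  let e₀ := bM.extendOfIsLattice K(p, k)
  let eq := e₀.indexEquiv b
  refine ⟨e₀.reindex eq, fun j => ?_, fun x hx i => ?_⟩
  · rw [Module.Basis.reindex_apply, Module.Basis.extendOfIsLattice_apply]
    exact (bM _).2
  · rw [Module.Basis.repr_reindex_apply]
    refine ⟨bM.repr ⟨x, hx⟩ (eq.symm i), ?_⟩
    have hx' : x = ∑ κ, (algebraMap (WittVector p k) K(p, k) (bM.repr ⟨x, hx⟩ κ)) • e₀ κ := by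
      have h1 := bM.sum_repr ⟨x, hx⟩
      have h2 : (∑ i, ((bM.repr ⟨x, hx⟩ i • bM i : M) : N)) = x := by
        have := congrArg (Subtype.val) h1
        rwa [AddSubmonoidClass.coe_finsetSum] at this
      refine h2.symm.trans ?_
      apply Finset.sum_congr rfl
      intro κ _
      rw [Module.Basis.extendOfIsLattice_apply, algebraMap_smul]
      rfl
    conv_lhs => rw [hx']
    rw [map_sum, Finset.sum_apply']
    rw [Finset.sum_eq_single (eq.symm i)]
    · rw [map_smul, Module.Basis.repr_self, Finsupp.smul_apply, Finsupp.single_eq_same,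
        smul_eq_mul, mul_one]
    · intro κ _ hκ
      rw [map_smul, Module.Basis.repr_self, Finsupp.smul_apply, Finsupp.single_eq_of_ne hκ.symm,
        smul_zero]
    · intro h; exact absurd (Finset.mem_univ _) h

/-- D-a : if `G(M) ⊆ p^r M` then `det` is `p^(rh)` times an integral element -/
theorem det_of_le {σ : K(p, k) →+* K(p, k)} (e : Module.Basis (Fin h) K(p, k) N)
    {M : Submodule (WittVector p k) N} (he : ∀ j, e j ∈ M)
    (hint : ∀ x ∈ M, ∀ i, ∃ w : WittVector p k, e.repr x i = algebraMap _ _ w)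
    (G : N →ₛₗ[σ] N) (r : ℤ) (hG : ∀ m ∈ M, G m ∈ Isoc.pPow r M) :
    ∃ w : WittVector p k, (mat e G).det = (p : K(p, k)) ^ (r * h) * algebraMap _ _ w := by
  have hent : ∀ i j, ∃ w : WittVector p k, mat e G i j = (p : K(p, k)) ^ r * algebraMap _ _ w := by
    intro i j
    obtain ⟨m, hm, hmG⟩ := (mem_pPow r M _).mp (hG (e j) (he j))
    obtain ⟨w, hw⟩ := hint m hm i
    refine ⟨w, ?_⟩
    show e.repr (G (e j)) i = _
    rw [← hmG, map_smul, Finsupp.smul_apply, smul_eq_mul, hw]
  choose B hB using hent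
  have hmat : mat e G = ((p : K(p, k)) ^ r) •
      (Matrix.of B).map (algebraMap (WittVector p k) K(p, k)) := by
    ext i j
    rw [hB i j]
    simp
  refine ⟨(Matrix.of B).det, ?_⟩
  rw [hmat, Matrix.det_smul, Fintype.card_fin, RingHom.map_det, zpow_mul, zpow_natCast]
  rfl

/-- D-b : if `p^r M ⊆ G(M)` (and `σ` preserves integrality) then `p^(rh) = det * integral` -/
theorem det_of_ge {σ : K(p, k) →+* K(p, k)}
    (hσ : ∀ w : WittVector p k, ∃ w'' : WittVector p k,
      σ (algebraMap _ _ w) = algebraMap _ _ w'')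
    (e : Module.Basis (Fin h) K(p, k) N)
    {M : Submodule (WittVector p k) N} (he : ∀ j, e j ∈ M)
    (hint : ∀ x ∈ M, ∀ i, ∃ w : WittVector p k, e.repr x i = algebraMap _ _ w)
    (G : N →ₛₗ[σ] N) (r : ℤ) (hG : ∀ y ∈ Isoc.pPow r M, ∃ m ∈ M, G m = y) :
    ∃ w : WittVector p k, (p : K(p, k)) ^ (r * h) = (mat e G).det * algebraMap _ _ w := by
  have hcol : ∀ j, ∃ m ∈ M, G m = ((p : K(p, k)) ^ r) • e j :=
    fun j => hG _ (smul_mem_pPow r M (he j))
  choose m hm hmG using hcol
  have hent : ∀ i j, ∃ w'' : WittVector p k, σ (e.repr (m j) i) = algebraMap _ _ w'' := by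
    intro i j
    obtain ⟨w, hw⟩ := hint (m j) (hm j) i
    rw [hw]; exact hσ w
  choose B hB using hent
  have hmat : ((p : K(p, k)) ^ r) • (1 : Matrix (Fin h) (Fin h) K(p, k)) =
      mat e G * (Matrix.of B).map (algebraMap (WittVector p k) K(p, k)) := by
    ext l j
    rw [Matrix.mul_apply]
    have h1 : e.repr (G (m j)) l = ∑ i, mat e G l i * σ (e.repr (m j) i) :=
      repr_apply_semilin e G (m j) l
    rw [hmG j, map_smul, Finsupp.smul_apply, Module.Basis.repr_self] at h1
    rw [Matrix.smul_apply, Matrix.one_apply]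
    rw [Finsupp.single_apply] at h1
    have h2 : (if l = j then (1 : K(p, k)) else 0) = if j = l then 1 else 0 := by
      simp [eq_comm]
    rw [h2, h1]
    apply Finset.sum_congr rfl
    intro i _
    rw [hB i j]
    rfl
  refine ⟨(Matrix.of B).det, ?_⟩
  have := congrArg Matrix.det hmat
  rw [Matrix.det_smul, Matrix.det_one, mul_one, Fintype.card_fin, Matrix.det_mul] at this
  rw [zpow_mul, zpow_natCast, this, RingHom.map_det]
  rfl

/-- combining: if `G(M) = p^r M` then `det` has order `r h`. -/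
theorem isOrdP_det_of_eq {σ : K(p, k) →+* K(p, k)}
    (hσ : ∀ w : WittVector p k, ∃ w'' : WittVector p k,
      σ (algebraMap _ _ w) = algebraMap _ _ w'')
    (e : Module.Basis (Fin h) K(p, k) N)
    {M : Submodule (WittVector p k) N} (he : ∀ j, e j ∈ M)
    (hint : ∀ x ∈ M, ∀ i, ∃ w : WittVector p k, e.repr x i = algebraMap _ _ w)
    (G : N →ₛₗ[σ] N) (r : ℤ) (hG1 : ∀ m ∈ M, G m ∈ Isoc.pPow r M)
    (hG2 : ∀ y ∈ Isoc.pPow r M, ∃ m ∈ M, G m = y) :
    Isoc.IsOrdP (mat e G).det (r * h) := by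
  obtain ⟨w, hw⟩ := det_of_le e he hint G r hG1
  obtain ⟨w', hw'⟩ := det_of_ge hσ e he hint G r hG2
  have hp : (p : K(p, k)) ^ (r * h) ≠ 0 := zpow_ne_zero _ p_ne
  have h1 : algebraMap (WittVector p k) K(p, k) (w * w') =
      algebraMap (WittVector p k) K(p, k) 1 := by
    rw [map_mul, map_one]
    have : (p : K(p, k)) ^ (r * h) * (algebraMap _ _ w * algebraMap _ _ w') =
        (p : K(p, k)) ^ (r * h) * 1 := by
      rw [mul_one, ← mul_assoc, ← hw, ← hw']
    exact mul_left_cancel₀ hp this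
  have h2 : w * w' = 1 := (IsFractionRing.injective (WittVector p k) K(p, k)) h1
  exact ⟨⟨w, w', h2, by rw [mul_comm]; exact h2⟩, hw⟩

end Det

section IsoInt

variable [PerfectRing k p] {h : ℕ} {a : ℤ}

/-- if `F^s M = p^r M` on a space of dimension `h` then `s ∣ r h`. -/
theorem iso_int (b : Module.Basis (Fin h) K(p, k) N) (F : N →ₛₗ[Isoc.frob p k a] N)
    {M : Submodule (WittVector p k) N} (hM : M.IsLattice K(p, k)) {r : ℤ} {s : ℕ} (hs : 0 < s)
    (hFM : Isoc.latImg F s M = Isoc.pPow r M) : ∃ d₀ : ℤ, r * h = s * d₀ := by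
  obtain ⟨e, he, hint⟩ := exists_lattice_basis b hM
  have h2 : Isoc.IsOrdP (mat e (Isoc.iter F s)).det (r * h) := by
    apply isOrdP_det_of_eq (frob_pow_W a s) e he hint (Isoc.iter F s) r
    · intro m hm
      rw [← hFM]
      exact (mem_latImg F s M _).mpr ⟨m, hm, rfl⟩
    · intro y hy
      rw [← hFM] at hy
      exact (mem_latImg F s M y).mp hy
  have hne : (mat e F).det ≠ 0 := by
    intro h0
    obtain ⟨s', rfl⟩ : ∃ s', s = s' + 1 := ⟨s - 1, by omega⟩
    rw [mat_iter_succ, Matrix.det_mul, h0, zero_mul] at h2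
    exact isOrdP_ne_zero h2 rfl
  obtain ⟨d₀, hd₀⟩ := exists_isOrdP hne
  exact ⟨d₀, isOrdP_unique h2 (isOrdP_det_iter e F hd₀ s)⟩

end IsoInt

section Std

variable [PerfectRing k p] {a : ℤ} (d : ℤ) (n : ℕ)

local notation "E" i => (Pi.single i (1 : K(p, k)) : Fin (n + 1) → K(p, k))

theorem std_basis (i : Fin (n + 1)) :
    Isoc.stdIsoc (Isoc.frob p k a) d (n + 1) (E i) =
      (if (finRotate (n + 1) i).val = 0 then (p : K(p, k)) ^ d else 1) • (E (finRotate (n + 1) i)) := by
  ext l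
  rw [Isoc.stdIsoc_apply, Pi.smul_apply, smul_eq_mul, Pi.single_apply, Pi.single_apply]
  by_cases hl : l = finRotate (n + 1) i
  · subst hl
    rw [Equiv.symm_apply_apply, if_pos rfl, if_pos rfl, map_one]
  · have : ¬ (finRotate (n + 1)).symm l = i := by
      intro h
      apply hl
      rw [← h, Equiv.apply_symm_apply]
    rw [if_neg this, if_neg hl, map_zero, mul_zero, mul_zero]

theorem std_basis_lt (i : ℕ) (hi : i + 1 < n + 1) :
    Isoc.stdIsoc (Isoc.frob p k a) d (n + 1) (E (⟨i, by omega⟩ : Fin (n + 1))) =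
      E (⟨i + 1, hi⟩ : Fin (n + 1)) := by
  rw [std_basis]
  have h1 : finRotate (n + 1) ⟨i, by omega⟩ = ⟨i + 1, hi⟩ := finRotate_of_lt (by omega)
  rw [h1]
  simp

theorem std_basis_last :
    Isoc.stdIsoc (Isoc.frob p k a) d (n + 1) (E (Fin.last n)) =
      ((p : K(p, k)) ^ d) • (E (0 : Fin (n + 1))) := by
  rw [std_basis, finRotate_last]
  simp

theorem std_iter_lt (i j : ℕ) (hij : i + j < n + 1) :
    (⇑(Isoc.stdIsoc (Isoc.frob p k a) d (n + 1)))^[j] (E (⟨i, by omega⟩ : Fin (n + 1))) =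
      E (⟨i + j, hij⟩ : Fin (n + 1)) := by
  induction j with
  | zero => rfl
  | succ j ih =>
    rw [Function.iterate_succ_apply', ih (by omega)]
    exact std_basis_lt d n (i + j) (by omega)

theorem std_iter_full (i : Fin (n + 1)) :
    (⇑(Isoc.stdIsoc (Isoc.frob p k a) d (n + 1)))^[n + 1] (E i) = ((p : K(p, k)) ^ d) • (E i) := by
  obtain ⟨i, hi⟩ := i
  have e1 : (⇑(Isoc.stdIsoc (Isoc.frob p k a) d (n + 1)))^[n + 1] =
      (⇑(Isoc.stdIsoc (Isoc.frob p k a) d (n + 1)))^[i] ∘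
        (⇑(Isoc.stdIsoc (Isoc.frob p k a) d (n + 1)))^[1] ∘
          (⇑(Isoc.stdIsoc (Isoc.frob p k a) d (n + 1)))^[n - i] := by
    rw [← Function.iterate_add, ← Function.iterate_add]
    congr 1; omega
  rw [e1, Function.comp_apply, Function.comp_apply]
  have h1 := std_iter_lt (p := p) (k := k) (a := a) d n i (n - i) (by omega)
  rw [h1]
  have h2 : (⟨i + (n - i), by omega⟩ : Fin (n + 1)) = Fin.last n := by
    apply Fin.ext; simp; omega
  rw [h2, Function.iterate_one, std_basis_last, iterate_pow_smul]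
  have h3 := std_iter_lt (p := p) (k := k) (a := a) d n 0 i (by omega)
  have h4 : (⟨0, by omega⟩ : Fin (n + 1)) = 0 := rfl
  rw [h4] at h3
  rw [h3]
  congr 2
  apply Fin.ext; simp

theorem std_iter_apply (x : Fin (n + 1) → K(p, k)) (l : Fin (n + 1)) :
    (⇑(Isoc.stdIsoc (Isoc.frob p k a) d (n + 1)))^[n + 1] x l =
      (p : K(p, k)) ^ d * (Isoc.frob p k a ^ (n + 1)) (x l) := by
  have hx : x = ∑ i, x i • (E i) := by
    ext j
    simp [Finset.sum_apply, Pi.single_apply]
  have hadd : ∀ (s : Finset (Fin (n + 1))) (g : Fin (n + 1) → (Fin (n + 1) → K(p, k))),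
      (⇑(Isoc.stdIsoc (Isoc.frob p k a) d (n + 1)))^[n + 1] (∑ i ∈ s, g i) =
        ∑ i ∈ s, (⇑(Isoc.stdIsoc (Isoc.frob p k a) d (n + 1)))^[n + 1] (g i) := by
    intro s g
    exact map_sum (Isoc.iter (Isoc.stdIsoc (Isoc.frob p k a) d (n + 1)) (n + 1)) g s
  conv_lhs => rw [hx]
  rw [hadd, Finset.sum_apply]
  rw [Finset.sum_eq_single l]
  · rw [iterate_smul, std_iter_full]
    simp [mul_comm]
  · intro i _ hi
    rw [iterate_smul, std_iter_full]
    simp [Pi.single_apply, hi.symm]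
  · intro h; exact absurd (Finset.mem_univ _) h

/-- the standard lattice `W^(n+1)` -/
noncomputable def stdLat : Submodule (WittVector p k) (Fin (n + 1) → K(p, k)) :=
  LinearMap.range ((Algebra.linearMap (WittVector p k) K(p, k)).compLeft (Fin (n + 1)))

theorem mem_stdLat (x : Fin (n + 1) → K(p, k)) :
    x ∈ stdLat (p := p) (k := k) n ↔ ∀ i, ∃ w : WittVector p k, x i = algebraMap _ _ w := by
  constructor
  · rintro ⟨w, rfl⟩ i
    exact ⟨w i, rfl⟩
  · intro h
    choose w hw using h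
    exact ⟨w, by ext i; simp [hw i]⟩

theorem stdLat_lattice : (stdLat (p := p) (k := k) n).IsLattice K(p, k) := by
  constructor
  · rw [stdLat, LinearMap.range_eq_map]
    exact Submodule.FG.map _ Module.Finite.fg_top
  · rw [eq_top_iff]
    intro x _
    have hx : x = ∑ i, x i • (E i) := by
      ext j
      simp [Finset.sum_apply, Pi.single_apply]
    rw [hx]
    apply Submodule.sum_mem
    intro i _
    apply Submodule.smul_mem
    apply Submodule.subset_span
    rw [SetLike.mem_coe, mem_stdLat]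
    intro j
    by_cases hji : j = i
    · subst hji; exact ⟨1, by simp⟩
    · exact ⟨0, by simp [Pi.single_apply, hji]⟩

theorem std_latImg :
    Isoc.latImg (Isoc.stdIsoc (Isoc.frob p k a) d (n + 1)) (n + 1) (stdLat n) =
      Isoc.pPow d (stdLat (p := p) (k := k) n) := by
  ext y
  rw [mem_latImg, mem_pPow]
  constructor
  · rintro ⟨x, hx, rfl⟩
    rw [mem_stdLat] at hx
    choose w hw using hx
    have hw' : ∀ i, ∃ w'' : WittVector p k,
        (Isoc.frob p k a ^ (n + 1)) (x i) = algebraMap _ _ w'' := by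
      intro i; rw [hw i]; exact frob_pow_W a (n + 1) (w i)
    choose w'' hw'' using hw'
    refine ⟨fun i => algebraMap _ _ (w'' i), (mem_stdLat n _).mpr (fun i => ⟨w'' i, rfl⟩), ?_⟩
    ext l
    rw [std_iter_apply, Pi.smul_apply, smul_eq_mul, hw'']
  · rintro ⟨z, hz, rfl⟩
    rw [mem_stdLat] at hz
    choose w hw using hz
    have hw' : ∀ i, ∃ w' : WittVector p k,
        (Isoc.frob p k a ^ (n + 1)) (algebraMap _ _ w') = algebraMap _ _ (w i) :=
      fun i => frob_pow_surj_W a (n + 1) (w i)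
    choose w' hw'' using hw'
    refine ⟨fun i => algebraMap _ _ (w' i), (mem_stdLat n _).mpr (fun i => ⟨w' i, rfl⟩), ?_⟩
    ext l
    rw [std_iter_apply, Pi.smul_apply, smul_eq_mul, hw'', hw]

theorem std_bijective :
    Function.Bijective (Isoc.stdIsoc (Isoc.frob p k a) d (n + 1)) := by
  have hbij : Function.Bijective
      (⇑(Isoc.stdIsoc (Isoc.frob p k a) d (n + 1)))^[n + 1] := by
    have hτ : Function.Bijective (Isoc.frob p k a ^ (n + 1)) := by
      rw [RingHom.coe_pow]
      exact (frob_bijective a).iterate (n + 1)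
    constructor
    · intro x y hxy
      ext l
      have := congrFun hxy l
      rw [std_iter_apply, std_iter_apply] at this
      exact hτ.1 (mul_left_cancel₀ (zpow_ne_zero _ p_ne) this)
    · intro y
      choose x hx using fun l => hτ.2 (((p : K(p, k)) ^ d)⁻¹ * y l)
      refine ⟨x, ?_⟩
      ext l
      rw [std_iter_apply, hx, ← mul_assoc, mul_inv_cancel₀ (zpow_ne_zero _ p_ne), one_mul]
  constructor
  · have : Function.Injective ((⇑(Isoc.stdIsoc (Isoc.frob p k a) d (n + 1)))^[n] ∘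
        ⇑(Isoc.stdIsoc (Isoc.frob p k a) d (n + 1))) := by
      rw [← Function.iterate_succ]; exact hbij.1
    exact Function.Injective.of_comp this
  · have : Function.Surjective (⇑(Isoc.stdIsoc (Isoc.frob p k a) d (n + 1)) ∘
        (⇑(Isoc.stdIsoc (Isoc.frob p k a) d (n + 1)))^[n]) := by
      rw [← Function.iterate_succ']; exact hbij.2
    exact Function.Surjective.of_comp this

end Std

section Index

variable [PerfectRing k p] {h : ℕ}

open Classical in
/-- the `p`-adic order of a scalar (junk value `0` at `0`) -/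
noncomputable def ordOf (c : K(p, k)) : ℤ :=
  if hc : c ≠ 0 then Classical.choose (exists_isOrdP hc) else 0

theorem isOrdP_ordOf {c : K(p, k)} (hc : c ≠ 0) : Isoc.IsOrdP c (ordOf c) := by
  rw [ordOf, dif_pos hc]
  exact Classical.choose_spec (exists_isOrdP hc)

theorem ordOf_eq {c : K(p, k)} {r : ℤ} (h : Isoc.IsOrdP c r) : ordOf c = r :=
  isOrdP_unique (isOrdP_ordOf (isOrdP_ne_zero h)) h

theorem ordOf_mul {c c' : K(p, k)} (hc : c ≠ 0) (hc' : c' ≠ 0) :
    ordOf (c * c') = ordOf c + ordOf c' :=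
  ordOf_eq (isOrdP_mul (isOrdP_ordOf hc) (isOrdP_ordOf hc'))

theorem ordOf_one : ordOf (1 : K(p, k)) = 0 := ordOf_eq isOrdP_one

theorem ordOf_algebraMap_nonneg {w : WittVector p k}
    (hw : algebraMap (WittVector p k) K(p, k) w ≠ 0) :
    0 ≤ ordOf (algebraMap (WittVector p k) K(p, k) w) :=
  isOrdP_nonneg (isOrdP_ordOf hw)

theorem ordOf_p_pow (n : ℤ) : ordOf ((p : K(p, k)) ^ n) = n :=
  ordOf_eq ⟨1, by simp⟩

/-- a basis of `N` adapted to a lattice `A` -/
structure Adapted (e : Module.Basis (Fin h) K(p, k) N) (A : Submodule (WittVector p k) N) :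
    Prop where
  mem : ∀ j, e j ∈ A
  int : ∀ x ∈ A, ∀ i, ∃ w : WittVector p k, e.repr x i = algebraMap _ _ w

theorem exists_adapted (b : Module.Basis (Fin h) K(p, k) N) {A : Submodule (WittVector p k) N}
    (hA : A.IsLattice K(p, k)) : ∃ e : Module.Basis (Fin h) K(p, k) N, Adapted e A := by
  obtain ⟨e, h1, h2⟩ := exists_lattice_basis b hA
  exact ⟨e, h1, h2⟩

theorem toMatrix_int {eA eB : Module.Basis (Fin h) K(p, k) N}
    {A B : Submodule (WittVector p k) N} (hA : Adapted eA A) (hB : Adapted eB B) (hBA : B ≤ A) :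
    ∃ C : Matrix (Fin h) (Fin h) (WittVector p k),
      eA.toMatrix eB = C.map (algebraMap (WittVector p k) K(p, k)) := by
  have : ∀ i j, ∃ w : WittVector p k, eA.toMatrix eB i j = algebraMap _ _ w := by
    intro i j
    rw [Module.Basis.toMatrix_apply]
    exact hA.int _ (hBA (hB.mem j)) i
  choose C hC using this
  exact ⟨Matrix.of C, by ext i j; rw [hC i j]; rfl⟩

theorem det_toMatrix_ne_zero' (eA eB : Module.Basis (Fin h) K(p, k) N) :
    (eA.toMatrix eB).det ≠ 0 := det_toMatrix_ne_zero eA eB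

theorem ord_det_nonneg {eA eB : Module.Basis (Fin h) K(p, k) N}
    {A B : Submodule (WittVector p k) N} (hA : Adapted eA A) (hB : Adapted eB B) (hBA : B ≤ A) :
    0 ≤ ordOf (eA.toMatrix eB).det := by
  obtain ⟨C, hC⟩ := toMatrix_int hA hB hBA
  have hdet : (eA.toMatrix eB).det = algebraMap (WittVector p k) K(p, k) C.det := by
    rw [hC, RingHom.map_det]; rfl
  have hne := det_toMatrix_ne_zero eA eB
  rw [hdet] at hne ⊢
  exact ordOf_algebraMap_nonneg hne

theorem adapted_le_of_unit {eA eB : Module.Basis (Fin h) K(p, k) N}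
    {A B : Submodule (WittVector p k) N} (hA : Adapted eA A) (hB : Adapted eB B) (hBA : B ≤ A)
    (h0 : ordOf (eA.toMatrix eB).det = 0) : A ≤ B := by
  obtain ⟨C, hC⟩ := toMatrix_int hA hB hBA
  have hdet : (eA.toMatrix eB).det = algebraMap (WittVector p k) K(p, k) C.det := by
    rw [hC, RingHom.map_det]; rfl
  have hne := det_toMatrix_ne_zero eA eB
  have hord := isOrdP_ordOf hne
  rw [h0, hdet] at hord
  obtain ⟨u, hu⟩ := hord
  rw [zpow_zero, one_mul] at hu
  have hCu : C.det = u := (IsFractionRing.injective (WittVector p k) K(p, k)) hu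
  have hunit : IsUnit C := (Matrix.isUnit_iff_isUnit_det C).mpr (hCu ▸ u.isUnit)
  obtain ⟨D, hD⟩ := hunit.exists_right_inv
  -- eB.toMatrix eA = D.map
  have hDmap : eB.toMatrix eA = D.map (algebraMap (WittVector p k) K(p, k)) := by
    have h1 : eA.toMatrix eB * D.map (algebraMap (WittVector p k) K(p, k)) = 1 := by
      rw [hC, ← Matrix.map_mul, hD, Matrix.map_one _ (map_zero _) (map_one _)]
    have h2 : eB.toMatrix eA * eA.toMatrix eB = 1 := Module.Basis.toMatrix_mul_toMatrix_flip eB eA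
    calc eB.toMatrix eA = eB.toMatrix eA * (eA.toMatrix eB *
          D.map (algebraMap (WittVector p k) K(p, k))) := by rw [h1, Matrix.mul_one]
      _ = D.map (algebraMap (WittVector p k) K(p, k)) := by
          rw [← Matrix.mul_assoc, h2, Matrix.one_mul]
  have hmem : ∀ i, eA i ∈ B := by
    intro i
    rw [← Module.Basis.sum_toMatrix_smul_self eB eA i]
    apply Submodule.sum_mem
    intro j _
    rw [hDmap, Matrix.map_apply, algebraMap_smul]
    exact B.smul_mem _ (hB.mem j)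
  intro x hx
  rw [← eA.sum_repr x]
  apply Submodule.sum_mem
  intro i _
  obtain ⟨w, hw⟩ := hA.int x hx i
  rw [hw, algebraMap_smul]
  exact B.smul_mem _ (hmem i)

theorem ord_det_pos {eA eB : Module.Basis (Fin h) K(p, k) N}
    {A B : Submodule (WittVector p k) N} (hA : Adapted eA A) (hB : Adapted eB B) (hBA : B < A) :
    1 ≤ ordOf (eA.toMatrix eB).det := by
  have h0 := ord_det_nonneg hA hB hBA.le
  by_contra hlt
  have : ordOf (eA.toMatrix eB).det = 0 := by omega
  exact hBA.not_ge (adapted_le_of_unit hA hB hBA.le this)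

theorem ord_det_le {eA eB : Module.Basis (Fin h) K(p, k) N}
    {A B : Submodule (WittVector p k) N} (hA : Adapted eA A) (hB : Adapted eB B) (hAB : A ≤ B)
    (hBA : B ≤ Isoc.pPow (-1) A) : ordOf (eB.toMatrix eA).det ≤ h := by
  have hent : ∀ i j, ∃ w : WittVector p k,
      (p : K(p, k)) * eA.toMatrix eB i j = algebraMap _ _ w := by
    intro i j
    have h1 : ((p : K(p, k)) ^ (-(-1 : ℤ))) • eB j ∈ A := (mem_pPow' (-1) A _).mp (hBA (hB.mem j))
    obtain ⟨w, hw⟩ := hA.int _ h1 i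
    refine ⟨w, ?_⟩
    rw [Module.Basis.toMatrix_apply, ← hw, map_smul, Finsupp.smul_apply, smul_eq_mul]
    simp
  choose D hD using hent
  have hmat : (p : K(p, k)) • eA.toMatrix eB =
      (Matrix.of D).map (algebraMap (WittVector p k) K(p, k)) := by
    ext i j
    rw [Matrix.smul_apply, smul_eq_mul, hD i j]; rfl
  have hdet : (p : K(p, k)) ^ h * (eA.toMatrix eB).det =
      algebraMap (WittVector p k) K(p, k) (Matrix.of D).det := by
    have := congrArg Matrix.det hmat
    rw [Matrix.det_smul, Fintype.card_fin] at this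
    rw [this, RingHom.map_det]; rfl
  have h1 : (eA.toMatrix eB).det * (eB.toMatrix eA).det = 1 := by
    rw [← Matrix.det_mul, Module.Basis.toMatrix_mul_toMatrix_flip, Matrix.det_one]
  have hne1 := det_toMatrix_ne_zero eA eB
  have hne2 := det_toMatrix_ne_zero eB eA
  have hprod : algebraMap (WittVector p k) K(p, k) (Matrix.of D).det * (eB.toMatrix eA).det =
      (p : K(p, k)) ^ (h : ℤ) := by
    rw [← hdet, mul_assoc, h1, mul_one, zpow_natCast]
  have hneD : algebraMap (WittVector p k) K(p, k) (Matrix.of D).det ≠ 0 := by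
    rw [← hdet]; exact mul_ne_zero (pow_ne_zero _ p_ne) hne1
  have := congrArg ordOf hprod
  rw [ordOf_mul hneD hne2, ordOf_p_pow] at this
  have h3 := ordOf_algebraMap_nonneg hneD
  omega

theorem chain_bound (b : Module.Basis (Fin h) K(p, k) N) (A : ℕ → Submodule (WittVector p k) N)
    (n : ℕ) (hlat : ∀ t, (A t).IsLattice K(p, k)) (hstrict : ∀ t < n, A t < A (t + 1))
    (htop : A n ≤ Isoc.pPow (-1) (A 0)) : n ≤ h := by
  classical
  choose e he using fun t => exists_adapted b (hlat t)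
  have hmono : ∀ m ≤ n, A 0 ≤ A m := by
    intro m hm
    induction m with
    | zero => exact le_rfl
    | succ m ih => exact (ih (by omega)).trans (hstrict m (by omega)).le
  have key : ∀ m ≤ n, (m : ℤ) ≤ ordOf ((e m).toMatrix (e 0)).det := by
    intro m hm
    induction m with
    | zero => simp [ordOf_one]
    | succ m ih =>
      have h1 : (e (m + 1)).toMatrix (e 0) = (e (m + 1)).toMatrix (e m) * (e m).toMatrix (e 0) :=
        (Module.Basis.toMatrix_mul_toMatrix (e (m + 1)) (e m) (e 0)).symm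
      rw [h1, Matrix.det_mul, ordOf_mul (det_toMatrix_ne_zero _ _) (det_toMatrix_ne_zero _ _)]
      have h2 := ord_det_pos (he (m + 1)) (he m) (hstrict m (by omega))
      have h3 := ih (by omega)
      push_cast
      omega
  have h1 := key n le_rfl
  have h2 := ord_det_le (he 0) (he n) (hmono n le_rfl) htop
  omega

end Index

end H8Isoc
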