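import Mathlib
import Groth.Prelude.Def_Isoc
import Groth.Agent.H8Isoc

set_option autoImplicit false
set_option linter.unusedSectionVars false

open scoped Pointwise Isocrystal

universe u v

namespace H8Isoc

variable {p : ℕ} [Fact p.Prime] {k : Type u} [Field k] [CharP k p]
variable {N : Type v} [AddCommGroup N] [Module (WittVector p k) N] [Module K(p, k) N]
  [IsScalarTower (WittVector p k) K(p, k) N]

section Effective

variable [PerfectRing k p] {a : ℤ} (F : N →ₛₗ[Isoc.frob p k a] N)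

/-- `M_i = M + F M + ⋯ + F^i M` -/
noncomputable def Ms (M : Submodule (WittVector p k) N) : ℕ → Submodule (WittVector p k) N
  | 0 => M
  | (i + 1) => M ⊔ Isoc.latImg F 1 (Ms M i)

theorem Ms_zero (M : Submodule (WittVector p k) N) : Ms F M 0 = M := rfl

theorem Ms_succ (M : Submodule (WittVector p k) N) (i : ℕ) :
    Ms F M (i + 1) = M ⊔ Isoc.latImg F 1 (Ms F M i) := rfl

theorem M_le_Ms (M : Submodule (WittVector p k) N) (i : ℕ) : M ≤ Ms F M i := by
  cases i with
  | zero => exact le_rfl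
  | succ i => exact le_sup_left

theorem Ms_le_succ (M : Submodule (WittVector p k) N) (i : ℕ) : Ms F M i ≤ Ms F M (i + 1) := by
  induction i with
  | zero => exact le_sup_left
  | succ i ih =>
    rw [Ms_succ, Ms_succ F M (i + 1)]
    exact sup_le_sup_left (latImg_mono F 1 ih) M

theorem Ms_fg {M : Submodule (WittVector p k) N} (hM : M.FG) (i : ℕ) : (Ms F M i).FG := by
  induction i with
  | zero => exact hM
  | succ i ih => exact hM.sup (latImg_fg F 1 ih)

theorem Ms_lattice {M : Submodule (WittVector p k) N} (hM : M.IsLattice K(p, k)) (i : ℕ) :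
    (Ms F M i).IsLattice K(p, k) := by
  constructor
  · exact Ms_fg F hM.fg i
  · rw [eq_top_iff, ← hM.span_eq_top]
    exact Submodule.span_mono (M_le_Ms F M i)

theorem latImg_comm (s t : ℕ) (X : Submodule (WittVector p k) N) :
    Isoc.latImg F s (Isoc.latImg F t X) = Isoc.latImg F t (Isoc.latImg F s X) := by
  rw [← latImg_add, ← latImg_add, Nat.add_comm]

/-- `M_{t+1} = M_t + F^{t+1} M` -/
theorem Ms_succ_eq (M : Submodule (WittVector p k) N) (t : ℕ) :
    Ms F M (t + 1) = Ms F M t ⊔ Isoc.latImg F (t + 1) M := by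
  induction t with
  | zero => rfl
  | succ t ih =>
    rw [Ms_succ F M (t + 1), ih, latImg_sup, ← latImg_add, ← sup_assoc, ← Ms_succ, ih,
      Nat.add_comm 1 (t + 1)]

theorem latImg_le_Ms (M : Submodule (WittVector p k) N) (t : ℕ) :
    Isoc.latImg F t M ≤ Ms F M t := by
  cases t with
  | zero => rw [latImg_zero]; exact le_rfl
  | succ t => rw [Ms_succ_eq]; exact le_sup_right

theorem Ms_add_le (M : Submodule (WittVector p k) N) (n i : ℕ) :
    Ms F M (i + n + 1) ≤ Ms F M n ⊔ Isoc.latImg F (n + 1) (Ms F M i) := by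
  induction i with
  | zero =>
    rw [Nat.zero_add, Ms_succ_eq, Ms_zero]
  | succ i ih =>
    have e : i + 1 + n + 1 = (i + n + 1) + 1 := by ring
    rw [e, Ms_succ_eq]
    apply sup_le
    · exact ih.trans (sup_le_sup_left (latImg_mono F _ (Ms_le_succ F M i)) _)
    · have e2 : i + n + 1 + 1 = (n + 1) + (i + 1) := by ring
      rw [e2, latImg_add]
      exact le_sup_of_le_right (latImg_mono F _ (latImg_le_Ms F M (i + 1)))

theorem hyp_Ms {M : Submodule (WittVector p k) N} {n : ℕ}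
    (hFM : Isoc.latImg F n M ≤ Isoc.pPow (-1) M) (j : ℕ) :
    Isoc.latImg F n (Ms F M j) ≤ Isoc.pPow (-1) (Ms F M j) := by
  induction j with
  | zero => exact hFM
  | succ j ih =>
    rw [Ms_succ, latImg_sup, pPow_sup, latImg_comm, ← latImg_pPow]
    exact sup_le_sup hFM (latImg_mono F 1 ih)

theorem effective_of {h : ℕ} (b : Module.Basis (Fin h) K(p, k) N)
    {M : Submodule (WittVector p k) N} (hM : M.IsLattice K(p, k))
    (hFM : Isoc.latImg F (h + 1) M ≤ Isoc.pPow (-1) M) : Isoc.IsEffective F := by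
  by_contra hne
  have hstrict : ∀ t, Ms F M t < Ms F M (t + 1) := by
    intro t
    refine lt_of_le_of_ne (Ms_le_succ F M t) (fun heq => hne ?_)
    refine ⟨Ms F M t, Ms_lattice F hM t, ?_⟩
    calc Isoc.latImg F 1 (Ms F M t) ≤ Ms F M (t + 1) := by rw [Ms_succ]; exact le_sup_right
      _ = Ms F M t := heq.symm
  have htop : Ms F M (h + (h + 1)) ≤ Isoc.pPow (-1) (Ms F M (h + 0)) := by
    have e : h + (h + 1) = h + h + 1 := by ring
    rw [e, Nat.add_zero]
    refine (Ms_add_le F M h h).trans (sup_le ?_ (hyp_Ms F hFM h))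
    have := pPow_anti (show (-1 : ℤ) ≤ 0 by norm_num) (Ms F M h)
    rwa [pPow_zero] at this
  have := chain_bound b (fun t => Ms F M (h + t)) (h + 1) (fun t => Ms_lattice F hM (h + t))
    (fun t _ => hstrict (h + t)) htop
  omega

end Effective

section TwistMap

variable [PerfectRing k p] {a : ℤ} (F : N →ₛₗ[Isoc.frob p k a] N)

theorem frob_pow_algebraMap (a : ℤ) (s : ℕ) (w : WittVector p k) :
    (Isoc.frob p k a ^ s) (algebraMap _ _ w) =
      algebraMap _ _ (((WittVector.frobeniusEquiv p k ^ a) ^ s) w) := by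
  induction s with
  | zero => rfl
  | succ s ih =>
    rw [pow_succ', RingHom.mul_def, RingHom.comp_apply, ih, Isoc.frob_algebraMap, pow_succ']
    rfl

theorem frob_pow (a : ℤ) (s : ℕ) : Isoc.frob p k a ^ s = Isoc.frob p k (a * s) := by
  apply IsLocalization.ringHom_ext (nonZeroDivisors (WittVector p k))
  ext w
  rw [RingHom.comp_apply, RingHom.comp_apply, frob_pow_algebraMap, Isoc.frob_algebraMap,
    zpow_mul, zpow_natCast]

/-- the twisted iterate `p^(-r) F^s` as a `σ^(a s)`-semilinear map -/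
noncomputable def twist (r : ℤ) (s : ℕ) : N →ₛₗ[Isoc.frob p k (a * s)] N where
  toFun x := ((p : K(p, k)) ^ (-r)) • (⇑F)^[s] x
  map_add' x y := by rw [iterate_add, smul_add]
  map_smul' c x := by
    rw [iterate_smul, smul_comm, frob_pow]

theorem twist_apply (r : ℤ) (s : ℕ) (x : N) :
    twist F r s x = ((p : K(p, k)) ^ (-r)) • (⇑F)^[s] x := rfl

theorem twistMap_iterate (r : ℤ) (s j : ℕ) (x : N) :
    (⇑(twist F r s))^[j] x = ((p : K(p, k)) ^ (-(r * j))) • (⇑F)^[s * j] x := by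
  induction j with
  | zero => simp
  | succ j ih =>
    rw [Function.iterate_succ_apply', ih, twist_apply, iterate_pow_smul, smul_smul,
      ← zpow_add₀ p_ne, ← Function.iterate_add_apply]
    congr 2
    · push_cast; ring
    · ring

theorem latImg_twist' (r : ℤ) (s j : ℕ) (M : Submodule (WittVector p k) N) :
    Isoc.latImg (twist F r s) j M = Isoc.pPow (-(r * j)) (Isoc.latImg F (s * j) M) := by
  ext y
  rw [mem_latImg, mem_pPow]
  constructor
  · rintro ⟨x, hx, rfl⟩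
    exact ⟨(⇑F)^[s * j] x, (mem_latImg F _ M _).mpr ⟨x, hx, rfl⟩, (twistMap_iterate F r s j x).symm⟩
  · rintro ⟨z, hz, rfl⟩
    obtain ⟨x, hx, rfl⟩ := (mem_latImg F _ M z).mp hz
    exact ⟨x, hx, twistMap_iterate F r s j x⟩

/-- if `G^n M ⊆ M` for some `n ≥ 1` then `G` is effective -/
theorem effective_of_pow {M : Submodule (WittVector p k) N} (hM : M.IsLattice K(p, k)) {n : ℕ}
    (hn : 1 ≤ n) (h : Isoc.latImg F n M ≤ M) : Isoc.IsEffective F := by
  obtain ⟨t, rfl⟩ : ∃ t, n = t + 1 := ⟨n - 1, by omega⟩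
  refine ⟨Ms F M t, Ms_lattice F hM t, ?_⟩
  calc Isoc.latImg F 1 (Ms F M t) ≤ Ms F M (t + 1) := by rw [Ms_succ]; exact le_sup_right
    _ = Ms F M t ⊔ Isoc.latImg F (t + 1) M := Ms_succ_eq F M t
    _ ≤ Ms F M t := sup_le le_rfl (h.trans (M_le_Ms F M t))

/-- S17144 for the twisted iterate, phrased for `F` -/
theorem exists_lattice_of_twist {h : ℕ} (b : Module.Basis (Fin h) K(p, k) N) (r : ℤ) (s : ℕ)
    {M : Submodule (WittVector p k) N} (hM : M.IsLattice K(p, k))
    (hFM : Isoc.latImg F (s * (h + 1)) M ≤ Isoc.pPow (r * (h + 1) - 1) M) :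
    ∃ M' : Submodule (WittVector p k) N, M'.IsLattice K(p, k) ∧
      Isoc.latImg F s M' ≤ Isoc.pPow r M' := by
  have h1 : Isoc.latImg (twist F r s) (h + 1) M ≤ Isoc.pPow (-1) M := by
    rw [latImg_twist']
    have := pPow_mono (-(r * ((h + 1 : ℕ) : ℤ))) hFM
    rw [← pPow_add] at this
    refine this.trans (le_of_eq ?_)
    congr 1; push_cast; ring
  obtain ⟨M', hM', hle⟩ := effective_of (twist F r s) b hM h1
  refine ⟨M', hM', ?_⟩
  rw [latImg_twist'] at hle
  have := pPow_mono r hle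
  rw [← pPow_add] at this
  have e : r + -(r * ((1 : ℕ) : ℤ)) = 0 := by push_cast; ring
  rw [e, pPow_zero, Nat.mul_one] at this
  exact this

theorem of_twist_effective (r : ℤ) (s : ℕ) (h : Isoc.IsEffective (twist F r s)) :
    ∃ M' : Submodule (WittVector p k) N, M'.IsLattice K(p, k) ∧
      Isoc.latImg F s M' ≤ Isoc.pPow r M' := by
  obtain ⟨M', hM', hle⟩ := h
  refine ⟨M', hM', ?_⟩
  rw [latImg_twist'] at hle
  have := pPow_mono r hle
  rw [← pPow_add] at this
  have e : r + -(r * ((1 : ℕ) : ℤ)) = 0 := by push_cast; ring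
  rw [e, pPow_zero, Nat.mul_one] at this
  exact this

/-- strict inequality `R/S < λ₁` gives a lattice with `F^S M ⊆ p^R M` -/
theorem exists_lattice_of_lt {M : Submodule (WittVector p k) N} (hM : M.IsLattice K(p, k))
    {o : ℕ → ℤ} (ho : ∀ n : ℕ, 1 ≤ n → Isoc.IsOrd M F n (o n)) {lam : ℝ}
    (hlim : Filter.Tendsto (fun n : ℕ => (o n : ℝ) / n) Filter.atTop (nhds lam))
    (R : ℤ) (S : ℕ) (hS : 0 < S) (hlt : (R : ℝ) / S < lam) :
    ∃ M' : Submodule (WittVector p k) N, M'.IsLattice K(p, k) ∧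
      Isoc.latImg F S M' ≤ Isoc.pPow R M' := by
  have hmul : Filter.Tendsto (fun n : ℕ => S * n) Filter.atTop Filter.atTop :=
    (strictMono_mul_left_of_pos hS).tendsto_atTop
  have h2 := hlim.comp hmul
  have h3 := (h2.eventually_const_lt hlt).and (Filter.eventually_ge_atTop 1)
  obtain ⟨n₀, hn₀, hn1⟩ := h3.exists
  simp only [Function.comp_apply] at hn₀
  have hS0 : (0 : ℝ) < S := by exact_mod_cast hS
  have hn0 : (0 : ℝ) < n₀ := by exact_mod_cast hn1
  have hRo : R * n₀ ≤ o (S * n₀) := by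
    have h4 : (R : ℝ) * ((S * n₀ : ℕ) : ℝ) < (o (S * n₀) : ℝ) * S := by
      rw [div_lt_div_iff₀ hS0 (by positivity)] at hn₀
      exact hn₀
    have h5 : (R : ℝ) * n₀ < o (S * n₀) := by
      push_cast at h4
      nlinarith
    have : ((R * n₀ : ℤ) : ℝ) < ((o (S * n₀) : ℤ) : ℝ) := by push_cast; exact h5
    exact le_of_lt (by exact_mod_cast this)
  apply of_twist_effective F R S
  apply effective_of_pow (twist F R S) hM hn1
  rw [latImg_twist']
  have h6 := (ho (S * n₀) (Nat.mul_pos hS hn1)).1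
  calc Isoc.pPow (-(R * n₀)) (Isoc.latImg F (S * n₀) M)
      ≤ Isoc.pPow (-(R * n₀)) (Isoc.pPow (o (S * n₀)) M) := pPow_mono _ h6
    _ ≤ Isoc.pPow (-(R * n₀)) (Isoc.pPow (R * n₀) M) := pPow_mono _ (pPow_anti hRo M)
    _ = M := by rw [← pPow_add, neg_add_cancel, pPow_zero]

/-- S17145 -/
theorem exists_lattice_of_le {h : ℕ} (b : Module.Basis (Fin h) K(p, k) N)
    {lam : ℝ} (hlam : Isoc.IsFirstSlope F lam) (r : ℤ) (s : ℕ) (hs : 0 < s)
    (hrs : (r : ℝ) / s ≤ lam) :
    ∃ M' : Submodule (WittVector p k) N, M'.IsLattice K(p, k) ∧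
      Isoc.latImg F s M' ≤ Isoc.pPow r M' := by
  obtain ⟨M, hM, o, ho, hlim⟩ := hlam
  have hs0 : (0 : ℝ) < s := by exact_mod_cast hs
  have hlt : ((r * (h + 1) - 1 : ℤ) : ℝ) / ((s * (h + 1) : ℕ) : ℝ) < lam := by
    refine lt_of_lt_of_le ?_ hrs
    have hh : (0 : ℝ) < (h : ℝ) + 1 := by positivity
    push_cast
    rw [div_lt_div_iff₀ (by positivity) hs0]
    nlinarith
  obtain ⟨M', hM', hle⟩ := exists_lattice_of_lt F hM ho hlim (r * (h + 1) - 1) (s * (h + 1))
    (Nat.mul_pos hs (Nat.succ_pos h)) hlt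
  exact exists_lattice_of_twist F b r s hM' hle

end TwistMap

section SlopeFacts

variable [PerfectRing k p] {a : ℤ} (F : N →ₛₗ[Isoc.frob p k a] N)

/-- comparison of orders for two lattices -/
theorem ord_compare {M M' : Submodule (WittVector p k) N} {c c' : ℕ} {o o' : ℕ → ℤ}
    (h : M ≤ Isoc.pPow (-(c : ℤ)) M') (h' : M' ≤ Isoc.pPow (-(c' : ℤ)) M)
    (ho : ∀ n : ℕ, 1 ≤ n → Isoc.IsOrd M F n (o n)) (ho' : ∀ n : ℕ, 1 ≤ n → Isoc.IsOrd M' F n (o' n))
    (n : ℕ) (hn : 1 ≤ n) : o n - c - c' ≤ o' n := by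
  apply isOrd_le F (ho' n hn)
  calc Isoc.latImg F n M' ≤ Isoc.latImg F n (Isoc.pPow (-(c' : ℤ)) M) := latImg_mono F n h'
    _ = Isoc.pPow (-(c' : ℤ)) (Isoc.latImg F n M) := latImg_pPow F n _ M
    _ ≤ Isoc.pPow (-(c' : ℤ)) (Isoc.pPow (o n) M) := pPow_mono _ (ho n hn).1
    _ ≤ Isoc.pPow (-(c' : ℤ)) (Isoc.pPow (o n) (Isoc.pPow (-(c : ℤ)) M')) :=
        pPow_mono _ (pPow_mono _ h)
    _ = Isoc.pPow (o n - c - c') M' := by
        rw [← pPow_add, ← pPow_add]; congr 1; ring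

/-- S17142 as a lemma -/
theorem slope_indep {M₁ M₂ : Submodule (WittVector p k) N} (hM₁ : M₁.IsLattice K(p, k))
    (hM₂ : M₂.IsLattice K(p, k)) {o₁ o₂ : ℕ → ℤ}
    (ho₁ : ∀ n : ℕ, 1 ≤ n → Isoc.IsOrd M₁ F n (o₁ n))
    (ho₂ : ∀ n : ℕ, 1 ≤ n → Isoc.IsOrd M₂ F n (o₂ n)) {lam₁ lam₂ : ℝ}
    (h₁ : Filter.Tendsto (fun n : ℕ => (o₁ n : ℝ) / n) Filter.atTop (nhds lam₁))
    (h₂ : Filter.Tendsto (fun n : ℕ => (o₂ n : ℝ) / n) Filter.atTop (nhds lam₂)) :
    lam₁ = lam₂ := by
  obtain ⟨c₁, hc₁⟩ := exists_le_pPow_neg hM₁.fg hM₂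
  obtain ⟨c₂, hc₂⟩ := exists_le_pPow_neg hM₂.fg hM₁
  have k1 := ord_compare F hc₁ hc₂ ho₁ ho₂
  have k2 := ord_compare F hc₂ hc₁ ho₂ ho₁
  have hdiff : Filter.Tendsto (fun n : ℕ => (o₁ n : ℝ) / n - (o₂ n : ℝ) / n) Filter.atTop
      (nhds (lam₁ - lam₂)) := h₁.sub h₂
  have hzero : Filter.Tendsto (fun n : ℕ => (o₁ n : ℝ) / n - (o₂ n : ℝ) / n) Filter.atTop
      (nhds 0) := by
    apply squeeze_zero_norm' (a := fun n : ℕ => ((c₁ : ℝ) + c₂) / n)
    · filter_upwards [Filter.eventually_ge_atTop 1] with n hn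
      have hn0 : (0 : ℝ) < n := by exact_mod_cast hn
      rw [← sub_div, Real.norm_eq_abs, abs_div, abs_of_pos hn0]
      apply div_le_div_of_nonneg_right _ hn0.le
      have a1 := k1 n hn
      have a2 := k2 n hn
      rw [abs_le]
      constructor
      · have : (o₂ n : ℝ) - c₂ - c₁ ≤ o₁ n := by exact_mod_cast a2
        linarith
      · have : (o₁ n : ℝ) - c₁ - c₂ ≤ o₂ n := by exact_mod_cast a1
        linarith
    · exact tendsto_const_div_atTop_nhds_zero_nat _
  have := tendsto_nhds_unique hdiff hzero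
  linarith

/-- (L1) the first slope can be computed from any lattice -/
theorem first_slope_of_lattice (hF : Isoc.IsIsoc F) {lam : ℝ} (hlam : Isoc.IsFirstSlope F lam)
    {M' : Submodule (WittVector p k) N} (hM' : M'.IsLattice K(p, k)) :
    ∃ o' : ℕ → ℤ, (∀ n : ℕ, Isoc.IsOrd M' F n (o' n)) ∧
      Filter.Tendsto (fun n : ℕ => (o' n : ℝ) / n) Filter.atTop (nhds lam) := by
  obtain ⟨M, hM, o, ho, hlim⟩ := hlam
  have hM0 : M ≠ ⊥ := isOrd_ne_bot F (ho 1 le_rfl)
  have hnt : Nontrivial N := by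
    obtain ⟨x, hx, hx0⟩ := (Submodule.ne_bot_iff _).mp hM0
    exact ⟨⟨x, 0, hx0⟩⟩
  obtain ⟨o', ho', lam', hlim'⟩ := exists_ord_limit F hF.bijective hM' (lattice_ne_bot hM')
  refine ⟨o', ho', ?_⟩
  have := slope_indep F hM hM' ho (fun n _ => ho' n) hlim hlim'
  rw [this]; exact hlim'

/-- (L2) `o(n)/n ≤ λ₁` -/
theorem ord_div_le_slope {M : Submodule (WittVector p k) N} {o : ℕ → ℤ}
    (ho : ∀ n : ℕ, Isoc.IsOrd M F n (o n)) {lam : ℝ}
    (hlim : Filter.Tendsto (fun n : ℕ => (o n : ℝ) / n) Filter.atTop (nhds lam))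
    (n : ℕ) (hn : 1 ≤ n) : (o n : ℝ) / n ≤ lam := by
  have hmul : ∀ m : ℕ, (m : ℤ) * o n ≤ o (m * n) := by
    intro m
    induction m with
    | zero =>
      simp only [Nat.cast_zero, zero_mul]
      have h0 := ho 0
      have : Isoc.latImg F 0 M ≤ Isoc.pPow 0 M := by rw [latImg_zero, pPow_zero]
      exact isOrd_le F h0 this
    | succ m ih =>
      have := isOrd_superadd F (ho (m * n)) (ho n) (ho (m * n + n))
      have e : (m + 1) * n = m * n + n := by ring
      rw [e]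
      push_cast
      linarith
  have htend : Filter.Tendsto (fun m : ℕ => (o (m * n) : ℝ) / ((m * n : ℕ) : ℝ)) Filter.atTop
      (nhds lam) := by
    have hmulT : Filter.Tendsto (fun m : ℕ => m * n) Filter.atTop Filter.atTop :=
      (strictMono_mul_right_of_pos hn).tendsto_atTop
    exact hlim.comp hmulT
  apply ge_of_tendsto htend
  filter_upwards [Filter.eventually_ge_atTop 1] with m hm
  have hn0 : (0 : ℝ) < n := by exact_mod_cast hn
  have hm0 : (0 : ℝ) < m := by exact_mod_cast hm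
  rw [div_le_div_iff₀ hn0 (by positivity)]
  have h1 : ((m : ℤ) * o n : ℝ) ≤ (o (m * n) : ℝ) := by exact_mod_cast hmul m
  push_cast at h1 ⊢
  nlinarith

/-- (L2') a lattice with `F^n M' ⊆ p^R M'` bounds the first slope from below -/
theorem le_slope_of_lattice (hF : Isoc.IsIsoc F) {lam : ℝ} (hlam : Isoc.IsFirstSlope F lam)
    {M' : Submodule (WittVector p k) N} (hM' : M'.IsLattice K(p, k)) {n : ℕ} (hn : 1 ≤ n) {R : ℤ}
    (h : Isoc.latImg F n M' ≤ Isoc.pPow R M') : (R : ℝ) / n ≤ lam := by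
  obtain ⟨o', ho', hlim'⟩ := first_slope_of_lattice F hF hlam hM'
  have h1 := ord_div_le_slope F ho' hlim' n hn
  have h2 : R ≤ o' n := isOrd_le F (ho' n) h
  have hn0 : (0 : ℝ) < n := by exact_mod_cast hn
  have h3 : (R : ℝ) / n ≤ (o' n : ℝ) / n := by
    apply div_le_div_of_nonneg_right _ hn0.le
    exact_mod_cast h2
  linarith

end SlopeFacts

section Nilp

variable [PerfectRing k p] {a : ℤ} (G : N →ₛₗ[Isoc.frob p k a] N)

/-- `K_i = {x ∈ M : G^i x ∈ pM}` -/
def Kn (M : Submodule (WittVector p k) N) (i : ℕ) : Submodule (WittVector p k) N where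
  carrier := {x | x ∈ M ∧ (⇑G)^[i] x ∈ Isoc.pPow 1 M}
  add_mem' := by
    rintro x y ⟨hx1, hx2⟩ ⟨hy1, hy2⟩
    exact ⟨M.add_mem hx1 hy1, by rw [iterate_add]; exact Submodule.add_mem _ hx2 hy2⟩
  zero_mem' := ⟨M.zero_mem, by rw [iterate_zero]; exact Submodule.zero_mem _⟩
  smul_mem' := by
    rintro w x ⟨hx1, hx2⟩
    refine ⟨M.smul_mem w hx1, ?_⟩
    obtain ⟨w'', hw''⟩ := frob_pow_W (p := p) (k := k) a i w
    rw [← algebraMap_smul K(p, k) w x, iterate_smul, hw'', algebraMap_smul]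
    exact Submodule.smul_mem _ _ hx2

theorem mem_Kn (M : Submodule (WittVector p k) N) (i : ℕ) (x : N) :
    x ∈ Kn G M i ↔ x ∈ M ∧ (⇑G)^[i] x ∈ Isoc.pPow 1 M := Iff.rfl

theorem Kn_le (M : Submodule (WittVector p k) N) (i : ℕ) : Kn G M i ≤ M := fun _ hx => hx.1

theorem Kn_zero (M : Submodule (WittVector p k) N) : Kn G M 0 = Isoc.pPow 1 M := by
  ext x
  rw [mem_Kn]
  constructor
  · exact fun h => h.2
  · exact fun h => ⟨pPow_nat_le 1 M h, h⟩

variable {M : Submodule (WittVector p k) N} (hG : Isoc.latImg G 1 M ≤ M)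

include hG in
theorem iterate_mem_of_stable (i : ℕ) {x : N} (hx : x ∈ M) : (⇑G)^[i] x ∈ M := by
  induction i with
  | zero => exact hx
  | succ i ih =>
    rw [Function.iterate_succ_apply']
    exact hG ((mem_latImg G 1 M _).mpr ⟨_, ih, rfl⟩)

include hG in
theorem iterate_mem_pPow_of_stable (i : ℕ) {x : N} (hx : x ∈ Isoc.pPow 1 M) :
    (⇑G)^[i] x ∈ Isoc.pPow 1 M := by
  obtain ⟨m, hm, rfl⟩ := (mem_pPow 1 M x).mp hx
  rw [iterate_pow_smul]
  exact smul_mem_pPow 1 M (iterate_mem_of_stable G hG i hm)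

include hG in
theorem pPow_le_Kn (i : ℕ) : Isoc.pPow 1 M ≤ Kn G M i :=
  fun _ hx => ⟨pPow_nat_le 1 M hx, iterate_mem_pPow_of_stable G hG i hx⟩

include hG in
theorem Kn_mono {i j : ℕ} (hij : i ≤ j) : Kn G M i ≤ Kn G M j := by
  obtain ⟨t, rfl⟩ := Nat.exists_eq_add_of_le hij
  intro x hx
  refine ⟨hx.1, ?_⟩
  rw [Nat.add_comm, Function.iterate_add_apply]
  exact iterate_mem_pPow_of_stable G hG t hx.2

include hG in
theorem Kn_lattice (hM : M.IsLattice K(p, k)) (i : ℕ) : (Kn G M i).IsLattice K(p, k) := by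
  constructor
  · have hN : IsNoetherian (WittVector p k) M := isNoetherian_of_fg_of_noetherian M hM.fg
    exact (isNoetherian_submodule.mp hN) _ (Kn_le G M i)
  · rw [eq_top_iff]
    have h1 : (Isoc.pPow 1 M).IsLattice K(p, k) := by
      constructor
      · exact pPow_fg 1 hM.fg
      · rw [eq_top_iff]
        intro x _
        obtain ⟨n, hn⟩ := exists_pow_smul_mem hM x
        have h2 : ((p : K(p, k)) ^ (1 : ℤ)) • (((p : K(p, k)) ^ n) • x) ∈
            Submodule.span K(p, k) (Isoc.pPow 1 M : Set N) :=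
          Submodule.subset_span (smul_mem_pPow 1 M hn)
        have h3 := Submodule.smul_mem _ (((p : K(p, k)) ^ (1 : ℤ) * (p : K(p, k)) ^ n)⁻¹) h2
        have hne : (p : K(p, k)) ^ (1 : ℤ) * (p : K(p, k)) ^ n ≠ 0 :=
          mul_ne_zero (zpow_ne_zero _ p_ne) (pow_ne_zero _ p_ne)
        rwa [smul_smul, smul_smul, mul_assoc, inv_mul_cancel₀ hne, one_smul] at h3
    rw [← h1.span_eq_top]
    exact Submodule.span_mono (pPow_le_Kn G hG i)

include hG in
theorem Kn_stab {i : ℕ} (h : Kn G M i = Kn G M (i + 1)) : ∀ j, i ≤ j → Kn G M j = Kn G M i := by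
  intro j hj
  induction j, hj using Nat.le_induction with
  | base => rfl
  | succ j hj ih =>
    apply le_antisymm _ (Kn_mono G hG (by omega))
    intro x hx
    have hGx : G x ∈ Kn G M j := by
      refine ⟨hG ((mem_latImg G 1 M _).mpr ⟨x, hx.1, rfl⟩), ?_⟩
      rw [← Function.iterate_succ_apply]
      exact hx.2
    rw [ih] at hGx
    have : x ∈ Kn G M (i + 1) := ⟨hx.1, by rw [Function.iterate_succ_apply]; exact hGx.2⟩
    rw [← h] at this
    exact this

include hG in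
/-- a topologically nilpotent stable map satisfies `G^h M ⊆ p M` -/
theorem nilp_bound {h : ℕ} (b : Module.Basis (Fin h) K(p, k) N) (hM : M.IsLattice K(p, k))
    {n : ℕ} (hn : Isoc.latImg G n M ≤ Isoc.pPow 1 M) : Isoc.latImg G h M ≤ Isoc.pPow 1 M := by
  have hKn : Kn G M n = M := by
    apply le_antisymm (Kn_le G M n)
    intro x hx
    exact ⟨hx, hn ((mem_latImg G n M _).mpr ⟨x, hx, rfl⟩)⟩
  have hKh : Kn G M h = M := by
    by_contra hne
    have hstrict : ∀ t < h + 1, Kn G M t < Kn G M (t + 1) := by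
      intro t ht
      refine lt_of_le_of_ne (Kn_mono G hG (by omega)) (fun heq => hne ?_)
      have hst := Kn_stab G hG heq
      apply le_antisymm (Kn_le G M h)
      calc M = Kn G M n := hKn.symm
        _ ≤ Kn G M (max n h) := Kn_mono G hG (le_max_left _ _)
        _ = Kn G M t := hst _ (by omega)
        _ ≤ Kn G M h := Kn_mono G hG (by omega)
    have htop : Kn G M (h + 1) ≤ Isoc.pPow (-1) (Kn G M 0) := by
      rw [Kn_zero, ← pPow_add]
      simp only [Int.reduceNeg, neg_add_cancel]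
      rw [pPow_zero]
      exact Kn_le G M _
    have := chain_bound b (Kn G M) (h + 1) (Kn_lattice G hG hM) hstrict htop
    omega
  intro y hy
  obtain ⟨x, hx, rfl⟩ := (mem_latImg G h M y).mp hy
  rw [← hKh] at hx
  exact hx.2

end Nilp

end H8Isoc
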