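import Mathlib
import Groth.Prelude.Def_Isoc
import Groth.Agent.H8Isoc2

set_option autoImplicit false
set_option linter.unusedSectionVars false

open scoped Pointwise Isocrystal

universe u v

namespace H8Isoc

variable {p : ℕ} [Fact p.Prime] {k : Type u} [Field k] [CharP k p]
variable {N : Type v} [AddCommGroup N] [Module (WittVector p k) N] [Module K(p, k) N]
  [IsScalarTower (WittVector p k) K(p, k) N]

section Rational

variable [PerfectRing k p] {a : ℤ} (F : N →ₛₗ[Isoc.frob p k a] N)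

theorem twist_stable {r : ℤ} {s : ℕ} {M : Submodule (WittVector p k) N}
    (h : Isoc.latImg F s M ≤ Isoc.pPow r M) : Isoc.latImg (twist F r s) 1 M ≤ M := by
  rw [latImg_twist', Nat.mul_one]
  calc Isoc.pPow (-(r * ((1 : ℕ) : ℤ))) (Isoc.latImg F s M)
      ≤ Isoc.pPow (-(r * ((1 : ℕ) : ℤ))) (Isoc.pPow r M) := pPow_mono _ h
    _ = M := by
        rw [← pPow_add]
        have : -(r * ((1 : ℕ) : ℤ)) + r = 0 := by push_cast; ring
        rw [this, pPow_zero]

theorem first_slope_rational (hF : Isoc.IsIsoc F) {h : ℕ} (b : Module.Basis (Fin h) K(p, k) N)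
    {lam : ℝ} (hlam : Isoc.IsFirstSlope F lam) :
    ∃ (r : ℤ) (s : ℕ) (M : Submodule (WittVector p k) N), 0 < s ∧ s ≤ h ∧ lam = (r : ℝ) / s ∧
      M.IsLattice K(p, k) ∧ Isoc.latImg F s M ≤ Isoc.pPow r M := by
  -- h ≥ 1
  have hpos : 0 < h := by
    obtain ⟨M, hM, o, ho, hlim⟩ := hlam
    have hM0 : M ≠ ⊥ := isOrd_ne_bot F (ho 1 le_rfl)
    obtain ⟨x, hx, hx0⟩ := (Submodule.ne_bot_iff _).mp hM0
    by_contra h0
    have : h = 0 := by omega
    subst this
    apply hx0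
    rw [← b.sum_repr x]
    simp
  obtain ⟨s, hs0, hsh, habs⟩ := Real.exists_nat_abs_mul_sub_round_le lam hpos
  set r : ℤ := round ((s : ℝ) * lam) with hr
  have hs0' : (0 : ℝ) < s := by exact_mod_cast hs0
  have hh0 : (0 : ℝ) < (h : ℝ) + 1 := by positivity
  have habs' := abs_le.mp habs
  -- step 2
  have hle1 : ((r * (h + 1) - 1 : ℤ) : ℝ) / ((s * (h + 1) : ℕ) : ℝ) ≤ lam := by
    push_cast
    rw [div_le_iff₀ (by positivity)]
    have h1 := habs'.1
    have h2 : (1 : ℝ) / ((h : ℝ) + 1) * ((h : ℝ) + 1) = 1 := by field_simp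
    nlinarith
  obtain ⟨M₁, hM₁, hle₁⟩ := exists_lattice_of_le F b hlam (r * (h + 1) - 1) (s * (h + 1))
    (Nat.mul_pos hs0 (Nat.succ_pos h)) hle1
  obtain ⟨M₂, hM₂, hle₂⟩ := exists_lattice_of_twist F b r s hM₁ hle₁
  have hrs_le : (r : ℝ) / s ≤ lam := le_slope_of_lattice F hF hlam hM₂ hs0 hle₂
  refine ⟨r, s, M₂, hs0, hsh, ?_, hM₂, hle₂⟩
  -- step 3
  by_contra hne
  have hlt : (r : ℝ) / s < lam := lt_of_le_of_ne hrs_le (fun h => hne h.symm)
  have hG := twist_stable F hle₂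
  obtain ⟨o₂, ho₂, hlim₂⟩ := first_slope_of_lattice F hF hlam hM₂
  -- find n with G^n M₂ ⊆ p M₂
  have hmul : Filter.Tendsto (fun n : ℕ => s * n) Filter.atTop Filter.atTop :=
    (strictMono_mul_left_of_pos hs0).tendsto_atTop
  have h3 := ((hlim₂.comp hmul).eventually_const_lt hlt).and (Filter.eventually_ge_atTop 1)
  obtain ⟨n₀, hn₀, hn1⟩ := h3.exists
  simp only [Function.comp_apply] at hn₀
  have hn0 : (0 : ℝ) < n₀ := by exact_mod_cast hn1
  have hRo : r * n₀ + 1 ≤ o₂ (s * n₀) := by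
    have h4 : (r : ℝ) * ((s * n₀ : ℕ) : ℝ) < (o₂ (s * n₀) : ℝ) * s := by
      rw [div_lt_div_iff₀ hs0' (by positivity)] at hn₀
      exact hn₀
    have h5 : (r : ℝ) * n₀ < o₂ (s * n₀) := by
      push_cast at h4
      nlinarith
    have : ((r * n₀ : ℤ) : ℝ) < ((o₂ (s * n₀) : ℤ) : ℝ) := by push_cast; exact h5
    have := (by exact_mod_cast this : r * n₀ < o₂ (s * n₀))
    omega
  have hnil : Isoc.latImg (twist F r s) n₀ M₂ ≤ Isoc.pPow 1 M₂ := by
    rw [latImg_twist']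
    calc Isoc.pPow (-(r * n₀)) (Isoc.latImg F (s * n₀) M₂)
        ≤ Isoc.pPow (-(r * n₀)) (Isoc.pPow (o₂ (s * n₀)) M₂) := pPow_mono _ (ho₂ _).1
      _ ≤ Isoc.pPow (-(r * n₀)) (Isoc.pPow (r * n₀ + 1) M₂) := pPow_mono _ (pPow_anti hRo M₂)
      _ = Isoc.pPow 1 M₂ := by rw [← pPow_add]; congr 1; ring
  have hbound := nilp_bound (twist F r s) hG b hM₂ hnil
  rw [latImg_twist'] at hbound
  have hF2 : Isoc.latImg F (s * h) M₂ ≤ Isoc.pPow (r * h + 1) M₂ := by
    have := pPow_mono (r * h) hbound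
    rw [← pPow_add, ← pPow_add, add_neg_cancel, pPow_zero] at this
    exact this
  have h6 := le_slope_of_lattice F hF hlam hM₂ (Nat.mul_pos hs0 hpos) hF2
  -- contradiction
  have hh : (0 : ℝ) < h := by exact_mod_cast hpos
  push_cast at h6
  rw [div_le_iff₀ (by positivity)] at h6
  have h7 := habs'.2
  have h8 : (1 : ℝ) / ((h : ℝ) + 1) * ((h : ℝ) + 1) = 1 := by field_simp
  have h9 : (0 : ℝ) < 1 / ((h : ℝ) + 1) := by positivity
  have h10 : ((s : ℝ) * lam - r) * h ≤ 1 / ((h : ℝ) + 1) * h :=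
    mul_le_mul_of_nonneg_right h7 hh.le
  nlinarith

end Rational

section UnitDet

variable [PerfectRing k p] {h : ℕ}

theorem mat_int {σ : K(p, k) →+* K(p, k)} (e : Module.Basis (Fin h) K(p, k) N)
    {M : Submodule (WittVector p k) N} (he : ∀ j, e j ∈ M)
    (hint : ∀ x ∈ M, ∀ i, ∃ w : WittVector p k, e.repr x i = algebraMap _ _ w)
    (G : N →ₛₗ[σ] N) (r : ℤ) (hG : ∀ m ∈ M, G m ∈ Isoc.pPow r M) :
    ∃ B : Matrix (Fin h) (Fin h) (WittVector p k),
      mat e G = ((p : K(p, k)) ^ r) • B.map (algebraMap (WittVector p k) K(p, k)) := by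
  have hent : ∀ i j, ∃ w : WittVector p k, mat e G i j = (p : K(p, k)) ^ r * algebraMap _ _ w := by
    intro i j
    obtain ⟨m, hm, hmG⟩ := (mem_pPow r M _).mp (hG (e j) (he j))
    obtain ⟨w, hw⟩ := hint m hm i
    refine ⟨w, ?_⟩
    show e.repr (G (e j)) i = _
    rw [← hmG, map_smul, Finsupp.smul_apply, smul_eq_mul, hw]
  choose B hB using hent
  refine ⟨Matrix.of B, ?_⟩
  ext i j
  rw [hB i j]
  simp

theorem surj_of_unit_det {σ : K(p, k) →+* K(p, k)}
    (hσ : ∀ w : WittVector p k, ∃ w' : WittVector p k, σ (algebraMap _ _ w') = algebraMap _ _ w)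
    (e : Module.Basis (Fin h) K(p, k) N)
    {M : Submodule (WittVector p k) N} (he : ∀ j, e j ∈ M)
    (hint : ∀ x ∈ M, ∀ i, ∃ w : WittVector p k, e.repr x i = algebraMap _ _ w)
    (G : N →ₛₗ[σ] N) (r : ℤ) (hG : ∀ m ∈ M, G m ∈ Isoc.pPow r M)
    (hdet : Isoc.IsOrdP (mat e G).det (r * h)) :
    ∀ y ∈ Isoc.pPow r M, ∃ m ∈ M, G m = y := by
  obtain ⟨B, hB⟩ := mat_int e he hint G r hG
  have hdetB : (mat e G).det = (p : K(p, k)) ^ (r * h) *
      algebraMap (WittVector p k) K(p, k) B.det := by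
    rw [hB, Matrix.det_smul, Fintype.card_fin, RingHom.map_det, zpow_mul, zpow_natCast]
    rfl
  obtain ⟨u, hu⟩ := hdet
  have hBu : B.det = u := by
    apply IsFractionRing.injective (WittVector p k) K(p, k)
    have := hdetB.symm.trans hu
    exact mul_left_cancel₀ (zpow_ne_zero _ p_ne) this
  have hunit : IsUnit B := (Matrix.isUnit_iff_isUnit_det B).mpr (hBu ▸ u.isUnit)
  obtain ⟨D, hD⟩ := hunit.exists_right_inv
  intro y hy
  obtain ⟨m', hm', rfl⟩ := (mem_pPow r M y).mp hy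
  choose c hc using hint m' hm'
  set v := D.mulVec c with hv
  have hBv : B.mulVec v = c := by rw [hv, Matrix.mulVec_mulVec, hD, Matrix.one_mulVec]
  choose x hx using fun j => hσ (v j)
  refine ⟨∑ j, x j • e j, Submodule.sum_mem _ (fun j _ => M.smul_mem _ (he j)), ?_⟩
  apply e.repr.injective
  ext i
  have h1 : G (∑ j, x j • e j) = ∑ j, (algebraMap (WittVector p k) K(p, k) (v j)) • G (e j) := by
    rw [map_sum]
    apply Finset.sum_congr rfl
    intro j _
    rw [← algebraMap_smul K(p, k) (x j) (e j), map_smulₛₗ, hx]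
  rw [h1, map_sum, Finset.sum_apply']
  have h2 : ∀ j, (e.repr ((algebraMap (WittVector p k) K(p, k) (v j)) • G (e j))) i =
      (p : K(p, k)) ^ r * algebraMap (WittVector p k) K(p, k) (B i j * v j) := by
    intro j
    rw [map_smul, Finsupp.smul_apply, smul_eq_mul]
    have : e.repr (G (e j)) i = mat e G i j := rfl
    rw [this, hB, Matrix.smul_apply, Matrix.map_apply, smul_eq_mul, map_mul]
    ring
  rw [Finset.sum_congr rfl (fun j _ => h2 j), ← Finset.mul_sum, ← map_sum]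
  have h3 : ∑ j, B i j * v j = c i := by
    have := congrFun hBv i
    rw [Matrix.mulVec, dotProduct] at this
    exact this
  rw [h3, map_smul, Finsupp.smul_apply, smul_eq_mul, hc i]

end UnitDet

section FullSlope

variable [PerfectRing k p] {a : ℤ} (F : N →ₛₗ[Isoc.frob p k a] N)

/-- S17147 -/
theorem exists_lattice_eq (hF : Isoc.IsIsoc F) {h : ℕ} (b : Module.Basis (Fin h) K(p, k) N)
    {d : ℤ} (hd : Isoc.IsOrdP (Isoc.detCoeff b F) d)
    (hlam : Isoc.IsFirstSlope F ((d : ℝ) / h)) :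
    ∃ M : Submodule (WittVector p k) N, M.IsLattice K(p, k) ∧
      Isoc.latImg F h M = Isoc.pPow d M := by
  have hpos : 0 < h := by
    obtain ⟨M, hM, o, ho, hlim⟩ := hlam
    have hM0 : M ≠ ⊥ := isOrd_ne_bot F (ho 1 le_rfl)
    obtain ⟨x, hx, hx0⟩ := (Submodule.ne_bot_iff _).mp hM0
    by_contra h0
    have : h = 0 := by omega
    subst this
    apply hx0
    rw [← b.sum_repr x]
    simp
  obtain ⟨M, hM, hle⟩ := exists_lattice_of_le F b hlam d h hpos le_rfl
  refine ⟨M, hM, le_antisymm hle ?_⟩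
  obtain ⟨e, he, hint⟩ := exists_lattice_basis b hM
  have hd' : Isoc.IsOrdP (mat e F).det d := isOrdP_basis_change b e F hd
  have h1 := isOrdP_det_iter e F hd' h
  have hG : ∀ m ∈ M, (Isoc.iter F h) m ∈ Isoc.pPow d M := by
    intro m hm
    apply hle
    exact (mem_latImg F h M _).mpr ⟨m, hm, rfl⟩
  have hdet : Isoc.IsOrdP (mat e (Isoc.iter F h)).det (d * h) := by
    rw [mul_comm]; exact h1
  have hsurj := surj_of_unit_det (frob_pow_surj_W a h) e he hint (Isoc.iter F h) d hG hdet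
  intro y hy
  obtain ⟨m, hm, hmy⟩ := hsurj y hy
  exact (mem_latImg F h M y).mpr ⟨m, hm, hmy⟩

end FullSlope

end H8Isoc
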