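import Mathlib
import Groth.Prelude.Def_Isoc
import Groth.Agent.H8Isoc3

set_option autoImplicit false
set_option linter.unusedSectionVars false

open scoped Pointwise Isocrystal

universe u v

namespace H8Isoc

variable {p : ℕ} [Fact p.Prime] {k : Type u} [Field k] [CharP k p]
variable {N : Type v} [AddCommGroup N] [Module (WittVector p k) N] [Module K(p, k) N]
  [IsScalarTower (WittVector p k) K(p, k) N]

section Basic4

variable [PerfectRing k p] {a : ℤ} (G : N →ₛₗ[Isoc.frob p k a] N)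

theorem iterate_wsmul (s : ℕ) (w : WittVector p k) (x : N) :
    ∃ w'' : WittVector p k, (⇑G)^[s] (w • x) = w'' • (⇑G)^[s] x := by
  obtain ⟨w'', hw''⟩ := frob_pow_W (p := p) (k := k) a s w
  exact ⟨w'', by rw [← algebraMap_smul K(p, k) w x, iterate_smul, hw'', algebraMap_smul]⟩

theorem iterate_sub (s : ℕ) (x y : N) : (⇑G)^[s] (x - y) = (⇑G)^[s] x - (⇑G)^[s] y :=
  (Isoc.iter G s).map_sub x y

theorem iterate_neg (s : ℕ) (x : N) : (⇑G)^[s] (-x) = -(⇑G)^[s] x :=
  (Isoc.iter G s).map_neg x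

theorem pPow_lattice (r : ℤ) {M : Submodule (WittVector p k) N} (hM : M.IsLattice K(p, k)) :
    (Isoc.pPow r M).IsLattice K(p, k) := by
  constructor
  · exact pPow_fg r hM.fg
  · rw [eq_top_iff]
    intro x _
    have hx : ((p : K(p, k)) ^ (-r)) • x ∈ Submodule.span K(p, k) (M : Set N) := by
      rw [hM.span_eq_top]; exact Submodule.mem_top
    have hle : Submodule.span K(p, k) (M : Set N) ≤
        (Submodule.span K(p, k) (Isoc.pPow r M : Set N)).comap
          (((p : K(p, k)) ^ r) • (LinearMap.id : N →ₗ[K(p, k)] N)) := by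
      rw [Submodule.span_le]
      intro m hm
      exact Submodule.subset_span (smul_mem_pPow r M hm)
    have := hle hx
    rw [Submodule.mem_comap, LinearMap.smul_apply, LinearMap.id_apply, smul_smul,
      ← zpow_add₀ p_ne, add_neg_cancel, zpow_zero, one_smul] at this
    exact this

theorem lattice_of_ge {A M : Submodule (WittVector p k) N} (hA : A.FG)
    (hM : M.IsLattice K(p, k)) (h : M ≤ A) : A.IsLattice K(p, k) := by
  constructor
  · exact hA
  · rw [eq_top_iff, ← hM.span_eq_top]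
    exact Submodule.span_mono h

theorem fg_of_le {A M : Submodule (WittVector p k) N} (hM : M.FG) (h : A ≤ M) : A.FG := by
  have hN : IsNoetherian (WittVector p k) M := isNoetherian_of_fg_of_noetherian M hM
  exact (isNoetherian_submodule.mp hN) _ h

variable {M : Submodule (WittVector p k) N} (hG : Isoc.latImg G 1 M ≤ M)

include hG in
theorem iterate_mem_pPow_stable (j : ℤ) (i : ℕ) {x : N} (hx : x ∈ Isoc.pPow j M) :
    (⇑G)^[i] x ∈ Isoc.pPow j M := by
  obtain ⟨m, hm, rfl⟩ := (mem_pPow j M x).mp hx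
  rw [iterate_pow_smul]
  exact smul_mem_pPow j M (iterate_mem_of_stable G hG i hm)

include hG in
theorem latImg_le_of_stable (n : ℕ) : Isoc.latImg G n M ≤ M := by
  intro y hy
  obtain ⟨m, hm, rfl⟩ := (mem_latImg G n M y).mp hy
  exact iterate_mem_of_stable G hG n hm

include hG in
theorem latImg_anti {m n : ℕ} (hmn : m ≤ n) : Isoc.latImg G n M ≤ Isoc.latImg G m M := by
  obtain ⟨t, rfl⟩ := Nat.exists_eq_add_of_le hmn
  rw [latImg_add]
  exact latImg_mono G m (latImg_le_of_stable G hG t)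

end Basic4

section Fitting

variable [PerfectRing k p] {a : ℤ} (G : N →ₛₗ[Isoc.frob p k a] N)

/-- elements of `M` that are eventually carried into `p^j M` -/
def Vj (M : Submodule (WittVector p k) N) (j : ℕ) : Submodule (WittVector p k) N where
  carrier := {x | x ∈ M ∧ ∃ n₀ : ℕ, ∀ n, n₀ ≤ n → (⇑G)^[n] x ∈ Isoc.pPow j M}
  add_mem' := by
    rintro x y ⟨hx1, n₁, hx2⟩ ⟨hy1, n₂, hy2⟩
    refine ⟨M.add_mem hx1 hy1, max n₁ n₂, fun n hn => ?_⟩
    rw [iterate_add]
    exact Submodule.add_mem _ (hx2 n (le_trans (le_max_left _ _) hn))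
      (hy2 n (le_trans (le_max_right _ _) hn))
  zero_mem' := ⟨M.zero_mem, 0, fun n _ => by rw [iterate_zero]; exact Submodule.zero_mem _⟩
  smul_mem' := by
    rintro w x ⟨hx1, n₁, hx2⟩
    refine ⟨M.smul_mem w hx1, n₁, fun n hn => ?_⟩
    obtain ⟨w'', hw''⟩ := iterate_wsmul G n w x
    rw [hw'']
    exact Submodule.smul_mem _ _ (hx2 n hn)

theorem mem_Vj (M : Submodule (WittVector p k) N) (j : ℕ) (x : N) :
    x ∈ Vj G M j ↔ x ∈ M ∧ ∃ n₀ : ℕ, ∀ n, n₀ ≤ n → (⇑G)^[n] x ∈ Isoc.pPow j M := Iff.rfl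

theorem Vj_le (M : Submodule (WittVector p k) N) (j : ℕ) : Vj G M j ≤ M := fun _ hx => hx.1

theorem Vj_anti (M : Submodule (WittVector p k) N) {i j : ℕ} (hij : i ≤ j) :
    Vj G M j ≤ Vj G M i := by
  rintro x ⟨hx1, n₀, hx2⟩
  exact ⟨hx1, n₀, fun n hn => pPow_anti (by exact_mod_cast hij) M (hx2 n hn)⟩

variable {M : Submodule (WittVector p k) N} (hG : Isoc.latImg G 1 M ≤ M)

include hG in
theorem mem_Vj_of_iterate {j : ℕ} {x : N} (hx : x ∈ M) {n₀ : ℕ}
    (h : (⇑G)^[n₀] x ∈ Isoc.pPow j M) : x ∈ Vj G M j := by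
  refine ⟨hx, n₀, fun n hn => ?_⟩
  obtain ⟨t, rfl⟩ := Nat.exists_eq_add_of_le hn
  rw [Nat.add_comm, Function.iterate_add_apply]
  exact iterate_mem_pPow_stable G hG j t h

include hG in
theorem pPow_le_Vj (j : ℕ) : Isoc.pPow j M ≤ Vj G M j := by
  intro x hx
  exact mem_Vj_of_iterate G hG (pPow_nat_le j M hx) (n₀ := 0) hx

include hG in
theorem Vj_zero : Vj G M 0 = M := by
  apply le_antisymm (Vj_le G M 0)
  have := pPow_le_Vj G hG 0
  simpa [pPow_zero] using this

include hG in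
theorem Vj_stable (j : ℕ) : Isoc.latImg G 1 (Vj G M j) ≤ Vj G M j := by
  intro y hy
  obtain ⟨x, ⟨hx1, n₀, hx2⟩, rfl⟩ := (mem_latImg G 1 _ y).mp hy
  refine ⟨hG ((mem_latImg G 1 M _).mpr ⟨x, hx1, rfl⟩), n₀, fun n hn => ?_⟩
  rw [← Function.iterate_add_apply]
  exact hx2 (n + 1) (by omega)

include hG in
/-- `V_j` is saturated for `G` -/
theorem Vj_sat (j : ℕ) {x : N} (hx : x ∈ M) {t : ℕ} (h : (⇑G)^[t] x ∈ Vj G M j) :
    x ∈ Vj G M j := by
  obtain ⟨_, n₀, h2⟩ := h
  refine ⟨hx, n₀ + t, fun n hn => ?_⟩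
  obtain ⟨s, rfl⟩ := Nat.exists_eq_add_of_le hn
  have : n₀ + t + s = (n₀ + s) + t := by ring
  rw [this, Function.iterate_add_apply]
  exact h2 (n₀ + s) (by omega)

include hG in
/-- uniform bound: one exponent works for all of `V_j` -/
theorem Vj_bound (hM : M.FG) (j : ℕ) :
    ∃ n : ℕ, ∀ x ∈ Vj G M j, (⇑G)^[n] x ∈ Isoc.pPow j M := by
  have hfg : (Vj G M j).FG := fg_of_le hM (Vj_le G M j)
  have key : ∀ A : Submodule (WittVector p k) N, A.FG → A ≤ Vj G M j →
      ∃ n₀ : ℕ, ∀ x ∈ A, ∀ n, n₀ ≤ n → (⇑G)^[n] x ∈ Isoc.pPow j M := by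
    intro A hA
    induction A, hA using Submodule.fg_induction with
    | singleton x =>
      intro hle
      have hx : x ∈ Vj G M j := hle (Submodule.mem_span_singleton_self x)
      obtain ⟨_, n₀, h2⟩ := hx
      refine ⟨n₀, fun y hy n hn => ?_⟩
      obtain ⟨w, rfl⟩ := Submodule.mem_span_singleton.mp hy
      obtain ⟨w'', hw''⟩ := iterate_wsmul G n w x
      rw [hw'']
      exact Submodule.smul_mem _ _ (h2 n hn)
    | sup A₁ A₂ _ _ h₁ h₂ =>
      intro hle
      obtain ⟨n₁, h₁⟩ := h₁ (le_sup_left.trans hle)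
      obtain ⟨n₂, h₂⟩ := h₂ (le_sup_right.trans hle)
      refine ⟨max n₁ n₂, fun y hy n hn => ?_⟩
      obtain ⟨u, hu, v, hv, rfl⟩ := Submodule.mem_sup.mp hy
      rw [iterate_add]
      exact Submodule.add_mem _ (h₁ u hu n (le_trans (le_max_left _ _) hn))
        (h₂ v hv n (le_trans (le_max_right _ _) hn))
  obtain ⟨n₀, h⟩ := key _ hfg le_rfl
  exact ⟨n₀, fun x hx => h x hx n₀ le_rfl⟩

include hG in
theorem latImg_n_le_of_stable {V : Submodule (WittVector p k) N}
    (hV : Isoc.latImg G 1 V ≤ V) (n : ℕ) : Isoc.latImg G n V ≤ V :=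
  latImg_le_of_stable G hV n

include hG in
theorem sup_iter {V : Submodule (WittVector p k) N} (hV : Isoc.latImg G 1 V ≤ V)
    (h : M ≤ Isoc.latImg G 1 M ⊔ V) (n : ℕ) : M ≤ Isoc.latImg G n M ⊔ V := by
  induction n with
  | zero => rw [latImg_zero]; exact le_sup_left
  | succ n ih =>
    calc M ≤ Isoc.latImg G n M ⊔ V := ih
      _ ≤ Isoc.latImg G n (Isoc.latImg G 1 M ⊔ V) ⊔ V :=
          sup_le_sup_right (latImg_mono G n h) V
      _ = (Isoc.latImg G (n + 1) M ⊔ Isoc.latImg G n V) ⊔ V := by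
          rw [latImg_sup, ← latImg_add]
      _ ≤ Isoc.latImg G (n + 1) M ⊔ V :=
          sup_le (sup_le le_sup_left ((latImg_le_of_stable G hV n).trans le_sup_right))
            le_sup_right

include hG in
/-- Fitting at level one: `M = G M + V_1` -/
theorem fitting_one {h : ℕ} (b : Module.Basis (Fin h) K(p, k) N) (hM : M.IsLattice K(p, k)) :
    M ≤ Isoc.latImg G 1 M ⊔ Vj G M 1 := by
  set B : ℕ → Submodule (WittVector p k) N := fun n => Isoc.latImg G n M ⊔ Vj G M 1 with hB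
  have hBlat : ∀ n, (B n).IsLattice K(p, k) := fun n =>
    lattice_of_ge ((latImg_fg G n hM.fg).sup (fg_of_le hM.fg (Vj_le G M 1)))
      (pPow_lattice 1 hM) ((pPow_le_Vj G hG 1).trans le_sup_right)
  have hBanti : ∀ n, B (n + 1) ≤ B n := fun n =>
    sup_le_sup_right (latImg_anti G hG (Nat.le_succ n)) _
  have hB0 : B 0 = M := by
    simp only [hB, latImg_zero]
    exact sup_eq_left.mpr (Vj_le G M 1)
  -- some step is stationary
  have hstat : ∃ t, B t = B (t + 1) := by
    by_contra hne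
    push Not at hne
    have hstrict : ∀ t < h + 1, B (h + 1 - t) < B (h + 1 - (t + 1)) := by
      intro t ht
      have e : h + 1 - t = (h + 1 - (t + 1)) + 1 := by omega
      rw [e]
      exact lt_of_le_of_ne (hBanti _) (fun heq => hne _ heq.symm)
    have htop : B (h + 1 - (h + 1)) ≤ Isoc.pPow (-1) (B (h + 1 - 0)) := by
      rw [Nat.sub_self, hB0]
      have h1 : Isoc.pPow 1 M ≤ B (h + 1 - 0) := (pPow_le_Vj G hG 1).trans le_sup_right
      have := pPow_mono (-1) h1
      rw [← pPow_add] at this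
      simpa [pPow_zero] using this
    have := chain_bound b (fun t => B (h + 1 - t)) (h + 1) (fun t => hBlat _) hstrict htop
    omega
  obtain ⟨t, ht⟩ := hstat
  intro x hx
  have h1 : (⇑G)^[t] x ∈ B t := le_sup_left (α := Submodule (WittVector p k) N)
    ((mem_latImg G t M _).mpr ⟨x, hx, rfl⟩)
  rw [ht] at h1
  obtain ⟨u, hu, v, hv, huv⟩ := Submodule.mem_sup.mp h1
  obtain ⟨y, hy, rfl⟩ := (mem_latImg G (t + 1) M u).mp hu
  have hGy : G y ∈ M := hG ((mem_latImg G 1 M _).mpr ⟨y, hy, rfl⟩)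
  have h2 : x - G y ∈ Vj G M 1 := by
    apply Vj_sat G hG 1 (M.sub_mem hx hGy) (t := t)
    rw [iterate_sub, ← huv, ← Function.iterate_succ_apply]
    simpa using hv
  have : x = G y + (x - G y) := by abel
  rw [this]
  exact Submodule.add_mem_sup ((mem_latImg G 1 M _).mpr ⟨y, hy, rfl⟩) h2

include hG in
/-- Fitting at every level: `M = G M + V_j` -/
theorem fitting_all {h : ℕ} (b : Module.Basis (Fin h) K(p, k) N) (hM : M.IsLattice K(p, k))
    (j : ℕ) : M ≤ Isoc.latImg G 1 M ⊔ Vj G M j := by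
  induction j with
  | zero => rw [Vj_zero G hG]; exact le_sup_right
  | succ j ih =>
    intro x hx
    obtain ⟨u, hu, v, hv, rfl⟩ := Submodule.mem_sup.mp (ih hx)
    obtain ⟨hvM, n₀, hv2⟩ := hv
    obtain ⟨z, hz, hzv⟩ := (mem_pPow j M _).mp (hv2 n₀ le_rfl)
    have h1 := sup_iter G hG (Vj_stable G hG 1) (fitting_one G hG b hM) (n₀ + 1) hz
    obtain ⟨u', hu', v', hv', huv'⟩ := Submodule.mem_sup.mp h1
    obtain ⟨y', hy', rfl⟩ := (mem_latImg G (n₀ + 1) M u').mp hu'
    set y'' : N := ((p : K(p, k)) ^ (j : ℤ)) • y' with hy''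
    have hy''M : y'' ∈ M := pPow_nat_le j M (smul_mem_pPow j M hy')
    have hGy'' : G y'' ∈ M := hG ((mem_latImg G 1 M _).mpr ⟨y'', hy''M, rfl⟩)
    have hw : v - G y'' ∈ Vj G M (j + 1) := by
      obtain ⟨_, n₁, hv'2⟩ := hv'
      refine ⟨M.sub_mem hvM hGy'', n₀ + n₁, fun n hn => ?_⟩
      obtain ⟨s, rfl⟩ := Nat.exists_eq_add_of_le hn
      have e1 : (⇑G)^[n₀] (v - G y'') = ((p : K(p, k)) ^ (j : ℤ)) • v' := by
        rw [iterate_sub, ← hzv, ← Function.iterate_succ_apply, hy'', iterate_pow_smul, ← huv',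
          smul_add]
        abel
      have e2 : n₀ + n₁ + s = (n₁ + s) + n₀ := by ring
      rw [e2, Function.iterate_add_apply, e1, iterate_pow_smul]
      have h3 := hv'2 (n₁ + s) (by omega)
      have h4 := smul_mem_pPow j _ h3
      rw [← pPow_add] at h4
      have e3 : ((j : ℤ) + ((1 : ℕ) : ℤ)) = ((j + 1 : ℕ) : ℤ) := by push_cast; ring
      rw [e3] at h4
      exact h4
    have : u + v = (u + G y'') + (v - G y'') := by abel
    rw [this]
    refine Submodule.add_mem_sup ?_ hw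
    exact Submodule.add_mem _ hu ((mem_latImg G 1 M _).mpr ⟨y'', hy''M, rfl⟩)

include hG in
/-- for large `n`, `G^n M ∩ V_j ⊆ p^j M` -/
theorem inter_le (hM : M.FG) (j : ℕ) :
    ∃ n₀ : ℕ, ∀ n, n₀ ≤ n → Isoc.latImg G n M ⊓ Vj G M j ≤ Isoc.pPow j M := by
  obtain ⟨n₀, hn₀⟩ := Vj_bound G hG hM j
  refine ⟨n₀, fun n hn x hx => ?_⟩
  obtain ⟨hx1, hx2⟩ := Submodule.mem_inf.mp hx
  obtain ⟨y, hy, rfl⟩ := (mem_latImg G n M x).mp hx1
  have h1 := hn₀ _ hx2
  have hyV : y ∈ Vj G M j := by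
    apply mem_Vj_of_iterate G hG hy (n₀ := n₀ + n)
    rw [Function.iterate_add_apply]; exact h1
  have h2 := hn₀ y hyV
  obtain ⟨t, rfl⟩ := Nat.exists_eq_add_of_le hn
  rw [Nat.add_comm, Function.iterate_add_apply]
  exact iterate_mem_pPow_stable G hG j t h2

end Fitting

section Complete

variable [PerfectRing k p]

theorem W_complete (f : ℕ → WittVector p k)
    (hf : ∀ n, (p : WittVector p k) ^ n ∣ f (n + 1) - f n) :
    ∃ L : WittVector p k, ∀ n, (p : WittVector p k) ^ n ∣ L - f n := by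
  have hc := (WittVector.isAdicCompleteIdealSpanP (p := p) (k := k)).toIsPrecomplete
  have hmn : ∀ m n, m ≤ n → (p : WittVector p k) ^ m ∣ f m - f n := by
    intro m n hmn
    induction n, hmn using Nat.le_induction with
    | base => simp
    | succ n hn ih =>
      have : f m - f (n + 1) = (f m - f n) - (f (n + 1) - f n) := by ring
      rw [this]
      exact dvd_sub ih ((pow_dvd_pow _ hn).trans (hf n))
  obtain ⟨L, hL⟩ := hc.prec (f := f) (fun {m n} hmn' => by
    rw [SModEq.sub_mem, smul_eq_mul, Ideal.mul_top, Ideal.span_singleton_pow,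
      Ideal.mem_span_singleton]
    exact hmn m n hmn')
  refine ⟨L, fun n => ?_⟩
  have := hL n
  rw [SModEq.sub_mem, smul_eq_mul, Ideal.mul_top, Ideal.span_singleton_pow,
    Ideal.mem_span_singleton] at this
  rw [← neg_sub]
  exact (dvd_neg).mpr this

theorem lattice_complete {h : ℕ} {e : Module.Basis (Fin h) K(p, k) N}
    {M : Submodule (WittVector p k) N} (he : Adapted e M)
    (u : ℕ → N) (hu : ∀ j, u j ∈ M) (hc : ∀ j : ℕ, u (j + 1) - u j ∈ Isoc.pPow j M) :
    ∃ x ∈ M, ∀ j : ℕ, x - u j ∈ Isoc.pPow j M := by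
  have hcoord : ∀ j i, ∃ w : WittVector p k, e.repr (u j) i = algebraMap _ _ w :=
    fun j i => he.int _ (hu j) i
  choose c hcw using hcoord
  have hdiff : ∀ i n, (p : WittVector p k) ^ n ∣ c (n + 1) i - c n i := by
    intro i n
    obtain ⟨m, hm, hmu⟩ := (mem_pPow n M _).mp (hc n)
    obtain ⟨d, hd⟩ := he.int m hm i
    refine ⟨d, ?_⟩
    apply IsFractionRing.injective (WittVector p k) K(p, k)
    rw [map_sub, ← hcw, ← hcw, ← Finsupp.sub_apply, ← map_sub, ← hmu, map_smul,
      Finsupp.smul_apply, smul_eq_mul, hd, map_mul, map_pow, algebraMap_p, zpow_natCast]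
  choose Lc hLc using fun i => W_complete (fun n => c n i) (hdiff i)
  refine ⟨∑ i, Lc i • e i, Submodule.sum_mem _ (fun i _ => M.smul_mem _ (he.mem i)),
    fun j => ?_⟩
  choose d hd using fun i => hLc i j
  rw [mem_pPow]
  refine ⟨∑ i, d i • e i, Submodule.sum_mem _ (fun i _ => M.smul_mem _ (he.mem i)), ?_⟩
  have huj : u j = ∑ i, c j i • e i := by
    conv_lhs => rw [← e.sum_repr (u j)]
    apply Finset.sum_congr rfl
    intro i _
    rw [hcw, algebraMap_smul]
  rw [huj, ← Finset.sum_sub_distrib, Finset.smul_sum]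
  apply Finset.sum_congr rfl
  intro i _
  rw [← sub_smul, hd i, zpow_natCast, ← algebraMap_p, ← map_pow, algebraMap_smul, mul_smul]

end Complete

section Decomp

variable [PerfectRing k p] {a : ℤ} (G : N →ₛₗ[Isoc.frob p k a] N)
variable {M : Submodule (WittVector p k) N} (hG : Isoc.latImg G 1 M ≤ M)

include hG in
theorem fitting_decomp {h : ℕ} (b : Module.Basis (Fin h) K(p, k) N) (hM : M.IsLattice K(p, k))
    (hsurj : Function.Surjective G) {x : N} (hx : x ∈ M) :
    ∃ u v : N, x = u + v ∧ (∀ n, u ∈ Isoc.latImg G n M) ∧ (∀ j, v ∈ Vj G M j) := by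
  choose n₀ hn₀ using fun j => inter_le G hG hM.fg j
  set m : ℕ → ℕ := fun j => j + ∑ i ∈ Finset.range (j + 1), n₀ i with hm
  have hm1 : ∀ j, n₀ j ≤ m j := by
    intro j
    have : n₀ j ≤ ∑ i ∈ Finset.range (j + 1), n₀ i :=
      Finset.single_le_sum (f := n₀) (fun _ _ => Nat.zero_le _) (Finset.self_mem_range_succ j)
    simp only [hm]; omega
  have hm2 : ∀ j, j ≤ m j := fun j => by simp only [hm]; omega
  have hm3 : ∀ j, m j ≤ m (j + 1) := by
    intro j
    simp only [hm]
    rw [Finset.sum_range_succ _ (j + 1)]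
    omega
  have hdec : ∀ j, ∃ u ∈ Isoc.latImg G (m j) M, ∃ v ∈ Vj G M j, u + v = x := fun j =>
    Submodule.mem_sup.mp
      (sup_iter G hG (Vj_stable G hG j) (fitting_all G hG b hM j) (m j) hx)
  choose u hu v hv huv using hdec
  have huM : ∀ j, u j ∈ M := fun j => latImg_le_of_stable G hG (m j) (hu j)
  have hc : ∀ j : ℕ, u (j + 1) - u j ∈ Isoc.pPow j M := by
    intro j
    apply hn₀ j (m j) (hm1 j)
    refine Submodule.mem_inf.mpr ⟨?_, ?_⟩
    · exact Submodule.sub_mem _ (latImg_anti G hG (hm3 j) (hu (j + 1))) (hu j)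
    · have e : u (j + 1) - u j = v j - v (j + 1) := by
        have h1 := huv j
        have h2 := huv (j + 1)
        rw [← h2] at h1
        have : u j + v j - v (j + 1) - u j = u (j + 1) + v (j + 1) - v (j + 1) - u j := by
          rw [h1]
        rw [add_sub_cancel_right] at this
        rw [← this]; abel
      rw [e]
      exact Submodule.sub_mem _ (hv j) (Vj_anti G M (Nat.le_succ j) (hv (j + 1)))
  obtain ⟨e, he⟩ := exists_adapted b hM
  obtain ⟨ui, huiM, hlim⟩ := lattice_complete he u huM hc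
  refine ⟨ui, x - ui, by abel, fun n => ?_, fun j => ?_⟩
  · obtain ⟨c, hc'⟩ := exists_le_pPow_neg hM.fg (latImg_lattice G hsurj hM n)
    have hcle : Isoc.pPow c M ≤ Isoc.latImg G n M := by
      have := pPow_mono (c : ℤ) hc'
      rw [← pPow_add, add_neg_cancel, pPow_zero] at this
      exact this
    set j := max c n with hj
    have e1 : ui = u j + (ui - u j) := by abel
    rw [e1]
    apply Submodule.add_mem
    · exact latImg_anti G hG ((le_max_right c n).trans (hm2 j)) (hu j)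
    · apply hcle
      exact pPow_anti (by exact_mod_cast le_max_left c n) M (hlim j)
  · have e1 : x - ui = v j - (ui - u j) := by
      rw [← huv j]; abel
    rw [e1]
    exact Submodule.sub_mem _ (hv j) (pPow_le_Vj G hG j (hlim j))

end Decomp

end H8Isoc
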