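import Mathlib
import Groth.Prelude.Def_Isoc
import Groth.Agent.H8Isoc4

set_option autoImplicit false
set_option linter.unusedSectionVars false

open scoped Pointwise Isocrystal

universe u v

namespace H8Isoc

variable {p : ℕ} [Fact p.Prime] {k : Type u} [Field k] [CharP k p]
variable {N : Type v} [AddCommGroup N] [Module (WittVector p k) N] [Module K(p, k) N]
  [IsScalarTower (WittVector p k) K(p, k) N]

section Parts

variable [PerfectRing k p] {a : ℤ} (G : N →ₛₗ[Isoc.frob p k a] N)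

theorem exists_lattice {h : ℕ} (b : Module.Basis (Fin h) K(p, k) N) :
    ∃ M : Submodule (WittVector p k) N, M.IsLattice K(p, k) := by
  refine ⟨Submodule.span (WittVector p k) (Set.range b), ⟨?_, ?_⟩⟩
  · exact Submodule.fg_span (Set.finite_range b)
  · rw [eq_top_iff, ← b.span_eq]
    exact Submodule.span_mono Submodule.subset_span

theorem exists_pow_smul_mem_of_span {Λ : Submodule (WittVector p k) N} {x : N}
    (hx : x ∈ Submodule.span K(p, k) (Λ : Set N)) : ∃ n : ℕ, ((p : K(p, k)) ^ n) • x ∈ Λ := by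
  induction hx using Submodule.span_induction with
  | mem x hx => exact ⟨0, by simpa using hx⟩
  | zero => exact ⟨0, by simp⟩
  | add x y _ _ hx hy =>
    obtain ⟨n₁, h₁⟩ := hx
    obtain ⟨n₂, h₂⟩ := hy
    refine ⟨n₁ + n₂, ?_⟩
    rw [smul_add]
    apply Λ.add_mem
    · rw [pow_add, mul_comm, mul_smul]; exact natPow_smul_mem n₂ Λ h₁
    · rw [pow_add, mul_smul]; exact natPow_smul_mem n₁ Λ h₂
  | smul c x _ hx =>
    obtain ⟨n, hn⟩ := hx
    obtain ⟨j, w, hw⟩ := exists_pow_mul_mem (p := p) (k := k) c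
    refine ⟨j + n, ?_⟩
    have : ((p : K(p, k)) ^ (j + n)) • c • x = w • (((p : K(p, k)) ^ n) • x) := by
      rw [← algebraMap_smul K(p, k) w, ← hw, smul_smul, smul_smul, pow_add]
      congr 1; ring
    rw [this]
    exact Λ.smul_mem _ hn

theorem exists_le_pPow_neg_of_span {A Λ : Submodule (WittVector p k) N} (hA : A.FG)
    (h : ∀ x ∈ A, x ∈ Submodule.span K(p, k) (Λ : Set N)) :
    ∃ c : ℕ, A ≤ Isoc.pPow (-(c : ℤ)) Λ := by
  induction A, hA using Submodule.fg_induction with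
  | singleton x =>
    obtain ⟨n, hn⟩ := exists_pow_smul_mem_of_span (h x (Submodule.mem_span_singleton_self x))
    refine ⟨n, ?_⟩
    rw [Submodule.span_le, Set.singleton_subset_iff, SetLike.mem_coe, mem_pPow', neg_neg,
      zpow_natCast]
    exact hn
  | sup M₁ M₂' _ _ h₁ h₂ =>
    obtain ⟨c₁, h₁⟩ := h₁ (fun x hx => h x (le_sup_left (α := Submodule (WittVector p k) N) hx))
    obtain ⟨c₂, h₂⟩ := h₂ (fun x hx => h x (le_sup_right (α := Submodule (WittVector p k) N) hx))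
    refine ⟨max c₁ c₂, sup_le (h₁.trans ?_) (h₂.trans ?_)⟩
    · apply pPow_anti; simp
    · apply pPow_anti; simp

theorem comm_iterate {b : ℤ} (F : N →ₛₗ[Isoc.frob p k b] N) (hcomm : ∀ x, F (G x) = G (F x))
    (n : ℕ) (x : N) : F ((⇑G)^[n] x) = (⇑G)^[n] (F x) := by
  induction n generalizing x with
  | zero => rfl
  | succ n ih => rw [Function.iterate_succ_apply, ih, hcomm, ← Function.iterate_succ_apply]

/-- the topologically nilpotent part -/
def Nn (M : Submodule (WittVector p k) N) : Submodule K(p, k) N where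
  carrier := {x | ∀ j : ℕ, ∃ n₀ : ℕ, ∀ n, n₀ ≤ n → (⇑G)^[n] x ∈ Isoc.pPow j M}
  add_mem' := by
    intro x y hx hy j
    obtain ⟨n₁, h₁⟩ := hx j
    obtain ⟨n₂, h₂⟩ := hy j
    refine ⟨max n₁ n₂, fun n hn => ?_⟩
    rw [iterate_add]
    exact Submodule.add_mem _ (h₁ n (le_trans (le_max_left _ _) hn))
      (h₂ n (le_trans (le_max_right _ _) hn))
  zero_mem' := fun j => ⟨0, fun n _ => by rw [iterate_zero]; exact Submodule.zero_mem _⟩
  smul_mem' := by
    intro c x hx j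
    obtain ⟨e, w, hw⟩ := exists_pow_mul_mem (p := p) (k := k) c
    obtain ⟨n₀, h₀⟩ := hx (j + e)
    refine ⟨n₀, fun n hn => ?_⟩
    have hc : c = (p : K(p, k)) ^ (-(e : ℤ)) * algebraMap _ _ w := by
      rw [← hw, ← mul_assoc, zpow_neg, zpow_natCast, inv_mul_cancel₀ (pow_ne_zero _ p_ne), one_mul]
    obtain ⟨w'', hw''⟩ := frob_pow_W (p := p) (k := k) a n w
    have h1 := Submodule.smul_mem _ w'' (h₀ n hn)
    have h2 := smul_mem_pPow (-(e : ℤ)) _ h1
    rw [← pPow_add] at h2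
    have e1 : (-(e : ℤ) + ((j + e : ℕ) : ℤ)) = (j : ℤ) := by push_cast; ring
    rw [e1] at h2
    show (⇑G)^[n] (c • x) ∈ Isoc.pPow j M
    rw [iterate_smul, hc, map_mul, frob_pow_zpow_p, hw'', mul_smul, algebraMap_smul]
    exact h2

theorem mem_Nn (M : Submodule (WittVector p k) N) (x : N) :
    x ∈ Nn G M ↔ ∀ j : ℕ, ∃ n₀ : ℕ, ∀ n, n₀ ≤ n → (⇑G)^[n] x ∈ Isoc.pPow j M := Iff.rfl

theorem Nn_stable {b : ℤ} (F : N →ₛₗ[Isoc.frob p k b] N) (hcomm : ∀ x, F (G x) = G (F x))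
    {M : Submodule (WittVector p k) N} (hM : M.IsLattice K(p, k)) :
    ∀ x ∈ Nn G M, F x ∈ Nn G M := by
  intro x hx j
  obtain ⟨e, he⟩ := exists_le_pPow_neg (latImg_fg F 1 hM.fg) hM
  obtain ⟨n₀, h₀⟩ := hx (j + e)
  refine ⟨n₀, fun n hn => ?_⟩
  rw [← comm_iterate G F hcomm]
  obtain ⟨m, hm, hmx⟩ := (mem_pPow _ M _).mp (h₀ n hn)
  rw [← hmx, map_smulₛₗ, frob_zpow_p]
  have h1 : F m ∈ Isoc.pPow (-(e : ℤ)) M := he ((mem_latImg F 1 M _).mpr ⟨m, hm, rfl⟩)
  have h2 := smul_mem_pPow ((j + e : ℕ) : ℤ) _ h1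
  rw [← pPow_add] at h2
  have e1 : (((j + e : ℕ) : ℤ) + -(e : ℤ)) = (j : ℤ) := by push_cast; ring
  rw [e1] at h2
  exact h2

theorem mem_Nn_of_forall_Vj {M : Submodule (WittVector p k) N} {x : N}
    (h : ∀ j, x ∈ Vj G M j) : x ∈ Nn G M := fun j => (h j).2

theorem Nn_ne_top {M : Submodule (WittVector p k) N} (hG : Isoc.latImg G 1 M ≤ M)
    (hM : M.IsLattice K(p, k)) (hnil : ∀ n, ¬ Isoc.latImg G n M ≤ Isoc.pPow 1 M) :
    Nn G M ≠ ⊤ := by
  intro htop
  have hV : M ≤ Vj G M 1 := by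
    intro x hx
    have : x ∈ Nn G M := by rw [htop]; exact Submodule.mem_top
    exact ⟨hx, this 1⟩
  obtain ⟨n, hn⟩ := Vj_bound G hG hM.fg 1
  apply hnil n
  intro y hy
  obtain ⟨x, hx, rfl⟩ := (mem_latImg G n M y).mp hy
  exact hn x (hV hx)

/-- the unit-root part of the lattice -/
noncomputable def Mu (M : Submodule (WittVector p k) N) : Submodule (WittVector p k) N :=
  ⨅ n, Isoc.latImg G n M

theorem mem_Mu (M : Submodule (WittVector p k) N) (x : N) :
    x ∈ Mu G M ↔ ∀ n, x ∈ Isoc.latImg G n M := Submodule.mem_iInf _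

theorem Mu_le (M : Submodule (WittVector p k) N) : Mu G M ≤ M :=
  (iInf_le _ 0).trans (latImg_zero G M).le

theorem Mu_fixed {M : Submodule (WittVector p k) N} (hG : Isoc.latImg G 1 M ≤ M)
    (hinj : Function.Injective G) : Isoc.latImg G 1 (Mu G M) = Mu G M := by
  apply le_antisymm
  · intro y hy
    obtain ⟨x, hx, rfl⟩ := (mem_latImg G 1 _ y).mp hy
    rw [mem_Mu] at hx ⊢
    intro n
    have : (⇑G)^[1] x ∈ Isoc.latImg G (1 + n) M := by
      rw [latImg_add]
      exact (mem_latImg G 1 _ _).mpr ⟨x, hx n, rfl⟩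
    exact latImg_anti G hG (by omega) this
  · intro y hy
    rw [mem_Mu] at hy
    obtain ⟨z, hz, hzy⟩ := (mem_latImg G 1 M y).mp (hy 1)
    refine (mem_latImg G 1 _ y).mpr ⟨z, ?_, hzy⟩
    rw [mem_Mu]
    intro n
    have h1 := hy (1 + n)
    rw [latImg_add] at h1
    obtain ⟨z', hz', hz'y⟩ := (mem_latImg G 1 _ y).mp h1
    have : z' = z := by
      apply hinj
      have := hz'y.trans hzy.symm
      simpa using this
    rw [← this]; exact hz'

theorem Pu_stable {b : ℤ} (F : N →ₛₗ[Isoc.frob p k b] N) (hcomm : ∀ x, F (G x) = G (F x))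
    {M : Submodule (WittVector p k) N} (hM : M.IsLattice K(p, k)) :
    ∀ x ∈ Submodule.span K(p, k) (Mu G M : Set N),
      F x ∈ Submodule.span K(p, k) (Mu G M : Set N) := by
  intro x hx
  obtain ⟨c, hc⟩ := exists_pow_smul_mem_of_span hx
  obtain ⟨e, he⟩ := exists_le_pPow_neg (latImg_fg F 1 hM.fg) hM
  have hy : ((p : K(p, k)) ^ e) • F (((p : K(p, k)) ^ c) • x) ∈ Mu G M := by
    rw [mem_Mu]
    intro n
    obtain ⟨m, hm, hmx⟩ := (mem_latImg G n M _).mp ((mem_Mu G M _).mp hc n)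
    have hFm : ((p : K(p, k)) ^ e) • F m ∈ M := by
      have := he ((mem_latImg F 1 M _).mpr ⟨m, hm, rfl⟩)
      rw [mem_pPow', neg_neg, zpow_natCast] at this
      exact this
    refine (mem_latImg G n M _).mpr ⟨_, hFm, ?_⟩
    rw [← zpow_natCast, iterate_pow_smul, zpow_natCast, ← comm_iterate G F hcomm, hmx]
  have : F x = ((p : K(p, k)) ^ (e + c))⁻¹ •
      (((p : K(p, k)) ^ e) • F (((p : K(p, k)) ^ c) • x)) := by
    rw [map_smulₛₗ, map_pow, frob_p, smul_smul, smul_smul, mul_assoc, ← pow_add,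
      inv_mul_cancel₀ (pow_ne_zero _ p_ne), one_smul]
  rw [this]
  exact Submodule.smul_mem _ _ (Submodule.subset_span hy)

theorem sup_eq_top {M : Submodule (WittVector p k) N} (hG : Isoc.latImg G 1 M ≤ M) {h : ℕ}
    (b : Module.Basis (Fin h) K(p, k) N) (hM : M.IsLattice K(p, k))
    (hsurj : Function.Surjective G) :
    Submodule.span K(p, k) (Mu G M : Set N) ⊔ Nn G M = ⊤ := by
  rw [eq_top_iff]
  intro x _
  obtain ⟨c, hc⟩ := exists_pow_smul_mem hM x
  obtain ⟨u, v, huv, hu, hv⟩ := fitting_decomp G hG b hM hsurj hc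
  have hx : x = ((p : K(p, k)) ^ c)⁻¹ • (u + v) := by
    rw [← huv, smul_smul, inv_mul_cancel₀ (pow_ne_zero _ p_ne), one_smul]
  rw [hx]
  apply Submodule.smul_mem
  exact Submodule.add_mem_sup (Submodule.subset_span ((mem_Mu G M u).mpr hu))
    (mem_Nn_of_forall_Vj G hv)

/-- contracting lattices lie in the nilpotent part -/
theorem le_Nn_of_contract {Λ M : Submodule (WittVector p k) N} (hΛ : Λ.FG)
    (hM : M.IsLattice K(p, k)) (h : Isoc.latImg G 1 Λ ≤ Isoc.pPow 1 Λ) :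
    Submodule.span K(p, k) (Λ : Set N) ≤ Nn G M := by
  rw [Submodule.span_le]
  have hn : ∀ n : ℕ, Isoc.latImg G n Λ ≤ Isoc.pPow n Λ := by
    intro n
    induction n with
    | zero => rw [latImg_zero]; simp [pPow_zero]
    | succ n ih =>
      calc Isoc.latImg G (n + 1) Λ = Isoc.latImg G n (Isoc.latImg G 1 Λ) := latImg_add G n 1 Λ
        _ ≤ Isoc.latImg G n (Isoc.pPow 1 Λ) := latImg_mono G n h
        _ = Isoc.pPow 1 (Isoc.latImg G n Λ) := latImg_pPow G n 1 Λ
        _ ≤ Isoc.pPow 1 (Isoc.pPow n Λ) := pPow_mono 1 ih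
        _ = Isoc.pPow ((n + 1 : ℕ) : ℤ) Λ := by
            rw [← pPow_add]; congr 1; push_cast; ring
  obtain ⟨e, he⟩ := exists_le_pPow_neg hΛ hM
  intro x hx j
  refine ⟨j + e, fun n hn' => ?_⟩
  have h1 : (⇑G)^[n] x ∈ Isoc.pPow n Λ := hn n ((mem_latImg G n Λ _).mpr ⟨x, hx, rfl⟩)
  have h2 := pPow_mono (n : ℤ) he h1
  rw [← pPow_add] at h2
  exact pPow_anti (by omega) M h2

/-- a lattice fixed by `G` meets the nilpotent part trivially -/
theorem inf_Nn_eq_bot {Λ M : Submodule (WittVector p k) N} (hΛ : Λ.FG)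
    (hM : M.IsLattice K(p, k)) (hinj : Function.Injective G)
    (h : Isoc.latImg G 1 Λ = Λ) :
    Submodule.span K(p, k) (Λ : Set N) ⊓ Nn G M = ⊥ := by
  rw [eq_bot_iff]
  intro x hx
  obtain ⟨hx1, hx2⟩ := Submodule.mem_inf.mp hx
  rw [Submodule.mem_bot]
  obtain ⟨c, hc⟩ := exists_pow_smul_mem_of_span hx1
  set y : N := ((p : K(p, k)) ^ c) • x with hy
  have hyN : y ∈ Nn G M := Submodule.smul_mem _ _ hx2
  suffices hy0 : y = 0 by
    rw [hy] at hy0
    exact (smul_eq_zero.mp hy0).resolve_left (pow_ne_zero _ p_ne)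
  by_contra hne
  -- y not in p^j Λ for some j
  have hj : ∃ j : ℕ, y ∉ Isoc.pPow j Λ := by
    by_contra hcon
    push Not at hcon
    exact hne (sep hΛ hcon)
  obtain ⟨j, hj⟩ := hj
  have hfix : ∀ n, Isoc.latImg G n Λ = Λ := by
    intro n
    induction n with
    | zero => exact latImg_zero G Λ
    | succ n ih => rw [latImg_add, h, ih]
  have hnot : ∀ n, (⇑G)^[n] y ∉ Isoc.pPow j Λ := by
    intro n hmem
    have h1 : Isoc.pPow j Λ = Isoc.latImg G n (Isoc.pPow j Λ) := by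
      rw [latImg_pPow, hfix]
    rw [h1] at hmem
    obtain ⟨z, hz, hzy⟩ := (mem_latImg G n _ _).mp hmem
    have : z = y := (iterate_injective G hinj n) hzy
    exact hj (this ▸ hz)
  -- commensurability inside the span
  set A : Submodule (WittVector p k) N :=
    M ⊓ (Submodule.span K(p, k) (Λ : Set N)).restrictScalars (WittVector p k) with hA
  have hAfg : A.FG := fg_of_le hM.fg inf_le_left
  obtain ⟨e, he⟩ := exists_le_pPow_neg_of_span (Λ := Λ) hAfg
    (fun x hx => (Submodule.mem_inf.mp hx).2)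
  obtain ⟨n₀, hn₀⟩ := hyN (j + e)
  apply hnot n₀
  have h1 := hn₀ n₀ le_rfl
  obtain ⟨m, hm, hmy⟩ := (mem_pPow _ M _).mp h1
  have hGy : (⇑G)^[n₀] y ∈ Λ := by
    have : (⇑G)^[n₀] y ∈ Isoc.latImg G n₀ Λ := (mem_latImg G n₀ Λ _).mpr ⟨y, hc, rfl⟩
    rwa [hfix] at this
  have hmA : m ∈ A := by
    refine Submodule.mem_inf.mpr ⟨hm, ?_⟩
    show m ∈ Submodule.span K(p, k) (Λ : Set N)
    have : m = ((p : K(p, k)) ^ ((j + e : ℕ) : ℤ))⁻¹ • (⇑G)^[n₀] y := by
      rw [← hmy, smul_smul, inv_mul_cancel₀ (zpow_ne_zero _ p_ne), one_smul]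
    rw [this]
    exact Submodule.smul_mem _ _ (Submodule.subset_span hGy)
  have h2 := smul_mem_pPow ((j + e : ℕ) : ℤ) _ (he hmA)
  rw [hmy, ← pPow_add] at h2
  have e1 : (((j + e : ℕ) : ℤ) + -(e : ℤ)) = (j : ℤ) := by push_cast; ring
  rw [e1] at h2
  exact h2

end Parts

section Main

variable [PerfectRing k p] {a : ℤ} (F : N →ₛₗ[Isoc.frob p k a] N)

theorem twist_comm (r : ℤ) (s : ℕ) (x : N) : F (twist F r s x) = twist F r s (F x) := by
  rw [twist_apply, twist_apply, map_smulₛₗ, frob_zpow_p,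
    ← Function.iterate_succ_apply' (⇑F) s x, Function.iterate_succ_apply]

theorem twist_injective (hinj : Function.Injective F) (r : ℤ) (s : ℕ) :
    Function.Injective (twist F r s) := by
  intro x y hxy
  rw [twist_apply, twist_apply] at hxy
  have := smul_right_injective N (zpow_ne_zero (-r) (p_ne (p := p) (k := k))) hxy
  exact iterate_injective F hinj s this

theorem twist_surjective (hsurj : Function.Surjective F) (r : ℤ) (s : ℕ) :
    Function.Surjective (twist F r s) := by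
  intro y
  obtain ⟨x, hx⟩ := (hsurj.iterate s) (((p : K(p, k)) ^ r) • y)
  refine ⟨x, ?_⟩
  rw [twist_apply, hx, smul_smul, ← zpow_add₀ p_ne, neg_add_cancel, zpow_zero, one_smul]

theorem isoIn_Pu {r : ℤ} {s : ℕ} (hs : 0 < s) {M : Submodule (WittVector p k) N}
    (hG : Isoc.latImg (twist F r s) 1 M ≤ M) (hM : M.FG) (hinj : Function.Injective F) :
    IsoIn F (Submodule.span K(p, k) (Mu (twist F r s) M : Set N)) ((r : ℚ) / s) := by
  refine ⟨Mu (twist F r s) M, fg_of_le hM (Mu_le _ M), rfl, r, s, hs, rfl, ?_⟩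
  have h1 := Mu_fixed (twist F r s) hG (twist_injective F hinj r s)
  rw [latImg_twist', Nat.mul_one] at h1
  have h2 := congrArg (Isoc.pPow r) h1
  rw [← pPow_add] at h2
  have e : r + -(r * ((1 : ℕ) : ℤ)) = 0 := by push_cast; ring
  rw [e, pPow_zero] at h2
  exact h2

theorem le_slopePart {P : Submodule K(p, k) N} (hP : ∀ x ∈ P, F x ∈ P) {μ : ℚ}
    (h : IsoIn F P μ) : P ≤ Isoc.slopePart F μ :=
  le_sSup ⟨hP, restrict_of_isoIn F P hP μ h⟩

theorem slopePart_map_le (P : Submodule K(p, k) N) (hP : ∀ x ∈ P, F x ∈ P)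
    [FiniteDimensional K(p, k) P] (μ : ℚ) :
    (Isoc.slopePart (F.restrict hP) μ).map P.subtype ≤ Isoc.slopePart F μ := by
  obtain ⟨hQ, Λ, hfg, hspan, r, s, hs, hrs, hFΛ⟩ := slopePart_isoIn (F.restrict hP) μ
  apply le_slopePart
  · rintro _ ⟨q, hq, rfl⟩
    exact ⟨(F.restrict hP) q, hQ q hq, rfl⟩
  · have hf : ∀ x : P, P.subtype ((F.restrict hP) x) = F (P.subtype x) := fun x => rfl
    refine ⟨imgL P.subtype Λ, hfg.map _, ?_, r, s, hs, hrs, ?_⟩
    · have h1 : ((imgL P.subtype Λ : Submodule (WittVector p k) N) : Set N) =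
          P.subtype '' (Λ : Set P) := rfl
      rw [h1, ← Submodule.map_span, hspan]
    · rw [← imgL_latImg (F.restrict hP) F P.subtype hf, hFΛ, imgL_pPow]

theorem exists_first_slope [Nontrivial N] (hF : Isoc.IsIsoc F) {h : ℕ}
    (b : Module.Basis (Fin h) K(p, k) N) : ∃ lam : ℝ, Isoc.IsFirstSlope F lam := by
  obtain ⟨M, hM⟩ := exists_lattice b
  obtain ⟨o, ho, lam, hlam⟩ := exists_ord_limit F hF.bijective hM (lattice_ne_bot hM)
  exact ⟨lam, M, hM, o, fun n _ => ho n, hlam⟩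

/-- the key splitting: a nonzero isocrystal is the sum of a nonzero-codimension stable subspace
and a piece of a slope part -/
theorem exists_split [Nontrivial N] (hF : Isoc.IsIsoc F) {h : ℕ}
    (b : Module.Basis (Fin h) K(p, k) N) :
    ∃ (μ : ℚ) (Q : Submodule K(p, k) N), (∀ x ∈ Q, F x ∈ Q) ∧ Q ≠ ⊤ ∧
      Isoc.slopePart F μ ⊔ Q = ⊤ := by
  obtain ⟨lam, hlam⟩ := exists_first_slope F hF b
  obtain ⟨r, s, M, hs, hsh, hlamrs, hM, hle⟩ := first_slope_rational F hF b hlam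
  have hG := twist_stable F hle
  have hpos : 0 < h := by omega
  have hnil : ∀ n, ¬ Isoc.latImg (twist F r s) n M ≤ Isoc.pPow 1 M := by
    intro n hn
    have hbound := nilp_bound (twist F r s) hG b hM hn
    rw [latImg_twist'] at hbound
    have hF2 : Isoc.latImg F (s * h) M ≤ Isoc.pPow (r * h + 1) M := by
      have := pPow_mono (r * h) hbound
      rw [← pPow_add, ← pPow_add, add_neg_cancel, pPow_zero] at this
      exact this
    have h6 := le_slope_of_lattice F hF hlam hM (Nat.mul_pos hs hpos) hF2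
    rw [hlamrs] at h6
    have hs0 : (0 : ℝ) < s := by exact_mod_cast hs
    have hh0 : (0 : ℝ) < h := by exact_mod_cast hpos
    push_cast at h6
    rw [div_le_div_iff₀ (by positivity) hs0] at h6
    nlinarith
  refine ⟨(r : ℚ) / s, Nn (twist F r s) M,
    Nn_stable (twist F r s) F (twist_comm F r s) hM, Nn_ne_top (twist F r s) hG hM hnil, ?_⟩
  rw [eq_top_iff, ← sup_eq_top (twist F r s) hG b hM (twist_surjective F hF.bijective.2 r s)]
  apply sup_le_sup_right
  apply le_slopePart F (Pu_stable (twist F r s) F (twist_comm F r s) hM)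
  exact isoIn_Pu F hs hG hM.fg hF.bijective.1

end Main

section Span

variable [PerfectRing k p] {a : ℤ}

theorem iSup_slopePart_aux (n : ℕ) : ∀ (V : Type v) [AddCommGroup V] [Module (WittVector p k) V]
    [Module K(p, k) V] [IsScalarTower (WittVector p k) K(p, k) V]
    (F : V →ₛₗ[Isoc.frob p k a] V), Isoc.IsIsoc F → Module.finrank K(p, k) V = n →
    ⨆ μ : ℚ, Isoc.slopePart F μ = ⊤ := by
  induction n using Nat.strong_induction_on with
  | _ n ih =>
    intro V _ _ _ _ F hF hn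
    have hfd : FiniteDimensional K(p, k) V := hF.finite
    rcases subsingleton_or_nontrivial V with hsub | hnt
    · exact Subsingleton.elim _ _
    · obtain ⟨μ, Q, hQ, hQtop, hsup⟩ := exists_split F hF (Module.finBasis K(p, k) V)
      have hlt : Module.finrank K(p, k) Q < n := hn ▸ Submodule.finrank_lt hQtop
      have hF' : Isoc.IsIsoc (F.restrict hQ) := by
        refine ⟨inferInstance, ?_, ?_⟩
        · intro x y hxy
          apply Subtype.ext
          apply hF.bijective.1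
          exact congrArg Subtype.val hxy
        · apply semilinear_surj_of_inj (frob_bijective a).2
          intro x y hxy
          apply Subtype.ext
          apply hF.bijective.1
          exact congrArg Subtype.val hxy
      have hIH := ih _ hlt Q (F.restrict hQ) hF' rfl
      have hQle : Q ≤ ⨆ μ : ℚ, Isoc.slopePart F μ := by
        calc Q = (⊤ : Submodule K(p, k) Q).map Q.subtype := by
              rw [Submodule.map_top, Submodule.range_subtype]
          _ = ⨆ μ : ℚ, (Isoc.slopePart (F.restrict hQ) μ).map Q.subtype := by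
              rw [← hIH, Submodule.map_iSup]
          _ ≤ ⨆ μ : ℚ, Isoc.slopePart F μ :=
              iSup_mono (fun μ => slopePart_map_le F Q hQ μ)
      rw [eq_top_iff, ← hsup]
      exact sup_le (le_iSup (fun μ : ℚ => Isoc.slopePart F μ) μ) hQle

theorem iSup_slopePart_eq_top (F : N →ₛₗ[Isoc.frob p k a] N) (hF : Isoc.IsIsoc F) :
    ⨆ μ : ℚ, Isoc.slopePart F μ = ⊤ :=
  iSup_slopePart_aux _ N F hF rfl

end Span

section Indep

variable [PerfectRing k p] {a : ℤ} (F : N →ₛₗ[Isoc.frob p k a] N)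

theorem disjoint_of_lt [FiniteDimensional K(p, k) N] (hinj : Function.Injective F) {h : ℕ}
    (b : Module.Basis (Fin h) K(p, k) N) (μ₁ : ℚ) (T : Finset ℚ) (hT : ∀ μ ∈ T, μ₁ < μ) :
    Disjoint (Isoc.slopePart F μ₁) (T.sup (Isoc.slopePart F)) := by
  classical
  have hw : ∀ μ : ℚ, ∃ Λ : Submodule (WittVector p k) N, Λ.FG ∧
      Submodule.span K(p, k) (Λ : Set N) = Isoc.slopePart F μ ∧
      ∃ (r : ℤ) (s : ℕ), 0 < s ∧ (r : ℚ) / s = μ ∧ Isoc.latImg F s Λ = Isoc.pPow r Λ :=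
    fun μ => (slopePart_isoIn F μ).2
  choose Λ hΛfg hΛspan r t ht hrt hFΛ using hw
  set T' := insert μ₁ T with hT'
  set S : ℕ := ∏ μ ∈ T', t μ with hSdef
  have hS : 0 < S := Finset.prod_pos (fun μ _ => ht μ)
  have hdvd : ∀ μ ∈ T', t μ ∣ S := fun μ hμ => Finset.dvd_prod_of_mem t hμ
  set q : ℚ → ℕ := fun μ => S / t μ with hqdef
  have hq : ∀ μ ∈ T', q μ * t μ = S := fun μ hμ => Nat.div_mul_cancel (hdvd μ hμ)
  have hFS : ∀ μ ∈ T', Isoc.latImg F S (Λ μ) = Isoc.pPow ((q μ : ℤ) * r μ) (Λ μ) := by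
    intro μ hμ
    rw [← hq μ hμ]
    exact latImg_iter F (hFΛ μ) (q μ)
  have hR : ∀ μ ∈ T', (((q μ : ℤ) * r μ : ℤ) : ℚ) = S * μ := by
    intro μ hμ
    have h1 : (q μ : ℚ) * t μ = S := by exact_mod_cast hq μ hμ
    have h2 : (t μ : ℚ) ≠ 0 := by
      have := ht μ
      positivity
    have h3 := hrt μ
    rw [div_eq_iff h2] at h3
    push_cast
    rw [h3, ← h1]
    ring
  have hμ₁ : μ₁ ∈ T' := Finset.mem_insert_self μ₁ T
  set R₁ : ℤ := (q μ₁ : ℤ) * r μ₁ with hR₁
  obtain ⟨M, hM⟩ := exists_lattice b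
  have hGinj : Function.Injective (twist F R₁ S) := twist_injective F hinj R₁ S
  have h1 : Isoc.latImg (twist F R₁ S) 1 (Λ μ₁) = Λ μ₁ := by
    rw [latImg_twist', Nat.mul_one, hFS μ₁ hμ₁, ← pPow_add]
    have e : -(R₁ * ((1 : ℕ) : ℤ)) + (q μ₁ : ℤ) * r μ₁ = 0 := by rw [hR₁]; push_cast; ring
    rw [e, pPow_zero]
  have h2 : ∀ μ ∈ T, Isoc.latImg (twist F R₁ S) 1 (Λ μ) ≤ Isoc.pPow 1 (Λ μ) := by
    intro μ hμ
    have hμ' : μ ∈ T' := Finset.mem_insert_of_mem hμ
    rw [latImg_twist', Nat.mul_one, hFS μ hμ', ← pPow_add]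
    apply pPow_anti
    have h3 : ((R₁ : ℤ) : ℚ) < (((q μ : ℤ) * r μ : ℤ) : ℚ) := by
      rw [hR₁, hR μ₁ hμ₁, hR μ hμ']
      have hS0 : (0 : ℚ) < S := by exact_mod_cast hS
      exact mul_lt_mul_of_pos_left (hT μ hμ) hS0
    have h4 : R₁ < (q μ : ℤ) * r μ := by exact_mod_cast h3
    push_cast
    omega
  have h3 : T.sup (Isoc.slopePart F) ≤ Nn (twist F R₁ S) M := by
    apply Finset.sup_le
    intro μ hμ
    rw [← hΛspan μ]
    exact le_Nn_of_contract (twist F R₁ S) (hΛfg μ) hM (h2 μ hμ)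
  have h4 := inf_Nn_eq_bot (twist F R₁ S) (hΛfg μ₁) hM hGinj h1
  rw [hΛspan μ₁] at h4
  rw [disjoint_iff, eq_bot_iff, ← h4]
  exact inf_le_inf_left _ h3

theorem supIndep_slopePart [FiniteDimensional K(p, k) N] (hinj : Function.Injective F) {h : ℕ}
    (b : Module.Basis (Fin h) K(p, k) N) (T : Finset ℚ) : T.SupIndep (Isoc.slopePart F) := by
  classical
  induction T using Finset.induction_on_min with
  | empty => exact Finset.supIndep_empty _
  | insert μ₁ T hlt ih => exact ih.insert (disjoint_of_lt F hinj b μ₁ T hlt)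

theorem iSupIndep_slopePart (hF : Isoc.IsIsoc F) : iSupIndep (fun μ : ℚ => Isoc.slopePart F μ) := by
  have hfd : FiniteDimensional K(p, k) N := hF.finite
  rw [iSupIndep_iff_supIndep]
  exact fun T => supIndep_slopePart F hF.bijective.1 (Module.finBasis K(p, k) N) T

end Indep

end H8Isoc
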