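import Mathlib
import Groth.Prelude.Def_Isoc
import Groth.Agent.H8Isoc5

set_option autoImplicit false
set_option linter.unusedSectionVars false

open scoped Pointwise Isocrystal

universe u v

namespace H8Isoc

variable {p : ℕ} [Fact p.Prime] {k : Type u} [Field k] [CharP k p]
variable {N : Type v} [AddCommGroup N] [Module (WittVector p k) N] [Module K(p, k) N]
  [IsScalarTower (WittVector p k) K(p, k) N]

section DetSum

variable [PerfectRing k p] {a : ℤ} (F : N →ₛₗ[Isoc.frob p k a] N)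

theorem isOrdP_prod {ι : Type*} (s : Finset ι) (c : ι → K(p, k)) (d : ι → ℤ)
    (h : ∀ i ∈ s, Isoc.IsOrdP (c i) (d i)) :
    Isoc.IsOrdP (∏ i ∈ s, c i) (∑ i ∈ s, d i) := by
  classical
  induction s using Finset.induction_on with
  | empty => simpa using isOrdP_one (p := p) (k := k)
  | insert i s hi ih =>
    rw [Finset.prod_insert hi, Finset.sum_insert hi]
    exact isOrdP_mul (h i (Finset.mem_insert_self i s))
      (ih (fun j hj => h j (Finset.mem_insert_of_mem hj)))

/-- refined `iso_int`: an isoclinic lattice determines the order of the determinant -/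
theorem iso_ord {h : ℕ} (b : Module.Basis (Fin h) K(p, k) N)
    {M : Submodule (WittVector p k) N} (hM : M.IsLattice K(p, k)) {r : ℤ} {s : ℕ} (hs : 0 < s)
    (hFM : Isoc.latImg F s M = Isoc.pPow r M) :
    ∃ d₀ : ℤ, Isoc.IsOrdP (mat b F).det d₀ ∧ r * h = s * d₀ := by
  obtain ⟨e, he, hint⟩ := exists_lattice_basis b hM
  have h2 : Isoc.IsOrdP (mat e (Isoc.iter F s)).det (r * h) := by
    apply isOrdP_det_of_eq (frob_pow_W a s) e he hint (Isoc.iter F s) r
    · intro m hm
      rw [← hFM]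
      exact (mem_latImg F s M _).mpr ⟨m, hm, rfl⟩
    · intro y hy
      rw [← hFM] at hy
      exact (mem_latImg F s M y).mp hy
  have hne : (mat e F).det ≠ 0 := by
    intro h0
    obtain ⟨s', rfl⟩ : ∃ s', s = s' + 1 := ⟨s - 1, by omega⟩
    rw [mat_iter_succ, Matrix.det_mul, h0, zero_mul] at h2
    exact isOrdP_ne_zero h2 rfl
  obtain ⟨d₀, hd₀⟩ := exists_isOrdP hne
  exact ⟨d₀, isOrdP_basis_change e b F hd₀, isOrdP_unique h2 (isOrdP_det_iter e F hd₀ s)⟩

theorem finsum_slopes (hF : Isoc.IsIsoc F) {h : ℕ} (b : Module.Basis (Fin h) K(p, k) N) {d : ℤ}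
    (hd : Isoc.IsOrdP (Isoc.detCoeff b F) d) :
    ∑ᶠ μ : ℚ, μ * (Isoc.newtonMult F μ : ℚ) = d := by
  classical
  have hfd : FiniteDimensional K(p, k) N := hF.finite
  have hint : DirectSum.IsInternal (fun μ : ℚ => Isoc.slopePart F μ) := by
    rw [DirectSum.isInternal_submodule_iff_iSupIndep_and_iSup_eq_top]
    exact ⟨iSupIndep_slopePart F hF, iSup_slopePart_eq_top F hF⟩
  have hst : ∀ μ : ℚ, ∀ x ∈ Isoc.slopePart F μ, F x ∈ Isoc.slopePart F μ :=
    fun μ => (slopePart_isoIn F μ).1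
  let bb : ∀ μ : ℚ, Module.Basis (Fin (Isoc.newtonMult F μ)) K(p, k) (Isoc.slopePart F μ) :=
    fun μ => Module.finBasis K(p, k) (Isoc.slopePart F μ)
  have hblock : ∀ μ : ℚ, ∃ dμ : ℤ, Isoc.IsOrdP (mat (bb μ) (F.restrict (hst μ))).det dμ ∧
      (dμ : ℚ) = μ * (Isoc.newtonMult F μ : ℚ) := by
    intro μ
    obtain ⟨M', hM', r, s, hs, hrs, hFM⟩ :=
      restrict_of_isoIn F _ (hst μ) μ (slopePart_isoIn F μ).2
    obtain ⟨d₀, hd₀, hrel⟩ := iso_ord (F.restrict (hst μ)) (bb μ) hM' hs hFM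
    refine ⟨d₀, hd₀, ?_⟩
    have hs0 : (s : ℚ) ≠ 0 := by positivity
    have h1 : ((r * (Isoc.newtonMult F μ : ℤ) : ℤ) : ℚ) = ((s * d₀ : ℤ) : ℚ) := by
      exact_mod_cast congrArg (Int.cast (R := ℚ)) hrel
    push_cast at h1
    have h3 : (d₀ : ℚ) = (r : ℚ) / s * (Isoc.newtonMult F μ : ℚ) := by
      field_simp
      linarith
    rw [h3, hrs]
  choose dd hdd hddq using hblock
  let c := hint.collectedBasis bb
  have : Fintype (Σ μ : ℚ, Fin (Isoc.newtonMult F μ)) := FiniteDimensional.fintypeBasisIndex c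
  let A : Matrix (Σ μ : ℚ, Fin (Isoc.newtonMult F μ)) (Σ μ : ℚ, Fin (Isoc.newtonMult F μ))
      K(p, k) := Matrix.of fun i j => c.repr (F (c j)) i
  have hcmem : ∀ j, F (c j) ∈ Isoc.slopePart F j.1 :=
    fun j => hst _ _ (hint.collectedBasis_mem bb j)
  have hBT : A.BlockTriangular Sigma.fst := by
    intro i j hij
    show c.repr (F (c j)) i = 0
    obtain ⟨μi, li⟩ := i
    exact hint.collectedBasis_repr_of_mem_ne bb (ne_of_lt hij) (hcmem j)
  have hblk : ∀ μ : ℚ, (A.toSquareBlock Sigma.fst μ).det =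
      (mat (bb μ) (F.restrict (hst μ))).det := by
    intro μ
    have : A.toSquareBlock Sigma.fst μ = (mat (bb μ) (F.restrict (hst μ))).submatrix
        (Equiv.sigmaSubtype μ) (Equiv.sigmaSubtype μ) := by
      ext ⟨⟨μ', l'⟩, h'⟩ ⟨⟨μ'', l''⟩, h''⟩
      simp only at h' h''
      subst h'
      subst h''
      show c.repr (F (c ⟨μ'', l''⟩)) ⟨μ'', l'⟩ =
        (bb μ'').repr ((F.restrict (hst μ'')) (bb μ'' l'')) l'
      have h1 : c ⟨μ'', l''⟩ = ((bb μ'' l'' : Isoc.slopePart F μ'') : N) := by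
        show hint.collectedBasis bb ⟨μ'', l''⟩ = _
        rw [hint.collectedBasis_coe]
      rw [h1]
      have h2 : F ((bb μ'' l'' : Isoc.slopePart F μ'') : N) ∈ Isoc.slopePart F μ'' :=
        hst μ'' _ (bb μ'' l'').2
      rw [hint.collectedBasis_repr_of_mem bb h2]
      rfl
    rw [this, Matrix.det_submatrix_equiv_self]
  have hdetA : Isoc.IsOrdP A.det (∑ μ ∈ Finset.univ.image (Sigma.fst (β := fun μ : ℚ =>
      Fin (Isoc.newtonMult F μ))), dd μ) := by
    rw [hBT.det]
    apply isOrdP_prod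
    intro μ _
    rw [hblk μ]
    exact hdd μ
  -- compare with the given basis
  let σ := c.indexEquiv b
  let e := c.reindex σ
  have hmat : mat e F = A.submatrix σ.symm σ.symm := by
    ext i j
    show e.repr (F (e j)) i = c.repr (F (c (σ.symm j))) (σ.symm i)
    rw [Module.Basis.repr_reindex_apply, Module.Basis.reindex_apply]
  have hd' : Isoc.IsOrdP (mat e F).det d := isOrdP_basis_change b e F hd
  rw [hmat, Matrix.det_submatrix_equiv_self] at hd'
  have hdeq := isOrdP_unique hd' hdetA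
  rw [finsum_eq_sum_of_support_subset (s := Finset.univ.image (Sigma.fst (β := fun μ : ℚ =>
      Fin (Isoc.newtonMult F μ))))]
  · rw [hdeq]
    push_cast
    exact Finset.sum_congr rfl (fun μ _ => (hddq μ).symm)
  · intro μ hμ
    rw [Function.mem_support] at hμ
    have hm : Isoc.newtonMult F μ ≠ 0 := by
      intro h0
      apply hμ
      rw [h0]; simp
    rw [Finset.coe_image, Set.mem_image]
    exact ⟨⟨μ, ⟨0, Nat.pos_of_ne_zero hm⟩⟩, by simp, rfl⟩

end DetSum

end H8Isoc
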