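import Mathlib
import Groth.Prelude.Def_Isoc
import Groth.Agent.H8Isoc6

set_option autoImplicit false
set_option linter.unusedSectionVars false

open scoped Pointwise Isocrystal
open Polynomial

universe u v w

namespace H8Isoc

section MatrixLemmas

theorem scalar_sub_mulVec {Ω : Type*} [Field Ω] {n : ℕ} (M : Matrix (Fin n) (Fin n) Ω) (t : Ω)
    (v : Fin n → Ω) : (Matrix.scalar (Fin n) t - M).mulVec v = t • v - M.mulVec v := by
  rw [Matrix.sub_mulVec]
  congr 1
  ext i
  simp [Matrix.mulVec_diagonal]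

theorem isRoot_charpoly_iff_exists {Ω : Type*} [Field Ω] {n : ℕ} (M : Matrix (Fin n) (Fin n) Ω)
    (t : Ω) : M.charpoly.IsRoot t ↔ ∃ v : Fin n → Ω, v ≠ 0 ∧ M.mulVec v = t • v := by
  rw [Polynomial.IsRoot.def, Matrix.eval_charpoly, ← Matrix.exists_mulVec_eq_zero_iff]
  constructor
  · rintro ⟨v, hv, h⟩
    rw [scalar_sub_mulVec, sub_eq_zero] at h
    exact ⟨v, hv, h.symm⟩
  · rintro ⟨v, hv, h⟩
    exact ⟨v, hv, by rw [scalar_sub_mulVec, sub_eq_zero]; exact h.symm⟩

theorem pow_mulVec_eigen {Ω : Type*} [Field Ω] {n : ℕ} (M : Matrix (Fin n) (Fin n) Ω)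
    (t : Ω) (v : Fin n → Ω) (h : M.mulVec v = t • v) (s : ℕ) : (M ^ s).mulVec v = t ^ s • v := by
  induction s with
  | zero => simp
  | succ s ih =>
    rw [pow_succ, ← Matrix.mulVec_mulVec, h, Matrix.mulVec_smul, ih, smul_smul, pow_succ, mul_comm]

theorem isIntegral_aeval_of_isIntegral {R A : Type*} [CommRing R] [CommRing A] [Algebra R A]
    {x : A} (hx : IsIntegral R x) (g : R[X]) : IsIntegral R (aeval x g) := by
  have := (aeval (⟨x, hx⟩ : integralClosure R A) g).2
  rwa [Polynomial.aeval_subalgebra_coe] at this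

theorem unit_eigen {R K Ω : Type*} [CommRing R] [Field K] [Field Ω] [Algebra R K] [Algebra K Ω]
    [Algebra R Ω] [IsScalarTower R K Ω] {n : ℕ}
    (A : Matrix (Fin n) (Fin n) K) (B₀ : Matrix (Fin n) (Fin n) R) (hB : IsUnit B₀.det) (c : K)
    (s : ℕ) (h : c • A ^ s = B₀.map (algebraMap R K)) (α : Ω)
    (hα : (A.charpoly.map (algebraMap K Ω)).IsRoot α) :
    algebraMap K Ω c * α ^ s ≠ 0 ∧
    IsIntegral R (algebraMap K Ω c * α ^ s) ∧ IsIntegral R (algebraMap K Ω c * α ^ s)⁻¹ := by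
  set φ := algebraMap K Ω with hφ
  set β := φ c * α ^ s with hβ
  rw [← Matrix.charpoly_map, isRoot_charpoly_iff_exists] at hα
  obtain ⟨v, hv0, hv⟩ := hα
  have hpow := pow_mulVec_eigen _ α v hv s
  have hBΩ : B₀.map (algebraMap R Ω) = φ c • (A.map φ) ^ s := by
    have h1 : B₀.map (algebraMap R Ω) = (B₀.map (algebraMap R K)).map φ := by
      ext i j
      simp [hφ, ← IsScalarTower.algebraMap_apply]
    rw [h1, ← h]
    ext i j
    have h2 : (A.map φ) ^ s = (A ^ s).map φ := (map_pow (φ.mapMatrix) A s).symm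
    rw [h2]
    simp
  have hBv : (B₀.map (algebraMap R Ω)).mulVec v = β • v := by
    rw [hBΩ, Matrix.smul_mulVec, hpow, smul_smul]
  have hroot : ((B₀.map (algebraMap R Ω)).charpoly).IsRoot β :=
    (isRoot_charpoly_iff_exists _ β).mpr ⟨v, hv0, hBv⟩
  rw [Matrix.charpoly_map, Polynomial.IsRoot.def, Polynomial.eval_map,
    ← Polynomial.aeval_def] at hroot
  have hint : IsIntegral R β := ⟨B₀.charpoly, Matrix.charpoly_monic B₀, hroot⟩
  set f := B₀.charpoly with hf
  have ha0 : IsUnit (f.coeff 0) := by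
    have h1 := Matrix.det_eq_sign_charpoly_coeff B₀
    rw [h1] at hB
    exact (IsUnit.mul_iff.mp hB).2
  obtain ⟨u, hu⟩ := ha0
  have hsplit : aeval β (f.divX) * β + algebraMap R Ω (f.coeff 0) = 0 := by
    have := congrArg (aeval β) (Polynomial.divX_mul_X_add f)
    rw [hroot] at this
    simpa using this
  have hmul : β * (-(algebraMap R Ω ((u⁻¹ : Rˣ) : R)) * aeval β (f.divX)) = 1 := by
    have h2 : β * aeval β (f.divX) = -algebraMap R Ω (f.coeff 0) := by
      rw [mul_comm]; exact eq_neg_of_add_eq_zero_left hsplit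
    calc β * (-(algebraMap R Ω ((u⁻¹ : Rˣ) : R)) * aeval β (f.divX))
        = -(algebraMap R Ω ((u⁻¹ : Rˣ) : R)) * (β * aeval β (f.divX)) := by ring
      _ = algebraMap R Ω (((u⁻¹ : Rˣ) : R) * (u : R)) := by rw [h2, ← hu, map_mul]; ring
      _ = 1 := by simp
  refine ⟨left_ne_zero_of_mul_eq_one hmul, hint, ?_⟩
  rw [inv_eq_of_mul_eq_one_right hmul]
  exact (isIntegral_algebraMap.neg).mul (isIntegral_aeval_of_isIntegral hint _)

end MatrixLemmas

variable {p : ℕ} [Fact p.Prime] {k : Type u} [Field k] [CharP k p]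
variable {N : Type v} [AddCommGroup N] [Module (WittVector p k) N] [Module K(p, k) N]
  [IsScalarTower (WittVector p k) K(p, k) N]

section RootUnit

variable [PerfectRing k p] {a : ℤ} (F : N →ₛₗ[Isoc.frob p k a] N)

theorem root_unit [Module.Finite K(p, k) N] {n : ℕ} (b : Module.Basis (Fin n) K(p, k) N)
    (m : ℕ) (π : N →ₗ[K(p, k)] N) (hπ : ∀ x, π x = (⇑F)^[m] x)
    {Λ : Submodule (WittVector p k) N} (hΛ : Λ.IsLattice K(p, k)) {r : ℤ} {s : ℕ}
    (hFΛ : Isoc.latImg F s Λ = Isoc.pPow r Λ)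
    {Ω : Type w} [Field Ω] [Algebra (WittVector p k) Ω] [Algebra K(p, k) Ω]
    [IsScalarTower (WittVector p k) K(p, k) Ω] (α : Ω)
    (hα : (π.charpoly.map (algebraMap K(p, k) Ω)).IsRoot α) :
    algebraMap K(p, k) Ω ((p : K(p, k)) ^ (-(r * m))) * α ^ s ≠ 0 ∧
    IsIntegral (WittVector p k) (algebraMap K(p, k) Ω ((p : K(p, k)) ^ (-(r * m))) * α ^ s) ∧
    IsIntegral (WittVector p k)
      (algebraMap K(p, k) Ω ((p : K(p, k)) ^ (-(r * m))) * α ^ s)⁻¹ := by
  obtain ⟨e, he, hint⟩ := exists_lattice_basis b hΛ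
  set c : K(p, k) := (p : K(p, k)) ^ (-(r * m)) with hc
  set T : N →ₗ[K(p, k)] N := c • π ^ s with hT
  have hTx : ∀ x, T x = c • (⇑F)^[m * s] x := by
    intro x
    have hfun : ⇑π = (⇑F)^[m] := funext hπ
    rw [hT, LinearMap.smul_apply, Module.End.pow_apply, hfun, ← Function.iterate_mul]
  have hiter : Isoc.latImg F (m * s) Λ = Isoc.pPow ((m : ℤ) * r) Λ := latImg_iter F hFΛ m
  have hT1 : ∀ x ∈ Λ, T x ∈ Isoc.pPow 0 Λ := by
    intro x hx
    rw [hTx]
    have h1 : (⇑F)^[m * s] x ∈ Isoc.pPow ((m : ℤ) * r) Λ := by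
      rw [← hiter]; exact (mem_latImg F _ Λ _).mpr ⟨x, hx, rfl⟩
    have h2 := smul_mem_pPow (-(r * m)) _ h1
    rw [← pPow_add] at h2
    have e1 : -(r * (m : ℤ)) + (m : ℤ) * r = 0 := by ring
    rw [e1] at h2
    exact h2
  have hT2 : ∀ y ∈ Isoc.pPow 0 Λ, ∃ x ∈ Λ, T x = y := by
    intro y hy
    rw [pPow_zero] at hy
    have h1 : ((p : K(p, k)) ^ ((m : ℤ) * r)) • y ∈ Isoc.latImg F (m * s) Λ := by
      rw [hiter]; exact smul_mem_pPow _ Λ hy
    obtain ⟨x, hx, hxy⟩ := (mem_latImg F _ Λ _).mp h1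
    refine ⟨x, hx, ?_⟩
    rw [hTx, hxy, hc, smul_smul, ← zpow_add₀ p_ne]
    have e1 : -(r * (m : ℤ)) + (m : ℤ) * r = 0 := by ring
    rw [e1, zpow_zero, one_smul]
  have hord : Isoc.IsOrdP (mat e T).det (0 * n) :=
    isOrdP_det_of_eq (σ := RingHom.id K(p, k)) (fun w => ⟨w, rfl⟩) e he hint T 0 hT1 hT2
  have hent : ∀ i j, ∃ w : WittVector p k, mat e T i j = algebraMap _ _ w := by
    intro i j
    have h1 := hT1 (e j) (he j)
    rw [pPow_zero] at h1
    exact hint _ h1 i
  choose B₀ hB₀ using hent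
  have hmatB : mat e T = (Matrix.of B₀).map (algebraMap (WittVector p k) K(p, k)) := by
    ext i j
    rw [hB₀ i j]; rfl
  have hdet : IsUnit (Matrix.of B₀).det := by
    obtain ⟨u, hu⟩ := hord
    rw [hmatB, zero_mul, zpow_zero, one_mul] at hu
    have h1 : ((Matrix.of B₀).map (algebraMap (WittVector p k) K(p, k))).det =
        algebraMap (WittVector p k) K(p, k) (Matrix.of B₀).det := by
      rw [RingHom.map_det]; rfl
    rw [h1] at hu
    have := (IsFractionRing.injective (WittVector p k) K(p, k)) hu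
    rw [this]; exact u.isUnit
  have hmatT : mat e T = c • (LinearMap.toMatrix e e π) ^ s := by
    have h1 : mat e T = LinearMap.toMatrix e e T := by
      ext i j
      rw [LinearMap.toMatrix_apply]; rfl
    rw [h1, hT, map_smul, LinearMap.toMatrix_pow]
  have hα' : ((LinearMap.toMatrix e e π).charpoly.map (algebraMap K(p, k) Ω)).IsRoot α := by
    rw [LinearMap.charpoly_toMatrix]; exact hα
  exact unit_eigen (LinearMap.toMatrix e e π) (Matrix.of B₀) hdet c s
    (by rw [← hmatT, hmatB]) α hα'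

end RootUnit

section Finite

variable [PerfectRing k p]

theorem nonneg_of_isIntegral_zpow {Ω : Type w} [Field Ω] [Algebra (WittVector p k) Ω]
    [Algebra K(p, k) Ω] [IsScalarTower (WittVector p k) K(p, k) Ω] (e : ℤ)
    (h : IsIntegral (WittVector p k) ((algebraMap K(p, k) Ω (p : K(p, k))) ^ e)) : 0 ≤ e := by
  rw [← map_zpow₀] at h
  have h1 : IsIntegral (WittVector p k) ((p : K(p, k)) ^ e) :=
    (isIntegral_algebraMap_iff (algebraMap K(p, k) Ω).injective).mp h
  obtain ⟨y, hy⟩ := IsIntegrallyClosed.isIntegral_iff.mp h1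
  have : Isoc.IsOrdP (algebraMap (WittVector p k) K(p, k) y) e := ⟨1, by rw [hy]; simp⟩
  exact isOrdP_nonneg this

/-- a unit of the integral closure -/
def IsU {Ω : Type w} [Field Ω] [Algebra (WittVector p k) Ω] (β : Ω) : Prop :=
  IsIntegral (WittVector p k) β ∧ IsIntegral (WittVector p k) β⁻¹

theorem IsU.mul {Ω : Type w} [Field Ω] [Algebra (WittVector p k) Ω] {x y : Ω}
    (hx : IsU (p := p) (k := k) x) (hy : IsU (p := p) (k := k) y) :
    IsU (p := p) (k := k) (x * y) :=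
  ⟨hx.1.mul hy.1, by rw [mul_inv]; exact hx.2.mul hy.2⟩

theorem IsU.pow {Ω : Type w} [Field Ω] [Algebra (WittVector p k) Ω] {x : Ω}
    (hx : IsU (p := p) (k := k) x) (n : ℕ) : IsU (p := p) (k := k) (x ^ n) :=
  ⟨hx.1.pow n, by rw [← inv_pow]; exact hx.2.pow n⟩

theorem IsU.inv {Ω : Type w} [Field Ω] [Algebra (WittVector p k) Ω] {x : Ω}
    (hx : IsU (p := p) (k := k) x) : IsU (p := p) (k := k) x⁻¹ :=
  ⟨hx.2, by rw [inv_inv]; exact hx.1⟩

theorem IsU.of_pow {Ω : Type w} [Field Ω] [Algebra (WittVector p k) Ω] {x : Ω} {n : ℕ}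
    (hn : 0 < n) (hx : IsU (p := p) (k := k) (x ^ n)) : IsU (p := p) (k := k) x :=
  ⟨IsIntegral.of_pow hn hx.1, IsIntegral.of_pow hn (by rw [inv_pow]; exact hx.2)⟩

theorem slope_compare {Ω : Type w} [Field Ω] [Algebra (WittVector p k) Ω]
    [Algebra K(p, k) Ω] [IsScalarTower (WittVector p k) K(p, k) Ω] (α : Ω) {r : ℤ} {s m : ℕ}
    (hs : 0 < s) (hm : 0 < m) (μ : ℚ)
    (h0 : algebraMap K(p, k) Ω ((p : K(p, k)) ^ (-(r * m))) * α ^ s ≠ 0)
    (hU : IsU (p := p) (k := k) (algebraMap K(p, k) Ω ((p : K(p, k)) ^ (-(r * m))) * α ^ s)) :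
    IsU (p := p) (k := k)
      (α ^ μ.den * (algebraMap K(p, k) Ω (p : K(p, k))) ^ (-(μ.num * (m : ℤ)))) ↔
      (r : ℚ) / s = μ := by
  set P : Ω := algebraMap K(p, k) Ω (p : K(p, k)) with hP
  have hP0 : P ≠ 0 := by
    rw [hP, Ne, map_eq_zero]; exact p_ne
  have hα0 : α ≠ 0 := by
    rintro rfl
    apply h0
    rw [zero_pow hs.ne', mul_zero]
  rw [map_zpow₀] at h0 hU
  set β₂ : Ω := P ^ (-(r * m)) * α ^ s with hβ₂
  set β₁ : Ω := α ^ μ.den * P ^ (-(μ.num * (m : ℤ))) with hβ₁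
  set E : ℤ := (r * μ.den - μ.num * s) * m with hE
  have hkey : β₁ ^ s = P ^ E * β₂ ^ μ.den := by
    rw [hβ₁, hβ₂, mul_pow, mul_pow, ← pow_mul, ← pow_mul, ← zpow_natCast (P ^ _) s, ← zpow_mul,
      ← zpow_natCast (P ^ _) μ.den, ← zpow_mul, ← mul_assoc, ← zpow_add₀ hP0, mul_comm μ.den s,
      mul_comm]
    congr 2
    rw [hE]; ring
  have hrel : (r : ℚ) / s = μ ↔ r * μ.den = μ.num * s := by
    have hs0 : (s : ℚ) ≠ 0 := by positivity
    have hd0 : (μ.den : ℚ) ≠ 0 := by exact_mod_cast μ.den_ne_zero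
    conv_lhs => rw [← Rat.num_div_den μ]
    rw [div_eq_div_iff hs0 hd0]
    constructor
    · intro h; exact_mod_cast h
    · intro h; exact_mod_cast h
  rw [hrel]
  constructor
  · intro h1
    have hPE : IsU (p := p) (k := k) (P ^ E) := by
      have h2 : P ^ E = β₁ ^ s * (β₂ ^ μ.den)⁻¹ := by
        rw [hkey, mul_assoc, mul_inv_cancel₀ (pow_ne_zero _ h0), mul_one]
      rw [h2]
      exact (h1.pow s).mul (hU.pow μ.den).inv
    have hE1 : 0 ≤ E := nonneg_of_isIntegral_zpow E hPE.1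
    have hE2 : 0 ≤ -E := by
      apply nonneg_of_isIntegral_zpow (p := p) (k := k) (Ω := Ω)
      rw [zpow_neg]; exact hPE.2
    have hE0 : E = 0 := by omega
    rw [hE] at hE0
    have hm0 : (m : ℤ) ≠ 0 := by exact_mod_cast hm.ne'
    have := (mul_eq_zero.mp hE0).resolve_right hm0
    linarith
  · intro h1
    have hE0 : E = 0 := by rw [hE, h1]; ring
    rw [hE0, zpow_zero, one_mul] at hkey
    apply IsU.of_pow hs
    rw [hkey]
    exact hU.pow μ.den

theorem countP_roots_prod {Ω : Type w} [Field Ω] {ι : Type*} (P : Ω → Prop) [DecidablePred P]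
    (S : Finset ι) (f : ι → Polynomial Ω) (hf : ∀ i ∈ S, f i ≠ 0) :
    Multiset.countP P (∏ i ∈ S, f i).roots = ∑ i ∈ S, Multiset.countP P (f i).roots := by
  classical
  induction S using Finset.induction_on with
  | empty => simp
  | insert i S hi ih =>
    have h1 : f i ≠ 0 := hf i (Finset.mem_insert_self i S)
    have h2 : ∏ j ∈ S, f j ≠ 0 :=
      Finset.prod_ne_zero_iff.mpr (fun j hj => hf j (Finset.mem_insert_of_mem hj))
    rw [Finset.prod_insert hi, Finset.sum_insert hi, Polynomial.roots_mul (mul_ne_zero h1 h2),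
      Multiset.countP_add, ih (fun j hj => hf j (Finset.mem_insert_of_mem hj))]

end Finite

section Assembly

variable [PerfectRing k p] {a : ℤ} (F : N →ₛₗ[Isoc.frob p k a] N)

theorem iterate_mem_sub (P : Submodule K(p, k) N) (hP : ∀ x ∈ P, F x ∈ P) (n : ℕ) {x : N}
    (hx : x ∈ P) : (⇑F)^[n] x ∈ P := by
  induction n with
  | zero => exact hx
  | succ n ih => rw [Function.iterate_succ_apply']; exact hP _ ih

open scoped Classical in
theorem newton_finite [Module.Finite K(p, k) N] (hF : Isoc.IsIsoc F) (m : ℕ) (hm : 0 < m)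
    (π : N →ₗ[K(p, k)] N) (hπ : ∀ x : N, π x = (⇑F)^[m] x)
    (Ω : Type w) [Field Ω] [IsAlgClosed Ω] [Algebra (WittVector p k) Ω] [Algebra K(p, k) Ω]
    [IsScalarTower (WittVector p k) K(p, k) Ω] (μ : ℚ) :
    Isoc.newtonMult F μ =
      Multiset.countP
        (fun α : Ω => IsIntegral (WittVector p k)
            (α ^ μ.den * (algebraMap K(p, k) Ω (p : K(p, k))) ^ (-(μ.num * (m : ℤ))))
          ∧ IsIntegral (WittVector p k)
            (α ^ μ.den * (algebraMap K(p, k) Ω (p : K(p, k))) ^ (-(μ.num * (m : ℤ))))⁻¹)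
        ((π.charpoly.map (algebraMap K(p, k) Ω)).roots) := by
  have hfd : FiniteDimensional K(p, k) N := hF.finite
  have hint : DirectSum.IsInternal (fun μ : ℚ => Isoc.slopePart F μ) := by
    rw [DirectSum.isInternal_submodule_iff_iSupIndep_and_iSup_eq_top]
    exact ⟨iSupIndep_slopePart F hF, iSup_slopePart_eq_top F hF⟩
  have hst : ∀ ν : ℚ, ∀ x ∈ Isoc.slopePart F ν, F x ∈ Isoc.slopePart F ν :=
    fun ν => (slopePart_isoIn F ν).1
  have hπst : ∀ ν : ℚ, ∀ x ∈ Isoc.slopePart F ν, π x ∈ Isoc.slopePart F ν := by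
    intro ν x hx
    rw [hπ]; exact iterate_mem_sub F _ (hst ν) m hx
  let bb : ∀ ν : ℚ, Module.Basis (Fin (Isoc.newtonMult F ν)) K(p, k) (Isoc.slopePart F ν) :=
    fun ν => Module.finBasis K(p, k) (Isoc.slopePart F ν)
  let c := hint.collectedBasis bb
  have : Fintype (Σ ν : ℚ, Fin (Isoc.newtonMult F ν)) := FiniteDimensional.fintypeBasisIndex c
  set φ := algebraMap K(p, k) Ω with hφ
  set S : Finset ℚ := Finset.univ.image (Sigma.fst (β := fun ν : ℚ =>
      Fin (Isoc.newtonMult F ν))) with hS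
  -- charpoly as a product
  have hBT : (LinearMap.toMatrix c c π).BlockTriangular Sigma.fst := by
    intro i j hij
    rw [LinearMap.toMatrix_apply]
    obtain ⟨νi, li⟩ := i
    exact hint.collectedBasis_repr_of_mem_ne bb (ne_of_lt hij)
      (hπst _ _ (hint.collectedBasis_mem bb j))
  have hblk : ∀ ν : ℚ, ((LinearMap.toMatrix c c π).toSquareBlock Sigma.fst ν).charpoly =
      (π.restrict (hπst ν)).charpoly := by
    intro ν
    have h1 : (LinearMap.toMatrix c c π).toSquareBlock Sigma.fst ν =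
        Matrix.reindex (Equiv.sigmaSubtype ν).symm (Equiv.sigmaSubtype ν).symm
          (LinearMap.toMatrix (bb ν) (bb ν) (π.restrict (hπst ν))) := by
      ext ⟨⟨ν', l'⟩, h'⟩ ⟨⟨ν'', l''⟩, h''⟩
      simp only at h' h''
      subst h'
      subst h''
      show (LinearMap.toMatrix c c π) ⟨ν'', l'⟩ ⟨ν'', l''⟩ =
        (LinearMap.toMatrix (bb ν'') (bb ν'') (π.restrict (hπst ν''))) l' l''
      rw [LinearMap.toMatrix_apply, LinearMap.toMatrix_apply]
      have h1 : c ⟨ν'', l''⟩ = ((bb ν'' l'' : Isoc.slopePart F ν'') : N) := by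
        show hint.collectedBasis bb ⟨ν'', l''⟩ = _
        rw [hint.collectedBasis_coe]
      rw [h1]
      have h2 : π ((bb ν'' l'' : Isoc.slopePart F ν'') : N) ∈ Isoc.slopePart F ν'' :=
        hπst ν'' _ (bb ν'' l'').2
      rw [hint.collectedBasis_repr_of_mem bb h2]
      rfl
    rw [h1, Matrix.charpoly_reindex, LinearMap.charpoly_toMatrix]
  have hcp : π.charpoly = ∏ ν ∈ S, (π.restrict (hπst ν)).charpoly := by
    rw [← LinearMap.charpoly_toMatrix π c, hBT.charpoly]
    exact Finset.prod_congr rfl (fun ν _ => hblk ν)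
  rw [hcp, Polynomial.map_prod, countP_roots_prod _ S _
    (fun ν _ => ((LinearMap.charpoly_monic _).map φ).ne_zero)]
  -- each block
  have hcount : ∀ ν ∈ S, Multiset.countP
      (fun α : Ω => IsIntegral (WittVector p k)
          (α ^ μ.den * (φ (p : K(p, k))) ^ (-(μ.num * (m : ℤ))))
        ∧ IsIntegral (WittVector p k)
          (α ^ μ.den * (φ (p : K(p, k))) ^ (-(μ.num * (m : ℤ))))⁻¹)
      (((π.restrict (hπst ν)).charpoly.map φ).roots) =
      if ν = μ then Isoc.newtonMult F μ else 0 := by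
    intro ν _
    obtain ⟨M', hM', r, s, hs, hrs, hFM⟩ :=
      restrict_of_isoIn F _ (hst ν) ν (slopePart_isoIn F ν).2
    have hπν : ∀ x : Isoc.slopePart F ν,
        (π.restrict (hπst ν)) x = (⇑(F.restrict (hst ν)))^[m] x := by
      intro x
      apply Subtype.ext
      rw [restrict_iterate]
      exact hπ x
    have hiff : ∀ α ∈ ((π.restrict (hπst ν)).charpoly.map φ).roots,
        (IsIntegral (WittVector p k)
          (α ^ μ.den * (φ (p : K(p, k))) ^ (-(μ.num * (m : ℤ))))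
        ∧ IsIntegral (WittVector p k)
          (α ^ μ.den * (φ (p : K(p, k))) ^ (-(μ.num * (m : ℤ))))⁻¹) ↔ ν = μ := by
      intro α hα
      have hroot : ((π.restrict (hπst ν)).charpoly.map φ).IsRoot α := (Polynomial.mem_roots'.mp hα).2
      obtain ⟨h0, hU⟩ := root_unit (F.restrict (hst ν)) (bb ν) m (π.restrict (hπst ν)) hπν hM'
        hFM α hroot
      have := slope_compare (p := p) (k := k) α hs hm μ h0 hU
      rw [hrs] at this
      exact this
    split_ifs with hνμ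
    · rw [Multiset.countP_eq_card.mpr (fun α hα => (hiff α hα).mpr hνμ),
        IsAlgClosed.card_roots_eq_natDegree, ((LinearMap.charpoly_monic _).natDegree_map φ),
        LinearMap.charpoly_natDegree, hνμ]
      rfl
    · exact Multiset.countP_eq_zero.mpr (fun α hα h => hνμ ((hiff α hα).mp h))
  rw [Finset.sum_congr rfl hcount, Finset.sum_ite_eq']
  split_ifs with hμS
  · rfl
  · by_contra hne
    apply hμS
    have hpos : 0 < Isoc.newtonMult F μ := Nat.pos_of_ne_zero hne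
    rw [hS, Finset.mem_image]
    exact ⟨⟨μ, ⟨0, hpos⟩⟩, Finset.mem_univ _, rfl⟩

end Assembly

end H8Isoc
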