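import Mathlib

set_option autoImplicit false
set_option linter.unusedSectionVars false

open Polynomial

namespace H8Lang

section Abstract

variable {k : Type*} [Field k] [IsAlgClosed k] {V : Type*} [AddCommGroup V] [Module k V]
variable {q : ℕ} {τ : k →+* k}

/-- Artin–Schreier: `x^q - x = c` is solvable -/
theorem exists_artin_schreier (hq : 2 ≤ q) (c : k) : ∃ x : k, x ^ q - x = c := by
  have hdeg : (X ^ q - (X + C c) : k[X]).degree = q := by
    rw [degree_sub_eq_left_of_degree_lt, degree_X_pow]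
    rw [degree_X_pow]
    calc (X + C c : k[X]).degree ≤ 1 := by
          refine (degree_add_le _ _).trans (max_le degree_X_le (degree_C_le.trans zero_le_one))
      _ < (q : WithBot ℕ) := by exact_mod_cast hq
  obtain ⟨x, hx⟩ := IsAlgClosed.exists_root (X ^ q - (X + C c) : k[X]) (by
    rw [hdeg]; exact_mod_cast (by omega : q ≠ 0))
  refine ⟨x, ?_⟩
  rw [IsRoot.def, eval_sub, eval_pow, eval_X, eval_add, eval_X, eval_C] at hx
  linear_combination hx

theorem tau_surj (hq : 2 ≤ q) (hτ : ∀ c, τ c = c ^ q) : Function.Surjective τ := by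
  intro c
  obtain ⟨z, hz⟩ := IsAlgClosed.exists_pow_nat_eq c (by omega : 0 < q)
  exact ⟨z, by rw [hτ, hz]⟩

/-- the spans of initial segments of a sequence -/
def Uspan (e : ℕ → V) (d : ℕ) : Submodule k V :=
  Submodule.span k (Set.range fun i : Fin d => e i)

theorem mem_Uspan (e : ℕ → V) (d : ℕ) (x : V) :
    x ∈ Uspan (k := k) e d ↔ ∃ c : ℕ → k, x = ∑ i ∈ Finset.range d, c i • e i := by
  rw [Uspan, Submodule.mem_span_range_iff_exists_fun]
  constructor
  · rintro ⟨c', rfl⟩
    refine ⟨fun i => if h : i < d then c' ⟨i, h⟩ else 0, ?_⟩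
    rw [← Fin.sum_univ_eq_sum_range (fun i => (if h : i < d then c' ⟨i, h⟩ else 0) • e i) d]
    apply Finset.sum_congr rfl
    intro i _
    simp
  · rintro ⟨c, rfl⟩
    refine ⟨fun i => c i, ?_⟩
    rw [← Fin.sum_univ_eq_sum_range (fun i => c i • e i) d]

theorem Uspan_mono (e : ℕ → V) : Monotone (Uspan (k := k) e) := by
  apply monotone_nat_of_le_succ
  intro d x hx
  obtain ⟨c, rfl⟩ := (mem_Uspan e d x).mp hx
  refine (mem_Uspan e (d + 1) _).mpr ⟨fun i => if i < d then c i else 0, ?_⟩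
  rw [Finset.sum_range_succ]
  simp only [lt_irrefl, if_false, zero_smul, add_zero]
  apply Finset.sum_congr rfl
  intro i hi
  rw [if_pos (Finset.mem_range.mp hi)]

theorem self_mem_Uspan_succ (e : ℕ → V) (d : ℕ) : e d ∈ Uspan (k := k) e (d + 1) := by
  refine (mem_Uspan e (d + 1) _).mpr ⟨fun i => if i = d then 1 else 0, ?_⟩
  rw [Finset.sum_range_succ]
  simp only [if_true, one_smul]
  rw [Finset.sum_eq_zero, zero_add]
  intro i hi
  rw [if_neg (Finset.mem_range.mp hi).ne, zero_smul]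

theorem exists_mem_Uspan [FiniteDimensional k V] (e : ℕ → V) : ∃ d, e d ∈ Uspan (k := k) e d := by
  obtain ⟨n, hn⟩ := (monotone_stabilizes_iff_noetherian (R := k) (M := V)).mpr inferInstance
    ⟨Uspan e, Uspan_mono e⟩
  refine ⟨n, ?_⟩
  have := hn (n + 1) (Nat.le_succ n)
  simp only [OrderHom.coe_mk] at this
  rw [this]
  exact self_mem_Uspan_succ e n

/-- the polynomials `Y_i` with `X_i = T^q Y_i` -/
noncomputable def Ypoly (q : ℕ) (c : ℕ → k) : ℕ → k[X]
  | 0 => C (c 0)
  | (i + 1) => X ^ (q * (q - 1)) * (Ypoly q c i) ^ q + C (c (i + 1))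

theorem Ypoly_ne_zero (hq : 2 ≤ q) (c : ℕ → k) (h0 : c 0 ≠ 0) (i : ℕ) : Ypoly q c i ≠ 0 := by
  induction i with
  | zero => simpa [Ypoly] using h0
  | succ i ih =>
    intro h
    have hdeg : (X ^ (q * (q - 1)) * (Ypoly q c i) ^ q : k[X]).natDegree ≥ 1 := by
      rw [natDegree_mul (pow_ne_zero _ X_ne_zero) (pow_ne_zero _ ih), natDegree_X_pow]
      have : 1 ≤ q * (q - 1) := Nat.mul_pos (by omega) (by omega)
      omega
    have h2 : (X ^ (q * (q - 1)) * (Ypoly q c i) ^ q + C (c (i + 1)) : k[X]).natDegree =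
        (X ^ (q * (q - 1)) * (Ypoly q c i) ^ q : k[X]).natDegree := natDegree_add_C
    rw [Ypoly] at h
    rw [h, natDegree_zero] at h2
    omega

/-- the values `x_i(t)` -/
noncomputable def xval (q : ℕ) (c : ℕ → k) (t : k) : ℕ → k
  | 0 => c 0 * t ^ q
  | (i + 1) => (xval q c t i) ^ q + c (i + 1) * t ^ q

theorem xval_eq (hq : 2 ≤ q) (c : ℕ → k) (t : k) (i : ℕ) :
    xval q c t i = t ^ q * (Ypoly q c i).eval t := by
  induction i with
  | zero => simp [xval, Ypoly, mul_comm]
  | succ i ih =>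
    rw [xval, ih, Ypoly]
    simp only [eval_add, eval_mul, eval_pow, eval_X, eval_C]
    have : q * (q - 1) + q = q * q := by
      obtain ⟨q', rfl⟩ : ∃ q', q = q' + 1 := ⟨q - 1, by omega⟩
      simp; ring
    rw [mul_pow, ← pow_mul, mul_add, ← mul_assoc, ← pow_add]
    have this' : q + q * (q - 1) = q * q := by omega
    rw [this']
    ring

theorem exists_root_t (hq : 2 ≤ q) (c : ℕ → k) (h0 : c 0 ≠ 0) (i : ℕ) :
    ∃ t : k, t ≠ 0 ∧ xval q c t i = t := by
  have hY := Ypoly_ne_zero hq c h0 i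
  have hdeg : (X ^ (q - 1) * Ypoly q c i + C (-1) : k[X]).natDegree ≥ 1 := by
    rw [natDegree_add_C, natDegree_mul (pow_ne_zero _ X_ne_zero) hY, natDegree_X_pow]
    omega
  obtain ⟨t, ht⟩ := IsAlgClosed.exists_root (X ^ (q - 1) * Ypoly q c i + C (-1) : k[X]) (by
    intro h
    have := natDegree_eq_zero_iff_degree_le_zero.mpr h.le
    omega)
  rw [IsRoot.def, eval_add, eval_mul, eval_pow, eval_X, eval_C] at ht
  have ht1 : t ^ (q - 1) * (Ypoly q c i).eval t = 1 := by linear_combination ht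
  have ht0 : t ≠ 0 := by
    rintro rfl
    rw [zero_pow (by omega), zero_mul] at ht1
    exact zero_ne_one ht1
  refine ⟨t, ht0, ?_⟩
  rw [xval_eq hq]
  have : t ^ q = t * t ^ (q - 1) := by
    rw [← pow_succ']; congr 1; omega
  rw [this, mul_assoc, ht1, mul_one]

theorem exists_fixed [FiniteDimensional k V] [Nontrivial V] (hq : 2 ≤ q) (hτ : ∀ c, τ c = c ^ q)
    (ψ : V →ₛₗ[τ] V) (hinj : Function.Injective ψ) : ∃ v : V, v ≠ 0 ∧ ψ v = v := by
  classical
  obtain ⟨v₀, hv₀⟩ := exists_ne (0 : V)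
  set e : ℕ → V := fun i => (⇑ψ)^[i] v₀ with he
  have he_succ : ∀ i, e (i + 1) = ψ (e i) := fun i => Function.iterate_succ_apply' _ _ _
  have hex := exists_mem_Uspan (k := k) e
  have hd_mem : e (Nat.find hex) ∈ Uspan (k := k) e (Nat.find hex) := Nat.find_spec hex
  have hd_min : ∀ j < Nat.find hex, e j ∉ Uspan (k := k) e j := fun j hj => Nat.find_min hex hj
  have hd0 : Nat.find hex ≠ 0 := by
    intro h0
    rw [h0] at hd_mem
    obtain ⟨c, hc⟩ := (mem_Uspan e 0 _).mp hd_mem
    simp at hc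
    exact hv₀ hc
  obtain ⟨d', hd'⟩ : ∃ d', Nat.find hex = d' + 1 := ⟨Nat.find hex - 1, by omega⟩
  rw [hd'] at hd_mem hd_min
  obtain ⟨c, hc⟩ := (mem_Uspan e (d' + 1) _).mp hd_mem
  have hmin' : e d' ∉ Uspan (k := k) e d' := hd_min d' (by omega)
  have hc0 : c 0 ≠ 0 := by
    intro h0
    apply hmin'
    choose c' hc' using fun i => tau_surj hq hτ (c i)
    refine (mem_Uspan e d' _).mpr ⟨fun i => c' (i + 1), ?_⟩
    apply hinj
    rw [← he_succ, hc, Finset.sum_range_succ', h0, zero_smul, add_zero, map_sum]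
    apply Finset.sum_congr rfl
    intro i _
    rw [map_smulₛₗ, hc', he_succ]
  obtain ⟨t, ht0, ht⟩ := exists_root_t hq c hc0 d'
  refine ⟨∑ i ∈ Finset.range (d' + 1), xval q c t i • e i, ?_, ?_⟩
  · intro hw
    apply hmin'
    rw [Finset.sum_range_succ, ht] at hw
    refine (mem_Uspan e d' _).mpr ⟨fun i => -(t⁻¹ * xval q c t i), ?_⟩
    have h2 : t • e d' = -∑ i ∈ Finset.range d', xval q c t i • e i :=
      eq_neg_of_add_eq_zero_right hw
    have h3 : e d' = t⁻¹ • (t • e d') := by rw [smul_smul, inv_mul_cancel₀ ht0, one_smul]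
    rw [h3, h2, smul_neg, Finset.smul_sum, ← Finset.sum_neg_distrib]
    apply Finset.sum_congr rfl
    intro i _
    rw [smul_smul, neg_smul]
  · rw [map_sum]
    have h1 : ∀ i, ψ (xval q c t i • e i) = (xval q c t i) ^ q • e (i + 1) := by
      intro i; rw [map_smulₛₗ, hτ, he_succ]
    simp_rw [h1]
    rw [Finset.sum_range_succ (fun i => xval q c t i ^ q • e (i + 1)), hc, ht,
      Finset.sum_range_succ' (fun i => c i • e i),
      Finset.sum_range_succ' (fun i => xval q c t i • e i), smul_add, Finset.smul_sum,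
      ← add_assoc, ← Finset.sum_add_distrib]
    congr 1
    · apply Finset.sum_congr rfl
      intro i _
      rw [smul_smul, ← add_smul]
      congr 1
      rw [xval]; ring
    · rw [smul_smul]
      congr 1
      rw [xval]; ring

theorem semilin_surj_of_inj {K : Type*} [Field K] {V : Type*} [AddCommGroup V] [Module K V]
    [FiniteDimensional K V] {σ : K →+* K} (hσ : Function.Surjective σ) (G : V →ₛₗ[σ] V)
    (hG : Function.Injective G) : Function.Surjective G := by
  classical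
  let b := Module.finBasis K V
  have hli : LinearIndependent K (G.toAddMonoidHom ∘ b) :=
    b.linearIndependent.map_of_surjective_injective σ G.toAddMonoidHom hσ
      (fun m hm => hG (hm.trans (map_zero G).symm)) (fun r m => G.map_smulₛₗ r m)
  have hspan : Submodule.span K (Set.range (G.toAddMonoidHom ∘ b)) = ⊤ :=
    hli.span_eq_top_of_card_eq_finrank' (by simp)
  intro y
  have hy : y ∈ Submodule.span K (Set.range (G.toAddMonoidHom ∘ b)) := by
    rw [hspan]; exact Submodule.mem_top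
  induction hy using Submodule.span_induction with
  | mem y hy =>
    obtain ⟨i, rfl⟩ := hy
    exact ⟨b i, rfl⟩
  | zero => exact ⟨0, map_zero G⟩
  | add y z _ _ hy hz =>
    obtain ⟨x, rfl⟩ := hy
    obtain ⟨x', rfl⟩ := hz
    exact ⟨x + x', map_add G x x'⟩
  | smul c y _ hy =>
    obtain ⟨x, rfl⟩ := hy
    obtain ⟨c', rfl⟩ := hσ c
    exact ⟨c' • x, G.map_smulₛₗ c' x⟩

theorem surj_on_span (hq : 2 ≤ q) (hτ : ∀ c, τ c = c ^ q) (ψ : V →ₛₗ[τ] V) :
    ∀ z ∈ Submodule.span k {v : V | ψ v = v},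
      ∃ y ∈ Submodule.span k {v : V | ψ v = v}, ψ y - y = z := by
  intro z hz
  have key : ∀ c : k, ∃ y ∈ Submodule.span k {v : V | ψ v = v}, ψ y - y = c • z := by
    induction hz using Submodule.span_induction with
    | mem z hz =>
      intro c
      obtain ⟨x, hx⟩ := exists_artin_schreier hq c
      refine ⟨x • z, Submodule.smul_mem _ _ (Submodule.subset_span hz), ?_⟩
      have hz' : ψ z = z := hz
      rw [map_smulₛₗ, hτ, hz', ← sub_smul, hx]
    | zero => exact fun c => ⟨0, Submodule.zero_mem _, by simp⟩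
    | add z₁ z₂ _ _ h₁ h₂ =>
      intro c
      obtain ⟨y₁, hy₁, e₁⟩ := h₁ c
      obtain ⟨y₂, hy₂, e₂⟩ := h₂ c
      refine ⟨y₁ + y₂, Submodule.add_mem _ hy₁ hy₂, ?_⟩
      rw [map_add, smul_add, ← e₁, ← e₂]; abel
    | smul a z _ h =>
      intro c
      obtain ⟨y, hy, e⟩ := h (c * a)
      exact ⟨y, hy, by rw [e, mul_smul]⟩
  obtain ⟨y, hy, e⟩ := key 1
  exact ⟨y, hy, by rw [e, one_smul]⟩

theorem fixed_span [FiniteDimensional k V] (hq : 2 ≤ q) (hτ : ∀ c, τ c = c ^ q)
    (ψ : V →ₛₗ[τ] V) (hinj : Function.Injective ψ) :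
    Submodule.span k {v : V | ψ v = v} = ⊤ := by
  set Φ := Submodule.span k {v : V | ψ v = v} with hΦ
  have hΦst : ∀ x ∈ Φ, ψ x ∈ Φ := by
    intro x hx
    induction hx using Submodule.span_induction with
    | mem x hx =>
      have hx' : ψ x = x := hx
      rw [hx']; exact Submodule.subset_span hx
    | zero => rw [map_zero]; exact Submodule.zero_mem _
    | add x y _ _ hx hy => rw [map_add]; exact Submodule.add_mem _ hx hy
    | smul c x _ hx => rw [map_smulₛₗ]; exact Submodule.smul_mem _ _ hx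
  by_contra hne
  have hres_inj : Function.Injective (ψ.restrict hΦst) := by
    intro x y hxy
    apply Subtype.ext
    apply hinj
    exact congrArg Subtype.val hxy
  have hres_surj := semilin_surj_of_inj (tau_surj hq hτ) (ψ.restrict hΦst) hres_inj
  have hΦinv : ∀ x, ψ x ∈ Φ → x ∈ Φ := by
    intro x hx
    obtain ⟨x', hx'⟩ := hres_surj ⟨ψ x, hx⟩
    have h1 : ψ (x' : V) = ψ x := congrArg Subtype.val hx'
    rw [← hinj h1]
    exact x'.2
  have hle : Φ ≤ Φ.comap ψ := fun x hx => hΦst x hx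
  have hnt : Nontrivial (V ⧸ Φ) := Submodule.Quotient.nontrivial_iff.mpr hne
  have hqinj : Function.Injective (Φ.mapQ Φ ψ hle) := by
    intro a b hab
    obtain ⟨a, rfl⟩ := Submodule.Quotient.mk_surjective Φ a
    obtain ⟨b, rfl⟩ := Submodule.Quotient.mk_surjective Φ b
    rw [Submodule.mapQ_apply, Submodule.mapQ_apply, Submodule.Quotient.eq, ← map_sub] at hab
    rw [Submodule.Quotient.eq]
    exact hΦinv _ hab
  obtain ⟨wq, hw0, hwfix⟩ := exists_fixed hq hτ (Φ.mapQ Φ ψ hle) hqinj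
  obtain ⟨w, rfl⟩ := Submodule.Quotient.mk_surjective Φ wq
  have h1 : ψ w - w ∈ Φ := by
    rw [Submodule.mapQ_apply, Submodule.Quotient.eq] at hwfix
    exact hwfix
  obtain ⟨y, hy, hyz⟩ := surj_on_span hq hτ ψ _ h1
  have h2 : ψ (w - y) = w - y := by
    rw [map_sub]
    have : ψ w - ψ y - (w - y) = (ψ w - w) - (ψ y - y) := by abel
    rw [← sub_eq_zero, this, hyz, sub_self]
  have h3 : w - y ∈ Φ := Submodule.subset_span h2
  have h4 : w ∈ Φ := by
    have := Φ.add_mem h3 hy
    simpa using this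
  exact hw0 ((Submodule.Quotient.mk_eq_zero Φ).mpr h4)

theorem sub_one_surj [FiniteDimensional k V] (hq : 2 ≤ q) (hτ : ∀ c, τ c = c ^ q)
    (ψ : V →ₛₗ[τ] V) (hinj : Function.Injective ψ) (z : V) : ∃ y : V, ψ y - y = z := by
  have hz : z ∈ Submodule.span k {v : V | ψ v = v} := by
    rw [fixed_span hq hτ ψ hinj]; exact Submodule.mem_top
  obtain ⟨y, _, hy⟩ := surj_on_span hq hτ ψ z hz
  exact ⟨y, hy⟩

end Abstract

section Frob

variable {k : Type*} [Field k] [IsAlgClosed k] (p : ℕ) [Fact p.Prime] [CharP k p]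
  [PerfectRing k p] {V : Type*} [AddCommGroup V] [Module k V]

theorem frobEquiv_pow_apply (n : ℕ) (c : k) :
    ((frobeniusEquiv k p) ^ n) c = c ^ (p ^ n) := by
  induction n generalizing c with
  | zero => simp
  | succ n ih =>
    rw [pow_succ, RingAut.mul_apply, ih, frobeniusEquiv_apply, frobenius_def, ← pow_mul,
      ← pow_succ']

/-- the inverse of a bijective semilinear map, semilinear for an inverse twist -/
noncomputable def invSemilin {τ τ' : k →+* k} (hττ' : ∀ c, τ (τ' c) = c) (ψ : V →ₛₗ[τ] V)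
    (hbij : Function.Bijective ψ) : V →ₛₗ[τ'] V where
  toFun := (Equiv.ofBijective ψ hbij).symm
  map_add' x y := by
    apply hbij.1
    have h : ∀ z, ψ ((Equiv.ofBijective ψ hbij).symm z) = z :=
      fun z => (Equiv.ofBijective ψ hbij).apply_symm_apply z
    rw [h, ψ.map_add, h, h]
  map_smul' c x := by
    apply hbij.1
    have h : ∀ z, ψ ((Equiv.ofBijective ψ hbij).symm z) = z :=
      fun z => (Equiv.ofBijective ψ hbij).apply_symm_apply z
    show ψ ((Equiv.ofBijective ψ hbij).symm (c • x)) = ψ (τ' c • (Equiv.ofBijective ψ hbij).symm x)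
    rw [h, ψ.map_smulₛₗ, h, hττ']

theorem invSemilin_apply {τ τ' : k →+* k} (hττ' : ∀ c, τ (τ' c) = c) (ψ : V →ₛₗ[τ] V)
    (hbij : Function.Bijective ψ) (x : V) : ψ (invSemilin hττ' ψ hbij x) = x :=
  (Equiv.ofBijective ψ hbij).apply_symm_apply x

theorem invSemilin_apply' {τ τ' : k →+* k} (hττ' : ∀ c, τ (τ' c) = c) (ψ : V →ₛₗ[τ] V)
    (hbij : Function.Bijective ψ) (x : V) : invSemilin hττ' ψ hbij (ψ x) = x :=
  (Equiv.ofBijective ψ hbij).symm_apply_apply x

theorem lang_zpow [FiniteDimensional k V] (b : ℤ) (hb : b ≠ 0)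
    (ψ : V →ₛₗ[((frobeniusEquiv k p ^ b : k ≃+* k) : k →+* k)] V)
    (hbij : Function.Bijective ψ) :
    Submodule.span k {v : V | ψ v = v} = ⊤ ∧ ∀ z : V, ∃ y : V, ψ y - y = z := by
  have hp2 : 2 ≤ p := (Fact.out : p.Prime).two_le
  rcases lt_or_gt_of_ne hb with hneg | hpos
  · -- negative exponent: use the inverse
    obtain ⟨n, rfl⟩ : ∃ n : ℕ, b = -((n + 1 : ℕ) : ℤ) := ⟨(-b - 1).toNat, by omega⟩
    have hq : 2 ≤ p ^ (n + 1) := by
      calc 2 ≤ p := hp2
        _ = p ^ 1 := (pow_one p).symm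
        _ ≤ p ^ (n + 1) := Nat.pow_le_pow_right (by omega) (by omega)
    set τ' : k →+* k := ((frobeniusEquiv k p ^ (n + 1) : k ≃+* k) : k →+* k) with hτ'
    have hτ'q : ∀ c, τ' c = c ^ (p ^ (n + 1)) := fun c => frobEquiv_pow_apply p (n + 1) c
    have hinvpair : ∀ c, ((frobeniusEquiv k p ^ (-((n + 1 : ℕ) : ℤ)) : k ≃+* k) : k →+* k)
        (τ' c) = c := by
      intro c
      show (frobeniusEquiv k p ^ (-((n + 1 : ℕ) : ℤ))) ((frobeniusEquiv k p ^ (n + 1)) c) = c
      rw [← RingAut.mul_apply, zpow_neg, zpow_natCast, inv_mul_cancel]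
      rfl
    set ψ' := invSemilin hinvpair ψ hbij with hψ'
    have hinj' : Function.Injective ψ' := by
      intro x y hxy
      have := congrArg ψ hxy
      rwa [invSemilin_apply, invSemilin_apply] at this
    have hfix : {v : V | ψ v = v} = {v : V | ψ' v = v} := by
      ext v
      constructor
      · intro hv
        have hv' : ψ v = v := hv
        show ψ' v = v
        conv_lhs => rw [← hv']
        exact invSemilin_apply' hinvpair ψ hbij v
      · intro hv
        have hv' : ψ' v = v := hv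
        show ψ v = v
        conv_lhs => rw [← hv']
        exact invSemilin_apply hinvpair ψ hbij v
    refine ⟨?_, fun z => ?_⟩
    · rw [hfix]; exact fixed_span hq hτ'q ψ' hinj'
    · obtain ⟨y', hy'⟩ := sub_one_surj hq hτ'q ψ' hinj' (-z)
      refine ⟨ψ' y', ?_⟩
      rw [invSemilin_apply]
      have : y' - ψ' y' = -(ψ' y' - y') := by abel
      rw [this, hy', neg_neg]
  · obtain ⟨n, rfl⟩ : ∃ n : ℕ, b = ((n + 1 : ℕ) : ℤ) := ⟨(b - 1).toNat, by omega⟩
    have hq : 2 ≤ p ^ (n + 1) := by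
      calc 2 ≤ p := hp2
        _ = p ^ 1 := (pow_one p).symm
        _ ≤ p ^ (n + 1) := Nat.pow_le_pow_right (by omega) (by omega)
    have hτq : ∀ c, ((frobeniusEquiv k p ^ (((n + 1 : ℕ) : ℤ)) : k ≃+* k) : k →+* k) c =
        c ^ (p ^ (n + 1)) := by
      intro c
      show (frobeniusEquiv k p ^ (((n + 1 : ℕ) : ℤ))) c = _
      rw [zpow_natCast]
      exact frobEquiv_pow_apply p (n + 1) c
    exact ⟨fixed_span hq hτq ψ hbij.1, sub_one_surj hq hτq ψ hbij.1⟩

end Frob

end H8Lang
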