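import Mathlib
import Groth.Agent.H8Lang

set_option autoImplicit false
set_option linter.unusedSectionVars false

namespace H8Lang

section WittLang

variable {p : ℕ} [Fact p.Prime] {k : Type*} [Field k] [CharP k p] [PerfectRing k p]

theorem cc_frobEquiv (w : WittVector p k) :
    WittVector.constantCoeff (WittVector.frobeniusEquiv p k w) =
      frobeniusEquiv k p (WittVector.constantCoeff w) := by
  show (WittVector.frobenius w).coeff 0 = _
  rw [WittVector.coeff_frobenius_charP, frobeniusEquiv_apply, frobenius_def]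
  rfl

theorem cc_frobEquiv_symm (w : WittVector p k) :
    WittVector.constantCoeff ((WittVector.frobeniusEquiv p k).symm w) =
      (frobeniusEquiv k p).symm (WittVector.constantCoeff w) := by
  apply (frobeniusEquiv k p).injective
  rw [← cc_frobEquiv, RingEquiv.apply_symm_apply, RingEquiv.apply_symm_apply]

theorem cc_frobEquiv_zpow (b : ℤ) (w : WittVector p k) :
    WittVector.constantCoeff ((WittVector.frobeniusEquiv p k ^ b) w) =
      (frobeniusEquiv k p ^ b) (WittVector.constantCoeff w) := by
  induction b using Int.induction_on generalizing w with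
  | zero => simp
  | succ i ih =>
    rw [zpow_add_one, zpow_add_one, RingAut.mul_apply, RingAut.mul_apply, ih, cc_frobEquiv]
  | pred i ih =>
    rw [zpow_sub_one, zpow_sub_one, RingAut.mul_apply, RingAut.mul_apply, ih]
    exact congrArg _ (cc_frobEquiv_symm w)

variable {n : ℕ} (B : Matrix (Fin n) (Fin n) (WittVector p k)) (b : ℤ)

/-- the semilinear map on `W^n` with matrix `B` -/
noncomputable def gmap (w : Fin n → WittVector p k) : Fin n → WittVector p k :=
  B.mulVec (fun j => (WittVector.frobeniusEquiv p k ^ b) (w j))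

theorem gmap_add (w w' : Fin n → WittVector p k) :
    gmap B b (w + w') = gmap B b w + gmap B b w' := by
  unfold gmap
  rw [← Matrix.mulVec_add]
  congr 1
  ext j
  simp

theorem gmap_sub (w w' : Fin n → WittVector p k) :
    gmap B b (w - w') = gmap B b w - gmap B b w' := by
  unfold gmap
  rw [← Matrix.mulVec_sub]
  congr 1
  ext j
  simp

theorem gmap_smul (c : WittVector p k) (w : Fin n → WittVector p k) :
    gmap B b (c • w) = ((WittVector.frobeniusEquiv p k ^ b) c) • gmap B b w := by
  unfold gmap
  rw [← Matrix.mulVec_smul]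
  congr 1
  ext j
  simp

theorem gmap_p_pow_smul (j : ℕ) (w : Fin n → WittVector p k) :
    gmap B b (((p : WittVector p k) ^ j) • w) = ((p : WittVector p k) ^ j) • gmap B b w := by
  rw [gmap_smul, map_pow, map_natCast]

/-- reduction mod `p` -/
noncomputable def red (w : Fin n → WittVector p k) : Fin n → k :=
  fun j => WittVector.constantCoeff (w j)

theorem red_add (w w' : Fin n → WittVector p k) : red (w + w') = red w + red w' := by
  ext j
  exact map_add WittVector.constantCoeff (w j) (w' j)

theorem red_sub (w w' : Fin n → WittVector p k) : red (w - w') = red w - red w' := by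
  ext j
  exact map_sub WittVector.constantCoeff (w j) (w' j)

theorem red_smul (c : WittVector p k) (w : Fin n → WittVector p k) :
    red (c • w) = WittVector.constantCoeff c • red w := by
  ext j
  exact map_mul WittVector.constantCoeff c (w j)

theorem red_surj (v : Fin n → k) : ∃ w : Fin n → WittVector p k, red w = v := by
  choose f hf using fun j => WittVector.constantCoeff_surjective (p := p) (v j)
  exact ⟨f, funext hf⟩

theorem red_eq_zero_iff (w : Fin n → WittVector p k) :
    red w = 0 ↔ ∃ u : Fin n → WittVector p k, w = (p : WittVector p k) • u := by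
  constructor
  · intro h
    have h1 : ∀ j, ∃ u : WittVector p k, w j = (p : WittVector p k) * u := by
      intro j
      have h2 : w j ∈ RingHom.ker (WittVector.constantCoeff (p := p) (R := k)) :=
        congrFun h j
      rw [WittVector.ker_constantCoeff, Ideal.mem_span_singleton] at h2
      exact h2
    choose u hu using h1
    exact ⟨u, funext hu⟩
  · rintro ⟨u, rfl⟩
    ext j
    have : WittVector.constantCoeff ((p : WittVector p k) * u j) = 0 := by
      have h2 : (p : WittVector p k) * u j ∈
          RingHom.ker (WittVector.constantCoeff (p := p) (R := k)) := by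
        rw [WittVector.ker_constantCoeff, Ideal.mem_span_singleton]
        exact dvd_mul_right _ _
      exact h2
    simpa [red] using this

/-- the reduction of `gmap` -/
noncomputable def ψmap :
    (Fin n → k) →ₛₗ[((frobeniusEquiv k p ^ b : k ≃+* k) : k →+* k)] (Fin n → k) where
  toFun v := (B.map WittVector.constantCoeff).mulVec (fun j => (frobeniusEquiv k p ^ b) (v j))
  map_add' v v' := by
    rw [← Matrix.mulVec_add]
    congr 1
    ext j
    simp
  map_smul' c v := by
    rw [← Matrix.mulVec_smul]
    congr 1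
    ext j
    simp

theorem red_gmap (w : Fin n → WittVector p k) : red (gmap B b w) = ψmap B b (red w) := by
  ext i
  show WittVector.constantCoeff (B.mulVec (fun j => (WittVector.frobeniusEquiv p k ^ b) (w j)) i) =
    (B.map WittVector.constantCoeff).mulVec
      (fun j => (frobeniusEquiv k p ^ b) (WittVector.constantCoeff (w j))) i
  simp only [Matrix.mulVec, dotProduct, map_sum, map_mul, Matrix.map_apply, cc_frobEquiv_zpow]

theorem ψmap_injective (hB : IsUnit B.det) : Function.Injective (ψmap B b) := by
  rw [injective_iff_map_eq_zero]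
  intro v hv
  have hdet : (B.map (WittVector.constantCoeff (p := p) (R := k))).det ≠ 0 := by
    have : (B.map (WittVector.constantCoeff (p := p) (R := k))).det =
        WittVector.constantCoeff B.det := by
      rw [RingHom.map_det]; rfl
    rw [this]
    exact (hB.map WittVector.constantCoeff).ne_zero
  have h1 := Matrix.eq_zero_of_mulVec_eq_zero hdet hv
  ext j
  have h2 := congrFun h1 j
  simpa using h2

end WittLang

section Lift

variable {p : ℕ} [Fact p.Prime] {k : Type*} [Field k] [CharP k p] [PerfectRing k p]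
variable {n : ℕ} (B : Matrix (Fin n) (Fin n) (WittVector p k)) (b : ℤ)

theorem red_neg (w : Fin n → WittVector p k) : red (-w) = -red w := by
  ext j
  exact map_neg WittVector.constantCoeff (w j)

theorem W_complete' (f : ℕ → WittVector p k)
    (hf : ∀ n, (p : WittVector p k) ^ n ∣ f (n + 1) - f n) :
    ∃ L : WittVector p k, ∀ n, (p : WittVector p k) ^ n ∣ L - f n := by
  have hc := (WittVector.isAdicCompleteIdealSpanP (p := p) (k := k)).toIsPrecomplete
  have hmn : ∀ m n, m ≤ n → (p : WittVector p k) ^ m ∣ f m - f n := by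
    intro m n hmn
    induction n, hmn using Nat.le_induction with
    | base => simp
    | succ n hn ih =>
      have : f m - f (n + 1) = (f m - f n) - (f (n + 1) - f n) := by ring
      rw [this]
      exact dvd_sub ih ((pow_dvd_pow _ hn).trans (hf n))
  obtain ⟨L, hL⟩ := hc.prec (f := f) (fun {m n} hmn' => by
    rw [SModEq.sub_mem, smul_eq_mul, Ideal.mul_top, Ideal.span_singleton_pow,
      Ideal.mem_span_singleton]
    exact hmn m n hmn')
  refine ⟨L, fun n => ?_⟩
  have := hL n
  rw [SModEq.sub_mem, smul_eq_mul, Ideal.mul_top, Ideal.span_singleton_pow,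
    Ideal.mem_span_singleton] at this
  rw [← neg_sub]
  exact (dvd_neg).mpr this

theorem W_sep (x : WittVector p k) (h : ∀ j : ℕ, (p : WittVector p k) ^ j ∣ x) : x = 0 := by
  have hh := (WittVector.isAdicCompleteIdealSpanP (p := p) (k := k)).toIsHausdorff
  apply hh.haus
  intro j
  rw [SModEq.zero, smul_eq_mul, Ideal.mul_top, Ideal.span_singleton_pow,
    Ideal.mem_span_singleton]
  exact h j

variable [IsAlgClosed k]

theorem ψmap_bijective (hB : IsUnit B.det) : Function.Bijective (ψmap B b) :=
  ⟨ψmap_injective B b hB,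
    semilin_surj_of_inj (RingEquiv.surjective _) _ (ψmap_injective B b hB)⟩

theorem lift_step (hB : IsUnit B.det) (hb : b ≠ 0) (j : ℕ) (w z : Fin n → WittVector p k)
    (h : gmap B b w - w = ((p : WittVector p k) ^ (j + 1)) • z) :
    ∃ w' z' y : Fin n → WittVector p k,
      gmap B b w' - w' = ((p : WittVector p k) ^ (j + 2)) • z' ∧
      w' = w + ((p : WittVector p k) ^ (j + 1)) • y := by
  obtain ⟨ybar, hybar⟩ := (lang_zpow p b hb (ψmap B b) (ψmap_bijective B b hB)).2 (red (-z))
  obtain ⟨y, rfl⟩ := red_surj (p := p) ybar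
  have h0 : red (gmap B b y - y + z) = 0 := by
    rw [red_add, red_sub, red_gmap, hybar, red_neg, neg_add_cancel]
  obtain ⟨u, hu⟩ := (red_eq_zero_iff _).mp h0
  refine ⟨w + ((p : WittVector p k) ^ (j + 1)) • y, u, y, ?_, rfl⟩
  rw [gmap_add, gmap_p_pow_smul]
  have e1 : gmap B b w + ((p : WittVector p k) ^ (j + 1)) • gmap B b y -
      (w + ((p : WittVector p k) ^ (j + 1)) • y) =
      (gmap B b w - w) + ((p : WittVector p k) ^ (j + 1)) • (gmap B b y - y) := by
    rw [smul_sub]; abel
  rw [e1, h, ← smul_add, add_comm z, hu, smul_smul, ← pow_succ]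

theorem lift_fixed (hB : IsUnit B.det) (hb : b ≠ 0) (w₀ z₀ : Fin n → WittVector p k)
    (h : gmap B b w₀ - w₀ = (p : WittVector p k) • z₀) :
    ∃ w' : Fin n → WittVector p k, gmap B b w' = w' ∧
      ∃ u : Fin n → WittVector p k, w' - w₀ = (p : WittVector p k) • u := by
  let P : ℕ → (Fin n → WittVector p k) × (Fin n → WittVector p k) → Prop :=
    fun j wz => gmap B b wz.1 - wz.1 = ((p : WittVector p k) ^ (j + 1)) • wz.2
  have step : ∀ j (wz : {wz // P j wz}), ∃ wz' : {wz // P (j + 1) wz},
      ∃ y : Fin n → WittVector p k,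
        wz'.1.1 = wz.1.1 + ((p : WittVector p k) ^ (j + 1)) • y := by
    rintro j ⟨⟨w, z⟩, hwz⟩
    obtain ⟨w', z', y, h1, h2⟩ := lift_step B b hB hb j w z hwz
    exact ⟨⟨(w', z'), h1⟩, y, h2⟩
  let s0 : {wz // P 0 wz} := ⟨(w₀, z₀), by simpa [P] using h⟩
  let s : (j : ℕ) → {wz // P j wz} :=
    fun j => Nat.rec (motive := fun j => {wz // P j wz}) s0
      (fun j sj => Classical.choose (step j sj)) j
  have hs : ∀ j, ∃ y : Fin n → WittVector p k,
      (s (j + 1)).1.1 = (s j).1.1 + ((p : WittVector p k) ^ (j + 1)) • y :=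
    fun j => Classical.choose_spec (step j (s j))
  have hsP : ∀ j, gmap B b (s j).1.1 - (s j).1.1 =
      ((p : WittVector p k) ^ (j + 1)) • (s j).1.2 := fun j => (s j).2
  have hs0 : (s 0).1.1 = w₀ := rfl
  -- limits coordinatewise
  have hcoord : ∀ i : Fin n, ∃ L : WittVector p k,
      ∀ j, (p : WittVector p k) ^ j ∣ L - (s j).1.1 i := by
    intro i
    apply W_complete' (fun j => (s j).1.1 i)
    intro j
    obtain ⟨y, hy⟩ := hs j
    refine ⟨(p : WittVector p k) * y i, ?_⟩
    show (s (j + 1)).1.1 i - (s j).1.1 i = _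
    rw [hy]
    simp only [Pi.add_apply, Pi.smul_apply, smul_eq_mul, add_sub_cancel_left]
    ring
  choose L hL using hcoord
  have hLa : ∀ j, ∃ a : Fin n → WittVector p k,
      L - (s j).1.1 = ((p : WittVector p k) ^ j) • a := by
    intro j
    choose a ha using fun i => hL i j
    exact ⟨a, funext fun i => by simpa using ha i⟩
  refine ⟨L, ?_, ?_⟩
  · -- fixed
    rw [← sub_eq_zero]
    funext i
    show (gmap B b L - L) i = 0
    apply W_sep
    intro j
    obtain ⟨a, ha⟩ := hLa j
    have e1 : gmap B b L - L = ((p : WittVector p k) ^ j) •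
        (gmap B b a - a + (p : WittVector p k) • (s j).1.2) := by
      have e2 : L = (s j).1.1 + ((p : WittVector p k) ^ j) • a := by rw [← ha]; abel
      conv_lhs => rw [e2]
      rw [gmap_add, gmap_p_pow_smul]
      have e3 : gmap B b (s j).1.1 + ((p : WittVector p k) ^ j) • gmap B b a -
          ((s j).1.1 + ((p : WittVector p k) ^ j) • a) =
          (gmap B b (s j).1.1 - (s j).1.1) +
            ((p : WittVector p k) ^ j) • (gmap B b a - a) := by
        rw [smul_sub]; abel
      rw [e3, hsP j, smul_add, smul_smul, ← pow_succ, add_comm]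
    rw [e1]
    exact ⟨_, rfl⟩
  · obtain ⟨a, ha⟩ := hLa 1
    obtain ⟨y, hy⟩ := hs 0
    have hy' : (s 1).1.1 = (s 0).1.1 + (p : WittVector p k) • y := by
      simpa using hy
    refine ⟨a + y, ?_⟩
    have e2 : L - w₀ = (L - (s 1).1.1) + ((s 1).1.1 - (s 0).1.1) := by rw [hs0]; abel
    rw [e2, ha, hy', pow_one, add_sub_cancel_left, smul_add]

theorem witt_fixed_span (hB : IsUnit B.det) (hb : b ≠ 0) :
    Submodule.span (WittVector p k) {w : Fin n → WittVector p k | gmap B b w = w} = ⊤ := by
  set Φ₀ := Submodule.span (WittVector p k) {w : Fin n → WittVector p k | gmap B b w = w}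
    with hΦ₀
  have hspan := (lang_zpow p b hb (ψmap B b) (ψmap_bijective B b hB)).1
  have key : ∀ v ∈ Submodule.span k {v : Fin n → k | ψmap B b v = v},
      ∃ y ∈ Φ₀, red y = v := by
    intro v hv
    induction hv using Submodule.span_induction with
    | mem v hv =>
      obtain ⟨w₀, rfl⟩ := red_surj (p := p) v
      have hv' : ψmap B b (red w₀) = red w₀ := hv
      have h0 : red (gmap B b w₀ - w₀) = 0 := by rw [red_sub, red_gmap, hv', sub_self]
      obtain ⟨z₀, hz₀⟩ := (red_eq_zero_iff _).mp h0
      obtain ⟨w', hw', u, hu⟩ := lift_fixed B b hB hb w₀ z₀ hz₀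
      refine ⟨w', Submodule.subset_span hw', ?_⟩
      have e1 : w' = w₀ + (p : WittVector p k) • u := by rw [← hu]; abel
      rw [e1, red_add, (red_eq_zero_iff _).mpr ⟨u, rfl⟩, add_zero]
    | zero => exact ⟨0, Submodule.zero_mem _, by ext j; simp [red]⟩
    | add v v' _ _ h h' =>
      obtain ⟨y, hy, rfl⟩ := h
      obtain ⟨y', hy', rfl⟩ := h'
      exact ⟨y + y', Submodule.add_mem _ hy hy', red_add y y'⟩
    | smul c v _ h =>
      obtain ⟨y, hy, rfl⟩ := h
      obtain ⟨c', rfl⟩ := WittVector.constantCoeff_surjective (p := p) c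
      exact ⟨c' • y, Submodule.smul_mem _ _ hy, red_smul c' y⟩
  have hle : (⊤ : Submodule (WittVector p k) (Fin n → WittVector p k)) ≤
      Φ₀ ⊔ (Ideal.span {(p : WittVector p k)}) •
        (⊤ : Submodule (WittVector p k) (Fin n → WittVector p k)) := by
    intro w _
    obtain ⟨y, hy, hyw⟩ := key (red w) (by rw [hspan]; exact Submodule.mem_top)
    have h0 : red (w - y) = 0 := by rw [red_sub, hyw, sub_self]
    obtain ⟨u, hu⟩ := (red_eq_zero_iff _).mp h0
    have e1 : w = y + (p : WittVector p k) • u := by rw [← hu]; abel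
    rw [e1]
    exact Submodule.add_mem_sup hy
      (Submodule.smul_mem_smul (Ideal.mem_span_singleton_self _) Submodule.mem_top)
  have hfg : (⊤ : Submodule (WittVector p k) (Fin n → WittVector p k)).FG :=
    Module.Finite.fg_top
  have hjac : Ideal.span {(p : WittVector p k)} ≤ Ideal.jacobson ⊥ := by
    rw [Ideal.span_le, Set.singleton_subset_iff,
      IsLocalRing.jacobson_eq_maximalIdeal ⊥ bot_ne_top]
    exact (IsLocalRing.mem_maximalIdeal _).mpr (WittVector.irreducible p).not_isUnit
  exact top_le_iff.mp (Submodule.le_of_le_smul_of_le_jacobson_bot hfg hjac hle)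

end Lift

end H8Lang
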