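import Mathlib
import Groth.Prelude.Def_Isoc
import Groth.Agent.H8Isoc7
import Groth.Agent.H8Lang2

set_option autoImplicit false
set_option linter.unusedSectionVars false

open scoped Pointwise Isocrystal

universe u v

namespace H8Isoc

variable {p : ℕ} [Fact p.Prime] {k : Type u} [Field k] [CharP k p]
variable {N : Type v} [AddCommGroup N] [Module (WittVector p k) N] [Module K(p, k) N]
  [IsScalarTower (WittVector p k) K(p, k) N]

section LangN

variable [PerfectRing k p] [IsAlgClosed k] {b : ℤ} (G : N →ₛₗ[Isoc.frob p k b] N)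

theorem map_wsmul (w : WittVector p k) (x : N) :
    G (w • x) = ((WittVector.frobeniusEquiv p k ^ b) w) • G x := by
  rw [← algebraMap_smul K(p, k) w x, map_smulₛₗ, Isoc.frob_algebraMap, algebraMap_smul]

/-- fixed vectors of a unit-root crystal over an algebraically closed field span -/
theorem fixed_span_N {n : ℕ} (b₀ : Module.Basis (Fin n) K(p, k) N) (hb : b ≠ 0)
    {Λ : Submodule (WittVector p k) N} (hΛ : Λ.IsLattice K(p, k))
    (hGΛ : Isoc.latImg G 1 Λ = Λ) :
    Submodule.span K(p, k) {x : N | G x = x} = ⊤ := by
  obtain ⟨e, he, hint⟩ := exists_lattice_basis b₀ hΛ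
  have hG1 : ∀ m ∈ Λ, G m ∈ Isoc.pPow 0 Λ := by
    intro m hm
    rw [pPow_zero, ← hGΛ]
    exact (mem_latImg G 1 Λ _).mpr ⟨m, hm, rfl⟩
  have hG2 : ∀ y ∈ Isoc.pPow 0 Λ, ∃ m ∈ Λ, G m = y := by
    intro y hy
    rw [pPow_zero, ← hGΛ] at hy
    obtain ⟨m, hm, hmy⟩ := (mem_latImg G 1 Λ y).mp hy
    exact ⟨m, hm, hmy⟩
  have hord : Isoc.IsOrdP (mat e G).det (0 * n) :=
    isOrdP_det_of_eq (fun w => ⟨_, Isoc.frob_algebraMap p k b w⟩) e he hint G 0 hG1 hG2
  have hent : ∀ i j, ∃ w : WittVector p k, mat e G i j = algebraMap _ _ w := by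
    intro i j
    have h1 := hG1 (e j) (he j)
    rw [pPow_zero] at h1
    exact hint _ h1 i
  choose B hB using hent
  have hmatB : mat e G = (Matrix.of B).map (algebraMap (WittVector p k) K(p, k)) := by
    ext i j
    rw [hB i j]; rfl
  have hdet : IsUnit (Matrix.of B).det := by
    obtain ⟨u, hu⟩ := hord
    rw [hmatB, zero_mul, zpow_zero, one_mul] at hu
    have h1 : ((Matrix.of B).map (algebraMap (WittVector p k) K(p, k))).det =
        algebraMap (WittVector p k) K(p, k) (Matrix.of B).det := by
      rw [RingHom.map_det]; rfl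
    rw [h1] at hu
    have := (IsFractionRing.injective (WittVector p k) K(p, k)) hu
    rw [this]; exact u.isUnit
  -- the coordinate embedding
  set ι : (Fin n → WittVector p k) →ₗ[WittVector p k] N :=
    Fintype.linearCombination (WittVector p k) (fun j => e j) with hι
  have hιapp : ∀ w, ι w = ∑ j, w j • e j := fun w => Fintype.linearCombination_apply _ _ _
  have hGe : ∀ j, G (e j) = ∑ i, B i j • e i := by
    intro j
    conv_lhs => rw [← e.sum_repr (G (e j))]
    apply Finset.sum_congr rfl
    intro i _
    have : e.repr (G (e j)) i = algebraMap _ _ (B i j) := hB i j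
    rw [this, algebraMap_smul]
  have hGι : ∀ w, G (ι w) = ι (H8Lang.gmap (Matrix.of B) b w) := by
    intro w
    rw [hιapp, hιapp, map_sum]
    have h1 : ∀ j, G (w j • e j) =
        ∑ i, (B i j * (WittVector.frobeniusEquiv p k ^ b) (w j)) • e i := by
      intro j
      rw [map_wsmul, hGe, Finset.smul_sum]
      apply Finset.sum_congr rfl
      intro i _
      rw [smul_smul, mul_comm]
    simp_rw [h1]
    rw [Finset.sum_comm]
    apply Finset.sum_congr rfl
    intro i _
    rw [← Finset.sum_smul]
    rfl
  have hfix := H8Lang.witt_fixed_span (Matrix.of B) b hdet hb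
  -- every basis vector lies in the span of fixed vectors
  have hmem : ∀ j, e j ∈ Submodule.span K(p, k) {x : N | G x = x} := by
    intro j
    have h1 : (Pi.single j 1 : Fin n → WittVector p k) ∈
        Submodule.span (WittVector p k)
          {w : Fin n → WittVector p k | H8Lang.gmap (Matrix.of B) b w = w} := by
      rw [hfix]; exact Submodule.mem_top
    have h2 : ι (Pi.single j 1) = e j := by
      rw [hιapp, Finset.sum_eq_single j]
      · simp
      · intro i _ hij
        simp [Pi.single_eq_of_ne hij]
      · intro h; exact absurd (Finset.mem_univ j) h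
    rw [← h2]
    have h3 : ∀ w ∈ Submodule.span (WittVector p k)
        {w : Fin n → WittVector p k | H8Lang.gmap (Matrix.of B) b w = w},
        ι w ∈ Submodule.span K(p, k) {x : N | G x = x} := by
      intro w hw
      induction hw using Submodule.span_induction with
      | mem w hw =>
        apply Submodule.subset_span
        have hw' : H8Lang.gmap (Matrix.of B) b w = w := hw
        show G (ι w) = ι w
        rw [hGι, hw']
      | zero => rw [map_zero]; exact Submodule.zero_mem _
      | add x y _ _ hx hy => rw [map_add]; exact Submodule.add_mem _ hx hy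
      | smul c x _ hx =>
        rw [map_smul, ← algebraMap_smul K(p, k) c]
        exact Submodule.smul_mem _ _ hx
    exact h3 _ h1
  rw [eq_top_iff, ← e.span_eq, Submodule.span_le]
  rintro _ ⟨j, rfl⟩
  exact hmem j

end LangN

end H8Isoc
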