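import Mathlib
import Groth.Prelude.Def_Isoc
import Groth.Agent.H8Isoc8

set_option autoImplicit false
set_option linter.unusedSectionVars false

open scoped Pointwise Isocrystal

universe u v

namespace H8Isoc

variable {p : ℕ} [Fact p.Prime] {k : Type u} [Field k] [CharP k p]
variable {N : Type v} [AddCommGroup N] [Module (WittVector p k) N] [Module K(p, k) N]
  [IsScalarTower (WittVector p k) K(p, k) N]

section Inv

variable [PerfectRing k p]

theorem charZero_K : CharZero K(p, k) := by
  obtain ⟨c, hc⟩ := CharP.exists K(p, k)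
  rcases CharP.char_is_prime_or_zero K(p, k) c with hprime | hzero
  · exfalso
    have h1 : ((c : ℕ) : K(p, k)) = 0 := CharP.cast_eq_zero K(p, k) c
    have h2 : ((c : ℕ) : WittVector p k) = 0 := by
      apply IsFractionRing.injective (WittVector p k) K(p, k)
      rw [map_natCast, h1, map_zero]
    have h3 : ((c : ℕ) : k) = 0 := by
      have := congrArg (WittVector.constantCoeff (p := p) (R := k)) h2
      rwa [map_natCast, map_zero] at this
    have h4 : p ∣ c := (CharP.cast_eq_zero_iff k p c).mp h3
    have h5 : p = c := (Nat.prime_dvd_prime_iff_eq (Fact.out : p.Prime) hprime).mp h4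
    rw [← h5] at h1
    exact WittVector.FractionRing.p_nonzero p k h1
  · subst hzero
    exact CharP.charP_to_charZero K(p, k)

theorem frob_comp_neg (m : ℤ) (c : K(p, k)) : Isoc.frob p k m (Isoc.frob p k (-m) c) = c := by
  have h : (Isoc.frob p k m).comp (Isoc.frob p k (-m)) = RingHom.id K(p, k) := by
    apply IsLocalization.ringHom_ext (nonZeroDivisors (WittVector p k))
    ext w
    rw [RingHom.comp_apply, RingHom.comp_apply, RingHom.comp_apply, Isoc.frob_algebraMap,
      Isoc.frob_algebraMap, RingHom.id_apply, ← RingAut.mul_apply, ← zpow_add, add_neg_cancel,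
      zpow_zero]
    rfl
  exact RingHom.congr_fun h c

theorem frob_neg_comp (m : ℤ) (c : K(p, k)) : Isoc.frob p k (-m) (Isoc.frob p k m c) = c := by
  have := frob_comp_neg (p := p) (k := k) (-m) c
  rwa [neg_neg] at this

/-- inverse of a bijective semilinear map -/
noncomputable def invSL {τ τ' : K(p, k) →+* K(p, k)} (hττ' : ∀ c, τ (τ' c) = c)
    (ψ : N →ₛₗ[τ] N) (hbij : Function.Bijective ψ) : N →ₛₗ[τ'] N where
  toFun := (Equiv.ofBijective ψ hbij).symm
  map_add' x y := by
    apply hbij.1
    have h : ∀ z, ψ ((Equiv.ofBijective ψ hbij).symm z) = z :=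
      fun z => (Equiv.ofBijective ψ hbij).apply_symm_apply z
    rw [h, ψ.map_add, h, h]
  map_smul' c x := by
    apply hbij.1
    have h : ∀ z, ψ ((Equiv.ofBijective ψ hbij).symm z) = z :=
      fun z => (Equiv.ofBijective ψ hbij).apply_symm_apply z
    show ψ ((Equiv.ofBijective ψ hbij).symm (c • x)) =
      ψ (τ' c • (Equiv.ofBijective ψ hbij).symm x)
    rw [h, ψ.map_smulₛₗ, h, hττ']

theorem invSL_right {τ τ' : K(p, k) →+* K(p, k)} (hττ' : ∀ c, τ (τ' c) = c)
    (ψ : N →ₛₗ[τ] N) (hbij : Function.Bijective ψ) (x : N) : ψ (invSL hττ' ψ hbij x) = x :=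
  (Equiv.ofBijective ψ hbij).apply_symm_apply x

theorem invSL_left {τ τ' : K(p, k) →+* K(p, k)} (hττ' : ∀ c, τ (τ' c) = c)
    (ψ : N →ₛₗ[τ] N) (hbij : Function.Bijective ψ) (x : N) : invSL hττ' ψ hbij (ψ x) = x :=
  (Equiv.ofBijective ψ hbij).symm_apply_apply x

end Inv

section Maschke

variable [PerfectRing k p] [IsAlgClosed k] {a : ℤ} (F : N →ₛₗ[Isoc.frob p k a] N)

theorem frob_pow_neg_pow (i : ℕ) (c : K(p, k)) :
    (Isoc.frob p k (-a) ^ i) ((Isoc.frob p k a ^ i) c) = c := by
  rw [frob_pow, frob_pow]
  have : -a * (i : ℤ) = -(a * i) := by ring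
  rw [this]
  exact frob_neg_comp _ c

theorem exists_compl_isoclinic (hF : Isoc.IsIsoc F) (ha : a ≠ 0)
    {Λ : Submodule (WittVector p k) N} (hΛ : Λ.IsLattice K(p, k)) {r : ℤ} {s : ℕ} (hs : 0 < s)
    (hFΛ : Isoc.latImg F s Λ = Isoc.pPow r Λ)
    (P : Submodule K(p, k) N) (hP : ∀ x ∈ P, F x ∈ P) :
    ∃ Q : Submodule K(p, k) N, (∀ x ∈ Q, F x ∈ Q) ∧ IsCompl P Q := by
  classical
  have hfd : FiniteDimensional K(p, k) N := hF.finite
  have hcz : CharZero K(p, k) := charZero_K
  set G := twist F r s with hG
  have hGΛ : Isoc.latImg G 1 Λ = Λ := by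
    rw [hG, latImg_twist', Nat.mul_one, hFΛ, ← pPow_add]
    have e : -(r * ((1 : ℕ) : ℤ)) + r = 0 := by push_cast; ring
    rw [e, pPow_zero]
  have hGinj : Function.Injective G := twist_injective F hF.bijective.1 r s
  have hGsurj : Function.Surjective G := twist_surjective F hF.bijective.2 r s
  have hGisoc : Isoc.IsIsoc G := ⟨hfd, hGinj, hGsurj⟩
  have has : a * (s : ℤ) ≠ 0 := mul_ne_zero ha (by exact_mod_cast hs.ne')
  have hGP : ∀ x ∈ P, G x ∈ P := by
    intro x hx
    rw [hG, twist_apply]
    exact P.smul_mem _ (iterate_mem_sub F P hP s hx)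
  -- fixed vectors span N and P
  have hfixN : Submodule.span K(p, k) {x : N | G x = x} = ⊤ :=
    fixed_span_N G (Module.finBasis K(p, k) N) has hΛ hGΛ
  have hfixP : Submodule.span K(p, k) {x : N | x ∈ P ∧ G x = x} = P := by
    have h0 : Isoc.latImg G 1 Λ = Isoc.pPow 0 Λ := by rw [hGΛ, pPow_zero]
    have h1 := fixed_span_N (G.restrict hGP) (Module.finBasis K(p, k) P) has
      (subLat_lattice P hΛ) (by rw [subLat_latImg G P hGP hGisoc h0, pPow_zero])
    have h2 : P.subtype '' {x : P | (G.restrict hGP) x = x} = {x : N | x ∈ P ∧ G x = x} := by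
      ext y
      constructor
      · rintro ⟨x, hx, rfl⟩
        exact ⟨x.2, congrArg Subtype.val hx⟩
      · rintro ⟨hy, hGy⟩
        exact ⟨⟨y, hy⟩, Subtype.ext hGy, rfl⟩
    rw [← h2, ← Submodule.map_span, h1, Submodule.map_top, Submodule.range_subtype]
  -- bases of fixed vectors
  obtain ⟨bP, hbP_sub, hbP_span, hbP_li⟩ :=
    exists_linearIndependent K(p, k) {x : N | x ∈ P ∧ G x = x}
  have hbP_fix : bP ⊆ {x : N | G x = x} := fun x hx => (hbP_sub hx).2
  have hbP_li' : LinearIndepOn K(p, k) id bP := hbP_li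
  obtain ⟨bN, hbN_sub, hPN, hbN_span, hbN_li⟩ :=
    exists_linearIndepOn_id_extension hbP_li' hbP_fix
  have hbN_top : ⊤ ≤ Submodule.span K(p, k) (Set.range (fun x : bN => (x : N))) := by
    rw [Subtype.range_coe_subtype, ← hfixN]
    exact Submodule.span_le.mpr hbN_span
  have hbN_li' : LinearIndependent K(p, k) (fun x : bN => (x : N)) := hbN_li
  set Bas : Module.Basis bN K(p, k) N := Module.Basis.mk hbN_li' hbN_top with hBas
  have hBas_apply : ∀ x : bN, Bas x = (x : N) := fun x => Module.Basis.mk_apply _ _ x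
  set π₀ : N →ₗ[K(p, k)] N :=
    Bas.constr K(p, k) (fun x : bN => if (x : N) ∈ bP then (x : N) else 0) with hπ₀
  have hπ₀_bas : ∀ x : bN, π₀ (x : N) = if (x : N) ∈ bP then (x : N) else 0 := by
    intro x
    rw [← hBas_apply x, hπ₀, Module.Basis.constr_basis]
    rw [hBas_apply]
  have hmem_span : ∀ y : N, y ∈ Submodule.span K(p, k) (bN : Set N) := by
    intro y
    have := hbN_top (Submodule.mem_top (x := y))
    rwa [Subtype.range_coe_subtype] at this
  have hbP_P : ∀ x ∈ bP, x ∈ P := fun x hx => (hbP_sub hx).1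
  have hπ₀_mem : ∀ y, π₀ y ∈ P := by
    intro y
    have hy := hmem_span y
    induction hy using Submodule.span_induction with
    | mem x hx =>
      have := hπ₀_bas ⟨x, hx⟩
      simp only at this
      rw [this]
      split_ifs with h
      · exact hbP_P x h
      · exact P.zero_mem
    | zero => rw [map_zero]; exact P.zero_mem
    | add x y _ _ hx hy => rw [map_add]; exact P.add_mem hx hy
    | smul c x _ hx => rw [map_smul]; exact P.smul_mem c hx
  have hπ₀_id : ∀ y ∈ P, π₀ y = y := by
    intro y hy
    rw [← hfixP, ← hbP_span] at hy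
    induction hy using Submodule.span_induction with
    | mem x hx =>
      have := hπ₀_bas ⟨x, hPN hx⟩
      simp only at this
      rw [this, if_pos hx]
    | zero => rw [map_zero]
    | add x y _ _ hx hy => rw [map_add, hx, hy]
    | smul c x _ hx => rw [map_smul, hx]
  have hπ₀_G : ∀ y, π₀ (G y) = G (π₀ y) := by
    intro y
    have hy := hmem_span y
    induction hy using Submodule.span_induction with
    | mem x hx =>
      have hGx : G x = x := hbN_sub hx
      have := hπ₀_bas ⟨x, hx⟩
      simp only at this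
      rw [hGx, this]
      split_ifs with h
      · exact hGx.symm
      · rw [map_zero]
    | zero => rw [map_zero, map_zero, map_zero]
    | add x y _ _ hx hy => rw [map_add, map_add, map_add, map_add, hx, hy]
    | smul c x _ hx => rw [map_smulₛₗ, map_smul, map_smul, map_smulₛₗ, hx]
  -- the inverse of F
  set Finv : N →ₛₗ[Isoc.frob p k (-a)] N := invSL (frob_comp_neg a) F hF.bijective with hFinv
  have hFFinv : ∀ x, F (Finv x) = x := invSL_right (frob_comp_neg a) F hF.bijective
  have hFinvF : ∀ x, Finv (F x) = x := invSL_left (frob_comp_neg a) F hF.bijective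
  have hFFinv_it : ∀ i x, (⇑F)^[i] ((⇑Finv)^[i] x) = x := fun i x =>
    (Function.RightInverse.iterate (f := ⇑F) (g := ⇑Finv) hFFinv i) x
  have hFinvF_it : ∀ i x, (⇑Finv)^[i] ((⇑F)^[i] x) = x := fun i x =>
    (Function.LeftInverse.iterate (g := ⇑Finv) (f := ⇑F) hFinvF i) x
  have hPinv : ∀ x ∈ P, Finv x ∈ P := by
    intro x hx
    have hsurj : Function.Surjective (F.restrict hP) := by
      apply semilinear_surj_of_inj (frob_bijective a).2
      intro u v huv
      apply Subtype.ext
      apply hF.bijective.1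
      exact congrArg Subtype.val huv
    obtain ⟨y, hy⟩ := hsurj ⟨x, hx⟩
    have : F (y : N) = x := congrArg Subtype.val hy
    rw [← this, hFinvF]
    exact y.2
  -- the conjugates
  let T : ℕ → N →ₗ[K(p, k)] N := fun i =>
    { toFun := fun x => (⇑Finv)^[i] (π₀ ((⇑F)^[i] x))
      map_add' := fun x y => by rw [iterate_add, map_add, iterate_add]
      map_smul' := fun c x => by
        rw [iterate_smul, map_smul, iterate_smul, frob_pow_neg_pow]
        rfl }
  have hT_apply : ∀ i x, T i x = (⇑Finv)^[i] (π₀ ((⇑F)^[i] x)) := fun i x => rfl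
  have hT_mem : ∀ i x, T i x ∈ P := by
    intro i x
    rw [hT_apply]
    exact iterate_mem_sub Finv P hPinv i (hπ₀_mem _)
  have hT_id : ∀ i, ∀ x ∈ P, T i x = x := by
    intro i x hx
    rw [hT_apply, hπ₀_id _ (iterate_mem_sub F P hP i hx), hFinvF_it]
  have hT_F : ∀ i x, T i (F x) = F (T (i + 1) x) := by
    intro i x
    rw [hT_apply, hT_apply, Function.iterate_succ_apply' (⇑Finv), hFFinv,
      ← Function.iterate_succ_apply (⇑F)]
  have hT_s : ∀ x, T s x = T 0 x := by
    intro x
    rw [hT_apply, hT_apply]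
    simp only [Function.iterate_zero, id_eq]
    have h1 : (⇑F)^[s] x = ((p : K(p, k)) ^ r) • G x := by
      rw [hG, twist_apply, smul_smul, ← zpow_add₀ p_ne, add_neg_cancel, zpow_zero, one_smul]
    have h2 : (⇑F)^[s] (π₀ x) = ((p : K(p, k)) ^ r) • G (π₀ x) := by
      rw [hG, twist_apply, smul_smul, ← zpow_add₀ p_ne, add_neg_cancel, zpow_zero, one_smul]
    rw [h1, map_smul, hπ₀_G, ← h2, hFinvF_it]
  have hsum_shift : ∀ x, ∑ i ∈ Finset.range s, T (i + 1) x = ∑ i ∈ Finset.range s, T i x := by
    intro x
    have e1 := Finset.sum_range_succ (fun i => T i x) s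
    have e2 := Finset.sum_range_succ' (fun i => T i x) s
    rw [e1, hT_s x] at e2
    exact (add_right_cancel e2).symm
  set π : N →ₗ[K(p, k)] N := ((s : K(p, k))⁻¹) • ∑ i ∈ Finset.range s, T i with hπ
  have hπ_apply : ∀ x, π x = ((s : K(p, k))⁻¹) • ∑ i ∈ Finset.range s, T i x := by
    intro x
    rw [hπ, LinearMap.smul_apply, LinearMap.sum_apply]
  have hs0 : (s : K(p, k)) ≠ 0 := by exact_mod_cast hs.ne'
  have hπ_mem : ∀ x, π x ∈ P := by
    intro x
    rw [hπ_apply]
    exact P.smul_mem _ (Submodule.sum_mem _ (fun i _ => hT_mem i x))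
  have hπ_id : ∀ x ∈ P, π x = x := by
    intro x hx
    rw [hπ_apply, Finset.sum_congr rfl (fun i _ => hT_id i x hx), Finset.sum_const,
      Finset.card_range, ← Nat.cast_smul_eq_nsmul K(p, k), smul_smul, inv_mul_cancel₀ hs0,
      one_smul]
  have hπ_F : ∀ x, π (F x) = F (π x) := by
    intro x
    rw [hπ_apply, hπ_apply, Finset.sum_congr rfl (fun i _ => hT_F i x), ← map_sum,
      hsum_shift, map_smulₛₗ, map_inv₀, map_natCast]
  refine ⟨LinearMap.ker π, ?_, ?_⟩
  · intro x hx
    rw [LinearMap.mem_ker] at hx ⊢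
    rw [hπ_F, hx, map_zero]
  · have := LinearMap.isCompl_of_proj (f := π.codRestrict P hπ_mem)
      (fun x => Subtype.ext (hπ_id x x.2))
    rwa [LinearMap.ker_codRestrict] at this

end Maschke

section Compl

variable [PerfectRing k p] [IsAlgClosed k] {a : ℤ}

theorem restrict_isIsoc {V : Type v} [AddCommGroup V] [Module (WittVector p k) V]
    [Module K(p, k) V] [IsScalarTower (WittVector p k) K(p, k) V]
    (F : V →ₛₗ[Isoc.frob p k a] V) (hF : Isoc.IsIsoc F) (P : Submodule K(p, k) V)
    (hP : ∀ x ∈ P, F x ∈ P) : Isoc.IsIsoc (F.restrict hP) := by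
  have hfd : FiniteDimensional K(p, k) V := hF.finite
  have hinj : Function.Injective (F.restrict hP) := by
    intro x y hxy
    apply Subtype.ext
    apply hF.bijective.1
    exact congrArg Subtype.val hxy
  exact ⟨inferInstance, hinj, semilinear_surj_of_inj (frob_bijective a).2 _ hinj⟩

theorem stable_iSup {V : Type v} [AddCommGroup V] [Module K(p, k) V]
    (F : V →ₛₗ[Isoc.frob p k a] V) {ι : Sort*} (f : ι → Submodule K(p, k) V)
    (h : ∀ i, ∀ x ∈ f i, F x ∈ f i) : ∀ x ∈ ⨆ i, f i, F x ∈ ⨆ i, f i := by
  intro x hx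
  induction hx using Submodule.iSup_induction' with
  | mem i x hx => exact Submodule.mem_iSup_of_mem i (h i x hx)
  | zero => rw [map_zero]; exact Submodule.zero_mem _
  | add x y _ _ hx hy => rw [map_add]; exact Submodule.add_mem _ hx hy

theorem exists_compl_aux (n : ℕ) : ∀ (V : Type v) [AddCommGroup V]
    [Module (WittVector p k) V] [Module K(p, k) V] [IsScalarTower (WittVector p k) K(p, k) V]
    (F : V →ₛₗ[Isoc.frob p k a] V), Isoc.IsIsoc F → a ≠ 0 → Module.finrank K(p, k) V = n →
    ∀ (P : Submodule K(p, k) V), (∀ x ∈ P, F x ∈ P) →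
    ∃ Q : Submodule K(p, k) V, (∀ x ∈ Q, F x ∈ Q) ∧ IsCompl P Q := by
  induction n using Nat.strong_induction_on with
  | _ n ih =>
    intro V _ _ _ _ F hF ha hn P hP
    have hfd : FiniteDimensional K(p, k) V := hF.finite
    rcases subsingleton_or_nontrivial V with hsub | hnt
    · refine ⟨⊤, fun _ _ => Submodule.mem_top, ?_⟩
      rw [Subsingleton.elim P ⊥]
      exact isCompl_bot_top
    · have hspan := iSup_slopePart_eq_top F hF
      have hind := iSupIndep_slopePart F hF
      have hst : ∀ ν : ℚ, ∀ x ∈ Isoc.slopePart F ν, F x ∈ Isoc.slopePart F ν :=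
        fun ν => (slopePart_isoIn F ν).1
      obtain ⟨μ, hμ⟩ : ∃ μ : ℚ, Isoc.slopePart F μ ≠ ⊥ := by
        by_contra hcon
        push Not at hcon
        have : (⨆ μ : ℚ, Isoc.slopePart F μ) = ⊥ := by
          rw [iSup_eq_bot]; exact hcon
        rw [hspan] at this
        exact top_ne_bot this
      set A := Isoc.slopePart F μ with hA
      set B : Submodule K(p, k) V := ⨆ ν : {ν : ℚ // ν ≠ μ}, Isoc.slopePart F ν with hB
      have hBeq : B = ⨆ (ν : ℚ) (_ : ν ≠ μ), Isoc.slopePart F ν := by
        rw [hB, iSup_subtype']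
      have hdisj : Disjoint A B := by rw [hBeq]; exact hind μ
      have hsup : A ⊔ B = ⊤ := by
        rw [hBeq, ← hspan]
        exact (iSup_split_single (fun ν : ℚ => Isoc.slopePart F ν) μ).symm
      have hAst : ∀ x ∈ A, F x ∈ A := hst μ
      have hBst : ∀ x ∈ B, F x ∈ B := stable_iSup F _ (fun ν => hst ν)
      -- decomposition of P
      have hPdec : P ≤ (P ⊓ A) ⊔ (P ⊓ B) := by
        have hFP := restrict_isIsoc F hF P hP
        have h1 := iSup_slopePart_eq_top (F.restrict hP) hFP
        calc P = (⊤ : Submodule K(p, k) P).map P.subtype := by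
              rw [Submodule.map_top, Submodule.range_subtype]
          _ = ⨆ ν : ℚ, (Isoc.slopePart (F.restrict hP) ν).map P.subtype := by
              rw [← h1, Submodule.map_iSup]
          _ ≤ (P ⊓ A) ⊔ (P ⊓ B) := by
              apply iSup_le
              intro ν
              have hle1 : (Isoc.slopePart (F.restrict hP) ν).map P.subtype ≤ P :=
                Submodule.map_subtype_le P _
              have hle2 := slopePart_map_le F P hP ν
              by_cases hν : ν = μ
              · subst hν
                exact le_sup_of_le_left (le_inf hle1 hle2)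
              · apply le_sup_of_le_right
                apply le_inf hle1
                exact hle2.trans (le_iSup (fun ν : {ν : ℚ // ν ≠ μ} => Isoc.slopePart F ν)
                  ⟨ν, hν⟩)
      -- complement inside A
      obtain ⟨M', hM', r, s, hs, hrs, hFM⟩ :=
        restrict_of_isoIn F A hAst μ (slopePart_isoIn F μ).2
      have hFA := restrict_isIsoc F hF A hAst
      have hPA : ∀ x ∈ P.comap A.subtype, (F.restrict hAst) x ∈ P.comap A.subtype := by
        intro x hx
        exact hP _ hx
      obtain ⟨QA, hQAst, hQAc⟩ :=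
        exists_compl_isoclinic (F.restrict hAst) hFA ha hM' hs hFM (P.comap A.subtype) hPA
      -- complement inside B
      have hBtop : B ≠ ⊤ := by
        intro h
        apply hμ
        have := hdisj.eq_bot
        rwa [h, inf_top_eq] at this
      have hlt : Module.finrank K(p, k) B < n := hn ▸ Submodule.finrank_lt hBtop
      have hFB := restrict_isIsoc F hF B hBst
      have hPB : ∀ x ∈ P.comap B.subtype, (F.restrict hBst) x ∈ P.comap B.subtype := by
        intro x hx
        exact hP _ hx
      obtain ⟨QB, hQBst, hQBc⟩ :=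
        ih _ hlt B (F.restrict hBst) hFB ha rfl (P.comap B.subtype) hPB
      refine ⟨QA.map A.subtype ⊔ QB.map B.subtype, ?_, ?_⟩
      · intro x hx
        obtain ⟨u, hu, v, hv, rfl⟩ := Submodule.mem_sup.mp hx
        obtain ⟨u', hu', rfl⟩ := hu
        obtain ⟨v', hv', rfl⟩ := hv
        rw [map_add]
        exact Submodule.add_mem_sup ⟨(F.restrict hAst) u', hQAst u' hu', rfl⟩
          ⟨(F.restrict hBst) v', hQBst v' hv', rfl⟩
      · constructor
        · -- disjoint
          rw [Submodule.disjoint_def]
          intro x hxP hxQ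
          obtain ⟨qa, hqa, qb, hqb, rfl⟩ := Submodule.mem_sup.mp hxQ
          obtain ⟨qa', hqa', rfl⟩ := hqa
          obtain ⟨qb', hqb', rfl⟩ := hqb
          obtain ⟨pa, hpa, pb, hpb, hpab⟩ := Submodule.mem_sup.mp (hPdec hxP)
          have hpaA : pa ∈ A := (Submodule.mem_inf.mp hpa).2
          have hpbB : pb ∈ B := (Submodule.mem_inf.mp hpb).2
          have hdiff : (A.subtype qa' - pa) ∈ A ⊓ B := by
            refine Submodule.mem_inf.mpr ⟨A.sub_mem qa'.2 hpaA, ?_⟩
            have e : A.subtype qa' - pa = pb - B.subtype qb' := by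
              rw [sub_eq_sub_iff_add_eq_add, ← hpab, add_comm]
            rw [e]
            exact B.sub_mem hpbB qb'.2
          rw [hdisj.eq_bot, Submodule.mem_bot, sub_eq_zero] at hdiff
          have hqa0 : qa' = 0 := by
            have h1 : qa' ∈ P.comap A.subtype ⊓ QA := by
              refine Submodule.mem_inf.mpr ⟨?_, hqa'⟩
              show A.subtype qa' ∈ P
              rw [hdiff]; exact (Submodule.mem_inf.mp hpa).1
            rw [hQAc.disjoint.eq_bot, Submodule.mem_bot] at h1
            exact h1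
          have hqb0 : qb' = 0 := by
            have e : B.subtype qb' = pb := by
              have := hpab
              rw [← hdiff] at this
              exact (add_left_cancel this).symm
            have h1 : qb' ∈ P.comap B.subtype ⊓ QB := by
              refine Submodule.mem_inf.mpr ⟨?_, hqb'⟩
              show B.subtype qb' ∈ P
              rw [e]; exact (Submodule.mem_inf.mp hpb).1
            rw [hQBc.disjoint.eq_bot, Submodule.mem_bot] at h1
            exact h1
          rw [hqa0, hqb0, map_zero, map_zero, add_zero]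
        · -- codisjoint
          rw [codisjoint_iff, eq_top_iff, ← hsup]
          apply sup_le
          · calc A = (⊤ : Submodule K(p, k) A).map A.subtype := by
                  rw [Submodule.map_top, Submodule.range_subtype]
              _ = (P.comap A.subtype ⊔ QA).map A.subtype := by rw [hQAc.sup_eq_top]
              _ = (P.comap A.subtype).map A.subtype ⊔ QA.map A.subtype := Submodule.map_sup _ _ _
              _ ≤ P ⊔ (QA.map A.subtype ⊔ QB.map B.subtype) := by
                  apply sup_le_sup
                  · rw [Submodule.map_comap_subtype]; exact inf_le_right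
                  · exact le_sup_left
          · calc B = (⊤ : Submodule K(p, k) B).map B.subtype := by
                  rw [Submodule.map_top, Submodule.range_subtype]
              _ = (P.comap B.subtype ⊔ QB).map B.subtype := by rw [hQBc.sup_eq_top]
              _ = (P.comap B.subtype).map B.subtype ⊔ QB.map B.subtype := Submodule.map_sup _ _ _
              _ ≤ P ⊔ (QA.map A.subtype ⊔ QB.map B.subtype) := by
                  apply sup_le_sup
                  · rw [Submodule.map_comap_subtype]; exact inf_le_right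
                  · exact le_sup_right

theorem exists_compl (F : N →ₛₗ[Isoc.frob p k a] N) (hF : Isoc.IsIsoc F) (ha : a ≠ 0)
    (P : Submodule K(p, k) N) (hP : ∀ x ∈ P, F x ∈ P) :
    ∃ Q : Submodule K(p, k) N, (∀ x ∈ Q, F x ∈ Q) ∧ IsCompl P Q :=
  exists_compl_aux _ N F hF ha rfl P hP

end Compl

end H8Isoc
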