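import Groth.Statements.S17153
import Mathlib
import Groth.Agent.H8Isoc

set_option autoImplicit false
universe u
open Isoc

namespace Groth.Agent.S17153

/-- Let k be a perfect field of characteristic p, W = W(k), L its fraction field, a ∈ ℤ, and λ = d/h
with h > 0 and gcd(d, h) = 1. The standard σ^a-F-isocrystal N_λ of slope λ — the space L^h with the
σ^a-semilinear F determined by F e_i = e_{i+1} (i + 1 < h) and F e_{h−1} = p^d · e_0 — is a simple
isocrystal: an L-subspace of L^h carried into itself by F is either 0 or everything. (The source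
introduces N_λ for a ≠ 0 only; the simplicity argument, via sub-isocrystals of an isoclinic
isocrystal having the same slope, does not use that restriction, and the statement is made for all
a.) -/
theorem result (p : ℕ) [Fact p.Prime] (k : Type u) [Field k] [CharP k p] [PerfectRing k p]
    (a : ℤ) (d : ℤ) (h : ℕ) (hh : 0 < h) (hdh : Int.gcd d h = 1)
    (P : Submodule (FractionRing (WittVector p k)) (Fin h → (FractionRing (WittVector p k))))
    (hP : ∀ x ∈ P, Isoc.stdIsoc (Isoc.frob p k a) d h x ∈ P) : P = ⊥ ∨ P = ⊤ := by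
  obtain ⟨n, rfl⟩ : ∃ n, h = n + 1 := ⟨h - 1, by omega⟩
  set F := Isoc.stdIsoc (Isoc.frob p k a) d (n + 1) with hFdef
  have hF : Isoc.IsIsoc F := ⟨inferInstance, H8Isoc.std_bijective d n⟩
  have hμ : Isoc.IsIsoclinic F ((d : ℚ) / ((n + 1 : ℕ) : ℚ)) :=
    ⟨H8Isoc.stdLat n, H8Isoc.stdLat_lattice n, d, n + 1, Nat.succ_pos n, rfl, H8Isoc.std_latImg d n⟩
  by_cases hbot : P = ⊥
  · exact Or.inl hbot
  right
  have hsub := H8Isoc.isoclinic_sub F P hP hF _ hμ
  obtain ⟨M', hM', r, s, hs, hrs, hFM'⟩ := hsub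
  obtain ⟨d₀, hd₀⟩ := H8Isoc.iso_int (Module.finBasis (FractionRing (WittVector p k)) P)
    (F.restrict hP) hM' hs hFM'
  set h' := Module.finrank (FractionRing (WittVector p k)) P with hh'
  have hh'pos : 0 < h' := by
    rw [hh', Module.finrank_pos_iff, Submodule.nontrivial_iff_ne_bot]
    exact hbot
  have h1 : r * ((n + 1 : ℕ) : ℤ) = s * d := by
    have hs0 : (s : ℚ) ≠ 0 := by positivity
    have hn0 : (((n + 1 : ℕ) : ℚ)) ≠ 0 := by positivity
    rw [div_eq_div_iff hs0 hn0] at hrs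
    have : ((r * ((n + 1 : ℕ) : ℤ) : ℤ) : ℚ) = ((s * d : ℤ) : ℚ) := by
      push_cast
      push_cast at hrs
      linarith
    exact_mod_cast this
  have h2 : d * h' = ((n + 1 : ℕ) : ℤ) * d₀ := by
    have hs0 : (s : ℤ) ≠ 0 := by positivity
    apply mul_left_cancel₀ hs0
    calc (s : ℤ) * (d * h') = (s * d) * h' := by ring
      _ = r * ((n + 1 : ℕ) : ℤ) * h' := by rw [h1]
      _ = ((n + 1 : ℕ) : ℤ) * (r * h') := by ring
      _ = ((n + 1 : ℕ) : ℤ) * (s * d₀) := by rw [hd₀]
      _ = (s : ℤ) * (((n + 1 : ℕ) : ℤ) * d₀) := by ring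
  have h3 : ((n + 1 : ℕ) : ℤ) ∣ (h' : ℤ) := by
    have hdvd : ((n + 1 : ℕ) : ℤ) ∣ h' * d := ⟨d₀, by rw [mul_comm]; exact h2⟩
    exact Int.dvd_of_dvd_mul_left_of_gcd_one hdvd (by rw [Int.gcd_comm]; exact hdh)
  have h4 : n + 1 ≤ h' := Nat.le_of_dvd hh'pos (Int.natCast_dvd_natCast.mp h3)
  apply Submodule.eq_top_of_finrank_eq
  rw [Module.finrank_fin_fun]
  have := Submodule.finrank_le P
  rw [Module.finrank_fin_fun] at this
  omega

end Groth.Agent.S17153
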