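import Mathlib
import Groth.Prelude.Def_Isoc
import Groth.Agent.H8Isoc9
import Groth.Agent.S17153

set_option autoImplicit false
set_option linter.unusedSectionVars false

open scoped Pointwise Isocrystal

universe u v

namespace H8Isoc

variable {p : ℕ} [Fact p.Prime] {k : Type u} [Field k] [CharP k p]
variable {N : Type v} [AddCommGroup N] [Module (WittVector p k) N] [Module K(p, k) N]
  [IsScalarTower (WittVector p k) K(p, k) N]

section Fixed

variable [PerfectRing k p] [IsAlgClosed k] {a : ℤ} (F : N →ₛₗ[Isoc.frob p k a] N)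

/-- in an isoclinic isocrystal of slope `μ = d/h` (lowest terms) over an algebraically closed
field there is a nonzero vector with `F^h x = p^d x` -/
theorem exists_fixed_of_isoclinic (hF : Isoc.IsIsoc F) (ha : a ≠ 0) [Nontrivial N] (μ : ℚ)
    (hμ : Isoc.IsIsoclinic F μ) :
    ∃ x : N, x ≠ 0 ∧ (⇑F)^[μ.den] x = ((p : K(p, k)) ^ μ.num) • x := by
  have hfd : FiniteDimensional K(p, k) N := hF.finite
  obtain ⟨M, hM, r, s, hs, hrs, hFM⟩ := hμ
  -- r = c * num, s = c * den
  have hs0 : ((s : ℤ)) ≠ 0 := by exact_mod_cast hs.ne'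
  obtain ⟨c, hc1, hc2⟩ := Rat.exists_eq_mul_div_num_and_eq_mul_div_den r hs0
  have hrs' : ((r : ℚ) / ((s : ℤ) : ℚ)) = μ := by exact_mod_cast hrs
  rw [hrs'] at hc1 hc2
  have hcpos : 0 < c := by
    have h1 : (0 : ℤ) < c * μ.den := by rw [← hc2]; exact_mod_cast hs
    have h2 : (0 : ℤ) < μ.den := by exact_mod_cast μ.den_pos
    by_contra hneg
    push Not at hneg
    have : c * (μ.den : ℤ) ≤ 0 := mul_nonpos_of_nonpos_of_nonneg hneg h2.le
    omega
  obtain ⟨j, hj⟩ : ∃ j : ℕ, c = ((j + 1 : ℕ) : ℤ) := by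
    refine ⟨(c - 1).toNat, ?_⟩
    push_cast
    rw [Int.toNat_of_nonneg (by omega)]
    ring
  have hs' : s = μ.den * (j + 1) := by
    have : (s : ℤ) = ((μ.den * (j + 1) : ℕ) : ℤ) := by
      rw [hc2, hj]; push_cast; ring
    exact_mod_cast this
  have hr' : r = μ.num * ((j + 1 : ℕ) : ℤ) := by rw [hc1, hj]; ring
  set G := twist F μ.num μ.den with hG
  have hGM : Isoc.latImg G (j + 1) M = M := by
    rw [hG, latImg_twist', ← hs', ← hr', hFM, ← pPow_add, neg_add_cancel, pPow_zero]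
  set Λ := Ms G M j with hΛdef
  have hΛ : Λ.IsLattice K(p, k) := Ms_lattice G hM j
  have h1 : M ⊔ Isoc.latImg G 1 Λ = Λ := by
    rw [hΛdef, ← Ms_succ, Ms_succ_eq, hGM]
    exact sup_eq_left.mpr (M_le_Ms G M j)
  have h2 : M ≤ Isoc.latImg G 1 Λ := by
    calc M = Isoc.latImg G (1 + j) M := by rw [Nat.add_comm]; exact hGM.symm
      _ = Isoc.latImg G 1 (Isoc.latImg G j M) := latImg_add G 1 j M
      _ ≤ Isoc.latImg G 1 Λ := latImg_mono G 1 (latImg_le_Ms G M j)
  have hGΛ : Isoc.latImg G 1 Λ = Λ := by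
    have h3 : M ⊔ Isoc.latImg G 1 Λ = Isoc.latImg G 1 Λ := sup_eq_right.mpr h2
    rw [← h3]; exact h1
  have hah : a * (μ.den : ℤ) ≠ 0 := mul_ne_zero ha (by exact_mod_cast μ.den_pos.ne')
  have hfix := fixed_span_N G (Module.finBasis K(p, k) N) hah hΛ hGΛ
  obtain ⟨x, hx, hx0⟩ : ∃ x : N, G x = x ∧ x ≠ 0 := by
    by_contra hcon
    push Not at hcon
    have : Submodule.span K(p, k) {x : N | G x = x} ≤ ⊥ := by
      rw [Submodule.span_le]
      intro x hx
      exact hcon x hx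
    rw [hfix] at this
    exact top_ne_bot (le_bot_iff.mp this)
  refine ⟨x, hx0, ?_⟩
  rw [hG, twist_apply] at hx
  have hp : (p : K(p, k)) ≠ 0 := p_ne
  calc (⇑F)^[μ.den] x = ((p : K(p, k)) ^ μ.num) • (((p : K(p, k)) ^ (-μ.num)) • (⇑F)^[μ.den] x) := by
        rw [smul_smul, ← zpow_add₀ hp, add_neg_cancel, zpow_zero, one_smul]
    _ = ((p : K(p, k)) ^ μ.num) • x := by rw [hx]

end Fixed

section Cyc

variable [PerfectRing k p] {a : ℤ} (F : N →ₛₗ[Isoc.frob p k a] N)

/-- the cyclic map `y ↦ ∑ y_i F^i x` -/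
noncomputable def cyc (x : N) (h : ℕ) : (Fin h → K(p, k)) →ₗ[K(p, k)] N :=
  ∑ i : Fin h, (LinearMap.proj i : (Fin h → K(p, k)) →ₗ[K(p, k)] K(p, k)).smulRight
    ((⇑F)^[i.val] x)

theorem cyc_apply (x : N) (h : ℕ) (y : Fin h → K(p, k)) :
    cyc F x h y = ∑ i : Fin h, y i • (⇑F)^[i.val] x := by
  simp [cyc, LinearMap.sum_apply]

theorem cyc_single (x : N) (h : ℕ) (i : Fin h) :
    cyc F x h (Pi.single i 1) = (⇑F)^[i.val] x := by
  classical
  rw [cyc_apply, Finset.sum_eq_single i]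
  · rw [Pi.single_eq_same, one_smul]
  · intro j _ hji
    rw [Pi.single_eq_of_ne hji, zero_smul]
  · intro hi
    exact absurd (Finset.mem_univ i) hi

theorem cyc_equivariant (x : N) (d : ℤ) (n : ℕ)
    (hx : (⇑F)^[n + 1] x = ((p : K(p, k)) ^ d) • x) (y : Fin (n + 1) → K(p, k)) :
    cyc F x (n + 1) (Isoc.stdIsoc (Isoc.frob p k a) d (n + 1) y) = F (cyc F x (n + 1) y) := by
  have key : (cyc F x (n + 1)).comp (Isoc.stdIsoc (Isoc.frob p k a) d (n + 1)) =
      F.comp (cyc F x (n + 1)) := by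
    apply (Pi.basisFun K(p, k) (Fin (n + 1))).ext
    intro i
    rw [Pi.basisFun_apply, LinearMap.comp_apply, LinearMap.comp_apply, cyc_single]
    by_cases hi : i = Fin.last n
    · subst hi
      rw [std_basis_last, map_smul, cyc_single, Fin.val_last, ← Function.iterate_succ_apply' (⇑F) n x,
        hx]
      rfl
    · have hlt : i.val + 1 < n + 1 := by
        have h1 : i.val ≠ n := fun h => hi (Fin.ext h)
        have h2 := i.isLt
        omega
      obtain ⟨i, hi'⟩ := i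
      rw [std_basis_lt d n i hlt, cyc_single, Function.iterate_succ_apply']
  exact LinearMap.congr_fun key y

theorem cyc_injective (x : N) (hx0 : x ≠ 0) (d : ℤ) (n : ℕ)
    (hdh : Int.gcd d ((n + 1 : ℕ) : ℤ) = 1)
    (hx : (⇑F)^[n + 1] x = ((p : K(p, k)) ^ d) • x) :
    Function.Injective (cyc F x (n + 1)) := by
  rw [← LinearMap.ker_eq_bot]
  have hst : ∀ y ∈ LinearMap.ker (cyc F x (n + 1)),
      Isoc.stdIsoc (Isoc.frob p k a) d (n + 1) y ∈ LinearMap.ker (cyc F x (n + 1)) := by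
    intro y hy
    rw [LinearMap.mem_ker] at hy ⊢
    rw [cyc_equivariant F x d n hx, hy, map_zero]
  rcases Groth.Agent.S17153.result p k a d (n + 1) (Nat.succ_pos n) hdh _ hst with h | h
  · exact h
  · exfalso
    have h1 : (Pi.single (0 : Fin (n + 1)) (1 : K(p, k)) : Fin (n + 1) → K(p, k)) ∈
        LinearMap.ker (cyc F x (n + 1)) := by rw [h]; exact Submodule.mem_top
    rw [LinearMap.mem_ker, cyc_single] at h1
    exact hx0 h1

theorem range_le_slopePart (d : ℤ) (h : ℕ) (hh : 0 < h)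
    (f : (Fin h → K(p, k)) →ₗ[K(p, k)] N)
    (hf : ∀ y, f (Isoc.stdIsoc (Isoc.frob p k a) d h y) = F (f y)) :
    LinearMap.range f ≤ Isoc.slopePart F ((d : ℚ) / (h : ℚ)) := by
  obtain ⟨n, rfl⟩ : ∃ n, h = n + 1 := ⟨h - 1, by omega⟩
  apply le_slopePart
  · rintro _ ⟨y, rfl⟩
    exact ⟨_, hf y⟩
  · refine ⟨imgL f (stdLat n), (stdLat_lattice n).fg.map _, ?_, d, n + 1, Nat.succ_pos n, rfl, ?_⟩
    · have h1 : ((imgL f (stdLat n) : Submodule (WittVector p k) N) : Set N) =
          f '' ((stdLat n : Submodule (WittVector p k) (Fin (n + 1) → K(p, k))) : Set _) := rfl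
      rw [h1, ← Submodule.map_span, (stdLat_lattice n).span_eq_top, Submodule.map_top]
    · rw [← imgL_latImg (Isoc.stdIsoc (Isoc.frob p k a) d (n + 1)) F f hf, std_latImg, imgL_pPow]

end Cyc

section Decomp

variable [PerfectRing k p] {a : ℤ}

/-- `(V, F)` is a direct sum of standard isocrystals -/
def Dec {V : Type v} [AddCommGroup V] [Module K(p, k) V]
    (F : V →ₛₗ[Isoc.frob p k a] V) : Prop :=
  ∃ (t : ℕ) (d : Fin t → ℤ) (h : Fin t → ℕ)
    (e : V ≃ₗ[K(p, k)] ((i : Fin t) → (Fin (h i) → K(p, k)))),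
    (∀ i, 0 < h i ∧ Int.gcd (d i) (h i) = 1) ∧
    ∀ (x : V) (i : Fin t), e (F x) i = Isoc.stdIsoc (Isoc.frob p k a) (d i) (h i) (e x i)

theorem dec_step {V : Type v} [AddCommGroup V] [Module K(p, k) V]
    (F : V →ₛₗ[Isoc.frob p k a] V) (d₀ : ℤ) (h₀ : ℕ) (hh₀ : 0 < h₀) (hg : Int.gcd d₀ h₀ = 1)
    (f₀ : (Fin h₀ → K(p, k)) →ₗ[K(p, k)] V) (hinj : Function.Injective f₀)
    (hf₀ : ∀ y, f₀ (Isoc.stdIsoc (Isoc.frob p k a) d₀ h₀ y) = F (f₀ y))
    (Q : Submodule K(p, k) V) (hQ : ∀ x ∈ Q, F x ∈ Q) (hc : IsCompl (LinearMap.range f₀) Q)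
    (hdec : Dec (F.restrict hQ)) : Dec F := by
  obtain ⟨t, d, h, e'', hdh, heq⟩ := hdec
  let E₀ := LinearEquiv.ofInjective f₀ hinj
  let E : V ≃ₗ[K(p, k)] ((i : Fin (t + 1)) →
      (Fin ((Fin.cons h₀ h : Fin (t + 1) → ℕ) i) → K(p, k))) :=
    (Submodule.prodEquivOfIsCompl (LinearMap.range f₀) Q hc).symm ≪≫ₗ
      (LinearEquiv.prodCongr E₀.symm e'') ≪≫ₗ
      Fin.consLinearEquiv K(p, k)
        (fun i : Fin (t + 1) => (Fin ((Fin.cons h₀ h : Fin (t + 1) → ℕ) i) → K(p, k)))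
  have hsplit : ∀ (y : Fin h₀ → K(p, k)) (q : Q),
      (Submodule.prodEquivOfIsCompl (LinearMap.range f₀) Q hc).symm (f₀ y + (q : V)) =
        (E₀ y, q) := by
    intro y q
    rw [LinearEquiv.symm_apply_eq, Submodule.coe_prodEquivOfIsCompl']
    rfl
  have hE0 : ∀ (y : Fin h₀ → K(p, k)) (q : Q), E (f₀ y + (q : V)) 0 = y := by
    intro y q
    show (Fin.consLinearEquiv K(p, k)
      (fun i : Fin (t + 1) => (Fin ((Fin.cons h₀ h : Fin (t + 1) → ℕ) i) → K(p, k)))
      ((LinearEquiv.prodCongr E₀.symm e'')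
      ((Submodule.prodEquivOfIsCompl (LinearMap.range f₀) Q hc).symm (f₀ y + (q : V))))) 0 = y
    rw [hsplit]
    show E₀.symm (E₀ y) = y
    exact E₀.symm_apply_apply y
  have hEs : ∀ (y : Fin h₀ → K(p, k)) (q : Q) (i : Fin t),
      E (f₀ y + (q : V)) i.succ = e'' q i := by
    intro y q i
    show (Fin.consLinearEquiv K(p, k)
      (fun i : Fin (t + 1) => (Fin ((Fin.cons h₀ h : Fin (t + 1) → ℕ) i) → K(p, k)))
      ((LinearEquiv.prodCongr E₀.symm e'')
      ((Submodule.prodEquivOfIsCompl (LinearMap.range f₀) Q hc).symm (f₀ y + (q : V))))) i.succ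
        = e'' q i
    rw [hsplit]
    rfl
  refine ⟨t + 1, Fin.cons d₀ d, Fin.cons h₀ h, E, ?_, ?_⟩
  · intro i
    refine Fin.cases ?_ (fun i => ?_) i
    · exact ⟨hh₀, hg⟩
    · exact hdh i
  · intro x i
    obtain ⟨y, q, rfl⟩ : ∃ (y : Fin h₀ → K(p, k)) (q : Q), x = f₀ y + (q : V) := by
      have hx : x ∈ LinearMap.range f₀ ⊔ Q := by rw [hc.sup_eq_top]; exact Submodule.mem_top
      obtain ⟨u, ⟨y, rfl⟩, q, hq, rfl⟩ := Submodule.mem_sup.mp hx
      exact ⟨y, ⟨q, hq⟩, rfl⟩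
    have hFx : F (f₀ y + (q : V)) =
        f₀ (Isoc.stdIsoc (Isoc.frob p k a) d₀ h₀ y) + (((F.restrict hQ) q : Q) : V) := by
      rw [map_add, hf₀]
      rfl
    rw [hFx]
    refine Fin.cases ?_ (fun i => ?_) i
    · exact (hE0 _ _).trans (congrArg (Isoc.stdIsoc (Isoc.frob p k a) d₀ h₀) (hE0 y q).symm)
    · exact (hEs _ _ i).trans ((heq q i).trans
        (congrArg (Isoc.stdIsoc (Isoc.frob p k a) (d i) (h i)) (hEs y q i).symm))

end Decomp

section Exists

variable [PerfectRing k p] [IsAlgClosed k] {a : ℤ}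

theorem dec_exists (n : ℕ) : ∀ (V : Type v) [AddCommGroup V]
    [Module (WittVector p k) V] [Module K(p, k) V] [IsScalarTower (WittVector p k) K(p, k) V]
    (F : V →ₛₗ[Isoc.frob p k a] V), Isoc.IsIsoc F → a ≠ 0 → Module.finrank K(p, k) V = n →
    Dec F := by
  induction n using Nat.strong_induction_on with
  | _ n ih =>
    intro V _ _ _ _ F hF ha hn
    have hfd : FiniteDimensional K(p, k) V := hF.finite
    rcases subsingleton_or_nontrivial V with hsub | hnt
    · exact ⟨0, Fin.elim0, Fin.elim0, LinearEquiv.ofSubsingleton _ _, fun i => i.elim0,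
        fun x i => i.elim0⟩
    · have hspan := iSup_slopePart_eq_top F hF
      obtain ⟨μ, hμ⟩ : ∃ μ : ℚ, Isoc.slopePart F μ ≠ ⊥ := by
        by_contra hcon
        push Not at hcon
        have : (⨆ μ : ℚ, Isoc.slopePart F μ) = ⊥ := by
          rw [iSup_eq_bot]; exact hcon
        rw [hspan] at this
        exact top_ne_bot this
      have hAst : ∀ x ∈ Isoc.slopePart F μ, F x ∈ Isoc.slopePart F μ := (slopePart_isoIn F μ).1
      have hiso := restrict_of_isoIn F _ hAst μ (slopePart_isoIn F μ).2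
      have hFA := restrict_isIsoc F hF _ hAst
      have hntA : Nontrivial (Isoc.slopePart F μ) := Submodule.nontrivial_iff_ne_bot.mpr hμ
      obtain ⟨x', hx'0, hx'⟩ := exists_fixed_of_isoclinic (F.restrict hAst) hFA ha μ hiso
      have hx0 : (x' : V) ≠ 0 := fun h => hx'0 (Subtype.ext h)
      have hx : (⇑F)^[μ.den] (x' : V) = ((p : K(p, k)) ^ μ.num) • (x' : V) := by
        rw [← restrict_iterate F _ hAst, hx']
        rfl
      obtain ⟨m, hm⟩ : ∃ m, μ.den = m + 1 := ⟨μ.den - 1, by have := μ.den_pos; omega⟩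
      have hgcd : Int.gcd μ.num ((m + 1 : ℕ) : ℤ) = 1 := by
        rw [← hm]
        show Nat.gcd μ.num.natAbs ((μ.den : ℤ)).natAbs = 1
        rw [Int.natAbs_natCast]
        exact μ.reduced
      rw [hm] at hx
      have hinj := cyc_injective F (x' : V) hx0 μ.num m hgcd hx
      have heqv := cyc_equivariant F (x' : V) μ.num m hx
      have hPst : ∀ z ∈ LinearMap.range (cyc F (x' : V) (m + 1)),
          F z ∈ LinearMap.range (cyc F (x' : V) (m + 1)) := by
        rintro _ ⟨y, rfl⟩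
        exact ⟨_, heqv y⟩
      obtain ⟨Q, hQst, hQc⟩ := exists_compl F hF ha _ hPst
      have hrk : Module.finrank K(p, k) (LinearMap.range (cyc F (x' : V) (m + 1))) = m + 1 := by
        rw [LinearMap.finrank_range_of_inj hinj, Module.finrank_fin_fun]
      have hlt : Module.finrank K(p, k) Q < n := by
        have := Submodule.finrank_add_eq_of_isCompl hQc
        omega
      have hFQ := restrict_isIsoc F hF Q hQst
      have hdecQ := ih _ hlt Q (F.restrict hQst) hFQ ha rfl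
      exact dec_step F μ.num (m + 1) (Nat.succ_pos m) hgcd _ hinj heqv Q hQst hQc hdecQ

end Exists

section Mult

variable [PerfectRing k p] {a : ℤ} (F : N →ₛₗ[Isoc.frob p k a] N)

theorem mult_formula (hF : Isoc.IsIsoc F) {t : ℕ} (d : Fin t → ℤ) (h : Fin t → ℕ)
    (e : N ≃ₗ[K(p, k)] ((i : Fin t) → (Fin (h i) → K(p, k))))
    (hh : ∀ i, 0 < h i)
    (heq : ∀ (x : N) (i : Fin t),
      e (F x) i = Isoc.stdIsoc (Isoc.frob p k a) (d i) (h i) (e x i)) (μ : ℚ) :
    Isoc.newtonMult F μ = ∑ i : Fin t, (if ((d i : ℚ) / (h i : ℚ)) = μ then h i else 0) := by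
  classical
  have hfd : FiniteDimensional K(p, k) N := hF.finite
  set φ : Fin t → Type u := fun i => (Fin (h i) → K(p, k)) with hφ
  set f : ∀ i : Fin t, (Fin (h i) → K(p, k)) →ₗ[K(p, k)] N :=
    fun i => e.symm.toLinearMap ∘ₗ LinearMap.single K(p, k) φ i with hfdef
  have hef : ∀ i (y : Fin (h i) → K(p, k)), e (f i y) = Pi.single i y := by
    intro i y
    exact e.apply_symm_apply _
  have hf : ∀ i (y : Fin (h i) → K(p, k)),
      f i (Isoc.stdIsoc (Isoc.frob p k a) (d i) (h i) y) = F (f i y) := by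
    intro i y
    apply e.injective
    funext j
    rw [heq, hef, hef]
    by_cases hji : j = i
    · subst hji
      rw [Pi.single_eq_same, Pi.single_eq_same]
    · rw [Pi.single_eq_of_ne hji, Pi.single_eq_of_ne hji, map_zero]
  have hle : ∀ i, LinearMap.range (f i) ≤ Isoc.slopePart F ((d i : ℚ) / (h i : ℚ)) :=
    fun i => range_le_slopePart F (d i) (h i) (hh i) (f i) (hf i)
  -- the candidate slope parts
  set I : ℚ → Set (Fin t) := fun ν => {i | (d i : ℚ) / (h i : ℚ) = ν} with hI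
  set J : ℚ → Set (Fin t) := fun ν => {i | (d i : ℚ) / (h i : ℚ) ≠ ν} with hJ
  have hIJ : ∀ ν, IsCompl (I ν) (J ν) := fun ν => isCompl_compl
  set T : ℚ → Submodule K(p, k) N := fun ν =>
    (⨅ i ∈ J ν, LinearMap.ker (LinearMap.proj i : ((i : Fin t) → φ i) →ₗ[K(p, k)] φ i)).map
      e.symm.toLinearMap with hT
  have hTsup : ∀ ν, T ν = ⨆ i ∈ I ν, LinearMap.range (f i) := by
    intro ν
    rw [hT]
    simp only
    rw [← LinearMap.iSup_range_single_eq_iInf_ker_proj K(p, k) φ (hIJ ν) (Set.toFinite _),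
      Submodule.map_iSup]
    apply iSup_congr
    intro i
    rw [Submodule.map_iSup]
    apply iSup_congr
    intro _
    rw [hfdef, LinearMap.range_comp]
  have hTle : T ≤ fun ν => Isoc.slopePart F ν := by
    intro ν
    rw [hTsup]
    apply iSup₂_le
    intro i hi
    have := hle i
    rwa [show (d i : ℚ) / (h i : ℚ) = ν from hi] at this
  have hTtop : iSup T = ⊤ := by
    rw [eq_top_iff]
    calc (⊤ : Submodule K(p, k) N) = (⊤ : Submodule K(p, k) ((i : Fin t) → φ i)).map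
          e.symm.toLinearMap := by
          rw [Submodule.map_top, LinearMap.range_eq_top.mpr e.symm.surjective]
      _ = ⨆ i, LinearMap.range (f i) := by
          rw [← LinearMap.iSup_range_single K(p, k) φ, Submodule.map_iSup]
          apply iSup_congr
          intro i
          rw [hfdef, LinearMap.range_comp]
      _ ≤ iSup T := by
          apply iSup_le
          intro i
          refine le_trans ?_ (le_iSup T ((d i : ℚ) / (h i : ℚ)))
          rw [hTsup]
          exact le_iSup₂ (f := fun j (_ : j ∈ I ((d i : ℚ) / (h i : ℚ))) => LinearMap.range (f j))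
            i rfl
  have hTeq : T = fun ν => Isoc.slopePart F ν :=
    ((iSupIndep_slopePart F hF).le_iff_eq_of_iSup_eq_top hTtop).mp hTle
  have hTμ : Isoc.slopePart F μ = T μ := (congrFun hTeq μ).symm
  rw [Isoc.newtonMult, hTμ, hT]
  simp only
  rw [LinearEquiv.finrank_map_eq,
    LinearEquiv.finrank_eq (LinearMap.iInfKerProjEquiv K(p, k) φ (hIJ μ).disjoint
      (hIJ μ).codisjoint.top_le),
    Module.finrank_pi_fintype]
  show ∑ i : I μ, Module.finrank K(p, k) (Fin (h i) → K(p, k)) = _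
  simp only [Module.finrank_fin_fun]
  rw [← Finset.sum_filter]
  exact (Finset.sum_subtype (Finset.univ.filter fun i => (d i : ℚ) / (h i : ℚ) = μ)
    (fun i => by simp [hI]) (fun i => h i)).symm

end Mult

end H8Isoc
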