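import Mathlib
import Groth.Prelude.Def_W4c4lgringredgrpLG

set_option autoImplicit false
universe u v w

open scoped TensorProduct

namespace H8LG

open LGRing MvPolynomial

/-- LG property for arbitrary finite index types. -/
theorem lg_fintype {R : Type u} [CommRing R] (hR : IsLGRing R) {σ : Type} [Fintype σ]
    (f : MvPolynomial σ R)
    (h : ∀ (m : Ideal R) [m.IsMaximal], ∃ s : σ → R ⧸ m, IsUnit (MvPolynomial.aeval s f)) :
    ∃ s : σ → R, IsUnit (MvPolynomial.aeval s f) := by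
  classical
  let e := Fintype.equivFin σ
  have h1 : ∀ (m : Ideal R) [m.IsMaximal], RepresentsUnit (rename e f) (R ⧸ m) := by
    intro m hm
    obtain ⟨s, hs⟩ := h m
    refine ⟨s ∘ e.symm, ?_⟩
    rw [aeval_rename]
    have : (s ∘ e.symm) ∘ e = s := by ext x; simp
    rw [this]; exact hs
  obtain ⟨t, ht⟩ := hR _ (rename e f) h1
  refine ⟨t ∘ e, ?_⟩
  rw [aeval_rename] at ht
  exact ht

theorem finrank_range_map {R : Type u} [CommRing R] (k : Type w) [Field k] [Algebra R k]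
    (M : Type v) [AddCommGroup M] [Module R M] {a : ℕ}
    (p : (Fin a → R) →ₗ[R] M) (i : M →ₗ[R] (Fin a → R)) (hpi : p ∘ₗ i = LinearMap.id) :
    Module.finrank k (LinearMap.range
      (Matrix.toLin' ((LinearMap.toMatrix' (i ∘ₗ p)).map (algebraMap R k)))) =
      Module.finrank k (k ⊗[R] M) := by
  classical
  let T := TensorProduct.piScalarRight R k k (Fin a)
  let α : k ⊗[R] M →ₗ[k] (Fin a → k) := T.toLinearMap ∘ₗ (i.baseChange k)
  let β : (Fin a → k) →ₗ[k] k ⊗[R] M := (p.baseChange k) ∘ₗ T.symm.toLinearMap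
  have hβα : β ∘ₗ α = LinearMap.id := by
    ext x
    simp only [α, β, LinearMap.comp_apply, LinearEquiv.coe_coe, LinearEquiv.symm_apply_apply,
      TensorProduct.AlgebraTensorModule.curry_apply, TensorProduct.curry_apply,
      LinearMap.coe_restrictScalars, LinearMap.baseChange_tmul, LinearMap.id_apply]
    have := congrArg (fun f => f x) hpi
    simp only [LinearMap.comp_apply, LinearMap.id_apply] at this
    rw [this]
  have hαβ : α ∘ₗ β = Matrix.toLin' ((LinearMap.toMatrix' (i ∘ₗ p)).map (algebraMap R k)) := by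
    apply LinearMap.pi_ext'
    intro j
    ext l
    simp only [α, β, LinearMap.comp_apply, LinearEquiv.coe_coe, LinearMap.coe_single,
      TensorProduct.piScalarRight_symm_single, LinearMap.baseChange_tmul,
      TensorProduct.piScalarRight_apply, TensorProduct.piScalarRightHom_tmul, T,
      Matrix.toLin'_apply, Matrix.mulVec_single_one, Matrix.col_apply, Matrix.map_apply,
      LinearMap.toMatrix'_apply, Algebra.smul_def, mul_one]
  have hαinj : Function.Injective α := by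
    intro x y hxy
    have := congrArg β hxy
    have h1 := congrArg (fun f => f x) hβα
    have h2 := congrArg (fun f => f y) hβα
    simp only [LinearMap.comp_apply, LinearMap.id_apply] at h1 h2
    rw [h1, h2] at this
    exact this
  have hβsurj : Function.Surjective β := by
    intro x
    refine ⟨α x, ?_⟩
    have h1 := congrArg (fun f => f x) hβα
    simpa using h1
  have hrange : LinearMap.range α = LinearMap.range
      (Matrix.toLin' ((LinearMap.toMatrix' (i ∘ₗ p)).map (algebraMap R k))) := by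
    rw [← hαβ, LinearMap.range_comp_of_range_eq_top _ (LinearMap.range_eq_top.mpr hβsurj)]
  rw [← hrange]
  exact (LinearEquiv.ofInjective α hαinj).finrank_eq.symm

abbrev Idx (a b : ℕ) : Type := (Fin b × Fin a) ⊕ (Fin a × Fin b)

noncomputable def genX (a b : ℕ) (R : Type u) [CommRing R] :
    Matrix (Fin b) (Fin a) (MvPolynomial (Idx a b) R) := fun j k => X (Sum.inl (j, k))

noncomputable def genY (a b : ℕ) (R : Type u) [CommRing R] :
    Matrix (Fin a) (Fin b) (MvPolynomial (Idx a b) R) := fun k j => X (Sum.inr (k, j))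

/-- the polynomial -/
noncomputable def polyF {R : Type u} [CommRing R] {a b : ℕ}
    (e₁ : Matrix (Fin a) (Fin a) R) (e₂ : Matrix (Fin b) (Fin b) R) : MvPolynomial (Idx a b) R :=
  let c₁ : Matrix (Fin a) (Fin a) (MvPolynomial (Idx a b) R) := e₁.map C
  let c₂ : Matrix (Fin b) (Fin b) (MvPolynomial (Idx a b) R) := e₂.map C
  (c₁ * genY a b R * c₂ * genX a b R * c₁ + 1 - c₁).det *
  (c₂ * genX a b R * c₁ * genY a b R * c₂ + 1 - c₂).det

theorem aeval_polyF {R : Type u} [CommRing R] {a b : ℕ}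
    (e₁ : Matrix (Fin a) (Fin a) R) (e₂ : Matrix (Fin b) (Fin b) R)
    (S : Type w) [CommRing S] [Algebra R S] (s : Idx a b → S) :
    aeval s (polyF e₁ e₂) =
      (e₁.map (algebraMap R S) * (Matrix.of fun k j => s (Sum.inr (k, j))) * e₂.map (algebraMap R S) *
        (Matrix.of fun j k => s (Sum.inl (j, k))) * e₁.map (algebraMap R S) + 1 -
          e₁.map (algebraMap R S)).det *
      (e₂.map (algebraMap R S) * (Matrix.of fun j k => s (Sum.inl (j, k))) * e₁.map (algebraMap R S) *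
        (Matrix.of fun k j => s (Sum.inr (k, j))) * e₂.map (algebraMap R S) + 1 -
          e₂.map (algebraMap R S)).det := by
  set φ : MvPolynomial (Idx a b) R →+* S := (aeval s : MvPolynomial (Idx a b) R →ₐ[R] S).toRingHom
    with hφ
  have hX : (genX a b R).map φ = Matrix.of fun j k => s (Sum.inl (j, k)) := by
    ext j k; simp [genX, hφ]
  have hY : (genY a b R).map φ = Matrix.of fun k j => s (Sum.inr (k, j)) := by
    ext j k; simp [genY, hφ]
  have h1 : (e₁.map (C : R →+* MvPolynomial (Idx a b) R)).map φ = e₁.map (algebraMap R S) := by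
    ext j k; simp [hφ]
  have h2 : (e₂.map (C : R →+* MvPolynomial (Idx a b) R)).map φ = e₂.map (algebraMap R S) := by
    ext j k; simp [hφ]
  change φ (polyF e₁ e₂) = _
  rw [polyF, map_mul, RingHom.map_det, RingHom.map_det, RingHom.mapMatrix_apply,
    RingHom.mapMatrix_apply]
  rw [Matrix.map_sub _ (map_sub φ), Matrix.map_add _ (map_add φ), Matrix.map_sub _ (map_sub φ),
    Matrix.map_add _ (map_add φ)]
  simp only [Matrix.map_mul, Matrix.map_one φ (map_zero φ) (map_one φ), hX, hY, h1, h2]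

theorem residue_piece {k : Type w} [Field k] {a b : ℕ}
    (e₁ : Matrix (Fin a) (Fin a) k) (e₂ : Matrix (Fin b) (Fin b) k)
    (h₁ : e₁ * e₁ = e₁) (h₂ : e₂ * e₂ = e₂)
    (hr : Module.finrank k (LinearMap.range (Matrix.toLin' e₁)) =
      Module.finrank k (LinearMap.range (Matrix.toLin' e₂))) :
    ∃ (X : Matrix (Fin b) (Fin a) k) (Y : Matrix (Fin a) (Fin b) k),
      e₁ * Y * e₂ * X * e₁ = e₁ ∧ e₂ * X * e₁ * Y * e₂ = e₂ := by
  classical
  set V₁ := LinearMap.range (Matrix.toLin' e₁) with hV₁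
  set V₂ := LinearMap.range (Matrix.toLin' e₂) with hV₂
  let θ : V₁ ≃ₗ[k] V₂ := LinearEquiv.ofFinrankEq _ _ hr
  let fX : (Fin a → k) →ₗ[k] (Fin b → k) :=
    V₂.subtype ∘ₗ θ.toLinearMap ∘ₗ (Matrix.toLin' e₁).rangeRestrict
  let fY : (Fin b → k) →ₗ[k] (Fin a → k) :=
    V₁.subtype ∘ₗ θ.symm.toLinearMap ∘ₗ (Matrix.toLin' e₂).rangeRestrict
  have hfix₁ : ∀ v ∈ V₁, Matrix.toLin' e₁ v = v := by
    rintro _ ⟨u, rfl⟩
    rw [← LinearMap.comp_apply, ← Matrix.toLin'_mul, h₁]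
  have hfix₂ : ∀ v ∈ V₂, Matrix.toLin' e₂ v = v := by
    rintro _ ⟨u, rfl⟩
    rw [← LinearMap.comp_apply, ← Matrix.toLin'_mul, h₂]
  refine ⟨LinearMap.toMatrix' fX, LinearMap.toMatrix' fY, ?_, ?_⟩
  · apply Matrix.toLin'.injective
    simp only [Matrix.toLin'_mul, Matrix.toLin'_toMatrix']
    refine LinearMap.ext fun v => ?_
    simp only [LinearMap.comp_apply, fX, fY, Submodule.subtype_apply, LinearEquiv.coe_coe]
    set w := (Matrix.toLin' e₁).rangeRestrict (Matrix.toLin' e₁ v) with hw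
    have hwv : (w : Fin a → k) = Matrix.toLin' e₁ v := hfix₁ _ ⟨v, rfl⟩
    have h3 : Matrix.toLin' e₂ (θ w : Fin b → k) = (θ w : Fin b → k) :=
      hfix₂ _ (Subtype.property _)
    have h4 : (Matrix.toLin' e₂).rangeRestrict (θ w : Fin b → k) = θ w := Subtype.ext h3
    rw [h3, h4, LinearEquiv.symm_apply_apply, hwv]
    exact hfix₁ _ ⟨v, rfl⟩
  · apply Matrix.toLin'.injective
    simp only [Matrix.toLin'_mul, Matrix.toLin'_toMatrix']
    refine LinearMap.ext fun v => ?_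
    simp only [LinearMap.comp_apply, fX, fY, Submodule.subtype_apply, LinearEquiv.coe_coe]
    set w := (Matrix.toLin' e₂).rangeRestrict (Matrix.toLin' e₂ v) with hw
    have hwv : (w : Fin b → k) = Matrix.toLin' e₂ v := hfix₂ _ ⟨v, rfl⟩
    have h3 : Matrix.toLin' e₁ (θ.symm w : Fin a → k) = (θ.symm w : Fin a → k) :=
      hfix₁ _ (Subtype.property _)
    have h4 : (Matrix.toLin' e₁).rangeRestrict (θ.symm w : Fin a → k) = θ.symm w := Subtype.ext h3
    rw [h3, h4, LinearEquiv.apply_symm_apply, hwv]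
    exact hfix₂ _ ⟨v, rfl⟩

theorem bij_of_isUnit_det {R : Type u} [CommRing R] {n : ℕ} (A : Matrix (Fin n) (Fin n) R)
    (h : IsUnit A.det) : Function.Bijective (Matrix.toLin' A) := by
  have hA : IsUnit A := (Matrix.isUnit_iff_isUnit_det A).mpr h
  obtain ⟨⟨A', B, hAB, hBA⟩, rfl⟩ := hA
  constructor
  · intro v w hvw
    have := congrArg (Matrix.toLin' B) hvw
    simp only [← LinearMap.comp_apply, ← Matrix.toLin'_mul, hBA, Matrix.toLin'_one,
      LinearMap.id_apply] at this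
    exact this
  · intro v
    refine ⟨Matrix.toLin' B v, ?_⟩
    simp only [← LinearMap.comp_apply, ← Matrix.toLin'_mul, hAB, Matrix.toLin'_one,
      LinearMap.id_apply]

theorem half {R : Type u} [CommRing R] {M₁ : Type v} {M₂ : Type w} [AddCommGroup M₁] [Module R M₁]
    [AddCommGroup M₂] [Module R M₂] {a b : ℕ}
    (p₁ : (Fin a → R) →ₗ[R] M₁) (i₁ : M₁ →ₗ[R] (Fin a → R)) (hpi₁ : p₁ ∘ₗ i₁ = LinearMap.id)
    (p₂ : (Fin b → R) →ₗ[R] M₂) (i₂ : M₂ →ₗ[R] (Fin b → R))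
    (X : Matrix (Fin b) (Fin a) R) (Y : Matrix (Fin a) (Fin b) R)
    (h1 : IsUnit (LinearMap.toMatrix' (i₁ ∘ₗ p₁) * Y * LinearMap.toMatrix' (i₂ ∘ₗ p₂) * X *
      LinearMap.toMatrix' (i₁ ∘ₗ p₁) + 1 - LinearMap.toMatrix' (i₁ ∘ₗ p₁)).det) :
    Function.Bijective ((p₁ ∘ₗ Matrix.toLin' Y ∘ₗ i₂) ∘ₗ (p₂ ∘ₗ Matrix.toLin' X ∘ₗ i₁)) := by
  have hb := bij_of_isUnit_det _ h1
  have hE : Matrix.toLin' (LinearMap.toMatrix' (i₁ ∘ₗ p₁) * Y * LinearMap.toMatrix' (i₂ ∘ₗ p₂) * X *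
      LinearMap.toMatrix' (i₁ ∘ₗ p₁) + 1 - LinearMap.toMatrix' (i₁ ∘ₗ p₁)) =
      i₁ ∘ₗ ((p₁ ∘ₗ Matrix.toLin' Y ∘ₗ i₂) ∘ₗ (p₂ ∘ₗ Matrix.toLin' X ∘ₗ i₁)) ∘ₗ p₁ +
        (LinearMap.id - i₁ ∘ₗ p₁) := by
    rw [map_sub, map_add]
    simp only [Matrix.toLin'_mul, Matrix.toLin'_toMatrix', Matrix.toLin'_one]
    refine LinearMap.ext fun v => ?_
    simp only [LinearMap.add_apply, LinearMap.comp_apply, LinearMap.sub_apply, LinearMap.id_apply]
    abel
  rw [hE] at hb
  have hpi : ∀ m, p₁ (i₁ m) = m := fun m => by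
    have := congrArg (fun f => f m) hpi₁
    simpa using this
  constructor
  · intro m m' hmm
    have h0 : ((p₁ ∘ₗ Matrix.toLin' Y ∘ₗ i₂) ∘ₗ (p₂ ∘ₗ Matrix.toLin' X ∘ₗ i₁)) (m - m') = 0 := by
      rw [map_sub, hmm, sub_self]
    have h2 : (i₁ ∘ₗ ((p₁ ∘ₗ Matrix.toLin' Y ∘ₗ i₂) ∘ₗ (p₂ ∘ₗ Matrix.toLin' X ∘ₗ i₁)) ∘ₗ p₁ +
        (LinearMap.id - i₁ ∘ₗ p₁) : (Fin a → R) →ₗ[R] (Fin a → R)) (i₁ (m - m')) = 0 := by
      simp only [LinearMap.add_apply, LinearMap.comp_apply, LinearMap.sub_apply,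
        LinearMap.id_apply, hpi]
      simp only [LinearMap.comp_apply] at h0
      rw [h0, map_zero, sub_self, add_zero]
    have h3 : i₁ (m - m') = 0 := hb.1 (h2.trans (map_zero _).symm)
    have h4 : m - m' = 0 := by rw [← hpi (m - m'), h3, map_zero]
    exact sub_eq_zero.mp h4
  · intro m
    obtain ⟨v, hv⟩ := hb.2 (i₁ m)
    refine ⟨p₁ v, ?_⟩
    have := congrArg p₁ hv
    simp only [LinearMap.add_apply, LinearMap.comp_apply, LinearMap.sub_apply,
      LinearMap.id_apply, hpi, map_add, map_sub] at this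
    simp only [LinearMap.comp_apply]
    rw [sub_self, add_zero] at this
    exact this

theorem rank_residue {R : Type u} [CommRing R] (m : Ideal R) [hm : m.IsMaximal]
    (M : Type v) [AddCommGroup M] [Module R M] [Module.Finite R M] [Module.Projective R M] :
    letI := Ideal.Quotient.field m
    Module.finrank (R ⧸ m) ((R ⧸ m) ⊗[R] M) = Module.rankAtStalk M ⟨m, hm.isPrime⟩ := by
  letI := Ideal.Quotient.field m
  have h1 := Module.rankAtStalk_baseChange (R := R) (M := M) (S := R ⧸ m)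
    (p := ⟨⊥, Ideal.isPrime_bot⟩)
  have h2 : (⟨⊥, Ideal.isPrime_bot⟩ : PrimeSpectrum (R ⧸ m)).comap (algebraMap R (R ⧸ m)) =
      ⟨m, hm.isPrime⟩ := by
    apply PrimeSpectrum.ext
    change Ideal.comap (algebraMap R (R ⧸ m)) ⊥ = m
    rw [← RingHom.ker_eq_comap_bot]
    exact Ideal.mk_ker
  rw [h2] at h1
  rw [← h1, Module.rankAtStalk_eq_finrank_of_free]
  rfl

theorem idem_of_split {R : Type u} [CommRing R] {M : Type v} [AddCommGroup M] [Module R M] {a : ℕ}
    (p : (Fin a → R) →ₗ[R] M) (i : M →ₗ[R] (Fin a → R)) (hpi : p ∘ₗ i = LinearMap.id) :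
    LinearMap.toMatrix' (i ∘ₗ p) * LinearMap.toMatrix' (i ∘ₗ p) = LinearMap.toMatrix' (i ∘ₗ p) := by
  rw [← LinearMap.toMatrix'_comp]
  congr 1
  rw [LinearMap.comp_assoc, ← LinearMap.comp_assoc p, hpi, LinearMap.id_comp]

/-- Over an LG ring, finite projective modules with the same rank function are isomorphic. -/
theorem iso_of_rank_eq {R : Type u} [CommRing R] (hR : IsLGRing R)
    (M₁ : Type v) (M₂ : Type w) [AddCommGroup M₁] [Module R M₁] [Module.Finite R M₁]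
    [Module.Projective R M₁]
    [AddCommGroup M₂] [Module R M₂] [Module.Finite R M₂] [Module.Projective R M₂]
    (h : Module.rankAtStalk (R := R) M₁ = Module.rankAtStalk M₂) :
    Nonempty (M₁ ≃ₗ[R] M₂) := by
  classical
  obtain ⟨a, p₁, i₁, -, -, hpi₁⟩ := Module.Finite.exists_comp_eq_id_of_projective R M₁
  obtain ⟨b, p₂, i₂, -, -, hpi₂⟩ := Module.Finite.exists_comp_eq_id_of_projective R M₂
  have hid₁ := idem_of_split p₁ i₁ hpi₁
  have hid₂ := idem_of_split p₂ i₂ hpi₂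
  obtain ⟨s, hs⟩ := lg_fintype hR
    (polyF (LinearMap.toMatrix' (i₁ ∘ₗ p₁)) (LinearMap.toMatrix' (i₂ ∘ₗ p₂))) (by
    intro m hm
    letI := Ideal.Quotient.field m
    have hr : Module.finrank (R ⧸ m) (LinearMap.range (Matrix.toLin'
        ((LinearMap.toMatrix' (i₁ ∘ₗ p₁)).map (algebraMap R (R ⧸ m))))) =
        Module.finrank (R ⧸ m) (LinearMap.range (Matrix.toLin'
        ((LinearMap.toMatrix' (i₂ ∘ₗ p₂)).map (algebraMap R (R ⧸ m))))) := by
      rw [finrank_range_map (R ⧸ m) M₁ p₁ i₁ hpi₁, finrank_range_map (R ⧸ m) M₂ p₂ i₂ hpi₂,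
        rank_residue m M₁, rank_residue m M₂, h]
    have hm₁ : (LinearMap.toMatrix' (i₁ ∘ₗ p₁)).map (algebraMap R (R ⧸ m)) *
        (LinearMap.toMatrix' (i₁ ∘ₗ p₁)).map (algebraMap R (R ⧸ m)) =
        (LinearMap.toMatrix' (i₁ ∘ₗ p₁)).map (algebraMap R (R ⧸ m)) := by
      rw [← Matrix.map_mul, hid₁]
    have hm₂ : (LinearMap.toMatrix' (i₂ ∘ₗ p₂)).map (algebraMap R (R ⧸ m)) *
        (LinearMap.toMatrix' (i₂ ∘ₗ p₂)).map (algebraMap R (R ⧸ m)) =
        (LinearMap.toMatrix' (i₂ ∘ₗ p₂)).map (algebraMap R (R ⧸ m)) := by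
      rw [← Matrix.map_mul, hid₂]
    obtain ⟨X, Y, h1, h2⟩ := residue_piece _ _ hm₁ hm₂ hr
    refine ⟨Sum.elim (fun jk => X jk.1 jk.2) (fun kj => Y kj.1 kj.2), ?_⟩
    rw [aeval_polyF]
    have hX : (Matrix.of fun j k => (Sum.elim (fun jk : Fin b × Fin a => X jk.1 jk.2)
        (fun kj : Fin a × Fin b => Y kj.1 kj.2)) (Sum.inl (j, k))) = X := by
      ext j k; rfl
    have hY : (Matrix.of fun k j => (Sum.elim (fun jk : Fin b × Fin a => X jk.1 jk.2)
        (fun kj : Fin a × Fin b => Y kj.1 kj.2)) (Sum.inr (k, j))) = Y := by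
      ext j k; rfl
    rw [hX, hY, h1, h2]
    simp)
  rw [aeval_polyF] at hs
  have hmap₁ : (LinearMap.toMatrix' (i₁ ∘ₗ p₁)).map (algebraMap R R) =
      LinearMap.toMatrix' (i₁ ∘ₗ p₁) := by ext j k; simp
  have hmap₂ : (LinearMap.toMatrix' (i₂ ∘ₗ p₂)).map (algebraMap R R) =
      LinearMap.toMatrix' (i₂ ∘ₗ p₂) := by ext j k; simp
  rw [hmap₁, hmap₂] at hs
  obtain ⟨hs1, hs2⟩ := IsUnit.mul_iff.mp hs
  have hb1 := half p₁ i₁ hpi₁ p₂ i₂ _ _ hs1
  have hb2 := half p₂ i₂ hpi₂ p₁ i₁ _ _ hs2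
  set φ : M₁ →ₗ[R] M₂ := p₂ ∘ₗ Matrix.toLin' (Matrix.of fun j k => s (Sum.inl (j, k))) ∘ₗ i₁
  set ψ : M₂ →ₗ[R] M₁ := p₁ ∘ₗ Matrix.toLin' (Matrix.of fun k j => s (Sum.inr (k, j))) ∘ₗ i₂
  have hinj : Function.Injective φ := by
    intro x y hxy
    apply hb1.1
    simp only [LinearMap.comp_apply] at hxy ⊢
    rw [hxy]
  have hsurj : Function.Surjective φ := by
    intro y
    obtain ⟨z, hz⟩ := hb2.2 y
    exact ⟨ψ z, hz⟩
  exact ⟨LinearEquiv.ofBijective φ ⟨hinj, hsurj⟩⟩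

end H8LG
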