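import Mathlib
import Groth.Agent.H8Dec

set_option autoImplicit false
set_option linter.unusedSectionVars false

namespace H8Lift

theorem exists_seq {α : Type*} (P : ℕ → α → Prop) (Q : ℕ → α → α → Prop) (a0 : α) (h0 : P 0 a0)
    (hstep : ∀ j a, P j a → ∃ a', P (j + 1) a' ∧ Q j a a') :
    ∃ f : ℕ → α, f 0 = a0 ∧ (∀ j, P j (f j)) ∧ ∀ j, Q j (f j) (f (j + 1)) := by
  classical
  let g : (j : ℕ) → {a : α // P j a} := fun j =>
    Nat.rec (motive := fun j => {a : α // P j a}) ⟨a0, h0⟩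
      (fun j prev => ⟨Classical.choose (hstep j prev.1 prev.2),
        (Classical.choose_spec (hstep j prev.1 prev.2)).1⟩) j
  refine ⟨fun j => (g j).1, rfl, fun j => (g j).2, fun j => ?_⟩
  exact (Classical.choose_spec (hstep j (g j).1 (g j).2)).2

/-- finite products of an adically complete ring are adically complete -/
theorem isAdicComplete_pi {A : Type*} [CommRing A] (I : Ideal A) [IsAdicComplete I A] (d : ℕ) :
    IsAdicComplete I (Fin d → A) := by
  have hH : IsHausdorff I (Fin d → A) := by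
    constructor
    intro x hx
    funext i
    apply IsHausdorff.haus' (I := I) (M := A)
    intro n
    have h1 := hx n
    rw [SModEq.zero] at h1 ⊢
    have h2 := (H8Dec.pi_mem_pow_smul_top_iff I d n x).mp h1 i
    rw [smul_eq_mul, Ideal.mul_top]
    exact h2
  have hP : IsPrecomplete I (Fin d → A) := by
    constructor
    intro f hf
    have hcomp : ∀ i : Fin d, ∃ L : A, ∀ n, f n i ≡ L [SMOD (I ^ n • ⊤ : Submodule A A)] := by
      intro i
      apply IsPrecomplete.prec' (I := I) (M := A) (fun n => f n i)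
      intro a b hab
      have h1 := hf hab
      rw [SModEq.sub_mem] at h1 ⊢
      have h2 := (H8Dec.pi_mem_pow_smul_top_iff I d a _).mp h1 i
      rw [smul_eq_mul, Ideal.mul_top]
      exact h2
    choose L hL using hcomp
    refine ⟨L, fun n => ?_⟩
    rw [SModEq.sub_mem]
    apply (H8Dec.pi_mem_pow_smul_top_iff I d n _).mpr
    intro i
    have h1 := hL i n
    rw [SModEq.sub_mem, smul_eq_mul, Ideal.mul_top] at h1
    exact h1
  exact { toIsHausdorff := hH, toIsPrecomplete := hP }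

section Lift

variable {R : Type*} [CommRing R] (π : R) (σ : R →+* R) (hσπ : σ π = π)
  {M : Type*} [AddCommGroup M] [Module R M]

theorem mem_pow_smul_top_iff (j : ℕ) (x : M) :
    x ∈ ((Ideal.span {π}) ^ j • ⊤ : Submodule R M) ↔ ∃ y : M, π ^ j • y = x := by
  rw [Ideal.span_singleton_pow, Submodule.ideal_span_singleton_smul,
    Submodule.mem_smul_pointwise_iff_exists]
  simp

include hσπ

theorem lift_fixed [IsAdicComplete (Ideal.span {π}) M] (T : M →ₛₗ[σ] M)
    (hS : ∀ d : M, ∃ x y : M, d = (x - T x) + π • y) (m d0 : M) (h : T m - m = π • d0) :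
    ∃ m' z : M, T m' = m' ∧ m' - m = π • z := by
  have hTπ : ∀ (j : ℕ) (x : M), T (π ^ j • x) = π ^ j • T x := by
    intro j x
    rw [map_smulₛₗ, map_pow, hσπ]
  obtain ⟨f, hf0, hfP, hfQ⟩ := exists_seq
    (fun j (a : M × M) => T a.1 - a.1 = π ^ (j + 1) • a.2)
    (fun j (a a' : M × M) => ∃ x : M, a'.1 = a.1 + π ^ (j + 1) • x)
    (m, d0) (by simpa using h) (by
      intro j a ha
      obtain ⟨x, y, hxy⟩ := hS a.2
      refine ⟨(a.1 + π ^ (j + 1) • x, y), ?_, x, rfl⟩
      show T (a.1 + π ^ (j + 1) • x) - (a.1 + π ^ (j + 1) • x) = π ^ (j + 1 + 1) • y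
      rw [map_add, hTπ]
      have h1 : T a.1 + π ^ (j + 1) • T x - (a.1 + π ^ (j + 1) • x) =
          (T a.1 - a.1) - π ^ (j + 1) • (x - T x) := by
        rw [smul_sub]; abel
      rw [h1, ha, hxy, smul_add, add_sub_cancel_left, smul_smul, ← pow_succ])
  have hcauchy : ∀ n, (f n).1 ≡ (f (n + 1)).1 [SMOD ((Ideal.span {π}) ^ n • ⊤ : Submodule R M)] := by
    intro n
    obtain ⟨x, hx⟩ := hfQ n
    rw [SModEq.sub_mem, hx, mem_pow_smul_top_iff]
    refine ⟨-(π • x), ?_⟩
    rw [smul_neg, smul_smul, ← pow_succ]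
    abel
  obtain ⟨L, hL⟩ := IsPrecomplete.prec' (I := Ideal.span {π}) (fun n => (f n).1)
    ((AdicCompletion.isAdicCauchy_iff (Ideal.span {π}) M _).mpr hcauchy)
  have hLz : ∀ n, ∃ z : M, L = (f n).1 + π ^ n • z := by
    intro n
    have h1 := hL n
    rw [SModEq.sub_mem, mem_pow_smul_top_iff] at h1
    obtain ⟨y, hy⟩ := h1
    refine ⟨-y, ?_⟩
    rw [smul_neg, hy]
    abel
  refine ⟨L, ?_⟩
  have hfix : T L = L := by
    rw [← sub_eq_zero]
    apply IsHausdorff.haus' (I := Ideal.span {π}) (M := M)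
    intro n
    rw [SModEq.zero, mem_pow_smul_top_iff]
    obtain ⟨z, hz⟩ := hLz n
    refine ⟨π • (f n).2 + (T z - z), ?_⟩
    have h2 : T (f n).1 - (f n).1 = π ^ (n + 1) • (f n).2 := hfP n
    rw [hz, map_add, hTπ]
    have h3 : T (f n).1 + π ^ n • T z - ((f n).1 + π ^ n • z) =
        (T (f n).1 - (f n).1) + π ^ n • (T z - z) := by
      rw [smul_sub]; abel
    rw [h3, h2, smul_add, smul_smul, ← pow_succ]
  obtain ⟨z1, hz1⟩ := hLz 1
  obtain ⟨x0, hx0⟩ := hfQ 0
  refine ⟨z1 + x0, hfix, ?_⟩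
  rw [hz1, hx0, hf0]
  simp only [zero_add, pow_one]
  rw [smul_add]
  abel

end Lift

end H8Lift
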