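import Mathlib

set_option autoImplicit false
set_option linter.unusedSectionVars false

namespace H8Sig

section Basics

variable {k : Type*} [Field k] {σ : k →+* k} {V : Type*} [AddCommGroup V] [Module k V]

theorem iter_succ' (T : V →ₛₗ[σ] V) (n : ℕ) (x : V) : (⇑T)^[n + 1] x = T ((⇑T)^[n] x) :=
  Function.iterate_succ_apply' _ _ _

theorem iter_add (T : V →ₛₗ[σ] V) (n : ℕ) (x y : V) :
    (⇑T)^[n] (x + y) = (⇑T)^[n] x + (⇑T)^[n] y := by
  induction n with
  | zero => rfl
  | succ n ih => rw [iter_succ', iter_succ', iter_succ', ih, map_add]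

theorem iter_zero (T : V →ₛₗ[σ] V) (n : ℕ) : (⇑T)^[n] (0 : V) = 0 := by
  induction n with
  | zero => rfl
  | succ n ih => rw [iter_succ', ih, map_zero]

theorem iter_neg (T : V →ₛₗ[σ] V) (n : ℕ) (x : V) : (⇑T)^[n] (-x) = -(⇑T)^[n] x := by
  induction n with
  | zero => rfl
  | succ n ih => rw [iter_succ', iter_succ', ih, map_neg]

theorem iter_sub (T : V →ₛₗ[σ] V) (n : ℕ) (x y : V) :
    (⇑T)^[n] (x - y) = (⇑T)^[n] x - (⇑T)^[n] y := by
  rw [sub_eq_add_neg, iter_add, iter_neg, ← sub_eq_add_neg]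

theorem iter_smul (T : V →ₛₗ[σ] V) (n : ℕ) (c : k) (x : V) :
    (⇑T)^[n] (c • x) = ((⇑σ)^[n] c) • (⇑T)^[n] x := by
  induction n with
  | zero => rfl
  | succ n ih =>
    rw [iter_succ', iter_succ', Function.iterate_succ_apply', ih, map_smulₛₗ]

theorem iter_add_apply (T : V →ₛₗ[σ] V) (m n : ℕ) (x : V) :
    (⇑T)^[m + n] x = (⇑T)^[m] ((⇑T)^[n] x) := Function.iterate_add_apply _ _ _ _

theorem sigma_iter_inj (n : ℕ) : Function.Injective ((⇑σ)^[n]) :=
  Function.Injective.iterate (RingHom.injective σ) n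

theorem sigma_iter_zero (n : ℕ) : (⇑σ)^[n] (0 : k) = 0 := by
  induction n with
  | zero => rfl
  | succ n ih => rw [Function.iterate_succ_apply', ih, map_zero]

/-- the spans of initial segments of a sequence -/
def Uspan (e : ℕ → V) (d : ℕ) : Submodule k V :=
  Submodule.span k (Set.range fun i : Fin d => e i)

theorem mem_Uspan (e : ℕ → V) (d : ℕ) (x : V) :
    x ∈ Uspan (k := k) e d ↔ ∃ c : ℕ → k, x = ∑ i ∈ Finset.range d, c i • e i := by
  rw [Uspan, Submodule.mem_span_range_iff_exists_fun]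
  constructor
  · rintro ⟨c', rfl⟩
    refine ⟨fun i => if h : i < d then c' ⟨i, h⟩ else 0, ?_⟩
    rw [← Fin.sum_univ_eq_sum_range (fun i => (if h : i < d then c' ⟨i, h⟩ else 0) • e i) d]
    apply Finset.sum_congr rfl
    intro i _
    simp
  · rintro ⟨c, rfl⟩
    refine ⟨fun i => c i, ?_⟩
    rw [← Fin.sum_univ_eq_sum_range (fun i => c i • e i) d]

theorem Uspan_mono (e : ℕ → V) : Monotone (Uspan (k := k) e) := by
  apply monotone_nat_of_le_succ
  intro d x hx
  obtain ⟨c, rfl⟩ := (mem_Uspan e d x).mp hx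
  refine (mem_Uspan e (d + 1) _).mpr ⟨fun i => if i < d then c i else 0, ?_⟩
  rw [Finset.sum_range_succ]
  simp only [lt_irrefl, if_false, zero_smul, add_zero]
  apply Finset.sum_congr rfl
  intro i hi
  rw [if_pos (Finset.mem_range.mp hi)]

theorem self_mem_Uspan_succ (e : ℕ → V) (d : ℕ) : e d ∈ Uspan (k := k) e (d + 1) := by
  refine (mem_Uspan e (d + 1) _).mpr ⟨fun i => if i = d then 1 else 0, ?_⟩
  rw [Finset.sum_range_succ]
  simp only [if_true, one_smul]
  rw [Finset.sum_eq_zero, zero_add]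
  intro i hi
  rw [if_neg (Finset.mem_range.mp hi).ne, zero_smul]

theorem exists_mem_Uspan [FiniteDimensional k V] (e : ℕ → V) : ∃ d, e d ∈ Uspan (k := k) e d := by
  obtain ⟨n, hn⟩ := (monotone_stabilizes_iff_noetherian (R := k) (M := V)).mpr inferInstance
    ⟨Uspan e, Uspan_mono e⟩
  refine ⟨n, ?_⟩
  have := hn (n + 1) (Nat.le_succ n)
  simp only [OrderHom.coe_mk] at this
  rw [this]
  exact self_mem_Uspan_succ e n

/-- coefficients of the fixed vector -/
def xs (σ : k →+* k) (a : ℕ → k) (y : k) : ℕ → k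
  | 0 => y * a 0
  | (j + 1) => σ (xs σ a y j) + y * a (j + 1)

theorem xs_closed (a : ℕ → k) (y : k) (j : ℕ) :
    xs σ a y j = ∑ i ∈ Finset.range (j + 1), (⇑σ)^[i] y * (⇑σ)^[i] (a (j - i)) := by
  induction j with
  | zero => simp [xs]
  | succ j ih =>
    rw [xs, ih, map_sum, Finset.sum_range_succ' _ (j + 1)]
    simp only [Function.iterate_zero, id_eq, Nat.sub_zero]
    congr 1
    apply Finset.sum_congr rfl
    intro i hi
    rw [map_mul, ← Function.iterate_succ_apply' (⇑σ), ← Function.iterate_succ_apply' (⇑σ),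
      Nat.succ_sub_succ]

theorem sigma_xs (a : ℕ → k) (y : k) (n : ℕ) :
    σ (xs σ a y n) = ∑ i : Fin (n + 1), (⇑σ)^[i.val + 1] y *
      (⇑σ)^[i.val] ((fun j : Fin (n + 1) => σ (a j.val)) (Fin.rev i)) := by
  rw [xs_closed, map_sum,
    ← Fin.sum_univ_eq_sum_range (fun i => σ ((⇑σ)^[i] y * (⇑σ)^[i] (a (n - i)))) (n + 1)]
  apply Finset.sum_congr rfl
  intro i _
  have hrev : ((Fin.rev i : Fin (n + 1)) : ℕ) = n - i := by
    rw [Fin.val_rev]
    omega
  show σ ((⇑σ)^[i.val] y * (⇑σ)^[i.val] (a (n - i.val))) =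
    (⇑σ)^[i.val + 1] y * (⇑σ)^[i.val] (σ (a (Fin.rev i).val))
  rw [hrev, map_mul, ← Function.iterate_succ_apply' (⇑σ), ← Function.iterate_succ_apply' (⇑σ),
    Function.iterate_succ_apply (⇑σ) i.val (a (n - i.val))]

theorem exists_fixed_orbit [FiniteDimensional k V] (T : V →ₛₗ[σ] V)
    (h2 : ∀ (n : ℕ) (b : Fin (n + 1) → k), b ≠ 0 →
      ∃ x : k, x ≠ 0 ∧ x = ∑ i : Fin (n + 1), (⇑σ)^[i.val + 1] x * (⇑σ)^[i.val] (b (Fin.rev i)))
    (e : V) (he : ∀ m : ℕ, (⇑T)^[m] e ≠ 0) :
    ∃ v ∈ Submodule.span k (Set.range (fun m : ℕ => (⇑T)^[m] e)), v ≠ 0 ∧ T v = v := by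
  classical
  set E : ℕ → V := fun i => (⇑T)^[i] e with hE
  have hE_succ : ∀ i, E (i + 1) = T (E i) := fun i => Function.iterate_succ_apply' _ _ _
  have hex := exists_mem_Uspan (k := k) E
  have hd_mem : E (Nat.find hex) ∈ Uspan (k := k) E (Nat.find hex) := Nat.find_spec hex
  have hd_min : ∀ j < Nat.find hex, E j ∉ Uspan (k := k) E j := fun j hj => Nat.find_min hex hj
  have hd0 : Nat.find hex ≠ 0 := by
    intro h0
    rw [h0] at hd_mem
    obtain ⟨c, hc⟩ := (mem_Uspan E 0 _).mp hd_mem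
    simp at hc
    exact he 0 hc
  obtain ⟨n, hn⟩ : ∃ n, Nat.find hex = n + 1 := ⟨Nat.find hex - 1, by omega⟩
  rw [hn] at hd_mem hd_min
  obtain ⟨a, ha⟩ := (mem_Uspan E (n + 1) _).mp hd_mem
  have hmin' : E n ∉ Uspan (k := k) E n := hd_min n (by omega)
  have hb : (fun j : Fin (n + 1) => σ (a j.val)) ≠ 0 := by
    intro hb0
    apply he (n + 1)
    show E (n + 1) = 0
    rw [ha]
    apply Finset.sum_eq_zero
    intro i hi
    have h1 := congrFun hb0 ⟨i, Finset.mem_range.mp hi⟩
    have h2' : σ (a i) = 0 := h1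
    rw [(map_eq_zero σ).1 h2', zero_smul]
  obtain ⟨y, hy0, hy⟩ := h2 n _ hb
  rw [← sigma_xs] at hy
  set x : ℕ → k := xs σ a y with hx
  have hxn : x n ≠ 0 := by
    intro h0
    apply hy0
    rw [hy, h0, map_zero]
  refine ⟨∑ i ∈ Finset.range (n + 1), x i • E i, ?_, ?_, ?_⟩
  · apply Submodule.sum_mem
    intro i _
    exact Submodule.smul_mem _ _ (Submodule.subset_span ⟨i, rfl⟩)
  · intro hw
    apply hmin'
    rw [Finset.sum_range_succ] at hw
    refine (mem_Uspan E n _).mpr ⟨fun i => -((x n)⁻¹ * x i), ?_⟩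
    have h2' : x n • E n = -∑ i ∈ Finset.range n, x i • E i :=
      eq_neg_of_add_eq_zero_right hw
    have h3 : E n = (x n)⁻¹ • (x n • E n) := by rw [smul_smul, inv_mul_cancel₀ hxn, one_smul]
    rw [h3, h2', smul_neg, Finset.smul_sum, ← Finset.sum_neg_distrib]
    apply Finset.sum_congr rfl
    intro i _
    rw [smul_smul, neg_smul]
  · rw [map_sum]
    have h1 : ∀ i, T (x i • E i) = σ (x i) • E (i + 1) := by
      intro i; rw [map_smulₛₗ, hE_succ]
    simp_rw [h1]
    rw [Finset.sum_range_succ (fun i => σ (x i) • E (i + 1)), ha, ← hy,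
      Finset.sum_range_succ' (fun i => a i • E i),
      Finset.sum_range_succ' (fun i => x i • E i), smul_add, Finset.smul_sum,
      ← add_assoc, ← Finset.sum_add_distrib]
    congr 1
    · apply Finset.sum_congr rfl
      intro i _
      rw [smul_smul, ← add_smul]
      congr 1
    · rw [smul_smul]
      congr 1

end Basics

section Lang

variable {k : Type*} [Field k] {σ : k →+* k} {V : Type*} [AddCommGroup V] [Module k V]

/-- a semilinear endomorphism whose image spans is injective. -/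
theorem inj_of_span_range [FiniteDimensional k V] (T : V →ₛₗ[σ] V)
    (h1 : Submodule.span k (Set.range ⇑T) = ⊤) : Function.Injective T := by
  classical
  let b := Module.finBasis k V
  have hspan : ⊤ ≤ Submodule.span k (Set.range fun i => T (b i)) := by
    rw [← h1, Submodule.span_le]
    rintro _ ⟨v, rfl⟩
    have hv : v = ∑ i, (b.repr v i) • b i := (b.sum_repr v).symm
    rw [SetLike.mem_coe, hv, map_sum]
    apply Submodule.sum_mem
    intro i _
    rw [map_smulₛₗ]
    exact Submodule.smul_mem _ _ (Submodule.subset_span ⟨i, rfl⟩)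
  have hli : LinearIndependent k (fun i => T (b i)) :=
    linearIndependent_of_top_le_span_of_card_eq_finrank hspan (by simp)
  rw [injective_iff_map_eq_zero]
  intro v hv
  have hv' : v = ∑ i, (b.repr v i) • b i := (b.sum_repr v).symm
  rw [hv', map_sum] at hv
  simp only [map_smulₛₗ] at hv
  have h0 := Fintype.linearIndependent_iff.1 hli (fun i => σ (b.repr v i)) hv
  rw [hv']
  apply Finset.sum_eq_zero
  intro i _
  rw [(map_eq_zero σ).1 (h0 i), zero_smul]

theorem surj_on_span (T : V →ₛₗ[σ] V) (h3 : ∀ c : k, ∃ y : k, σ y - y + c = 0) :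
    ∀ z ∈ Submodule.span k {v : V | T v = v},
      ∃ y ∈ Submodule.span k {v : V | T v = v}, T y - y = z := by
  intro z hz
  have key : ∀ c : k, ∃ y ∈ Submodule.span k {v : V | T v = v}, T y - y = c • z := by
    induction hz using Submodule.span_induction with
    | mem z hz =>
      intro c
      obtain ⟨x, hx⟩ := h3 (-c)
      have hx' : σ x - x = c := by linear_combination hx
      refine ⟨x • z, Submodule.smul_mem _ _ (Submodule.subset_span hz), ?_⟩
      have hz' : T z = z := hz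
      rw [map_smulₛₗ, hz', ← sub_smul, hx']
    | zero => exact fun c => ⟨0, Submodule.zero_mem _, by simp⟩
    | add z₁ z₂ _ _ h₁ h₂ =>
      intro c
      obtain ⟨y₁, hy₁, e₁⟩ := h₁ c
      obtain ⟨y₂, hy₂, e₂⟩ := h₂ c
      refine ⟨y₁ + y₂, Submodule.add_mem _ hy₁ hy₂, ?_⟩
      rw [map_add, smul_add, ← e₁, ← e₂]; abel
    | smul a z _ h =>
      intro c
      obtain ⟨y, hy, e⟩ := h (c * a)
      exact ⟨y, hy, by rw [e, mul_smul]⟩
  obtain ⟨y, hy, e⟩ := key 1
  exact ⟨y, hy, by rw [e, one_smul]⟩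

theorem fixed_span [FiniteDimensional k V] (T : V →ₛₗ[σ] V)
    (h1 : Submodule.span k (Set.range ⇑T) = ⊤)
    (h2 : ∀ (n : ℕ) (b : Fin (n + 1) → k), b ≠ 0 →
      ∃ x : k, x ≠ 0 ∧ x = ∑ i : Fin (n + 1), (⇑σ)^[i.val + 1] x * (⇑σ)^[i.val] (b (Fin.rev i)))
    (h3 : ∀ c : k, ∃ y : k, σ y - y + c = 0) :
    Submodule.span k {v : V | T v = v} = ⊤ := by
  set Φ := Submodule.span k {v : V | T v = v} with hΦ
  have hΦst : ∀ x ∈ Φ, T x ∈ Φ := by
    intro x hx
    induction hx using Submodule.span_induction with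
    | mem x hx =>
      have hx' : T x = x := hx
      rw [hx']; exact Submodule.subset_span hx
    | zero => rw [map_zero]; exact Submodule.zero_mem _
    | add x y _ _ hx hy => rw [map_add]; exact Submodule.add_mem _ hx hy
    | smul c x _ hx => rw [map_smulₛₗ]; exact Submodule.smul_mem _ _ hx
  by_contra hne
  have hle : Φ ≤ Φ.comap T := fun x hx => hΦst x hx
  have hnt : Nontrivial (V ⧸ Φ) := Submodule.Quotient.nontrivial_iff.mpr hne
  have hqspan : Submodule.span k (Set.range ⇑(Φ.mapQ Φ T hle)) = ⊤ := by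
    rw [eq_top_iff]
    rintro w -
    obtain ⟨w, rfl⟩ := Submodule.Quotient.mk_surjective Φ w
    have hw : w ∈ Submodule.span k (Set.range ⇑T) := by rw [h1]; trivial
    induction hw using Submodule.span_induction with
    | mem w hw =>
      obtain ⟨u, rfl⟩ := hw
      exact Submodule.subset_span ⟨Submodule.Quotient.mk u, by rw [Submodule.mapQ_apply]⟩
    | zero => rw [Submodule.Quotient.mk_zero]; exact Submodule.zero_mem _
    | add x y _ _ hx hy => rw [Submodule.Quotient.mk_add]; exact Submodule.add_mem _ hx hy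
    | smul c x _ hx => rw [Submodule.Quotient.mk_smul]; exact Submodule.smul_mem _ _ hx
  have hqinj := inj_of_span_range (Φ.mapQ Φ T hle) hqspan
  obtain ⟨e, he⟩ := exists_ne (0 : V ⧸ Φ)
  have hiter : ∀ m : ℕ, (⇑(Φ.mapQ Φ T hle))^[m] e ≠ 0 := by
    intro m
    induction m with
    | zero => exact he
    | succ m ih =>
      rw [Function.iterate_succ_apply']
      intro h0
      apply ih
      apply hqinj
      rw [h0, map_zero]
  obtain ⟨wq, -, hw0, hwfix⟩ := exists_fixed_orbit (Φ.mapQ Φ T hle) h2 e hiter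
  obtain ⟨w, rfl⟩ := Submodule.Quotient.mk_surjective Φ wq
  have h4 : T w - w ∈ Φ := by
    rw [Submodule.mapQ_apply, Submodule.Quotient.eq] at hwfix
    exact hwfix
  obtain ⟨y, hy, hyz⟩ := surj_on_span T h3 _ h4
  have h5 : T (w - y) = w - y := by
    rw [map_sub]
    have : T w - T y - (w - y) = (T w - w) - (T y - y) := by abel
    rw [← sub_eq_zero, this, hyz, sub_self]
  have h6 : w - y ∈ Φ := Submodule.subset_span h5
  have h7 : w ∈ Φ := by
    have := Φ.add_mem h6 hy
    simpa using this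
  exact hw0 ((Submodule.Quotient.mk_eq_zero Φ).mpr h7)

theorem exists_basis_fixed [FiniteDimensional k V] (T : V →ₛₗ[σ] V)
    (h1 : Submodule.span k (Set.range ⇑T) = ⊤)
    (h2 : ∀ (n : ℕ) (b : Fin (n + 1) → k), b ≠ 0 →
      ∃ x : k, x ≠ 0 ∧ x = ∑ i : Fin (n + 1), (⇑σ)^[i.val + 1] x * (⇑σ)^[i.val] (b (Fin.rev i)))
    (h3 : ∀ c : k, ∃ y : k, σ y - y + c = 0) :
    (∃ b : Module.Basis (Fin (Module.finrank k V)) k V, ∀ i, T (b i) = b i) ∧
    Function.Surjective (fun v : V => v - T v) := by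
  have hΦ := fixed_span T h1 h2 h3
  constructor
  · obtain ⟨s, hsS, hspan, hli⟩ := exists_linearIndependent k {v : V | T v = v}
    have htop : ⊤ ≤ Submodule.span k (Set.range (Subtype.val : s → V)) := by
      rw [Subtype.range_coe, hspan, hΦ]
    let b0 := Module.Basis.mk hli htop
    refine ⟨b0.reindex (b0.indexEquiv (Module.finBasis k V)), fun i => ?_⟩
    rw [Module.Basis.reindex_apply, Module.Basis.mk_apply]
    exact hsS (Subtype.property _)
  · intro z
    have hz : -z ∈ Submodule.span k {v : V | T v = v} := by rw [hΦ]; trivial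
    obtain ⟨y, -, hy⟩ := surj_on_span T h3 _ hz
    refine ⟨y, ?_⟩
    show y - T y = z
    have : y - T y = -(T y - y) := by abel
    rw [this, hy, neg_neg]

/-- `1 - T` is surjective for every semilinear endomorphism. -/
theorem sub_surjective_aux
    (h2 : ∀ (n : ℕ) (b : Fin (n + 1) → k), b ≠ 0 →
      ∃ x : k, x ≠ 0 ∧ x = ∑ i : Fin (n + 1), (⇑σ)^[i.val + 1] x * (⇑σ)^[i.val] (b (Fin.rev i)))
    (h3 : ∀ c : k, ∃ y : k, σ y - y + c = 0) (N : ℕ) :
    ∀ (V : Type*) [AddCommGroup V] [Module k V] [FiniteDimensional k V] (T : V →ₛₗ[σ] V),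
      Module.finrank k V = N → Function.Surjective (fun v : V => v - T v) := by
  induction N using Nat.strong_induction_on with
  | _ N ih =>
    intro V _ _ _ T hN
    by_cases h1 : Submodule.span k (Set.range ⇑T) = ⊤
    · exact (exists_basis_fixed T h1 h2 h3).2
    · set R1 := Submodule.span k (Set.range ⇑T) with hR1
      have hstab : ∀ x ∈ R1, T x ∈ R1 := fun x _ => Submodule.subset_span ⟨x, rfl⟩
      have hlt : Module.finrank k R1 < N := by
        rw [← hN]
        exact Submodule.finrank_lt h1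
      have hsurj := ih _ hlt R1 (T.restrict hstab) rfl
      intro v
      obtain ⟨r, hr⟩ := hsurj ⟨T v, Submodule.subset_span ⟨v, rfl⟩⟩
      have hr' : (r : V) - T (r : V) = T v := congrArg Subtype.val hr
      refine ⟨v + r, ?_⟩
      show v + r - T (v + r) = v
      rw [map_add]
      have : v + ↑r - (T v + T ↑r) = v - T v + (↑r - T ↑r) := by abel
      rw [this, hr']
      abel

theorem sub_surjective [FiniteDimensional k V] (T : V →ₛₗ[σ] V)
    (h2 : ∀ (n : ℕ) (b : Fin (n + 1) → k), b ≠ 0 →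
      ∃ x : k, x ≠ 0 ∧ x = ∑ i : Fin (n + 1), (⇑σ)^[i.val + 1] x * (⇑σ)^[i.val] (b (Fin.rev i)))
    (h3 : ∀ c : k, ∃ y : k, σ y - y + c = 0) :
    Function.Surjective (fun v : V => v - T v) :=
  sub_surjective_aux h2 h3 _ V T rfl

end Lang

section Fitting

variable {k : Type*} [Field k] {σ : k →+* k} {V : Type*} [AddCommGroup V] [Module k V]

/-- kernel of the `n`-th iterate -/
def kerIter (T : V →ₛₗ[σ] V) (n : ℕ) : Submodule k V where
  carrier := {v | (⇑T)^[n] v = 0}
  zero_mem' := iter_zero T n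
  add_mem' := by
    intro a b ha hb
    show (⇑T)^[n] (a + b) = 0
    have ha' : (⇑T)^[n] a = 0 := ha
    have hb' : (⇑T)^[n] b = 0 := hb
    rw [iter_add, ha', hb', add_zero]
  smul_mem' := by
    intro c a ha
    show (⇑T)^[n] (c • a) = 0
    have ha' : (⇑T)^[n] a = 0 := ha
    rw [iter_smul, ha', smul_zero]

theorem mem_kerIter (T : V →ₛₗ[σ] V) (n : ℕ) (v : V) : v ∈ kerIter T n ↔ (⇑T)^[n] v = 0 :=
  Iff.rfl

theorem kerIter_mono (T : V →ₛₗ[σ] V) : Monotone (kerIter T) := by
  apply monotone_nat_of_le_succ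
  intro n v hv
  rw [mem_kerIter] at hv ⊢
  rw [iter_succ', hv, map_zero]

/-- span of the range of the `n`-th iterate -/
def rangeSpan (T : V →ₛₗ[σ] V) (n : ℕ) : Submodule k V :=
  Submodule.span k (Set.range ((⇑T)^[n]))

theorem mem_rangeSpan_iff (hσ : Function.Surjective σ) (T : V →ₛₗ[σ] V) (n : ℕ) (v : V) :
    v ∈ rangeSpan T n ↔ ∃ w, (⇑T)^[n] w = v := by
  constructor
  · intro hv
    induction hv using Submodule.span_induction with
    | mem v hv => exact hv
    | zero => exact ⟨0, iter_zero T n⟩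
    | add x y _ _ hx hy =>
      obtain ⟨a, rfl⟩ := hx
      obtain ⟨b, rfl⟩ := hy
      exact ⟨a + b, iter_add T n a b⟩
    | smul c x _ hx =>
      obtain ⟨a, rfl⟩ := hx
      obtain ⟨c', rfl⟩ := (Function.Surjective.iterate hσ n) c
      exact ⟨c' • a, iter_smul T n c' a⟩
  · rintro ⟨w, rfl⟩
    exact Submodule.subset_span ⟨w, rfl⟩

theorem rangeSpan_anti (T : V →ₛₗ[σ] V) : Antitone (rangeSpan T) := by
  apply antitone_nat_of_succ_le
  intro n
  apply Submodule.span_le.2
  rintro _ ⟨w, rfl⟩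
  exact Submodule.subset_span ⟨T w, (Function.iterate_succ_apply _ _ _).symm⟩

theorem restrict_iter (T : V →ₛₗ[σ] V) (R : Submodule k V) (h : ∀ x ∈ R, T x ∈ R) (n : ℕ)
    (x : R) : (((⇑(T.restrict h))^[n] x : R) : V) = (⇑T)^[n] (x : V) := by
  induction n with
  | zero => rfl
  | succ n ih =>
    rw [Function.iterate_succ_apply', Function.iterate_succ_apply', ← ih]
    rfl

theorem fitting [FiniteDimensional k V] (hσ : Function.Surjective σ) (T : V →ₛₗ[σ] V) :
    ∃ L : ℕ, (∀ n, L ≤ n → kerIter T n = kerIter T L) ∧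
      (∀ n, L ≤ n → rangeSpan T n = rangeSpan T L) ∧
      IsCompl (kerIter T L) (rangeSpan T L) ∧
      Set.BijOn T (rangeSpan T L) (rangeSpan T L) := by
  obtain ⟨N, hN⟩ := (monotone_stabilizes_iff_noetherian (R := k) (M := V)).mpr inferInstance
    ⟨kerIter T, kerIter_mono T⟩
  obtain ⟨M, hM⟩ := IsArtinian.monotone_stabilizes
    (⟨fun n => OrderDual.toDual (rangeSpan T n), fun a b hab => rangeSpan_anti T hab⟩ :
      ℕ →o (Submodule k V)ᵒᵈ)
  simp only [OrderHom.coe_mk] at hN hM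
  have hM' : ∀ m, M ≤ m → rangeSpan T M = rangeSpan T m := fun m hm => hM m hm
  set L := max N M with hL
  have hK : ∀ n, L ≤ n → kerIter T n = kerIter T L := by
    intro n hn
    rw [← hN n (le_trans (le_max_left N M) hn), ← hN L (le_max_left N M)]
  have hR : ∀ n, L ≤ n → rangeSpan T n = rangeSpan T L := by
    intro n hn
    rw [← hM' n (le_trans (le_max_right N M) hn), ← hM' L (le_max_right N M)]
  set R := rangeSpan T L with hRdef
  have hmaps : ∀ x ∈ R, T x ∈ R := by
    intro x hx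
    obtain ⟨w, rfl⟩ := (mem_rangeSpan_iff hσ T L x).1 hx
    rw [← iter_succ', ← hR (L + 1) (Nat.le_succ L)]
    exact (mem_rangeSpan_iff hσ T (L + 1) _).2 ⟨w, rfl⟩
  have hsurjOn : ∀ y ∈ R, ∃ x ∈ R, T x = y := by
    intro y hy
    rw [← hR (L + 1) (Nat.le_succ L)] at hy
    obtain ⟨w, rfl⟩ := (mem_rangeSpan_iff hσ T (L + 1) y).1 hy
    exact ⟨(⇑T)^[L] w, (mem_rangeSpan_iff hσ T L _).2 ⟨w, rfl⟩, (iter_succ' T L w).symm⟩
  set TR := T.restrict hmaps with hTR
  have hTRsurj : Function.Surjective TR := by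
    intro y
    obtain ⟨x, hx, hxy⟩ := hsurjOn y.1 y.2
    exact ⟨⟨x, hx⟩, Subtype.ext hxy⟩
  have hTRspan : Submodule.span k (Set.range ⇑TR) = ⊤ := by
    rw [Function.Surjective.range_eq hTRsurj, Submodule.span_univ]
  have hTRinj : Function.Injective TR := inj_of_span_range TR hTRspan
  refine ⟨L, hK, hR, ⟨?_, ?_⟩, ?_, ?_, ?_⟩
  · rw [Submodule.disjoint_def]
    intro v hvK hvR
    have h1 : (⇑TR)^[L] ⟨v, hvR⟩ = (⇑TR)^[L] 0 := by
      apply Subtype.ext
      rw [restrict_iter, restrict_iter]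
      show (⇑T)^[L] v = (⇑T)^[L] 0
      rw [iter_zero]
      exact hvK
    have h2 := (Function.Injective.iterate hTRinj L) h1
    exact congrArg Subtype.val h2
  · rw [codisjoint_iff, eq_top_iff]
    rintro v -
    have h1 : (⇑T)^[L] v ∈ R := (mem_rangeSpan_iff hσ T L _).2 ⟨v, rfl⟩
    obtain ⟨r, hr⟩ := (Function.Surjective.iterate hTRsurj L) ⟨(⇑T)^[L] v, h1⟩
    have hr' : (⇑T)^[L] (r : V) = (⇑T)^[L] v := by
      rw [← restrict_iter T R hmaps L r, hr]
    have h2 : v - r ∈ kerIter T L := by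
      rw [mem_kerIter, iter_sub, hr', sub_self]
    have h3 : v = (v - r) + r := by abel
    rw [h3]
    exact Submodule.add_mem _ (Submodule.mem_sup_left h2) (Submodule.mem_sup_right r.2)
  · intro x hx
    exact hmaps x hx
  · intro x hx y hy hxy
    have := hTRinj (a₁ := ⟨x, hx⟩) (a₂ := ⟨y, hy⟩) (Subtype.ext hxy)
    exact congrArg Subtype.val this
  · intro y hy
    obtain ⟨x, hx, hxy⟩ := hsurjOn y hy
    exact ⟨x, hx, hxy⟩

theorem iInf_rangeSpan [FiniteDimensional k V] (T : V →ₛₗ[σ] V) (L : ℕ)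
    (hR : ∀ n, L ≤ n → rangeSpan T n = rangeSpan T L) :
    (⨅ n : ℕ, Submodule.span k (Set.range ((⇑T)^[n]))) = rangeSpan T L := by
  apply le_antisymm
  · exact iInf_le _ L
  · apply le_iInf
    intro n
    rcases le_total L n with h | h
    · exact (hR n h).symm.le
    · exact rangeSpan_anti T h

end Fitting

section Combined

variable {k : Type*} [Field k] {σ : k →+* k} {V : Type*} [AddCommGroup V] [Module k V]

theorem exists_basis_fixed_iInf [FiniteDimensional k V] (hσ : Function.Surjective σ)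
    (T : V →ₛₗ[σ] V)
    (h2 : ∀ (n : ℕ) (b : Fin (n + 1) → k), b ≠ 0 →
      ∃ x : k, x ≠ 0 ∧ x = ∑ i : Fin (n + 1), (⇑σ)^[i.val + 1] x * (⇑σ)^[i.val] (b (Fin.rev i)))
    (h3 : ∀ c : k, ∃ y : k, σ y - y + c = 0) :
    ∃ b : Module.Basis (Fin (Module.finrank k
        ↥(⨅ n : ℕ, Submodule.span k (Set.range ((⇑T)^[n]))))) k
        ↥(⨅ n : ℕ, Submodule.span k (Set.range ((⇑T)^[n]))),
      ∀ i, T (b i : V) = (b i : V) := by
  obtain ⟨L, -, hR, -, hbij⟩ := fitting hσ T
  have hEq := iInf_rangeSpan T L hR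
  have hmaps : ∀ x ∈ (⨅ n : ℕ, Submodule.span k (Set.range ((⇑T)^[n]))),
      T x ∈ (⨅ n : ℕ, Submodule.span k (Set.range ((⇑T)^[n]))) := by
    intro x hx
    rw [hEq] at hx ⊢
    exact hbij.mapsTo hx
  have hsurj : Function.Surjective (T.restrict hmaps) := by
    intro y
    have hy : (y : V) ∈ rangeSpan T L := hEq.le y.2
    obtain ⟨x, hx, hxy⟩ := hbij.surjOn hy
    have hx' : x ∈ (⨅ n : ℕ, Submodule.span k (Set.range ((⇑T)^[n]))) := by
      rw [hEq]; exact hx
    exact ⟨⟨x, hx'⟩, Subtype.ext hxy⟩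
  have hspan : Submodule.span k (Set.range ⇑(T.restrict hmaps)) = ⊤ := by
    rw [Function.Surjective.range_eq hsurj, Submodule.span_univ]
  obtain ⟨⟨b, hb⟩, -⟩ := exists_basis_fixed (T.restrict hmaps) hspan h2 h3
  exact ⟨b, fun i => congrArg Subtype.val (hb i)⟩

end Combined

end H8Sig
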