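import Mathlib
import Groth.Agent.H8Sig

set_option autoImplicit false
set_option linter.unusedSectionVars false

open Polynomial

namespace H8Sig

section Poly

variable {k : Type*} [Field k]

theorem coeff_sum_C_mul_X_pow {n : ℕ} (c : Fin n → k) (e : Fin n → ℕ)
    (he : Function.Injective e) (j : Fin n) :
    (∑ i, C (c i) * X ^ (e i) : k[X]).coeff (e j) = c j := by
  rw [finsetSum_coeff, Finset.sum_eq_single j]
  · rw [coeff_C_mul_X_pow, if_pos rfl]
  · intro i _ hij
    rw [coeff_C_mul_X_pow, if_neg (fun h => hij (he h).symm)]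
  · intro h
    exact absurd (Finset.mem_univ j) h

theorem coeff_sum_C_mul_X_pow_of_ne {n : ℕ} (c : Fin n → k) (e : Fin n → ℕ) (m : ℕ)
    (hm : ∀ i, m ≠ e i) :
    (∑ i, C (c i) * X ^ (e i) : k[X]).coeff m = 0 := by
  rw [finsetSum_coeff]
  apply Finset.sum_eq_zero
  intro i _
  rw [coeff_C_mul_X_pow, if_neg (hm i)]

theorem exists_ne_zero_root [IsAlgClosed k] (P : k[X]) (i j : ℕ) (hij : i ≠ j)
    (hi : P.coeff i ≠ 0) (hj : P.coeff j ≠ 0) : ∃ t : k, t ≠ 0 ∧ P.IsRoot t := by
  have hP : P ≠ 0 := by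
    intro h
    rw [h, coeff_zero] at hi
    exact hi rfl
  obtain ⟨Q, hPQ, hQ⟩ := exists_eq_pow_rootMultiplicity_mul_and_not_dvd P hP 0
  rw [C_0, sub_zero] at hPQ hQ
  set m := P.rootMultiplicity 0 with hm
  have hdeg : Q.degree ≠ 0 := by
    intro h0
    have hQC := eq_C_of_degree_eq_zero h0
    have hc : ∀ l, P.coeff l = if l = m then Q.coeff 0 else 0 := by
      intro l
      rw [hPQ, hQC, mul_comm, coeff_C_mul_X_pow]
      simp
    have h1 := hc i
    have h2 := hc j
    by_cases him : i = m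
    · have hjm : j ≠ m := fun h => hij (him.trans h.symm)
      rw [if_neg hjm] at h2
      exact hj h2
    · rw [if_neg him] at h1
      exact hi h1
  obtain ⟨t, ht⟩ := IsAlgClosed.exists_root Q hdeg
  refine ⟨t, ?_, ?_⟩
  · rintro rfl
    apply hQ
    have := (dvd_iff_isRoot (p := Q) (a := (0 : k))).2 ht
    rwa [C_0, sub_zero] at this
  · rw [hPQ, IsRoot.def, eval_mul, ht.eq_zero, mul_zero]

theorem exists_root_of_derivative [IsSepClosed k] (f : k[X]) (h : derivative f = -1) :
    ∃ x, f.IsRoot x := by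
  have hsep : f.Separable := by
    rw [separable_def, h]
    exact isCoprime_one_right.neg_right
  have hdeg : f.degree ≠ 0 := by
    intro h0
    have hC := eq_C_of_degree_eq_zero h0
    rw [hC, derivative_C] at h
    have : (0 : k[X]).coeff 0 = (-1 : k[X]).coeff 0 := by rw [h]
    simp at this
  exact IsSepClosed.exists_root f hdeg hsep

end Poly

section PowMap

variable {k : Type*} [Field k] (p : ℕ) [Fact p.Prime] [CharP k p]

theorem iter_pow (σ : k →+* k) (q : ℕ) (hσ : ∀ c, σ c = c ^ q) (j : ℕ) (c : k) :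
    (⇑σ)^[j] c = c ^ (q ^ j) := by
  induction j with
  | zero => simp
  | succ j ih => rw [Function.iterate_succ_apply', ih, hσ, ← pow_mul, ← pow_succ]

theorem h3_pow [IsSepClosed k] (r : ℕ) (hr : 0 < r) (σ : k →+* k)
    (hσ : ∀ c, σ c = c ^ (p ^ r)) : ∀ c : k, ∃ y : k, σ y - y + c = 0 := by
  intro c
  have hq : ((p ^ r : ℕ) : k) = 0 := by
    rw [CharP.cast_eq_zero_iff k p]
    exact dvd_pow_self p (by omega)
  obtain ⟨y, hy⟩ := exists_root_of_derivative (X ^ (p ^ r) - X + C c : k[X]) (by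
    rw [derivative_add, derivative_sub, derivative_X_pow, derivative_X, derivative_C, hq]
    simp)
  refine ⟨y, ?_⟩
  rw [IsRoot.def, eval_add, eval_sub, eval_pow, eval_X, eval_C] at hy
  rw [hσ]
  exact hy

theorem h2_pow [IsSepClosed k] (r : ℕ) (hr : 0 < r) (σ : k →+* k)
    (hσ : ∀ c, σ c = c ^ (p ^ r)) :
    ∀ (n : ℕ) (b : Fin (n + 1) → k), b ≠ 0 →
      ∃ x : k, x ≠ 0 ∧ x = ∑ i : Fin (n + 1), (⇑σ)^[i.val + 1] x * (⇑σ)^[i.val] (b (Fin.rev i)) := by
  intro n b hb
  have hp2 : 2 ≤ p := (Fact.out : p.Prime).two_le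
  set q := p ^ r with hqdef
  have hq2 : 2 ≤ q := by
    calc 2 ≤ p := hp2
      _ = p ^ 1 := (pow_one p).symm
      _ ≤ p ^ r := Nat.pow_le_pow_right (by omega) hr
  have hqk : ∀ j : ℕ, ((q ^ (j + 1) : ℕ) : k) = 0 := by
    intro j
    rw [CharP.cast_eq_zero_iff k p, hqdef, ← pow_mul]
    exact dvd_pow_self p (by positivity)
  set c : Fin (n + 1) → k := fun i => (⇑σ)^[i.val] (b (Fin.rev i)) with hc
  set e : Fin (n + 1) → ℕ := fun i => q ^ (i.val + 1) - 1 with he
  have hepos : ∀ i, 1 ≤ e i := by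
    intro i
    have : q ^ 1 ≤ q ^ (i.val + 1) := Nat.pow_le_pow_right (by omega) (by omega)
    rw [pow_one] at this
    show 1 ≤ q ^ (i.val + 1) - 1
    omega
  have hqpos : ∀ j : ℕ, 1 ≤ q ^ j := fun j => Nat.one_le_pow _ _ (by omega)
  have heinj : Function.Injective e := by
    intro i j hij
    have h1 : q ^ (i.val + 1) = q ^ (j.val + 1) := by
      have hi := hqpos (i.val + 1)
      have hj := hqpos (j.val + 1)
      have : q ^ (i.val + 1) - 1 = q ^ (j.val + 1) - 1 := hij
      omega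
    have := Nat.pow_right_injective hq2 h1
    exact Fin.ext (by omega)
  set Q : k[X] := ∑ i, C (c i) * X ^ (e i) - 1 with hQ
  have hXQ : X * Q = ∑ i, C (c i) * X ^ (q ^ (i.val + 1)) - X := by
    rw [hQ, mul_sub, mul_one, Finset.mul_sum]
    congr 1
    apply Finset.sum_congr rfl
    intro i _
    have : q ^ (i.val + 1) = (e i) + 1 := by
      have := hqpos (i.val + 1)
      show q ^ (i.val + 1) = q ^ (i.val + 1) - 1 + 1
      omega
    rw [this, pow_succ]
    ring
  have hder : derivative (X * Q) = -1 := by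
    rw [hXQ, derivative_sub, derivative_sum, derivative_X]
    have : ∀ i : Fin (n + 1), derivative (C (c i) * X ^ (q ^ (i.val + 1)) : k[X]) = 0 := by
      intro i
      rw [derivative_C_mul, derivative_X_pow, hqk]
      simp
    simp only [this, Finset.sum_const_zero, zero_sub]
  have hsepXQ : (X * Q).Separable := by
    rw [separable_def, hder]
    exact isCoprime_one_right.neg_right
  have hsep : Q.Separable := hsepXQ.of_mul_right
  have hdeg : Q.degree ≠ 0 := by
    intro h0
    have hQC := eq_C_of_degree_eq_zero h0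
    apply hb
    funext j
    have hcj : c (Fin.rev j) = 0 := by
      have h1 : Q.coeff (e (Fin.rev j)) = c (Fin.rev j) := by
        rw [hQ, coeff_sub, coeff_sum_C_mul_X_pow c e heinj, coeff_one,
          if_neg (by have := hepos (Fin.rev j); omega), sub_zero]
      rw [← h1, hQC, coeff_C, if_neg (by have := hepos (Fin.rev j); omega)]
    have hcj' : (⇑σ)^[(Fin.rev j).val] (b (Fin.rev (Fin.rev j))) = 0 := hcj
    rw [Fin.rev_rev] at hcj'
    have := sigma_iter_inj (σ := σ) (Fin.rev j).val (hcj'.trans (sigma_iter_zero _).symm)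
    exact this
  obtain ⟨t, ht⟩ := IsSepClosed.exists_root Q hdeg hsep
  have ht' : ∑ i, c i * t ^ (e i) = 1 := by
    rw [IsRoot.def, hQ, eval_sub, eval_one, eval_finsetSum] at ht
    simp only [eval_mul, eval_C, eval_pow, eval_X] at ht
    exact sub_eq_zero.1 ht
  have ht0 : t ≠ 0 := by
    rintro rfl
    have : ∑ i, c i * (0 : k) ^ (e i) = 0 := by
      apply Finset.sum_eq_zero
      intro i _
      rw [zero_pow (by have := hepos i; omega), mul_zero]
    rw [this] at ht'
    exact zero_ne_one ht'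
  refine ⟨t, ht0, ?_⟩
  have h5 : t = t * ∑ i, c i * t ^ (e i) := by rw [ht', mul_one]
  rw [Finset.mul_sum] at h5
  conv_lhs => rw [h5]
  apply Finset.sum_congr rfl
  intro i _
  rw [iter_pow σ q hσ]
  have : q ^ (i.val + 1) = (e i) + 1 := by
    have := hqpos (i.val + 1)
    show q ^ (i.val + 1) = q ^ (i.val + 1) - 1 + 1
    omega
  rw [this, pow_succ]
  ring

end PowMap

section InvFrob

variable {k : Type*} [Field k] [IsAlgClosed k] (p : ℕ) [Fact p.Prime] [CharP k p]

theorem h3_inv : ∀ c : k, ∃ y : k,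
    ((frobeniusEquiv k p).symm.toRingHom : k →+* k) y - y + c = 0 := by
  intro c
  have hp2 : 2 ≤ p := (Fact.out : p.Prime).two_le
  have hdeg : (X - X ^ p + C c : k[X]).degree ≠ 0 := by
    have h1 : (X - X ^ p + C c : k[X]).coeff p = -1 := by
      rw [coeff_add, coeff_sub, coeff_X, coeff_X_pow, coeff_C, if_neg (by omega), if_pos rfl,
        if_neg (by omega)]
      ring
    intro h0
    have hC := eq_C_of_degree_eq_zero h0
    rw [hC, coeff_C, if_neg (by omega)] at h1
    have : (0 : k) ≠ -1 := by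
      intro h
      have := neg_eq_zero.1 h.symm
      exact one_ne_zero this
    exact this h1
  obtain ⟨w, hw⟩ := IsAlgClosed.exists_root _ hdeg
  rw [IsRoot.def, eval_add, eval_sub, eval_pow, eval_X, eval_C] at hw
  refine ⟨w ^ p, ?_⟩
  show (frobeniusEquiv k p).symm (w ^ p) - w ^ p + c = 0
  rw [frobeniusEquiv_symm_pow]
  exact hw

theorem h2_inv : ∀ (n : ℕ) (b : Fin (n + 1) → k), b ≠ 0 →
    ∃ x : k, x ≠ 0 ∧ x = ∑ i : Fin (n + 1),
      (⇑((frobeniusEquiv k p).symm.toRingHom : k →+* k))^[i.val + 1] x *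
        (⇑((frobeniusEquiv k p).symm.toRingHom : k →+* k))^[i.val] (b (Fin.rev i)) := by
  intro n b hb
  have hp2 : 2 ≤ p := (Fact.out : p.Prime).two_le
  set σ : k →+* k := ((frobeniusEquiv k p).symm.toRingHom : k →+* k) with hσ
  have hσpow : ∀ (j : ℕ) (x : k), ((⇑σ)^[j] x) ^ (p ^ j) = x := by
    intro j x
    exact iterate_frobeniusEquiv_symm_pow_p_pow k p x j
  set d : Fin (n + 1) → k := fun i => (b (Fin.rev i)) ^ (p ^ (n + 1 - i.val)) with hd
  set e : Fin (n + 1) → ℕ := fun i => p ^ (n - i.val) with he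
  have heinj : Function.Injective e := by
    intro i j hij
    have := Nat.pow_right_injective hp2 hij
    have hi := i.2
    have hj := j.2
    exact Fin.ext (by omega)
  have hene : ∀ i, p ^ (n + 1) ≠ e i := by
    intro i h
    have := Nat.pow_right_injective hp2 h
    omega
  set F : k[X] := X ^ (p ^ (n + 1)) - ∑ i, C (d i) * X ^ (e i) with hF
  have hc1 : F.coeff (p ^ (n + 1)) ≠ 0 := by
    rw [hF, coeff_sub, coeff_X_pow, if_pos rfl, coeff_sum_C_mul_X_pow_of_ne d e _ hene, sub_zero]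
    exact one_ne_zero
  obtain ⟨j, hj⟩ : ∃ j, b (Fin.rev j) ≠ 0 := by
    by_contra hall
    push Not at hall
    apply hb
    funext j
    have := hall (Fin.rev j)
    rwa [Fin.rev_rev] at this
  have hc2 : F.coeff (e j) ≠ 0 := by
    rw [hF, coeff_sub, coeff_X_pow, if_neg (fun h => hene j h.symm),
      coeff_sum_C_mul_X_pow d e heinj, zero_sub, neg_ne_zero]
    exact pow_ne_zero _ hj
  obtain ⟨t, ht0, ht⟩ := exists_ne_zero_root F _ _ (hene j) hc1 hc2
  have ht' : t ^ (p ^ (n + 1)) = ∑ i, d i * t ^ (e i) := by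
    rw [IsRoot.def, hF, eval_sub, eval_pow, eval_X, eval_finsetSum] at ht
    simp only [eval_mul, eval_C, eval_pow, eval_X] at ht
    exact sub_eq_zero.1 ht
  refine ⟨t, ht0, ?_⟩
  have hinj : Function.Injective (fun x : k => x ^ (p ^ (n + 1))) := by
    have h1 := Function.Injective.iterate (frobenius_inj k p) (n + 1)
    intro x y hxy
    apply h1
    rw [iterate_frobenius, iterate_frobenius]
    exact hxy
  apply hinj
  show t ^ (p ^ (n + 1)) = (∑ i : Fin (n + 1), (⇑σ)^[i.val + 1] t * (⇑σ)^[i.val] (b (Fin.rev i))) ^ (p ^ (n + 1))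
  rw [ht', sum_pow_char_pow]
  apply Finset.sum_congr rfl
  intro i _
  rw [mul_pow]
  have hi := i.2
  have h1 : ((⇑σ)^[i.val + 1] t) ^ (p ^ (n + 1)) = t ^ (e i) := by
    have e1 : p ^ (n + 1) = p ^ (i.val + 1) * p ^ (n - i.val) := by
      rw [← pow_add]
      congr 1
      omega
    rw [e1, pow_mul, hσpow]
  have h2 : ((⇑σ)^[i.val] (b (Fin.rev i))) ^ (p ^ (n + 1)) = d i := by
    have e1 : p ^ (n + 1) = p ^ i.val * p ^ (n + 1 - i.val) := by
      rw [← pow_add]
      congr 1
      omega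
    rw [e1, pow_mul, hσpow]
  rw [h1, h2, mul_comm]

end InvFrob

end H8Sig
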