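import Mathlib
import Groth.Agent.H8Sig2

set_option autoImplicit false
set_option linter.unusedSectionVars false

namespace H8Sig

section General

variable {k : Type*} [Field k] {σ : k →+* k} {V : Type*} [AddCommGroup V] [Module k V]

theorem map_rangeSpan_le (T : V →ₛₗ[σ] V) (n : ℕ) (x : V) (hx : x ∈ rangeSpan T n) :
    T x ∈ rangeSpan T (n + 1) := by
  induction hx using Submodule.span_induction with
  | mem x hx =>
    obtain ⟨w, rfl⟩ := hx
    exact Submodule.subset_span ⟨w, iter_succ' T n w⟩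
  | zero => rw [map_zero]; exact Submodule.zero_mem _
  | add x y _ _ hx hy => rw [map_add]; exact Submodule.add_mem _ hx hy
  | smul c x _ hx => rw [map_smulₛₗ]; exact Submodule.smul_mem _ _ hx

theorem exists_stable_rangeSpan [FiniteDimensional k V] (T : V →ₛₗ[σ] V) :
    ∃ M : ℕ, ∀ n, M ≤ n → rangeSpan T n = rangeSpan T M := by
  obtain ⟨M, hM⟩ := IsArtinian.monotone_stabilizes
    (⟨fun n => OrderDual.toDual (rangeSpan T n), fun a b hab => rangeSpan_anti T hab⟩ :
      ℕ →o (Submodule k V)ᵒᵈ)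
  simp only [OrderHom.coe_mk] at hM
  exact ⟨M, fun n hn => ((hM n hn : rangeSpan T M = rangeSpan T n)).symm⟩

theorem fixed_mem_rangeSpan (T : V →ₛₗ[σ] V) (n : ℕ) (v : V) (hv : T v = v) :
    v ∈ rangeSpan T n := by
  have h : (⇑T)^[n] v = v := Function.iterate_fixed hv n
  exact Submodule.subset_span ⟨v, h⟩

/-- basis of fixed vectors of the stable part, for an arbitrary twist -/
theorem exists_basis_fixed_stable [FiniteDimensional k V] (T : V →ₛₗ[σ] V)
    (h2 : ∀ (n : ℕ) (b : Fin (n + 1) → k), b ≠ 0 →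
      ∃ x : k, x ≠ 0 ∧ x = ∑ i : Fin (n + 1), (⇑σ)^[i.val + 1] x * (⇑σ)^[i.val] (b (Fin.rev i)))
    (h3 : ∀ c : k, ∃ y : k, σ y - y + c = 0)
    (W : Submodule k V) (M : ℕ) (hW : W = rangeSpan T M)
    (hstab : rangeSpan T (M + 1) = rangeSpan T M) :
    ∃ b : Module.Basis (Fin (Module.finrank k ↥W)) k ↥W, ∀ i, T (b i : V) = (b i : V) := by
  subst hW
  have hmaps : ∀ x ∈ rangeSpan T M, T x ∈ rangeSpan T M := by
    intro x hx
    rw [← hstab]
    exact map_rangeSpan_le T M x hx
  have hspan : Submodule.span k (Set.range ⇑(T.restrict hmaps)) = ⊤ := by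
    rw [eq_top_iff]
    rintro ⟨y, hy⟩ -
    have hy' : y ∈ rangeSpan T (M + 1) := by rw [hstab]; exact hy
    have key : ∀ (y : V) (hy' : y ∈ rangeSpan T (M + 1)) (hy : y ∈ rangeSpan T M),
        (⟨y, hy⟩ : rangeSpan T M) ∈ Submodule.span k (Set.range ⇑(T.restrict hmaps)) := by
      intro y hy'
      induction hy' using Submodule.span_induction with
      | mem y hy'' =>
        intro hy
        obtain ⟨w, rfl⟩ := hy''
        have hw : (⇑T)^[M] w ∈ rangeSpan T M := Submodule.subset_span ⟨w, rfl⟩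
        refine Submodule.subset_span ⟨⟨(⇑T)^[M] w, hw⟩, ?_⟩
        apply Subtype.ext
        exact (iter_succ' T M w).symm
      | zero =>
        intro hy
        exact Submodule.zero_mem _
      | add a b ha hb iha ihb =>
        intro hy
        have ha' : a ∈ rangeSpan T M := by rw [← hstab]; exact ha
        have hb' : b ∈ rangeSpan T M := by rw [← hstab]; exact hb
        have : (⟨a + b, hy⟩ : rangeSpan T M) = ⟨a, ha'⟩ + ⟨b, hb'⟩ := rfl
        rw [this]
        exact Submodule.add_mem _ (iha ha') (ihb hb')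
      | smul c a ha iha =>
        intro hy
        have ha' : a ∈ rangeSpan T M := by rw [← hstab]; exact ha
        have : (⟨c • a, hy⟩ : rangeSpan T M) = c • ⟨a, ha'⟩ := rfl
        rw [this]
        exact Submodule.smul_mem _ _ (iha ha')
    exact key y hy' hy
  obtain ⟨⟨b, hb⟩, -⟩ := exists_basis_fixed (T.restrict hmaps) hspan h2 h3
  exact ⟨b, fun i => congrArg Subtype.val (hb i)⟩

theorem iInf_rangeSpan_succ [FiniteDimensional k V] (T : V →ₛₗ[σ] V) (M : ℕ)
    (hM : ∀ n, M ≤ n → rangeSpan T n = rangeSpan T M) :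
    (⨅ n : ℕ, Submodule.span k (Set.range ((⇑T)^[n + 1]))) = rangeSpan T M := by
  apply le_antisymm
  · have h1 := iInf_le (fun n : ℕ => Submodule.span k (Set.range ((⇑T)^[n + 1]))) M
    have h2 : rangeSpan T (M + 1) = rangeSpan T M := hM (M + 1) (Nat.le_succ M)
    exact h1.trans h2.le
  · apply le_iInf
    intro n
    rcases le_total M (n + 1) with h | h
    · exact (hM (n + 1) h).symm.le
    · exact rangeSpan_anti T h

end General

end H8Sig
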