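import Mathlib
import Groth.Agent.H8Sig3

set_option autoImplicit false
set_option linter.unusedSectionVars false

namespace H8SigFin

section Field

variable {k : Type*} [Field k] {σ : k →+* k} {V : Type*} [AddCommGroup V] [Module k V]

/-- fixed vectors of a semilinear endomorphism form a finite set when the fixed field is finite -/
theorem finite_fixed [FiniteDimensional k V] (T : V →ₛₗ[σ] V)
    (h2 : ∀ (n : ℕ) (b : Fin (n + 1) → k), b ≠ 0 →
      ∃ x : k, x ≠ 0 ∧ x = ∑ i : Fin (n + 1), (⇑σ)^[i.val + 1] x * (⇑σ)^[i.val] (b (Fin.rev i)))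
    (h3 : ∀ c : k, ∃ y : k, σ y - y + c = 0)
    (hfin : {c : k | σ c = c}.Finite) : {v : V | T v = v}.Finite := by
  classical
  obtain ⟨M, hM⟩ := H8Sig.exists_stable_rangeSpan T
  obtain ⟨b, hb⟩ := H8Sig.exists_basis_fixed_stable T h2 h3 (H8Sig.rangeSpan T M) M rfl
    (hM (M + 1) (Nat.le_succ M))
  have hpi : (Set.pi Set.univ
      (fun _ : Fin (Module.finrank k ↥(H8Sig.rangeSpan T M)) => {c : k | σ c = c})).Finite :=
    Set.Finite.pi (fun _ => hfin)
  refine (hpi.image (fun c => ∑ i, c i • (b i : V))).subset ?_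
  intro v hv
  have hv' : T v = v := hv
  have hvV : v ∈ H8Sig.rangeSpan T M := H8Sig.fixed_mem_rangeSpan T M v hv'
  let x : H8Sig.rangeSpan T M := ⟨v, hvV⟩
  have hxsum : v = ∑ i, (b.repr x i) • (b i : V) := by
    have h1 := congrArg Subtype.val (b.sum_repr x)
    rw [Submodule.coe_sum] at h1
    simp only [Submodule.coe_smul] at h1
    exact h1.symm
  have hy : (∑ i, σ (b.repr x i) • b i : H8Sig.rangeSpan T M) = x := by
    apply Subtype.ext
    rw [Submodule.coe_sum]
    simp only [Submodule.coe_smul]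
    show ∑ i, σ (b.repr x i) • (b i : V) = v
    have h5 : T v = ∑ i, σ (b.repr x i) • (b i : V) := by
      conv_lhs => rw [hxsum]
      rw [map_sum]
      apply Finset.sum_congr rfl
      intro i _
      rw [map_smulₛₗ, hb]
    rw [← h5, hv']
  refine ⟨fun i => b.repr x i, ?_, hxsum.symm⟩
  intro i _
  show σ (b.repr x i) = b.repr x i
  have h7 : b.repr (∑ j, σ (b.repr x j) • b j : H8Sig.rangeSpan T M) i = σ (b.repr x i) := by
    rw [b.repr_sum_self]
  rw [hy] at h7
  exact h7.symm

end Field

/-- the submodule `𝔪 • ⊤` -/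
abbrev Nsub (R : Type*) [CommRing R] [IsLocalRing R] (M : Type*) [AddCommGroup M] [Module R M] :
    Submodule R M := IsLocalRing.maximalIdeal R • ⊤

section Local

variable (p : ℕ) (R : Type*) [CommRing R] [IsLocalRing R]
  (hmax : IsLocalRing.maximalIdeal R = Ideal.span {(p : R)})
  (σ : R →+* R) (σbar : IsLocalRing.ResidueField R →+* IsLocalRing.ResidueField R)
  (hσbar : ∀ r : R, σbar (IsLocalRing.residue R r) = IsLocalRing.residue R (σ r))
  (h2 : ∀ (n : ℕ) (b : Fin (n + 1) → IsLocalRing.ResidueField R), b ≠ 0 →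
    ∃ x : IsLocalRing.ResidueField R, x ≠ 0 ∧
      x = ∑ i : Fin (n + 1), (⇑σbar)^[i.val + 1] x * (⇑σbar)^[i.val] (b (Fin.rev i)))
  (h3 : ∀ c : IsLocalRing.ResidueField R, ∃ y : IsLocalRing.ResidueField R, σbar y - y + c = 0)
  (hfin : {c : IsLocalRing.ResidueField R | σbar c = c}.Finite)

include hmax hσbar h2 h3 hfin

theorem finite_fixed_aux (j : ℕ) :
    ∀ (M : Type*) [AddCommGroup M] [Module R M] [Module.Finite R M] (T : M →ₛₗ[σ] M),
      (∀ m : M, (p : R) ^ j • m = 0) → {m : M | T m = m}.Finite := by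
  classical
  induction j with
  | zero =>
    intro M _ _ _ T hM
    have : Subsingleton M := ⟨fun a b => by
      have ha := hM a
      have hb := hM b
      rw [pow_zero, one_smul] at ha hb
      rw [ha, hb]⟩
    exact Set.toFinite _
  | succ j ih =>
    intro M _ _ _ T hM
    have hσp : σ (p : R) = p := map_natCast σ p
    have hNmem : ∀ x : M, x ∈ (Nsub R M) ↔ ∃ y : M, (p : R) • y = x := by
      intro x
      show x ∈ (IsLocalRing.maximalIdeal R • ⊤ : Submodule R M) ↔ _
      rw [hmax, Submodule.ideal_span_singleton_smul, Submodule.mem_smul_pointwise_iff_exists]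
      simp
    have hTm : ∀ x ∈ (Nsub R M), T x ∈ (Nsub R M) := by
      intro x hx
      obtain ⟨y, rfl⟩ := (hNmem x).mp hx
      rw [map_smulₛₗ, hσp]
      exact (hNmem _).mpr ⟨T y, rfl⟩
    have hNfg : Module.Finite R (Nsub R M) := by
      rw [Module.Finite.iff_fg]
      apply Submodule.FG.smul
      · rw [hmax]
        exact ⟨{(p : R)}, by simp⟩
      · exact Module.Finite.fg_top
    have hfinN : {x : (Nsub R M) | (T.restrict hTm) x = x}.Finite := by
      apply ih (Nsub R M) (T.restrict hTm)
      intro x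
      obtain ⟨y, hy⟩ := (hNmem x).mp x.2
      apply Subtype.ext
      rw [Submodule.coe_smul, ← hy, smul_smul, ← pow_succ, hM]
      rfl
    -- the quotient
    let _ : Module (IsLocalRing.ResidueField R) (M ⧸ (Nsub R M)) :=
      inferInstanceAs (Module (R ⧸ IsLocalRing.maximalIdeal R)
        (M ⧸ (IsLocalRing.maximalIdeal R • ⊤ : Submodule R M)))
    have _ : Module.Finite (IsLocalRing.ResidueField R) (M ⧸ (Nsub R M)) :=
      inferInstanceAs (Module.Finite (R ⧸ IsLocalRing.maximalIdeal R)
        (M ⧸ (IsLocalRing.maximalIdeal R • ⊤ : Submodule R M)))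
    have hle : (Nsub R M) ≤ (Nsub R M).comap T := fun x hx => hTm x hx
    let T0 := (Nsub R M).mapQ (Nsub R M) T hle
    let Tbar : (M ⧸ (Nsub R M)) →ₛₗ[σbar] (M ⧸ (Nsub R M)) :=
      { toFun := T0
        map_add' := T0.map_add
        map_smul' := by
          intro c x
          obtain ⟨r, rfl⟩ := IsLocalRing.residue_surjective c
          obtain ⟨y, rfl⟩ := Submodule.Quotient.mk_surjective _ x
          show T0 (Submodule.Quotient.mk (r • y)) =
            σbar (IsLocalRing.residue R r) • T0 (Submodule.Quotient.mk y)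
          rw [hσbar, Submodule.mapQ_apply, Submodule.mapQ_apply, map_smulₛₗ]
          rfl }
    have hfinV : {v : M ⧸ (Nsub R M) | Tbar v = v}.Finite := H8SigFin.finite_fixed Tbar h2 h3 hfin
    have hsub : {m : M | T m = m} ⊆
        ⋃ v ∈ {v : M ⧸ (Nsub R M) | Tbar v = v}, {m : M | T m = m ∧ Submodule.Quotient.mk m = v} := by
      intro m hm
      have hm' : T m = m := hm
      simp only [Set.mem_iUnion]
      refine ⟨Submodule.Quotient.mk m, ?_, hm', rfl⟩
      show T0 (Submodule.Quotient.mk m) = Submodule.Quotient.mk m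
      rw [Submodule.mapQ_apply, hm']
    refine (Set.Finite.biUnion hfinV ?_).subset hsub
    intro v _
    by_cases hne : ∃ m0 : M, T m0 = m0 ∧ (Submodule.Quotient.mk m0 : M ⧸ (Nsub R M)) = v
    · obtain ⟨m0, hm0, hm0v⟩ := hne
      refine (hfinN.image (fun x : (Nsub R M) => m0 + (x : M))).subset ?_
      rintro m ⟨hm, hmv⟩
      have hmem : m - m0 ∈ (Nsub R M) := by
        rw [← Submodule.Quotient.mk_eq_zero, Submodule.Quotient.mk_sub, hmv, hm0v, sub_self]
      refine ⟨⟨m - m0, hmem⟩, ?_, ?_⟩
      · apply Subtype.ext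
        show T (m - m0) = m - m0
        rw [map_sub, hm, hm0]
      · show m0 + (m - m0) = m
        abel
    · have : {m : M | T m = m ∧ (Submodule.Quotient.mk m : M ⧸ (Nsub R M)) = v} = ∅ := by
        ext m
        simp only [Set.mem_ofPred_eq, Set.mem_empty_iff_false, iff_false]
        rintro ⟨h1, h2⟩
        exact hne ⟨m, h1, h2⟩
      rw [this]
      exact Set.finite_empty

theorem finite_fixed_local (n : ℕ) (hn : (p : R) ^ n = 0)
    (M : Type*) [AddCommGroup M] [Module R M] [Module.Finite R M] (T : M →ₛₗ[σ] M) :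
    {m : M | T m = m}.Finite := by
  apply finite_fixed_aux p R hmax σ σbar hσbar h2 h3 hfin n M T
  intro m
  rw [hn, zero_smul]

end Local

end H8SigFin
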