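import Mathlib
import Groth.Agent.H8Lift
import Groth.Agent.H8SigFin

set_option autoImplicit false
set_option linter.unusedSectionVars false

namespace H8LiftBasis

open H8SigFin

variable (R : Type*) [CommRing R] [IsLocalRing R] (π : R)
  (hmax : IsLocalRing.maximalIdeal R = Ideal.span {π})
  [IsAdicComplete (Ideal.span {π}) R]
  (σ : R →+* R) (hσπ : σ π = π)
  (σbar : IsLocalRing.ResidueField R →+* IsLocalRing.ResidueField R)
  (hσbar : ∀ r : R, σbar (IsLocalRing.residue R r) = IsLocalRing.residue R (σ r))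
  (h2 : ∀ (n : ℕ) (b : Fin (n + 1) → IsLocalRing.ResidueField R), b ≠ 0 →
    ∃ x : IsLocalRing.ResidueField R, x ≠ 0 ∧
      x = ∑ i : Fin (n + 1), (⇑σbar)^[i.val + 1] x * (⇑σbar)^[i.val] (b (Fin.rev i)))
  (h3 : ∀ c : IsLocalRing.ResidueField R, ∃ y : IsLocalRing.ResidueField R, σbar y - y + c = 0)

include hmax hσπ hσbar h2 h3

theorem exists_basis_fixed (M : Type*) [AddCommGroup M] [Module R M] [Module.Finite R M]
    [Module.Free R M] (T : M →ₛₗ[σ] M) (hT : Function.Surjective T) :
    ∃ (d : ℕ) (b : Module.Basis (Fin d) R M), ∀ i, T (b i) = b i := by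
  classical
  -- completeness of M
  let e0 := Module.finBasis R M
  haveI : IsAdicComplete (Ideal.span {π}) (Fin (Module.finrank R M) → R) :=
    H8Lift.isAdicComplete_pi (Ideal.span {π}) _
  haveI hcompl : IsAdicComplete (Ideal.span {π}) M :=
    H8Dec.isAdicComplete_of_retract (Ideal.span {π}) e0.equivFun.toLinearMap
      e0.equivFun.symm.toLinearMap (fun x => e0.equivFun.symm_apply_apply x)
  have hNmem : ∀ x : M, x ∈ (Nsub R M) ↔ ∃ y : M, π • y = x := by
    intro x
    show x ∈ (IsLocalRing.maximalIdeal R • ⊤ : Submodule R M) ↔ _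
    rw [hmax, Submodule.ideal_span_singleton_smul, Submodule.mem_smul_pointwise_iff_exists]
    simp
  have hTm : ∀ x ∈ (Nsub R M), T x ∈ (Nsub R M) := by
    intro x hx
    obtain ⟨y, rfl⟩ := (hNmem x).mp hx
    rw [map_smulₛₗ, hσπ]
    exact (hNmem _).mpr ⟨T y, rfl⟩
  let _ : Module (IsLocalRing.ResidueField R) (M ⧸ (Nsub R M)) :=
    inferInstanceAs (Module (R ⧸ IsLocalRing.maximalIdeal R)
      (M ⧸ (IsLocalRing.maximalIdeal R • ⊤ : Submodule R M)))
  have _ : Module.Finite (IsLocalRing.ResidueField R) (M ⧸ (Nsub R M)) :=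
    inferInstanceAs (Module.Finite (R ⧸ IsLocalRing.maximalIdeal R)
      (M ⧸ (IsLocalRing.maximalIdeal R • ⊤ : Submodule R M)))
  have hle : (Nsub R M) ≤ (Nsub R M).comap T := fun x hx => hTm x hx
  let T0 := (Nsub R M).mapQ (Nsub R M) T hle
  let Tbar : (M ⧸ (Nsub R M)) →ₛₗ[σbar] (M ⧸ (Nsub R M)) :=
    { toFun := T0
      map_add' := T0.map_add
      map_smul' := by
        intro c x
        obtain ⟨r, rfl⟩ := IsLocalRing.residue_surjective c
        obtain ⟨y, rfl⟩ := Submodule.Quotient.mk_surjective _ x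
        show T0 (Submodule.Quotient.mk (r • y)) =
          σbar (IsLocalRing.residue R r) • T0 (Submodule.Quotient.mk y)
        rw [hσbar, Submodule.mapQ_apply, Submodule.mapQ_apply, map_smulₛₗ]
        rfl }
  have hTbar : ∀ m : M, Tbar (Submodule.Quotient.mk m) = Submodule.Quotient.mk (T m) :=
    fun m => rfl
  have hsmul : ∀ (r : R) (m : M), (IsLocalRing.residue R r) •
      (Submodule.Quotient.mk m : M ⧸ (Nsub R M)) = Submodule.Quotient.mk (r • m) := fun r m => rfl
  have h1 : Submodule.span (IsLocalRing.ResidueField R) (Set.range ⇑Tbar) = ⊤ := by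
    have : Set.range ⇑Tbar = Set.univ := by
      apply Function.Surjective.range_eq
      intro v
      obtain ⟨m, rfl⟩ := Submodule.Quotient.mk_surjective _ v
      obtain ⟨m', rfl⟩ := hT m
      exact ⟨Submodule.Quotient.mk m', hTbar m'⟩
    rw [this, Submodule.span_univ]
  obtain ⟨⟨bbar, hbbar⟩, hsurjV⟩ := H8Sig.exists_basis_fixed Tbar h1 h2 h3
  have hS : ∀ d : M, ∃ x y : M, d = (x - T x) + π • y := by
    intro d
    obtain ⟨xq, hxq⟩ := hsurjV (Submodule.Quotient.mk d)
    obtain ⟨x, rfl⟩ := Submodule.Quotient.mk_surjective _ xq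
    have hxq' : (Submodule.Quotient.mk x : M ⧸ (Nsub R M)) - Tbar (Submodule.Quotient.mk x) =
        Submodule.Quotient.mk d := hxq
    have hmem : d - (x - T x) ∈ Nsub R M := by
      rw [← Submodule.Quotient.mk_eq_zero, Submodule.Quotient.mk_sub, ← hxq',
        Submodule.Quotient.mk_sub, hTbar, sub_self]
    obtain ⟨y, hy⟩ := (hNmem _).mp hmem
    refine ⟨x, y, ?_⟩
    rw [hy]; abel
  have hliftfix : ∀ v : M ⧸ (Nsub R M), Tbar v = v →
      ∃ m : M, T m = m ∧ (Submodule.Quotient.mk m : M ⧸ (Nsub R M)) = v := by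
    intro v hv
    obtain ⟨m, rfl⟩ := Submodule.Quotient.mk_surjective _ v
    have hmem : T m - m ∈ Nsub R M := by
      rw [← Submodule.Quotient.mk_eq_zero, Submodule.Quotient.mk_sub, ← hTbar, hv, sub_self]
    obtain ⟨d0, hd0⟩ := (hNmem _).mp hmem
    obtain ⟨m', z, hm', hz⟩ := H8Lift.lift_fixed π σ hσπ T hS m d0 hd0.symm
    refine ⟨m', hm', ?_⟩
    have : m' = m + π • z := by rw [← hz]; abel
    rw [this, Submodule.Quotient.mk_add, (Submodule.Quotient.mk_eq_zero _).mpr
      ((hNmem _).mpr ⟨z, rfl⟩), add_zero]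
  choose b hb1 hb2 using fun i => hliftfix (bbar i) (hbbar i)
  -- b spans M
  have hspan : Submodule.span R (Set.range b) = ⊤ := by
    rw [eq_top_iff]
    apply Submodule.le_of_le_smul_of_le_jacobson_bot (I := IsLocalRing.maximalIdeal R)
      Module.Finite.fg_top
      (IsLocalRing.jacobson_eq_maximalIdeal (⊥ : Ideal R) bot_ne_top).ge
    intro m _
    have hrepr := bbar.sum_repr (Submodule.Quotient.mk m)
    choose c hc using fun i => IsLocalRing.residue_surjective (bbar.repr (Submodule.Quotient.mk m) i)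
    have hmem : m - ∑ i, c i • b i ∈ Nsub R M := by
      rw [← Submodule.Quotient.mk_eq_zero, Submodule.Quotient.mk_sub, sub_eq_zero]
      have : (Submodule.Quotient.mk (∑ i, c i • b i) : M ⧸ (Nsub R M)) =
          ∑ i, (Submodule.Quotient.mk (c i • b i) : M ⧸ (Nsub R M)) :=
        map_sum (Submodule.mkQ (Nsub R M)) _ _
      rw [this, ← hrepr]
      apply Finset.sum_congr rfl
      intro i _
      rw [← hsmul, hc i, hb2 i]
    have hm : m = ∑ i, c i • b i + (m - ∑ i, c i • b i) := by abel
    rw [hm]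
    apply Submodule.add_mem_sup
    · apply Submodule.sum_mem
      intro i _
      exact Submodule.smul_mem _ _ (Submodule.subset_span ⟨i, rfl⟩)
    · exact hmem
  -- ranks
  have hr1 : Module.finrank R M ≤ Module.finrank (IsLocalRing.ResidueField R) (M ⧸ (Nsub R M)) := by
    have := finrank_le_of_span_eq_top hspan
    simpa using this
  have hr2 : Module.finrank (IsLocalRing.ResidueField R) (M ⧸ (Nsub R M)) ≤ Module.finrank R M := by
    have hsp : Submodule.span (IsLocalRing.ResidueField R)
        (Set.range (fun i => (Submodule.Quotient.mk (e0 i) : M ⧸ (Nsub R M)))) = ⊤ := by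
      rw [eq_top_iff]
      intro v _
      obtain ⟨m, rfl⟩ := Submodule.Quotient.mk_surjective _ v
      have hm := e0.sum_repr m
      rw [← hm]
      have : (Submodule.Quotient.mk (∑ i, e0.repr m i • e0 i) : M ⧸ (Nsub R M)) =
          ∑ i, (Submodule.Quotient.mk (e0.repr m i • e0 i) : M ⧸ (Nsub R M)) :=
        map_sum (Submodule.mkQ (Nsub R M)) _ _
      rw [this]
      apply Submodule.sum_mem
      intro i _
      rw [← hsmul]
      exact Submodule.smul_mem _ _ (Submodule.subset_span ⟨i, rfl⟩)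
    have := finrank_le_of_span_eq_top hsp
    simpa using this
  have hcard : Fintype.card (Fin (Module.finrank (IsLocalRing.ResidueField R) (M ⧸ (Nsub R M)))) =
      Module.finrank R M := by
    rw [Fintype.card_fin]
    omega
  refine ⟨_, basisOfTopLeSpanOfCardEqFinrank b hspan.ge hcard, ?_⟩
  intro i
  rw [coe_basisOfTopLeSpanOfCardEqFinrank]
  exact hb1 i

end H8LiftBasis
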