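import Mathlib
import Groth.Prelude.Def_W4swconnpcurvhiggsLogLam

set_option autoImplicit false
universe v u

open TensorProduct

namespace H8LogConn

variable {A : Type v} {B L E : Type u} [CommRing A] [CommRing B] [Algebra A B]
  [AddCommGroup L] [Module B L] [Module A L] [IsScalarTower A B L]
  [AddCommGroup E] [Module B E] [Module A E] [IsScalarTower A B E]
  {n : ℕ}

/-- `θ_i(b) = ω_i^*(ι(db))`. -/
noncomputable def θ (ω : Module.Basis (Fin n) B L) (ι : KaehlerDifferential A B →ₗ[B] L)
    (i : Fin n) (b : B) : B := ω.coord i (ι (KaehlerDifferential.D A B b))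

theorem θ_mul (ω : Module.Basis (Fin n) B L) (ι : KaehlerDifferential A B →ₗ[B] L)
    (i : Fin n) (b c : B) : θ ω ι i (b * c) = b * θ ω ι i c + c * θ ω ι i b := by
  unfold θ
  rw [Derivation.leibniz, map_add, map_add, map_smul, map_smul, map_smul, map_smul, smul_eq_mul,
    smul_eq_mul]

theorem θ_t (ω : Module.Basis (Fin n) B L) (ι : KaehlerDifferential A B →ₗ[B] L) (t : Fin n → B)
    (hι : ∀ i, ι (KaehlerDifferential.D A B (t i)) = t i • ω i) (i k : Fin n) (hik : i ≠ k) :
    θ ω ι i (t k) = 0 := by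
  unfold θ
  rw [hι, map_smul, Module.Basis.coord_apply, Module.Basis.repr_self, Finsupp.single_eq_of_ne hik,
    smul_zero]

theorem θ_one (ω : Module.Basis (Fin n) B L) (ι : KaehlerDifferential A B →ₗ[B] L) (i : Fin n) :
    θ ω ι i 1 = 0 := by
  unfold θ
  rw [Derivation.map_one_eq_zero, map_zero, map_zero]

theorem θ_prod (ω : Module.Basis (Fin n) B L) (ι : KaehlerDifferential A B →ₗ[B] L) (t : Fin n → B)
    (hι : ∀ i, ι (KaehlerDifferential.D A B (t i)) = t i • ω i) (i : Fin n) (S : Finset (Fin n))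
    (hi : i ∉ S) : θ ω ι i (∏ k ∈ S, t k) = 0 := by
  classical
  induction S using Finset.induction_on with
  | empty => rw [Finset.prod_empty, θ_one]
  | insert a s ha ih =>
    rw [Finset.prod_insert ha, θ_mul, ih (fun h => hi (Finset.mem_insert_of_mem h)),
      θ_t ω ι t hι i a (fun h => hi (h ▸ Finset.mem_insert_self _ _)), mul_zero, mul_zero, add_zero]

theorem θ_dvd (ω : Module.Basis (Fin n) B L) (ι : KaehlerDifferential A B →ₗ[B] L) (t : Fin n → B)
    (bΩ : Module.Basis (Fin n) B (KaehlerDifferential A B))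
    (hbΩ : ∀ i, bΩ i = KaehlerDifferential.D A B (t i))
    (hι : ∀ i, ι (KaehlerDifferential.D A B (t i)) = t i • ω i) (i : Fin n) (b : B) :
    ∃ c, θ ω ι i b = t i * c := by
  classical
  refine ⟨bΩ.repr (KaehlerDifferential.D A B b) i, ?_⟩
  unfold θ
  conv_lhs => rw [← bΩ.sum_repr (KaehlerDifferential.D A B b)]
  rw [map_sum, map_sum, Finset.sum_eq_single i]
  · rw [map_smul, map_smul, hbΩ, hι, map_smul, Module.Basis.coord_apply, Module.Basis.repr_self,
      Finsupp.single_eq_same, smul_eq_mul, smul_eq_mul, mul_one, mul_comm]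
  · intro j _ hji
    rw [map_smul, map_smul, hbΩ, hι, map_smul, Module.Basis.coord_apply, Module.Basis.repr_self,
      Finsupp.single_eq_of_ne hji.symm, smul_zero, smul_zero]
  · intro h; exact absurd (Finset.mem_univ i) h

theorem comp_smul (lam : B) (ω : Module.Basis (Fin n) B L) (ι : KaehlerDifferential A B →ₗ[B] L)
    (nabla : E →ₗ[A] E ⊗[B] L)
    (hc : Conn.IsLamConn (ι.compDer (KaehlerDifferential.D A B)) lam nabla)
    (i : Fin n) (b : B) (e : E) :
    LogConn.comp nabla ω i (b • e) = b • LogConn.comp nabla ω i e + (lam * θ ω ι i b) • e := by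
  unfold LogConn.comp
  rw [Conn.along_apply, Conn.along_apply, hc, map_add, map_add, map_smul, map_smul, map_smul,
    map_smul, TensorProduct.map_tmul, TensorProduct.rid_tmul, mul_smul]
  rfl

theorem compProd_empty (ω : Module.Basis (Fin n) B L) (nabla : E →ₗ[A] E ⊗[B] L) :
    LogConn.compProd nabla ω ∅ = LinearMap.id := by
  unfold LogConn.compProd
  rw [Finset.sort_empty]
  rfl

theorem compProd_insert (ω : Module.Basis (Fin n) B L) (nabla : E →ₗ[A] E ⊗[B] L)
    (a : Fin n) (s : Finset (Fin n)) (h : ∀ x ∈ s, a < x) :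
    LogConn.compProd nabla ω (insert a s) = LogConn.comp nabla ω a ∘ₗ LogConn.compProd nabla ω s := by
  unfold LogConn.compProd
  rw [Finset.sort_insert (r := (· ≤ ·)) (fun b hb => (h b hb).le)
    (fun ha => lt_irrefl a (h a ha))]
  rfl

theorem mem_piece (ω : Module.Basis (Fin n) B L) (nabla : E →ₗ[A] E ⊗[B] L) (t : Fin n → B)
    (I J : Finset (Fin n)) (hJ : J ⊆ I) (e : E) :
    (∏ i ∈ I \ J, t i) • LogConn.compProd nabla ω J e ∈ LogConn.piece nabla ω t I := by
  unfold LogConn.piece
  have h1 : LinearMap.range (((LinearMap.lsmul B E (∏ i ∈ I \ J, t i)).restrictScalars A) ∘ₗ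
      LogConn.compProd nabla ω J) ≤ ⨆ J ∈ I.powerset,
    LinearMap.range (((LinearMap.lsmul B E (∏ i ∈ I \ J, t i)).restrictScalars A) ∘ₗ
      LogConn.compProd nabla ω J) :=
    le_iSup₂_of_le J (Finset.mem_powerset.mpr hJ) le_rfl
  exact h1 ⟨e, rfl⟩

/-- To show an `A`-linear map sends `piece I` into a submodule, check on generators. -/
theorem piece_le_comap (ω : Module.Basis (Fin n) B L) (nabla : E →ₗ[A] E ⊗[B] L) (t : Fin n → B)
    (I : Finset (Fin n)) (f : E →ₗ[A] E) (P : Submodule A E)
    (h : ∀ J, J ⊆ I → ∀ e : E, f ((∏ i ∈ I \ J, t i) • LogConn.compProd nabla ω J e) ∈ P) :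
    LogConn.piece nabla ω t I ≤ P.comap f := by
  unfold LogConn.piece
  apply iSup₂_le
  intro J hJ
  rintro _ ⟨e, rfl⟩
  exact h J (Finset.mem_powerset.mp hJ) e

/-- multiplication by `t_{I∖J}` sends `piece J` into `piece I`. -/
theorem smul_piece (ω : Module.Basis (Fin n) B L) (nabla : E →ₗ[A] E ⊗[B] L) (t : Fin n → B)
    (I J : Finset (Fin n)) (hJ : J ⊆ I) (x : E) (hx : x ∈ LogConn.piece nabla ω t J) :
    (∏ i ∈ I \ J, t i) • x ∈ LogConn.piece nabla ω t I := by
  classical
  have := piece_le_comap ω nabla t J ((LinearMap.lsmul B E (∏ i ∈ I \ J, t i)).restrictScalars A)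
    (LogConn.piece nabla ω t I) (by
      intro K hK e
      show (∏ i ∈ I \ J, t i) • ((∏ i ∈ J \ K, t i) • LogConn.compProd nabla ω K e) ∈ _
      rw [← mul_smul, ← Finset.prod_union (by
        rw [Finset.disjoint_left]
        intro a ha ha'
        exact (Finset.mem_sdiff.mp ha).2 (Finset.mem_sdiff.mp ha').1)]
      have : I \ J ∪ J \ K = I \ K := by
        ext a
        simp only [Finset.mem_union, Finset.mem_sdiff]
        constructor
        · rintro (⟨h1, h2⟩ | ⟨h1, h2⟩)
          · exact ⟨h1, fun h => h2 (hK h)⟩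
          · exact ⟨hJ h1, h2⟩
        · rintro ⟨h1, h2⟩
          by_cases h : a ∈ J
          · exact Or.inr ⟨h, h2⟩
          · exact Or.inl ⟨h1, h⟩
      rw [this]
      exact mem_piece ω nabla t I K (hK.trans hJ) e)
  exact this hx

/-- `∇_a` sends `piece J'` into `piece (insert a J')` when `a` is below `J'`. -/
theorem comp_piece (lam : B) (ω : Module.Basis (Fin n) B L) (ι : KaehlerDifferential A B →ₗ[B] L)
    (t : Fin n → B) (hι : ∀ i, ι (KaehlerDifferential.D A B (t i)) = t i • ω i)
    (nabla : E →ₗ[A] E ⊗[B] L)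
    (hc : Conn.IsLamConn (ι.compDer (KaehlerDifferential.D A B)) lam nabla)
    (a : Fin n) (J : Finset (Fin n)) (ha : ∀ x ∈ J, a < x) (x : E)
    (hx : x ∈ LogConn.piece nabla ω t J) :
    LogConn.comp nabla ω a x ∈ LogConn.piece nabla ω t (insert a J) := by
  classical
  have haJ : a ∉ J := fun h => lt_irrefl a (ha a h)
  have := piece_le_comap ω nabla t J (LogConn.comp nabla ω a)
    (LogConn.piece nabla ω t (insert a J)) (by
      intro K hK e
      have haK : a ∉ K := fun h => haJ (hK h)
      rw [comp_smul lam ω ι nabla hc, θ_prod ω ι t hι a (J \ K)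
        (fun h => haJ (Finset.mem_sdiff.mp h).1), mul_zero, zero_smul, add_zero]
      have h1 : LogConn.comp nabla ω a (LogConn.compProd nabla ω K e) =
          LogConn.compProd nabla ω (insert a K) e := by
        rw [compProd_insert ω nabla a K (fun x hx => ha x (hK hx))]
        rfl
      have h2 : J \ K = insert a J \ insert a K := by
        ext b
        simp only [Finset.mem_sdiff, Finset.mem_insert]
        constructor
        · rintro ⟨h1, h2⟩
          refine ⟨Or.inr h1, ?_⟩
          rintro (h | h)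
          · exact haJ (h ▸ h1)
          · exact h2 h
        · rintro ⟨h1 | h1, h2⟩
          · exact absurd (Or.inl h1) h2
          · exact ⟨h1, fun h => h2 (Or.inr h)⟩
      rw [h1, h2]
      exact mem_piece ω nabla t (insert a J) (insert a K) (Finset.insert_subset_insert a hK) e)
  exact this hx

/-- Lemma A: `b • ∇_J e ∈ piece J`. -/
theorem smul_compProd_mem (lam : B) (ω : Module.Basis (Fin n) B L)
    (ι : KaehlerDifferential A B →ₗ[B] L) (t : Fin n → B)
    (bΩ : Module.Basis (Fin n) B (KaehlerDifferential A B))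
    (hbΩ : ∀ i, bΩ i = KaehlerDifferential.D A B (t i))
    (hι : ∀ i, ι (KaehlerDifferential.D A B (t i)) = t i • ω i)
    (nabla : E →ₗ[A] E ⊗[B] L)
    (hc : Conn.IsLamConn (ι.compDer (KaehlerDifferential.D A B)) lam nabla)
    (J : Finset (Fin n)) : ∀ (b : B) (e : E),
    b • LogConn.compProd nabla ω J e ∈ LogConn.piece nabla ω t J := by
  classical
  induction J using Finset.induction_on_min with
  | empty =>
    intro b e
    have := mem_piece ω nabla t ∅ ∅ (Finset.Subset.refl _) (b • e)
    rw [compProd_empty] at this ⊢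
    simpa using this
  | insert a J ha ih =>
    intro b e
    have haJ : a ∉ J := fun h => lt_irrefl a (ha a h)
    rw [compProd_insert ω nabla a J ha, LinearMap.comp_apply]
    obtain ⟨c, hcθ⟩ := θ_dvd ω ι t bΩ hbΩ hι a b
    have h1 := comp_smul lam ω ι nabla hc a b (LogConn.compProd nabla ω J e)
    have h2 : b • LogConn.comp nabla ω a (LogConn.compProd nabla ω J e) =
        LogConn.comp nabla ω a (b • LogConn.compProd nabla ω J e) -
          t a • ((lam * c) • LogConn.compProd nabla ω J e) := by
      rw [h1, hcθ, ← mul_smul, mul_left_comm]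
      abel
    rw [h2]
    apply Submodule.sub_mem
    · exact comp_piece lam ω ι t hι nabla hc a J ha _ (ih b e)
    · have h3 := smul_piece ω nabla t (insert a J) J (Finset.subset_insert a J) _ (ih (lam * c) e)
      have h4 : insert a J \ J = {a} := by
        ext b
        simp only [Finset.mem_sdiff, Finset.mem_insert, Finset.mem_singleton]
        constructor
        · rintro ⟨h1 | h1, h2⟩
          · exact h1
          · exact absurd h1 h2
        · intro h
          exact ⟨Or.inl h, h ▸ haJ⟩
      rw [h4, Finset.prod_singleton] at h3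
      exact h3

/-- `piece I` is stable under `B`. -/
theorem smul_mem_piece (lam : B) (ω : Module.Basis (Fin n) B L)
    (ι : KaehlerDifferential A B →ₗ[B] L) (t : Fin n → B)
    (bΩ : Module.Basis (Fin n) B (KaehlerDifferential A B))
    (hbΩ : ∀ i, bΩ i = KaehlerDifferential.D A B (t i))
    (hι : ∀ i, ι (KaehlerDifferential.D A B (t i)) = t i • ω i)
    (nabla : E →ₗ[A] E ⊗[B] L)
    (hc : Conn.IsLamConn (ι.compDer (KaehlerDifferential.D A B)) lam nabla)
    (I : Finset (Fin n)) (b : B) (x : E) (hx : x ∈ LogConn.piece nabla ω t I) :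
    b • x ∈ LogConn.piece nabla ω t I := by
  have := piece_le_comap ω nabla t I ((LinearMap.lsmul B E b).restrictScalars A)
    (LogConn.piece nabla ω t I) (by
      intro J hJ e
      show b • ((∏ i ∈ I \ J, t i) • LogConn.compProd nabla ω J e) ∈ _
      rw [smul_comm]
      exact smul_piece ω nabla t I J hJ _ (smul_compProd_mem lam ω ι t bΩ hbΩ hι nabla hc J b e))
  exact this hx

theorem prod_sdiff_mul (t : Fin n → B) (I J K : Finset (Fin n)) (hJ : J ⊆ I) (hK : K ⊆ J) :
    (∏ i ∈ I \ J, t i) * (∏ i ∈ J \ K, t i) = ∏ i ∈ I \ K, t i := by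
  classical
  rw [← Finset.prod_union (by
    rw [Finset.disjoint_left]
    intro a ha ha'
    exact (Finset.mem_sdiff.mp ha).2 (Finset.mem_sdiff.mp ha').1)]
  have : I \ J ∪ J \ K = I \ K := by
    ext a
    simp only [Finset.mem_union, Finset.mem_sdiff]
    constructor
    · rintro (⟨h1, h2⟩ | ⟨h1, h2⟩)
      · exact ⟨h1, fun h => h2 (hK h)⟩
      · exact ⟨hJ h1, h2⟩
    · rintro ⟨h1, h2⟩
      by_cases h : a ∈ J
      · exact Or.inr ⟨h, h2⟩
      · exact Or.inl ⟨h1, h⟩
  rw [this]

/-- The `B`-span of the `t_{J∖K} ∇_K e`, `K ⊆ J`. -/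
noncomputable def G (ω : Module.Basis (Fin n) B L) (nabla : E →ₗ[A] E ⊗[B] L) (t : Fin n → B)
    (J : Finset (Fin n)) (e : E) : Submodule B E :=
  Submodule.span B {x | ∃ K, K ⊆ J ∧ x = (∏ i ∈ J \ K, t i) • LogConn.compProd nabla ω K e}

theorem G_step (lam : B) (ω : Module.Basis (Fin n) B L)
    (ι : KaehlerDifferential A B →ₗ[B] L) (t : Fin n → B)
    (bΩ : Module.Basis (Fin n) B (KaehlerDifferential A B))
    (hbΩ : ∀ i, bΩ i = KaehlerDifferential.D A B (t i))
    (hι : ∀ i, ι (KaehlerDifferential.D A B (t i)) = t i • ω i)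
    (nabla : E →ₗ[A] E ⊗[B] L)
    (hc : Conn.IsLamConn (ι.compDer (KaehlerDifferential.D A B)) lam nabla)
    (a : Fin n) (J : Finset (Fin n)) (ha : ∀ x ∈ J, a < x) (e x : E)
    (hx : x ∈ G ω nabla t J e) :
    LogConn.comp nabla ω a x ∈ G ω nabla t (insert a J) e ∧
      t a • x ∈ G ω nabla t (insert a J) e := by
  classical
  have haJ : a ∉ J := fun h => lt_irrefl a (ha a h)
  unfold G at hx
  induction hx using Submodule.span_induction with
  | mem x hx =>
    obtain ⟨K, hK, rfl⟩ := hx
    have haK : a ∉ K := fun h => haJ (hK h)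
    constructor
    · rw [comp_smul lam ω ι nabla hc, θ_prod ω ι t hι a (J \ K)
        (fun h => haJ (Finset.mem_sdiff.mp h).1), mul_zero, zero_smul, add_zero]
      apply Submodule.subset_span
      refine ⟨insert a K, Finset.insert_subset_insert a hK, ?_⟩
      have h1 : LogConn.comp nabla ω a (LogConn.compProd nabla ω K e) =
          LogConn.compProd nabla ω (insert a K) e := by
        rw [compProd_insert ω nabla a K (fun x hx => ha x (hK hx))]
        rfl
      have h2 : J \ K = insert a J \ insert a K := by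
        ext b
        simp only [Finset.mem_sdiff, Finset.mem_insert]
        constructor
        · rintro ⟨h1, h2⟩
          refine ⟨Or.inr h1, ?_⟩
          rintro (h | h)
          · exact haJ (h ▸ h1)
          · exact h2 h
        · rintro ⟨h1 | h1, h2⟩
          · exact absurd (Or.inl h1) h2
          · exact ⟨h1, fun h => h2 (Or.inr h)⟩
      rw [h1, h2]
    · apply Submodule.subset_span
      refine ⟨K, hK.trans (Finset.subset_insert a J), ?_⟩
      rw [Finset.insert_sdiff_of_notMem _ haK, Finset.prod_insert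
        (fun h => haJ (Finset.mem_sdiff.mp h).1), mul_smul]
  | zero =>
    constructor
    · rw [map_zero]; exact Submodule.zero_mem _
    · rw [smul_zero]; exact Submodule.zero_mem _
  | add x y _ _ hx hy =>
    constructor
    · rw [map_add]; exact Submodule.add_mem _ hx.1 hy.1
    · rw [smul_add]; exact Submodule.add_mem _ hx.2 hy.2
  | smul c x _ hx =>
    constructor
    · obtain ⟨c', hc'⟩ := θ_dvd ω ι t bΩ hbΩ hι a c
      rw [comp_smul lam ω ι nabla hc, hc', mul_left_comm, mul_smul, smul_comm (t a)]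
      exact Submodule.add_mem _ (Submodule.smul_mem _ _ hx.1) (Submodule.smul_mem _ _ hx.2)
    · rw [smul_comm]
      exact Submodule.smul_mem _ _ hx.2

/-- Lemma B: `∇_J (b • e) ∈ G J e`. -/
theorem compProd_smul_mem (lam : B) (ω : Module.Basis (Fin n) B L)
    (ι : KaehlerDifferential A B →ₗ[B] L) (t : Fin n → B)
    (bΩ : Module.Basis (Fin n) B (KaehlerDifferential A B))
    (hbΩ : ∀ i, bΩ i = KaehlerDifferential.D A B (t i))
    (hι : ∀ i, ι (KaehlerDifferential.D A B (t i)) = t i • ω i)
    (nabla : E →ₗ[A] E ⊗[B] L)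
    (hc : Conn.IsLamConn (ι.compDer (KaehlerDifferential.D A B)) lam nabla)
    (J : Finset (Fin n)) (b : B) (e : E) :
    LogConn.compProd nabla ω J (b • e) ∈ G ω nabla t J e := by
  classical
  induction J using Finset.induction_on_min with
  | empty =>
    rw [compProd_empty]
    apply Submodule.smul_mem
    apply Submodule.subset_span
    refine ⟨∅, Finset.Subset.refl _, ?_⟩
    rw [compProd_empty]
    simp
  | insert a J ha ih =>
    rw [compProd_insert ω nabla a J ha, LinearMap.comp_apply]
    exact (G_step lam ω ι t bΩ hbΩ hι nabla hc a J ha e _ ih).1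

end H8LogConn
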