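import Mathlib
import Groth.Prelude.Def_W4swconnpcurvhiggsLogLam
import Groth.Prelude.Def_LogDiff
import Groth.Agent.H8LogConn

set_option autoImplicit false
universe v u

open TensorProduct

namespace H8LogConn

variable {A : Type v} {B L E : Type u} [CommRing A] [CommRing B] [Algebra A B]
  [AddCommGroup L] [Module B L] [Module A L] [IsScalarTower A B L]
  [AddCommGroup E] [Module B E] [Module A E] [IsScalarTower A B E]
  {n : ℕ}

/-- basis expansion in `E ⊗ F` for a finite basis of `F`. -/
theorem tensor_basis_expansion {F : Type*} [AddCommGroup F] [Module B F] {κ : Type*} [Fintype κ]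
    (b : Module.Basis κ B F) (x : E ⊗[B] F) :
    x = ∑ k, (TensorProduct.rid B E (TensorProduct.map LinearMap.id (b.coord k) x)) ⊗ₜ[B] b k := by
  induction x using TensorProduct.induction_on with
  | zero => simp
  | add x y hx hy =>
    conv_lhs => rw [hx, hy, ← Finset.sum_add_distrib]
    apply Finset.sum_congr rfl
    intro k _
    rw [map_add, map_add, TensorProduct.add_tmul]
  | tmul e f =>
    conv_lhs => rw [← b.sum_repr f, TensorProduct.tmul_sum]
    apply Finset.sum_congr rfl
    intro k _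
    rw [TensorProduct.map_tmul, TensorProduct.rid_tmul, TensorProduct.tmul_smul,
      TensorProduct.smul_tmul']
    rfl

theorem nabla_expansion (ω : Module.Basis (Fin n) B L) (nabla : E →ₗ[A] E ⊗[B] L) (y : E) :
    nabla y = ∑ j, (LogConn.comp nabla ω j y) ⊗ₜ[B] ω j :=
  tensor_basis_expansion ω (nabla y)

theorem layer_expansion (ω : Module.Basis (Fin n) B L) (p : ℕ) (x : E ⊗[B] ↥(⋀[B]^p L)) :
    x = ∑ K : Set.powersetCard (Fin n) p,
      (LogConn.coordE (E := E) ω p K x) ⊗ₜ[B] (ω.exteriorPower p K) :=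
  tensor_basis_expansion (ω.exteriorPower p) x

theorem coordE_tmul (ω : Module.Basis (Fin n) B L) (p : ℕ) (K : Set.powersetCard (Fin n) p)
    (y : E) (η : ↥(⋀[B]^p L)) :
    LogConn.coordE (E := E) ω p K (y ⊗ₜ[B] η) = (ω.exteriorPower p).coord K η • y := by
  unfold LogConn.coordE
  rw [LinearMap.comp_apply, TensorProduct.map_tmul, LinearEquiv.coe_coe, TensorProduct.rid_tmul]
  rfl

/-- `twedge` of an expanded element. -/
theorem twedge_toOne_sum (ω : Module.Basis (Fin n) B L) (p : ℕ) (c : Fin n → E)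
    (η : ↥(⋀[B]^p L)) :
    Conn.twedge p (Conn.toOne (∑ j, c j ⊗ₜ[B] ω j)) η =
      ∑ j, c j ⊗ₜ[B] Conn.wedge p ((exteriorPower.oneEquiv B L).symm (ω j)) η := by
  rw [map_sum, map_sum, LinearMap.sum_apply]
  apply Finset.sum_congr rfl
  intro j _
  rw [Conn.toOne_tmul, Conn.twedge_tmul]

theorem d_basis_eq_zero (ω : Module.Basis (Fin n) B L) (ι : KaehlerDifferential A B →ₗ[B] L)
    (d : ∀ p : ℕ, ↥(⋀[B]^p L) →ₗ[A] ↥(⋀[B]^(p + 1) L))
    (hd : LogDiff.IsLogRule (KaehlerDifferential.D A B) ι (⇑ω) d) (p : ℕ)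
    (K : Set.powersetCard (Fin n) p) : d p (ω.exteriorPower p K) = 0 := by
  rw [exteriorPower.basis_apply]
  have h := hd p 1 (ω ∘ (Set.powersetCard.ofFinEmbEquiv.symm K)) (fun k => Or.inr ⟨_, rfl⟩)
  rw [one_smul] at h
  unfold exteriorPower.ιMulti_family
  rw [h, Derivation.map_one_eq_zero, map_zero]
  exact (exteriorPower.ιMulti B (p + 1)).map_coord_zero 0 (by simp)

theorem nablas_tmul_basis (lam : B) (ω : Module.Basis (Fin n) B L)
    (ι : KaehlerDifferential A B →ₗ[B] L) (nabla : E →ₗ[A] E ⊗[B] L)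
    (d : ∀ p : ℕ, ↥(⋀[B]^p L) →ₗ[A] ↥(⋀[B]^(p + 1) L))
    (hd : LogDiff.IsLogRule (KaehlerDifferential.D A B) ι (⇑ω) d)
    (nablas : ∀ p : ℕ, E ⊗[B] ↥(⋀[B]^p L) →ₗ[A] E ⊗[B] ↥(⋀[B]^(p + 1) L))
    (hrule : Conn.IsCxRule nabla (fun p => lam • d p) nablas) (p : ℕ)
    (K : Set.powersetCard (Fin n) p) (y : E) :
    nablas p (y ⊗ₜ[B] (ω.exteriorPower p K)) =
      ∑ j, (LogConn.comp nabla ω j y) ⊗ₜ[B]
        Conn.wedge p ((exteriorPower.oneEquiv B L).symm (ω j)) (ω.exteriorPower p K) := by
  rw [hrule p y (ω.exteriorPower p K)]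
  have h0 : (lam • d p) (ω.exteriorPower p K) = 0 := by
    rw [LinearMap.smul_apply, d_basis_eq_zero ω ι d hd, smul_zero]
  rw [h0, TensorProduct.tmul_zero, add_zero, nabla_expansion ω nabla y, twedge_toOne_sum]

theorem wedge_basis (ω : Module.Basis (Fin n) B L) (p : ℕ) (j : Fin n)
    (K : Set.powersetCard (Fin n) p) :
    Conn.wedge p ((exteriorPower.oneEquiv B L).symm (ω j)) (ω.exteriorPower p K) =
      exteriorPower.ιMulti B (p + 1)
        (ω ∘ (Fin.cons j (Set.powersetCard.ofFinEmbEquiv.symm K) : Fin (p + 1) → Fin n)) := by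
  apply Subtype.ext
  rw [Conn.wedge_apply_coe, exteriorPower.oneEquiv_symm_apply, exteriorPower.ιMulti_apply_coe,
    exteriorPower.ιMulti_apply_coe, exteriorPower.basis_apply]
  unfold exteriorPower.ιMulti_family
  rw [exteriorPower.ιMulti_apply_coe, ExteriorAlgebra.ιMulti_succ_apply,
    ExteriorAlgebra.ιMulti_succ_apply, ExteriorAlgebra.ιMulti_zero_apply, mul_one]
  congr 1

/-- the coefficient of `ω_{K'}` in `ω_j ∧ ω_K` vanishes unless `K' = insert j K`, `j ∉ K`. -/
theorem coord_wedge_basis_ne_zero (ω : Module.Basis (Fin n) B L) (p : ℕ) (j : Fin n)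
    (K : Set.powersetCard (Fin n) p) (K' : Set.powersetCard (Fin n) (p + 1))
    (h : (ω.exteriorPower (p + 1)).coord K'
      (Conn.wedge p ((exteriorPower.oneEquiv B L).symm (ω j)) (ω.exteriorPower p K)) ≠ 0) :
    j ∉ (K : Finset (Fin n)) ∧ (K' : Finset (Fin n)) = insert j (K : Finset (Fin n)) := by
  classical
  rw [wedge_basis, exteriorPower.basis_coord, exteriorPower.ιMultiDual_apply_ιMulti] at h
  set σ : Fin (p + 1) → Fin n := Fin.cons j (Set.powersetCard.ofFinEmbEquiv.symm K) with hσ
  have hinj : Function.Injective σ := by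
    intro a a' haa'
    by_contra hne
    apply h
    apply Matrix.det_zero_of_row_eq hne
    funext b
    simp only [Matrix.of_apply, Function.comp_apply, haa']
  have hmem : ∀ a, σ a ∈ (K' : Finset (Fin n)) := by
    intro a
    by_contra hnot
    apply h
    apply Matrix.det_eq_zero_of_row_eq_zero a
    intro b
    simp only [Matrix.of_apply, Function.comp_apply, Module.Basis.coord_apply,
      Module.Basis.repr_self]
    apply Finsupp.single_eq_of_ne
    intro hb
    apply hnot
    rw [← hb]
    exact (Set.powersetCard.mem_range_ofFinEmbEquiv_symm_iff_mem K' _).mp ⟨b, rfl⟩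
  have hσ0 : σ 0 = j := rfl
  have hσs : ∀ a : Fin p, σ a.succ = Set.powersetCard.ofFinEmbEquiv.symm K a := fun a => rfl
  have hjK : j ∉ (K : Finset (Fin n)) := by
    intro hj
    obtain ⟨a, ha⟩ := (Set.powersetCard.mem_range_ofFinEmbEquiv_symm_iff_mem K j).mpr hj
    have : σ a.succ = σ 0 := by rw [hσs, hσ0, ha]
    exact Fin.succ_ne_zero a (hinj this)
  refine ⟨hjK, ?_⟩
  symm
  apply Finset.eq_of_subset_of_card_le
  · intro x hx
    rcases Finset.mem_insert.mp hx with rfl | hx
    · exact hmem 0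
    · obtain ⟨a, ha⟩ := (Set.powersetCard.mem_range_ofFinEmbEquiv_symm_iff_mem K x).mpr hx
      rw [← ha, ← hσs]
      exact hmem _
  · rw [Finset.card_insert_of_notMem hjK, Set.powersetCard.card_eq, Set.powersetCard.card_eq]

/-- singleton as an element of `powersetCard _ 1`. -/
def sing (i : Fin n) : Set.powersetCard (Fin n) 1 := ⟨{i}, Finset.card_singleton i⟩

/-- pair as an element of `powersetCard _ 2`. -/
def pair (a b : Fin n) (hab : a ≠ b) : Set.powersetCard (Fin n) 2 := ⟨{a, b}, Finset.card_pair hab⟩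

theorem emb_sing (i : Fin n) : Set.powersetCard.ofFinEmbEquiv.symm (sing i) 0 = i := by
  have h := (Set.powersetCard.mem_range_ofFinEmbEquiv_symm_iff_mem (sing i)
    (Set.powersetCard.ofFinEmbEquiv.symm (sing i) 0)).mp ⟨0, rfl⟩
  have h2 : Set.powersetCard.ofFinEmbEquiv.symm (sing i) 0 ∈ ({i} : Finset (Fin n)) := h
  exact Finset.mem_singleton.mp h2

theorem oneEquiv_symm_basis (ω : Module.Basis (Fin n) B L) (i : Fin n) :
    (exteriorPower.oneEquiv B L).symm (ω i) = ω.exteriorPower 1 (sing i) := by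
  rw [exteriorPower.oneEquiv_symm_apply, exteriorPower.basis_apply]
  unfold exteriorPower.ιMulti_family
  congr 1
  funext k
  have hk : k = 0 := Subsingleton.elim _ _
  rw [hk, Function.comp_apply, emb_sing]

theorem cons_sing_eq_emb (a b : Fin n) (hab : a < b) :
    (Fin.cons a (Set.powersetCard.ofFinEmbEquiv.symm (sing b)) : Fin 2 → Fin n) =
      Set.powersetCard.ofFinEmbEquiv.symm (pair a b hab.ne) := by
  rw [Set.powersetCard.ofFinEmbEquiv_symm_apply]
  have h1 : ∀ x : Fin 2, (Fin.cons a (Set.powersetCard.ofFinEmbEquiv.symm (sing b)) : Fin 2 → Fin n) x ∈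
      (pair a b hab.ne).val := by
    intro x
    refine Fin.cases ?_ (fun k => ?_) x
    · exact Finset.mem_insert_self a _
    · have hk : k = 0 := Subsingleton.elim _ _
      rw [Fin.cons_succ, hk, emb_sing]
      exact Finset.mem_insert_of_mem (Finset.mem_singleton_self b)
  have h2 : StrictMono (Fin.cons a (Set.powersetCard.ofFinEmbEquiv.symm (sing b)) : Fin 2 → Fin n) := by
    intro x y hxy
    have hx : x = 0 := by
      ext
      have := x.isLt; have := y.isLt; have : x.val < y.val := hxy
      simp only [Fin.val_zero]; omega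
    have hy : y = 1 := by
      ext
      have := x.isLt; have := y.isLt; have : x.val < y.val := hxy
      simp only [Fin.val_one]; omega
    subst hx hy
    show a < (Fin.cons a (Set.powersetCard.ofFinEmbEquiv.symm (sing b)) : Fin 2 → Fin n) (Fin.succ 0)
    rw [Fin.cons_succ, emb_sing]
    exact hab
  exact Finset.orderEmbOfFin_unique (pair a b hab.ne).prop h1 h2

theorem coord_pair_ab (ω : Module.Basis (Fin n) B L) (a b : Fin n) (hab : a < b) :
    (ω.exteriorPower 2).coord (pair a b hab.ne)
      (Conn.wedge 1 ((exteriorPower.oneEquiv B L).symm (ω a)) (ω.exteriorPower 1 (sing b))) = 1 := by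
  rw [wedge_basis, cons_sing_eq_emb a b hab]
  have : exteriorPower.ιMulti B 2 (ω ∘ (Set.powersetCard.ofFinEmbEquiv.symm (pair a b hab.ne))) =
      ω.exteriorPower 2 (pair a b hab.ne) := by
    rw [exteriorPower.basis_apply]
    rfl
  rw [this, Module.Basis.coord_apply, Module.Basis.repr_self, Finsupp.single_eq_same]

theorem coord_pair_ba (ω : Module.Basis (Fin n) B L) (a b : Fin n) (hab : a < b) :
    (ω.exteriorPower 2).coord (pair a b hab.ne)
      (Conn.wedge 1 ((exteriorPower.oneEquiv B L).symm (ω b)) (ω.exteriorPower 1 (sing a))) = -1 := by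
  have h1 := coord_pair_ab ω a b hab
  rw [wedge_basis] at h1 ⊢
  have hswap : (ω ∘ (Fin.cons b (Set.powersetCard.ofFinEmbEquiv.symm (sing a)) : Fin 2 → Fin n)) =
      (ω ∘ (Fin.cons a (Set.powersetCard.ofFinEmbEquiv.symm (sing b)) : Fin 2 → Fin n)) ∘
        Equiv.swap (0 : Fin 2) 1 := by
    funext x
    fin_cases x
    · show ω b = ω ((Fin.cons a (Set.powersetCard.ofFinEmbEquiv.symm (sing b)) : Fin 2 → Fin n)
        (Equiv.swap (0 : Fin 2) 1 0))
      rw [Equiv.swap_apply_left]
      show ω b = ω ((Fin.cons a (Set.powersetCard.ofFinEmbEquiv.symm (sing b)) : Fin 2 → Fin n)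
        (Fin.succ 0))
      rw [Fin.cons_succ, emb_sing]
    · show ω ((Fin.cons b (Set.powersetCard.ofFinEmbEquiv.symm (sing a)) : Fin 2 → Fin n)
        (Fin.succ 0)) = ω ((Fin.cons a (Set.powersetCard.ofFinEmbEquiv.symm (sing b)) : Fin 2 → Fin n)
        (Equiv.swap (0 : Fin 2) 1 1))
      rw [Equiv.swap_apply_right, Fin.cons_succ, emb_sing]
      rfl
  rw [hswap, AlternatingMap.map_swap _ _ (by decide : (0 : Fin 2) ≠ 1), map_neg, h1]

theorem comp_comm_of_lt (lam : B) (ω : Module.Basis (Fin n) B L)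
    (ι : KaehlerDifferential A B →ₗ[B] L) (nabla : E →ₗ[A] E ⊗[B] L)
    (d : ∀ p : ℕ, ↥(⋀[B]^p L) →ₗ[A] ↥(⋀[B]^(p + 1) L))
    (hd : LogDiff.IsLogRule (KaehlerDifferential.D A B) ι (⇑ω) d)
    (nablas : ∀ p : ℕ, E ⊗[B] ↥(⋀[B]^p L) →ₗ[A] E ⊗[B] ↥(⋀[B]^(p + 1) L))
    (hint : Conn.IsIntegrable nabla (fun p => lam • d p) nablas) (a b : Fin n) (hab : a < b)
    (m : E) :
    LogConn.comp nabla ω a (LogConn.comp nabla ω b m) =
      LogConn.comp nabla ω b (LogConn.comp nabla ω a m) := by
  classical
  have h := hint.2 m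
  rw [nabla_expansion ω nabla m, map_sum, map_sum] at h
  have h1 : ∀ i, nablas 1 (Conn.toOne ((LogConn.comp nabla ω i m) ⊗ₜ[B] ω i)) =
      ∑ j, (LogConn.comp nabla ω j (LogConn.comp nabla ω i m)) ⊗ₜ[B]
        Conn.wedge 1 ((exteriorPower.oneEquiv B L).symm (ω j)) (ω.exteriorPower 1 (sing i)) := by
    intro i
    rw [Conn.toOne_tmul, oneEquiv_symm_basis, nablas_tmul_basis lam ω ι nabla d hd nablas hint.1]
  rw [Finset.sum_congr rfl (fun i _ => h1 i)] at h
  have h2 := congrArg (LogConn.coordE (E := E) ω 2 (pair a b hab.ne)) h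
  rw [map_zero, map_sum] at h2
  simp only [map_sum, coordE_tmul] at h2
  -- evaluate the double sum
  have hzero : ∀ i j, ¬ ((i = b ∧ j = a) ∨ (i = a ∧ j = b)) →
      (ω.exteriorPower 2).coord (pair a b hab.ne)
        (Conn.wedge 1 ((exteriorPower.oneEquiv B L).symm (ω j)) (ω.exteriorPower 1 (sing i))) = 0 := by
    intro i j hij
    by_contra hne
    obtain ⟨hj, hK⟩ := coord_wedge_basis_ne_zero ω 1 j (sing i) (pair a b hab.ne) hne
    apply hij
    have hK' : ({a, b} : Finset (Fin n)) = insert j {i} := hK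
    have ha : a ∈ insert j ({i} : Finset (Fin n)) := by rw [← hK']; simp
    have hb : b ∈ insert j ({i} : Finset (Fin n)) := by rw [← hK']; simp
    simp only [Finset.mem_insert, Finset.mem_singleton] at ha hb
    rcases ha with ha | ha <;> rcases hb with hb | hb
    · exact absurd (ha.trans hb.symm) hab.ne
    · exact Or.inl ⟨hb.symm, ha.symm⟩
    · exact Or.inr ⟨ha.symm, hb.symm⟩
    · exact absurd (ha.trans hb.symm) hab.ne
  have hinner : ∀ i, ∑ j, (ω.exteriorPower 2).coord (pair a b hab.ne)
        (Conn.wedge 1 ((exteriorPower.oneEquiv B L).symm (ω j)) (ω.exteriorPower 1 (sing i))) •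
          LogConn.comp nabla ω j (LogConn.comp nabla ω i m) =
      if i = b then LogConn.comp nabla ω a (LogConn.comp nabla ω b m)
      else if i = a then - LogConn.comp nabla ω b (LogConn.comp nabla ω a m) else 0 := by
    intro i
    by_cases hib : i = b
    · subst hib
      rw [if_pos rfl, Finset.sum_eq_single a]
      · rw [coord_pair_ab ω a i hab, one_smul]
      · intro j _ hja
        rw [hzero i j (by
          rintro (⟨-, h⟩ | ⟨h, -⟩)
          · exact hja h
          · exact hab.ne h.symm), zero_smul]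
      · intro h; exact absurd (Finset.mem_univ a) h
    · rw [if_neg hib]
      by_cases hia : i = a
      · subst hia
        rw [if_pos rfl, Finset.sum_eq_single b]
        · rw [coord_pair_ba ω i b hab, neg_one_smul]
        · intro j _ hjb
          rw [hzero i j (by
            rintro (⟨h, -⟩ | ⟨-, h⟩)
            · exact hib h
            · exact hjb h), zero_smul]
        · intro h; exact absurd (Finset.mem_univ b) h
      · rw [if_neg hia]
        apply Finset.sum_eq_zero
        intro j _
        rw [hzero i j (by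
          rintro (⟨h, -⟩ | ⟨h, -⟩)
          · exact hib h
          · exact hia h), zero_smul]
  rw [Finset.sum_congr rfl (fun i _ => hinner i)] at h2
  rw [Finset.sum_eq_add b a hab.ne'] at h2
  · rw [if_pos rfl, if_neg hab.ne, if_pos rfl] at h2
    exact add_neg_eq_zero.mp h2
  · intro c _ hc
    rw [if_neg hc.1, if_neg hc.2]
  · intro h; exact absurd (Finset.mem_univ b) h
  · intro h; exact absurd (Finset.mem_univ a) h

theorem comp_comm (lam : B) (ω : Module.Basis (Fin n) B L)
    (ι : KaehlerDifferential A B →ₗ[B] L) (nabla : E →ₗ[A] E ⊗[B] L)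
    (d : ∀ p : ℕ, ↥(⋀[B]^p L) →ₗ[A] ↥(⋀[B]^(p + 1) L))
    (hd : LogDiff.IsLogRule (KaehlerDifferential.D A B) ι (⇑ω) d)
    (nablas : ∀ p : ℕ, E ⊗[B] ↥(⋀[B]^p L) →ₗ[A] E ⊗[B] ↥(⋀[B]^(p + 1) L))
    (hint : Conn.IsIntegrable nabla (fun p => lam • d p) nablas) (a b : Fin n) (m : E) :
    LogConn.comp nabla ω a (LogConn.comp nabla ω b m) =
      LogConn.comp nabla ω b (LogConn.comp nabla ω a m) := by
  rcases lt_trichotomy a b with h | h | h
  · exact comp_comm_of_lt lam ω ι nabla d hd nablas hint a b h m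
  · rw [h]
  · exact (comp_comm_of_lt lam ω ι nabla d hd nablas hint b a h m).symm

/-- with commuting components, `∇_j ∘ ∇_J = ∇_{insert j J}` for `j ∉ J`. -/
theorem compProd_insert_of_comm (ω : Module.Basis (Fin n) B L) (nabla : E →ₗ[A] E ⊗[B] L)
    (hcomm : ∀ (a b : Fin n) (m : E), LogConn.comp nabla ω a (LogConn.comp nabla ω b m) =
      LogConn.comp nabla ω b (LogConn.comp nabla ω a m))
    (j : Fin n) (J : Finset (Fin n)) : j ∉ J →
    LogConn.compProd nabla ω (insert j J) = LogConn.comp nabla ω j ∘ₗ LogConn.compProd nabla ω J := by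
  classical
  induction J using Finset.induction_on_min with
  | empty =>
    intro _
    exact compProd_insert ω nabla j ∅ (fun x hx => absurd hx (Finset.notMem_empty x))
  | insert a J ha ih =>
    intro hj
    have hja : j ≠ a := fun h => hj (h ▸ Finset.mem_insert_self _ _)
    have hjJ : j ∉ J := fun h => hj (Finset.mem_insert_of_mem h)
    rcases lt_or_gt_of_ne hja with hlt | hgt
    · apply compProd_insert ω nabla j (insert a J)
      intro x hx
      rcases Finset.mem_insert.mp hx with rfl | hx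
      · exact hlt
      · exact hlt.trans (ha x hx)
    · rw [Finset.insert_comm j a J, compProd_insert ω nabla a (insert j J) (by
        intro x hx
        rcases Finset.mem_insert.mp hx with rfl | hx
        · exact hgt
        · exact ha x hx), ih hjJ, compProd_insert ω nabla a J ha]
      apply LinearMap.ext
      intro m
      simp only [LinearMap.comp_apply]
      exact hcomm a j _

/-- `∇_j` maps `piece J` into `piece (insert j J)` for `j ∉ J`, when the components commute. -/
theorem comp_piece_of_comm (lam : B) (ω : Module.Basis (Fin n) B L)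
    (ι : KaehlerDifferential A B →ₗ[B] L)
    (t : Fin n → B) (hι : ∀ i, ι (KaehlerDifferential.D A B (t i)) = t i • ω i)
    (nabla : E →ₗ[A] E ⊗[B] L)
    (hc : Conn.IsLamConn (ι.compDer (KaehlerDifferential.D A B)) lam nabla)
    (hcomm : ∀ (a b : Fin n) (m : E), LogConn.comp nabla ω a (LogConn.comp nabla ω b m) =
      LogConn.comp nabla ω b (LogConn.comp nabla ω a m))
    (j : Fin n) (J : Finset (Fin n)) (hjJ : j ∉ J) (x : E)
    (hx : x ∈ LogConn.piece nabla ω t J) :
    LogConn.comp nabla ω j x ∈ LogConn.piece nabla ω t (insert j J) := by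
  classical
  have := piece_le_comap ω nabla t J (LogConn.comp nabla ω j)
    (LogConn.piece nabla ω t (insert j J)) (by
      intro K hK e
      have hjK : j ∉ K := fun h => hjJ (hK h)
      rw [comp_smul lam ω ι nabla hc, θ_prod ω ι t hι j (J \ K)
        (fun h => hjJ (Finset.mem_sdiff.mp h).1), mul_zero, zero_smul, add_zero]
      have h1 : LogConn.comp nabla ω j (LogConn.compProd nabla ω K e) =
          LogConn.compProd nabla ω (insert j K) e := by
        rw [compProd_insert_of_comm ω nabla hcomm j K hjK]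
        rfl
      have h2 : J \ K = insert j J \ insert j K := by
        ext b
        simp only [Finset.mem_sdiff, Finset.mem_insert]
        constructor
        · rintro ⟨h1, h2⟩
          refine ⟨Or.inr h1, ?_⟩
          rintro (h | h)
          · exact hjJ (h ▸ h1)
          · exact h2 h
        · rintro ⟨h1 | h1, h2⟩
          · exact absurd (Or.inl h1) h2
          · exact ⟨h1, fun h => h2 (Or.inr h)⟩
      rw [h1, h2]
      exact mem_piece ω nabla t (insert j J) (insert j K) (Finset.insert_subset_insert j hK) e)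
  exact this hx

end H8LogConn
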