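import Mathlib
import Groth.Prelude.Def_Models

namespace H8Num
open Finset Models

variable {n : ℕ} (T : NumericalType n)

lemma row_sum (i : Fin n) : ∑ j, T.a i j * T.m j = 0 := by
  have := congrFun T.mulVec_m i
  simpa [Matrix.mulVec, dotProduct] using this

lemma col_sum (j : Fin n) : ∑ i, T.a i j * T.m i = 0 := by
  have h := row_sum T j
  rw [← h]
  refine Finset.sum_congr rfl fun i _ => ?_
  have : T.a i j = T.a j i := (T.symm.apply j i).symm ▸ rfl
  rw [this]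

lemma row_sumQ (i : Fin n) : ∑ j, (T.a i j : ℚ) * (T.m j : ℚ) = 0 := by
  have := row_sum T i
  exact_mod_cast this

lemma col_sumQ (j : Fin n) : ∑ i, (T.a i j : ℚ) * (T.m i : ℚ) = 0 := by
  have := col_sum T j
  exact_mod_cast this

lemma quad_identity (y : Fin n → ℚ) :
    ∑ i, ∑ j, (T.a i j : ℚ) * ((T.m i : ℚ) * y i) * ((T.m j : ℚ) * y j)
      = -(1/2) * ∑ i, ∑ j, (T.a i j : ℚ) * (T.m i : ℚ) * (T.m j : ℚ) * (y i - y j) ^ 2 := by
  have h1 : ∑ i, ∑ j, (T.a i j : ℚ) * (T.m i : ℚ) * (T.m j : ℚ) * (y i) ^ 2 = 0 := by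
    refine Finset.sum_eq_zero fun i _ => ?_
    have : ∑ j, (T.a i j : ℚ) * (T.m i : ℚ) * (T.m j : ℚ) * (y i) ^ 2
        = (T.m i : ℚ) * (y i) ^ 2 * ∑ j, (T.a i j : ℚ) * (T.m j : ℚ) := by
      rw [Finset.mul_sum]; refine Finset.sum_congr rfl fun j _ => ?_; ring
    rw [this, row_sumQ, mul_zero]
  have h2 : ∑ i, ∑ j, (T.a i j : ℚ) * (T.m i : ℚ) * (T.m j : ℚ) * (y j) ^ 2 = 0 := by
    rw [Finset.sum_comm]
    refine Finset.sum_eq_zero fun j _ => ?_
    have : ∑ i, (T.a i j : ℚ) * (T.m i : ℚ) * (T.m j : ℚ) * (y j) ^ 2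
        = (T.m j : ℚ) * (y j) ^ 2 * ∑ i, (T.a i j : ℚ) * (T.m i : ℚ) := by
      rw [Finset.mul_sum]; refine Finset.sum_congr rfl fun i _ => ?_; ring
    rw [this, col_sumQ, mul_zero]
  have h3 : ∑ i, ∑ j, (T.a i j : ℚ) * (T.m i : ℚ) * (T.m j : ℚ) * (y i - y j) ^ 2
      = ∑ i, ∑ j, (T.a i j : ℚ) * (T.m i : ℚ) * (T.m j : ℚ) * (y i) ^ 2
        + ∑ i, ∑ j, (T.a i j : ℚ) * (T.m i : ℚ) * (T.m j : ℚ) * (y j) ^ 2
        - 2 * ∑ i, ∑ j, (T.a i j : ℚ) * ((T.m i : ℚ) * y i) * ((T.m j : ℚ) * y j) := by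
    rw [Finset.mul_sum, ← Finset.sum_add_distrib, ← Finset.sum_sub_distrib]
    refine Finset.sum_congr rfl fun i _ => ?_
    rw [Finset.mul_sum, ← Finset.sum_add_distrib, ← Finset.sum_sub_distrib]
    refine Finset.sum_congr rfl fun j _ => ?_
    ring
  rw [h3, h1, h2]; ring

lemma term_nonneg (y : Fin n → ℚ) (i j : Fin n) :
    0 ≤ (T.a i j : ℚ) * (T.m i : ℚ) * (T.m j : ℚ) * (y i - y j) ^ 2 := by
  by_cases hij : i = j
  · subst hij; simp
  · have h1 : (0 : ℚ) ≤ (T.a i j : ℚ) := by exact_mod_cast T.offDiag_nonneg i j hij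
    have h2 : (0 : ℚ) < (T.m i : ℚ) := by exact_mod_cast T.m_pos i
    have h3 : (0 : ℚ) < (T.m j : ℚ) := by exact_mod_cast T.m_pos j
    positivity

lemma quad_nonpos (y : Fin n → ℚ) :
    ∑ i, ∑ j, (T.a i j : ℚ) * ((T.m i : ℚ) * y i) * ((T.m j : ℚ) * y j) ≤ 0 := by
  rw [quad_identity]
  have : 0 ≤ ∑ i, ∑ j, (T.a i j : ℚ) * (T.m i : ℚ) * (T.m j : ℚ) * (y i - y j) ^ 2 :=
    Finset.sum_nonneg fun i _ => Finset.sum_nonneg fun j _ => term_nonneg T y i j
  linarith

lemma const_of_quad_zero (y : Fin n → ℚ)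
    (h : 0 ≤ ∑ i, ∑ j, (T.a i j : ℚ) * ((T.m i : ℚ) * y i) * ((T.m j : ℚ) * y j)) :
    ∀ i j, y i = y j := by
  rw [quad_identity] at h
  have h0 : ∑ i, ∑ j, (T.a i j : ℚ) * (T.m i : ℚ) * (T.m j : ℚ) * (y i - y j) ^ 2 = 0 := by
    have : 0 ≤ ∑ i, ∑ j, (T.a i j : ℚ) * (T.m i : ℚ) * (T.m j : ℚ) * (y i - y j) ^ 2 :=
      Finset.sum_nonneg fun i _ => Finset.sum_nonneg fun j _ => term_nonneg T y i j
    linarith
  have h1 : ∀ i j, (T.a i j : ℚ) * (T.m i : ℚ) * (T.m j : ℚ) * (y i - y j) ^ 2 = 0 := by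
    intro i j
    have hi := (Finset.sum_eq_zero_iff_of_nonneg
      (fun i _ => Finset.sum_nonneg fun j _ => term_nonneg T y i j)).1 h0 i (Finset.mem_univ _)
    exact (Finset.sum_eq_zero_iff_of_nonneg (fun j _ => term_nonneg T y i j)).1 hi j
      (Finset.mem_univ _)
  have h2 : ∀ i j, T.a i j ≠ 0 → y i = y j := by
    intro i j ha
    have := h1 i j
    have hmi : (T.m i : ℚ) ≠ 0 := by exact_mod_cast (T.m_pos i).ne'
    have hmj : (T.m j : ℚ) ≠ 0 := by exact_mod_cast (T.m_pos j).ne'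
    have haq : (T.a i j : ℚ) ≠ 0 := by exact_mod_cast ha
    have h3 : (y i - y j) ^ 2 = 0 := by
      rcases mul_eq_zero.1 this with h | h
      · exfalso
        rcases mul_eq_zero.1 h with h | h
        · rcases mul_eq_zero.1 h with h | h
          · exact haq h
          · exact hmi h
        · exact hmj h
      · exact h
    have := pow_eq_zero_iff (two_ne_zero) |>.1 h3
    linarith
  -- connectivity
  have key : ∀ i0 : Fin n, ∀ i, y i = y i0 := by
    intro i0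
    by_contra hne
    push Not at hne
    let I : Finset (Fin n) := Finset.univ.filter fun i => y i = y i0
    have hI1 : I.Nonempty := ⟨i0, by simp [I]⟩
    have hI2 : I ≠ Finset.univ := by
      obtain ⟨i, hi⟩ := hne
      intro hI
      have : i ∈ I := hI ▸ Finset.mem_univ i
      simp [I] at this
      exact hi this
    obtain ⟨i, hi, j, hj, hij⟩ := T.connected I hI1 hI2
    apply hj
    simp only [I, Finset.mem_filter, Finset.mem_univ, true_and] at hi ⊢
    rw [← h2 i j hij, hi]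
  intro i j
  rw [key j i]

/-- restricted form is negative definite on proper subsets -/
lemma negDef_proper {k : ℕ} (hk : k < n) (v : Fin k ↪ Fin n) (c : Fin k → ℤ)
    (h : 0 ≤ ∑ j, ∑ j', c j * c j' * T.a (v j) (v j')) : ∀ j, c j = 0 := by
  classical
  let z : Fin n → ℤ := fun i => ∑ j, if v j = i then c j else 0
  have hzv : ∀ j, z (v j) = c j := by
    intro j
    simp only [z]
    have : ∀ j', (if v j' = v j then c j' else 0) = if j' = j then c j' else 0 := by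
      intro j'
      by_cases hjj : j' = j
      · subst hjj; simp
      · have : v j' ≠ v j := fun h => hjj (v.injective h)
        simp [hjj, this]
    simp only [this, Finset.sum_ite_eq', Finset.mem_univ, if_true]
  have hz0 : ∀ i, i ∉ Set.range v → z i = 0 := by
    intro i hi
    simp only [z]
    refine Finset.sum_eq_zero fun j _ => ?_
    have : v j ≠ i := fun h => hi ⟨j, h⟩
    simp [this]
  have hsum : ∀ g : Fin n → ℤ, (∀ i, i ∉ Set.range v → g i = 0) → ∑ i, g i = ∑ j, g (v j) := by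
    intro g hg
    rw [← Finset.sum_map Finset.univ v g]
    symm
    refine Finset.sum_subset (Finset.subset_univ _) fun i _ hi => hg i ?_
    simpa using hi
  have hq : ∑ i, ∑ i', T.a i i' * z i * z i' = ∑ j, ∑ j', c j * c j' * T.a (v j) (v j') := by
    rw [hsum (fun i => ∑ i', T.a i i' * z i * z i')]
    · refine Finset.sum_congr rfl fun j _ => ?_
      rw [hsum (fun i' => T.a (v j) i' * z (v j) * z i')]
      · refine Finset.sum_congr rfl fun j' _ => ?_
        rw [hzv, hzv]; ring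
      · intro i hi; show T.a (v j) i * z (v j) * z i = 0; rw [hz0 i hi, mul_zero]
    · intro i hi
      refine Finset.sum_eq_zero fun i' _ => ?_
      rw [hz0 i hi]; ring
  -- pick outside index
  have hout : ∃ i0, i0 ∉ Set.range v := by
    by_contra hne
    push Not at hne
    have hs : Function.Surjective v := fun i => hne i
    have := Fintype.card_le_of_surjective v hs
    simp at this
    omega
  obtain ⟨i0, hi0⟩ := hout
  let y : Fin n → ℚ := fun i => (z i : ℚ) / (T.m i : ℚ)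
  have hmy : ∀ i, (T.m i : ℚ) * y i = (z i : ℚ) := by
    intro i
    have hmi : (T.m i : ℚ) ≠ 0 := by exact_mod_cast (T.m_pos i).ne'
    simp only [y]; field_simp
  have hQ : 0 ≤ ∑ i, ∑ j, (T.a i j : ℚ) * ((T.m i : ℚ) * y i) * ((T.m j : ℚ) * y j) := by
    have : ∑ i, ∑ j, (T.a i j : ℚ) * ((T.m i : ℚ) * y i) * ((T.m j : ℚ) * y j)
        = ((∑ i, ∑ i', T.a i i' * z i * z i' : ℤ) : ℚ) := by
      push_cast
      refine Finset.sum_congr rfl fun i _ => Finset.sum_congr rfl fun j _ => ?_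
      rw [hmy, hmy]
    rw [this, hq]
    exact_mod_cast h
  have hconst := const_of_quad_zero T y hQ
  have hy0 : y i0 = 0 := by simp [y, hz0 i0 hi0]
  intro j
  have h1 : y (v j) = 0 := by rw [hconst (v j) i0, hy0]
  have h2 := hmy (v j)
  rw [h1, mul_zero] at h2
  have : z (v j) = 0 := by exact_mod_cast h2.symm
  rw [← hzv j, this]

lemma edge_ge_w {i j : Fin n} (hij : i ≠ j) (ha : T.a i j ≠ 0) : T.w i ≤ T.a i j := by
  have h0 := T.offDiag_nonneg i j hij
  have hpos : 0 < T.a i j := lt_of_le_of_ne h0 (Ne.symm ha)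
  exact Int.le_of_dvd hpos (T.w_dvd i j)

lemma edge_ge_w' {i j : Fin n} (hij : i ≠ j) (ha : T.a i j ≠ 0) : T.w j ≤ T.a i j := by
  have h1 : T.a i j = T.a j i := (T.symm.apply j i).symm ▸ rfl
  rw [h1]
  exact edge_ge_w T (Ne.symm hij) (by rwa [← h1])

lemma no_config {k : ℕ} (hk : k < n) (v : Fin k ↪ Fin n) (hv : ∀ j, T.IsMinusTwo (v j))
    (c : Fin k → ℤ) (hc : ∀ j, 0 ≤ c j)
    (hS : ∀ j, ∃ S : Finset (Fin k), (∀ j' ∈ S, j' ≠ j ∧ T.a (v j) (v j') ≠ 0) ∧
      2 * c j ≤ ∑ j' ∈ S, c j') :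
    ∀ j, c j = 0 := by
  classical
  apply negDef_proper T hk v c
  refine Finset.sum_nonneg fun j _ => ?_
  obtain ⟨S, hS1, hS2⟩ := hS j
  have hsub : S ⊆ Finset.univ.erase j := by
    intro j' hj'
    exact Finset.mem_erase.2 ⟨(hS1 j' hj').1, Finset.mem_univ _⟩
  have hnn : ∀ j' ∈ Finset.univ.erase j, 0 ≤ c j' * T.a (v j) (v j') := by
    intro j' hj'
    have hne : j' ≠ j := (Finset.mem_erase.1 hj').1
    have : v j ≠ v j' := fun h => hne (v.injective h).symm
    exact mul_nonneg (hc j') (T.offDiag_nonneg _ _ this)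
  have h1 : ∑ j' ∈ S, c j' * T.w (v j) ≤ ∑ j' ∈ S, c j' * T.a (v j) (v j') := by
    refine Finset.sum_le_sum fun j' hj' => ?_
    obtain ⟨hne, ha⟩ := hS1 j' hj'
    have : v j ≠ v j' := fun h => hne (v.injective h).symm
    exact mul_le_mul_of_nonneg_left (edge_ge_w T this ha) (hc j')
  have h2 : ∑ j' ∈ S, c j' * T.a (v j) (v j') ≤ ∑ j' ∈ Finset.univ.erase j, c j' * T.a (v j) (v j') :=
    Finset.sum_le_sum_of_subset_of_nonneg hsub fun j' hj' _ => hnn j' hj'
  have h3 : ∑ j', c j' * T.a (v j) (v j')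
      = c j * T.a (v j) (v j) + ∑ j' ∈ Finset.univ.erase j, c j' * T.a (v j) (v j') := by
    exact (Finset.add_sum_erase Finset.univ (fun j' => c j' * T.a (v j) (v j')) (Finset.mem_univ j)).symm
  have h4 : T.a (v j) (v j) = -2 * T.w (v j) := (hv j).2
  have h5 : ∑ j', c j * c j' * T.a (v j) (v j') = c j * ∑ j', c j' * T.a (v j) (v j') := by
    rw [Finset.mul_sum]; refine Finset.sum_congr rfl fun j' _ => ?_; ring
  rw [h5]
  refine mul_nonneg (hc j) ?_
  rw [h3, h4]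
  have h6 : ∑ j' ∈ S, c j' * T.w (v j) = (∑ j' ∈ S, c j') * T.w (v j) := by
    rw [Finset.sum_mul]
  have hw := T.w_pos (v j)
  nlinarith [mul_le_mul_of_nonneg_right hS2 hw.le]

lemma no_config_list {k : ℕ} (hk : k < n) (v : Fin k ↪ Fin n) (hv : ∀ j, T.IsMinusTwo (v j))
    (c : Fin k → ℤ) (hc : ∀ j, 0 ≤ c j) (E : List (Fin k × Fin k))
    (hE : ∀ p ∈ E, p.1 ≠ p.2 ∧ T.a (v p.1) (v p.2) ≠ 0)
    (hS : ∀ j, 2 * c j ≤ ∑ j' ∈ Finset.univ.filter (fun j' => (j, j') ∈ E ∨ (j', j) ∈ E), c j') :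
    ∀ j, c j = 0 := by
  classical
  refine no_config T hk v hv c hc fun j => ⟨_, ?_, hS j⟩
  intro j' hj'
  simp only [Finset.mem_filter, Finset.mem_univ, true_and] at hj'
  rcases hj' with h | h
  · have := hE _ h
    exact ⟨fun e => this.1 e.symm, this.2⟩
  · have := hE _ h
    refine ⟨this.1, ?_⟩
    have hs : T.a (v j) (v j') = T.a (v j') (v j) := (T.symm.apply (v j) (v j')).symm ▸ rfl
    rw [hs]; exact this.2

/-- strict negativity on proper subsets -/
lemma neg_of_ne_zero {k : ℕ} (hk : k < n) (v : Fin k ↪ Fin n) (c : Fin k → ℤ)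
    (hc : ∃ j, c j ≠ 0) : ∑ j, ∑ j', c j * c j' * T.a (v j) (v j') < 0 := by
  by_contra h
  push Not at h
  obtain ⟨j, hj⟩ := hc
  exact hj (negDef_proper T hk v c h j)

/-- partial row sums are nonpositive -/
lemma row_le {k : ℕ} (v : Fin k ↪ Fin n) (j : Fin k) :
    ∑ j', T.a (v j) (v j') * T.m (v j') ≤ 0 := by
  classical
  have h0 := row_sum T (v j)
  rw [← Finset.sum_map Finset.univ v (fun i => T.a (v j) i * T.m i)]
  have hsub : Finset.univ.map v ⊆ (Finset.univ : Finset (Fin n)) := Finset.subset_univ _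
  rw [← Finset.sum_sdiff hsub] at h0
  have hnn : 0 ≤ ∑ i ∈ Finset.univ \ Finset.univ.map v, T.a (v j) i * T.m i := by
    refine Finset.sum_nonneg fun i hi => ?_
    have hi' : i ∉ Finset.univ.map v := (Finset.mem_sdiff.1 hi).2
    have hne : v j ≠ i := by
      intro h
      apply hi'
      rw [Finset.mem_map]
      exact ⟨j, Finset.mem_univ _, h⟩
    exact mul_nonneg (T.offDiag_nonneg _ _ hne) (T.m_pos i).le
  linarith

lemma eq_of_dvd_lt_two {w b : ℤ} (hw : 0 < w) (h1 : w ∣ b) (h2 : 0 < b) (h3 : b < 2 * w) :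
    b = w := by
  obtain ⟨s, rfl⟩ := h1
  have hs1 : 0 < s := by
    by_contra h
    push Not at h
    nlinarith
  have hs2 : s < 2 := by
    by_contra h
    push Not at h
    nlinarith
  have : s = 1 := by omega
  rw [this, mul_one]

lemma eq_zero_of_dvd_lt {w b : ℤ} (h1 : w ∣ b) (h2 : 0 ≤ b) (h3 : b < w) : b = 0 := by
  by_contra hne
  have hpos : 0 < b := lt_of_le_of_ne h2 (Ne.symm hne)
  have := Int.le_of_dvd hpos h1
  omega

lemma eq_of_dvd_gt_half {w W : ℤ} (hW : 0 < W) (h1 : W ∣ w) (h2 : w < 2 * W) (hw : 0 < w) :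
    W = w := (eq_of_dvd_lt_two hW h1 hw h2).symm

end H8Num
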