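import Mathlib
import Groth.Agent.H8Num

namespace H8Num
open Finset Models

variable {n : ℕ} (T : NumericalType n)

/-- embedding of two distinct indices -/
def emb2 (i j : Fin n) (hij : i ≠ j) : Fin 2 ↪ Fin n :=
  ⟨![i, j], by
    intro a b h
    fin_cases a <;> fin_cases b <;> simp_all⟩

@[simp] lemma emb2_zero (i j : Fin n) (hij : i ≠ j) : emb2 i j hij 0 = i := rfl
@[simp] lemma emb2_one (i j : Fin n) (hij : i ≠ j) : emb2 i j hij 1 = j := rfl

/-- embedding of three distinct indices -/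
def emb3 (i j k : Fin n) (hij : i ≠ j) (hjk : j ≠ k) (hik : i ≠ k) : Fin 3 ↪ Fin n :=
  ⟨![i, j, k], by
    intro a b h
    fin_cases a <;> fin_cases b <;> simp_all⟩

@[simp] lemma emb3_zero (i j k : Fin n) (hij : i ≠ j) (hjk : j ≠ k) (hik : i ≠ k) :
    emb3 i j k hij hjk hik 0 = i := rfl
@[simp] lemma emb3_one (i j k : Fin n) (hij : i ≠ j) (hjk : j ≠ k) (hik : i ≠ k) :
    emb3 i j k hij hjk hik 1 = j := rfl
@[simp] lemma emb3_two (i j k : Fin n) (hij : i ≠ j) (hjk : j ≠ k) (hik : i ≠ k) :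
    emb3 i j k hij hjk hik 2 = k := rfl

lemma symm' (i j : Fin n) : T.a i j = T.a j i := (T.symm.apply i j).symm ▸ rfl

/-- quadratic form on two indices -/
lemma neg2 (hn : 2 < n) (i j : Fin n) (hij : i ≠ j) (x y : ℤ) (h : x ≠ 0 ∨ y ≠ 0) :
    x * x * T.a i i + 2 * (x * y * T.a i j) + y * y * T.a j j < 0 := by
  have := neg_of_ne_zero T hn (emb2 i j hij) ![x, y] (by
    rcases h with h | h
    · exact ⟨0, by simpa using h⟩
    · exact ⟨1, by simpa using h⟩)
  simp only [Fin.sum_univ_two] at this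
  simp at this
  have hs := symm' T j i
  rw [hs] at this
  linarith

lemma row2 (i j : Fin n) (hij : i ≠ j) : T.a i i * T.m i + T.a i j * T.m j ≤ 0 := by
  have := row_le T (emb2 i j hij) 0
  simp only [Fin.sum_univ_two] at this
  simpa using this

lemma pair_aux (hn : 2 < n) (i j : Fin n) (hij : i ≠ j) (hi : T.IsMinusTwo i)
    (hj : T.IsMinusTwo j) (hpos : 0 < T.a i j) (hle : T.w i ≤ T.w j) :
    (T.w j = T.w i ∧ T.a i j = T.w i ∧ T.m j ≤ 2 * T.m i ∧ T.m i ≤ 2 * T.m j) ∨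
    (T.w j = 2 * T.w i ∧ T.a i j = 2 * T.w i ∧ T.m j ≤ T.m i ∧ T.m i ≤ 2 * T.m j) ∨
    (T.w j = 3 * T.w i ∧ T.a i j = 3 * T.w i ∧ 3 * T.m j ≤ 2 * T.m i ∧ T.m i ≤ 2 * T.m j) := by
  have hdi := hi.2
  have hdj := hj.2
  have hwi := T.w_pos i
  have hwj := T.w_pos j
  have hmi := T.m_pos i
  have hmj := T.m_pos j
  have h11 := neg2 T hn i j hij 1 1 (Or.inl one_ne_zero)
  have hb : T.a i j = T.w j := by
    apply eq_of_dvd_lt_two hwj (by rw [symm' T i j]; exact T.w_dvd j i) hpos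
    linarith
  have h21 := neg2 T hn i j hij 2 1 (Or.inl two_ne_zero)
  obtain ⟨r, hr⟩ : T.w i ∣ T.w j := by rw [← hb]; exact T.w_dvd i j
  have hr1 : 0 < r := by
    by_contra h; push Not at h; nlinarith
  have hr4 : r < 4 := by
    by_contra h; push Not at h; nlinarith
  have r1 := row2 T i j hij
  have r2 := row2 T j i (Ne.symm hij)
  rw [symm' T j i] at r2
  rw [hdi, hb] at r1
  rw [hdj, hb] at r2
  have hr3 : r = 1 ∨ r = 2 ∨ r = 3 := by omega
  rcases hr3 with rfl | rfl | rfl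
  · left
    rw [mul_one] at hr
    refine ⟨hr, by rw [hb, hr], ?_, ?_⟩
    · rw [hr] at r1; by_contra hc; push Not at hc; nlinarith
    · rw [hr] at r2; by_contra hc; push Not at hc; nlinarith
  · right; left
    have hr' : T.w j = 2 * T.w i := by rw [hr]; ring
    refine ⟨hr', by rw [hb, hr'], ?_, ?_⟩
    · rw [hr'] at r1; by_contra hc; push Not at hc; nlinarith
    · rw [hr'] at r2; by_contra hc; push Not at hc; nlinarith
  · right; right
    have hr' : T.w j = 3 * T.w i := by rw [hr]; ring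
    refine ⟨hr', by rw [hb, hr'], ?_, ?_⟩
    · rw [hr'] at r1; by_contra hc; push Not at hc; nlinarith
    · rw [hr'] at r2; by_contra hc; push Not at hc; nlinarith

end H8Num
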