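import Mathlib
import Groth.Agent.H8Num2

namespace H8Num
open Finset Models

variable {n : ℕ} (T : NumericalType n)

lemma exists_nbr (hn : 2 ≤ n) (i : Fin n) : ∃ j, j ≠ i ∧ 0 < T.a i j := by
  classical
  have h1 : ({i} : Finset (Fin n)).Nonempty := ⟨i, Finset.mem_singleton_self i⟩
  have h2 : ({i} : Finset (Fin n)) ≠ Finset.univ := by
    intro h
    have := congrArg Finset.card h
    simp at this
    omega
  obtain ⟨i', hi', j, hj, ha⟩ := T.connected {i} h1 h2
  rw [Finset.mem_singleton] at hi'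
  subst hi'
  have hji : j ≠ i' := fun h => hj (by rw [h]; exact Finset.mem_singleton_self _)
  exact ⟨j, hji, lt_of_le_of_ne (T.offDiag_nonneg i' j (Ne.symm hji)) (Ne.symm ha)⟩

lemma diag_neg (hn : 2 ≤ n) (i : Fin n) : T.a i i < 0 := by
  classical
  obtain ⟨j, hji, hpos⟩ := exists_nbr T hn i
  have h0 := row_sum T i
  rw [← Finset.add_sum_erase _ _ (Finset.mem_univ i)] at h0
  have h1 : 0 < ∑ x ∈ Finset.univ.erase i, T.a i x * T.m x := by
    have hj : j ∈ Finset.univ.erase i := Finset.mem_erase.2 ⟨hji, Finset.mem_univ _⟩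
    have hnn : ∀ x ∈ Finset.univ.erase i, 0 ≤ T.a i x * T.m x := by
      intro x hx
      have : i ≠ x := (Finset.mem_erase.1 hx).1.symm
      exact mul_nonneg (T.offDiag_nonneg i x this) (T.m_pos x).le
    calc 0 < T.a i j * T.m j := mul_pos hpos (T.m_pos j)
      _ ≤ ∑ x ∈ Finset.univ.erase i, T.a i x * T.m x := Finset.single_le_sum hnn hj
  have hm := T.m_pos i
  by_contra hc
  push Not at hc
  have : 0 ≤ T.a i i * T.m i := mul_nonneg hc hm.le
  linarith

lemma all_minusTwo (hn : 2 ≤ n) (hmin : T.IsMinimal) (hg : T.genus = 1) :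
    ∀ i, T.IsMinusTwo i := by
  classical
  -- the floor-division estimate
  set S : ℤ := ∑ i, T.m i * T.a i i with hS
  have hgen : (∑ i, T.m i * T.w i * (T.g i - 1)) = S / 2 := by
    have := hg
    unfold NumericalType.genus at this
    linarith
  have hfl : S - 1 ≤ 2 * (S / 2) := by
    have := Int.lt_ediv_add_one_mul_self S (by norm_num : (0 : ℤ) < 2)
    linarith
  -- each term
  have hterm : ∀ i, 0 ≤ T.m i * (2 * T.w i * (T.g i - 1) - T.a i i) ∧
      (T.m i * (2 * T.w i * (T.g i - 1) - T.a i i) = 0 → T.IsMinusTwo i) := by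
    intro i
    obtain ⟨t, ht⟩ := T.w_dvd i i
    have hw := T.w_pos i
    have hm := T.m_pos i
    have hneg := diag_neg T hn i
    have hgi := T.g_nonneg i
    have ht1 : t ≤ -1 := by
      by_contra hc
      push Not at hc
      have : 0 ≤ T.w i * t := mul_nonneg hw.le (by omega)
      linarith
    have hnm1 := hmin i
    have hfac : 2 * T.w i * (T.g i - 1) - T.a i i = T.w i * (2 * (T.g i - 1) - t) := by
      rw [ht]; ring
    have hkey : 0 ≤ 2 * (T.g i - 1) - t ∧ (2 * (T.g i - 1) - t = 0 → T.g i = 0 ∧ t = -2) := by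
      rcases eq_or_lt_of_le hgi with h0 | hpos
      · have hg0 : T.g i = 0 := h0.symm
        have : t ≠ -1 := by
          intro h
          apply hnm1
          exact ⟨hg0, by rw [ht, h]; ring⟩
        rw [hg0]
        constructor
        · omega
        · intro h; exact ⟨rfl, by omega⟩
      · constructor
        · omega
        · intro h; omega
    rw [hfac]
    constructor
    · exact mul_nonneg hm.le (mul_nonneg hw.le hkey.1)
    · intro h
      have h1 : T.w i * (2 * (T.g i - 1) - t) = 0 := by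
        rcases mul_eq_zero.1 h with h | h
        · exact absurd h hm.ne'
        · exact h
      have h2 : 2 * (T.g i - 1) - t = 0 := by
        rcases mul_eq_zero.1 h1 with h | h
        · exact absurd h hw.ne'
        · exact h
      obtain ⟨hg0, ht2⟩ := hkey.2 h2
      exact ⟨hg0, by rw [ht, ht2]; ring⟩
  have hsum : ∑ i, T.m i * (2 * T.w i * (T.g i - 1) - T.a i i) ≤ 0 := by
    have : ∑ i, T.m i * (2 * T.w i * (T.g i - 1) - T.a i i)
        = 2 * (∑ i, T.m i * T.w i * (T.g i - 1)) - S := by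
      rw [hS, Finset.mul_sum, ← Finset.sum_sub_distrib]
      refine Finset.sum_congr rfl fun i _ => ?_
      ring
    rw [this, hgen]
    have := Int.ediv_mul_le S (by norm_num : (2 : ℤ) ≠ 0)
    linarith
  have hzero : ∑ i, T.m i * (2 * T.w i * (T.g i - 1) - T.a i i) = 0 :=
    le_antisymm hsum (Finset.sum_nonneg fun i _ => (hterm i).1)
  intro i
  exact (hterm i).2 ((Finset.sum_eq_zero_iff_of_nonneg fun i _ => (hterm i).1).1 hzero i
    (Finset.mem_univ i))

lemma quad_nonpos_int (c : Fin n → ℤ) : ∑ i, ∑ j, c i * c j * T.a i j ≤ 0 := by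
  let y : Fin n → ℚ := fun i => (c i : ℚ) / (T.m i : ℚ)
  have hmy : ∀ i, (T.m i : ℚ) * y i = (c i : ℚ) := by
    intro i
    have hmi : (T.m i : ℚ) ≠ 0 := by exact_mod_cast (T.m_pos i).ne'
    simp only [y]; field_simp
  have h := quad_nonpos T y
  have : ∑ i, ∑ j, (T.a i j : ℚ) * ((T.m i : ℚ) * y i) * ((T.m j : ℚ) * y j)
      = ((∑ i, ∑ j, c i * c j * T.a i j : ℤ) : ℚ) := by
    push_cast
    refine Finset.sum_congr rfl fun i _ => Finset.sum_congr rfl fun j _ => ?_
    rw [hmy, hmy]; ring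
  rw [this] at h
  exact_mod_cast h

lemma quad_neg_of_zero_entry (c : Fin n → ℤ) (hz : ∃ j, c j = 0) (hnz : ∃ j, c j ≠ 0) :
    ∑ i, ∑ j, c i * c j * T.a i j < 0 := by
  by_contra hcon
  push Not at hcon
  let y : Fin n → ℚ := fun i => (c i : ℚ) / (T.m i : ℚ)
  have hmy : ∀ i, (T.m i : ℚ) * y i = (c i : ℚ) := by
    intro i
    have hmi : (T.m i : ℚ) ≠ 0 := by exact_mod_cast (T.m_pos i).ne'
    simp only [y]; field_simp
  have hQ : 0 ≤ ∑ i, ∑ j, (T.a i j : ℚ) * ((T.m i : ℚ) * y i) * ((T.m j : ℚ) * y j) := by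
    have : ∑ i, ∑ j, (T.a i j : ℚ) * ((T.m i : ℚ) * y i) * ((T.m j : ℚ) * y j)
        = ((∑ i, ∑ j, c i * c j * T.a i j : ℤ) : ℚ) := by
      push_cast
      refine Finset.sum_congr rfl fun i _ => Finset.sum_congr rfl fun j _ => ?_
      rw [hmy, hmy]; ring
    rw [this]
    exact_mod_cast hcon
  have hconst := const_of_quad_zero T y hQ
  obtain ⟨j0, hj0⟩ := hz
  obtain ⟨j1, hj1⟩ := hnz
  have hy0 : y j0 = 0 := by simp [y, hj0]
  have h1 : y j1 = 0 := by rw [hconst j1 j0, hy0]
  have h2 := hmy j1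
  rw [h1, mul_zero] at h2
  apply hj1
  exact_mod_cast h2.symm

/-- explicit permutation of `Fin 4` -/
def perm4 (f g : Fin 4 → Fin 4) (h1 : ∀ x, g (f x) = x) (h2 : ∀ x, f (g x) = x) :
    Equiv.Perm (Fin 4) := ⟨f, g, h1, h2⟩

@[simp] lemma perm4_apply (f g : Fin 4 → Fin 4) (h1 : ∀ x, g (f x) = x) (h2 : ∀ x, f (g x) = x)
    (x : Fin 4) : perm4 f g h1 h2 x = f x := rfl

end H8Num
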