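import Mathlib
import Groth.Agent.H8Num4

set_option autoImplicit false
set_option linter.unusedSimpArgs false
set_option linter.unusedTactic false
set_option linter.unusedVariables false
set_option maxHeartbeats 0
set_option maxRecDepth 100000

open Finset Models Models.NumericalType

namespace H8N4u3

theorem main (T : Models.NumericalType 4) (hmin : T.IsMinimal) (hg : T.genus = 1) (e_0_1 : T.w 1 = 3 * T.w 0) (a_0_1 : T.a 0 1 = 3 * T.w 0) :
    (∀ i, T.g i = 0) ∧ ∃ (σ : Equiv.Perm (Fin 4)) (m w : ℤ),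
      ((T.m (σ 0) = m ∧ T.m (σ 1) = m ∧ T.m (σ 2) = m ∧ T.m (σ 3) = m ∧ T.w (σ 0) = w ∧ T.w (σ 1) = w ∧ T.w (σ 2) = w ∧ T.w (σ 3) = w ∧ T.a (σ 0) (σ 0) = -2 * w ∧ T.a (σ 0) (σ 1) = w ∧ T.a (σ 0) (σ 2) = 0 ∧ T.a (σ 0) (σ 3) = w ∧ T.a (σ 1) (σ 1) = -2 * w ∧ T.a (σ 1) (σ 2) = w ∧ T.a (σ 1) (σ 3) = 0 ∧ T.a (σ 2) (σ 2) = -2 * w ∧ T.a (σ 2) (σ 3) = w ∧ T.a (σ 3) (σ 3) = -2 * w) ∨
      (T.m (σ 0) = 2 * m ∧ T.m (σ 1) = 2 * m ∧ T.m (σ 2) = 2 * m ∧ T.m (σ 3) = m ∧ T.w (σ 0) = w ∧ T.w (σ 1) = 2 * w ∧ T.w (σ 2) = 2 * w ∧ T.w (σ 3) = 4 * w ∧ T.a (σ 0) (σ 0) = -2 * w ∧ T.a (σ 0) (σ 1) = 2 * w ∧ T.a (σ 0) (σ 2) = 0 ∧ T.a (σ 0) (σ 3) = 0 ∧ T.a (σ 1) (σ 1) = -4 * w ∧ T.a (σ 1) (σ 2) = 2 * w ∧ T.a (σ 1) (σ 3) = 0 ∧ T.a (σ 2) (σ 2) = -4 * w ∧ T.a (σ 2) (σ 3) = 4 * w ∧ T.a (σ 3) (σ 3) = -8 * w) ∨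
      (T.m (σ 0) = m ∧ T.m (σ 1) = m ∧ T.m (σ 2) = m ∧ T.m (σ 3) = m ∧ T.w (σ 0) = w ∧ T.w (σ 1) = 2 * w ∧ T.w (σ 2) = 2 * w ∧ T.w (σ 3) = w ∧ T.a (σ 0) (σ 0) = -2 * w ∧ T.a (σ 0) (σ 1) = 2 * w ∧ T.a (σ 0) (σ 2) = 0 ∧ T.a (σ 0) (σ 3) = 0 ∧ T.a (σ 1) (σ 1) = -4 * w ∧ T.a (σ 1) (σ 2) = 2 * w ∧ T.a (σ 1) (σ 3) = 0 ∧ T.a (σ 2) (σ 2) = -4 * w ∧ T.a (σ 2) (σ 3) = 2 * w ∧ T.a (σ 3) (σ 3) = -2 * w) ∨
      (T.m (σ 0) = m ∧ T.m (σ 1) = 2 * m ∧ T.m (σ 2) = 2 * m ∧ T.m (σ 3) = m ∧ T.w (σ 0) = 2 * w ∧ T.w (σ 1) = w ∧ T.w (σ 2) = w ∧ T.w (σ 3) = 2 * w ∧ T.a (σ 0) (σ 0) = -4 * w ∧ T.a (σ 0) (σ 1) = 2 * w ∧ T.a (σ 0) (σ 2) = 0 ∧ T.a (σ 0) (σ 3) = 0 ∧ T.a (σ 1) (σ 1) = -2 * w ∧ T.a (σ 1) (σ 2) = w ∧ T.a (σ 1) (σ 3) = 0 ∧ T.a (σ 2) (σ 2) = -2 * w ∧ T.a (σ 2) (σ 3) = 2 * w ∧ T.a (σ 3) (σ 3) = -4 * w) ∨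
      (T.m (σ 0) = 2 * m ∧ T.m (σ 1) = m ∧ T.m (σ 2) = m ∧ T.m (σ 3) = m ∧ T.w (σ 0) = w ∧ T.w (σ 1) = w ∧ T.w (σ 2) = w ∧ T.w (σ 3) = 2 * w ∧ T.a (σ 0) (σ 0) = -2 * w ∧ T.a (σ 0) (σ 1) = w ∧ T.a (σ 0) (σ 2) = w ∧ T.a (σ 0) (σ 3) = 2 * w ∧ T.a (σ 1) (σ 1) = -2 * w ∧ T.a (σ 1) (σ 2) = 0 ∧ T.a (σ 1) (σ 3) = 0 ∧ T.a (σ 2) (σ 2) = -2 * w ∧ T.a (σ 2) (σ 3) = 0 ∧ T.a (σ 3) (σ 3) = -4 * w) ∨
      (T.m (σ 0) = 2 * m ∧ T.m (σ 1) = m ∧ T.m (σ 2) = m ∧ T.m (σ 3) = 2 * m ∧ T.w (σ 0) = 2 * w ∧ T.w (σ 1) = 2 * w ∧ T.w (σ 2) = 2 * w ∧ T.w (σ 3) = w ∧ T.a (σ 0) (σ 0) = -4 * w ∧ T.a (σ 0) (σ 1) = 2 * w ∧ T.a (σ 0) (σ 2) = 2 * w ∧ T.a (σ 0) (σ 3) = 2 * w ∧ T.a (σ 1) (σ 1) = -4 * w ∧ T.a (σ 1) (σ 2) = 0 ∧ T.a (σ 1) (σ 3) = 0 ∧ T.a (σ 2) (σ 2) = -4 * w ∧ T.a (σ 2) (σ 3) = 0 ∧ T.a (σ 3) (σ 3) = -2 * w)) := by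
  have hall := H8Num.all_minusTwo T (by norm_num) hmin hg
  have d_0 : T.a 0 0 = -2 * T.w 0 := (hall 0).2
  have w_0 : 0 < T.w 0 := T.w_pos 0
  have mp_0 : 0 < T.m 0 := T.m_pos 0
  have d_1 : T.a 1 1 = -2 * T.w 1 := (hall 1).2
  have w_1 : 0 < T.w 1 := T.w_pos 1
  have mp_1 : 0 < T.m 1 := T.m_pos 1
  have d_2 : T.a 2 2 = -2 * T.w 2 := (hall 2).2
  have w_2 : 0 < T.w 2 := T.w_pos 2
  have mp_2 : 0 < T.m 2 := T.m_pos 2
  have d_3 : T.a 3 3 = -2 * T.w 3 := (hall 3).2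
  have w_3 : 0 < T.w 3 := T.w_pos 3
  have mp_3 : 0 < T.m 3 := T.m_pos 3
  have s_0_1 : T.a 1 0 = T.a 0 1 := H8Num.symm' T 1 0
  have n_0_1 : 0 ≤ T.a 0 1 := T.offDiag_nonneg 0 1 (by decide)
  have s_0_2 : T.a 2 0 = T.a 0 2 := H8Num.symm' T 2 0
  have n_0_2 : 0 ≤ T.a 0 2 := T.offDiag_nonneg 0 2 (by decide)
  have s_0_3 : T.a 3 0 = T.a 0 3 := H8Num.symm' T 3 0
  have n_0_3 : 0 ≤ T.a 0 3 := T.offDiag_nonneg 0 3 (by decide)
  have s_1_2 : T.a 2 1 = T.a 1 2 := H8Num.symm' T 2 1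
  have n_1_2 : 0 ≤ T.a 1 2 := T.offDiag_nonneg 1 2 (by decide)
  have s_1_3 : T.a 3 1 = T.a 1 3 := H8Num.symm' T 3 1
  have n_1_3 : 0 ≤ T.a 1 3 := T.offDiag_nonneg 1 3 (by decide)
  have s_2_3 : T.a 3 2 = T.a 2 3 := H8Num.symm' T 3 2
  have n_2_3 : 0 ≤ T.a 2 3 := T.offDiag_nonneg 2 3 (by decide)
  have Qn : ∀ c0 c1 c2 c3 : ℤ, c0 * c0 * T.a 0 0 + c1 * c1 * T.a 1 1 + c2 * c2 * T.a 2 2 + c3 * c3 * T.a 3 3 + 2 * (c0 * c1 * T.a 0 1 + c0 * c2 * T.a 0 2 + c0 * c3 * T.a 0 3 + c1 * c2 * T.a 1 2 + c1 * c3 * T.a 1 3 + c2 * c3 * T.a 2 3) ≤ 0 := by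
    intro c0 c1 c2 c3
    have h := H8Num.quad_nonpos_int T ![c0, c1, c2, c3]
    simp only [Fin.sum_univ_four] at h
    simp only [Matrix.cons_val_zero, Matrix.cons_val_one, Matrix.cons_val] at h
    simp only [s_0_1, s_0_2, s_0_3, s_1_2, s_1_3, s_2_3] at h
    linarith only [h]
  have Qs : ∀ c0 c1 c2 c3 : ℤ, (c0 = 0 ∨ c1 = 0 ∨ c2 = 0 ∨ c3 = 0) → (c0 ≠ 0 ∨ c1 ≠ 0 ∨ c2 ≠ 0 ∨ c3 ≠ 0) → c0 * c0 * T.a 0 0 + c1 * c1 * T.a 1 1 + c2 * c2 * T.a 2 2 + c3 * c3 * T.a 3 3 + 2 * (c0 * c1 * T.a 0 1 + c0 * c2 * T.a 0 2 + c0 * c3 * T.a 0 3 + c1 * c2 * T.a 1 2 + c1 * c3 * T.a 1 3 + c2 * c3 * T.a 2 3) < 0 := by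
    intro c0 c1 c2 c3 hz hnz
    have h := H8Num.quad_neg_of_zero_entry T ![c0, c1, c2, c3] (by
      rcases hz with h | h | h | h
      · exact ⟨0, by simpa using h⟩
      · exact ⟨1, by simpa using h⟩
      · exact ⟨2, by simpa using h⟩
      · exact ⟨3, by simpa using h⟩
      ) (by
      rcases hnz with h | h | h | h
      · exact ⟨0, by simpa using h⟩
      · exact ⟨1, by simpa using h⟩
      · exact ⟨2, by simpa using h⟩
      · exact ⟨3, by simpa using h⟩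
      )
    simp only [Fin.sum_univ_four] at h
    simp only [Matrix.cons_val_zero, Matrix.cons_val_one, Matrix.cons_val] at h
    simp only [s_0_1, s_0_2, s_0_3, s_1_2, s_1_3, s_2_3] at h
    linarith only [h]
  have r_0 : T.a 0 0 * T.m 0 + T.a 0 1 * T.m 1 + T.a 0 2 * T.m 2 + T.a 0 3 * T.m 3 = 0 := by
    have h := H8Num.row_sum T 0; simp only [Fin.sum_univ_four] at h; exact h
  have r_1 : T.a 0 1 * T.m 0 + T.a 1 1 * T.m 1 + T.a 1 2 * T.m 2 + T.a 1 3 * T.m 3 = 0 := by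
    have h := H8Num.row_sum T 1; simp only [Fin.sum_univ_four, s_0_1] at h; exact h
  have r_2 : T.a 0 2 * T.m 0 + T.a 1 2 * T.m 1 + T.a 2 2 * T.m 2 + T.a 2 3 * T.m 3 = 0 := by
    have h := H8Num.row_sum T 2; simp only [Fin.sum_univ_four, s_0_2, s_1_2] at h; exact h
  have r_3 : T.a 0 3 * T.m 0 + T.a 1 3 * T.m 1 + T.a 2 3 * T.m 2 + T.a 3 3 * T.m 3 = 0 := by
    have h := H8Num.row_sum T 3; simp only [Fin.sum_univ_four, s_0_3, s_1_3, s_2_3] at h; exact h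
  rcases eq_or_ne (T.a 0 2) 0 with z_0_2 | h_0_2
  · skip
    rcases eq_or_ne (T.a 0 3) 0 with z_0_3 | h_0_3
    · skip
      rcases eq_or_ne (T.a 1 2) 0 with z_1_2 | h_1_2
      · skip
        rcases eq_or_ne (T.a 1 3) 0 with z_1_3 | h_1_3
        · skip
          rcases eq_or_ne (T.a 2 3) 0 with z_2_3 | h_2_3
          · skip
            exfalso
            have r := r_2
            rw [z_0_2, z_1_2, z_2_3, d_2] at r
            linarith only [r, mul_pos w_2 mp_2]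
          · rcases H8Num.pair5 T (by norm_num) 2 3 (by decide) (hall 2) (hall 3) h_2_3 with ⟨e_2_3, a_2_3⟩ | ⟨e_2_3, a_2_3⟩ | ⟨e_2_3, a_2_3⟩ | ⟨e_2_3, a_2_3⟩ | ⟨e_2_3, a_2_3⟩
            · skip
              have hWn_1 : T.w 1 = 3 * T.w 0 := by linarith only [e_0_1, e_2_3]
              have hWn_3 : T.w 3 = T.w 2 := by linarith only [e_0_1, e_2_3]
              have hA_0_1 : T.a 0 1 = 3 * T.w 0 := by linarith only [e_0_1, e_2_3, a_0_1]
              have hA_2_3 : T.a 2 3 = T.w 2 := by linarith only [e_0_1, e_2_3, a_2_3]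
              have r0 := r_0
              have r1 := r_1
              have r2 := r_2
              have r3 := r_3
              simp only [hA_0_1, hA_2_3, z_0_2, z_0_3, z_1_2, z_1_3, d_0, d_1, d_2, d_3, hWn_1, hWn_3] at r0 r1 r2 r3
              exfalso
              have pm0 := mul_pos w_0 mp_0
              have pm1 := mul_pos w_0 mp_1
              have pm2 := mul_pos w_2 mp_2
              have pm3 := mul_pos w_2 mp_3
              linarith only [r0, r1, r2, r3, pm0, pm1, pm2, pm3]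
            · skip
              have hWn_1 : T.w 1 = 3 * T.w 0 := by linarith only [e_0_1, e_2_3]
              have hWn_3 : T.w 3 = 2 * T.w 2 := by linarith only [e_0_1, e_2_3]
              have hA_0_1 : T.a 0 1 = 3 * T.w 0 := by linarith only [e_0_1, e_2_3, a_0_1]
              have hA_2_3 : T.a 2 3 = 2 * T.w 2 := by linarith only [e_0_1, e_2_3, a_2_3]
              have r0 := r_0
              have r1 := r_1
              have r2 := r_2
              have r3 := r_3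
              simp only [hA_0_1, hA_2_3, z_0_2, z_0_3, z_1_2, z_1_3, d_0, d_1, d_2, d_3, hWn_1, hWn_3] at r0 r1 r2 r3
              exfalso
              have pm0 := mul_pos w_0 mp_0
              have pm1 := mul_pos w_0 mp_1
              have pm2 := mul_pos w_2 mp_2
              have pm3 := mul_pos w_2 mp_3
              linarith only [r0, r1, r2, r3, pm0, pm1, pm2, pm3]
            · skip
              have hWn_1 : T.w 1 = 3 * T.w 0 := by linarith only [e_0_1, e_2_3]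
              have hWn_3 : T.w 3 = 3 * T.w 2 := by linarith only [e_0_1, e_2_3]
              have hA_0_1 : T.a 0 1 = 3 * T.w 0 := by linarith only [e_0_1, e_2_3, a_0_1]
              have hA_2_3 : T.a 2 3 = 3 * T.w 2 := by linarith only [e_0_1, e_2_3, a_2_3]
              have r0 := r_0
              have r1 := r_1
              have r2 := r_2
              have r3 := r_3
              simp only [hA_0_1, hA_2_3, z_0_2, z_0_3, z_1_2, z_1_3, d_0, d_1, d_2, d_3, hWn_1, hWn_3] at r0 r1 r2 r3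
              exfalso
              have pm0 := mul_pos w_0 mp_0
              have pm1 := mul_pos w_0 mp_1
              have pm2 := mul_pos w_2 mp_2
              have pm3 := mul_pos w_2 mp_3
              linarith only [r0, r1, r2, r3, pm0, pm1, pm2, pm3]
            · skip
              have hWn_1 : T.w 1 = 3 * T.w 0 := by linarith only [e_0_1, e_2_3]
              have hWn_2 : T.w 2 = 2 * T.w 3 := by linarith only [e_0_1, e_2_3]
              have hA_0_1 : T.a 0 1 = 3 * T.w 0 := by linarith only [e_0_1, e_2_3, a_0_1]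
              have hA_2_3 : T.a 2 3 = 2 * T.w 3 := by linarith only [e_0_1, e_2_3, a_2_3]
              have r0 := r_0
              have r1 := r_1
              have r2 := r_2
              have r3 := r_3
              simp only [hA_0_1, hA_2_3, z_0_2, z_0_3, z_1_2, z_1_3, d_0, d_1, d_2, d_3, hWn_1, hWn_2] at r0 r1 r2 r3
              exfalso
              have pm0 := mul_pos w_0 mp_0
              have pm1 := mul_pos w_0 mp_1
              have pm2 := mul_pos w_3 mp_2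
              have pm3 := mul_pos w_3 mp_3
              linarith only [r0, r1, r2, r3, pm0, pm1, pm2, pm3]
            · skip
              have hWn_1 : T.w 1 = 3 * T.w 0 := by linarith only [e_0_1, e_2_3]
              have hWn_2 : T.w 2 = 3 * T.w 3 := by linarith only [e_0_1, e_2_3]
              have hA_0_1 : T.a 0 1 = 3 * T.w 0 := by linarith only [e_0_1, e_2_3, a_0_1]
              have hA_2_3 : T.a 2 3 = 3 * T.w 3 := by linarith only [e_0_1, e_2_3, a_2_3]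
              have r0 := r_0
              have r1 := r_1
              have r2 := r_2
              have r3 := r_3
              simp only [hA_0_1, hA_2_3, z_0_2, z_0_3, z_1_2, z_1_3, d_0, d_1, d_2, d_3, hWn_1, hWn_2] at r0 r1 r2 r3
              exfalso
              have pm0 := mul_pos w_0 mp_0
              have pm1 := mul_pos w_0 mp_1
              have pm2 := mul_pos w_3 mp_2
              have pm3 := mul_pos w_3 mp_3
              linarith only [r0, r1, r2, r3, pm0, pm1, pm2, pm3]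
        · rcases H8Num.pair5 T (by norm_num) 1 3 (by decide) (hall 1) (hall 3) h_1_3 with ⟨e_1_3, a_1_3⟩ | ⟨e_1_3, a_1_3⟩ | ⟨e_1_3, a_1_3⟩ | ⟨e_1_3, a_1_3⟩ | ⟨e_1_3, a_1_3⟩
          · skip
            exfalso
            have tv := Qs 3 2 0 1 (by norm_num) (by norm_num)
            norm_num at tv
            linarith only [tv, e_0_1, a_0_1, z_0_2, z_0_3, z_1_2, e_1_3, a_1_3, n_2_3, d_0, d_1, d_2, d_3, w_0, w_1, w_2, w_3]
          · skip
            exfalso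
            have tv := Qn 2 2 0 1
            norm_num at tv
            linarith only [tv, e_0_1, a_0_1, z_0_2, z_0_3, z_1_2, e_1_3, a_1_3, n_2_3, d_0, d_1, d_2, d_3, w_0, w_1, w_2, w_3]
          · skip
            exfalso
            have tv := Qn 1 2 0 1
            norm_num at tv
            linarith only [tv, e_0_1, a_0_1, z_0_2, z_0_3, z_1_2, e_1_3, a_1_3, n_2_3, d_0, d_1, d_2, d_3, w_0, w_1, w_2, w_3]
          · skip
            exfalso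
            have tv := Qn 1 1 0 1
            norm_num at tv
            linarith only [tv, e_0_1, a_0_1, z_0_2, z_0_3, z_1_2, e_1_3, a_1_3, n_2_3, d_0, d_1, d_2, d_3, w_0, w_1, w_2, w_3]
          · skip
            exfalso
            have tv := Qn 1 1 0 1
            norm_num at tv
            linarith only [tv, e_0_1, a_0_1, z_0_2, z_0_3, z_1_2, e_1_3, a_1_3, n_2_3, d_0, d_1, d_2, d_3, w_0, w_1, w_2, w_3]
      · rcases H8Num.pair5 T (by norm_num) 1 2 (by decide) (hall 1) (hall 2) h_1_2 with ⟨e_1_2, a_1_2⟩ | ⟨e_1_2, a_1_2⟩ | ⟨e_1_2, a_1_2⟩ | ⟨e_1_2, a_1_2⟩ | ⟨e_1_2, a_1_2⟩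
        · skip
          exfalso
          have tv := Qs 3 2 1 0 (by norm_num) (by norm_num)
          norm_num at tv
          linarith only [tv, e_0_1, a_0_1, z_0_2, z_0_3, e_1_2, a_1_2, n_1_3, n_2_3, d_0, d_1, d_2, d_3, w_0, w_1, w_2, w_3]
        · skip
          exfalso
          have tv := Qn 2 2 1 0
          norm_num at tv
          linarith only [tv, e_0_1, a_0_1, z_0_2, z_0_3, e_1_2, a_1_2, n_1_3, n_2_3, d_0, d_1, d_2, d_3, w_0, w_1, w_2, w_3]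
        · skip
          exfalso
          have tv := Qn 1 2 1 0
          norm_num at tv
          linarith only [tv, e_0_1, a_0_1, z_0_2, z_0_3, e_1_2, a_1_2, n_1_3, n_2_3, d_0, d_1, d_2, d_3, w_0, w_1, w_2, w_3]
        · skip
          exfalso
          have tv := Qn 1 1 1 0
          norm_num at tv
          linarith only [tv, e_0_1, a_0_1, z_0_2, z_0_3, e_1_2, a_1_2, n_1_3, n_2_3, d_0, d_1, d_2, d_3, w_0, w_1, w_2, w_3]
        · skip
          exfalso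
          have tv := Qn 1 1 1 0
          norm_num at tv
          linarith only [tv, e_0_1, a_0_1, z_0_2, z_0_3, e_1_2, a_1_2, n_1_3, n_2_3, d_0, d_1, d_2, d_3, w_0, w_1, w_2, w_3]
    · rcases H8Num.pair5 T (by norm_num) 0 3 (by decide) (hall 0) (hall 3) h_0_3 with ⟨e_0_3, a_0_3⟩ | ⟨e_0_3, a_0_3⟩ | ⟨e_0_3, a_0_3⟩ | ⟨e_0_3, a_0_3⟩ | ⟨e_0_3, a_0_3⟩
      · skip
        exfalso
        have tv := Qs 2 1 0 1 (by norm_num) (by norm_num)
        norm_num at tv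
        linarith only [tv, e_0_1, a_0_1, z_0_2, e_0_3, a_0_3, n_1_2, n_1_3, n_2_3, d_0, d_1, d_2, d_3, w_0, w_1, w_2, w_3]
      · skip
        exfalso
        have tv := Qn 2 1 0 1
        norm_num at tv
        linarith only [tv, e_0_1, a_0_1, z_0_2, e_0_3, a_0_3, n_1_2, n_1_3, n_2_3, d_0, d_1, d_2, d_3, w_0, w_1, w_2, w_3]
      · skip
        exfalso
        have tv := Qn 2 1 0 1
        norm_num at tv
        linarith only [tv, e_0_1, a_0_1, z_0_2, e_0_3, a_0_3, n_1_2, n_1_3, n_2_3, d_0, d_1, d_2, d_3, w_0, w_1, w_2, w_3]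
      · skip
        exfalso
        have tv := Qn 2 1 0 1
        norm_num at tv
        linarith only [tv, e_0_1, a_0_1, z_0_2, e_0_3, a_0_3, n_1_2, n_1_3, n_2_3, d_0, d_1, d_2, d_3, w_0, w_1, w_2, w_3]
      · skip
        exfalso
        have tv := Qn 2 1 0 1
        norm_num at tv
        linarith only [tv, e_0_1, a_0_1, z_0_2, e_0_3, a_0_3, n_1_2, n_1_3, n_2_3, d_0, d_1, d_2, d_3, w_0, w_1, w_2, w_3]
  · rcases H8Num.pair5 T (by norm_num) 0 2 (by decide) (hall 0) (hall 2) h_0_2 with ⟨e_0_2, a_0_2⟩ | ⟨e_0_2, a_0_2⟩ | ⟨e_0_2, a_0_2⟩ | ⟨e_0_2, a_0_2⟩ | ⟨e_0_2, a_0_2⟩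
    · skip
      exfalso
      have tv := Qs 2 1 1 0 (by norm_num) (by norm_num)
      norm_num at tv
      linarith only [tv, e_0_1, a_0_1, e_0_2, a_0_2, n_0_3, n_1_2, n_1_3, n_2_3, d_0, d_1, d_2, d_3, w_0, w_1, w_2, w_3]
    · skip
      exfalso
      have tv := Qn 2 1 1 0
      norm_num at tv
      linarith only [tv, e_0_1, a_0_1, e_0_2, a_0_2, n_0_3, n_1_2, n_1_3, n_2_3, d_0, d_1, d_2, d_3, w_0, w_1, w_2, w_3]
    · skip
      exfalso
      have tv := Qn 2 1 1 0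
      norm_num at tv
      linarith only [tv, e_0_1, a_0_1, e_0_2, a_0_2, n_0_3, n_1_2, n_1_3, n_2_3, d_0, d_1, d_2, d_3, w_0, w_1, w_2, w_3]
    · skip
      exfalso
      have tv := Qn 2 1 1 0
      norm_num at tv
      linarith only [tv, e_0_1, a_0_1, e_0_2, a_0_2, n_0_3, n_1_2, n_1_3, n_2_3, d_0, d_1, d_2, d_3, w_0, w_1, w_2, w_3]
    · skip
      exfalso
      have tv := Qn 2 1 1 0
      norm_num at tv
      linarith only [tv, e_0_1, a_0_1, e_0_2, a_0_2, n_0_3, n_1_2, n_1_3, n_2_3, d_0, d_1, d_2, d_3, w_0, w_1, w_2, w_3]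

end H8N4u3
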