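import Mathlib
import Groth.Agent.H8Num2

set_option autoImplicit false
set_option linter.unusedSimpArgs false

namespace H8Num
open Finset Models

theorem chain3_v {n : ℕ} (T : NumericalType n) (hn : 3 < n)
    (v : Fin 3 ↪ Fin n) (hv : ∀ j, T.IsMinusTwo (v j))
    (h01 : T.a (v 0) (v 1) ≠ 0) (h12 : T.a (v 1) (v 2) ≠ 0) :
    (T.a (v 0) (v 2) = 0) ∧
    ∃ (u : Fin 3 → Fin n) (w : ℤ), ((∀ j, u j = v j) ∨ (∀ j, u j = v (Fin.rev j))) ∧
      ((T.w (u 0) = w ∧ T.w (u 1) = w ∧ T.w (u 2) = w ∧ T.a (u 0) (u 1) = w ∧ T.a (u 1) (u 2) = w ∧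
          T.m (u 1) ≤ 2 * T.m (u 0) ∧ T.m (u 0) + T.m (u 2) ≤ 2 * T.m (u 1) ∧ T.m (u 1) ≤ 2 * T.m (u 2)) ∨
        (T.w (u 0) = w ∧ T.w (u 1) = w ∧ T.w (u 2) = 2 * w ∧ T.a (u 0) (u 1) = w ∧ T.a (u 1) (u 2) = 2 * w ∧
          T.m (u 1) ≤ 2 * T.m (u 0) ∧ T.m (u 0) + 2 * T.m (u 2) ≤ 2 * T.m (u 1) ∧ T.m (u 1) ≤ 2 * T.m (u 2)) ∨
        (T.w (u 0) = 2 * w ∧ T.w (u 1) = 2 * w ∧ T.w (u 2) = w ∧ T.a (u 0) (u 1) = 2 * w ∧ T.a (u 1) (u 2) = 2 * w ∧
          T.m (u 1) ≤ 2 * T.m (u 0) ∧ T.m (u 0) + T.m (u 2) ≤ 2 * T.m (u 1) ∧ T.m (u 1) ≤ T.m (u 2))) := by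
  classical
  have hs : ∀ i j, T.a (v i) (v j) = T.a (v j) (v i) := fun i j => (T.symm.apply (v i) (v j)).symm ▸ rfl
  have hnn : ∀ i j, i ≠ j → 0 ≤ T.a (v i) (v j) := fun i j h => T.offDiag_nonneg _ _ (fun e => h (v.injective e))
  have hdv1 : ∀ i j, T.w (v i) ∣ T.a (v i) (v j) := fun i j => T.w_dvd _ _
  have hdv2 : ∀ i j, T.w (v j) ∣ T.a (v i) (v j) := fun i j => by rw [hs]; exact T.w_dvd _ _
  have d_0 : T.a (v 0) (v 0) = -2 * T.w (v 0) := (hv 0).2
  have w_0 : 0 < T.w (v 0) := T.w_pos _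
  have d_1 : T.a (v 1) (v 1) = -2 * T.w (v 1) := (hv 1).2
  have w_1 : 0 < T.w (v 1) := T.w_pos _
  have d_2 : T.a (v 2) (v 2) = -2 * T.w (v 2) := (hv 2).2
  have w_2 : 0 < T.w (v 2) := T.w_pos _
  have n_0_1 : 0 ≤ T.a (v 0) (v 1) := hnn 0 1 (by decide)
  have s_0_1 : T.a (v 1) (v 0) = T.a (v 0) (v 1) := hs 1 0
  have n_0_2 : 0 ≤ T.a (v 0) (v 2) := hnn 0 2 (by decide)
  have s_0_2 : T.a (v 2) (v 0) = T.a (v 0) (v 2) := hs 2 0
  have n_1_2 : 0 ≤ T.a (v 1) (v 2) := hnn 1 2 (by decide)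
  have s_1_2 : T.a (v 2) (v 1) = T.a (v 1) (v 2) := hs 2 1
  have Q : ∀ c0 c1 c2 : ℤ, (c0 ≠ 0 ∨ c1 ≠ 0 ∨ c2 ≠ 0) →
      c0 * c0 * T.a (v 0) (v 0) + c1 * c1 * T.a (v 1) (v 1) + c2 * c2 * T.a (v 2) (v 2) + 2 * (c0 * c1 * T.a (v 0) (v 1) + c0 * c2 * T.a (v 0) (v 2) + c1 * c2 * T.a (v 1) (v 2)) < 0 := by
    intro c0 c1 c2 hc
    have h := H8Num.neg_of_ne_zero T hn v ![c0, c1, c2] (by
      rcases hc with h | h | h
      · exact ⟨0, by simpa using h⟩
      · exact ⟨1, by simpa using h⟩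
      · exact ⟨2, by simpa using h⟩
      )
    simp only [Fin.sum_univ_three] at h
    simp only [Matrix.cons_val_zero, Matrix.cons_val_one, Matrix.cons_val] at h
    simp only [s_0_1, s_0_2, s_1_2] at h
    linarith only [h]
  have p_0_1 : 0 < T.a (v 0) (v 1) := lt_of_le_of_ne n_0_1 (Ne.symm h01)
  have g1_0_1 : T.w (v 0) ≤ T.a (v 0) (v 1) := Int.le_of_dvd p_0_1 (hdv1 0 1)
  have g2_0_1 : T.w (v 1) ≤ T.a (v 0) (v 1) := Int.le_of_dvd p_0_1 (hdv2 0 1)
  have p_1_2 : 0 < T.a (v 1) (v 2) := lt_of_le_of_ne n_1_2 (Ne.symm h12)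
  have g1_1_2 : T.w (v 1) ≤ T.a (v 1) (v 2) := Int.le_of_dvd p_1_2 (hdv1 1 2)
  have g2_1_2 : T.w (v 2) ≤ T.a (v 1) (v 2) := Int.le_of_dvd p_1_2 (hdv2 1 2)
  have P_0 := H8Num.pair5 T (by omega) (v 0) (v 1) (fun e => absurd (v.injective e) (by decide)) (hv 0) (hv 1) h01
  have P_1 := H8Num.pair5 T (by omega) (v 1) (v 2) (fun e => absurd (v.injective e) (by decide)) (hv 1) (hv 2) h12
  rcases P_0 with ⟨e_0, a_0⟩ | ⟨e_0, a_0⟩ | ⟨e_0, a_0⟩ | ⟨e_0, a_0⟩ | ⟨e_0, a_0⟩
  · skip
    rcases P_1 with ⟨e_1, a_1⟩ | ⟨e_1, a_1⟩ | ⟨e_1, a_1⟩ | ⟨e_1, a_1⟩ | ⟨e_1, a_1⟩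
    · skip
      have hWn_1 : T.w (v 1) = T.w (v 0) := by linarith only [e_0, e_1]
      have hWn_2 : T.w (v 2) = T.w (v 0) := by linarith only [e_0, e_1]
      have hAn_0 : T.a (v 0) (v 1) = T.w (v 0) := by linarith only [e_0, e_1, a_0]
      have hAn_1 : T.a (v 1) (v 2) = T.w (v 0) := by linarith only [e_0, e_1, a_1]
      have hZ_0_2 : T.a (v 0) (v 2) = 0 := by
        apply H8Num.eq_zero_of_dvd_lt (w := T.w (v 0)) (hdv1 0 2) n_0_2
        have tv := Q 1 1 1 (by norm_num)
        norm_num at tv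
        linarith only [tv, hWn_1, hWn_2, hAn_0, hAn_1, d_0, d_1, d_2, w_0]
      have hM_0 : T.m (v 1) ≤ 2 * T.m (v 0) := by
        have row := H8Num.row_le T v 0
        simp only [Fin.sum_univ_three] at row
        simp only [s_0_1, s_0_2, s_1_2, hZ_0_2, hAn_0, hAn_1, d_0, d_1, d_2, hWn_1, hWn_2] at row
        by_contra hcon
        push Not at hcon
        have hmp := mul_pos w_0 (sub_pos.2 hcon)
        linarith only [hmp, row]
      have hM_1 : T.m (v 0) + T.m (v 2) ≤ 2 * T.m (v 1) := by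
        have row := H8Num.row_le T v 1
        simp only [Fin.sum_univ_three] at row
        simp only [s_0_1, s_0_2, s_1_2, hZ_0_2, hAn_0, hAn_1, d_0, d_1, d_2, hWn_1, hWn_2] at row
        by_contra hcon
        push Not at hcon
        have hmp := mul_pos w_0 (sub_pos.2 hcon)
        linarith only [hmp, row]
      have hM_2 : T.m (v 1) ≤ 2 * T.m (v 2) := by
        have row := H8Num.row_le T v 2
        simp only [Fin.sum_univ_three] at row
        simp only [s_0_1, s_0_2, s_1_2, hZ_0_2, hAn_0, hAn_1, d_0, d_1, d_2, hWn_1, hWn_2] at row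
        by_contra hcon
        push Not at hcon
        have hmp := mul_pos w_0 (sub_pos.2 hcon)
        linarith only [hmp, row]
      refine ⟨hZ_0_2, ⇑v, T.w (v 0), Or.inl (fun j => rfl), Or.inl ⟨?_, ?_, ?_, ?_, ?_, ?_, ?_, ?_⟩⟩
      · rfl
      · exact hWn_1
      · exact hWn_2
      · exact hAn_0
      · exact hAn_1
      · show _ ≤ _
        skip
        linarith only [hM_0]
      · show _ ≤ _
        skip
        linarith only [hM_1]
      · show _ ≤ _
        skip
        linarith only [hM_2]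
    · skip
      have hWn_1 : T.w (v 1) = T.w (v 0) := by linarith only [e_0, e_1]
      have hWn_2 : T.w (v 2) = 2 * T.w (v 0) := by linarith only [e_0, e_1]
      have hAn_0 : T.a (v 0) (v 1) = T.w (v 0) := by linarith only [e_0, e_1, a_0]
      have hAn_1 : T.a (v 1) (v 2) = 2 * T.w (v 0) := by linarith only [e_0, e_1, a_1]
      have hZ_0_2 : T.a (v 0) (v 2) = 0 := by
        apply H8Num.eq_zero_of_dvd_lt (w := T.w (v 0)) (hdv1 0 2) n_0_2
        have tv := Q 1 1 1 (by norm_num)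
        norm_num at tv
        linarith only [tv, hWn_1, hWn_2, hAn_0, hAn_1, d_0, d_1, d_2, w_0]
      have hM_0 : T.m (v 1) ≤ 2 * T.m (v 0) := by
        have row := H8Num.row_le T v 0
        simp only [Fin.sum_univ_three] at row
        simp only [s_0_1, s_0_2, s_1_2, hZ_0_2, hAn_0, hAn_1, d_0, d_1, d_2, hWn_1, hWn_2] at row
        by_contra hcon
        push Not at hcon
        have hmp := mul_pos w_0 (sub_pos.2 hcon)
        linarith only [hmp, row]
      have hM_1 : T.m (v 0) + 2 * T.m (v 2) ≤ 2 * T.m (v 1) := by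
        have row := H8Num.row_le T v 1
        simp only [Fin.sum_univ_three] at row
        simp only [s_0_1, s_0_2, s_1_2, hZ_0_2, hAn_0, hAn_1, d_0, d_1, d_2, hWn_1, hWn_2] at row
        by_contra hcon
        push Not at hcon
        have hmp := mul_pos w_0 (sub_pos.2 hcon)
        linarith only [hmp, row]
      have hM_2 : T.m (v 1) ≤ 2 * T.m (v 2) := by
        have row := H8Num.row_le T v 2
        simp only [Fin.sum_univ_three] at row
        simp only [s_0_1, s_0_2, s_1_2, hZ_0_2, hAn_0, hAn_1, d_0, d_1, d_2, hWn_1, hWn_2] at row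
        by_contra hcon
        push Not at hcon
        have hmp := mul_pos w_0 (sub_pos.2 hcon)
        linarith only [hmp, row]
      refine ⟨hZ_0_2, ⇑v, T.w (v 0), Or.inl (fun j => rfl), Or.inr (Or.inl ⟨?_, ?_, ?_, ?_, ?_, ?_, ?_, ?_⟩)⟩
      · rfl
      · exact hWn_1
      · exact hWn_2
      · exact hAn_0
      · exact hAn_1
      · show _ ≤ _
        skip
        linarith only [hM_0]
      · show _ ≤ _
        skip
        linarith only [hM_1]
      · show _ ≤ _
        skip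
        linarith only [hM_2]
    · exfalso
      have tv := Q 1 2 1 (by norm_num)
      norm_num at tv
      linarith only [tv, e_0, e_1, a_0, a_1, d_0, d_1, d_2, w_0, w_1, w_2, n_0_2]
    · skip
      have hWn_0 : T.w (v 0) = 2 * T.w (v 2) := by linarith only [e_0, e_1]
      have hWn_1 : T.w (v 1) = 2 * T.w (v 2) := by linarith only [e_0, e_1]
      have hAn_0 : T.a (v 0) (v 1) = 2 * T.w (v 2) := by linarith only [e_0, e_1, a_0]
      have hAn_1 : T.a (v 1) (v 2) = 2 * T.w (v 2) := by linarith only [e_0, e_1, a_1]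
      have hZ_0_2 : T.a (v 0) (v 2) = 0 := by
        apply H8Num.eq_zero_of_dvd_lt (w := T.w (v 0)) (hdv1 0 2) n_0_2
        have tv := Q 1 1 1 (by norm_num)
        norm_num at tv
        linarith only [tv, hWn_0, hWn_1, hAn_0, hAn_1, d_0, d_1, d_2, w_2]
      have hM_0 : T.m (v 1) ≤ 2 * T.m (v 0) := by
        have row := H8Num.row_le T v 0
        simp only [Fin.sum_univ_three] at row
        simp only [s_0_1, s_0_2, s_1_2, hZ_0_2, hAn_0, hAn_1, d_0, d_1, d_2, hWn_0, hWn_1] at row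
        by_contra hcon
        push Not at hcon
        have hmp := mul_pos w_2 (sub_pos.2 hcon)
        linarith only [hmp, row]
      have hM_1 : T.m (v 0) + T.m (v 2) ≤ 2 * T.m (v 1) := by
        have row := H8Num.row_le T v 1
        simp only [Fin.sum_univ_three] at row
        simp only [s_0_1, s_0_2, s_1_2, hZ_0_2, hAn_0, hAn_1, d_0, d_1, d_2, hWn_0, hWn_1] at row
        by_contra hcon
        push Not at hcon
        have hmp := mul_pos w_2 (sub_pos.2 hcon)
        linarith only [hmp, row]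
      have hM_2 : 2 * T.m (v 1) ≤ 2 * T.m (v 2) := by
        have row := H8Num.row_le T v 2
        simp only [Fin.sum_univ_three] at row
        simp only [s_0_1, s_0_2, s_1_2, hZ_0_2, hAn_0, hAn_1, d_0, d_1, d_2, hWn_0, hWn_1] at row
        by_contra hcon
        push Not at hcon
        have hmp := mul_pos w_2 (sub_pos.2 hcon)
        linarith only [hmp, row]
      refine ⟨hZ_0_2, ⇑v, T.w (v 2), Or.inl (fun j => rfl), Or.inr (Or.inr (⟨?_, ?_, ?_, ?_, ?_, ?_, ?_, ?_⟩))⟩
      · exact hWn_0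
      · exact hWn_1
      · rfl
      · exact hAn_0
      · exact hAn_1
      · show _ ≤ _
        skip
        linarith only [hM_0]
      · show _ ≤ _
        skip
        linarith only [hM_1]
      · show _ ≤ _
        skip
        linarith only [hM_2]
    · exfalso
      have tv := Q 1 2 3 (by norm_num)
      norm_num at tv
      linarith only [tv, e_0, e_1, a_0, a_1, d_0, d_1, d_2, w_0, w_1, w_2, n_0_2]
  · skip
    rcases P_1 with ⟨e_1, a_1⟩ | ⟨e_1, a_1⟩ | ⟨e_1, a_1⟩ | ⟨e_1, a_1⟩ | ⟨e_1, a_1⟩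
    · skip
      have hWn_1 : T.w (v 1) = 2 * T.w (v 0) := by linarith only [e_0, e_1]
      have hWn_2 : T.w (v 2) = 2 * T.w (v 0) := by linarith only [e_0, e_1]
      have hAn_0 : T.a (v 0) (v 1) = 2 * T.w (v 0) := by linarith only [e_0, e_1, a_0]
      have hAn_1 : T.a (v 1) (v 2) = 2 * T.w (v 0) := by linarith only [e_0, e_1, a_1]
      have hZ_0_2 : T.a (v 0) (v 2) = 0 := by
        apply H8Num.eq_zero_of_dvd_lt (w := T.w (v 0)) (hdv1 0 2) n_0_2
        have tv := Q 1 1 1 (by norm_num)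
        norm_num at tv
        linarith only [tv, hWn_1, hWn_2, hAn_0, hAn_1, d_0, d_1, d_2, w_0]
      have hM_0 : 2 * T.m (v 1) ≤ 2 * T.m (v 0) := by
        have row := H8Num.row_le T v 0
        simp only [Fin.sum_univ_three] at row
        simp only [s_0_1, s_0_2, s_1_2, hZ_0_2, hAn_0, hAn_1, d_0, d_1, d_2, hWn_1, hWn_2] at row
        by_contra hcon
        push Not at hcon
        have hmp := mul_pos w_0 (sub_pos.2 hcon)
        linarith only [hmp, row]
      have hM_1 : T.m (v 0) + T.m (v 2) ≤ 2 * T.m (v 1) := by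
        have row := H8Num.row_le T v 1
        simp only [Fin.sum_univ_three] at row
        simp only [s_0_1, s_0_2, s_1_2, hZ_0_2, hAn_0, hAn_1, d_0, d_1, d_2, hWn_1, hWn_2] at row
        by_contra hcon
        push Not at hcon
        have hmp := mul_pos w_0 (sub_pos.2 hcon)
        linarith only [hmp, row]
      have hM_2 : T.m (v 1) ≤ 2 * T.m (v 2) := by
        have row := H8Num.row_le T v 2
        simp only [Fin.sum_univ_three] at row
        simp only [s_0_1, s_0_2, s_1_2, hZ_0_2, hAn_0, hAn_1, d_0, d_1, d_2, hWn_1, hWn_2] at row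
        by_contra hcon
        push Not at hcon
        have hmp := mul_pos w_0 (sub_pos.2 hcon)
        linarith only [hmp, row]
      refine ⟨hZ_0_2, ![v 2, v 1, v 0], T.w (v 0), Or.inr (fun j => by fin_cases j <;> rfl), Or.inr (Or.inr (⟨?_, ?_, ?_, ?_, ?_, ?_, ?_, ?_⟩))⟩
      · exact hWn_2
      · exact hWn_1
      · rfl
      · exact (s_1_2).trans hAn_1
      · exact (s_0_1).trans hAn_0
      · show _ ≤ _
        simp only [Matrix.cons_val_zero, Matrix.cons_val_one, Matrix.cons_val]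
        linarith only [hM_2]
      · show _ ≤ _
        simp only [Matrix.cons_val_zero, Matrix.cons_val_one, Matrix.cons_val]
        linarith only [hM_1]
      · show _ ≤ _
        simp only [Matrix.cons_val_zero, Matrix.cons_val_one, Matrix.cons_val]
        linarith only [hM_0]
    · exfalso
      have tv := Q 2 2 1 (by norm_num)
      norm_num at tv
      linarith only [tv, e_0, e_1, a_0, a_1, d_0, d_1, d_2, w_0, w_1, w_2, n_0_2]
    · exfalso
      have tv := Q 1 2 1 (by norm_num)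
      norm_num at tv
      linarith only [tv, e_0, e_1, a_0, a_1, d_0, d_1, d_2, w_0, w_1, w_2, n_0_2]
    · exfalso
      have tv := Q 1 1 1 (by norm_num)
      norm_num at tv
      linarith only [tv, e_0, e_1, a_0, a_1, d_0, d_1, d_2, w_0, w_1, w_2, n_0_2]
    · exfalso
      have tv := Q 1 1 1 (by norm_num)
      norm_num at tv
      linarith only [tv, e_0, e_1, a_0, a_1, d_0, d_1, d_2, w_0, w_1, w_2, n_0_2]
  · skip
    rcases P_1 with ⟨e_1, a_1⟩ | ⟨e_1, a_1⟩ | ⟨e_1, a_1⟩ | ⟨e_1, a_1⟩ | ⟨e_1, a_1⟩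
    · exfalso
      have tv := Q 3 2 1 (by norm_num)
      norm_num at tv
      linarith only [tv, e_0, e_1, a_0, a_1, d_0, d_1, d_2, w_0, w_1, w_2, n_0_2]
    · exfalso
      have tv := Q 2 2 1 (by norm_num)
      norm_num at tv
      linarith only [tv, e_0, e_1, a_0, a_1, d_0, d_1, d_2, w_0, w_1, w_2, n_0_2]
    · exfalso
      have tv := Q 1 2 1 (by norm_num)
      norm_num at tv
      linarith only [tv, e_0, e_1, a_0, a_1, d_0, d_1, d_2, w_0, w_1, w_2, n_0_2]
    · exfalso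
      have tv := Q 1 1 1 (by norm_num)
      norm_num at tv
      linarith only [tv, e_0, e_1, a_0, a_1, d_0, d_1, d_2, w_0, w_1, w_2, n_0_2]
    · exfalso
      have tv := Q 1 1 1 (by norm_num)
      norm_num at tv
      linarith only [tv, e_0, e_1, a_0, a_1, d_0, d_1, d_2, w_0, w_1, w_2, n_0_2]
  · skip
    rcases P_1 with ⟨e_1, a_1⟩ | ⟨e_1, a_1⟩ | ⟨e_1, a_1⟩ | ⟨e_1, a_1⟩ | ⟨e_1, a_1⟩
    · skip
      have hWn_0 : T.w (v 0) = 2 * T.w (v 1) := by linarith only [e_0, e_1]
      have hWn_2 : T.w (v 2) = T.w (v 1) := by linarith only [e_0, e_1]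
      have hAn_0 : T.a (v 0) (v 1) = 2 * T.w (v 1) := by linarith only [e_0, e_1, a_0]
      have hAn_1 : T.a (v 1) (v 2) = T.w (v 1) := by linarith only [e_0, e_1, a_1]
      have hZ_0_2 : T.a (v 0) (v 2) = 0 := by
        apply H8Num.eq_zero_of_dvd_lt (w := T.w (v 0)) (hdv1 0 2) n_0_2
        have tv := Q 1 1 1 (by norm_num)
        norm_num at tv
        linarith only [tv, hWn_0, hWn_2, hAn_0, hAn_1, d_0, d_1, d_2, w_1]
      have hM_0 : T.m (v 1) ≤ 2 * T.m (v 0) := by
        have row := H8Num.row_le T v 0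
        simp only [Fin.sum_univ_three] at row
        simp only [s_0_1, s_0_2, s_1_2, hZ_0_2, hAn_0, hAn_1, d_0, d_1, d_2, hWn_0, hWn_2] at row
        by_contra hcon
        push Not at hcon
        have hmp := mul_pos w_1 (sub_pos.2 hcon)
        linarith only [hmp, row]
      have hM_1 : 2 * T.m (v 0) + T.m (v 2) ≤ 2 * T.m (v 1) := by
        have row := H8Num.row_le T v 1
        simp only [Fin.sum_univ_three] at row
        simp only [s_0_1, s_0_2, s_1_2, hZ_0_2, hAn_0, hAn_1, d_0, d_1, d_2, hWn_0, hWn_2] at row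
        by_contra hcon
        push Not at hcon
        have hmp := mul_pos w_1 (sub_pos.2 hcon)
        linarith only [hmp, row]
      have hM_2 : T.m (v 1) ≤ 2 * T.m (v 2) := by
        have row := H8Num.row_le T v 2
        simp only [Fin.sum_univ_three] at row
        simp only [s_0_1, s_0_2, s_1_2, hZ_0_2, hAn_0, hAn_1, d_0, d_1, d_2, hWn_0, hWn_2] at row
        by_contra hcon
        push Not at hcon
        have hmp := mul_pos w_1 (sub_pos.2 hcon)
        linarith only [hmp, row]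
      refine ⟨hZ_0_2, ![v 2, v 1, v 0], T.w (v 1), Or.inr (fun j => by fin_cases j <;> rfl), Or.inr (Or.inl ⟨?_, ?_, ?_, ?_, ?_, ?_, ?_, ?_⟩)⟩
      · exact hWn_2
      · rfl
      · exact hWn_0
      · exact (s_1_2).trans hAn_1
      · exact (s_0_1).trans hAn_0
      · show _ ≤ _
        simp only [Matrix.cons_val_zero, Matrix.cons_val_one, Matrix.cons_val]
        linarith only [hM_2]
      · show _ ≤ _
        simp only [Matrix.cons_val_zero, Matrix.cons_val_one, Matrix.cons_val]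
        linarith only [hM_1]
      · show _ ≤ _
        simp only [Matrix.cons_val_zero, Matrix.cons_val_one, Matrix.cons_val]
        linarith only [hM_0]
    · exfalso
      have tv := Q 1 2 1 (by norm_num)
      norm_num at tv
      linarith only [tv, e_0, e_1, a_0, a_1, d_0, d_1, d_2, w_0, w_1, w_2, n_0_2]
    · exfalso
      have tv := Q 1 2 1 (by norm_num)
      norm_num at tv
      linarith only [tv, e_0, e_1, a_0, a_1, d_0, d_1, d_2, w_0, w_1, w_2, n_0_2]
    · exfalso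
      have tv := Q 1 2 2 (by norm_num)
      norm_num at tv
      linarith only [tv, e_0, e_1, a_0, a_1, d_0, d_1, d_2, w_0, w_1, w_2, n_0_2]
    · exfalso
      have tv := Q 1 2 2 (by norm_num)
      norm_num at tv
      linarith only [tv, e_0, e_1, a_0, a_1, d_0, d_1, d_2, w_0, w_1, w_2, n_0_2]
  · skip
    rcases P_1 with ⟨e_1, a_1⟩ | ⟨e_1, a_1⟩ | ⟨e_1, a_1⟩ | ⟨e_1, a_1⟩ | ⟨e_1, a_1⟩
    · exfalso
      have tv := Q 1 2 1 (by norm_num)
      norm_num at tv
      linarith only [tv, e_0, e_1, a_0, a_1, d_0, d_1, d_2, w_0, w_1, w_2, n_0_2]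
    · exfalso
      have tv := Q 1 2 1 (by norm_num)
      norm_num at tv
      linarith only [tv, e_0, e_1, a_0, a_1, d_0, d_1, d_2, w_0, w_1, w_2, n_0_2]
    · exfalso
      have tv := Q 1 2 1 (by norm_num)
      norm_num at tv
      linarith only [tv, e_0, e_1, a_0, a_1, d_0, d_1, d_2, w_0, w_1, w_2, n_0_2]
    · exfalso
      have tv := Q 1 2 1 (by norm_num)
      norm_num at tv
      linarith only [tv, e_0, e_1, a_0, a_1, d_0, d_1, d_2, w_0, w_1, w_2, n_0_2]
    · exfalso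
      have tv := Q 1 2 1 (by norm_num)
      norm_num at tv
      linarith only [tv, e_0, e_1, a_0, a_1, d_0, d_1, d_2, w_0, w_1, w_2, n_0_2]

end H8Num
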