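import Mathlib
import Groth.Agent.H8Num2

namespace H8Num
open Finset Models

variable {n : ℕ} (T : NumericalType n)

/-- row-local criterion: a nonnegative vector on a proper set of (-2)-indices whose rows
are all nonnegative must vanish. -/
lemma no_config_gen {k : ℕ} (hk : k < n) (v : Fin k ↪ Fin n) (hv : ∀ j, T.IsMinusTwo (v j))
    (c : Fin k → ℤ) (hc : ∀ j, 0 ≤ c j)
    (hS : ∀ j, c j = 0 ∨ ∃ S : Finset (Fin k), j ∉ S ∧
      2 * T.w (v j) * c j ≤ ∑ j' ∈ S, c j' * T.a (v j) (v j')) :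
    ∀ j, c j = 0 := by
  classical
  apply negDef_proper T hk v c
  refine Finset.sum_nonneg fun j _ => ?_
  have h5 : ∑ j', c j * c j' * T.a (v j) (v j') = c j * ∑ j', c j' * T.a (v j) (v j') := by
    rw [Finset.mul_sum]; refine Finset.sum_congr rfl fun j' _ => ?_; ring
  rw [h5]
  rcases hS j with h0 | ⟨S, hjS, hle⟩
  · rw [h0, zero_mul]
  refine mul_nonneg (hc j) ?_
  have hsub : S ⊆ Finset.univ.erase j := by
    intro j' hj'
    exact Finset.mem_erase.2 ⟨fun e => hjS (e ▸ hj'), Finset.mem_univ _⟩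
  have hnn : ∀ j' ∈ Finset.univ.erase j, 0 ≤ c j' * T.a (v j) (v j') := by
    intro j' hj'
    have hne : j' ≠ j := (Finset.mem_erase.1 hj').1
    have : v j ≠ v j' := fun h => hne (v.injective h).symm
    exact mul_nonneg (hc j') (T.offDiag_nonneg _ _ this)
  have h2 : ∑ j' ∈ S, c j' * T.a (v j) (v j') ≤ ∑ j' ∈ Finset.univ.erase j, c j' * T.a (v j) (v j') :=
    Finset.sum_le_sum_of_subset_of_nonneg hsub fun j' hj' _ => hnn j' hj'
  have h3 : ∑ j', c j' * T.a (v j) (v j')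
      = c j * T.a (v j) (v j) + ∑ j' ∈ Finset.univ.erase j, c j' * T.a (v j) (v j') :=
    (Finset.add_sum_erase Finset.univ (fun j' => c j' * T.a (v j) (v j')) (Finset.mem_univ j)).symm
  have h4 : T.a (v j) (v j) = -2 * T.w (v j) := (hv j).2
  rw [h3, h4]
  linarith

/-- two-element sum helper -/
lemma two_le_pair {k : ℕ} (v : Fin k ↪ Fin n) (c : Fin k → ℤ) (j x y : Fin k) (hxy : x ≠ y)
    (hx : x ≠ j) (hy : y ≠ j) (B : ℤ)
    (h : B ≤ c x * T.a (v j) (v x) + c y * T.a (v j) (v y)) :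
    ∃ S : Finset (Fin k), j ∉ S ∧ B ≤ ∑ j' ∈ S, c j' * T.a (v j) (v j') := by
  classical
  refine ⟨{x, y}, ?_, ?_⟩
  · simp only [Finset.mem_insert, Finset.mem_singleton, not_or]
    exact ⟨fun e => hx e.symm, fun e => hy e.symm⟩
  · rw [Finset.sum_pair hxy]; exact h

lemma two_le_single {k : ℕ} (v : Fin k ↪ Fin n) (c : Fin k → ℤ) (j x : Fin k)
    (hx : x ≠ j) (B : ℤ) (h : B ≤ c x * T.a (v j) (v x)) :
    ∃ S : Finset (Fin k), j ∉ S ∧ B ≤ ∑ j' ∈ S, c j' * T.a (v j) (v j') := by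
  classical
  refine ⟨{x}, ?_, ?_⟩
  · simp only [Finset.mem_singleton]
    exact fun e => hx e.symm
  · rw [Finset.sum_singleton]; exact h

lemma two_le_triple {k : ℕ} (v : Fin k ↪ Fin n) (c : Fin k → ℤ) (j x y z : Fin k) (hxy : x ≠ y)
    (hxz : x ≠ z) (hyz : y ≠ z)
    (hx : x ≠ j) (hy : y ≠ j) (hz : z ≠ j) (B : ℤ)
    (h : B ≤ c x * T.a (v j) (v x) + c y * T.a (v j) (v y) + c z * T.a (v j) (v z)) :
    ∃ S : Finset (Fin k), j ∉ S ∧ B ≤ ∑ j' ∈ S, c j' * T.a (v j) (v j') := by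
  classical
  refine ⟨{x, y, z}, ?_, ?_⟩
  · simp only [Finset.mem_insert, Finset.mem_singleton, not_or]
    exact ⟨fun e => hx e.symm, fun e => hy e.symm, fun e => hz e.symm⟩
  · rw [Finset.sum_insert (by simp [hxy, hxz]), Finset.sum_pair hyz]
    linarith

/-- no cycles among (-2)-indices in a proper subset -/
lemma no_cycle {r : ℕ} (hr : 2 ≤ r) (hk : r + 1 < n) (p : Fin (r + 1) ↪ Fin n)
    (hv : ∀ j, T.IsMinusTwo (p j))
    (hadj : ∀ i j : Fin (r + 1), j.val = i.val + 1 → T.a (p i) (p j) ≠ 0) :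
    T.a (p ⟨0, by omega⟩) (p ⟨r, by omega⟩) = 0 := by
  classical
  by_contra hne
  have hs : ∀ i j, T.a (p i) (p j) = T.a (p j) (p i) := fun i j => symm' T _ _
  have hneq : ∀ x y : Fin (r + 1), x.val ≠ y.val → x ≠ y := fun x y h e => h (by rw [e])
  have b0 : 0 < r + 1 := by omega
  have br : r < r + 1 := by omega
  have hends : ∀ x y : Fin (r + 1), x.val = 0 → y.val = r → T.a (p x) (p y) ≠ 0 := by
    intro x y hx hy
    have ex : x = ⟨0, b0⟩ := Fin.ext hx
    have ey : y = ⟨r, br⟩ := Fin.ext hy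
    rw [ex, ey]; exact hne
  have h := no_config T hk p hv (fun _ => 1) (fun _ => by norm_num) ?_ ⟨0, by omega⟩
  · norm_num at h
  intro j
  have two : ∀ x y : Fin (r + 1), x ≠ y → x ≠ j → y ≠ j → T.a (p j) (p x) ≠ 0 →
      T.a (p j) (p y) ≠ 0 →
      ∃ S : Finset (Fin (r + 1)), (∀ j' ∈ S, j' ≠ j ∧ T.a (p j) (p j') ≠ 0) ∧
        2 * (1 : ℤ) ≤ ∑ j' ∈ S, (1 : ℤ) := by
    intro x y hxy hx hy hax hay
    refine ⟨{x, y}, ?_, ?_⟩
    · intro j' hj'
      simp only [Finset.mem_insert, Finset.mem_singleton] at hj'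
      rcases hj' with rfl | rfl
      · exact ⟨hx, hax⟩
      · exact ⟨hy, hay⟩
    · rw [Finset.sum_pair hxy]; norm_num
  have hjlt := j.isLt
  by_cases h0 : j.val = 0
  · -- neighbours 1 and r
    have v1 : (⟨1, by omega⟩ : Fin (r + 1)).val = 1 := rfl
    have vr : (⟨r, by omega⟩ : Fin (r + 1)).val = r := rfl
    exact two ⟨1, by omega⟩ ⟨r, by omega⟩ (hneq _ _ (by rw [v1, vr]; omega))
      (hneq _ _ (by rw [v1]; omega)) (hneq _ _ (by rw [vr]; omega))
      (hadj j ⟨1, by omega⟩ (by rw [v1]; omega)) (hends j _ h0 vr)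
  by_cases hr' : j.val = r
  · have v1 : (⟨r - 1, by omega⟩ : Fin (r + 1)).val = r - 1 := rfl
    have v0 : (⟨0, by omega⟩ : Fin (r + 1)).val = 0 := rfl
    refine two ⟨r - 1, by omega⟩ ⟨0, by omega⟩ (hneq _ _ (by rw [v1, v0]; omega))
      (hneq _ _ (by rw [v1]; omega)) (hneq _ _ (by rw [v0]; omega)) ?_ ?_
    · rw [hs]; exact hadj ⟨r - 1, by omega⟩ j (by rw [v1]; omega)
    · rw [hs]; exact hends _ j v0 hr'
  · have v1 : (⟨j.val - 1, by omega⟩ : Fin (r + 1)).val = j.val - 1 := rfl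
    have v2 : (⟨j.val + 1, by omega⟩ : Fin (r + 1)).val = j.val + 1 := rfl
    refine two ⟨j.val - 1, by omega⟩ ⟨j.val + 1, by omega⟩ (hneq _ _ (by rw [v1, v2]; omega))
      (hneq _ _ (by rw [v1]; omega)) (hneq _ _ (by rw [v2]; omega)) ?_ ?_
    · rw [hs]; exact hadj ⟨j.val - 1, by omega⟩ j (by rw [v1]; omega)
    · exact hadj j ⟨j.val + 1, by omega⟩ v2

/-- chains of (-2)-indices in a proper subset have no chords -/
lemma chain_zeros {m : ℕ} (hm : m < n) (u : Fin m ↪ Fin n) (hv : ∀ j, T.IsMinusTwo (u j))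
    (hadj : ∀ i j : Fin m, j.val = i.val + 1 → T.a (u i) (u j) ≠ 0)
    (x y : Fin m) (hxy : x.val + 2 ≤ y.val) : T.a (u x) (u y) = 0 := by
  classical
  have hy := y.isLt
  set r := y.val - x.val with hr
  have hr2 : 2 ≤ r := by omega
  let f : Fin (r + 1) → Fin m := fun i => ⟨x.val + i.val, by have := i.isLt; omega⟩
  have hf : Function.Injective f := by
    intro a b hab
    have := congrArg Fin.val hab
    simp only [f] at this
    exact Fin.ext (by omega)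
  let p : Fin (r + 1) ↪ Fin n := ⟨fun i => u (f i), fun a b hab => hf (u.injective hab)⟩
  have h := no_cycle T hr2 (by omega) p (fun j => hv _) ?_
  · have e0 : p ⟨0, by omega⟩ = u x := by
      show u (f ⟨0, _⟩) = u x
      congr 1
    have e1 : p ⟨r, by omega⟩ = u y := by
      show u (f ⟨r, _⟩) = u y
      congr 1
      apply Fin.ext
      simp only [f]
      omega
    rw [e0, e1] at h
    exact h
  · intro i j hij
    show T.a (u (f i)) (u (f j)) ≠ 0
    apply hadj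
    simp only [f]
    omega

/-- embedding of four distinct indices -/
def emb4 (i j k l : Fin n) (hij : i ≠ j) (hik : i ≠ k) (hil : i ≠ l) (hjk : j ≠ k) (hjl : j ≠ l)
    (hkl : k ≠ l) : Fin 4 ↪ Fin n :=
  ⟨![i, j, k, l], by
    intro a b h
    fin_cases a <;> fin_cases b <;> simp_all⟩

@[simp] lemma emb4_zero (i j k l : Fin n) (hij : i ≠ j) (hik : i ≠ k) (hil : i ≠ l) (hjk : j ≠ k)
    (hjl : j ≠ l) (hkl : k ≠ l) : emb4 i j k l hij hik hil hjk hjl hkl 0 = i := rfl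
@[simp] lemma emb4_one (i j k l : Fin n) (hij : i ≠ j) (hik : i ≠ k) (hil : i ≠ l) (hjk : j ≠ k)
    (hjl : j ≠ l) (hkl : k ≠ l) : emb4 i j k l hij hik hil hjk hjl hkl 1 = j := rfl
@[simp] lemma emb4_two (i j k l : Fin n) (hij : i ≠ j) (hik : i ≠ k) (hil : i ≠ l) (hjk : j ≠ k)
    (hjl : j ≠ l) (hkl : k ≠ l) : emb4 i j k l hij hik hil hjk hjl hkl 2 = k := rfl
@[simp] lemma emb4_three (i j k l : Fin n) (hij : i ≠ j) (hik : i ≠ k) (hil : i ≠ l) (hjk : j ≠ k)
    (hjl : j ≠ l) (hkl : k ≠ l) : emb4 i j k l hij hik hil hjk hjl hkl 3 = l := rfl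

end H8Num
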