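import Groth.Statements.S19235
import Mathlib
import Groth.Agent.H8Sig

set_option autoImplicit false
universe u v
open SigmaLin

namespace Groth.Agent.S19235

/-- Let p be a prime number and R a local ring whose maximal ideal is generated by p and in which p^n =
0 for some n. Let σ be a ring endomorphism of R and σ̄ the induced endomorphism of the residue field
k = R/(p); assume σ̄ is surjective, that for every m and every tuple (b_0, …, b_m) in k, not all
zero, the equation x = Σ_{i=0}^{m} σ̄^{i+1}(x) σ̄^{i}(b_{m-i}) has a nonzero solution x in k, and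
that for every c in k there is y with σ̄(y) − y + c = 0. Let M be a finitely generated R-module and
T : M → M additive with T (r • m) = σ r • T m. Then the map m ↦ m − T m is surjective on M. -/
theorem result
    (p : ℕ) [Fact p.Prime] (R : Type u) [CommRing R] [IsLocalRing R]
    (hmax : IsLocalRing.maximalIdeal R = Ideal.span {(p : R)}) (n : ℕ) (hn : (p : R) ^ n = 0)
    (σ : R →+* R) (σbar : IsLocalRing.ResidueField R →+* IsLocalRing.ResidueField R)
    (hσbar : ∀ r : R, σbar (IsLocalRing.residue R r) = IsLocalRing.residue R (σ r))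
    (hsurj : Function.Surjective σbar)
    (h2 : ∀ (n : ℕ) (b : Fin (n + 1) → IsLocalRing.ResidueField R), b ≠ 0 →
      ∃ x : IsLocalRing.ResidueField R, x ≠ 0 ∧ x = ∑ i : Fin (n + 1), (⇑σbar)^[i.val + 1] x * (⇑σbar)^[i.val] (b (Fin.rev i)))
    (h3 : ∀ c : IsLocalRing.ResidueField R, ∃ y : IsLocalRing.ResidueField R, σbar y - y + c = 0)
    (M : Type v) [AddCommGroup M] [Module R M] [Module.Finite R M] (T : M →ₛₗ[σ] M) :
    Function.Surjective (fun m : M => m - T m) := by
  classical
  let _ : Module (IsLocalRing.ResidueField R) (M ⧸ (IsLocalRing.maximalIdeal R • ⊤ : Submodule R M)) :=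
    inferInstanceAs (Module (R ⧸ IsLocalRing.maximalIdeal R) (M ⧸ (IsLocalRing.maximalIdeal R • ⊤ : Submodule R M)))
  have _ : Module.Finite (IsLocalRing.ResidueField R) (M ⧸ (IsLocalRing.maximalIdeal R • ⊤ : Submodule R M)) :=
    inferInstanceAs (Module.Finite (R ⧸ IsLocalRing.maximalIdeal R) (M ⧸ (IsLocalRing.maximalIdeal R • ⊤ : Submodule R M)))
  have hσp : σ (p : R) = p := map_natCast σ p
  have hTm : ∀ x ∈ (IsLocalRing.maximalIdeal R • ⊤ : Submodule R M), T x ∈ (IsLocalRing.maximalIdeal R • ⊤ : Submodule R M) := by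
    intro x hx
    refine Submodule.smul_induction_on hx ?_ ?_
    · intro r hr y _
      rw [map_smulₛₗ]
      apply Submodule.smul_mem_smul _ Submodule.mem_top
      rw [hmax, Ideal.mem_span_singleton] at hr ⊢
      obtain ⟨s, rfl⟩ := hr
      exact ⟨σ s, by rw [map_mul, hσp]⟩
    · intro a b ha hb
      rw [map_add]
      exact Submodule.add_mem _ ha hb
  have hle : (IsLocalRing.maximalIdeal R • ⊤ : Submodule R M) ≤ (IsLocalRing.maximalIdeal R • ⊤ : Submodule R M).comap T := fun x hx => hTm x hx
  let T0 := (IsLocalRing.maximalIdeal R • ⊤ : Submodule R M).mapQ (IsLocalRing.maximalIdeal R • ⊤ : Submodule R M) T hle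
  let Tbar : (M ⧸ (IsLocalRing.maximalIdeal R • ⊤ : Submodule R M)) →ₛₗ[σbar] (M ⧸ (IsLocalRing.maximalIdeal R • ⊤ : Submodule R M)) :=
    { toFun := T0
      map_add' := T0.map_add
      map_smul' := by
        intro c x
        obtain ⟨r, rfl⟩ := IsLocalRing.residue_surjective c
        obtain ⟨y, rfl⟩ := Submodule.Quotient.mk_surjective _ x
        show T0 (Submodule.Quotient.mk (r • y)) = σbar (IsLocalRing.residue R r) • T0 (Submodule.Quotient.mk y)
        rw [hσbar, Submodule.mapQ_apply, Submodule.mapQ_apply, map_smulₛₗ]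
        rfl }
  have hsurj := H8Sig.sub_surjective Tbar h2 h3
  have hstep : ∀ y : M, ∃ x z : M, y = (x - T x) + (p : R) • z := by
    intro y
    obtain ⟨xq, hxq⟩ := hsurj (Submodule.Quotient.mk y)
    obtain ⟨x, rfl⟩ := Submodule.Quotient.mk_surjective _ xq
    have h1 : (Submodule.Quotient.mk (x - T x) : M ⧸ (IsLocalRing.maximalIdeal R • ⊤ : Submodule R M)) =
        Submodule.Quotient.mk y := by
      rw [← hxq]
      show _ = Submodule.Quotient.mk x - T0 (Submodule.Quotient.mk x)
      rw [Submodule.mapQ_apply, ← Submodule.Quotient.mk_sub]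
    have h2' : y - (x - T x) ∈ (IsLocalRing.maximalIdeal R • ⊤ : Submodule R M) := by
      rw [← Submodule.Quotient.mk_eq_zero, Submodule.Quotient.mk_sub, h1, sub_self]
    rw [hmax, Submodule.ideal_span_singleton_smul,
      Submodule.mem_smul_pointwise_iff_exists] at h2'
    obtain ⟨z, -, hz⟩ := h2'
    refine ⟨x, z, ?_⟩
    rw [hz]
    abel
  have hTp : ∀ (j : ℕ) (x : M), T ((p : R) ^ j • x) = (p : R) ^ j • T x := by
    intro j x
    rw [map_smulₛₗ, map_pow, hσp]
  have hiter : ∀ j : ℕ, ∀ y : M, ∃ x z : M, y = (x - T x) + (p : R) ^ j • z := by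
    intro j
    induction j with
    | zero =>
      intro y
      exact ⟨0, y, by simp⟩
    | succ j ih =>
      intro y
      obtain ⟨x, z, hxz⟩ := ih y
      obtain ⟨x', z', hz'⟩ := hstep z
      refine ⟨x + (p : R) ^ j • x', z', ?_⟩
      rw [hxz, hz', map_add, hTp, smul_add, smul_sub, pow_succ, mul_smul]
      abel
  intro y
  obtain ⟨x, z, hxz⟩ := hiter n y
  refine ⟨x, ?_⟩
  show x - T x = y
  rw [hxz, hn, zero_smul, add_zero]

end Groth.Agent.S19235
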