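import Mathlib
import Groth.Agent.H8SigFin
import Groth.Agent.S19235

set_option autoImplicit false
set_option linter.unusedSectionVars false

namespace H8SigFg

section Field

variable {k : Type*} [Field k] {σ : k →+* k} {V : Type*} [AddCommGroup V] [Module k V]

theorem field_gens [FiniteDimensional k V] (T : V →ₛₗ[σ] V)
    (h2 : ∀ (n : ℕ) (b : Fin (n + 1) → k), b ≠ 0 →
      ∃ x : k, x ≠ 0 ∧ x = ∑ i : Fin (n + 1), (⇑σ)^[i.val + 1] x * (⇑σ)^[i.val] (b (Fin.rev i)))
    (h3 : ∀ c : k, ∃ y : k, σ y - y + c = 0) :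
    ∃ (d : ℕ) (b : Fin d → V), (∀ i, T (b i) = b i) ∧
      ∀ v, T v = v → ∃ c : Fin d → k, (∀ i, σ (c i) = c i) ∧ v = ∑ i, c i • b i := by
  classical
  obtain ⟨M, hM⟩ := H8Sig.exists_stable_rangeSpan T
  obtain ⟨b, hb⟩ := H8Sig.exists_basis_fixed_stable T h2 h3 (H8Sig.rangeSpan T M) M rfl
    (hM (M + 1) (Nat.le_succ M))
  refine ⟨_, fun i => (b i : V), hb, ?_⟩
  intro v hv'
  have hvV : v ∈ H8Sig.rangeSpan T M := H8Sig.fixed_mem_rangeSpan T M v hv'
  let x : H8Sig.rangeSpan T M := ⟨v, hvV⟩
  have hxsum : v = ∑ i, (b.repr x i) • (b i : V) := by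
    have h1 := congrArg Subtype.val (b.sum_repr x)
    rw [Submodule.coe_sum] at h1
    simp only [Submodule.coe_smul] at h1
    exact h1.symm
  have hy : (∑ i, σ (b.repr x i) • b i : H8Sig.rangeSpan T M) = x := by
    apply Subtype.ext
    rw [Submodule.coe_sum]
    simp only [Submodule.coe_smul]
    show ∑ i, σ (b.repr x i) • (b i : V) = v
    have h5 : T v = ∑ i, σ (b.repr x i) • (b i : V) := by
      conv_lhs => rw [hxsum]
      rw [map_sum]
      apply Finset.sum_congr rfl
      intro i _
      rw [map_smulₛₗ, hb]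
    rw [← h5, hv']
  refine ⟨fun i => b.repr x i, ?_, hxsum⟩
  intro i
  have h7 : b.repr (∑ j, σ (b.repr x j) • b j : H8Sig.rangeSpan T M) i = σ (b.repr x i) := by
    rw [b.repr_sum_self]
  rw [hy] at h7
  exact h7.symm

end Field

section Local

open H8SigFin

variable (p : ℕ) [Fact p.Prime] (R : Type*) [CommRing R] [IsLocalRing R]
  (hmax : IsLocalRing.maximalIdeal R = Ideal.span {(p : R)})
  (σ : R →+* R) (σbar : IsLocalRing.ResidueField R →+* IsLocalRing.ResidueField R)
  (hσbar : ∀ r : R, σbar (IsLocalRing.residue R r) = IsLocalRing.residue R (σ r))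
  (hsurj : Function.Surjective σbar)
  (h2 : ∀ (n : ℕ) (b : Fin (n + 1) → IsLocalRing.ResidueField R), b ≠ 0 →
    ∃ x : IsLocalRing.ResidueField R, x ≠ 0 ∧
      x = ∑ i : Fin (n + 1), (⇑σbar)^[i.val + 1] x * (⇑σbar)^[i.val] (b (Fin.rev i)))
  (h3 : ∀ c : IsLocalRing.ResidueField R, ∃ y : IsLocalRing.ResidueField R, σbar y - y + c = 0)
  (hlift : ∀ x : IsLocalRing.ResidueField R, σbar x = x →
    ∃ r : R, σ r = r ∧ IsLocalRing.residue R r = x)

include hmax hσbar hsurj h2 h3 hlift

theorem fg_fixed_aux (n : ℕ) (hn : (p : R) ^ n = 0) (j : ℕ) :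
    ∀ (M : Type*) [AddCommGroup M] [Module R M] [Module.Finite R M] (T : M →ₛₗ[σ] M),
      (∀ m : M, (p : R) ^ j • m = 0) →
      ∃ s : Finset M, (∀ m ∈ s, T m = m) ∧
        ∀ m : M, T m = m → m ∈ Submodule.span (RingHom.eqLocus σ (RingHom.id R)) (s : Set M) := by
  classical
  induction j with
  | zero =>
    intro M _ _ _ T hM
    refine ⟨∅, by simp, ?_⟩
    intro m _
    have ha := hM m
    rw [pow_zero, one_smul] at ha
    rw [ha]
    exact Submodule.zero_mem _
  | succ j ih =>
    intro M _ _ _ T hM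
    have hσp : σ (p : R) = p := map_natCast σ p
    have hNmem : ∀ x : M, x ∈ (Nsub R M) ↔ ∃ y : M, (p : R) • y = x := by
      intro x
      show x ∈ (IsLocalRing.maximalIdeal R • ⊤ : Submodule R M) ↔ _
      rw [hmax, Submodule.ideal_span_singleton_smul, Submodule.mem_smul_pointwise_iff_exists]
      simp
    have hTm : ∀ x ∈ (Nsub R M), T x ∈ (Nsub R M) := by
      intro x hx
      obtain ⟨y, rfl⟩ := (hNmem x).mp hx
      rw [map_smulₛₗ, hσp]
      exact (hNmem _).mpr ⟨T y, rfl⟩
    have hNfg : Module.Finite R (Nsub R M) := by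
      rw [Module.Finite.iff_fg]
      apply Submodule.FG.smul
      · rw [hmax]
        exact ⟨{(p : R)}, by simp⟩
      · exact Module.Finite.fg_top
    obtain ⟨sN, hsN1, hsN2⟩ := ih (Nsub R M) (T.restrict hTm) (by
      intro x
      obtain ⟨y, hy⟩ := (hNmem x).mp x.2
      apply Subtype.ext
      rw [Submodule.coe_smul, ← hy, smul_smul, ← pow_succ, hM]
      rfl)
    have hsurjN := Groth.Agent.S19235.result p R hmax n hn σ σbar hσbar hsurj h2 h3
      (Nsub R M) (T.restrict hTm)
    -- the quotient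
    let _ : Module (IsLocalRing.ResidueField R) (M ⧸ (Nsub R M)) :=
      inferInstanceAs (Module (R ⧸ IsLocalRing.maximalIdeal R)
        (M ⧸ (IsLocalRing.maximalIdeal R • ⊤ : Submodule R M)))
    have _ : Module.Finite (IsLocalRing.ResidueField R) (M ⧸ (Nsub R M)) :=
      inferInstanceAs (Module.Finite (R ⧸ IsLocalRing.maximalIdeal R)
        (M ⧸ (IsLocalRing.maximalIdeal R • ⊤ : Submodule R M)))
    have hle : (Nsub R M) ≤ (Nsub R M).comap T := fun x hx => hTm x hx
    let T0 := (Nsub R M).mapQ (Nsub R M) T hle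
    let Tbar : (M ⧸ (Nsub R M)) →ₛₗ[σbar] (M ⧸ (Nsub R M)) :=
      { toFun := T0
        map_add' := T0.map_add
        map_smul' := by
          intro c x
          obtain ⟨r, rfl⟩ := IsLocalRing.residue_surjective c
          obtain ⟨y, rfl⟩ := Submodule.Quotient.mk_surjective _ x
          show T0 (Submodule.Quotient.mk (r • y)) =
            σbar (IsLocalRing.residue R r) • T0 (Submodule.Quotient.mk y)
          rw [hσbar, Submodule.mapQ_apply, Submodule.mapQ_apply, map_smulₛₗ]
          rfl }
    have hTbar : ∀ m : M, Tbar (Submodule.Quotient.mk m) = Submodule.Quotient.mk (T m) :=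
      fun m => rfl
    obtain ⟨d, bbar, hbbar, hgen⟩ := field_gens Tbar h2 h3
    -- lifting fixed vectors
    have hliftfix : ∀ v : M ⧸ (Nsub R M), Tbar v = v →
        ∃ m : M, T m = m ∧ (Submodule.Quotient.mk m : M ⧸ (Nsub R M)) = v := by
      intro v hv
      obtain ⟨m, rfl⟩ := Submodule.Quotient.mk_surjective _ v
      have hmem : T m - m ∈ Nsub R M := by
        rw [← Submodule.Quotient.mk_eq_zero, Submodule.Quotient.mk_sub, ← hTbar, hv, sub_self]
      obtain ⟨x, hx⟩ := hsurjN ⟨T m - m, hmem⟩
      have hx' : (x : M) - T (x : M) = T m - m := congrArg Subtype.val hx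
      refine ⟨m + x, ?_, ?_⟩
      · rw [map_add]
        have : T (x : M) = (x : M) - (T m - m) := by rw [← hx']; abel
        rw [this]
        abel
      · rw [Submodule.Quotient.mk_add, (Submodule.Quotient.mk_eq_zero _).mpr x.2, add_zero]
    choose b hb1 hb2 using fun i => hliftfix (bbar i) (hbbar i)
    refine ⟨sN.image (fun x : Nsub R M => (x : M)) ∪ Finset.univ.image b, ?_, ?_⟩
    · intro m hm
      rw [Finset.mem_union] at hm
      rcases hm with hm | hm
      · obtain ⟨x, hx, rfl⟩ := Finset.mem_image.mp hm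
        exact congrArg Subtype.val (hsN1 x hx)
      · obtain ⟨i, -, rfl⟩ := Finset.mem_image.mp hm
        exact hb1 i
    · intro m hm
      have hmbar : Tbar (Submodule.Quotient.mk m) = Submodule.Quotient.mk m := by
        rw [hTbar, hm]
      obtain ⟨cbar, hcbar, hsum⟩ := hgen _ hmbar
      choose c hc1 hc2 using fun i => hlift (cbar i) (hcbar i)
      set m' : M := m - ∑ i, c i • b i with hm'
      have hm'N : m' ∈ Nsub R M := by
        rw [← Submodule.Quotient.mk_eq_zero, hm', Submodule.Quotient.mk_sub, hsum, sub_eq_zero]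
        have : (Submodule.Quotient.mk (∑ i, c i • b i) : M ⧸ (Nsub R M)) =
            ∑ i, (Submodule.Quotient.mk (c i • b i) : M ⧸ (Nsub R M)) :=
          map_sum (Submodule.mkQ (Nsub R M)) _ _
        rw [this]
        apply Finset.sum_congr rfl
        intro i _
        rw [← hb2 i, ← hc2 i]
        rfl
      have hm'fix : T m' = m' := by
        rw [hm', map_sub, hm, map_sum]
        congr 1
        apply Finset.sum_congr rfl
        intro i _
        rw [map_smulₛₗ, hc1, hb1]
      have h1 := hsN2 ⟨m', hm'N⟩ (Subtype.ext hm'fix)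
      have h2' : m' ∈ Submodule.span (RingHom.eqLocus σ (RingHom.id R))
          ((fun x : Nsub R M => (x : M)) '' (sN : Set (Nsub R M))) :=
        Submodule.apply_mem_span_image_of_mem_span
          ((Nsub R M).subtype.restrictScalars (RingHom.eqLocus σ (RingHom.id R))) h1
      have hmeq : m = m' + ∑ i, c i • b i := by rw [hm']; abel
      rw [hmeq]
      apply Submodule.add_mem
      · refine Submodule.span_mono ?_ h2'
        intro y hy
        obtain ⟨x, hx, rfl⟩ := hy
        rw [Finset.coe_union, Finset.coe_image]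
        exact Or.inl ⟨x, hx, rfl⟩
      · apply Submodule.sum_mem
        intro i _
        have hci : c i ∈ RingHom.eqLocus σ (RingHom.id R) := hc1 i
        have hbi : b i ∈ Submodule.span (RingHom.eqLocus σ (RingHom.id R))
            ((sN.image (fun x : Nsub R M => (x : M)) ∪ Finset.univ.image b : Finset M) : Set M) := by
          apply Submodule.subset_span
          rw [Finset.coe_union, Finset.coe_image, Finset.coe_image]
          exact Or.inr ⟨i, Finset.mem_coe.mpr (Finset.mem_univ i), rfl⟩
        exact Submodule.smul_mem _ (⟨c i, hci⟩ : RingHom.eqLocus σ (RingHom.id R)) hbi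

end Local

end H8SigFg
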