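import Mathlib

set_option autoImplicit false
set_option linter.unusedSectionVars false

namespace H8SigR

section Basics

variable {R : Type*} [CommRing R] {σ : R →+* R} {M : Type*} [AddCommGroup M] [Module R M]

theorem iter_succ' (T : M →ₛₗ[σ] M) (n : ℕ) (x : M) : (⇑T)^[n + 1] x = T ((⇑T)^[n] x) :=
  Function.iterate_succ_apply' _ _ _

theorem iter_add (T : M →ₛₗ[σ] M) (n : ℕ) (x y : M) :
    (⇑T)^[n] (x + y) = (⇑T)^[n] x + (⇑T)^[n] y := by
  induction n with
  | zero => rfl
  | succ n ih => rw [iter_succ', iter_succ', iter_succ', ih, map_add]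

theorem iter_zero (T : M →ₛₗ[σ] M) (n : ℕ) : (⇑T)^[n] (0 : M) = 0 := by
  induction n with
  | zero => rfl
  | succ n ih => rw [iter_succ', ih, map_zero]

theorem iter_neg (T : M →ₛₗ[σ] M) (n : ℕ) (x : M) : (⇑T)^[n] (-x) = -(⇑T)^[n] x := by
  induction n with
  | zero => rfl
  | succ n ih => rw [iter_succ', iter_succ', ih, map_neg]

theorem iter_sub (T : M →ₛₗ[σ] M) (n : ℕ) (x y : M) :
    (⇑T)^[n] (x - y) = (⇑T)^[n] x - (⇑T)^[n] y := by
  rw [sub_eq_add_neg, iter_add, iter_neg, ← sub_eq_add_neg]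

theorem iter_smul (T : M →ₛₗ[σ] M) (n : ℕ) (c : R) (x : M) :
    (⇑T)^[n] (c • x) = ((⇑σ)^[n] c) • (⇑T)^[n] x := by
  induction n with
  | zero => rfl
  | succ n ih =>
    rw [iter_succ', iter_succ', Function.iterate_succ_apply', ih, map_smulₛₗ]

theorem iter_add_apply (T : M →ₛₗ[σ] M) (m n : ℕ) (x : M) :
    (⇑T)^[m + n] x = (⇑T)^[m] ((⇑T)^[n] x) := Function.iterate_add_apply _ _ _ _

/-- kernel of the `n`-th iterate -/
def kerIter (T : M →ₛₗ[σ] M) (n : ℕ) : Submodule R M where
  carrier := {v | (⇑T)^[n] v = 0}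
  zero_mem' := iter_zero T n
  add_mem' := by
    intro a b ha hb
    show (⇑T)^[n] (a + b) = 0
    have ha' : (⇑T)^[n] a = 0 := ha
    have hb' : (⇑T)^[n] b = 0 := hb
    rw [iter_add, ha', hb', add_zero]
  smul_mem' := by
    intro c a ha
    show (⇑T)^[n] (c • a) = 0
    have ha' : (⇑T)^[n] a = 0 := ha
    rw [iter_smul, ha', smul_zero]

theorem mem_kerIter (T : M →ₛₗ[σ] M) (n : ℕ) (v : M) : v ∈ kerIter T n ↔ (⇑T)^[n] v = 0 :=
  Iff.rfl

theorem kerIter_mono (T : M →ₛₗ[σ] M) : Monotone (kerIter T) := by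
  apply monotone_nat_of_le_succ
  intro n v hv
  rw [mem_kerIter] at hv ⊢
  rw [iter_succ', hv, map_zero]

/-- range of the `n`-th iterate (a submodule when `σ` is surjective) -/
def rangeIter (hσ : Function.Surjective σ) (T : M →ₛₗ[σ] M) (n : ℕ) : Submodule R M where
  carrier := Set.range ((⇑T)^[n])
  zero_mem' := ⟨0, iter_zero T n⟩
  add_mem' := by
    rintro _ _ ⟨x, rfl⟩ ⟨y, rfl⟩
    exact ⟨x + y, iter_add T n x y⟩
  smul_mem' := by
    rintro c _ ⟨x, rfl⟩
    obtain ⟨d, hd⟩ := (Function.Surjective.iterate hσ n) c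
    exact ⟨d • x, by rw [iter_smul, hd]⟩

theorem mem_rangeIter (hσ : Function.Surjective σ) (T : M →ₛₗ[σ] M) (n : ℕ) (v : M) :
    v ∈ rangeIter hσ T n ↔ ∃ w, (⇑T)^[n] w = v := Iff.rfl

theorem rangeIter_anti (hσ : Function.Surjective σ) (T : M →ₛₗ[σ] M) :
    Antitone (rangeIter hσ T) := by
  apply antitone_nat_of_succ_le
  intro n v hv
  obtain ⟨w, rfl⟩ := hv
  exact ⟨T w, (Function.iterate_succ_apply _ _ _).symm⟩

/-- Fitting decomposition for a semilinear endomorphism of a module of finite length. -/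
theorem fitting [IsNoetherian R M] [IsArtinian R M] (hσ : Function.Surjective σ)
    (T : M →ₛₗ[σ] M) :
    ∃ Ms Mn : Submodule R M, IsCompl Ms Mn ∧
      Set.MapsTo T Ms Ms ∧ Set.MapsTo T Mn Mn ∧ Set.BijOn T Ms Ms ∧
      ∃ r : ℕ, ∀ x ∈ Mn, (⇑T)^[r] x = 0 := by
  obtain ⟨N, hN⟩ := (monotone_stabilizes_iff_noetherian (R := R) (M := M)).mpr inferInstance
    ⟨kerIter T, kerIter_mono T⟩
  obtain ⟨N', hN'⟩ := IsArtinian.monotone_stabilizes
    (⟨fun n => OrderDual.toDual (rangeIter hσ T n), fun a b hab => rangeIter_anti hσ T hab⟩ :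
      ℕ →o (Submodule R M)ᵒᵈ)
  simp only [OrderHom.coe_mk] at hN hN'
  have hN'' : ∀ m, N' ≤ m → rangeIter hσ T N' = rangeIter hσ T m := fun m hm => hN' m hm
  set L := max N N' with hL
  have hK : ∀ n, L ≤ n → kerIter T n = kerIter T L := by
    intro n hn
    rw [← hN n (le_trans (le_max_left N N') hn), ← hN L (le_max_left N N')]
  have hR : ∀ n, L ≤ n → rangeIter hσ T n = rangeIter hσ T L := by
    intro n hn
    rw [← hN'' n (le_trans (le_max_right N N') hn), ← hN'' L (le_max_right N N')]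
  have hmapsR : ∀ x ∈ rangeIter hσ T L, T x ∈ rangeIter hσ T L := by
    rintro _ ⟨w, rfl⟩
    rw [← iter_succ']
    exact ⟨T w, (Function.iterate_succ_apply _ _ _).symm⟩
  have hmapsK : ∀ x ∈ kerIter T L, T x ∈ kerIter T L := by
    intro x hx
    rw [mem_kerIter] at hx ⊢
    rw [← Function.iterate_succ_apply, iter_succ', hx, map_zero]
  have hdisj : ∀ x, x ∈ rangeIter hσ T L → x ∈ kerIter T L → x = 0 := by
    rintro _ ⟨w, rfl⟩ hx
    rw [mem_kerIter, ← iter_add_apply] at hx
    have hw : w ∈ kerIter T (L + L) := hx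
    rw [hK (L + L) (Nat.le_add_right L L)] at hw
    exact hw
  refine ⟨rangeIter hσ T L, kerIter T L, ⟨?_, ?_⟩, hmapsR, hmapsK, ⟨hmapsR, ?_, ?_⟩, L, ?_⟩
  · rw [Submodule.disjoint_def]
    exact hdisj
  · rw [codisjoint_iff, eq_top_iff]
    intro x _
    have h1 : (⇑T)^[L] x ∈ rangeIter hσ T L := ⟨x, rfl⟩
    rw [← hR (L + L) (Nat.le_add_right L L)] at h1
    obtain ⟨y, hy⟩ := h1
    rw [iter_add_apply] at hy
    have h2 : x - (⇑T)^[L] y ∈ kerIter T L := by
      rw [mem_kerIter, iter_sub, hy, sub_self]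
    have h3 : x = (⇑T)^[L] y + (x - (⇑T)^[L] y) := by abel
    rw [h3]
    exact Submodule.add_mem_sup ⟨y, rfl⟩ h2
  · intro x hx y hy hxy
    have h1 : x - y ∈ rangeIter hσ T L := Submodule.sub_mem _ hx hy
    have h2 : x - y ∈ kerIter T 1 := by
      rw [mem_kerIter]
      show T (x - y) = 0
      rw [map_sub, hxy, sub_self]
    have h3 : x - y ∈ kerIter T L := by
      by_cases hL0 : L = 0
      · -- then range = everything, kernel of T^0 = 0; use stabilization K_1 = K_0
        have : kerIter T 1 = kerIter T L := hK 1 (by omega)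
        rw [← this]
        exact h2
      · exact kerIter_mono T (by omega : 1 ≤ L) h2
    exact sub_eq_zero.mp (hdisj _ h1 h3)
  · intro x hx
    rw [← hR (L + 1) (Nat.le_succ L)] at hx
    obtain ⟨w, rfl⟩ := hx
    exact ⟨(⇑T)^[L] w, ⟨w, rfl⟩, (iter_succ' T L w).symm⟩
  · intro x hx
    exact hx

end Basics

section Torsion

variable {R : Type*} [CommRing R] [IsDomain R] [IsNoetherianRing R] [Ring.KrullDimLE 1 R]
  {M : Type*} [AddCommGroup M] [Module R M]

theorem isArtinian_span_singleton_of_torsion (m : M) (a : R) (ha : a ∈ nonZeroDivisors R)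
    (ham : a • m = 0) : IsArtinian R ↥(Submodule.span R {m}) := by
  have hfl := isFiniteLength_quotient_span_singleton R ha
  rw [isFiniteLength_iff_isNoetherian_isArtinian] at hfl
  haveI := hfl.2
  have hle : Ideal.span {a} ≤ LinearMap.ker (LinearMap.toSpanSingleton R M m) := by
    rw [Ideal.span_le]
    intro x hx
    rw [Set.mem_singleton_iff] at hx
    subst hx
    show LinearMap.toSpanSingleton R M m x = 0
    rw [LinearMap.toSpanSingleton_apply, ham]
  have h1 : IsArtinian R ↥(LinearMap.range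
      ((Ideal.span {a}).liftQ (LinearMap.toSpanSingleton R M m) hle)) := inferInstance
  rw [Submodule.range_liftQ, ← LinearMap.span_singleton_eq_range] at h1
  exact h1

theorem isArtinian_of_isTorsion [Module.Finite R M] (hM : Module.IsTorsion R M) :
    IsArtinian R M := by
  obtain ⟨s, hs⟩ := (Module.Finite.fg_top : (⊤ : Submodule R M).FG)
  have h1 : ∀ m : s, IsArtinian R ↥(Submodule.span R {(m : M)}) := by
    intro m
    obtain ⟨a, ha⟩ := @hM (m : M)
    exact isArtinian_span_singleton_of_torsion (m : M) a a.2 ha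
  have h2 : IsArtinian R ↥(⨆ m : s, Submodule.span R {(m : M)}) := inferInstance
  have h3 : (⨆ m : s, Submodule.span R {(m : M)}) = ⊤ := by
    rw [← hs, Submodule.span_eq_iSup_of_singleton_spans]
    rw [iSup_subtype']
    rfl
  rw [h3] at h2
  exact isArtinian_of_linearEquiv (Submodule.topEquiv (R := R) (M := M))

end Torsion

end H8SigR
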