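import Mathlib

set_option autoImplicit false

namespace Groth.Agent.H8Todd

open PowerSeries

/-- Low-order coefficients of a product of power series. -/
theorem coeffs_mul (f g : PowerSeries ℚ) (a0 a1 a2 a3 b0 b1 b2 b3 : ℚ)
    (hf0 : coeff 0 f = a0) (hf1 : coeff 1 f = a1) (hf2 : coeff 2 f = a2) (hf3 : coeff 3 f = a3)
    (hg0 : coeff 0 g = b0) (hg1 : coeff 1 g = b1) (hg2 : coeff 2 g = b2) (hg3 : coeff 3 g = b3) :
    coeff 0 (f * g) = a0 * b0 ∧ coeff 1 (f * g) = a0 * b1 + a1 * b0 ∧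
      coeff 2 (f * g) = a0 * b2 + a1 * b1 + a2 * b0 ∧
      coeff 3 (f * g) = a0 * b3 + a1 * b2 + a2 * b1 + a3 * b0 := by
  refine ⟨?_, ?_, ?_, ?_⟩
  · simp [PowerSeries.coeff_mul, hf0, hg0]
  · simp [PowerSeries.coeff_mul, Finset.Nat.antidiagonal_succ, hf0, hg0, hf1, hg1]
  · simp [PowerSeries.coeff_mul, Finset.Nat.antidiagonal_succ, hf0, hg0, hf1, hg1, hf2, hg2]
    ring
  · simp [PowerSeries.coeff_mul, Finset.Nat.antidiagonal_succ, hf0, hg0, hf1, hg1, hf2, hg2,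
      hf3, hg3]
    ring

theorem bern_coeffs : coeff 0 (bernoulli'PowerSeries ℚ) = 1 ∧
    coeff 1 (bernoulli'PowerSeries ℚ) = 1 / 2 ∧ coeff 2 (bernoulli'PowerSeries ℚ) = 1 / 12 ∧
    coeff 3 (bernoulli'PowerSeries ℚ) = 0 := by
  refine ⟨?_, ?_, ?_, ?_⟩
  · simp [bernoulli'PowerSeries]
  · simp [bernoulli'PowerSeries]
  · simp [bernoulli'PowerSeries, bernoulli'_two, Nat.factorial]; norm_num
  · simp [bernoulli'PowerSeries, bernoulli'_three]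

theorem rescale_bern_coeffs (a : ℚ) : coeff 0 (rescale a (bernoulli'PowerSeries ℚ)) = 1 ∧
    coeff 1 (rescale a (bernoulli'PowerSeries ℚ)) = a / 2 ∧
    coeff 2 (rescale a (bernoulli'PowerSeries ℚ)) = a ^ 2 / 12 ∧
    coeff 3 (rescale a (bernoulli'PowerSeries ℚ)) = 0 := by
  obtain ⟨h0, h1, h2, h3⟩ := bern_coeffs
  refine ⟨?_, ?_, ?_, ?_⟩
  · rw [coeff_rescale, h0]; simp
  · rw [coeff_rescale, h1]; ring
  · rw [coeff_rescale, h2]; ring
  · rw [coeff_rescale, h3]; ring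

theorem rescale_exp_coeffs (a : ℚ) : coeff 0 (rescale a (PowerSeries.exp ℚ)) = 1 ∧
    coeff 1 (rescale a (PowerSeries.exp ℚ)) = a ∧
    coeff 2 (rescale a (PowerSeries.exp ℚ)) = a ^ 2 / 2 ∧
    coeff 3 (rescale a (PowerSeries.exp ℚ)) = a ^ 3 / 6 := by
  refine ⟨?_, ?_, ?_, ?_⟩
  · rw [coeff_rescale]; simp
  · rw [coeff_rescale]; simp
  · rw [coeff_rescale]; simp [Nat.factorial]; ring
  · rw [coeff_rescale]; simp [Nat.factorial]; ring

theorem inv_rescale_bern_coeffs (a : ℚ) :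
    coeff 0 (rescale a (bernoulli'PowerSeries ℚ))⁻¹ = 1 ∧
    coeff 1 (rescale a (bernoulli'PowerSeries ℚ))⁻¹ = -a / 2 ∧
    coeff 2 (rescale a (bernoulli'PowerSeries ℚ))⁻¹ = a ^ 2 / 6 ∧
    coeff 3 (rescale a (bernoulli'PowerSeries ℚ))⁻¹ = -a ^ 3 / 24 := by
  obtain ⟨h0, h1, h2, h3⟩ := rescale_bern_coeffs a
  have hne : constantCoeff (rescale a (bernoulli'PowerSeries ℚ)) ≠ 0 := by
    rw [← coeff_zero_eq_constantCoeff_apply, h0]; exact one_ne_zero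
  have hmul := PowerSeries.mul_inv_cancel _ hne
  obtain ⟨m0, m1, m2, m3⟩ := coeffs_mul (rescale a (bernoulli'PowerSeries ℚ))
    (rescale a (bernoulli'PowerSeries ℚ))⁻¹ _ _ _ _ _ _ _ _ h0 h1 h2 h3 rfl rfl rfl rfl
  rw [hmul] at m0 m1 m2 m3
  have e0 : coeff 0 (1 : PowerSeries ℚ) = 1 := by simp
  have e1 : coeff 1 (1 : PowerSeries ℚ) = 0 := by simp [PowerSeries.coeff_one]
  have e2 : coeff 2 (1 : PowerSeries ℚ) = 0 := by simp [PowerSeries.coeff_one]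
  have e3 : coeff 3 (1 : PowerSeries ℚ) = 0 := by simp [PowerSeries.coeff_one]
  rw [e0] at m0
  rw [e1] at m1
  rw [e2] at m2
  rw [e3] at m3
  generalize coeff 0 (rescale a (bernoulli'PowerSeries ℚ))⁻¹ = g0 at m0 m1 m2 m3 ⊢
  generalize coeff 1 (rescale a (bernoulli'PowerSeries ℚ))⁻¹ = g1 at m0 m1 m2 m3 ⊢
  generalize coeff 2 (rescale a (bernoulli'PowerSeries ℚ))⁻¹ = g2 at m0 m1 m2 m3 ⊢
  generalize coeff 3 (rescale a (bernoulli'PowerSeries ℚ))⁻¹ = g3 at m0 m1 m2 m3 ⊢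
  have hg0 : g0 = 1 := by linarith
  subst hg0
  have hg1 : g1 = -a / 2 := by linarith
  subst hg1
  have hg2 : g2 = a ^ 2 / 6 := by linarith
  subst hg2
  have hg3 : g3 = -a ^ 3 / 24 := by linarith
  subst hg3
  exact ⟨rfl, rfl, rfl, rfl⟩

end Groth.Agent.H8Todd
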