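import Mathlib

set_option autoImplicit false

namespace Groth.Agent.H8Todd2

open PowerSeries

theorem bern_eq_rescale :
    bernoulliPowerSeries ℚ = rescale (-1 : ℚ) (bernoulli'PowerSeries ℚ) := by
  ext n
  rw [coeff_rescale]
  simp only [bernoulliPowerSeries, bernoulli'PowerSeries, coeff_mk, bernoulli]
  simp
  ring_nf

theorem exp_sub_one_ne_zero : (PowerSeries.exp ℚ - 1 : PowerSeries ℚ) ≠ 0 := by
  intro h
  have := congrArg (coeff 1) h
  simp [PowerSeries.coeff_one] at this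

theorem bern'_eq : bernoulli'PowerSeries ℚ = bernoulliPowerSeries ℚ * PowerSeries.exp ℚ := by
  have h1 := bernoulli'PowerSeries_mul_exp_sub_one ℚ
  have h2 := bernoulliPowerSeries_mul_exp_sub_one ℚ
  have h3 : bernoulli'PowerSeries ℚ * (PowerSeries.exp ℚ - 1) =
      (bernoulliPowerSeries ℚ * PowerSeries.exp ℚ) * (PowerSeries.exp ℚ - 1) := by
    rw [h1, mul_right_comm, h2]
  exact mul_right_cancel₀ exp_sub_one_ne_zero h3

theorem key (a : ℚ) :
    rescale (-a) (bernoulli'PowerSeries ℚ) * rescale a (PowerSeries.exp ℚ) =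
      rescale a (bernoulli'PowerSeries ℚ) := by
  conv_rhs => rw [bern'_eq, map_mul, bern_eq_rescale, rescale_rescale]
  congr 2
  ring_nf

/-- The `p`-independent factor. -/
noncomputable def G (n d : ℕ) (s : ℤ) : PowerSeries ℚ :=
  (rescale (-(d : ℚ)) (bernoulli'PowerSeries ℚ))⁻¹ * bernoulli'PowerSeries ℚ ^ (n + 1) *
    rescale (-(d : ℚ) - n - 1 + s) (PowerSeries.exp ℚ)

theorem factor (n d : ℕ) (s : ℤ) (p : ℕ) :
    (rescale (-(d : ℚ)) (bernoulli'PowerSeries ℚ))⁻¹ *
      rescale (-((d : ℚ) * p)) (bernoulli'PowerSeries ℚ) * bernoulli'PowerSeries ℚ ^ (n + 1) *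
      rescale ((d : ℚ) * p - d - n - 1 + s) (PowerSeries.exp ℚ) =
    rescale ((d : ℚ) * p) (bernoulli'PowerSeries ℚ) * G n d s := by
  have hE : rescale ((d : ℚ) * p - d - n - 1 + s) (PowerSeries.exp ℚ) =
      rescale ((d : ℚ) * p) (PowerSeries.exp ℚ) *
        rescale (-(d : ℚ) - n - 1 + s) (PowerSeries.exp ℚ) := by
    rw [exp_mul_exp_eq_exp_add]
    congr 2
    ring
  rw [hE, ← key ((d : ℚ) * p), G]
  ring

theorem coeff_formula (n d : ℕ) (s : ℤ) (p : ℕ) :
    coeff n ((rescale (-(d : ℚ)) (bernoulli'PowerSeries ℚ))⁻¹ *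
      rescale (-((d : ℚ) * p)) (bernoulli'PowerSeries ℚ) * bernoulli'PowerSeries ℚ ^ (n + 1) *
      rescale ((d : ℚ) * p - d - n - 1 + s) (PowerSeries.exp ℚ)) =
    ∑ k ∈ Finset.range (n + 1),
      (((d : ℚ) * p) ^ k * (bernoulli' k / (Nat.factorial k : ℚ))) * coeff (n - k) (G n d s) := by
  rw [factor, coeff_mul, Finset.Nat.sum_antidiagonal_eq_sum_range_succ_mk]
  apply Finset.sum_congr rfl
  intro k _
  rw [coeff_rescale]
  simp [bernoulli'PowerSeries]

theorem bern0 : constantCoeff (bernoulli'PowerSeries ℚ) = 1 := by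
  rw [← coeff_zero_eq_constantCoeff_apply]
  simp [bernoulli'PowerSeries]

theorem bern1 : coeff 1 (bernoulli'PowerSeries ℚ) = 1 / 2 := by
  simp [bernoulli'PowerSeries]

theorem G0 (n d : ℕ) (s : ℤ) : coeff 0 (G n d s) = 1 := by
  rw [coeff_zero_eq_constantCoeff_apply, G, map_mul, map_mul, map_pow, constantCoeff_inv,
    ← coeff_zero_eq_constantCoeff_apply (rescale _ (bernoulli'PowerSeries ℚ)), coeff_rescale,
    ← coeff_zero_eq_constantCoeff_apply (rescale _ (PowerSeries.exp ℚ)), coeff_rescale,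
    coeff_zero_eq_constantCoeff_apply, bern0]
  simp

theorem G1 (n d : ℕ) (s : ℤ) : coeff 1 (G n d s) = (2 * (s : ℚ) - d - n - 1) / 2 := by
  have hr0 : ∀ a : ℚ, constantCoeff (rescale a (bernoulli'PowerSeries ℚ)) = 1 := by
    intro a
    rw [← coeff_zero_eq_constantCoeff_apply, coeff_rescale, coeff_zero_eq_constantCoeff_apply,
      bern0]
    simp
  have hr1 : ∀ a : ℚ, coeff 1 (rescale a (bernoulli'PowerSeries ℚ)) = a / 2 := by
    intro a
    rw [coeff_rescale, bern1]
    ring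
  have hinv0 : constantCoeff (rescale (-(d : ℚ)) (bernoulli'PowerSeries ℚ))⁻¹ = 1 := by
    rw [constantCoeff_inv, hr0, inv_one]
  have hinv1 : coeff 1 (rescale (-(d : ℚ)) (bernoulli'PowerSeries ℚ))⁻¹ = (d : ℚ) / 2 := by
    have hne : constantCoeff (rescale (-(d : ℚ)) (bernoulli'PowerSeries ℚ)) ≠ 0 := by
      rw [hr0]; exact one_ne_zero
    have h := congrArg (coeff 1) (PowerSeries.mul_inv_cancel _ hne)
    rw [coeff_one_mul, hinv0, hr0, hr1, PowerSeries.coeff_one] at h
    simp at h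
    linarith
  have he0 : ∀ a : ℚ, constantCoeff (rescale a (PowerSeries.exp ℚ)) = 1 := by
    intro a
    rw [← coeff_zero_eq_constantCoeff_apply, coeff_rescale]
    simp
  have he1 : ∀ a : ℚ, coeff 1 (rescale a (PowerSeries.exp ℚ)) = a := by
    intro a
    rw [coeff_rescale]
    simp
  rw [G, coeff_one_mul, coeff_one_mul, coeff_one_pow, he0, he1, hinv0, hinv1, bern0, bern1]
  simp only [map_mul, map_pow, hinv0, bern0]
  push_cast
  ring

end Groth.Agent.H8Todd2
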