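import Mathlib

set_option autoImplicit false

namespace Groth.Agent.H8Todd3

open Filter

theorem bernoulli_sign (k : ℕ) (hk : k ≠ 0) : 0 < (-1 : ℚ) ^ (k + 1) * bernoulli (2 * k) := by
  have h := hasSum_zeta_nat hk
  have hpos : (0 : ℝ) < (-1 : ℝ) ^ (k + 1) * (2 : ℝ) ^ (2 * k - 1) * Real.pi ^ (2 * k) *
        bernoulli (2 * k) / (Nat.factorial (2 * k) : ℝ) := by
    have hle := sum_le_hasSum {1} (fun i _ => by positivity) h
    simp at hle
    linarith
  have hfac : (0 : ℝ) < (Nat.factorial (2 * k) : ℝ) := by positivity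
  have h2 : (0 : ℝ) < (2 : ℝ) ^ (2 * k - 1) * Real.pi ^ (2 * k) := by positivity
  have h3 : (0 : ℝ) < (-1 : ℝ) ^ (k + 1) * (bernoulli (2 * k) : ℝ) := by
    have h4 : (-1 : ℝ) ^ (k + 1) * (2 : ℝ) ^ (2 * k - 1) * Real.pi ^ (2 * k) *
        bernoulli (2 * k) / (Nat.factorial (2 * k) : ℝ) =
        ((-1 : ℝ) ^ (k + 1) * (bernoulli (2 * k) : ℝ)) *
          ((2 : ℝ) ^ (2 * k - 1) * Real.pi ^ (2 * k) / (Nat.factorial (2 * k) : ℝ)) := by ring
    rw [h4] at hpos
    have h5 : (0 : ℝ) < (2 : ℝ) ^ (2 * k - 1) * Real.pi ^ (2 * k) / (Nat.factorial (2 * k) : ℝ) :=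
      by positivity
    exact (pos_iff_pos_of_mul_pos hpos).2 h5
  have h6 : ((0 : ℚ) : ℝ) < (((-1 : ℚ) ^ (k + 1) * bernoulli (2 * k) : ℚ) : ℝ) := by
    push_cast
    exact h3
  exact_mod_cast h6

theorem bernoulli'_neg_of_four_dvd (j : ℕ) (hj : j ≠ 0) : bernoulli' (4 * j) < 0 := by
  have h := bernoulli_sign (2 * j) (by omega)
  have h1 : (-1 : ℚ) ^ (2 * j + 1) = -1 := by
    rw [pow_succ, pow_mul]; norm_num
  rw [h1] at h
  have h2 : 2 * (2 * j) = 4 * j := by ring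
  rw [h2, bernoulli_eq_bernoulli'_of_ne_one (by omega)] at h
  linarith

theorem bernoulli'_pos_of_two_mod_four (j : ℕ) : 0 < bernoulli' (4 * j + 2) := by
  have h := bernoulli_sign (2 * j + 1) (by omega)
  have h1 : (-1 : ℚ) ^ (2 * j + 1 + 1) = 1 := by
    rw [show 2 * j + 1 + 1 = 2 * (j + 1) by ring, pow_mul]; norm_num
  rw [h1] at h
  have h2 : 2 * (2 * j + 1) = 4 * j + 2 := by ring
  rw [h2, bernoulli_eq_bernoulli'_of_ne_one (by omega)] at h
  linarith

theorem eventually_neg (a : ℚ) (ha : a < 0) (N : ℕ) (hN : 0 < N) (R : Polynomial ℚ)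
    (hR : R.natDegree < N) :
    ∃ P0 : ℕ, ∀ p : ℕ, P0 ≤ p → a * (p : ℚ) ^ N + R.eval (p : ℚ) < 0 := by
  set Q : Polynomial ℚ := Polynomial.C a * Polynomial.X ^ N + R with hQ
  have hdegR : R.degree < (Polynomial.C a * Polynomial.X ^ N).degree := by
    rw [Polynomial.degree_C_mul_X_pow N ha.ne]
    exact lt_of_le_of_lt Polynomial.degree_le_natDegree (by exact_mod_cast hR)
  have hdeg : Q.degree = N := by
    rw [hQ, Polynomial.degree_add_eq_left_of_degree_lt hdegR, Polynomial.degree_C_mul_X_pow N ha.ne]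
  have hlead : Q.leadingCoeff = a := by
    rw [hQ, Polynomial.leadingCoeff_add_of_degree_lt' hdegR, Polynomial.leadingCoeff_mul,
      Polynomial.leadingCoeff_C, Polynomial.leadingCoeff_X_pow, mul_one]
  have hpos : 0 < Q.degree := by rw [hdeg]; exact_mod_cast hN
  have ht := Polynomial.tendsto_atBot_of_leadingCoeff_nonpos Q hpos (by rw [hlead]; exact ha.le)
  have ht2 := ht.comp (tendsto_natCast_atTop_atTop (R := ℚ))
  have hev := ht2.eventually (eventually_lt_atBot (0 : ℚ))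
  obtain ⟨P0, hP0⟩ := eventually_atTop.1 hev
  refine ⟨P0, fun p hp => ?_⟩
  have := hP0 p hp
  simpa [hQ] using this

end Groth.Agent.H8Todd3
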