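import Mathlib
import Groth.Agent.H8Todd2

set_option autoImplicit false

open PowerSeries

namespace H8Todd4

theorem todd_ode (v : PowerSeries ℚ) (hv : v * (exp ℚ - 1) = X * exp ℚ) :
    X * d⁄dX ℚ v = v - v ^ 2 + X * v := by
  have hne : (exp ℚ - 1 : PowerSeries ℚ) ≠ 0 := Groth.Agent.H8Todd2.exp_sub_one_ne_zero
  apply mul_right_cancel₀ hne
  have hd := congrArg (d⁄dX ℚ) hv
  rw [Derivation.leibniz, Derivation.leibniz, map_sub, derivative_exp, derivative_one,
    derivative_X] at hd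
  simp only [smul_eq_mul, sub_zero] at hd
  have h1 : (exp ℚ - 1) * d⁄dX ℚ v = X * exp ℚ + exp ℚ - v * exp ℚ := by
    linear_combination hd
  calc X * d⁄dX ℚ v * (exp ℚ - 1) = X * ((exp ℚ - 1) * d⁄dX ℚ v) := by ring
    _ = X * (X * exp ℚ + exp ℚ - v * exp ℚ) := by rw [h1]
    _ = (v - v ^ 2 + X * v) * (exp ℚ - 1) := by linear_combination (-(X + 1 - v)) * hv

theorem derivative_rescale_exp (m : ℚ) :
    d⁄dX ℚ (rescale m (exp ℚ)) = C m * rescale m (exp ℚ) := by
  ext n
  rw [coeff_derivative, coeff_C_mul, coeff_rescale, coeff_rescale, coeff_exp, coeff_exp]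
  simp only [Algebra.algebraMap_self, RingHom.id_apply]
  rw [Nat.factorial_succ]
  push_cast
  field_simp
  ring

theorem todd_const (v : PowerSeries ℚ) (hv : v * (exp ℚ - 1) = X * exp ℚ) :
    constantCoeff v = 1 := by
  have h := congrArg (coeff 1) hv
  rw [coeff_mul, Finset.Nat.sum_antidiagonal_succ] at h
  simp at h
  have h2 : coeff 1 (X * exp ℚ) = 1 := by
    rw [show (1 : ℕ) = 0 + 1 from rfl, coeff_succ_X_mul]
    simp
  simpa [h2] using h

theorem recurrence (v : PowerSeries ℚ) (hv : v * (exp ℚ - 1) = X * exp ℚ) (m : ℚ) (k : ℕ) :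
    ((k : ℚ) + 1) * coeff (k + 1) (rescale m (exp ℚ) * v ^ (k + 2)) =
      (m + k + 1) * coeff k (rescale m (exp ℚ) * v ^ (k + 1)) := by
  have hode := todd_ode v hv
  set E := rescale m (exp ℚ) with hE
  have hE' : d⁄dX ℚ E = C m * E := derivative_rescale_exp m
  set P := E * v ^ (k + 1) with hP
  have hdP : X * d⁄dX ℚ P = C m * X * P + ((k : PowerSeries ℚ) + 1) * P
      - ((k : PowerSeries ℚ) + 1) * (E * v ^ (k + 2)) + ((k : PowerSeries ℚ) + 1) * X * P := by
    rw [hP, Derivation.leibniz, hE', derivative_pow]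
    simp only [smul_eq_mul, Nat.add_sub_cancel]
    push_cast
    have : X * (E * (((k : PowerSeries ℚ) + 1) * v ^ k * d⁄dX ℚ v) + v ^ (k + 1) * (C m * E))
        = ((k : PowerSeries ℚ) + 1) * E * v ^ k * (X * d⁄dX ℚ v) + C m * X * (E * v ^ (k + 1)) := by
      ring
    rw [this, hode]
    ring
  have hid : ((k : PowerSeries ℚ) + 1) * (E * v ^ (k + 2)) =
      (C m + (k : PowerSeries ℚ) + 1) * (X * P) + ((k : PowerSeries ℚ) + 1) * P - X * d⁄dX ℚ P := by
    rw [hdP]; ring
  have hk1 : ((k : PowerSeries ℚ) + 1) = C ((k : ℚ) + 1) := by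
    rw [map_add, map_one, map_natCast]
  have hk2 : (C m + (k : PowerSeries ℚ) + 1) = C (m + (k : ℚ) + 1) := by
    rw [map_add, map_add, map_one, map_natCast]
  rw [hk2, hk1] at hid
  have hc := congrArg (coeff (k + 1)) hid
  rw [map_sub (coeff (k + 1)), map_add (coeff (k + 1)), coeff_C_mul, coeff_C_mul, coeff_C_mul,
    coeff_succ_X_mul, coeff_succ_X_mul, coeff_derivative] at hc
  push_cast at hc
  linear_combination hc

end H8Todd4
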