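import Mathlib

set_option autoImplicit false
set_option linter.unusedSectionVars false

open WittVector

namespace H8WittT

variable (p : ℕ) [hp : Fact p.Prime] (k : Type*) [Field k] [CharP k p] [PerfectRing k p] (n : ℕ)

/-- zeroth coefficient as a ring hom on truncated Witt vectors of positive length -/
noncomputable def rho (hn : 0 < n) : TruncatedWittVector p n k →+* k :=
  (WittVector.truncate (p := p) (R := k) n).liftOfSurjective
    (WittVector.truncate_surjective p n k)
    ⟨WittVector.constantCoeff, by
      intro x hx
      rw [RingHom.mem_ker] at hx ⊢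
      have := (WittVector.mem_ker_truncate n x).mp hx 0 hn
      exact this⟩

theorem rho_truncate (hn : 0 < n) (X : WittVector p k) :
    rho p k n hn (WittVector.truncate n X) = X.coeff 0 :=
  RingHom.liftOfSurjective_comp_apply _ _ _ X

theorem rho_eq_coeff (hn : 0 < n) (x : TruncatedWittVector p n k) :
    rho p k n hn x = x.coeff ⟨0, hn⟩ := by
  obtain ⟨X, rfl⟩ := WittVector.truncate_surjective p n k x
  rw [rho_truncate, WittVector.coeff_truncate]

theorem rho_surjective (hn : 0 < n) : Function.Surjective (rho p k n hn) := by
  intro c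
  refine ⟨WittVector.truncate n (WittVector.teichmuller p c), ?_⟩
  rw [rho_truncate, WittVector.teichmuller_coeff_zero]

theorem rho_eq_zero (hn : 0 < n) (x : TruncatedWittVector p n k) (hx : rho p k n hn x = 0) :
    ∃ s, x = (p : TruncatedWittVector p n k) * s := by
  obtain ⟨X, rfl⟩ := WittVector.truncate_surjective p n k x
  rw [rho_truncate] at hx
  have := (WittVector.mem_span_p_iff_coeff_zero_eq_zero X).mpr hx
  rw [Ideal.mem_span_singleton] at this
  obtain ⟨Y, rfl⟩ := this
  exact ⟨WittVector.truncate n Y, by rw [map_mul, map_natCast]⟩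

theorem rho_p (hn : 0 < n) : rho p k n hn (p : TruncatedWittVector p n k) = 0 := by
  rw [map_natCast]
  exact CharP.cast_eq_zero k p

theorem p_pow_eq_zero : (p : TruncatedWittVector p n k) ^ n = 0 := by
  have h1 : ((p : WittVector p k) ^ n) ∈ RingHom.ker (WittVector.truncate (p := p) (R := k) n) := by
    rw [WittVector.mem_ker_truncate]
    intro i hi
    have h2 : ((p : WittVector p k) ^ n) ∈ Ideal.span {((p : WittVector p k) ^ n)} :=
      Ideal.mem_span_singleton_self _
    exact (WittVector.mem_span_p_pow_iff_le_coeff_eq_zero _ n).mp h2 i hi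
  rw [RingHom.mem_ker, map_pow, map_natCast] at h1
  exact h1

theorem nontrivial (hn : 0 < n) : Nontrivial (TruncatedWittVector p n k) := by
  refine ⟨⟨0, 1, fun h => ?_⟩⟩
  have := congrArg (rho p k n hn) h
  rw [map_zero, map_one] at this
  exact zero_ne_one this

theorem isLocalRing (hn : 0 < n) : IsLocalRing (TruncatedWittVector p n k) := by
  haveI := nontrivial p k n hn
  exact IsLocalRing.of_surjective' (WittVector.truncate (p := p) (R := k) n)
    (WittVector.truncate_surjective p n k)

theorem ker_rho (hn : 0 < n) :
    RingHom.ker (rho p k n hn) = Ideal.span {(p : TruncatedWittVector p n k)} := by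
  ext x
  rw [RingHom.mem_ker, Ideal.mem_span_singleton]
  constructor
  · intro hx
    obtain ⟨s, hs⟩ := rho_eq_zero p k n hn x hx
    exact ⟨s, hs⟩
  · rintro ⟨s, rfl⟩
    rw [map_mul, rho_p, zero_mul]

theorem maximalIdeal_eq (hn : 0 < n) :
    @IsLocalRing.maximalIdeal (TruncatedWittVector p n k) _ (isLocalRing p k n hn) =
      Ideal.span {(p : TruncatedWittVector p n k)} := by
  letI := isLocalRing p k n hn
  have hmax : (RingHom.ker (rho p k n hn)).IsMaximal :=
    RingHom.ker_isMaximal_of_surjective _ (rho_surjective p k n hn)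
  rw [← ker_rho p k n hn]
  exact (IsLocalRing.eq_maximalIdeal hmax).symm

end H8WittT
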