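import Mathlib
import Groth.Agent.H8WittT
import Groth.Agent.S19235
import Groth.Prelude.Def_WittGrp

set_option autoImplicit false
set_option linter.unusedSectionVars false

namespace H8WittT

section Transfer

variable {κ k : Type*} [Field κ] [Field k] (e : κ ≃+* k) (σκ : κ →+* κ) (σk : k →+* k)
  (hcomm : ∀ x, e (σκ x) = σk (e x))

include hcomm

theorem iter_comm (j : ℕ) (x : κ) : e ((⇑σκ)^[j] x) = (⇑σk)^[j] (e x) := by
  induction j with
  | zero => rfl
  | succ j ih => rw [Function.iterate_succ_apply', Function.iterate_succ_apply', hcomm, ih]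

theorem h3_transfer (h3 : ∀ c : k, ∃ y : k, σk y - y + c = 0) :
    ∀ c : κ, ∃ y : κ, σκ y - y + c = 0 := by
  intro c
  obtain ⟨y, hy⟩ := h3 (e c)
  refine ⟨e.symm y, ?_⟩
  apply e.injective
  rw [map_add, map_sub, hcomm, e.apply_symm_apply, map_zero]
  exact hy

theorem h2_transfer
    (h2 : ∀ (n : ℕ) (b : Fin (n + 1) → k), b ≠ 0 →
      ∃ x : k, x ≠ 0 ∧ x = ∑ i : Fin (n + 1), (⇑σk)^[i.val + 1] x * (⇑σk)^[i.val] (b (Fin.rev i))) :
    ∀ (n : ℕ) (b : Fin (n + 1) → κ), b ≠ 0 →
      ∃ x : κ, x ≠ 0 ∧ x = ∑ i : Fin (n + 1), (⇑σκ)^[i.val + 1] x * (⇑σκ)^[i.val] (b (Fin.rev i)) := by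
  intro n b hb
  have hb' : (fun i => e (b i)) ≠ 0 := by
    intro h
    apply hb
    funext i
    have := congrFun h i
    simpa using this
  obtain ⟨x, hx0, hx⟩ := h2 n (fun i => e (b i)) hb'
  refine ⟨e.symm x, ?_, ?_⟩
  · intro h
    apply hx0
    have := congrArg e h
    simpa using this
  · apply e.injective
    rw [e.apply_symm_apply, map_sum]
    conv_lhs => rw [hx]
    apply Finset.sum_congr rfl
    intro i _
    rw [map_mul, iter_comm e σκ σk hcomm, iter_comm e σκ σk hcomm, e.apply_symm_apply]

theorem surj_transfer (hs : Function.Surjective σk) : Function.Surjective σκ := by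
  intro c
  obtain ⟨y, hy⟩ := hs (e c)
  refine ⟨e.symm y, ?_⟩
  apply e.injective
  rw [hcomm, e.apply_symm_apply, hy]

end Transfer

section Main

variable (p : ℕ) [hp : Fact p.Prime] (k : Type*) [Field k] [CharP k p] [PerfectRing k p] (n : ℕ)

/-- the data needed to apply the abstract results for local rings with maximal ideal `(p)`. -/
theorem exists_residue_data (hn : 0 < n) (f : k →+* k) :
    letI := isLocalRing p k n hn
    ∃ (σbar : IsLocalRing.ResidueField (TruncatedWittVector p n k) →+*
        IsLocalRing.ResidueField (TruncatedWittVector p n k))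
      (e : IsLocalRing.ResidueField (TruncatedWittVector p n k) ≃+* k),
      (∀ r, σbar (IsLocalRing.residue _ r) = IsLocalRing.residue _ (WittGrp.truncMap p n f r)) ∧
      (∀ x, e (σbar x) = f (e x)) ∧
      (∀ r, e (IsLocalRing.residue _ r) = rho p k n hn r) := by
  letI := isLocalRing p k n hn
  have hmax := maximalIdeal_eq p k n hn
  have hle : IsLocalRing.maximalIdeal (TruncatedWittVector p n k) ≤
      (IsLocalRing.maximalIdeal (TruncatedWittVector p n k)).comap (WittGrp.truncMap p n f) := by
    intro r hr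
    rw [hmax, Ideal.mem_span_singleton] at hr
    rw [Ideal.mem_comap, hmax, Ideal.mem_span_singleton]
    obtain ⟨s, rfl⟩ := hr
    exact ⟨WittGrp.truncMap p n f s, by rw [map_mul, map_natCast]⟩
  let σbar : IsLocalRing.ResidueField (TruncatedWittVector p n k) →+*
      IsLocalRing.ResidueField (TruncatedWittVector p n k) :=
    Ideal.quotientMap (IsLocalRing.maximalIdeal (TruncatedWittVector p n k))
      (WittGrp.truncMap p n f) hle
  let e : IsLocalRing.ResidueField (TruncatedWittVector p n k) ≃+* k :=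
    (Ideal.quotEquivOfEq (hmax.trans (ker_rho p k n hn).symm)).trans
      (RingHom.quotientKerEquivOfSurjective (rho_surjective p k n hn))
  have he : ∀ r, e (IsLocalRing.residue _ r) = rho p k n hn r := fun r => rfl
  have hσ : ∀ r, σbar (IsLocalRing.residue _ r) =
      IsLocalRing.residue _ (WittGrp.truncMap p n f r) := fun r => rfl
  refine ⟨σbar, e, hσ, ?_, he⟩
  intro x
  obtain ⟨r, rfl⟩ := IsLocalRing.residue_surjective x
  rw [hσ, he, he, rho_eq_coeff, rho_eq_coeff, WittGrp.coeff_truncMap]

theorem sub_surjective_trunc (f : k →+* k) (hfs : Function.Surjective f)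
    (h2 : ∀ (n : ℕ) (b : Fin (n + 1) → k), b ≠ 0 →
      ∃ x : k, x ≠ 0 ∧ x = ∑ i : Fin (n + 1), (⇑f)^[i.val + 1] x * (⇑f)^[i.val] (b (Fin.rev i)))
    (h3 : ∀ c : k, ∃ y : k, f y - y + c = 0)
    (M : Type*) [AddCommGroup M] [Module (TruncatedWittVector p n k) M]
    [Module.Finite (TruncatedWittVector p n k) M]
    (T : M →ₛₗ[WittGrp.truncMap p n f] M) :
    Function.Surjective (fun m : M => m - T m) := by
  rcases Nat.eq_zero_or_pos n with hn | hn
  · subst hn
    haveI : Subsingleton (TruncatedWittVector p 0 k) := by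
      refine ⟨fun a b => ?_⟩
      apply TruncatedWittVector.ext
      intro i
      exact i.elim0
    haveI : Subsingleton M := Module.subsingleton (TruncatedWittVector p 0 k) M
    intro y
    exact ⟨0, Subsingleton.elim _ _⟩
  · letI := isLocalRing p k n hn
    obtain ⟨σbar, e, hσ, hcomm, -⟩ := exists_residue_data p k n hn f
    exact Groth.Agent.S19235.result p (TruncatedWittVector p n k) (maximalIdeal_eq p k n hn) n
      (p_pow_eq_zero p k n) (WittGrp.truncMap p n f) σbar hσ
      (surj_transfer e σbar f hcomm hfs) (h2_transfer e σbar f hcomm h2)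
      (h3_transfer e σbar f hcomm h3) M T

end Main

end H8WittT
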