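import Mathlib
import Groth.Agent.H8LiftBasis
import Groth.Agent.H8WittT2
import Groth.Agent.H8Sig2

set_option autoImplicit false
set_option linter.unusedSectionVars false

namespace H8WittF

variable (p : ℕ) [hp : Fact p.Prime] (k : Type*) [Field k] [CharP k p] [PerfectRing k p]

theorem hmax : IsLocalRing.maximalIdeal (WittVector p k) = Ideal.span {(p : WittVector p k)} :=
  (WittVector.irreducible p).maximalIdeal_eq

theorem coeff_zero_iterate_frobenius (ν : ℕ) (a : WittVector p k) :
    ((⇑(WittVector.frobenius : WittVector p k →+* WittVector p k))^[ν] a).coeff 0 =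
      (a.coeff 0) ^ (p ^ ν) := by
  induction ν with
  | zero => simp
  | succ ν ih =>
    rw [Function.iterate_succ_apply', WittVector.coeff_frobenius_charP, ih, ← pow_mul, ← pow_succ]

theorem exists_residue_data (ν : ℕ) :
    ∃ (σbar : IsLocalRing.ResidueField (WittVector p k) →+*
        IsLocalRing.ResidueField (WittVector p k))
      (e : IsLocalRing.ResidueField (WittVector p k) ≃+* k),
      (∀ r, σbar (IsLocalRing.residue _ r) = IsLocalRing.residue _
        (((WittVector.frobenius : WittVector p k →+* WittVector p k) ^ ν) r)) ∧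
      (∀ x, e (σbar x) = iterateFrobenius k p ν (e x)) := by
  have hm := hmax p k
  have hle : IsLocalRing.maximalIdeal (WittVector p k) ≤
      (IsLocalRing.maximalIdeal (WittVector p k)).comap
        ((WittVector.frobenius : WittVector p k →+* WittVector p k) ^ ν) := by
    intro r hr
    rw [hm, Ideal.mem_span_singleton] at hr
    rw [Ideal.mem_comap, hm, Ideal.mem_span_singleton]
    obtain ⟨s, rfl⟩ := hr
    exact ⟨((WittVector.frobenius : WittVector p k →+* WittVector p k) ^ ν) s, by
      rw [map_mul, map_natCast]⟩
  let σbar : IsLocalRing.ResidueField (WittVector p k) →+*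
      IsLocalRing.ResidueField (WittVector p k) :=
    Ideal.quotientMap (IsLocalRing.maximalIdeal (WittVector p k))
      ((WittVector.frobenius : WittVector p k →+* WittVector p k) ^ ν) hle
  let e : IsLocalRing.ResidueField (WittVector p k) ≃+* k :=
    (Ideal.quotEquivOfEq hm).trans (WittVector.quotientPEquiv (p := p) (k := k))
  have he : ∀ r : WittVector p k, e (IsLocalRing.residue _ r) = r.coeff 0 := fun r => rfl
  have hσ : ∀ r, σbar (IsLocalRing.residue _ r) = IsLocalRing.residue _
      (((WittVector.frobenius : WittVector p k →+* WittVector p k) ^ ν) r) := fun r => rfl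
  refine ⟨σbar, e, hσ, ?_⟩
  intro x
  obtain ⟨r, rfl⟩ := IsLocalRing.residue_surjective x
  rw [hσ, he, he, RingHom.coe_pow, coeff_zero_iterate_frobenius, iterateFrobenius_def]

theorem exists_basis_fixed [IsSepClosed k] (ν : ℕ) (hν : 0 < ν)
    (M : Type*) [AddCommGroup M] [Module (WittVector p k) M]
    [Module.Finite (WittVector p k) M] [Module.Free (WittVector p k) M]
    (T : M →ₛₗ[((WittVector.frobenius : WittVector p k →+* WittVector p k) ^ ν)] M)
    (hT : Function.Surjective T) :
    ∃ (d : ℕ) (b : Module.Basis (Fin d) (WittVector p k) M), ∀ i, T (b i) = b i := by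
  obtain ⟨σbar, e, hσ, hcomm⟩ := exists_residue_data p k ν
  have hf : ∀ c : k, iterateFrobenius k p ν c = c ^ (p ^ ν) := fun c => iterateFrobenius_def p ν c
  exact H8LiftBasis.exists_basis_fixed (WittVector p k) (p : WittVector p k) (hmax p k)
    ((WittVector.frobenius : WittVector p k →+* WittVector p k) ^ ν) (map_natCast _ p) σbar hσ
    (H8WittT.h2_transfer e σbar (iterateFrobenius k p ν) hcomm
      (H8Sig.h2_pow p ν hν (iterateFrobenius k p ν) hf))
    (H8WittT.h3_transfer e σbar (iterateFrobenius k p ν) hcomm
      (H8Sig.h3_pow p ν hν (iterateFrobenius k p ν) hf)) M T hT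

end H8WittF
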