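import Mathlib
import Groth.Agent.H8WittT2
import Groth.Agent.H8SigFin

set_option autoImplicit false
set_option linter.unusedSectionVars false

namespace H8WittT

variable (p : ℕ) [hp : Fact p.Prime] (k : Type*) [Field k] [CharP k p] [PerfectRing k p] (n : ℕ)

theorem finite_fixed_trunc (f : k →+* k)
    (h2 : ∀ (n : ℕ) (b : Fin (n + 1) → k), b ≠ 0 →
      ∃ x : k, x ≠ 0 ∧ x = ∑ i : Fin (n + 1), (⇑f)^[i.val + 1] x * (⇑f)^[i.val] (b (Fin.rev i)))
    (h3 : ∀ c : k, ∃ y : k, f y - y + c = 0)
    (hfin : {x : k | f x = x}.Finite)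
    (M : Type*) [AddCommGroup M] [Module (TruncatedWittVector p n k) M]
    [Module.Finite (TruncatedWittVector p n k) M]
    (T : M →ₛₗ[WittGrp.truncMap p n f] M) :
    {m : M | T m = m}.Finite := by
  rcases Nat.eq_zero_or_pos n with hn | hn
  · subst hn
    have : Subsingleton (TruncatedWittVector p 0 k) := by
      refine ⟨fun a b => ?_⟩
      apply TruncatedWittVector.ext
      intro i
      exact i.elim0
    have : Subsingleton M := Module.subsingleton (TruncatedWittVector p 0 k) M
    exact Set.toFinite _
  · letI := isLocalRing p k n hn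
    obtain ⟨σbar, e, hσ, hcomm, -⟩ := exists_residue_data p k n hn f
    have hfin' : {c : IsLocalRing.ResidueField (TruncatedWittVector p n k) | σbar c = c}.Finite := by
      refine (hfin.image e.symm).subset ?_
      intro c hc
      have hc' : σbar c = c := hc
      refine ⟨e c, ?_, e.symm_apply_apply c⟩
      show f (e c) = e c
      rw [← hcomm, hc']
    exact H8SigFin.finite_fixed_local p (TruncatedWittVector p n k) (maximalIdeal_eq p k n hn)
      (WittGrp.truncMap p n f) σbar hσ (h2_transfer e σbar f hcomm h2)
      (h3_transfer e σbar f hcomm h3) hfin' n (p_pow_eq_zero p k n) M T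

end H8WittT
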