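import Groth.Statements.S13710
import Mathlib
import Groth.Agent.Lib.helper6.FlatDescentSrc

set_option autoImplicit false
universe u
open CategoryTheory CategoryTheory.Limits AlgebraicGeometry
open ZeroCyc

namespace Groth.Agent.S13710

/-- Let f : X → Y be a morphism of schemes and g : Y' → Y a faithfully flat morphism (flat and
surjective, not assumed quasi-compact). Then f is an isomorphism exactly when it is quasi-compact
and its base change X ×_Y Y' → Y' along g is an isomorphism. -/
theorem result {X Y Y' : Scheme.{u}} (f : X ⟶ Y) (g : Y' ⟶ Y)
    [Flat g] [Surjective g] :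
    IsIso f ↔ QuasiCompact f ∧ IsIso (pullback.snd f g) := by
  constructor
  · intro h
    exact ⟨inferInstance, inferInstance⟩
  · rintro ⟨hqc, hiso⟩
    -- surjectivity of f
    haveI : Surjective f := by
      constructor
      intro y
      obtain ⟨y', rfl⟩ := g.surjective y
      obtain ⟨z, rfl⟩ := (pullback.snd f g).surjective y'
      refine ⟨(pullback.fst f g) z, ?_⟩
      rw [← Scheme.Hom.comp_apply, pullback.condition, Scheme.Hom.comp_apply]
    -- flatness of f
    haveI : Flat (pullback.fst f g ≫ f) := by
      rw [pullback.condition]
      infer_instance
    haveI : Flat f := Groth.Agent.Lib.helper6.H6_flat_of_flat_comp (pullback.fst f g) f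
    -- f is a monomorphism
    haveI : Mono f := by
      constructor
      intro T a b hab
      let p := pullback.fst (a ≫ f) g
      haveI : Epi p := Flat.epi_of_flat_of_surjective p
      let a' : pullback (a ≫ f) g ⟶ pullback f g :=
        pullback.lift (p ≫ a) (pullback.snd (a ≫ f) g) (by
          rw [Category.assoc]; exact pullback.condition)
      let b' : pullback (a ≫ f) g ⟶ pullback f g :=
        pullback.lift (p ≫ b) (pullback.snd (a ≫ f) g) (by
          rw [Category.assoc, ← hab]; exact pullback.condition)
      have hab' : a' = b' := by
        rw [← cancel_mono (pullback.snd f g)]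
        exact (pullback.lift_snd _ _ _).trans (pullback.lift_snd _ _ _).symm
      rw [← cancel_epi p]
      have h1 : a' ≫ pullback.fst f g = p ≫ a := pullback.lift_fst _ _ _
      have h2 : b' ≫ pullback.fst f g = p ≫ b := pullback.lift_fst _ _ _
      rw [← h1, ← h2, hab']
    exact Flat.isIso_of_surjective_of_mono f

end Groth.Agent.S13710
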