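import Groth.Statements.S13711
import Mathlib
import Groth.Agent.Lib.helper6.AffineDescent

set_option autoImplicit false
universe u
open CategoryTheory CategoryTheory.Limits AlgebraicGeometry
open ZeroCyc

namespace Groth.Agent.S13711

/-- Let f : X → Y be a morphism of schemes and g : Y' → Y a faithfully flat morphism (flat and
surjective, not assumed quasi-compact). Then f is affine exactly when it is quasi-compact,
quasi-separated, and its base change X ×_Y Y' → Y' along g is affine. -/
theorem result {X Y Y' : Scheme.{u}} (f : X ⟶ Y) (g : Y' ⟶ Y)
    [Flat g] [Surjective g] :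
    IsAffineHom f ↔ QuasiCompact f ∧ QuasiSeparated f ∧ IsAffineHom (pullback.snd f g) := by
  constructor
  · intro h
    exact ⟨inferInstance, inferInstance,
      MorphismProperty.pullback_snd (P := @IsAffineHom) _ _ h⟩
  · rintro ⟨hqc, hqs, haff⟩
    apply HasAffineProperty.of_openCover (P := @IsAffineHom) Y.affineCover
    intro i
    change IsAffine (pullback f (Y.affineCover.f i))
    have hA : IsPullback (pullback.fst f (Y.affineCover.f i)) (pullback.snd f (Y.affineCover.f i)) f
        (Y.affineCover.f i) := IsPullback.of_hasPullback _ _
    have hC : IsPullback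
        (pullback.fst (pullback.snd f (Y.affineCover.f i)) (pullback.snd g (Y.affineCover.f i)))
        (pullback.snd (pullback.snd f (Y.affineCover.f i)) (pullback.snd g (Y.affineCover.f i)))
        (pullback.snd f (Y.affineCover.f i)) (pullback.snd g (Y.affineCover.f i)) :=
      IsPullback.of_hasPullback _ _
    have hbig := hC.paste_horiz hA
    have hcond : pullback.snd g (Y.affineCover.f i) ≫ Y.affineCover.f i
        = pullback.fst g (Y.affineCover.f i) ≫ g := pullback.condition.symm
    rw [hcond] at hbig
    have hD : IsPullback (pullback.fst f g) (pullback.snd f g) f g := IsPullback.of_hasPullback _ _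
    have hlift : pullback.lift
        (pullback.fst (pullback.snd f (Y.affineCover.f i)) (pullback.snd g (Y.affineCover.f i))
          ≫ pullback.fst f (Y.affineCover.f i))
        (pullback.snd (pullback.snd f (Y.affineCover.f i)) (pullback.snd g (Y.affineCover.f i))
          ≫ pullback.fst g (Y.affineCover.f i)) hbig.w ≫ pullback.fst f g =
        pullback.fst (pullback.snd f (Y.affineCover.f i)) (pullback.snd g (Y.affineCover.f i))
          ≫ pullback.fst f (Y.affineCover.f i) := pullback.lift_fst _ _ _
    rw [← hlift] at hbig
    have hE := IsPullback.of_right hbig (pullback.lift_snd _ _ _) hD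
    haveI : IsAffineHom
        (pullback.snd (pullback.snd f (Y.affineCover.f i)) (pullback.snd g (Y.affineCover.f i))) :=
      MorphismProperty.of_isPullback (P := @IsAffineHom) hE haff
    exact Groth.Agent.Lib.helper6.H6_isAffine_of_flat_baseChange
      (pullback.snd f (Y.affineCover.f i)) (pullback.snd g (Y.affineCover.f i))

end Groth.Agent.S13711
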