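import Groth.Statements.S0416
import Groth.Agent.Lib.UnivHomeo

set_option autoImplicit false
universe u
open FlatMor

namespace Groth.Agent.S0416

open AlgebraicGeometry CategoryTheory Limits in
/-- When a composite of two morphisms is a universal homeomorphism and so is either factor, the
remaining factor is a universal homeomorphism as well. -/
theorem result {X Y Z : Scheme.{u}} (g : X ⟶ Y) (h : Y ⟶ Z) :
    (FlatMor.IsUnivHomeo (g ≫ h) → FlatMor.IsUnivHomeo g → FlatMor.IsUnivHomeo h) ∧
    (FlatMor.IsUnivHomeo (g ≫ h) → FlatMor.IsUnivHomeo h → FlatMor.IsUnivHomeo g) := by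
  constructor
  · intro hgh hg Y' Z' i₁ i₂ h' sq
    have sq1 : IsPullback (pullback.snd g i₁) (pullback.fst g i₁) i₁ g :=
      (IsPullback.of_hasPullback g i₁).flip
    have e1 : IsHomeomorph (pullback.snd g i₁) := hg _ _ _ sq1
    have e2 : IsHomeomorph (pullback.snd g i₁ ≫ h') := hgh _ _ _ (sq1.paste_horiz sq)
    have key : (h' : Y' → Z') = (pullback.snd g i₁ ≫ h' : _ → _) ∘ e1.homeomorph.symm := by
      funext y
      simp only [Function.comp_apply, Scheme.Hom.comp_apply]
      congr 1
      exact (e1.homeomorph.apply_symm_apply y).symm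
    change IsHomeomorph (h' : Y' → Z')
    rw [key]
    exact e2.comp e1.homeomorph.symm.isHomeomorph
  · intro hgh hh
    exact MorphismProperty.of_postcomp (W := FlatMor.IsUnivHomeo) (W' := FlatMor.IsUnivHomeo) g h hh hgh

end Groth.Agent.S0416
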