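import Groth.Statements.S0415
import Groth.Agent.Lib.UnivHomeo

set_option autoImplicit false
universe u
open FlatMor

namespace Groth.Agent.S0415

open AlgebraicGeometry CategoryTheory Limits in
/-- A morphism of schemes is a universal homeomorphism if and only if it is integral, universally
injective and surjective. -/
theorem result {X Y : Scheme.{u}} (f : X ⟶ Y) :
    FlatMor.IsUnivHomeo f ↔ IsIntegralHom f ∧ UniversallyInjective f ∧ Surjective f := by
  constructor
  · intro h
    have h' := h
    rw [Groth.Agent.Lib.UnivHomeo.isUnivHomeo_eq] at h'
    obtain ⟨⟨h₁, h₂⟩, h₃⟩ := h'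
    refine ⟨?_, h₂, h₃⟩
    have hle : (topologically (fun f => IsHomeomorph f) : MorphismProperty Scheme.{u}) ≤
        topologically @IsClosedMap :=
      fun _ _ g (hg : IsHomeomorph g) => hg.homeomorph.isClosedMap
    have hc : UniversallyClosed f := ⟨MorphismProperty.universally_mono hle _ h⟩
    have hf : IsHomeomorph f := MorphismProperty.universally_le _ _ h
    have ha : IsAffineHom f := by
      apply isAffineHom_of_isInducing
      · exact hf.homeomorph.isInducing
      · rw [hf.bijective.surjective.range_eq]; exact isClosed_univ
    exact IsIntegralHom.iff_universallyClosed_and_isAffineHom.mpr ⟨hc, ha⟩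
  · rintro ⟨h₁, h₂, h₃⟩
    intro X' Y' i₁ i₂ f' sq
    have h₁' : IsIntegralHom f' := MorphismProperty.of_isPullback sq.flip h₁
    have h₂' : UniversallyInjective f' := MorphismProperty.of_isPullback sq.flip h₂
    have h₃' : Surjective f' := MorphismProperty.of_isPullback sq.flip h₃
    exact isHomeomorph_iff_continuous_isClosedMap_bijective.mpr
      ⟨f'.continuous, f'.isClosedMap, f'.injective, f'.surjective⟩

end Groth.Agent.S0415
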