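import Groth.Statements.S4186
import Mathlib

set_option autoImplicit false
open CategoryTheory AlgebraicGeometry Topology TopologicalSpace
open An

namespace Groth.Agent.S4186

/-- A scheme locally of finite type over ℂ is nonempty if and only if it has a ℂ-point. -/
theorem result (X : Scheme.{0}) [X.Over An.SC] [LocallyOfFiniteType (X ↘ An.SC)] :
    Nonempty ↥X ↔ Nonempty (An.Pts X) := by
  constructor
  · rintro ⟨x⟩
    obtain ⟨_, ⟨U, hU, rfl⟩, hxU, -⟩ :=
      X.isBasis_affineOpens.exists_subset_of_mem_open (Set.mem_univ x) isOpen_univ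
    have hU' : IsAffineOpen U := hU
    let R : CommRingCat := Γ(X, U)
    let j : Spec R ⟶ X := hU'.fromSpec
    let g : Spec R ⟶ Spec (CommRingCat.of ℂ) := j ≫ (X ↘ An.SC)
    haveI : LocallyOfFiniteType g := by
      change LocallyOfFiniteType (j ≫ (X ↘ An.SC))
      infer_instance
    let φ : CommRingCat.of ℂ ⟶ R := Spec.preimage g
    have hφg : Spec.map φ = g := Spec.map_preimage g
    have hφ : RingHom.FiniteType φ.hom := by
      have : LocallyOfFiniteType (Spec.map φ) := by rw [hφg]; infer_instance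
      exact HasRingHomProperty.Spec_iff.mp this
    obtain ⟨y, hy⟩ : ∃ y : Spec R, j y = x := by
      have : x ∈ Set.range j := by
        rw [hU'.range_fromSpec]
        exact hxU
      exact this
    obtain ⟨m, hm, -⟩ := Ideal.exists_le_maximal (PrimeSpectrum.asIdeal y) (PrimeSpectrum.isPrime y).ne_top
    algebraize [φ.hom]
    letI := Ideal.Quotient.field m
    haveI : Algebra.FiniteType ℂ (R ⧸ m) :=
      Algebra.FiniteType.of_surjective (Ideal.Quotient.mkₐ ℂ m)
        (Ideal.Quotient.mkₐ_surjective ℂ m)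
    haveI : Module.Finite ℂ (R ⧸ m) := finite_of_finite_type_of_isJacobsonRing ℂ (R ⧸ m)
    have hb : Function.Bijective (algebraMap ℂ (R ⧸ m)) :=
      IsAlgClosed.algebraMap_bijective_of_isIntegral
    let e : ℂ ≃+* R ⧸ m := RingEquiv.ofBijective (algebraMap ℂ (R ⧸ m)) hb
    let ψ : R →+* ℂ := e.symm.toRingHom.comp (Ideal.Quotient.mk m)
    have hψ : φ ≫ CommRingCat.ofHom ψ = 𝟙 (CommRingCat.of ℂ) := by
      ext c
      change e.symm (Ideal.Quotient.mk m (φ.hom c)) = c
      have : Ideal.Quotient.mk m (φ.hom c) = e c := rfl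
      rw [this, RingEquiv.symm_apply_apply]
    refine ⟨⟨Spec.map (CommRingCat.ofHom ψ) ≫ j, ?_⟩⟩
    rw [Category.assoc]
    change Spec.map (CommRingCat.ofHom ψ) ≫ g = _
    rw [← hφg, ← Spec.map_comp, hψ, Spec.map_id]
  · rintro ⟨p⟩
    exact ⟨p.pt⟩

end Groth.Agent.S4186
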