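import Groth.Statements.S0985
import Mathlib
import Groth.Agent.Lib.helper2.SeqColim

set_option autoImplicit false
universe w v u
open CategoryTheory CategoryTheory.Limits
open DerLim

namespace Groth.Agent.S0985

/-- Let A be an abelian category in which colimits of sequences ℕ ⥤ A exist and are exact, and let L : ℕ
⥤ CochainComplex A ℤ be a sequence of complexes. Then the image in the derived category of the
termwise colimit of L, with the canonical maps from the Lₙ, is a homotopy colimit of the images of
the Lₙ — assuming the termwise direct sum of the Lₙ exists and is preserved by the localization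
functor to D(A) (a known result, carried here as a hypothesis rather than proved), and that the
direct sum of the images exists in D(A). -/
theorem result {A : Type u} [Category.{v} A] [Abelian A] [HasDerivedCategory.{w} A]
    [HasColimitsOfShape ℕ A] [HasExactColimitsOfShape ℕ A]
    (L : ℕ ⥤ CochainComplex A ℤ) [HasCoproduct L.obj] [PreservesColimit (Discrete.functor L.obj) (DerivedCategory.Q (C := A))]
    [HasCoproduct (fun n => DerivedCategory.Q.obj (L.obj n))] :
    DerLim.IsHocolim (fun n => DerivedCategory.Q.obj (L.obj n)) (fun n => DerivedCategory.Q.map (L.map (homOfLE (Nat.le_succ n))))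
      (DerivedCategory.Q.obj (colimit L)) (fun n => DerivedCategory.Q.map (colimit.ι L n)) := by
  have hS := Groth.Agent.H2.H2_seq_shortExact L
  have hT := DerivedCategory.triangleOfSES_distinguished hS
  let σ : (∐ fun n => DerivedCategory.Q.obj (L.obj n)) ≅ DerivedCategory.Q.obj (∐ L.obj) :=
    asIso (sigmaComparison DerivedCategory.Q L.obj)
  have hcomp := Groth.Agent.H2.H2_sigmaComparison_shift (DerivedCategory.Q (C := A)) L.obj
    (fun n => L.map (homOfLE (Nat.le_succ n)))
  refine ⟨DerivedCategory.triangleOfSESδ hS ≫ (shiftFunctor (DerivedCategory A) (1 : ℤ)).map σ.inv, ?_⟩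
  refine Pretriangulated.isomorphic_distinguished _ hT _ ?_
  refine Pretriangulated.Triangle.isoMk _ _ σ σ (Iso.refl _) ?_ ?_ ?_
  · exact hcomp.symm
  · show Sigma.desc (fun n => DerivedCategory.Q.map (colimit.ι L n)) ≫ 𝟙 _ =
      sigmaComparison DerivedCategory.Q L.obj ≫
        DerivedCategory.Q.map (Sigma.desc (fun n => colimit.ι L n))
    rw [Category.comp_id, sigmaComparison_map_desc]
  · show (DerivedCategory.triangleOfSESδ hS ≫
      (shiftFunctor (DerivedCategory A) (1 : ℤ)).map σ.inv) ≫
        (shiftFunctor (DerivedCategory A) (1 : ℤ)).map σ.hom =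
      𝟙 _ ≫ DerivedCategory.triangleOfSESδ hS
    rw [Category.assoc, ← Functor.map_comp, Iso.inv_hom_id, CategoryTheory.Functor.map_id,
      Category.comp_id, Category.id_comp]

end Groth.Agent.S0985
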