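import Groth.Statements.S5450
import Mathlib
import Groth.Agent.Lib.helper3.RootD

set_option autoImplicit false
open RootD

namespace Groth.Agent.S5450

/-- A positive root (relative to a system of simple roots Δ) is simple if and only if it is not the sum
of two positive roots. -/
theorem result {ι M N : Type*} [AddCommGroup M] [AddCommGroup N]
    (P : RootPairing ι ℤ M N) [Finite ι] (Δ : Set ι) (hΔ : RootD.IsSimpleSys P Δ)
    (k : ι) (hk : k ∈ RootD.posOf P Δ) :
    k ∈ Δ ↔ ¬ ∃ i j : ι, i ∈ RootD.posOf P Δ ∧ j ∈ RootD.posOf P Δ ∧ P.root k = P.root i + P.root j := by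
  classical
  constructor
  · rintro hkΔ ⟨i, j, hi, hj, hij⟩
    obtain ⟨ci, hci, hposi, hsumi⟩ := Groth.Agent.H3RootD.natSpan_exists_finsupp P Δ _ hi
    obtain ⟨cj, hcj, hposj, hsumj⟩ := Groth.Agent.H3RootD.natSpan_exists_finsupp P Δ _ hj
    have huniq : ci + cj = Finsupp.single k 1 := by
      refine Groth.Agent.H3RootD.coeff_unique P Δ hΔ.linInd _ _ (Submodule.add_mem _ hci hcj)
        (Finsupp.single_mem_supported ℤ 1 hkΔ) ?_
      rw [map_add, hsumi, hsumj, ← hij]
      simp
    have hval : ∀ d, ci d + cj d = if k = d then 1 else 0 := by
      intro d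
      have := DFunLike.congr_fun huniq d
      rwa [Finsupp.add_apply, Finsupp.single_apply] at this
    have hz : ci = 0 ∨ cj = 0 := by
      have hk1 := hval k
      rw [if_pos rfl] at hk1
      have h0i := hposi k
      have h0j := hposj k
      have hcase : ci k = 0 ∨ cj k = 0 := by omega
      rcases hcase with h | h
      · left
        ext d
        by_cases hd : k = d
        · subst hd; simpa using h
        · have := hval d
          rw [if_neg hd] at this
          have := hposi d
          have := hposj d
          simp only [Finsupp.coe_zero, Pi.zero_apply]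
          omega
      · right
        ext d
        by_cases hd : k = d
        · subst hd; simpa using h
        · have := hval d
          rw [if_neg hd] at this
          have := hposi d
          have := hposj d
          simp only [Finsupp.coe_zero, Pi.zero_apply]
          omega
    rcases hz with h | h
    · rw [h, map_zero] at hsumi
      exact P.ne_zero i hsumi.symm
    · rw [h, map_zero] at hsumj
      exact P.ne_zero j hsumj.symm
  · intro hno
    by_contra hkΔ
    obtain ⟨l, hl, k', -, hk', hk'pos⟩ := Groth.Agent.H3RootD.pos_nonsimple_decomp P Δ k hk hkΔ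
    refine hno ⟨k', l, hk'pos, AddSubmonoid.subset_closure ⟨l, hl, rfl⟩, ?_⟩
    rw [hk']; simp

end Groth.Agent.S5450
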