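import Groth.Statements.S5495
import Mathlib
import Groth.Agent.Lib.helper3.RootD

set_option autoImplicit false
open RootD

namespace Groth.Agent.S5495

/-- If α is an indivisible root and kα is a root for a rational k, then k is an integer. -/
theorem result {ι M N : Type*} [AddCommGroup M] [AddCommGroup N]
    (P : RootPairing ι ℤ M N) [Finite ι] (i j : ι) (hind : RootD.IsIndiv P i) (a b : ℤ) (hb : b ≠ 0)
    (h : b • P.root j = a • P.root i) : b ∣ a := by
  have : IsAddTorsionFree M := Groth.Agent.H3RootD.tfM P
  have h1 : b * 2 = a * P.pairing i j := by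
    have := congrArg (fun x => P.toLinearMap x (P.coroot j)) h
    simpa [P.root_coroot_eq_pairing] using this
  have h2 : b * P.pairing j i = a * 2 := by
    have := congrArg (fun x => P.toLinearMap x (P.coroot i)) h
    simpa [P.root_coroot_eq_pairing] using this
  set p := P.pairing i j with hp
  set q := P.pairing j i with hq
  have hpq : p * q = 4 := by
    have : b * (p * q - 4) = 0 := by linear_combination p * h2 - 2 * h1
    rcases mul_eq_zero.mp this with h0 | h0
    · exact absurd h0 hb
    · linarith
  have ha : a ≠ 0 := by
    rintro rfl
    simp at h1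
    exact hb h1
  have hdvd : p ∣ 4 := ⟨q, hpq.symm⟩
  have hle : p ≤ 4 := Int.le_of_dvd (by norm_num) hdvd
  have hge : -4 ≤ p := by
    have : -p ∣ 4 := (neg_dvd).mpr hdvd
    have := Int.le_of_dvd (by norm_num) this
    linarith
  have key : ∀ (c : ℤ), b = c * a → c • P.root j = P.root i := by
    intro c hc
    rw [hc, mul_comm, mul_smul] at h
    exact smul_right_injective M ha h
  interval_cases p
  · -- p = -4
    exfalso
    have hb' : b = (-2) * a := by linarith
    have := key _ hb'
    refine hind (P.reflectionPerm j j) ?_
    rw [P.root_reflectionPerm, P.reflection_apply_self, ← this]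
    simp
  · omega
  · exact ⟨-1, by linarith⟩
  · exact ⟨-2, by linarith⟩
  · omega
  · exact ⟨2, by linarith⟩
  · exact ⟨1, by linarith⟩
  · omega
  · exfalso
    have hb' : b = 2 * a := by linarith
    exact hind j (key _ hb')

end Groth.Agent.S5495
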