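import Groth.Statements.S5456
import Mathlib
import Groth.Agent.Lib.helper3.RootD

set_option autoImplicit false
open RootD

namespace Groth.Agent.S5456

/-- A set of roots is a system of positive roots if and only if it satisfies (P 1), (P 2) and is closed. -/
theorem result {ι M N : Type*} [AddCommGroup M] [AddCommGroup N]
    (P : RootPairing ι ℤ M N) [Finite ι] (S : Set ι) :
    RootD.IsPosSys P S ↔ ((∀ i ∈ S, P.reflectionPerm i i ∉ S) ∧ (∀ i : ι, i ∈ S ∨ P.reflectionPerm i i ∈ S) ∧
      RootD.IsClosedSub P S) := by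
  constructor
  · intro h
    refine ⟨fun i hi => h.disjoint hi, h.cover, fun i j k hi hj hk => ?_⟩
    refine h.sat 1 one_pos ?_
    rw [one_smul, hk]
    exact add_mem (AddSubmonoid.subset_closure ⟨i, hi, rfl⟩)
      (AddSubmonoid.subset_closure ⟨j, hj, rfl⟩)
  · rintro ⟨h1, h2, h3⟩
    refine ⟨fun i hi => h1 i hi, h2, fun k n hn hk => ?_⟩
    rcases h2 k with hkS | hkS
    · exact hkS
    obtain ⟨s, hs, hsum⟩ := Groth.Agent.H3RootD.natSpan_exists_multiset P S _ hk
    refine Groth.Agent.H3RootD.closed_multiset_sum_mem P S h3 _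
      (s + Multiset.replicate (n - 1) (P.reflectionPerm k k)) rfl ?_ k ?_
    · intro a ha
      rcases Multiset.mem_add.mp ha with h | h
      · exact hs a h
      · rw [Multiset.eq_of_mem_replicate h]; exact hkS
    · rw [Multiset.map_add, Multiset.sum_add, hsum, Multiset.map_replicate, Multiset.sum_replicate,
        Groth.Agent.H3RootD.neg_root]
      obtain ⟨m, rfl⟩ : ∃ m, n = m + 1 := ⟨n - 1, by omega⟩
      simp [add_smul]

end Groth.Agent.S5456
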