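import Groth.Statements.S0501
import Mathlib

set_option autoImplicit false
universe u
open Hensel

namespace Groth.Agent.S0501

/-- Let `S` be a henselian local ring over a ring `R`, let `A` be an étale `R`-algebra with a prime `q`,
and let `τ` be a ring map from the residue field of `q` to the residue field of `S` compatible with
the two structure maps from `R`. Then there is exactly one `R`-algebra map from `A` to `S` pulling
the maximal ideal back to `q` and inducing `τ`. -/
theorem result (R : Type u) [CommRing R]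
    (S : Type u) [CommRing S] [HenselianLocalRing S] [Algebra R S]
    (A : Type u) [CommRing A] [Algebra R A] [Algebra.Etale R A] (q : Ideal A) [q.IsPrime]
    (τ : q.ResidueField →+* IsLocalRing.ResidueField S)
    (hτ : τ.comp (algebraMap R q.ResidueField) = (IsLocalRing.residue S).comp (algebraMap R S)) :
    ∃! f : A →ₐ[R] S, Ideal.comap f.toRingHom (IsLocalRing.maximalIdeal S) = q ∧
      ∀ a : A, IsLocalRing.residue S (f a) = τ (algebraMap A q.ResidueField a) := by
  classical
  haveI : Algebra.FormallyEtale A (Localization.AtPrime q) :=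
    Algebra.FormallyEtale.of_isLocalization q.primeCompl
  haveI : Algebra.IsEtaleAt R q :=
    Algebra.FormallyEtale.comp R A (Localization.AtPrime q)
  obtain ⟨g, hgq, hstd⟩ := Algebra.IsEtaleAt.exists_isStandardEtale (R := R) q
  let 𝓟 : StandardEtalePresentation R (Localization.Away g) :=
    hstd.nonempty_standardEtalePresentation.some
  -- the map ψ : A_g → κ(q)
  have hgu : IsUnit (algebraMap A q.ResidueField g) := by
    rw [isUnit_iff_ne_zero, Ne, Ideal.algebraMap_residueField_eq_zero]
    exact hgq
  let ψ : Localization.Away g →+* q.ResidueField := IsLocalization.Away.lift g hgu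
  have hψ : ∀ a : A, ψ (algebraMap A (Localization.Away g) a) = algebraMap A q.ResidueField a :=
    fun a => IsLocalization.Away.lift_eq g hgu a
  -- Θ : A_g →ₐ[R] κ(S)
  let Θ : Localization.Away g →ₐ[R] IsLocalRing.ResidueField S :=
    { (τ.comp ψ) with
      commutes' := fun r => by
        show τ (ψ (algebraMap R (Localization.Away g) r)) = _
        rw [IsScalarTower.algebraMap_apply R A (Localization.Away g), hψ,
          ← IsScalarTower.algebraMap_apply R A q.ResidueField]
        have := RingHom.congr_fun hτ r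
        simp only [RingHom.comp_apply] at this
        rw [this]
        rfl }
  have hΘ : ∀ y, Θ y = τ (ψ y) := fun y => rfl
  let x₀ : IsLocalRing.ResidueField S := Θ 𝓟.x
  have hmap₀ : 𝓟.HasMap x₀ := 𝓟.hasMap.map Θ
  -- Hensel
  have hHens := ((HenselianLocalRing.TFAE S).out 0 1).mp ‹HenselianLocalRing S›
  have hmonic : (𝓟.f.map (algebraMap R S)).Monic := 𝓟.monic_f.map _
  have hroot₀ : Polynomial.aeval x₀ (𝓟.f.map (algebraMap R S)) = 0 := by
    rw [Polynomial.aeval_map_algebraMap]
    exact hmap₀.1
  have hder₀ : Polynomial.aeval x₀ (Polynomial.derivative (𝓟.f.map (algebraMap R S))) ≠ 0 := by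
    rw [Polynomial.derivative_map, Polynomial.aeval_map_algebraMap]
    exact (hmap₀.isUnit_derivative_f).ne_zero
  obtain ⟨a, ha1, ha2⟩ := hHens _ hmonic x₀ hroot₀ hder₀
  let resₐ : S →ₐ[R] IsLocalRing.ResidueField S := IsScalarTower.toAlgHom R S _
  have hresₐ : ∀ s : S, resₐ s = IsLocalRing.residue S s := fun s => rfl
  have hres : ∀ (b : S) (p : Polynomial R),
      IsLocalRing.residue S (Polynomial.aeval b p) = Polynomial.aeval (IsLocalRing.residue S b) p := by
    intro b p
    rw [← hresₐ, ← hresₐ, Polynomial.aeval_algHom_apply]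
  have hmapa : 𝓟.HasMap a := by
    constructor
    · rw [← Polynomial.eval_map_algebraMap]
      exact ha1
    · have h1 : IsUnit (IsLocalRing.residue S (Polynomial.aeval a 𝓟.g)) := by
        rw [hres, ha2]
        exact hmap₀.2
      exact isUnit_of_map_unit (IsLocalRing.residue S) _ h1
  let φa : Localization.Away g →ₐ[R] S := (𝓟.lift a hmapa).comp 𝓟.equivRing.toAlgHom
  have hφax : φa 𝓟.x = a := by
    simp [φa]
  let F : A →ₐ[R] S := φa.comp (IsScalarTower.toAlgHom R A (Localization.Away g))
  have hkey : resₐ.comp φa = Θ := by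
    apply 𝓟.hom_ext
    rw [AlgHom.comp_apply, hφax, hresₐ, ha2]
  have hFb : ∀ a' : A, IsLocalRing.residue S (F a') = τ (algebraMap A q.ResidueField a') := by
    intro a'
    have h1 : IsLocalRing.residue S (F a') =
        (resₐ.comp φa) (algebraMap A (Localization.Away g) a') := rfl
    rw [h1, hkey, hΘ, hψ]
  have hcomap : ∀ (F' : A →ₐ[R] S),
      (∀ a' : A, IsLocalRing.residue S (F' a') = τ (algebraMap A q.ResidueField a')) →
      Ideal.comap F'.toRingHom (IsLocalRing.maximalIdeal S) = q := by
    intro F' hF'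
    ext a'
    rw [Ideal.mem_comap]
    show F' a' ∈ IsLocalRing.maximalIdeal S ↔ _
    rw [← IsLocalRing.residue_eq_zero_iff, hF', map_eq_zero_iff τ τ.injective,
      Ideal.algebraMap_residueField_eq_zero]
  refine ⟨F, ⟨hcomap F hFb, hFb⟩, ?_⟩
  rintro F' ⟨h1', h2'⟩
  have hF'g : IsUnit (F' g) := by
    by_contra hnu
    have : g ∈ Ideal.comap F'.toRingHom (IsLocalRing.maximalIdeal S) := by
      rw [Ideal.mem_comap]
      exact (IsLocalRing.mem_maximalIdeal _).mpr hnu
    rw [h1'] at this
    exact hgq this
  have hF'pow : ∀ y : Submonoid.powers g, IsUnit (F' y) := by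
    rintro ⟨_, n, rfl⟩
    rw [map_pow]
    exact hF'g.pow n
  let φ' : Localization.Away g →ₐ[R] S := IsLocalization.liftAlgHom (M := Submonoid.powers g) hF'pow
  have hφ' : ∀ a' : A, φ' (algebraMap A (Localization.Away g) a') = F' a' := by
    intro a'
    exact IsLocalization.lift_eq _ a'
  have hkey' : (resₐ.comp φ' : Localization.Away g →+* IsLocalRing.ResidueField S) = Θ := by
    apply IsLocalization.ringHom_ext (Submonoid.powers g)
    ext a'
    simp only [RingHom.comp_apply, AlgHom.comp_apply, RingHom.coe_coe]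
    rw [hφ', hresₐ, h2', hΘ, hψ]
  have hresb : IsLocalRing.residue S (φ' 𝓟.x) = x₀ := by
    have := RingHom.congr_fun hkey' 𝓟.x
    exact this
  have hmapb : 𝓟.HasMap (φ' 𝓟.x) := 𝓟.hasMap.map φ'
  have hba : φ' 𝓟.x = a := by
    have hb0 : (𝓟.f.map (algebraMap R S)).eval (φ' 𝓟.x) = 0 := by
      rw [Polynomial.eval_map_algebraMap]
      exact hmapb.1
    have ha0 : (𝓟.f.map (algebraMap R S)).eval a = 0 := ha1
    have hmem : φ' 𝓟.x - a ∈ IsLocalRing.maximalIdeal S := by
      rw [← IsLocalRing.residue_eq_zero_iff, map_sub, hresb, ha2, sub_self]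
    obtain ⟨k, hk⟩ := Polynomial.binomExpansion (𝓟.f.map (algebraMap R S)) a (φ' 𝓟.x - a)
    rw [add_sub_cancel, hb0, ha0, zero_add] at hk
    have hu : IsUnit ((Polynomial.derivative (𝓟.f.map (algebraMap R S))).eval a +
        k * (φ' 𝓟.x - a)) := by
      have hu1 : IsUnit ((Polynomial.derivative (𝓟.f.map (algebraMap R S))).eval a) := by
        rw [Polynomial.derivative_map, Polynomial.eval_map_algebraMap]
        exact hmapa.isUnit_derivative_f
      by_contra hnu
      have h3 := (IsLocalRing.mem_maximalIdeal _).mpr hnu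
      have h4 : (Polynomial.derivative (𝓟.f.map (algebraMap R S))).eval a ∈
          IsLocalRing.maximalIdeal S := by
        have := Ideal.sub_mem _ h3 (Ideal.mul_mem_left _ k hmem)
        simpa using this
      exact (IsLocalRing.mem_maximalIdeal _).mp h4 hu1
    have h5 : ((Polynomial.derivative (𝓟.f.map (algebraMap R S))).eval a +
        k * (φ' 𝓟.x - a)) * (φ' 𝓟.x - a) = 0 := by
      linear_combination (-1 : S) * hk
    have h6 := (hu.mul_right_eq_zero).mp h5
    exact sub_eq_zero.mp h6
  have hφeq : φ' = φa := by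
    apply 𝓟.hom_ext
    rw [hba, hφax]
  apply AlgHom.ext
  intro a'
  rw [← hφ', hφeq]
  rfl

end Groth.Agent.S0501
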