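import Groth.Statements.S0505
import Mathlib
import Groth.Agent.Lib.helper4.HenselLocalFactor

set_option autoImplicit false
universe u
open Hensel

namespace Groth.Agent.S0505

/-- A local ring which is finitely generated as a module over a henselian local ring is itself
henselian. -/
theorem result (R : Type u) [CommRing R] [HenselianLocalRing R]
    (S : Type u) [CommRing S] [IsLocalRing S] [Algebra R S] [Module.Finite R S] :
    HenselianLocalRing S := by
  classical
  refine { ‹IsLocalRing S› with is_henselian := ?_ }
  intro f hfm a₀ h₁ h₂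
  haveI : Module.Finite S (AdjoinRoot f) := hfm.finite_adjoinRoot
  haveI : Module.Finite R (AdjoinRoot f) := Module.Finite.trans S (AdjoinRoot f)
  obtain ⟨ι, hι, A, hA, hloc, ⟨Φ⟩⟩ := Groth.Agent.H4.H4_finite_henselian_pi R (AdjoinRoot f)
  exact Groth.Agent.H4.H4_root_of_pi_local f hfm Φ a₀ h₁ h₂

end Groth.Agent.S0505
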