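import Groth.Statements.S0498
import Mathlib

set_option autoImplicit false
universe u
open Hensel

namespace Groth.Agent.S0498

/-- Over a henselian local ring, a simple root in the residue field of the reduction of an arbitrary
polynomial (monic or not) lifts to a root in the ring. -/
theorem result (R : Type u) [CommRing R] [HenselianLocalRing R]
    (f : Polynomial R) (a₀ : IsLocalRing.ResidueField R)
    (h₁ : Polynomial.eval₂ (IsLocalRing.residue R) a₀ f = 0)
    (h₂ : Polynomial.eval₂ (IsLocalRing.residue R) a₀ (Polynomial.derivative f) ≠ 0) :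
    ∃ a : R, Polynomial.IsRoot f a ∧ IsLocalRing.residue R a = a₀ := by
  classical
  obtain ⟨α, rfl⟩ := IsLocalRing.residue_surjective a₀
  have hresev : ∀ (p : Polynomial R), Polynomial.eval₂ (IsLocalRing.residue R) (IsLocalRing.residue R α) p =
      IsLocalRing.residue R (p.eval α) := fun p => Polynomial.eval₂_hom _ _
  rw [hresev] at h₁ h₂
  set c : R := f.eval α with hc
  set u : R := (Polynomial.derivative f).eval α with hu
  have hcm : c ∈ IsLocalRing.maximalIdeal R := (IsLocalRing.residue_eq_zero_iff _).mp h₁
  have huu : IsUnit u := by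
    by_contra hnu
    exact h₂ ((IsLocalRing.residue_eq_zero_iff _).mpr ((IsLocalRing.mem_maximalIdeal _).mpr hnu))
  -- polynomial Taylor expansion
  obtain ⟨K, hK⟩ := Polynomial.binomExpansion (f.map (Polynomial.C : R →+* Polynomial R))
    (Polynomial.C α) (Polynomial.C c * Polynomial.X)
  have hexp : ∀ z : R, f.eval (α + c * z) = c + u * (c * z) + K.eval z * (c * z) ^ 2 := by
    intro z
    have h3 := congrArg (Polynomial.eval z) hK
    have key : ∀ (p q : Polynomial R), Polynomial.eval z ((p.map (Polynomial.C : R →+* Polynomial R)).eval q) =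
        p.eval (q.eval z) := by
      intro p q
      rw [Polynomial.eval_map, ← Polynomial.coe_evalRingHom, Polynomial.hom_eval₂]
      have : (Polynomial.evalRingHom z).comp (Polynomial.C : R →+* Polynomial R) = RingHom.id R := by
        ext r; simp
      rw [this, Polynomial.eval₂_id]
    simp only [Polynomial.derivative_map, Polynomial.eval_add, Polynomial.eval_mul,
      Polynomial.eval_pow, key, Polynomial.eval_C, Polynomial.eval_X] at h3
    exact h3
  set M := K.natDegree with hM
  set L := K.reflect M with hL
  have hLdeg : L.natDegree ≤ M := by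
    have := Polynomial.natDegree_reflect_le (N := M) (p := K)
    rw [max_self] at this
    exact this
  have hKL : ∀ w v : R, w * v = 1 → K.eval v = L.eval w * v ^ M := by
    intro w v hwv
    letI : Invertible v := ⟨w, hwv, by rw [mul_comm]; exact hwv⟩
    have := Polynomial.eval₂_reflect_mul_pow (RingHom.id R) v M K le_rfl
    rw [Polynomial.eval₂_id, Polynomial.eval₂_id] at this
    exact this.symm
  -- the monic polynomial H
  let H : Polynomial R := Polynomial.X ^ (M + 2) +
    (Polynomial.C u * Polynomial.X ^ (M + 1) + Polynomial.C c * L)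
  have hHm : H.Monic := by
    apply Polynomial.monic_X_pow_add
    refine lt_of_le_of_lt (Polynomial.degree_add_le _ _) ?_
    rw [max_lt_iff]
    constructor
    · refine lt_of_le_of_lt (Polynomial.degree_C_mul_X_pow_le _ _) ?_
      exact_mod_cast (by omega : M + 1 < M + 2)
    · refine lt_of_le_of_lt (Polynomial.degree_le_of_natDegree_le
        ((Polynomial.natDegree_C_mul_le _ _).trans hLdeg)) ?_
      exact_mod_cast (by omega : M < M + 2)
  have hHev : ∀ w : R, H.eval w = w ^ (M + 2) + (u * w ^ (M + 1) + c * L.eval w) := by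
    intro w
    simp [H]
  have hH0 : H.eval (-u) ∈ IsLocalRing.maximalIdeal R := by
    rw [hHev]
    have : (-u) ^ (M + 2) + (u * (-u) ^ (M + 1) + c * L.eval (-u)) = c * L.eval (-u) := by ring
    rw [this]
    exact Ideal.mul_mem_right _ _ hcm
  have hHder : IsUnit ((Polynomial.derivative H).eval (-u)) := by
    have h4 : (Polynomial.derivative H).eval (-u) =
        (-u) ^ (M + 1) + c * (Polynomial.derivative L).eval (-u) := by
      simp only [H, Polynomial.derivative_add, Polynomial.derivative_X_pow, Polynomial.derivative_mul,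
        Polynomial.derivative_C, zero_mul, zero_add, Polynomial.eval_add, Polynomial.eval_mul,
        Polynomial.eval_C, Polynomial.eval_pow, Polynomial.eval_X, Polynomial.eval_natCast,
        Nat.add_sub_cancel]
      push_cast
      ring
    rw [h4]
    have hu1 : IsUnit ((-u) ^ (M + 1)) := (huu.neg).pow _
    by_contra hnu
    have h5 := (IsLocalRing.mem_maximalIdeal _).mpr hnu
    have h6 : c * (Polynomial.derivative L).eval (-u) ∈ IsLocalRing.maximalIdeal R :=
      Ideal.mul_mem_right _ _ hcm
    have h7 := Ideal.sub_mem _ h5 h6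
    rw [add_sub_cancel_right] at h7
    exact (IsLocalRing.mem_maximalIdeal _).mp h7 hu1
  obtain ⟨w, hw0, hwm⟩ := HenselianLocalRing.is_henselian H hHm (-u) hH0 hHder
  have hwu : IsUnit w := by
    by_contra hnu
    have h8 := (IsLocalRing.mem_maximalIdeal _).mpr hnu
    have h9 := Ideal.sub_mem _ h8 hwm
    have : w - (w - -u) = -u := by ring
    rw [this] at h9
    exact (IsLocalRing.mem_maximalIdeal _).mp h9 huu.neg
  obtain ⟨v, hwv⟩ := hwu.exists_right_inv
  refine ⟨α + c * v, ?_, ?_⟩
  · rw [Polynomial.IsRoot, hexp, hKL w v hwv]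
    have hHw : w ^ (M + 2) + (u * w ^ (M + 1) + c * L.eval w) = 0 := by
      rw [← hHev]; exact hw0
    have hvw : v * w = 1 := by rw [mul_comm]; exact hwv
    have h10 : c + u * (c * v) + L.eval w * v ^ M * (c * v) ^ 2 =
        c * v ^ (M + 2) * ((v * w) ^ (M + 2) * 0 + (w ^ (M + 2) + (u * w ^ (M + 1) + c * L.eval w))) +
        c * (1 - (v * w) ^ (M + 2)) + u * c * v * (1 - (v * w) ^ (M + 1)) := by
      ring
    rw [h10, hHw, hvw]
    simp
  · rw [map_add, map_mul, (IsLocalRing.residue_eq_zero_iff c).mpr hcm, zero_mul, add_zero]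

end Groth.Agent.S0498
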