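import Groth.Statements.S13598
import Mathlib
import Groth.Agent.Lib.helper4.HenselValuation

set_option autoImplicit false
universe u
open Hensel

namespace Groth.Agent.S13598

/-- For a local ring A, a henselization A ⟶ S of A (S a henselian local ring, the structure map local,
and initial among local homomorphisms from A to henselian local rings) and an ideal I of A inside
the maximal ideal, the quotient S/IS with its induced algebra structure over A/I is a henselization
of A/I. (The local-ring and local-homomorphism instances on the quotients hold automatically; they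
are taken as hypotheses only so that the conclusion can be stated.) -/
theorem result {A S : Type u} [CommRing A] [IsLocalRing A] [CommRing S]
    [IsLocalRing S] [Algebra A S] [IsLocalHom (algebraMap A S)] [Hensel.IsHenselization A S]
    (I : Ideal A) (hI : I ≤ IsLocalRing.maximalIdeal A)
    [IsLocalRing (A ⧸ I)] [IsLocalRing (S ⧸ I.map (algebraMap A S))]
    [IsLocalHom (algebraMap (A ⧸ I) (S ⧸ I.map (algebraMap A S)))] :
    Hensel.IsHenselization (A ⧸ I) (S ⧸ I.map (algebraMap A S)) := by
  classical
  have hS := ‹Hensel.IsHenselization A S›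
  haveI : HenselianLocalRing S := hS.henselian
  have hIS : I.map (algebraMap A S) ≠ ⊤ := by
    intro h
    have : Nontrivial (S ⧸ I.map (algebraMap A S)) := inferInstance
    exact (Ideal.Quotient.nontrivial_iff.mp this) h
  refine ⟨Groth.Agent.H4.H4_henselian_quotient _ hIS, ?_⟩
  intro T _ _ f hf
  have hjac : I ≤ Ideal.jacobson ⊥ := by
    rw [IsLocalRing.jacobson_eq_maximalIdeal ⊥ bot_ne_top]
    exact hI
  haveI : IsLocalHom (Ideal.Quotient.mk I) := isLocalHom_of_le_jacobson_bot I hjac
  haveI := hf
  let f' : A →+* T := f.comp (Ideal.Quotient.mk I)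
  have hf' : IsLocalHom f' := RingHom.isLocalHom_comp f (Ideal.Quotient.mk I)
  obtain ⟨g, hg, hguniq⟩ := hS.universal T f' hf'
  have hgalg : ∀ a, g (algebraMap A S a) = f (Ideal.Quotient.mk I a) := fun a =>
    RingHom.congr_fun hg a
  have hker : ∀ x ∈ I.map (algebraMap A S), g x = 0 := by
    intro x hx
    have hle : I.map (algebraMap A S) ≤ RingHom.ker g := by
      rw [Ideal.map_le_iff_le_comap]
      intro a ha
      rw [Ideal.mem_comap, RingHom.mem_ker, hgalg, Ideal.Quotient.eq_zero_iff_mem.mpr ha, map_zero]
    exact RingHom.mem_ker.mp (hle hx)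
  refine ⟨Ideal.Quotient.lift _ g hker, ?_, ?_⟩
  · apply Ideal.Quotient.ringHom_ext
    ext a
    simp only [RingHom.comp_apply]
    have : algebraMap (A ⧸ I) (S ⧸ I.map (algebraMap A S)) (Ideal.Quotient.mk I a) =
        Ideal.Quotient.mk _ (algebraMap A S a) := rfl
    rw [this, Ideal.Quotient.lift_mk, hgalg]
  · intro h hh
    apply Ideal.Quotient.ringHom_ext
    have h1 : (h.comp (Ideal.Quotient.mk _)).comp (algebraMap A S) = f' := by
      ext a
      simp only [RingHom.comp_apply, f']
      have : Ideal.Quotient.mk (I.map (algebraMap A S)) (algebraMap A S a) =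
          algebraMap (A ⧸ I) (S ⧸ I.map (algebraMap A S)) (Ideal.Quotient.mk I a) := rfl
      rw [this]
      exact RingHom.congr_fun hh (Ideal.Quotient.mk I a)
    have h2 := hguniq _ h1
    rw [h2]
    ext x
    simp

end Groth.Agent.S13598
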