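import Groth.Statements.S0508
import Mathlib
import Groth.Agent.Lib.helper4.HenselizationBasic

set_option autoImplicit false
universe u
open Hensel

namespace Groth.Agent.S0508

/-- The henselization of a local ring induces an isomorphism on residue fields. -/
theorem result (R : Type u) [CommRing R] [IsLocalRing R] (S : Type u) [CommRing S] [IsLocalRing S]
    [Algebra R S] [IsLocalHom (algebraMap R S)] [Hensel.IsHenselization R S] :
    Function.Bijective (IsLocalRing.ResidueField.map (algebraMap R S)) := by
  obtain ⟨hmax, hbij⟩ := Groth.Agent.H4.H4_henselization_map_maximalIdeal (R := R) (S := S)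
  refine ⟨RingHom.injective _, ?_⟩
  intro y
  obtain ⟨s, rfl⟩ := IsLocalRing.residue_surjective y
  obtain ⟨x, hx⟩ := hbij.2 (Ideal.Quotient.mk _ s)
  obtain ⟨r, rfl⟩ := Ideal.Quotient.mk_surjective x
  refine ⟨IsLocalRing.residue R r, ?_⟩
  rw [IsLocalRing.ResidueField.map_residue]
  have h1 : algebraMap (R ⧸ IsLocalRing.maximalIdeal R)
      (S ⧸ (IsLocalRing.maximalIdeal R).map (algebraMap R S)) (Ideal.Quotient.mk _ r) =
      Ideal.Quotient.mk _ (algebraMap R S r) := rfl
  rw [h1, Ideal.Quotient.eq, hmax] at hx
  rw [← sub_eq_zero, ← map_sub, IsLocalRing.residue_eq_zero_iff]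
  exact hx

end Groth.Agent.S0508
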