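import Groth.Statements.S9392
import Mathlib
import Groth.Agent.Lib.helper4.N1Loc

set_option autoImplicit false
universe u
open CAlg

namespace Groth.Agent.S9392

/-- A localization of an N-2 (Japanese) domain which is again a domain is N-2. -/
theorem result (R : Type u) [CommRing R] [IsDomain R] (M : Submonoid R)
    (S : Type u) [CommRing S] [IsDomain S] [Algebra R S] [IsLocalization M S]
    (h : CAlg.IsN2 R) : CAlg.IsN2 S := by
  classical
  unfold CAlg.IsN2 at h ⊢
  intro L _ _ _ _ hfd
  have hM0 : ∀ m : M, (m : R) ≠ 0 := by
    intro m hm
    have h1 := IsLocalization.map_units S m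
    rw [hm, map_zero] at h1
    exact not_isUnit_zero h1
  let g : S →+* FractionRing R := IsLocalization.lift (M := M) (g := algebraMap R (FractionRing R))
    (fun y => IsUnit.mk0 _ (by
      rw [Ne, FaithfulSMul.algebraMap_eq_zero_iff]
      exact hM0 y))
  letI algSFR : Algebra S (FractionRing R) := g.toAlgebra
  haveI : IsScalarTower R S (FractionRing R) :=
    IsScalarTower.of_algebraMap_eq (fun r => (IsLocalization.lift_eq _ r).symm)
  haveI : IsFractionRing S (FractionRing R) :=
    IsFractionRing.isFractionRing_of_isDomain_of_isLocalization M S (FractionRing R)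
  let e : FractionRing S ≃ₐ[S] FractionRing R := FractionRing.algEquiv S (FractionRing R)
  letI algRL : Algebra R L := ((algebraMap S L).comp (algebraMap R S)).toAlgebra
  haveI : IsScalarTower R S L := IsScalarTower.of_algebraMap_eq (fun _ => rfl)
  letI algFRL : Algebra (FractionRing R) L :=
    ((algebraMap (FractionRing S) L).comp (e.symm : FractionRing R →+* FractionRing S)).toAlgebra
  haveI : IsScalarTower R (FractionRing R) L := by
    refine IsScalarTower.of_algebraMap_eq (fun r => ?_)
    show algebraMap S L (algebraMap R S r) =
      algebraMap (FractionRing S) L (e.symm (algebraMap R (FractionRing R) r))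
    rw [IsScalarTower.algebraMap_apply R S (FractionRing R), AlgEquiv.commutes,
      ← IsScalarTower.algebraMap_apply S (FractionRing S) L]
  letI algFSFR : Algebra (FractionRing S) (FractionRing R) :=
    (e : FractionRing S →+* FractionRing R).toAlgebra
  haveI : IsScalarTower (FractionRing S) (FractionRing R) L := by
    refine IsScalarTower.of_algebraMap_eq (fun c => ?_)
    show algebraMap (FractionRing S) L c = algebraMap (FractionRing S) L (e.symm (e c))
    rw [e.symm_apply_apply]
  haveI : Module.Finite (FractionRing S) L := hfd
  have hfd' : FiniteDimensional (FractionRing R) L :=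
    Module.Finite.of_restrictScalars_finite (FractionRing S) (FractionRing R) L
  have h2 : Module.Finite R (integralClosure R L) := h L hfd'
  exact Groth.Agent.H4.H4_intClosure_loc_finite M h2

end Groth.Agent.S9392
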