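import Groth.Statements.S0189
import Mathlib
import Groth.Agent.Lib.helper4.Centralizer

set_option autoImplicit false
universe u v w
open scoped TensorProduct
open Curves

namespace Groth.Agent.S0189

/-- Double centralizer: a simple subalgebra of a finite central simple algebra is the centralizer of its
centralizer. -/
theorem result (k : Type u) [Field k] (A : Type v) [Ring A] [Algebra k A]
    [Algebra.IsCentral k A] [IsSimpleRing A] [FiniteDimensional k A]
    (B : Subalgebra k A) [IsSimpleRing B] :
    Subalgebra.centralizer k (Subalgebra.centralizer k (B : Set A) : Set A) = B := by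
  classical
  set C := Subalgebra.centralizer k (B : Set A) with hC
  obtain ⟨hCs, hdim1⟩ := Groth.Agent.H4.H4_centralizer_main k A B
  haveI : IsSimpleRing ↥C := hCs
  obtain ⟨_, hdim2⟩ := Groth.Agent.H4.H4_centralizer_main k A C
  have hle : B ≤ Subalgebra.centralizer k (C : Set A) := by
    intro b hb
    rw [Subalgebra.mem_centralizer_iff]
    intro c hc
    exact (hc b hb).symm
  have hCpos : 0 < Module.finrank k ↥C := by
    haveI : Nontrivial ↥C := inferInstance
    exact Module.finrank_pos
  have hfin : Module.finrank k ↥B = Module.finrank k ↥(Subalgebra.centralizer k (C : Set A)) := by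
    rw [hdim1] at hdim2
    have : Module.finrank k ↥C * Module.finrank k ↥B =
        Module.finrank k ↥C * Module.finrank k ↥(Subalgebra.centralizer k (C : Set A)) := by
      rw [← hdim2]; ring
    exact Nat.eq_of_mul_eq_mul_left hCpos this
  symm
  apply Subalgebra.toSubmodule_injective
  exact Submodule.eq_of_le_of_finrank_eq (by exact hle) hfin

end Groth.Agent.S0189
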