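import Groth.Statements.S1489
import Groth.Agent.Lib.helper1.FEtHom3

set_option autoImplicit false
universe u
open FlatMor

namespace Groth.Agent.S1489

open AlgebraicGeometry CategoryTheory Limits in
/-- A morphism f : X → S is étale if and only if it is locally of finite presentation and formally
étale, i.e. has the unique lifting property against first order thickenings of affine schemes (rings
in the same universe). -/
theorem result {X S : Scheme.{u}} (f : X ⟶ S) :
    Etale f ↔ LocallyOfFinitePresentation f ∧ MoreMor.IsFormallyEtaleHom f := by
  constructor
  · intro h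
    refine ⟨⟨fun {U} hU {V} hV e => ?_⟩, ?_⟩
    · have := h.etale_appLE hU hV e
      exact this.2
    · apply Groth.Agent.H1.H1_formallyEtaleHom_of_affFEt
      intro U V hU hV hUV
      have := h.etale_appLE hV hU hUV
      exact this.1
  · rintro ⟨h1, h2⟩
    refine ⟨fun {U} hU {V} hV e => ?_⟩
    exact @Algebra.Etale.mk _ _ _ _ (_) (Groth.Agent.H1.H1_formallyEtale_of_hom f h2 hV hU e)
      (h1.finitePresentation_appLE hU hV e)

end Groth.Agent.S1489
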