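import Groth.Statements.S6360
import Groth.Statements.S6360
import Mathlib
open scoped TensorProduct

set_option autoImplicit false
universe u
open CAlg

namespace Groth.Agent.S6360

/-- For maps of R-modules f : M → N and g : M → M', g dominates f (the kernel of f ⊗ id_Q is contained
in that of g ⊗ id_Q for every module Q) if and only if this containment holds for every finitely
presented module Q. -/
theorem result (R : Type u) [CommRing R] {M N M' : Type u}
    [AddCommGroup M] [Module R M] [AddCommGroup N] [Module R N] [AddCommGroup M'] [Module R M']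
    (f : M →ₗ[R] N) (g : M →ₗ[R] M') :
    (∀ (Q : Type u) [AddCommGroup Q] [Module R Q], LinearMap.ker (f.rTensor Q) ≤ LinearMap.ker (g.rTensor Q)) ↔
      ∀ (Q : Type u) [AddCommGroup Q] [Module R Q], Module.FinitePresentation R Q →
        LinearMap.ker (f.rTensor Q) ≤ LinearMap.ker (g.rTensor Q) := by
  classical
  constructor
  · intro h Q _ _ _
    exact h Q
  · intro hfp Q _ _ x hx
    rw [LinearMap.mem_ker] at hx ⊢
    -- write x as a finite sum
    obtain ⟨s, m, q, rfl⟩ := TensorProduct.exists_sum_tmul_eq x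
    -- a finitely generated submodule of N in which the sum already vanishes
    let P₀ : Submodule R N := Submodule.span R (Set.range fun i => f (m i))
    have hP₀ : P₀.FG := Submodule.fg_span (Set.finite_range _)
    have hmem : ∀ i, f (m i) ∈ P₀ := fun i => Submodule.subset_span ⟨i, rfl⟩
    let t : P₀ ⊗[R] Q := ∑ i, (⟨f (m i), hmem i⟩ : P₀) ⊗ₜ[R] q i
    have ht : (LinearMap.rTensor Q P₀.subtype) t = 0 := by
      rw [← hx, map_sum, map_sum]
      rfl
    obtain ⟨N', hPN, hN'fg, hN'⟩ := TensorProduct.eq_zero_of_fg_of_subtype_eq_zero hP₀ ht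
    haveI : Module.Finite R N' := Module.Finite.iff_fg.mpr hN'fg
    obtain ⟨r, n', hn'⟩ := Module.Finite.exists_fin (R := R) (M := N')
    have hfN' : ∀ i, f (m i) ∈ N' := fun i => hPN (hmem i)
    let μ : Fin s ⊕ Fin r → N' := Sum.elim (fun i => ⟨f (m i), hfN' i⟩) n'
    let ν : Fin s ⊕ Fin r → Q := Sum.elim q (fun _ => 0)
    have hspan : Submodule.span R (Set.range μ) = ⊤ := by
      rw [eq_top_iff, ← hn']
      apply Submodule.span_mono
      rintro _ ⟨l, rfl⟩
      exact ⟨Sum.inr l, rfl⟩
    have hsum : ∑ i, μ i ⊗ₜ[R] ν i = (0 : N' ⊗[R] Q) := by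
      rw [Fintype.sum_sum_type]
      simp only [μ, ν, Sum.elim_inl, Sum.elim_inr, TensorProduct.tmul_zero, Finset.sum_const_zero,
        add_zero]
      rw [← hN', map_sum]
      rfl
    obtain ⟨k, a, y, h₁, h₂⟩ := TensorProduct.vanishesTrivially_of_sum_tmul_eq_zero R hspan hsum
    -- the finitely presented module Q'
    let ρ : Fin r → (Fin k → R) := fun l j => a (Sum.inr l) j
    let K : Submodule R (Fin k → R) := Submodule.span R (Set.range ρ)
    let lc : (Fin k → R) →ₗ[R] Q := Fintype.linearCombination R y
    have hlc : ∀ v : Fin k → R, lc v = ∑ j, v j • y j := fun v => Fintype.linearCombination_apply R y v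
    have hK : K ≤ LinearMap.ker lc := by
      rw [Submodule.span_le]
      rintro _ ⟨l, rfl⟩
      rw [SetLike.mem_coe, LinearMap.mem_ker, hlc]
      have := h₁ (Sum.inr l)
      simp only [ν, Sum.elim_inr] at this
      exact this.symm
    let π : ((Fin k → R) ⧸ K) →ₗ[R] Q := K.liftQ lc hK
    have hfpQ' : Module.FinitePresentation R ((Fin k → R) ⧸ K) := by
      refine Module.finitePresentation_of_surjective K.mkQ (Submodule.mkQ_surjective K) ?_
      rw [Submodule.ker_mkQ]
      exact Submodule.fg_span (Set.finite_range ρ)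
    -- the lift of x
    let w : Fin s ⊕ Fin r → (Fin k → R) ⧸ K := fun i => K.mkQ (fun j => a i j)
    let x' : M ⊗[R] ((Fin k → R) ⧸ K) := ∑ i, m i ⊗ₜ[R] w (Sum.inl i)
    have hπw : ∀ i, π (w i) = ν i := by
      intro i
      show lc (fun j => a i j) = ν i
      rw [hlc, h₁ i]
    have hx'x : (LinearMap.lTensor M π) x' = ∑ i, m i ⊗ₜ[R] q i := by
      simp only [x', map_sum, LinearMap.lTensor_tmul, hπw]
      rfl
    have hwinr : ∀ l, w (Sum.inr l) = 0 := by
      intro l
      show K.mkQ (ρ l) = 0
      simp only [Submodule.mkQ_apply, Submodule.Quotient.mk_eq_zero]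
      exact Submodule.subset_span ⟨l, rfl⟩
    have hfx' : (f.rTensor ((Fin k → R) ⧸ K)) x' = 0 := by
      let μN : Fin s ⊕ Fin r → N := fun i => (μ i : N)
      have hv : TensorProduct.VanishesTrivially R μN w := by
        refine ⟨k, a, fun j => K.mkQ (Pi.single j 1), fun i => ?_, fun j => ?_⟩
        · show K.mkQ (fun j => a i j) = _
          conv_lhs => rw [pi_eq_sum_univ' (fun j => a i j)]
          simp only [map_sum, map_smul]
        · have := congrArg (N'.subtype) (h₂ j)
          simpa [μN] using this
      have h0 := TensorProduct.sum_tmul_eq_zero_of_vanishesTrivially R hv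
      rw [Fintype.sum_sum_type] at h0
      simp only [hwinr, TensorProduct.tmul_zero, Finset.sum_const_zero, add_zero] at h0
      simp only [x', map_sum, LinearMap.rTensor_tmul]
      exact h0
    have hgx' : (g.rTensor ((Fin k → R) ⧸ K)) x' = 0 :=
      hfp _ hfpQ' (LinearMap.mem_ker.mpr hfx')
    rw [← hx'x, ← LinearMap.comp_apply, LinearMap.rTensor_comp_lTensor,
      ← LinearMap.lTensor_comp_rTensor, LinearMap.comp_apply, hgx', map_zero]

end Groth.Agent.S6360
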