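import Groth.Statements.S6302
import Groth.Statements.S6302
import Mathlib
open scoped TensorProduct

set_option autoImplicit false
universe u
open CAlg

namespace Groth.Agent.S6302

/-- Let 0 → M₁ → M₂ → M₃ → 0 be a short exact sequence of R-modules with M₃ of finite presentation. If
the sequence is universally exact (its first map is universally injective) then it is split: M₂ → M₃
admits a section. (The converse, split implies universally exact, is elementary and not stated.) -/
theorem result {R : Type u} [CommRing R] {M₁ M₂ M₃ : Type u} [AddCommGroup M₁] [Module R M₁] [AddCommGroup M₂] [Module R M₂] [AddCommGroup M₃] [Module R M₃] [Module.FinitePresentation R M₃] (f : M₁ →ₗ[R] M₂) (g : M₂ →ₗ[R] M₃) (hexact : Function.Exact f g) (hg : Function.Surjective g) (hf : CAlgX.UniversallyInjective R f) : ∃ s : M₃ →ₗ[R] M₂, g.comp s = LinearMap.id := by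
  classical
  obtain ⟨n, K, e, hK⟩ := Module.FinitePresentation.exists_fin (R := R) (M := M₃)
  obtain ⟨m, c, hc⟩ := Submodule.fg_iff_exists_fin_generating_family.mp hK
  -- generators of M₃ and lifts
  let p : Fin n → M₃ := fun j => e.symm (K.mkQ (Pi.single j 1))
  choose nn hnn using fun j => hg (p j)
  have hcK : ∀ l, c l ∈ K := fun l => by rw [← hc]; exact Submodule.subset_span ⟨l, rfl⟩
  have hrel : ∀ l, ∑ j, c l j • p j = 0 := by
    intro l
    have h1 : ∑ j, c l j • p j = e.symm (K.mkQ (∑ j, c l j • Pi.single j 1)) := by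
      simp only [p, map_sum, map_smul]
    rw [h1, ← pi_eq_sum_univ' (c l)]
    have : K.mkQ (c l) = 0 := by
      simp only [Submodule.mkQ_apply, Submodule.Quotient.mk_eq_zero]
      exact hcK l
    rw [this, map_zero]
  have hex : ∀ l, ∃ ml : M₁, f ml = ∑ j, c l j • nn j := by
    intro l
    apply (hexact _).mp
    rw [map_sum]
    simp only [map_smul, hnn]
    exact hrel l
  choose mm hmm using hex
  -- the test module
  let col : Fin n → (Fin m → R) := fun j l => c l j
  let C : Submodule R (Fin m → R) := Submodule.span R (Set.range col)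
  let eb : Fin m → (Fin m → R) ⧸ C := fun l => C.mkQ (Pi.single l 1)
  have hebspan : Submodule.span R (Set.range eb) = ⊤ := by
    rw [eq_top_iff]
    rintro x -
    obtain ⟨v, rfl⟩ := C.mkQ_surjective x
    rw [pi_eq_sum_univ' v, map_sum]
    refine Submodule.sum_mem _ fun l _ => ?_
    rw [map_smul]
    exact Submodule.smul_mem _ _ (Submodule.subset_span ⟨l, rfl⟩)
  have hmkcol : ∀ j, C.mkQ (col j) = 0 := by
    intro j
    simp only [Submodule.mkQ_apply, Submodule.Quotient.mk_eq_zero]
    exact Submodule.subset_span ⟨j, rfl⟩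
  let z : M₁ ⊗[R] ((Fin m → R) ⧸ C) := ∑ l, mm l ⊗ₜ[R] eb l
  have hfz : (f.rTensor ((Fin m → R) ⧸ C)) z = 0 := by
    simp only [z, map_sum, LinearMap.rTensor_tmul, hmm]
    simp only [TensorProduct.sum_tmul, TensorProduct.smul_tmul]
    rw [Finset.sum_comm]
    simp only [← TensorProduct.tmul_sum]
    have : ∀ j, ∑ l, c l j • eb l = 0 := by
      intro j
      have h1 : ∑ l, c l j • eb l = C.mkQ (∑ l, col j l • Pi.single l 1) := by
        simp only [eb, map_sum, map_smul]
        rfl
      rw [h1, ← pi_eq_sum_univ' (col j), hmkcol]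
    simp only [this, TensorProduct.tmul_zero, Finset.sum_const_zero]
  have hz : z = 0 := by
    apply hf ((Fin m → R) ⧸ C)
    rw [hfz, map_zero]
  have hz' : ∑ l, eb l ⊗ₜ[R] mm l = (0 : ((Fin m → R) ⧸ C) ⊗[R] M₁) := by
    have := congrArg (TensorProduct.comm R M₁ ((Fin m → R) ⧸ C)) hz
    simpa [z] using this
  obtain ⟨k, b, y, h₁, h₂⟩ := TensorProduct.vanishesTrivially_of_sum_tmul_eq_zero R hebspan hz'
  -- the columns of b lie in C
  have hbC : ∀ t, (fun l => b l t) ∈ C := by
    intro t
    have h3 : C.mkQ (fun l => b l t) = 0 := by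
      rw [pi_eq_sum_univ' (fun l => b l t), map_sum]
      simp only [map_smul]
      exact h₂ t
    simpa only [Submodule.mkQ_apply, Submodule.Quotient.mk_eq_zero] using h3
  have hd : ∀ t, ∃ d : Fin n → R, ∑ j, d j • col j = fun l => b l t := by
    intro t
    exact (Submodule.mem_span_range_iff_exists_fun R).mp (hbC t)
  choose d hd using hd
  have hdb : ∀ t l, ∑ j, d t j * c l j = b l t := by
    intro t l
    have := congrFun (hd t) l
    simpa [col] using this
  -- the correction
  let x : Fin n → M₁ := fun j => ∑ t, d t j • y t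
  have hx : ∀ l, ∑ j, c l j • x j = mm l := by
    intro l
    rw [h₁ l]
    simp only [x, Finset.smul_sum, smul_smul]
    rw [Finset.sum_comm]
    refine Finset.sum_congr rfl fun t _ => ?_
    rw [← Finset.sum_smul, ← hdb t l]
    refine congrArg (· • y t) (Finset.sum_congr rfl fun j _ => mul_comm _ _)
  let n' : Fin n → M₂ := fun j => nn j - f (x j)
  have hn'rel : ∀ l, ∑ j, c l j • n' j = 0 := by
    intro l
    simp only [n', smul_sub, Finset.sum_sub_distrib]
    rw [← hmm l, ← hx l, map_sum]
    simp only [map_smul, sub_self]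
  let σ₀ : (Fin n → R) →ₗ[R] M₂ := Fintype.linearCombination R n'
  have hσ₀ : ∀ v, σ₀ v = ∑ j, v j • n' j := fun v => Fintype.linearCombination_apply R n' v
  have hKσ : K ≤ LinearMap.ker σ₀ := by
    rw [← hc, Submodule.span_le]
    rintro _ ⟨l, rfl⟩
    rw [SetLike.mem_coe, LinearMap.mem_ker, hσ₀]
    exact hn'rel l
  refine ⟨(K.liftQ σ₀ hKσ).comp e.toLinearMap, ?_⟩
  have hgf : ∀ a, g (f a) = 0 := fun a => (hexact _).mpr ⟨a, rfl⟩
  have key : (g.comp (K.liftQ σ₀ hKσ)).comp K.mkQ = e.symm.toLinearMap.comp K.mkQ := by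
    apply LinearMap.pi_ext
    intro j r
    simp only [LinearMap.coe_comp, Function.comp_apply, Submodule.mkQ_apply, Submodule.liftQ_apply,
      LinearEquiv.coe_coe]
    rw [hσ₀]
    have hsingle : (Pi.single j r : Fin n → R) = r • Pi.single j 1 := by
      ext i
      simp [Pi.single_apply]
    rw [Finset.sum_eq_single j]
    · simp only [Pi.single_eq_same, map_smul]
      show r • g (nn j - f (x j)) = _
      rw [map_sub, hgf, sub_zero, hnn, hsingle, Submodule.Quotient.mk_smul, map_smul]
      rfl
    · intro i _ hij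
      rw [Pi.single_eq_of_ne hij, zero_smul]
    · intro h; exact absurd (Finset.mem_univ j) h
  apply LinearMap.ext
  intro w
  obtain ⟨v, hv⟩ := K.mkQ_surjective (e w)
  simp only [LinearMap.coe_comp, Function.comp_apply, LinearEquiv.coe_coe, LinearMap.id_coe, id_eq]
  rw [← hv]
  have := LinearMap.congr_fun key v
  simp only [LinearMap.coe_comp, Function.comp_apply, LinearEquiv.coe_coe] at this
  rw [this, hv, LinearEquiv.symm_apply_apply]

end Groth.Agent.S6302
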