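import Groth.Statements.S6388
import Groth.Statements.S6388
import Mathlib
open scoped TensorProduct

set_option autoImplicit false
universe u
open CAlg

namespace Groth.Agent.S6388

/-- Let f : M → N and g : M → M' be maps of R-modules and let N' be their pushout, realised as the
quotient of M' × N by the submodule of elements (g x, -f x). Then g dominates f — for every module Q
the kernel of f ⊗ id_Q is contained in the kernel of g ⊗ id_Q — if and only if the canonical map M'
→ N' is universally injective. -/
theorem result (R : Type u) [CommRing R] {M N M' : Type u}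
    [AddCommGroup M] [Module R M] [AddCommGroup N] [Module R N] [AddCommGroup M'] [Module R M']
    (f : M →ₗ[R] N) (g : M →ₗ[R] M') :
    (∀ (Q : Type u) [AddCommGroup Q] [Module R Q], LinearMap.ker (f.rTensor Q) ≤ LinearMap.ker (g.rTensor Q)) ↔
      CAlgX.UniversallyInjective R
        ((LinearMap.range (g.prod (-f))).mkQ ∘ₗ LinearMap.inl R M' N) := by
  classical
  let φ : M →ₗ[R] M' × N := g.prod (-f)
  let q : M' × N →ₗ[R] (M' × N) ⧸ LinearMap.range φ := (LinearMap.range φ).mkQ
  have hcomp : q ∘ₗ LinearMap.inl R M' N ∘ₗ g = q ∘ₗ LinearMap.inr R M' N ∘ₗ f := by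
    ext m
    simp only [LinearMap.coe_comp, Function.comp_apply, LinearMap.inl_apply, LinearMap.inr_apply]
    show (LinearMap.range φ).mkQ (g m, 0) = (LinearMap.range φ).mkQ (0, f m)
    rw [Submodule.mkQ_apply, Submodule.mkQ_apply, Submodule.Quotient.eq]
    refine ⟨m, ?_⟩
    show (g m, (-f) m) = (g m, 0) - (0, f m)
    simp
  constructor
  · intro hdom Q _ _
    rw [injective_iff_map_eq_zero]
    intro u hu
    have hex : Function.Exact (φ.rTensor Q) (q.rTensor Q) :=
      rTensor_exact Q (LinearMap.exact_map_mkQ_range φ) (Submodule.mkQ_surjective _)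
    have hu' : (q.rTensor Q) (((LinearMap.inl R M' N).rTensor Q) u) = 0 := by
      rw [← LinearMap.comp_apply, ← LinearMap.rTensor_comp]
      exact hu
    obtain ⟨x, hx⟩ := (hex _).mp hu'
    have h1 : (g.rTensor Q) x = u := by
      have := congrArg ((LinearMap.fst R M' N).rTensor Q) hx
      rw [← LinearMap.comp_apply, ← LinearMap.rTensor_comp, ← LinearMap.comp_apply,
        ← LinearMap.rTensor_comp, LinearMap.fst_comp_inl, LinearMap.rTensor_id,
        LinearMap.id_apply] at this
      rw [← this]
      rfl
    have h2 : (f.rTensor Q) x = 0 := by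
      have := congrArg ((LinearMap.snd R M' N).rTensor Q) hx
      rw [← LinearMap.comp_apply, ← LinearMap.rTensor_comp, ← LinearMap.comp_apply,
        ← LinearMap.rTensor_comp, LinearMap.snd_comp_inl, LinearMap.rTensor_zero,
        LinearMap.zero_apply] at this
      have h3 : (LinearMap.snd R M' N) ∘ₗ φ = -f := LinearMap.snd_prod _ _
      rw [h3, LinearMap.rTensor_neg, LinearMap.neg_apply, neg_eq_zero] at this
      exact this
    rw [← h1]
    exact hdom Q (LinearMap.mem_ker.mpr h2)
  · intro hinj Q _ _ x hx
    rw [LinearMap.mem_ker] at hx ⊢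
    apply hinj Q
    rw [map_zero, ← LinearMap.comp_apply, ← LinearMap.rTensor_comp]
    have : (q ∘ₗ LinearMap.inl R M' N) ∘ₗ g = (q ∘ₗ LinearMap.inr R M' N) ∘ₗ f := by
      rw [LinearMap.comp_assoc, LinearMap.comp_assoc]
      exact hcomp
    show (((q ∘ₗ LinearMap.inl R M' N) ∘ₗ g).rTensor Q) x = 0
    rw [this, LinearMap.rTensor_comp, LinearMap.comp_apply, hx, map_zero]

end Groth.Agent.S6388
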