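import Groth.Statements.S6359
import Groth.Statements.S6359
import Groth.Agent.S6388
import Groth.Agent.S6302
open scoped TensorProduct

set_option autoImplicit false
universe u
open CAlg

namespace Groth.Agent.S6359

/-- Let f : M → N and g : M → M' be maps of R-modules such that the cokernel of f is finitely presented.
Then g dominates f (for every module Q the kernel of f ⊗ id_Q is contained in the kernel of g ⊗
id_Q) if and only if g factors through f. -/
theorem result (R : Type u) [CommRing R] {M N M' : Type u}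
    [AddCommGroup M] [Module R M] [AddCommGroup N] [Module R N] [AddCommGroup M'] [Module R M']
    (f : M →ₗ[R] N) (g : M →ₗ[R] M') [Module.FinitePresentation R (N ⧸ LinearMap.range f)] :
    (∀ (Q : Type u) [AddCommGroup Q] [Module R Q], LinearMap.ker (f.rTensor Q) ≤ LinearMap.ker (g.rTensor Q)) ↔
      ∃ h : N →ₗ[R] M', g = h ∘ₗ f := by
  classical
  constructor
  · intro hdom
    let φ : M →ₗ[R] M' × N := g.prod (-f)
    let q : M' × N →ₗ[R] (M' × N) ⧸ LinearMap.range φ := (LinearMap.range φ).mkQ
    let ι : M' →ₗ[R] (M' × N) ⧸ LinearMap.range φ := q ∘ₗ LinearMap.inl R M' N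
    have hι : CAlgX.UniversallyInjective R ι := (Groth.Agent.S6388.result R f g).mp hdom
    have hιinj : Function.Injective ι := by
      rw [injective_iff_map_eq_zero]
      intro a ha
      have h1 : (ι.rTensor R) (a ⊗ₜ[R] (1 : R)) = 0 := by
        rw [LinearMap.rTensor_tmul, ha, TensorProduct.zero_tmul]
      have h2 : a ⊗ₜ[R] (1 : R) = 0 := by
        apply hι R
        rw [h1, map_zero]
      have h3 := congrArg (TensorProduct.rid R M') h2
      simpa using h3
    have hcomp : ∀ m : M, q (LinearMap.inr R M' N (f m)) = ι (g m) := by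
      intro m
      show (LinearMap.range φ).mkQ (0, f m) = (LinearMap.range φ).mkQ (g m, 0)
      rw [Submodule.mkQ_apply, Submodule.mkQ_apply, eq_comm, Submodule.Quotient.eq]
      refine ⟨m, ?_⟩
      show (g m, (-f) m) = (g m, 0) - (0, f m)
      simp
    -- the cokernel map
    have hle : LinearMap.range φ ≤
        LinearMap.ker ((LinearMap.range f).mkQ ∘ₗ LinearMap.snd R M' N) := by
      rintro _ ⟨m, rfl⟩
      rw [LinearMap.mem_ker]
      show (LinearMap.range f).mkQ ((-f) m) = 0
      rw [LinearMap.neg_apply, map_neg, neg_eq_zero]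
      simp only [Submodule.mkQ_apply, Submodule.Quotient.mk_eq_zero]
      exact ⟨m, rfl⟩
    let π : ((M' × N) ⧸ LinearMap.range φ) →ₗ[R] N ⧸ LinearMap.range f :=
      (LinearMap.range φ).liftQ ((LinearMap.range f).mkQ ∘ₗ LinearMap.snd R M' N) hle
    have hπq : ∀ y : M' × N, π (q y) = (LinearMap.range f).mkQ y.2 := fun y => rfl
    have hπsurj : Function.Surjective π := by
      intro c
      obtain ⟨n, rfl⟩ := (LinearMap.range f).mkQ_surjective c
      exact ⟨q (0, n), rfl⟩
    have hexact : Function.Exact ι π := by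
      intro y
      constructor
      · intro hy
        obtain ⟨⟨m', n⟩, rfl⟩ := (LinearMap.range φ).mkQ_surjective y
        have h1 : (LinearMap.range f).mkQ n = 0 := hy
        simp only [Submodule.mkQ_apply, Submodule.Quotient.mk_eq_zero] at h1
        obtain ⟨m₀, rfl⟩ := h1
        refine ⟨m' + g m₀, ?_⟩
        show (LinearMap.range φ).mkQ (m' + g m₀, 0) = (LinearMap.range φ).mkQ (m', f m₀)
        rw [Submodule.mkQ_apply, Submodule.mkQ_apply, Submodule.Quotient.eq]
        refine ⟨m₀, ?_⟩
        show (g m₀, (-f) m₀) = (m' + g m₀, 0) - (m', f m₀)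
        simp
      · rintro ⟨m', rfl⟩
        show (LinearMap.range f).mkQ (0 : N) = 0
        rw [map_zero]
    obtain ⟨s, hs⟩ := Groth.Agent.S6302.result ι π hexact hπsurj hι
    obtain ⟨-, r, hr⟩ := ((Function.Exact.split_tfae' hexact).out 0 1 rfl rfl).mp ⟨hιinj, s, hs⟩
    refine ⟨r ∘ₗ q ∘ₗ LinearMap.inr R M' N, ?_⟩
    ext m
    simp only [LinearMap.coe_comp, Function.comp_apply]
    rw [hcomp m]
    exact (LinearMap.congr_fun hr (g m)).symm
  · rintro ⟨h, rfl⟩ Q _ _ x hx
    rw [LinearMap.mem_ker] at hx ⊢
    rw [LinearMap.rTensor_comp, LinearMap.comp_apply, hx, map_zero]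

end Groth.Agent.S6359
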