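import Groth.Statements.S13362
import Mathlib
import Groth.Agent.Lib.helper6.Cocyclic

set_option autoImplicit false
universe u
open ProCompl

namespace Groth.Agent.S13362

/-- An abelian group of finite exponent having a nonzero element contained in every nonzero subgroup is
finite. -/
theorem result {A : Type u} [AddCommGroup A]
    (hA : AddMonoid.exponent A ≠ 0) (a : A) (ha : a ≠ 0) (h : ∀ B : AddSubgroup A, B ≠ ⊥ → a ∈ B) :
    Finite A := by
  have hex : ∀ x : A, AddMonoid.exponent A • x = 0 := fun x => AddMonoid.exponent_nsmul_eq_zero x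
  have hpos : 0 < AddMonoid.exponent A := Nat.pos_of_ne_zero hA
  have hfin : IsOfFinAddOrder a := isOfFinAddOrder_iff_nsmul_eq_zero.mpr ⟨_, hpos, hex a⟩
  obtain ⟨hf, -⟩ := Groth.Agent.Lib.helper6.H6_cocyclic_torsion a ha hfin h _ hpos
  have htop : (nsmulAddMonoidHom (α := A) (AddMonoid.exponent A)).ker = ⊤ := by
    rw [eq_top_iff]
    intro x _
    simpa [AddMonoidHom.mem_ker] using hex x
  rw [htop] at hf
  exact (AddSubgroup.topEquiv (G := A)).finite_iff.mp hf

end Groth.Agent.S13362
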