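import Groth.Statements.S13363
import Mathlib
import Groth.Agent.S13362

set_option autoImplicit false
universe u
open ProCompl

namespace Groth.Agent.S13363

/-- Let A be a topological abelian group such that the subgroup n·A is open for each n > 0, and a ∈ A.
Then A has an open subgroup of finite index not containing a if and only if a does not lie in the
subgroup of divisible elements ∩_n nA. -/
theorem result {A : Type u} [AddCommGroup A]
    [TopologicalSpace A] [IsTopologicalAddGroup A]
    (hn : ∀ n : ℕ, 0 < n → IsOpen (Set.range (fun x : A => n • x))) (a : A) :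
    (∃ B : AddSubgroup A, IsOpen (B : Set A) ∧ B.FiniteIndex ∧ a ∉ B) ↔
      ¬ (∀ n : ℕ, 0 < n → ∃ b : A, n • b = a) := by
  constructor
  · rintro ⟨B, -, hfi, haB⟩ hdiv
    obtain ⟨b, hb⟩ := hdiv B.index (Nat.pos_of_ne_zero hfi.index_ne_zero)
    apply haB
    rw [← hb]
    exact B.nsmul_index_mem b
  · intro hnd
    push Not at hnd
    obtain ⟨n, hn0, hna⟩ := hnd
    set C : AddSubgroup A := (nsmulAddMonoidHom (α := A) n).range with hC
    have hCopen : IsOpen (C : Set A) := by
      have : (C : Set A) = Set.range (fun x : A => n • x) := by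
        ext x
        simp [hC, AddMonoidHom.mem_range]
      rw [this]
      exact hn n hn0
    have haC : a ∉ C := by
      rintro ⟨b, hb⟩
      exact hna b (by simpa using hb)
    obtain ⟨B, hCB, hBmax⟩ := zorn_le_nonempty₀ {B : AddSubgroup A | C ≤ B ∧ a ∉ B} (by
      intro c hcs hc y hy
      refine ⟨sSup c, ⟨le_trans (hcs hy).1 (le_sSup hy), ?_⟩, fun z hz => le_sSup hz⟩
      intro ha
      rw [AddSubgroup.mem_sSup_of_directedOn ⟨y, hy⟩ hc.directedOn] at ha
      obtain ⟨s, hs, has⟩ := ha
      exact (hcs hs).2 has) C ⟨le_refl _, haC⟩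
    have hBC : C ≤ B := hBmax.prop.1
    have haB : a ∉ B := hBmax.prop.2
    have hfin : Finite (A ⧸ B) := by
      apply Groth.Agent.S13362.result (A := A ⧸ B) ?_ (QuotientAddGroup.mk a)
      · intro h0
        exact haB ((QuotientAddGroup.eq_zero_iff a).mp h0)
      · intro D hD
        by_contra haD
        have hle : B ≤ D.comap (QuotientAddGroup.mk' B) := by
          intro x hx
          rw [AddSubgroup.mem_comap]
          have : (QuotientAddGroup.mk' B) x = 0 := (QuotientAddGroup.eq_zero_iff x).mpr hx
          rw [this]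
          exact zero_mem D
        have hmem : D.comap (QuotientAddGroup.mk' B) ∈ {B : AddSubgroup A | C ≤ B ∧ a ∉ B} :=
          ⟨le_trans hBC hle, fun h => haD h⟩
        have heq : D.comap (QuotientAddGroup.mk' B) ≤ B := hBmax.le_of_ge hmem hle
        apply hD
        rw [eq_bot_iff]
        intro x hx
        obtain ⟨y, rfl⟩ := QuotientAddGroup.mk'_surjective B x
        have : y ∈ B := heq hx
        rw [AddSubgroup.mem_bot]
        exact (QuotientAddGroup.eq_zero_iff y).mpr this
      · rw [AddMonoid.exponent_ne_zero]
        refine ⟨n, hn0, ?_⟩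
        intro x
        obtain ⟨y, rfl⟩ := QuotientAddGroup.mk'_surjective B x
        have : n • y ∈ B := hBC ⟨y, rfl⟩
        have h2 : (QuotientAddGroup.mk' B) (n • y) = 0 := (QuotientAddGroup.eq_zero_iff _).mpr this
        rw [← h2, map_nsmul]
    exact ⟨B, AddSubgroup.isOpen_mono hBC hCopen, AddSubgroup.finiteIndex_of_finite_quotient, haB⟩

end Groth.Agent.S13363
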