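import Groth.Statements.S12728
import Mathlib
import Groth.Agent.Lib.helper6.ArtTan

set_option autoImplicit false
universe u v
open CategoryTheory
open ArtFun

namespace Groth.Agent.S12728

/-- For functors, let F be a functor on Artinian local Λ-algebras with residue field k with F(k) a
point, satisfying (S1) and (S2), and ξ a family of F over a complete local Noetherian R with residue
field k. Then ξ is versal if and only if (1) the map h_R(k[ε]) → F(k[ε]) on tangent spaces is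
surjective, and (2) whenever μ : B → A is a small extension, φ : R → A, and y ∈ F(B) lies over ξ(φ),
the map φ lifts to some R → B. -/
theorem result {Λ : Type u} {k : Type u} [CommRing Λ] [Field k] [Algebra Λ k]
    [IsNoetherianRing Λ] [Module.Finite Λ k]
    {F : ArtFun.Art Λ k ⥤ Type v} (h0 : ArtFun.H0 F) (h1 : ArtFun.S1 F) (h2 : ArtFun.Heps F)
    (R : ArtFun.CRing Λ k) (ξ : ArtFun.Family R.carrier R.res F) :
    ArtFun.IsVersal ξ ↔
      (Function.Surjective (ArtFun.TangentSpace.ofFamily ξ) ∧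
        ∀ ⦃B A : ArtFun.Art Λ k⦄ (μ : B ⟶ A), ArtFun.Art.IsSmallExt μ →
          ∀ (φ : ArtFun.HomSet R.carrier R.res A) (y : F.obj B), F.map μ y = ξ.app A φ →
            ∃ ψ : ArtFun.HomSet R.carrier R.res B, ArtFun.HomSet.map μ ψ = φ) := by
  classical
  have hsurjBase : ∀ E : ArtFun.Art Λ k, Function.Surjective (ArtFun.Art.toBase E) := fun E => E.res_surjective
  constructor
  · intro hv
    refine ⟨?_, ?_⟩
    · intro v
      obtain ⟨ψ, -, hψ⟩ := hv (ArtFun.Art.toBase (ArtFun.Art.dual Λ k)) (hsurjBase _)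
        ⟨R.res, AlgHom.id_comp _⟩ v (h0.2.elim _ _)
      exact ⟨ψ, hψ⟩
    · intro B A μ hμ φ y hy
      obtain ⟨ψ, hψ, -⟩ := hv μ hμ.1 φ y hy
      exact ⟨ψ, hψ⟩
  · rintro ⟨htan, hlift⟩
    intro B A μ hμ
    refine Groth.Agent.Lib.helper6.H6_surjective_induction (Λ := Λ) (k := k)
      (fun A B μ => ∀ (φ : ArtFun.HomSet R.carrier R.res A) (y : F.obj B), F.map μ y = ξ.app A φ →
        ∃ ψ : ArtFun.HomSet R.carrier R.res B, ArtFun.HomSet.map μ ψ = φ ∧ ξ.app B ψ = y)
      ?_ ?_ ?_ μ hμ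
    · intro A B e he φ y hy
      refine ⟨ArtFun.HomSet.map (inv e) φ, ?_, ?_⟩
      · rw [← Groth.Agent.Lib.helper6.H6_homSet_map_comp, IsIso.inv_hom_id,
          Groth.Agent.Lib.helper6.H6_homSet_map_id]
      · rw [ξ.natural, ← hy, ← FunctorToTypes.map_comp_apply, IsIso.hom_inv_id,
          FunctorToTypes.map_id_apply]
    · intro A A' μ hμ φ y hy
      obtain ⟨ψ₀, hψ₀⟩ := hlift μ hμ φ y hy
      obtain ⟨C, π₁, π₂, α, δ, hC, hsq, hδ1, hδα, hδ2⟩ :=
        Groth.Agent.Lib.helper6.H6_smallExt_tangent μ hμ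
      have hcompat : F.map μ (ξ.app A' ψ₀) = F.map μ y := by
        rw [← ξ.natural, hψ₀, hy]
      obtain ⟨w, hw⟩ := h1 π₁ α μ μ hsq hμ.1 ⟨(ξ.app A' ψ₀, y), hcompat⟩
      have hw1 : F.map π₁ w = ξ.app A' ψ₀ := congrArg (fun t => t.1.1) hw
      have hw2 : F.map α w = y := congrArg (fun t => t.1.2) hw
      obtain ⟨u, hu⟩ := htan (F.map π₂ w)
      have hu' : ξ.app (ArtFun.Art.dual Λ k) u = F.map π₂ w := hu
      obtain ⟨ζ, hζ1, hζ2⟩ := Groth.Agent.Lib.helper6.H6_fibreProd_lift hC ψ₀ u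
        (by
          rw [Groth.Agent.Lib.helper6.H6_homSet_base_unique _ (ArtFun.HomSet.map _ ψ₀),
            Groth.Agent.Lib.helper6.H6_homSet_base_unique _ (ArtFun.HomSet.map _ u)])
      have hξζ : ξ.app C ζ = w := by
        apply (h2 π₁ π₂ hC).1
        apply ArtFun.FibProd.ext
        · show F.map π₁ (ξ.app C ζ) = F.map π₁ w
          rw [← ξ.natural, hζ1, hw1]
        · show F.map π₂ (ξ.app C ζ) = F.map π₂ w
          rw [← ξ.natural, hζ2, hu']
      refine ⟨ArtFun.HomSet.map α ζ, ?_, ?_⟩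
      · rw [← Groth.Agent.Lib.helper6.H6_homSet_map_comp, ← hsq.w,
          Groth.Agent.Lib.helper6.H6_homSet_map_comp, hζ1, hψ₀]
      · rw [ξ.natural, hξζ, hw2]
    · intro A B C p q hp hq φ y hy
      have hy' : F.map q (F.map p y) = ξ.app A φ := by
        rw [← FunctorToTypes.map_comp_apply]; exact hy
      obtain ⟨ψB, hψB1, hψB2⟩ := hq φ (F.map p y) hy'
      obtain ⟨ψ, hψ1, hψ2⟩ := hp ψB y hψB2.symm
      refine ⟨ψ, ?_, hψ2⟩
      rw [Groth.Agent.Lib.helper6.H6_homSet_map_comp, hψ1, hψB1]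

end Groth.Agent.S12728
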