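import Groth.Statements.S12731
import Mathlib
import Groth.Agent.Lib.helper6.ArtHfin

set_option autoImplicit false
universe u v
open CategoryTheory
open ArtFun

namespace Groth.Agent.S12731

/-- For functors, if a functor F on Artinian local Λ-algebras with residue field k with F(k) a point has
a versal family over a complete local Noetherian ring with residue field k which is bijective on
tangent spaces (a hull), then F satisfies (S1) and (S2) and has finite-dimensional tangent space. -/
theorem result {Λ : Type u} {k : Type u} [CommRing Λ] [Field k] [Algebra Λ k]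
    [IsNoetherianRing Λ] [Module.Finite Λ k]
    (F : ArtFun.Art Λ k ⥤ Type v) [ArtFun.TangentStr F] (h0 : ArtFun.H0 F) (h : ArtFun.HasHull F) :
    ArtFun.S1 F ∧ ArtFun.Heps F ∧ ArtFun.Hfin F := by
  classical
  obtain ⟨⟨R, ξ, hvers, hbij⟩⟩ := h
  have hsurj := Groth.Agent.Lib.helper6.H6_versal_surjective ξ hvers h0.2
  have hS1 : ArtFun.S1 F := Groth.Agent.Lib.helper6.H6_s1_of_versal ξ hvers hsurj
  refine ⟨hS1, ?_, ?_⟩
  · -- Heps
    intro B A' p' p'' hsq
    refine ⟨?_, hS1 p' p'' _ _ hsq (ArtFun.Art.dual Λ k).res_surjective⟩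
    intro z₁ z₂ hz
    have hz1 : F.map p' z₁ = F.map p' z₂ := congrArg (fun t => t.1.1) hz
    have hz2 : F.map p'' z₁ = F.map p'' z₂ := congrArg (fun t => t.1.2) hz
    have hp' : Function.Surjective p' := by
      intro a'
      obtain ⟨b, hb, -⟩ := hsq.surj a' (Groth.Agent.Lib.helper6.H6_dn (A'.res a') 0) (by
        show A'.res a' = (ArtFun.Art.dual Λ k).res (Groth.Agent.Lib.helper6.H6_dn (A'.res a') 0)
        rw [Groth.Agent.Lib.helper6.H6_res_dn])
      exact ⟨b, hb⟩
    obtain ⟨ψ₁, hψ₁⟩ := hsurj B z₁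
    obtain ⟨ψ₂, hψ₂a, hψ₂b⟩ := hvers p' hp' (ArtFun.HomSet.map p' ψ₁) z₂ (by
      rw [ξ.natural, hψ₁, hz1])
    have h3 : ArtFun.HomSet.map p'' ψ₁ = ArtFun.HomSet.map p'' ψ₂ := by
      apply hbij.1
      rw [ξ.natural, ξ.natural, hψ₁, hψ₂b, hz2]
    have h4 : ψ₁ = ψ₂ := by
      apply Subtype.ext
      apply AlgHom.ext
      intro r
      apply hsq.inj
      · exact (congrArg (fun χ : ArtFun.HomSet R.carrier R.res A' => χ.1 r) hψ₂a).symm
      · exact congrArg (fun χ : ArtFun.HomSet R.carrier R.res (ArtFun.Art.dual Λ k) => χ.1 r) h3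
    rw [← hψ₁, ← hψ₂b, h4]
  · -- Hfin
    obtain ⟨E, hE⟩ := Groth.Agent.Lib.helper6.H6_homSet_dual_finite R
    let θ : ArtFun.TangentSpace F → ArtFun.HomSet R.carrier R.res (ArtFun.Art.dual Λ k) :=
      fun x => Classical.choose (hbij.2 x)
    have hθ : ∀ x, ξ.app _ (θ x) = x := fun x => Classical.choose_spec (hbij.2 x)
    have hθadd : ∀ (x y : ArtFun.TangentSpace F) (r : R.carrier),
        Groth.Agent.Lib.helper6.H6_sn ((θ (x + y)).1 r) =
          Groth.Agent.Lib.helper6.H6_sn ((θ x).1 r) + Groth.Agent.Lib.helper6.H6_sn ((θ y).1 r) := by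
      intro x y r
      obtain ⟨χ, hχ1, hχ2⟩ := Groth.Agent.Lib.helper6.H6_fibreProd_lift
        ArtFun.Art.isFibreProd_dual2 (θ x) (θ y) (by
          rw [Groth.Agent.Lib.helper6.H6_homSet_base_unique _ (ArtFun.HomSet.map _ (θ x)),
            Groth.Agent.Lib.helper6.H6_homSet_base_unique _ (ArtFun.HomSet.map _ (θ y))])
      have e1 : ArtFun.TangentSpace.mk (F := F) (F.map ArtFun.Art.pr₁ (ξ.app _ χ)) = x := by
        show F.map ArtFun.Art.pr₁ (ξ.app _ χ) = x
        rw [← ξ.natural, hχ1, hθ]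
      have e2 : ArtFun.TangentSpace.mk (F := F) (F.map ArtFun.Art.pr₂ (ξ.app _ χ)) = y := by
        show F.map ArtFun.Art.pr₂ (ξ.app _ χ) = y
        rw [← ξ.natural, hχ2, hθ]
      have e3 : ArtFun.TangentSpace.mk (F := F) (F.map ArtFun.Art.pr₁ (ξ.app _ χ)) +
          ArtFun.TangentSpace.mk (F := F) (F.map ArtFun.Art.pr₂ (ξ.app _ χ)) =
          ArtFun.TangentSpace.mk (F := F) (F.map ArtFun.Art.plus (ξ.app _ χ)) :=
        ArtFun.TangentStr.add_eq (ξ.app _ χ)
      rw [e1, e2] at e3
      have e4 : θ (x + y) = ArtFun.HomSet.map ArtFun.Art.plus χ := by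
        apply hbij.1
        rw [hθ, e3, ξ.natural]
        rfl
      rw [e4, ← hχ1, ← hχ2]
      exact Groth.Agent.Lib.helper6.H6_sn_plus (χ.1 r)
    have hθsmul : ∀ (c : k) (x : ArtFun.TangentSpace F) (r : R.carrier),
        Groth.Agent.Lib.helper6.H6_sn ((θ (c • x)).1 r) =
          c * Groth.Agent.Lib.helper6.H6_sn ((θ x).1 r) := by
      intro c x r
      have e1 : c • x = ArtFun.TangentSpace.mk (F := F) (F.map (ArtFun.Art.scale c) x) :=
        ArtFun.TangentStr.smul_eq c x
      have e4 : θ (c • x) = ArtFun.HomSet.map (ArtFun.Art.scale c) (θ x) := by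
        apply hbij.1
        rw [hθ, e1, ξ.natural, hθ]
        rfl
      rw [e4]
      exact Groth.Agent.Lib.helper6.H6_sn_scale c ((θ x).1 r)
    let Φ : ArtFun.TangentSpace F →ₗ[k] (↥E → k) :=
      { toFun := fun x e => Groth.Agent.Lib.helper6.H6_sn ((θ x).1 e.1)
        map_add' := by
          intro x y
          funext e
          exact hθadd x y e.1
        map_smul' := by
          intro c x
          funext e
          exact hθsmul c x e.1 }
    have hΦ : Function.Injective Φ := by
      intro x y hxy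
      have : θ x = θ y := by
        apply hE
        intro e he
        exact congrFun hxy ⟨e, he⟩
      rw [← hθ x, ← hθ y, this]
    exact Module.Finite.of_injective Φ hΦ

end Groth.Agent.S12731
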