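import Groth.Statements.S15735
import Mathlib
import Groth.Agent.Lib.helper7.HJ

set_option autoImplicit false
open W4c2invhilbsl2

namespace Groth.Agent.S15735

/-- Let 0 < p < q be coprime integers and m ≥ 1 such that q − p does not divide m; put g = gcd(m, q−p),
b = (q−p)/g, α = ⌊mp/(q−p)⌋, β = the remainder of mp modulo q−p and t = (q−p−β)/g, so that 1 ≤ t <
b, and let b/t = c₁ − 1/(c₂ − 1/(⋯ − 1/c_r)) be the negative-regular (Hirzebruch–Jung) continued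
fraction expansion with every cᵢ ≥ 2; set P₀ = 0, P₁ = 1, Q₀ = −1, Q₁ = 0, Pᵢ = cᵢ₋₁Pᵢ₋₁ − Pᵢ₋₂, Qᵢ
= cᵢ₋₁Qᵢ₋₁ − Qᵢ₋₂ for 2 ≤ i ≤ r+1, and eᵢ = (α+1+m)Pᵢ − Qᵢ, lᵢ = (α+1)Pᵢ − Qᵢ, nᵢ = q·lᵢ − p·eᵢ.
Then: (i) nᵢ = g·(t·Pᵢ − b·Qᵢ) for all 0 ≤ i ≤ r+1; (ii) nᵢ = cᵢ₋₁·nᵢ₋₁ − nᵢ₋₂ for all 2 ≤ i ≤ r+1;
(iii) nᵢ > nᵢ₊₁ for all 0 ≤ i ≤ r; (iv) n₀ = q − p, n_r = g and n_{r+1} = 0. (The published
statement also covers the case where q − p divides m, where r = 0; there the displayed formulas give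
n₁ = n₀ = q − p (for p = 1, q = 3, m = 2, n₁ = 2), so (iii) and (iv) fail, and this row assumes that
q − p does not divide m.) -/
theorem result (p q m : ℕ) (hp : 0 < p) (hpq : p < q) (hcop : Nat.Coprime p q) (hm : 0 < m) (hnt : ¬ (q - p ∣ m)) (c : List ℤ) (hc : W4c2invhilbsl2.IsHJDigits p q m c) :
    (∀ i : ℕ, i ≤ c.length + 1 →
      W4c2invhilbsl2.nN p q m c i = (W4c2invhilbsl2.gcdK p q m : ℤ) * ((W4c2invhilbsl2.tT p q m : ℤ) * W4c2invhilbsl2.hjP c i - (W4c2invhilbsl2.bB p q m : ℤ) * W4c2invhilbsl2.hjQ c i)) ∧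
    (∀ i : ℕ, 2 ≤ i → i ≤ c.length + 1 →
      W4c2invhilbsl2.nN p q m c i = c.getD (i - 2) 0 * W4c2invhilbsl2.nN p q m c (i - 1) - W4c2invhilbsl2.nN p q m c (i - 2)) ∧
    (∀ i : ℕ, i ≤ c.length → W4c2invhilbsl2.nN p q m c (i + 1) < W4c2invhilbsl2.nN p q m c i) ∧
    W4c2invhilbsl2.nN p q m c 0 = (q : ℤ) - p ∧ W4c2invhilbsl2.nN p q m c c.length = W4c2invhilbsl2.gcdK p q m ∧ W4c2invhilbsl2.nN p q m c (c.length + 1) = 0 := by
  open Groth.Agent.Lib.helper7 in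
  obtain ⟨R0, rfl⟩ := Nat.exists_eq_add_of_lt hpq
  have hsub : p + R0 + 1 - p = R0 + 1 := by omega
  rw [hsub] at hnt
  set R := R0 + 1 with hR
  have hRpos : 0 < R := by omega
  set g := W4c2invhilbsl2.gcdK p (p + R0 + 1) m with hg
  set b := W4c2invhilbsl2.bB p (p + R0 + 1) m with hb
  set t := W4c2invhilbsl2.tT p (p + R0 + 1) m with ht
  set α := W4c2invhilbsl2.alpha p (p + R0 + 1) m with hα
  have hgdef : g = Nat.gcd m R := by rw [hg, W4c2invhilbsl2.gcdK, hsub]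
  have hbdef : b = R / g := by rw [hb, W4c2invhilbsl2.bB, hsub]
  have htdef : t = (R - m * p % R) / g := by rw [ht, W4c2invhilbsl2.tT, hsub]
  have hαdef : α = m * p / R := by rw [hα, W4c2invhilbsl2.alpha, hsub]
  have hgpos : 0 < g := by rw [hgdef]; exact Nat.gcd_pos_of_pos_left _ hm
  have hgR : g ∣ R := by rw [hgdef]; exact Nat.gcd_dvd_right _ _
  have hgm : g ∣ m := by rw [hgdef]; exact Nat.gcd_dvd_left _ _
  have hRb : R = g * b := by rw [hbdef]; exact (Nat.mul_div_cancel' hgR).symm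
  set β := m * p % R with hβ
  have hdm : R * α + β = m * p := by rw [hαdef, hβ]; exact Nat.div_add_mod _ _
  have hβlt : β < R := Nat.mod_lt _ hRpos
  have hcoppR : Nat.Coprime p R := by
    have : Nat.Coprime p (p + R) := by rw [hR, ← add_assoc]; exact hcop
    exact Nat.coprime_self_add_right.mp this
  have hβ0 : β ≠ 0 := by
    intro h0
    have h1 : R ∣ m * p := Nat.dvd_of_mod_eq_zero h0
    exact hnt (hcoppR.symm.dvd_of_dvd_mul_right h1)
  have hgβ : g ∣ β := by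
    have h1 : g ∣ R * α + β := by rw [hdm]; exact Dvd.dvd.mul_right hgm p
    exact (Nat.dvd_add_right (Dvd.dvd.mul_right hgR α)).mp h1
  have hgRβ : g ∣ R - β := Nat.dvd_sub hgR hgβ
  have hRt : R - β = g * t := by rw [htdef]; exact (Nat.mul_div_cancel' hgRβ).symm
  have htpos : 0 < t := by
    rcases Nat.eq_zero_or_pos t with h0 | h0
    · rw [h0, mul_zero] at hRt; omega
    · exact h0
  have hbpos : 0 < b := by
    rcases Nat.eq_zero_or_pos b with h0 | h0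
    · rw [h0, mul_zero] at hRb; omega
    · exact h0
  have htb : t < b := by
    have : g * t < g * b := by rw [← hRt, ← hRb]; omega
    exact Nat.lt_of_mul_lt_mul_left this
  have hcopbt : Nat.gcd b t = 1 := by
    have h1 : Nat.gcd R (R - β) = g := by
      have e1 : Nat.gcd R (R - β) = Nat.gcd R β := by
        have : Nat.gcd (R - β) R = Nat.gcd β R := by
          conv_rhs => rw [← Nat.sub_sub_self hβlt.le]
          rw [Nat.gcd_self_sub_left (Nat.sub_le R β)]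
        rw [Nat.gcd_comm, this, Nat.gcd_comm]
      have e2 : Nat.gcd R β = Nat.gcd R (m * p) := by
        rw [Nat.gcd_comm R β, hβ, ← Nat.gcd_rec]
      rw [e1, e2, hcoppR.gcd_mul_right_cancel_right m, Nat.gcd_comm, hgdef]
    rw [hRt] at h1
    rw [hRb, Nat.gcd_mul_left] at h1
    have : g * Nat.gcd b t = g * 1 := by rw [h1, mul_one]
    exact Nat.eq_of_mul_eq_mul_left hgpos this
  -- integer identities
  have key2 : ((p + R0 + 1 : ℕ) : ℤ) - p = (g : ℤ) * b := by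
    have : ((R : ℕ) : ℤ) = (g : ℤ) * b := by exact_mod_cast hRb
    push_cast [hR] at this ⊢
    linarith
  have key1 : ((p + R0 + 1 : ℕ) : ℤ) * ((α + 1 : ℕ) : ℤ) - (p : ℤ) * ((α + 1 + m : ℕ) : ℤ) = (g : ℤ) * t := by
    have h1 : ((R : ℕ) : ℤ) - β = (g : ℤ) * t := by
      rw [← Nat.cast_sub hβlt.le]; exact_mod_cast hRt
    have h2 : ((R : ℕ) : ℤ) * α + β = (m : ℤ) * p := by exact_mod_cast hdm
    push_cast [hR] at h1 h2 ⊢
    linarith
  have hform : ∀ i : ℕ, W4c2invhilbsl2.nN p (p + R0 + 1) m c i =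
      (g : ℤ) * H7_hjSeq c b t i := by
    intro i
    have hlin := H7_hjSeq_linear c (t : ℤ) (-(b : ℤ)) 0 1 (-1) 0 i
    have e1 : (t : ℤ) * 0 + -(b : ℤ) * -1 = b := by ring
    have e2 : (t : ℤ) * 1 + -(b : ℤ) * 0 = t := by ring
    rw [e1, e2] at hlin
    rw [hlin, ← H7_hjP_eq, ← H7_hjQ_eq]
    unfold W4c2invhilbsl2.nN W4c2invhilbsl2.eE W4c2invhilbsl2.lL
    rw [← hα]
    linear_combination (W4c2invhilbsl2.hjP c i) * key1 - (W4c2invhilbsl2.hjQ c i) * key2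
  have hcne : c ≠ [] := by
    rintro rfl
    have h2 := hc.2
    simp only [HJFrac.hjVal] at h2
    have : (0 : ℚ) < (b : ℚ) / (t : ℚ) := by positivity
    rw [← hb, ← ht] at h2
    linarith
  have hval : (((b : ℕ) : ℤ) : ℚ) / (((t : ℕ) : ℤ) : ℚ) = HJFrac.hjVal c := by
    rw [hc.2]; push_cast; rfl
  obtain ⟨m1, m2, m3⟩ := H7_hjSeq_main c hcne hc.1 (b : ℤ) (t : ℤ) (by exact_mod_cast htpos) hval
  rw [Int.gcd_natCast_natCast, hcopbt] at m3
  have hgposZ : (0 : ℤ) < g := by exact_mod_cast hgpos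
  refine ⟨fun i _ => ?_, fun i hi _ => ?_, fun i hi => ?_, ?_, ?_, ?_⟩
  · rw [hform i]
    have hlin := H7_hjSeq_linear c (t : ℤ) (-(b : ℤ)) 0 1 (-1) 0 i
    have e1 : (t : ℤ) * 0 + -(b : ℤ) * -1 = b := by ring
    have e2 : (t : ℤ) * 1 + -(b : ℤ) * 0 = t := by ring
    rw [e1, e2] at hlin
    rw [hlin, ← H7_hjP_eq, ← H7_hjQ_eq]
    ring
  · obtain ⟨j, rfl⟩ := Nat.exists_eq_add_of_le hi
    have e1 : 2 + j - 2 = j := by omega
    have e2 : 2 + j - 1 = j + 1 := by omega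
    have e3 : 2 + j = j + 2 := by omega
    rw [e1, e2, hform, hform, hform, e3, H7_hjSeq_add_two]
    ring
  · rw [hform, hform]
    exact mul_lt_mul_of_pos_left (m1 i hi) hgposZ
  · rw [hform, H7_hjSeq_zero]
    push_cast at key2 ⊢
    linarith
  · rw [hform, m3]; simp
  · rw [hform, m2, mul_zero]

end Groth.Agent.S15735
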