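import Groth.Statements.S15734
import Mathlib
import Groth.Agent.Lib.helper7.HJ2
import Groth.Agent.S15735

set_option autoImplicit false
open W4c2invhilbsl2

namespace Groth.Agent.S15734

/-- Let 0 < p < q be coprime integers and m ≥ 1 such that q − p does not divide m; put g = gcd(m, q−p),
b = (q−p)/g, α = ⌊mp/(q−p)⌋, β = the remainder of mp modulo q−p and t = (q−p−β)/g, so that 1 ≤ t <
b, and let b/t = c₁ − 1/(c₂ − 1/(⋯ − 1/c_r)) be the negative-regular (Hirzebruch–Jung) continued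
fraction expansion with every cᵢ ≥ 2; set P₀ = 0, P₁ = 1, Q₀ = −1, Q₁ = 0, Pᵢ = cᵢ₋₁Pᵢ₋₁ − Pᵢ₋₂, Qᵢ
= cᵢ₋₁Qᵢ₋₁ − Qᵢ₋₂ for 2 ≤ i ≤ r+1, and eᵢ = (α+1+m)Pᵢ − Qᵢ, lᵢ = (α+1)Pᵢ − Qᵢ, nᵢ = q·lᵢ − p·eᵢ,
which are non-negative integers for 0 ≤ i ≤ r+1; moreover g divides every nᵢ, and write tᵢ = nᵢ/g
(so t₁ = t). Then (a) for every 1 ≤ i ≤ r the remainder of t·Pᵢ on division by b equals tᵢ, and (b)
for every 1 < i ≤ r and every integer x with 0 < x < Pᵢ the remainder ρ of t·x on division by b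
satisfies tᵢ₋₁ ≤ ρ ≤ b + tᵢ − tᵢ₋₁. -/
theorem result (p q m : ℕ) (hp : 0 < p) (hpq : p < q) (hcop : Nat.Coprime p q) (hm : 0 < m) (hnt : ¬ (q - p ∣ m)) (c : List ℤ) (hc : W4c2invhilbsl2.IsHJDigits p q m c) :
    (∀ i : ℕ, 1 ≤ i → i ≤ c.length →
      Int.emod ((W4c2invhilbsl2.tT p q m : ℤ) * W4c2invhilbsl2.hjP c i) (W4c2invhilbsl2.bB p q m : ℤ) = W4c2invhilbsl2.nN p q m c i / (W4c2invhilbsl2.gcdK p q m : ℤ)) ∧
    (∀ i : ℕ, 1 < i → i ≤ c.length → ∀ x : ℤ, 0 < x → x < W4c2invhilbsl2.hjP c i →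
      W4c2invhilbsl2.nN p q m c (i - 1) / (W4c2invhilbsl2.gcdK p q m : ℤ) ≤ Int.emod ((W4c2invhilbsl2.tT p q m : ℤ) * x) (W4c2invhilbsl2.bB p q m : ℤ) ∧
      Int.emod ((W4c2invhilbsl2.tT p q m : ℤ) * x) (W4c2invhilbsl2.bB p q m : ℤ) ≤
        (W4c2invhilbsl2.bB p q m : ℤ) + W4c2invhilbsl2.nN p q m c i / (W4c2invhilbsl2.gcdK p q m : ℤ) - W4c2invhilbsl2.nN p q m c (i - 1) / (W4c2invhilbsl2.gcdK p q m : ℤ)) := by
  open Groth.Agent.Lib.helper7 in
  obtain ⟨hA, _, hC, hD0, hDr, hDr1⟩ := Groth.Agent.S15735.result p q m hp hpq hcop hm hnt c hc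
  set r := c.length with hr
  set g : ℤ := (W4c2invhilbsl2.gcdK p q m : ℤ) with hg
  set b : ℤ := (W4c2invhilbsl2.bB p q m : ℤ) with hb
  set t : ℤ := (W4c2invhilbsl2.tT p q m : ℤ) with ht
  set P := W4c2invhilbsl2.hjP c with hP
  set Q := W4c2invhilbsl2.hjQ c with hQ
  set ν : ℕ → ℤ := fun i => t * P i - b * Q i with hν
  have hAν : ∀ i, i ≤ r + 1 → W4c2invhilbsl2.nN p q m c i = g * ν i := fun i hi => hA i hi
  have hgpos : 0 < g := by
    have := hC r le_rfl
    rw [hDr, hDr1] at this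
    exact this
  have hdiv : ∀ i, i ≤ r + 1 → W4c2invhilbsl2.nN p q m c i / g = ν i := by
    intro i hi
    rw [hAν i hi, Int.mul_ediv_cancel_left _ hgpos.ne']
  have hdec : ∀ i, i ≤ r → ν (i + 1) < ν i := by
    intro i hi
    have := hC i hi
    rw [hAν i (by omega), hAν (i + 1) (by omega)] at this
    exact lt_of_mul_lt_mul_left this hgpos.le
  have hνr1 : ν (r + 1) = 0 := by
    have := hAν (r + 1) le_rfl
    rw [hDr1] at this
    rcases mul_eq_zero.mp this.symm with h | h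
    · exact absurd h hgpos.ne'
    · exact h
  have hνnonneg : ∀ k i, i + k = r + 1 → 0 ≤ ν i := by
    intro k
    induction k with
    | zero => intro i hi; rw [show i = r + 1 by omega, hνr1]
    | succ k ih =>
      intro i hi
      have h1 := ih (i + 1) (by omega)
      have h2 := hdec i (by omega)
      linarith
  have hν0 : ν 0 = b := by simp [hν, hP, hQ, W4c2invhilbsl2.hjP, W4c2invhilbsl2.hjQ]
  have hν1 : ν 1 = t := by simp [hν, hP, hQ, W4c2invhilbsl2.hjP, W4c2invhilbsl2.hjQ]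
  have htb : t < b := by
    have := hdec 0 (by omega)
    rw [hν0] at this
    simpa [hν1] using this
  have hνle : ∀ i, 1 ≤ i → i ≤ r + 1 → ν i ≤ t := by
    intro i hi1
    induction i with
    | zero => omega
    | succ i ih =>
      intro hi
      rcases Nat.eq_zero_or_pos i with h0 | h0
      · subst h0; rw [hν1]
      · have h1 := ih (by omega) (by omega)
        have h2 := hdec i (by omega)
        linarith
  have hbpos : 0 < b := by
    have h1 : 0 ≤ ν 1 := hνnonneg r 1 (by omega)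
    rw [hν1] at h1
    linarith
  have hmono := H7_hjP_mono c hc.1
  have hdet := H7_hjPQ_det c
  constructor
  · intro i hi1 hir
    rw [hdiv i (by omega)]
    have e : t * P i = ν i + b * Q i := by simp only [hν]; ring
    show (t * P i) % b = ν i
    rw [e, Int.add_mul_emod_self_left]
    exact Int.emod_eq_of_lt (hνnonneg (r + 1 - i) i (by omega)) (lt_of_le_of_lt (hνle i hi1 (by omega)) htb)
  · intro i hi1 hir x hx0 hxP
    rw [hdiv i (by omega), hdiv (i - 1) (by omega)]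
    obtain ⟨j, rfl⟩ : ∃ j, i = j + 1 := ⟨i - 1, by omega⟩
    simp only [Nat.add_sub_cancel]
    set y := (t * x) / b with hy
    set ρ := (t * x) % b with hρ
    have hρdef : ρ = t * x - b * y := Int.emod_def _ _
    have hρ0 : 0 ≤ ρ := Int.emod_nonneg _ hbpos.ne'
    have hρb : ρ < b := Int.emod_lt_of_pos _ hbpos
    have hd := hdet j
    obtain ⟨hP'0, hPP⟩ := hmono j (by omega)
    have hT0 : 0 ≤ ν (j + 1) := hνnonneg (r + 1 - (j + 1)) (j + 1) (by omega)
    have hTT : ν (j + 1) < ν j := hdec j (by omega)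
    show ν j ≤ (t * x) % b ∧ (t * x) % b ≤ b + ν (j + 1) - ν j
    constructor
    · apply H7_core_lower (P j) (P (j + 1)) (ν j) (ν (j + 1))
        (x * Q (j + 1) - y * P (j + 1)) (-x * Q j + y * P j) x ρ hP'0 hPP hT0 hTT ?_ ?_ hx0 hxP hρ0
      · linear_combination (-x) * hd
      · rw [hρdef]; simp only [hν]; linear_combination (-(t * x - b * y)) * hd
    · have := H7_core_upper (P j) (P (j + 1)) (ν j) (ν (j + 1))
        (x * Q (j + 1) - (y + 1) * P (j + 1)) (-x * Q j + (y + 1) * P j) x (ρ - b) hP'0 hPP hT0 hTT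
        (by linear_combination (-x) * hd)
        (by rw [hρdef]; simp only [hν]; linear_combination (-(t * x - b * (y + 1))) * hd) hx0 hxP
        (by linarith)
      linarith

end Groth.Agent.S15734
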