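import Groth.Statements.S15733
import Mathlib
import Groth.Agent.S15735
import Groth.Agent.S15734

set_option autoImplicit false
open W4c2invhilbsl2

namespace Groth.Agent.S15733

/-- Let 0 < p < q be coprime integers and m ≥ 1 such that q − p does not divide m; put g = gcd(m, q−p),
b = (q−p)/g, α = ⌊mp/(q−p)⌋, β = the remainder of mp modulo q−p and t = (q−p−β)/g, so that 1 ≤ t <
b, and let b/t = c₁ − 1/(c₂ − 1/(⋯ − 1/c_r)) be the negative-regular (Hirzebruch–Jung) continued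
fraction expansion with every cᵢ ≥ 2; set P₀ = 0, P₁ = 1, Q₀ = −1, Q₁ = 0, Pᵢ = cᵢ₋₁Pᵢ₋₁ − Pᵢ₋₂, Qᵢ
= cᵢ₋₁Qᵢ₋₁ − Qᵢ₋₂ for 2 ≤ i ≤ r+1, and eᵢ = (α+1+m)Pᵢ − Qᵢ, lᵢ = (α+1)Pᵢ − Qᵢ, nᵢ = q·lᵢ − p·eᵢ,
which are non-negative integers for 0 ≤ i ≤ r+1. Then for every 1 < i ≤ r and every integer x with 0
< x < Pᵢ, the remainder of pmx + nᵢ on division by q − p equals nᵢ plus the remainder of pmx on
division by q − p (in particular nᵢ + (pmx mod (q−p)) < q − p). -/
theorem result (p q m : ℕ) (hp : 0 < p) (hpq : p < q) (hcop : Nat.Coprime p q) (hm : 0 < m) (hnt : ¬ (q - p ∣ m)) (c : List ℤ) (hc : W4c2invhilbsl2.IsHJDigits p q m c) (i : ℕ) (hi : 1 < i) (hir : i ≤ c.length)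
    (x : ℤ) (hx0 : 0 < x) (hx : x < W4c2invhilbsl2.hjP c i) :
    Int.emod ((p : ℤ) * m * x + W4c2invhilbsl2.nN p q m c i) ((q : ℤ) - p) = W4c2invhilbsl2.nN p q m c i + Int.emod ((p : ℤ) * m * x) ((q : ℤ) - p) := by
  obtain ⟨hA, _, hC, hD0, hDr, hDr1⟩ := Groth.Agent.S15735.result p q m hp hpq hcop hm hnt c hc
  obtain ⟨hSa, hSb⟩ := Groth.Agent.S15734.result p q m hp hpq hcop hm hnt c hc
  set r := c.length with hr
  set g : ℤ := (W4c2invhilbsl2.gcdK p q m : ℤ) with hg
  set b : ℤ := (W4c2invhilbsl2.bB p q m : ℤ) with hb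
  set t : ℤ := (W4c2invhilbsl2.tT p q m : ℤ) with ht
  set R : ℤ := (q : ℤ) - p with hR
  have hRpos : 0 < R := by
    have : (p : ℤ) < q := by exact_mod_cast hpq
    rw [hR]; linarith
  have hgpos : 0 < g := by
    have := hC r le_rfl
    rw [hDr, hDr1] at this
    exact this
  -- R = g * b
  have hRgb : R = g * b := by
    have := hA 0 (by omega)
    rw [hD0] at this
    simp only [W4c2invhilbsl2.hjP, W4c2invhilbsl2.hjQ] at this
    rw [this]; ring
  have hbpos : 0 < b := by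
    by_contra h
    push Not at h
    have : g * b ≤ 0 := mul_nonpos_of_nonneg_of_nonpos hgpos.le h
    linarith
  -- p m = R (α+1) - g t
  have hpm : (p : ℤ) * m = R * ((W4c2invhilbsl2.alpha p q m + 1 : ℕ) : ℤ) - g * t := by
    have h1 := hA 1 (by omega)
    simp only [W4c2invhilbsl2.nN, W4c2invhilbsl2.eE, W4c2invhilbsl2.lL, W4c2invhilbsl2.hjP,
      W4c2invhilbsl2.hjQ] at h1
    push_cast at h1 ⊢
    rw [hR]
    linarith
  set N := W4c2invhilbsl2.nN p q m c i with hN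
  set N' := W4c2invhilbsl2.nN p q m c (i - 1) with hN'
  have hNg : N = g * (N / g) := by
    have := hA i (by omega)
    rw [← hN] at this
    rw [this, Int.mul_ediv_cancel_left _ hgpos.ne']
  have hN'g : N' = g * (N' / g) := by
    have := hA (i - 1) (by omega)
    rw [← hN'] at this
    rw [this, Int.mul_ediv_cancel_left _ hgpos.ne']
  have hNN' : N < N' := by
    have := hC (i - 1) (by omega)
    rw [show i - 1 + 1 = i by omega] at this
    exact this
  have hN0 : 0 ≤ N := by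
    have h1 := hSa i (by omega) hir
    have h2 : 0 ≤ Int.emod (t * W4c2invhilbsl2.hjP c i) b := Int.emod_nonneg _ hbpos.ne'
    rw [h1] at h2
    rw [hNg]
    exact mul_nonneg hgpos.le h2
  obtain ⟨hlow, _⟩ := hSb i hi hir x hx0 hx
  set y := (t * x) / b with hy
  set ρ := (t * x) % b with hρ
  have hρdef : ρ = t * x - b * y := Int.emod_def _ _
  have hρb : ρ < b := Int.emod_lt_of_pos _ hbpos
  have hlow' : N' / g ≤ ρ := hlow
  have hgρ : N' ≤ g * ρ := by
    rw [hN'g]; exact mul_le_mul_of_nonneg_left hlow' hgpos.le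
  have hgρR : g * ρ < R := by
    rw [hRgb]; exact mul_lt_mul_of_pos_left hρb hgpos
  set A1 : ℤ := ((W4c2invhilbsl2.alpha p q m + 1 : ℕ) : ℤ) with hA1
  have e1 : (p : ℤ) * m * x = (R - g * ρ) + R * (A1 * x - y - 1) := by
    rw [hpm, hρdef, hRgb]; ring
  have e2 : (p : ℤ) * m * x + N = (R - (g * ρ - N)) + R * (A1 * x - y - 1) := by
    rw [e1]; ring
  show ((p : ℤ) * m * x + N) % R = N + ((p : ℤ) * m * x) % R
  rw [e2, Int.add_mul_emod_self_left, e1, Int.add_mul_emod_self_left,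
    Int.emod_eq_of_lt (by linarith) (by linarith), Int.emod_eq_of_lt (by linarith) (by linarith)]
  ring

end Groth.Agent.S15733
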