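import Groth.Statements.S2171
import Groth.Agent.Lib.helper1.SymMat

set_option autoImplicit false
open Finset
open Models

namespace Groth.Agent.S2171

/-- Let A be a symmetric real n by n matrix with non-negative off-diagonal entries, m a vector with
positive entries such that A m = 0, and assume no proper non-empty index set I has A i j = 0 for all
i in I and j outside I. Then x^t A x is at most 0 for every real vector x, with equality exactly
when x is a real multiple of m. -/
theorem result {n : ℕ} (A : Matrix (Fin n) (Fin n) ℝ)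
    (m : Fin n → ℝ) (hsymm : A.IsSymm) (hA : ∀ i j, i ≠ j → 0 ≤ A i j) (hm : ∀ i, 0 < m i)
    (hAm : A.mulVec m = 0)
    (hconn : ∀ I : Finset (Fin n), I.Nonempty → I ≠ univ → ∃ i ∈ I, ∃ j ∉ I, A i j ≠ 0)
    (x : Fin n → ℝ) :
    dotProduct x (A.mulVec x) ≤ 0 ∧ (dotProduct x (A.mulVec x) = 0 ↔ ∃ q : ℝ, x = q • m) := by
  classical
  have hr : ∀ i, ∑ j, A i j * m j = 0 := by
    intro i
    have := congrFun hAm i
    simpa [Matrix.mulVec, dotProduct] using this
  set y : Fin n → ℝ := fun i => x i / m i with hy
  have hx : ∀ i, x i = y i * m i := by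
    intro i
    simp only [hy]
    field_simp [(hm i).ne']
  have hdot : dotProduct x (A.mulVec x) = ∑ i, ∑ j, (y i * m i) * (A i j * (y j * m j)) := by
    rw [Groth.Agent.H1.H1_dot_mulVec]
    refine Finset.sum_congr rfl fun i _ => Finset.sum_congr rfl fun j _ => ?_
    rw [hx i, hx j]
  obtain ⟨h1, h2⟩ := Groth.Agent.H1.H1_quad_nonpos_and_eq A hsymm hA m hm
    (fun i => (hr i).le) y
  rw [hdot]
  refine ⟨h1, ⟨fun h0 => ?_, ?_⟩⟩
  · obtain ⟨-, hconst⟩ := h2 h0
    rcases Nat.eq_zero_or_pos n with hn | hn
    · subst hn
      exact ⟨0, funext fun i => i.elim0⟩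
    · let i0 : Fin n := ⟨0, hn⟩
      have hall : ∀ i, y i = y i0 := by
        by_contra hne
        rw [not_forall] at hne
        obtain ⟨k, hk⟩ := hne
        let I : Finset (Fin n) := univ.filter (fun i => y i = y i0)
        have hI1 : I.Nonempty := ⟨i0, by simp [I]⟩
        have hI2 : I ≠ univ := by
          intro e
          have : k ∈ I := by rw [e]; exact mem_univ k
          simp only [I, mem_filter, mem_univ, true_and] at this
          exact hk this
        obtain ⟨i, hi, j, hj, hAij⟩ := hconn I hI1 hI2
        simp only [I, mem_filter, mem_univ, true_and] at hi hj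
        have hij : i ≠ j := by
          rintro rfl
          exact hj hi
        have := hconst i j hij hAij
        exact hj (this ▸ hi)
      refine ⟨y i0, funext fun i => ?_⟩
      rw [hx i, hall i]
      simp
  · rintro ⟨q, rfl⟩
    rw [← hdot, Matrix.mulVec_smul, hAm]
    simp

end Groth.Agent.S2171
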