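import Groth.Statements.S15573
import Mathlib
import Groth.Agent.Lib.helper7.QuadEt

set_option autoImplicit false
universe u v
open RInv

namespace Groth.Agent.S15573

/-- Let `R` be a commutative ring with an involution `lam` and let `S` be its fixed ring. If there is an
element `r` of `R` such that `r - lam r` is a unit, then `R` is a quadratic etale `S`-algebra. -/
theorem result (S : Type u) (R : Type v) [CommRing S] [CommRing R]
    [Algebra S R] (lam : R ≃+* R) (hlam : Function.Involutive lam) (hS : RInv.IsFixedRing S R lam)
    (h : ∃ r : R, IsUnit (r - lam r)) : RInv.IsQuadEtale S R := by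
  classical
  obtain ⟨r, hu⟩ := h
  obtain ⟨hsp, hli⟩ := Groth.Agent.Lib.helper7.H7_quad_decomp S R lam hlam hS r hu
  have hli' : LinearIndependent S ![(1 : R), r] := by
    rw [LinearIndependent.pair_iff]
    intro s t hst
    apply hli
    rw [← hst, Algebra.smul_def, Algebra.smul_def, mul_one]
  have hsp' : ⊤ ≤ Submodule.span S (Set.range ![(1 : R), r]) := by
    intro x _
    obtain ⟨a, b, hab⟩ := hsp x
    have : Set.range ![(1 : R), r] = {1, r} := by
      ext y
      simp only [Set.mem_range, Fin.exists_fin_two, Set.mem_insert_iff, Set.mem_singleton_iff]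
      simp [eq_comm]
    rw [this, Submodule.mem_span_pair]
    exact ⟨a, b, by rw [hab, Algebra.smul_def, Algebra.smul_def, mul_one]⟩
  let bas : Module.Basis (Fin 2) S R := Module.Basis.mk hli' hsp'
  have : Module.Free S R := Module.Free.of_basis bas
  have : Module.Finite S R := Module.Finite.of_basis bas
  refine ⟨inferInstance, inferInstance, ?_, ?_⟩
  · rw [Algebra.formallyUnramified_iff]
    -- D r = 0
    obtain ⟨u, hu'⟩ := hu
    have hfix1 : lam (r + lam r) = r + lam r := by rw [map_add, hlam r]; ring
    have hfix2 : lam (r * lam r) = r * lam r := by rw [map_mul, hlam r]; ring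
    obtain ⟨s, hs⟩ := (hS.2 _).1 hfix1
    obtain ⟨n, hn⟩ := (hS.2 _).1 hfix2
    have hrel : r * r - algebraMap S R s * r + algebraMap S R n = 0 := by
      rw [hs, hn]; ring
    have hD : (u : R) • KaehlerDifferential.D S R r = 0 := by
      have := congrArg (KaehlerDifferential.D S R) hrel
      rw [map_add, map_sub, Derivation.leibniz, Derivation.leibniz, Derivation.map_algebraMap,
        Derivation.map_algebraMap, map_zero, hs] at this
      rw [hu']
      rw [sub_smul]
      simp only [smul_zero, add_zero] at this
      rw [add_smul] at this
      have h2 : r • KaehlerDifferential.D S R r + r • KaehlerDifferential.D S R r - (r • KaehlerDifferential.D S R r + lam r • KaehlerDifferential.D S R r) = r • KaehlerDifferential.D S R r - lam r • KaehlerDifferential.D S R r := by abel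
      rw [← h2]; exact this
    have hDr : KaehlerDifferential.D S R r = 0 := by
      have := congrArg (fun z => ((u⁻¹ : Rˣ) : R) • z) hD
      simpa [smul_smul] using this
    have htop : (⊤ : Submodule R (Ω[R⁄S])) = ⊥ := by
      rw [← KaehlerDifferential.span_range_derivation, Submodule.span_eq_bot]
      rintro _ ⟨x, rfl⟩
      obtain ⟨a, b, hab⟩ := hsp x
      rw [hab, map_add, Derivation.map_algebraMap, Derivation.leibniz, Derivation.map_algebraMap, hDr]
      simp
    exact (Submodule.subsingleton_iff R).1 (subsingleton_of_bot_eq_top htop.symm)
  · intro p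
    have : Nontrivial S := p.nontrivial
    rw [Module.rankAtStalk_eq_finrank_of_free, Pi.natCast_apply, Module.finrank_eq_card_basis bas]
    simp

end Groth.Agent.S15573
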