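import Groth.Statements.S15586
import Mathlib

set_option autoImplicit false
universe u v w
open scoped TensorProduct
open RInv

namespace Groth.Agent.S15586

/-- Let `R` be a commutative ring with an involution `lam` and fixed ring `S`, and let `S'` be a
commutative `S`-algebra. If `S'` is flat over `S`, or if `2` is invertible in `S`, then `S'` is the
fixed ring of the base-changed involution `id ⊗ lam` of `S' ⊗_S R`: the structure map `S' → S' ⊗_S
R` is injective with image the fixed elements. (In general the fixed ring does not commute with base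
change.) -/
theorem result (S : Type u) (R : Type v) (S' : Type w)
    [CommRing S] [CommRing R] [Algebra S R] [CommRing S'] [Algebra S S']
    (lam : R ≃ₐ[S] R) (hlam : Function.Involutive lam)
    (hS : RInv.IsFixedRing S R lam.toRingEquiv)
    (h : Module.Flat S S' ∨ IsUnit (2 : S)) :
    RInv.IsFixedRing S' (S' ⊗[S] R)
      (Algebra.TensorProduct.congr (AlgEquiv.refl : S' ≃ₐ[S] S') lam).toRingEquiv := by
  classical
  have hS1 : Function.Injective (algebraMap S R) := hS.1
  have hS2 : ∀ r : R, lam r = r ↔ r ∈ Set.range (algebraMap S R) := hS.2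
  obtain ⟨ι, hι⟩ : ∃ ι : S →ₗ[S] R, ι = Algebra.linearMap S R := ⟨_, rfl⟩
  have hιa : ∀ s, ι s = algebraMap S R s := by intro s; rw [hι]; rfl
  have hιinj : Function.Injective ι := by rw [hι]; exact hS1
  have hlamι : lam.toLinearMap ∘ₗ ι = ι := by
    apply LinearMap.ext; intro s
    simp only [LinearMap.comp_apply, AlgEquiv.toLinearMap_apply, hιa]
    exact (hS2 _).2 ⟨s, rfl⟩
  -- the two key facts
  have key : Function.Injective (ι.lTensor S') ∧
      ∀ z : S' ⊗[S] R, (lam.toLinearMap.lTensor S') z = z → z ∈ LinearMap.range (ι.lTensor S') := by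
    rcases h with hflat | h2
    · refine ⟨Module.Flat.lTensor_preserves_injective_linearMap (M := S') ι hιinj, ?_⟩
      have hex : Function.Exact ι (lam.toLinearMap - (LinearMap.id : R →ₗ[S] R)) := by
        intro y
        simp only [LinearMap.sub_apply, AlgEquiv.toLinearMap_apply, LinearMap.id_apply, sub_eq_zero]
        rw [hS2 y]
        constructor
        · rintro ⟨s, hs⟩; exact ⟨s, by rw [hιa, hs]⟩
        · rintro ⟨s, hs⟩; exact ⟨s, by rw [← hιa, hs]⟩
      have hex' := Module.Flat.lTensor_exact S' hex
      intro z hz
      have : ((lam.toLinearMap - (LinearMap.id : R →ₗ[S] R)).lTensor S') z = 0 := by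
        rw [LinearMap.lTensor_sub, LinearMap.sub_apply, hz, LinearMap.lTensor_id, LinearMap.id_apply,
          sub_self]
      exact (hex' z).1 this
    · obtain ⟨c, hc⟩ : ∃ c : S, 2 * c = 1 := by
        obtain ⟨u, hu⟩ := h2
        exact ⟨↑u⁻¹, by rw [← hu]; simp⟩
      obtain ⟨q, hq⟩ : ∃ q : R →ₗ[S] R, q = c • ((LinearMap.id : R →ₗ[S] R) + lam.toLinearMap) := ⟨_, rfl⟩
      have hqr : ∀ x, q x ∈ LinearMap.range ι := by
        intro x
        have : lam (q x) = q x := by
          rw [hq]
          simp only [LinearMap.smul_apply, LinearMap.add_apply, LinearMap.id_apply,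
            AlgEquiv.toLinearMap_apply, map_smul, map_add, hlam x]
          rw [add_comm]
        obtain ⟨s, hs⟩ := (hS2 _).1 this
        exact ⟨s, by rw [hιa, hs]⟩
      let p : R →ₗ[S] S := (LinearEquiv.ofInjective ι hιinj).symm.toLinearMap ∘ₗ
        (q.codRestrict (LinearMap.range ι) hqr)
      have hιp : ι ∘ₗ p = q := by
        apply LinearMap.ext; intro x
        simp only [p, LinearMap.comp_apply, LinearEquiv.coe_coe]
        have := LinearEquiv.apply_symm_apply (LinearEquiv.ofInjective ι hιinj)
          (q.codRestrict (LinearMap.range ι) hqr x)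
        have h3 := congrArg Subtype.val this
        rw [LinearEquiv.ofInjective_apply] at h3
        rw [h3]; rfl
      have hqι : q ∘ₗ ι = ι := by
        apply LinearMap.ext; intro s
        have h4 : lam (ι s) = ι s := by
          have := LinearMap.congr_fun hlamι s
          simpa using this
        rw [hq]
        simp only [LinearMap.comp_apply, LinearMap.smul_apply, LinearMap.add_apply,
          LinearMap.id_apply, AlgEquiv.toLinearMap_apply, h4]
        rw [← two_smul S (ι s), smul_smul, mul_comm, hc, one_smul]
      have hpι : p ∘ₗ ι = LinearMap.id := by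
        apply LinearMap.ext; intro s
        apply hιinj
        have := LinearMap.congr_fun hιp (ι s)
        rw [LinearMap.comp_apply] at this
        rw [LinearMap.comp_apply, this, LinearMap.id_apply]
        exact LinearMap.congr_fun hqι s
      constructor
      · have : (p.lTensor S') ∘ₗ (ι.lTensor S') = LinearMap.id := by
          rw [← LinearMap.lTensor_comp, hpι, LinearMap.lTensor_id]
        exact Function.LeftInverse.injective (g := p.lTensor S') (fun z => LinearMap.congr_fun this z)
      · intro z hz
        have h5 : (q.lTensor S') z = z := by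
          rw [hq, LinearMap.lTensor_smul, LinearMap.lTensor_add, LinearMap.lTensor_id]
          simp only [LinearMap.smul_apply, LinearMap.add_apply, LinearMap.id_apply, hz]
          rw [← two_smul S z, smul_smul, mul_comm, hc, one_smul]
        rw [← hιp, LinearMap.lTensor_comp] at h5
        exact ⟨_, h5⟩
  obtain ⟨kinj, kfix⟩ := key
  have hT : ∀ z : S' ⊗[S] R, (Algebra.TensorProduct.congr (AlgEquiv.refl : S' ≃ₐ[S] S') lam).toRingEquiv z
      = (lam.toLinearMap.lTensor S') z := by
    intro z
    induction z using TensorProduct.induction_on with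
    | zero => simp
    | tmul a b => simp
    | add x y hx hy => rw [map_add, map_add, hx, hy]
  have halg : ∀ s' : S', algebraMap S' (S' ⊗[S] R) s' = (ι.lTensor S') ((TensorProduct.rid S S').symm s') := by
    intro s'
    rw [TensorProduct.rid_symm_apply, LinearMap.lTensor_tmul, hιa, map_one,
      Algebra.TensorProduct.algebraMap_apply]
    simp
  constructor
  · intro a b hab
    rw [halg, halg] at hab
    exact (TensorProduct.rid S S').symm.injective (kinj hab)
  · intro z
    rw [hT]
    constructor
    · intro hz
      obtain ⟨w, hw⟩ := kfix z hz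
      refine ⟨TensorProduct.rid S S' w, ?_⟩
      rw [halg, LinearEquiv.symm_apply_apply, hw]
    · rintro ⟨s', rfl⟩
      rw [halg, ← LinearMap.comp_apply, ← LinearMap.lTensor_comp, hlamι]

end Groth.Agent.S15586
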