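import Groth.Statements.S18188
import Mathlib

set_option autoImplicit false
universe u
open OrbRR

namespace Groth.Agent.S18188

/-- Let K be a field in which 6 ≠ 0, let j < N be natural numbers (so N ≥ 1), and let ζ ∈ K be a
primitive N-th root of unity. Then the sum over i = 1, …, N − 1 of ζ^{ij} / (2 − ζ^i − ζ^{−i})
equals j(j − N)/2 + (N² − 1)/12. (The published setting is characteristic zero; the identity is
stated here over any field of characteristic different from 2 and 3, where the published proof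
applies unchanged: a field containing a primitive N-th root of unity has characteristic prime to N,
and each denominator 2 − ζ^i − ζ^{−i} = −(1 − ζ^i)²/ζ^i with 0 < i < N is nonzero. In
characteristics 2 and 3 the right-hand side has no meaning.) -/
theorem result (K : Type u) [Field K] (h6 : (6 : K) ≠ 0)
    (N j : ℕ) (hj : j < N) (ζ : K) (hζ : IsPrimitiveRoot ζ N) :
    ∑ i ∈ Finset.Ioo 0 N, ζ ^ (i * j) / (2 - ζ ^ i - (ζ ^ i)⁻¹) =
      (j : K) * ((j : K) - (N : K)) / 2 + ((N : K) ^ 2 - 1) / 12 := by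
  classical
  have hNpos : 0 < N := by omega
  have hN0 : N ≠ 0 := by omega
  have : NeZero N := ⟨hN0⟩
  have hNK : (N : K) ≠ 0 := (hζ.neZero' (R := K)).ne
  have h2 : (2 : K) ≠ 0 := fun h => h6 (by rw [show (6 : K) = 2 * 3 by norm_num, h, zero_mul])
  have h3 : (3 : K) ≠ 0 := fun h => h6 (by rw [show (6 : K) = 2 * 3 by norm_num, h, mul_zero])
  have h12 : (12 : K) ≠ 0 := by
    rw [show (12 : K) = 2 * 6 by norm_num]; exact mul_ne_zero h2 h6
  have hζ0 : ζ ≠ 0 := hζ.ne_zero hN0
  have hζN : ζ ^ N = 1 := hζ.pow_eq_one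
  obtain ⟨S, hS⟩ : ∃ S : ℕ → K, ∀ j, S j =
      ∑ i ∈ Finset.Ioo 0 N, ζ ^ (i * j) / (2 - ζ ^ i - (ζ ^ i)⁻¹) := ⟨_, fun _ => rfl⟩
  obtain ⟨P, hP⟩ : ∃ P : ℕ → K, ∀ j : ℕ, P j =
      (j : K) * ((j : K) - (N : K)) / 2 + ((N : K) ^ 2 - 1) / 12 := ⟨_, fun _ => rfl⟩
  rw [← hS, ← hP]
  have hz1 : ∀ i ∈ Finset.Ioo 0 N, ζ ^ i ≠ 1 := fun i hi =>
    hζ.pow_ne_one_of_pos_of_lt (by have := (Finset.mem_Ioo.1 hi).1; omega)
      (Finset.mem_Ioo.1 hi).2
  have hD : ∀ i ∈ Finset.Ioo 0 N,
      2 - ζ ^ i - (ζ ^ i)⁻¹ = -((ζ ^ i - 1) ^ 2) / ζ ^ i := by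
    intro i _
    have : ζ ^ i ≠ 0 := pow_ne_zero i hζ0
    field_simp
    ring
  have hgeom : ∀ z : K, z ^ N = 1 → z ≠ 1 → ∑ t ∈ Finset.range N, z ^ t = 0 := by
    intro z hzN hz
    have := geom_sum_mul z N
    rw [hzN, sub_self] at this
    rcases mul_eq_zero.1 this with h | h
    · exact h
    · exact absurd (sub_eq_zero.1 h) hz
  have hIco : Finset.Ico (0 + 1) N = Finset.Ioo 0 N := by
    ext x; simp only [Finset.mem_Ico, Finset.mem_Ioo]; omega
  have hsplit : ∀ f : ℕ → K, ∑ i ∈ Finset.range N, f i = f 0 + ∑ i ∈ Finset.Ioo 0 N, f i := by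
    intro f
    rw [Finset.range_eq_Ico, Finset.sum_eq_sum_Ico_succ_bot hNpos, hIco]
  -- second difference
  have hsd : ∀ j', j' + 1 < N → S (j' + 2) + S j' - 2 * S (j' + 1) = 1 := by
    intro j' hj'
    rw [hS, hS, hS, Finset.mul_sum, ← Finset.sum_add_distrib, ← Finset.sum_sub_distrib]
    have hterm : ∀ i ∈ Finset.Ioo 0 N,
        (ζ ^ (i * (j' + 2)) / (2 - ζ ^ i - (ζ ^ i)⁻¹) + ζ ^ (i * j') / (2 - ζ ^ i - (ζ ^ i)⁻¹)
          - 2 * (ζ ^ (i * (j' + 1)) / (2 - ζ ^ i - (ζ ^ i)⁻¹))) = -(ζ ^ (j' + 1)) ^ i := by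
      intro i hi
      have h0 : ζ ^ i ≠ 0 := pow_ne_zero i hζ0
      have h1 : ζ ^ i - 1 ≠ 0 := sub_ne_zero.2 (hz1 i hi)
      have e1 : ζ ^ (i * (j' + 2)) = ζ ^ (i * j') * ζ ^ i * ζ ^ i := by
        rw [show i * (j' + 2) = i * j' + i + i by ring, pow_add, pow_add]
      have e2 : ζ ^ (i * (j' + 1)) = ζ ^ (i * j') * ζ ^ i := by
        rw [show i * (j' + 1) = i * j' + i by ring, pow_add]
      have e3 : (ζ ^ (j' + 1)) ^ i = ζ ^ (i * j') * ζ ^ i := by
        rw [← pow_mul, show (j' + 1) * i = i * j' + i by ring, pow_add]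
      rw [hD i hi, e1, e2, e3]
      field_simp
      ring
    rw [Finset.sum_congr rfl hterm, Finset.sum_neg_distrib]
    have hg := hgeom (ζ ^ (j' + 1))
      (by rw [← pow_mul, mul_comm, pow_mul, hζN, one_pow])
      (hζ.pow_ne_one_of_pos_of_lt (by omega) hj')
    rw [hsplit, pow_zero] at hg
    linear_combination (-1 : K) * hg
  -- periodicity
  have hper : S N = S 0 := by
    rw [hS, hS]
    refine Finset.sum_congr rfl fun i _ => ?_
    rw [mul_comm i N, pow_mul, hζN, one_pow, mul_zero, pow_zero]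
  -- total sum
  have htot : ∑ t ∈ Finset.range N, S t = 0 := by
    have : ∀ t ∈ Finset.range N, S t = ∑ i ∈ Finset.Ioo 0 N,
        ζ ^ (i * t) / (2 - ζ ^ i - (ζ ^ i)⁻¹) := fun t _ => hS t
    rw [Finset.sum_congr rfl this, Finset.sum_comm]
    refine Finset.sum_eq_zero fun i hi => ?_
    rw [← Finset.sum_div]
    have : ∑ t ∈ Finset.range N, ζ ^ (i * t) = ∑ t ∈ Finset.range N, (ζ ^ i) ^ t :=
      Finset.sum_congr rfl fun t _ => by rw [pow_mul]
    rw [this, hgeom (ζ ^ i) (by rw [← pow_mul, mul_comm, pow_mul, hζN, one_pow]) (hz1 i hi),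
      zero_div]
  -- polynomial facts
  have hPsd : ∀ j' : ℕ, P (j' + 2) + P j' - 2 * P (j' + 1) = 1 := by
    intro j'
    rw [hP, hP, hP]
    push_cast
    field_simp
    ring
  have hPper : P N = P 0 := by
    rw [hP, hP]; push_cast; ring
  have hPsum : ∀ n : ℕ, ∑ t ∈ Finset.range n, P t =
      ((n : K) * ((n : K) - 1) * (2 * (n : K) - 1) / 6 - (N : K) * (n : K) * ((n : K) - 1) / 2) / 2
        + (n : K) * (((N : K) ^ 2 - 1) / 12) := by
    intro n
    induction n with
    | zero => simp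
    | succ n ih =>
      rw [Finset.sum_range_succ, ih, hP]
      push_cast
      field_simp
      ring
  have hPtot : ∑ t ∈ Finset.range N, P t = 0 := by
    rw [hPsum]
    field_simp
    ring
  -- E = S - P is affine
  obtain ⟨c, hc⟩ : ∃ c : K, c = (S 1 - P 1) - (S 0 - P 0) := ⟨_, rfl⟩
  have hE : ∀ t : ℕ, (t ≤ N → S t - P t = (S 0 - P 0) + (t : K) * c) ∧
      (t + 1 ≤ N → S (t + 1) - P (t + 1) = (S 0 - P 0) + ((t : K) + 1) * c) := by
    intro t
    induction t with
    | zero =>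
      refine ⟨fun _ => by simp, fun _ => ?_⟩
      rw [hc]; push_cast; ring
    | succ t ih =>
      refine ⟨fun h => ?_, fun h => ?_⟩
      · have := ih.2 h
        rw [this]; push_cast; ring
      · have e1 := ih.1 (by omega)
        have e2 := ih.2 (by omega)
        have e3 := hsd t (by omega)
        have e4 := hPsd t
        have : S (t + 1 + 1) - P (t + 1 + 1)
            = 2 * (S (t + 1) - P (t + 1)) - (S t - P t) := by
          have h5 : t + 1 + 1 = t + 2 := rfl
          rw [h5]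
          linear_combination e3 - e4
        rw [this, e1, e2]; push_cast; ring
  have hc0 : c = 0 := by
    have e1 := (hE N).1 le_rfl
    rw [hper, hPper] at e1
    have : (N : K) * c = 0 := by linear_combination -e1
    rcases mul_eq_zero.1 this with h | h
    · exact absurd h hNK
    · exact h
  have hEconst : ∀ t ≤ N, S t - P t = S 0 - P 0 := by
    intro t ht
    rw [(hE t).1 ht, hc0, mul_zero, add_zero]
  have hE0 : S 0 - P 0 = 0 := by
    have h1 : ∑ t ∈ Finset.range N, (S t - P t) = (N : K) * (S 0 - P 0) := by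
      rw [Finset.sum_congr rfl (fun t ht => hEconst t (Finset.mem_range.1 ht).le),
        Finset.sum_const, Finset.card_range, nsmul_eq_mul]
    rw [Finset.sum_sub_distrib, htot, hPtot, sub_zero] at h1
    rcases mul_eq_zero.1 h1.symm with h | h
    · exact absurd h hNK
    · exact h
  have := hEconst j hj.le
  rw [hE0] at this
  exact sub_eq_zero.1 this

end Groth.Agent.S18188
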