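import Groth.Statements.S15171
import Mathlib
import Groth.Agent.Lib.helper7.DivAlg2
import Groth.Agent.Lib.helper7.DivAlg3

set_option autoImplicit false
universe u v w
open BddFin

namespace Groth.Agent.S15171

/-- (3) ⇒ (1): let K be a field with char K = p > 0 and A a central division K-algebra with dim_K A = p
^ 2. If some Galois extension L of K with [L : K] = p admits a K-algebra embedding into A, then some
element of A is not separable over K. -/
theorem result
    (K : Type u) [Field K] (p : ℕ) [Fact p.Prime] [CharP K p]
    (A : Type v) [DivisionRing A] [Algebra K A] [Algebra.IsCentral K A] [FiniteDimensional K A]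
    (hA : Module.finrank K A = p ^ 2) (L : Type w) [Field L] [Algebra K L] [IsGalois K L]
    (hL : Module.finrank K L = p) (ι : L →ₐ[K] A) :
    ∃ v : A, ¬ IsSeparable K v := by
  classical
  open Groth.Agent.Lib.helper7 Polynomial IntermediateField in
  have hp : p.Prime := Fact.out
  obtain ⟨σ, θ, hσθ, a, ha⟩ := H7_exists_AS K L p hL
  set t := ι θ with ht
  have htp : t ^ p = t + algebraMap K A a := by
    have h1 : ι (θ ^ p - θ) = algebraMap K A a := by rw [ha, AlgHom.commutes]
    rw [map_sub, map_pow] at h1
    rw [← h1]; abel
  set R : Module.End K A := LinearMap.mulRight K t with hR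
  set Lt : Module.End K A := LinearMap.mulLeft K t with hLt
  set T : Module.End K A := R - Lt with hT
  have hinjalg : Function.Injective (algebraMap K (Module.End K A)) := by
    intro a b h
    have := congrArg (fun f : Module.End K A => f 1) h
    simp only [Module.algebraMap_end_apply] at this
    rw [Algebra.smul_def, Algebra.smul_def, mul_one, mul_one] at this
    exact (algebraMap K A).injective this
  have hcharE : CharP (Module.End K A) p := charP_of_injective_algebraMap hinjalg p
  have hcomm : Commute R Lt := (LinearMap.commute_mulLeft_right (R := K) t t).symm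
  have hRn : ∀ (n : ℕ) (x : A), (R ^ n) x = x * t ^ n := by
    intro n
    induction n with
    | zero => intro x; simp
    | succ n ih =>
      intro x
      rw [pow_succ, Module.End.mul_apply, ih, hR, LinearMap.mulRight_apply, pow_succ']
      rw [mul_assoc]
  have hLn : ∀ (n : ℕ) (x : A), (Lt ^ n) x = t ^ n * x := by
    intro n
    induction n with
    | zero => intro x; simp
    | succ n ih =>
      intro x
      rw [pow_succ, Module.End.mul_apply, ih, hLt, LinearMap.mulLeft_apply, pow_succ]
      rw [mul_assoc]
  have hTp : T ^ p = T := by
    rw [hT, sub_pow_char_of_commute p hcomm]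
    ext x
    simp only [LinearMap.sub_apply, hRn, hLn]
    rw [htp, mul_add, add_mul, Algebra.commutes a x, hR, hLt, LinearMap.mulRight_apply,
      LinearMap.mulLeft_apply]
    abel
  have hTx : ∀ x : A, T x = x * t - t * x := by
    intro x
    rw [hT, LinearMap.sub_apply, hR, hLt, LinearMap.mulRight_apply, LinearMap.mulLeft_apply]
  have hT0 : T ≠ 0 := by
    intro h0
    have hcen : t ∈ Subalgebra.center K A := by
      rw [Subalgebra.mem_center_iff]
      intro x
      have := hTx x
      rw [h0, LinearMap.zero_apply] at this
      exact (sub_eq_zero.mp this.symm)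
    rw [Algebra.IsCentral.center_eq_bot, Algebra.mem_bot] at hcen
    obtain ⟨c, hc⟩ := hcen
    have hθc : θ = algebraMap K L c := by
      apply ι.toRingHom.injective
      show ι θ = ι (algebraMap K L c)
      rw [AlgHom.commutes, ← ht, hc]
    rw [hθc, AlgEquiv.commutes] at hσθ
    have : (1 : L) = 0 := by
      have := hσθ
      nth_rewrite 1 [← add_zero (algebraMap K L c)] at this
      exact (add_left_cancel this).symm
    exact one_ne_zero this
  obtain ⟨c, hc0, x, hx0, hTxc⟩ := H7_eigen K p A T hTp hT0
  have hxt : x * t = (t + algebraMap K A c) * x := by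
    have h1 : x * t - t * x = c • x := by rw [← hTx]; exact hTxc
    rw [add_mul, ← Algebra.smul_def, ← h1]; abel
  have hxn : ∀ n : ℕ, x ^ n * t = (t + algebraMap K A ((n : K) * c)) * x ^ n := by
    intro n
    induction n with
    | zero => simp
    | succ n ih =>
      have hcx : ∀ y : A, y * algebraMap K A c = algebraMap K A c * y :=
        fun y => (Algebra.commutes c y).symm
      calc x ^ (n + 1) * t = x ^ n * (x * t) := by rw [pow_succ, mul_assoc]
        _ = x ^ n * (t * x) + x ^ n * (algebraMap K A c * x) := by rw [hxt, add_mul, mul_add]
        _ = (x ^ n * t) * x + algebraMap K A c * (x ^ n * x) := by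
            rw [← mul_assoc, ← mul_assoc (x ^ n) (algebraMap K A c), hcx, mul_assoc (algebraMap K A c)]
        _ = (t + algebraMap K A ((n : K) * c)) * x ^ (n + 1)
              + algebraMap K A c * x ^ (n + 1) := by rw [ih, mul_assoc, ← pow_succ]
        _ = (t + algebraMap K A (((n + 1 : ℕ) : K) * c)) * x ^ (n + 1) := by
            have e : algebraMap K A (((n + 1 : ℕ) : K) * c) =
                algebraMap K A ((n : K) * c) + algebraMap K A c := by
              rw [← map_add]; congr 1; push_cast; ring
            rw [e]
            simp only [add_mul]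
            abel
  have hxp : x ^ p * t = t * x ^ p := by
    rw [hxn p, CharP.cast_eq_zero K p, zero_mul, map_zero, add_zero]
  have hcx0 : algebraMap K A c * x ≠ 0 := by
    apply mul_ne_zero _ hx0
    rw [Ne, map_eq_zero]; exact hc0
  have hne : x * t ≠ t * x := by
    intro h
    rw [hxt, add_mul] at h
    exact hcx0 (by
      have := h
      nth_rewrite 2 [← add_zero (t * x)] at this
      exact add_left_cancel this)
  have hnc : ∃ a b : A, a * b ≠ b * a := ⟨x, t, hne⟩
  have hxK : x ∉ (algebraMap K A).range := by
    rintro ⟨k, rfl⟩
    exact hne (Algebra.commutes k t)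
  have hdx : (minpoly K x).natDegree = p := by
    rcases H7_natDegree_minpoly_of_prime_sq K A p hp hA hnc x with h | h
    · exact absurd (minpoly.natDegree_eq_one_iff.mp h) hxK
    · exact h
  have hbK : x ^ p ∈ (algebraMap K A).range := by
    have hint : IsIntegral K x := Algebra.IsIntegral.isIntegral x
    have hirr : Fact (Irreducible (minpoly K x)) := ⟨minpoly.irreducible hint⟩
    set φ := H7_phi K A x with hφ
    set r := AdjoinRoot.root (minpoly K x) with hr
    have hφr : φ r = x := H7_phi_root K A x
    have hfin : Module.finrank K (AdjoinRoot (minpoly K x)) = p := by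
      rw [(AdjoinRoot.powerBasis (minpoly.ne_zero hint)).finrank, AdjoinRoot.powerBasis_dim, hdx]
    have hfd : FiniteDimensional K (AdjoinRoot (minpoly K x)) :=
      Module.finite_of_finrank_pos (by rw [hfin]; exact hp.pos)
    have hsimple := IntermediateField.isSimpleOrder_of_finrank_prime K (AdjoinRoot (minpoly K x))
      (by rw [hfin]; exact hp)
    rcases hsimple.eq_bot_or_eq_top (K⟮r ^ p⟯) with h | h
    · have hmem : r ^ p ∈ (⊥ : IntermediateField K (AdjoinRoot (minpoly K x))) := by
        rw [← h]; exact IntermediateField.mem_adjoin_simple_self K _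
      obtain ⟨k, hk⟩ := IntermediateField.mem_bot.mp hmem
      refine ⟨k, ?_⟩
      rw [← hφr, ← map_pow, ← hk, AlgHom.commutes]
    · exfalso
      have hrmem : r ∈ K⟮r ^ p⟯ := by rw [h]; trivial
      have hintr : IsIntegral K (r ^ p) := Algebra.IsIntegral.isIntegral _
      rw [← IntermediateField.mem_toSubalgebra,
        IntermediateField.adjoin_simple_toSubalgebra_of_isAlgebraic hintr.isAlgebraic,
        Algebra.adjoin_singleton_eq_range_aeval] at hrmem
      obtain ⟨g, hg⟩ := hrmem
      have hxg : aeval (x ^ p) g = x := by
        have hg' : aeval (r ^ p) g = r := hg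
        have := congrArg φ hg'
        rw [← Polynomial.aeval_algHom_apply, map_pow, hφr] at this
        exact this
      have hcomm' : Commute (x ^ p) t := hxp
      have hcg : ∀ g : K[X], aeval (x ^ p) g * t = t * aeval (x ^ p) g := by
        intro g
        induction g using Polynomial.induction_on' with
        | add g1 g2 h1 h2 => rw [map_add, add_mul, mul_add, h1, h2]
        | monomial n k =>
          rw [aeval_monomial, mul_assoc, (hcomm'.pow_left n).eq, ← mul_assoc,
            Algebra.commutes k t, mul_assoc]
      have := hcg g
      rw [hxg] at this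
      exact hne this
  exact ⟨x, H7_not_isSeparable_of_pow K A p x hbK hxK⟩

end Groth.Agent.S15171
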