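import Groth.Statements.S0320
import Groth.Statements.S0320
import Mathlib
import Groth.Agent.Lib.helper9.H9_DepthQuot

set_option autoImplicit false
universe u v
open LocCoh

namespace Groth.Agent.S0320

/-- For a finite module M over a Noetherian ring with IM ≠ M and x ∈ I a non-zero-divisor on M, the
I-depth of M/xM is one less than that of M. -/
theorem result (R : Type u) [CommRing R] [IsNoetherianRing R] (I : Ideal R) (M : Type u) [AddCommGroup M] [Module R M] [Module.Finite R M] (hIM : I • (⊤ : Submodule R M) ≠ ⊤) (x : R) (hx : x ∈ I) (hreg : IsSMulRegular M x) : LocCoh.idealDepth I (QuotSMulTop x M) + 1 = LocCoh.idealDepth I M := by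
  have hIM' := H9DepthQuot.smul_top_quot_ne_top R I M hIM x hx
  rw [LocCoh.idealDepth, LocCoh.idealDepth, if_neg hIM, if_neg hIM']
  exact H9DepthQuot.sup_quot R I M x hx hreg

end Groth.Agent.S0320
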