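import Groth.Statements.S2089
import Groth.Statements.S2089
import Mathlib
import Groth.Agent.Lib.helper9.H9_Ischebeck

set_option autoImplicit false
universe u
open CAlg

namespace Groth.Agent.S2089

/-- Let `R` be a Noetherian local ring and `M` a finite `R`-module. For every associated prime `𝔭` of
`M` the depth of `M` is at most the dimension of `R/𝔭`. -/
theorem result {R M : Type u} [CommRing R] [IsLocalRing R] [IsNoetherianRing R]
    [AddCommGroup M] [Module R M] [Module.Finite R M] (p : Ideal R) (hp : p ∈ associatedPrimes R M) :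
    ((LocCoh.depth R M : ℕ∞) : WithBot ℕ∞) ≤ ringKrullDim (R ⧸ p) := by
  classical
  obtain ⟨hprime, x, hx⟩ := (isAssociatedPrime_iff).mp hp
  have hx0 : x ≠ 0 := by
    intro h0
    apply hprime.ne_top
    rw [hx, h0]
    ext r
    simp [Submodule.mem_colon_singleton]
  haveI : Nontrivial M := ⟨⟨x, 0, hx0⟩⟩
  haveI : Nontrivial (R ⧸ p) := Ideal.Quotient.nontrivial_iff.mpr hprime.ne_top
  unfold LocCoh.depth LocCoh.idealDepth
  split_ifs with htop
  · exfalso
    have h1 := Submodule.eq_bot_of_le_smul_of_le_jacobson_bot (IsLocalRing.maximalIdeal R)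
      (⊤ : Submodule R M) Module.Finite.fg_top (by rw [htop])
      (IsLocalRing.maximalIdeal_le_jacobson ⊥)
    exact top_ne_bot h1
  · have hne : ringKrullDim (R ⧸ p) ≠ ⊥ := by
      intro hb
      have h0 := ringKrullDim_nonneg_of_nontrivial (R := R ⧸ p)
      rw [hb] at h0
      exact absurd h0 (by simp)
    obtain ⟨e, he⟩ := WithBot.ne_bot_iff_exists.mp hne
    rw [← he]
    refine WithBot.coe_le_coe.mpr (iSup₂_le (fun rs hrs => ?_))
    by_contra hlt
    push Not at hlt
    have hdim : Module.supportDim R (R ⧸ p) < ((rs.length : ℕ) : WithBot ℕ∞) := by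
      rw [Module.supportDim_quotient_eq_ringKrullDim, ← he]
      exact_mod_cast WithBot.coe_lt_coe.mpr hlt
    haveI := H9Ischebeck.main' R M rs.length
      (fun i hi => H9Rees.ext_sub_of_valid R _ M rs hrs i hi) rs.length (R ⧸ p) hdim 0 (by omega)
    let f : (R ⧸ p) →ₗ[R] M := Submodule.liftQ p (LinearMap.toSpanSingleton R M x) (by
      intro r hr
      rw [hx, Submodule.mem_colon_singleton, Submodule.mem_bot] at hr
      simpa using hr)
    have hf1 : f (Ideal.Quotient.mk p 1) = x := by
      change (LinearMap.toSpanSingleton R M x) 1 = x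
      simp
    have h2 : CategoryTheory.Abelian.Ext.mk₀ (ModuleCat.ofHom f) = 0 := Subsingleton.elim _ _
    have hz : ModuleCat.ofHom f = 0 :=
      (CategoryTheory.Abelian.Ext.mk₀_bijective _ _).1 (h2.trans (CategoryTheory.Abelian.Ext.mk₀_zero _ _).symm)
    apply hx0
    rw [← hf1]
    have h3 := congrArg (fun φ => φ.hom (Ideal.Quotient.mk p 1)) hz
    simpa using h3

end Groth.Agent.S2089
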