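import Groth.Statements.S2083
import Groth.Statements.S2083
import Mathlib
import Groth.Agent.Lib.helper9.H9_Ischebeck
import Groth.Agent.S2089
import Groth.Agent.S0320

set_option autoImplicit false
universe u
open CAlg

namespace Groth.Agent.S2083

/-- Let `R` be a Noetherian local ring, `M` a finite Cohen–Macaulay `R`-module and `g` a member of the
maximal ideal for which the support of `M/gM` has dimension exactly one less than that of `M`. Then
`g` is a nonzerodivisor on `M`, and the quotient `M/gM` is again Cohen–Macaulay, with depth one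
smaller than that of `M`. -/
theorem result {R M : Type u} [CommRing R] [IsLocalRing R] [IsNoetherianRing R]
    [AddCommGroup M] [Module R M] [Module.Finite R M] (hM : LocCoh.IsCohenMacaulayModule R M) (g : R)
    (hg : g ∈ IsLocalRing.maximalIdeal R)
    (hdim : Module.supportDim R (M ⧸ Ideal.span {g} • (⊤ : Submodule R M)) + 1 = Module.supportDim R M) :
    IsSMulRegular M g ∧ LocCoh.IsCohenMacaulayModule R (M ⧸ Ideal.span {g} • (⊤ : Submodule R M)) ∧
      LocCoh.depth R (M ⧸ Ideal.span {g} • (⊤ : Submodule R M)) + 1 = LocCoh.depth R M := by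
  open scoped Pointwise in
  have hs : Ideal.span {g} • (⊤ : Submodule R M) = g • (⊤ : Submodule R M) :=
    Submodule.ideal_span_singleton_smul g ⊤
  rw [hs] at hdim ⊢
  change Module.supportDim R (QuotSMulTop g M) + 1 = _ at hdim
  change IsSMulRegular M g ∧ LocCoh.IsCohenMacaulayModule R (QuotSMulTop g M) ∧
    LocCoh.depth R (QuotSMulTop g M) + 1 = LocCoh.depth R M
  unfold LocCoh.IsCohenMacaulayModule at hM ⊢
  have hnt : Nontrivial M := by
    by_contra hne
    rw [not_nontrivial_iff_subsingleton] at hne
    rw [(Module.supportDim_eq_bot_iff_subsingleton R M).mpr hne] at hM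
    exact WithBot.bot_ne_coe hM
  have hmM : IsLocalRing.maximalIdeal R • (⊤ : Submodule R M) ≠ ⊤ := by
    intro htop
    have h1 := Submodule.eq_bot_of_le_smul_of_le_jacobson_bot (IsLocalRing.maximalIdeal R)
      (⊤ : Submodule R M) Module.Finite.fg_top (by rw [htop])
      (IsLocalRing.maximalIdeal_le_jacobson ⊥)
    exact top_ne_bot h1
  obtain ⟨r, hr⟩ := H9Ischebeck.exists_nat_supportDim_lt R (QuotSMulTop g M)
  have hnb : Module.supportDim R (QuotSMulTop g M) ≠ ⊥ := by
    intro hb
    rw [hb, WithBot.bot_add] at hdim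
    exact Module.supportDim_ne_bot_of_nontrivial R M hdim.symm
  obtain ⟨n, hn⟩ : ∃ n : ℕ, Module.supportDim R (QuotSMulTop g M) = (n : WithBot ℕ∞) := by
    obtain ⟨a', ha'⟩ := WithBot.ne_bot_iff_exists.mp hnb
    rw [← ha'] at hr ⊢
    have h1 : a' < (r : ℕ∞) := by exact_mod_cast hr
    obtain ⟨n, rfl⟩ := ENat.ne_top_iff_exists.mp (ne_top_of_lt h1)
    exact ⟨n, rfl⟩
  have hreg : IsSMulRegular M g := by
    by_contra hnreg
    have hmem : g ∈ ⋃ p ∈ associatedPrimes R M, (p : Set R) := by
      rw [biUnion_associatedPrimes_eq_compl_regular]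
      exact hnreg
    simp only [Set.mem_iUnion] at hmem
    obtain ⟨p, hp, hgp⟩ := hmem
    have h1 := Groth.Agent.S2089.result p hp
    haveI := hp.isPrime
    have hpM : (⟨p, hp.isPrime⟩ : PrimeSpectrum R) ∈ Module.support R M :=
      Module.mem_support_iff_of_finite.mpr (by
        rw [← Submodule.annihilator_top]
        exact hp.annihilator_le)
    have hpQ : (⟨p, hp.isPrime⟩ : PrimeSpectrum R) ∈ Module.support R (QuotSMulTop g M) := by
      rw [Module.support_quotSMulTop]
      exact ⟨hpM, by simpa using hgp⟩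
    have hann := Module.mem_support_iff_of_finite.mp hpQ
    have h2 : ringKrullDim (R ⧸ p) ≤ Module.supportDim R (QuotSMulTop g M) := by
      rw [Module.supportDim_eq_ringKrullDim_quotient_annihilator]
      exact ringKrullDim_le_of_surjective (Ideal.Quotient.factor hann)
        (Ideal.Quotient.factor_surjective hann)
    have h3 : Module.supportDim R (QuotSMulTop g M) + 1 ≤
        Module.supportDim R (QuotSMulTop g M) := by
      rw [hdim, hM]
      exact h1.trans h2
    rw [hn] at h3
    have h4 : (n + 1 : ℕ) ≤ n := by exact_mod_cast h3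
    omega
  have hdep : LocCoh.depth R (QuotSMulTop g M) + 1 = LocCoh.depth R M :=
    Groth.Agent.S0320.result R (IsLocalRing.maximalIdeal R) M hmM g hg hreg
  refine ⟨hreg, ?_, hdep⟩
  rw [hn]
  rw [hn, hM, ← hdep] at hdim
  have h5 : ((n + 1 : ℕ) : ℕ∞) = LocCoh.depth R (QuotSMulTop g M) + 1 := by
    exact_mod_cast hdim
  have h6 : LocCoh.depth R (QuotSMulTop g M) ≠ ⊤ := by
    intro ht
    rw [ht] at h5
    simp at h5
  obtain ⟨k, hk⟩ := ENat.ne_top_iff_exists.mp h6
  rw [← hk] at h5 ⊢
  have h7 : n + 1 = k + 1 := by exact_mod_cast h5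
  have h8 : n = k := by omega
  rw [h8]
  rfl

end Groth.Agent.S2083
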