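import Groth.Statements.S0315
import Groth.Statements.S0315
import Groth.Agent.Lib.helper9.H9_Melk

set_option autoImplicit false
universe u v
open Matlis

namespace Groth.Agent.S0315

/-- Over a Noetherian local ring a module has the descending chain condition exactly when it is killed
elementwise by powers of the maximal ideal and its socle is finite-dimensional over the residue
field. -/
theorem result (R : Type u) [CommRing R] [IsLocalRing R] [IsNoetherianRing R] (M : Type u) [AddCommGroup M] [Module R M] : IsArtinian R M ↔ (LocCoh.IsPowerTorsion (IsLocalRing.maximalIdeal R) M ∧ Module.Finite (R ⧸ IsLocalRing.maximalIdeal R) ↥(LocCoh.torsionBy (IsLocalRing.maximalIdeal R) M)) := by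
  classical
  set m := IsLocalRing.maximalIdeal R with hm
  letI : Field (R ⧸ m) := Ideal.Quotient.field m
  have hsurj : Function.Surjective (algebraMap R (R ⧸ m)) := Ideal.Quotient.mk_surjective
  constructor
  · intro hA
    refine ⟨?_, ?_⟩
    · intro e
      let g : ℕ →o (Submodule R M)ᵒᵈ :=
        ⟨fun n => OrderDual.toDual ((m ^ n) • Submodule.span R {e}), fun i j hij =>
          Submodule.smul_mono_left (Ideal.pow_le_pow_right hij)⟩
      obtain ⟨n, hn⟩ := IsArtinian.monotone_stabilizes g
      have h1 : (m ^ n) • Submodule.span R {e} = (m ^ (n + 1)) • Submodule.span R {e} :=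
        congrArg OrderDual.ofDual (hn (n + 1) (Nat.le_succ n))
      have hfg : ((m ^ n) • Submodule.span R {e}).FG :=
        Submodule.FG.smul ((isNoetherianRing_iff_ideal_fg R).1 inferInstance _)
          (Submodule.fg_span_singleton e)
      have hbot : (m ^ n) • Submodule.span R {e} = ⊥ := by
        apply Submodule.eq_bot_of_le_smul_of_le_jacobson_bot m _ hfg
        · rw [← Submodule.mul_smul, ← pow_succ', ← h1]
        · exact IsLocalRing.maximalIdeal_le_jacobson ⊥
      refine ⟨n, fun a ha => ?_⟩
      have : a • e ∈ (m ^ n) • Submodule.span R {e} :=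
        Submodule.smul_mem_smul ha (Submodule.mem_span_singleton_self e)
      rw [hbot] at this
      exact this
    · have h1 : IsArtinian R (LocCoh.torsionBy m M) := inferInstance
      have h2 : IsArtinian (R ⧸ m) (LocCoh.torsionBy m M) := isArtinian_of_tower R h1
      exact (IsSemisimpleModule.finite_tfae.out 0 2).2 h2
  · rintro ⟨hP, hF⟩
    have h2 : IsArtinian (R ⧸ m) (LocCoh.torsionBy m M) :=
      (IsSemisimpleModule.finite_tfae.out 0 2).1 hF
    have h1 : IsArtinian R (LocCoh.torsionBy m M) :=
      isArtinian_of_surjective_algebraMap hsurj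
    obtain ⟨s, hs⟩ := (isNoetherianRing_iff_ideal_fg R).1 inferInstance m
    have hP' : ∀ x : M, ∃ n : ℕ, ∀ y ∈ m ^ n, y • x = 0 := hP
    have h1' : IsArtinian R (Submodule.torsionBySet R M (m : Set R)) := h1
    rw [← hs] at hP' h1'
    exact Groth.Agent.H9.Melk.artinian_of_finset s M hP' h1'

end Groth.Agent.S0315
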