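import Groth.Statements.S12926
import Groth.Statements.S12926
import Mathlib

set_option autoImplicit false
universe u v
open HopfRep

namespace Groth.Agent.S12926

/-- Let `k` be a commutative ring and `A` a commutative bialgebra over `k`, flat as a `k`-module. If the
submodule `k · 1` of the regular comodule `A` has a complement `H` which is a subcomodule — the case
used when `A` is cosemisimple, i.e. every subcomodule of every comodule is a direct summand as a
comodule — then the trivial action of `Spec A` on `Spec k` is tame: there is a comodule map `α : A →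
k`, for the regular coaction on `A` and the trivial coaction `r ↦ r ⊗ 1` on `k`, with `α 1 = 1`. -/
theorem result
    (k : Type u) [CommRing k] (A : Type v) [CommRing A] [Bialgebra k A] [Module.Flat k A]
    (H : Submodule k A) (hH : HopfRep.IsSubcomod (k := k) (A := A) H)
    (hc : IsCompl (Submodule.span k {(1 : A)}) H) :
    ∃ α : A →ₗ[k] k, @Hoch.IsComodHom k _ A _ _ _ A _ _ _ k _ _ (HopfRep.Comod.trivial k A k) α ∧ α 1 = 1 := by
  classical
  let π : A →ₗ[k] A := (Submodule.span k {(1 : A)}).subtype ∘ₗ
    Submodule.projectionOnto (Submodule.span k {(1 : A)}) H hc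
  let α : A →ₗ[k] k := (Coalgebra.counit (R := k) (A := A)) ∘ₗ π
  have hπ1 : ∀ p ∈ Submodule.span k {(1 : A)}, π p = p := by
    intro p hp
    show ((Submodule.projectionOnto (Submodule.span k {(1 : A)}) H hc) p : A) = p
    rw [Submodule.projectionOnto_apply_of_mem_left hc hp]
  have hπ2 : ∀ h ∈ H, π h = 0 := by
    intro h hh
    have := (Submodule.projectionOnto_apply_eq_zero_iff hc).2 hh
    show ((Submodule.projectionOnto (Submodule.span k {(1 : A)}) H hc) h : A) = 0
    rw [this]; rfl
  have hα1 : α 1 = 1 := by
    show Coalgebra.counit (R := k) (π 1) = 1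
    rw [hπ1 1 (Submodule.subset_span rfl), Bialgebra.counit_one]
  have hαH : α ∘ₗ H.subtype = 0 := by
    apply LinearMap.ext
    intro h
    show Coalgebra.counit (R := k) (π (h : A)) = 0
    rw [hπ2 _ h.2, map_zero]
  refine ⟨α, ?_, hα1⟩
  unfold Hoch.IsComodHom
  apply LinearMap.ext
  intro x
  obtain ⟨p, hp, h, hh, rfl⟩ : ∃ p ∈ Submodule.span k {(1 : A)}, ∃ h ∈ H, p + h = x :=
    Submodule.mem_sup.1 (by rw [hc.sup_eq_top]; trivial)
  simp only [LinearMap.comp_apply, map_add]
  congr 1
  · obtain ⟨c, rfl⟩ := Submodule.mem_span_singleton.1 hp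
    rw [map_smul, map_smul, map_smul, map_smul, hα1]
    congr 1
    show (TensorProduct.mk k k A).flip 1 (1 : k) = α.rTensor A (Coalgebra.comul (R := k) (1 : A))
    rw [Bialgebra.comul_one, Algebra.TensorProduct.one_def, LinearMap.rTensor_tmul, hα1]
    rfl
  · obtain ⟨y, hy⟩ := hH h hh
    have h1 : α h = 0 := LinearMap.congr_fun hαH ⟨h, hh⟩
    rw [h1, map_zero]
    show 0 = α.rTensor A (HopfRep.Comod.coact (k := k) (A := A) h)
    rw [← hy, ← LinearMap.comp_apply, ← LinearMap.rTensor_comp, hαH, LinearMap.rTensor_zero,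
      LinearMap.zero_apply]

end Groth.Agent.S12926
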