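import Groth.Statements.S14842
import Mathlib
import Groth.Agent.Lib.helper9.H9_Isotyp

set_option autoImplicit false
universe u v
open HopfRep

namespace Groth.Agent.S14842

open TensorProduct in
/-- Over a field K, every simple subcoalgebra D of a coalgebra C is the coefficient space of a simple
comodule. Precisely: there is a subspace E of C contained in D which is a simple subcomodule of the
regular right comodule C (E is nonzero, stable under the coaction, and its only subcomodules are 0
and E) and such that D is the least subspace D' of C with comul(E) inside the image of E ⊗ D'. Here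
a subcoalgebra of C is a subspace B whose comultiplication lands in the image of B ⊗ B, and a simple
subcoalgebra is a nonzero subcoalgebra D whose only subcoalgebras contained in D are 0 and D.
(Stated for right comodules; the published statement is for left comodules.) -/
theorem result {K : Type u} {C : Type v} [Field K]
    [AddCommGroup C] [Module K C] [Coalgebra K C]
    (D : Submodule K C) (hD0 : D ≠ ⊥) (hD : (∀ b ∈ D, CoalgebraStruct.comul (R := K) b ∈ LinearMap.range (TensorProduct.map D.subtype D.subtype)))
    (hDs : ∀ B : Submodule K C, B ≤ D → (∀ b ∈ B, CoalgebraStruct.comul (R := K) b ∈ LinearMap.range (TensorProduct.map B.subtype B.subtype)) → B = ⊥ ∨ B = D) :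
    ∃ E : Submodule K C, E ≤ D ∧ E ≠ ⊥ ∧ HopfRep.IsSubcomod (k := K) (A := C) E ∧
      (∀ E' : Submodule K C, E' ≤ E → HopfRep.IsSubcomod (k := K) (A := C) E' → E' = ⊥ ∨ E' = E) ∧
      IsLeast {D' : Submodule K C |
        ∀ e ∈ E, CoalgebraStruct.comul (R := K) e ∈ LinearMap.range (TensorProduct.map E.subtype D'.subtype)} D := by
  classical
  have hDc : H9_Subcoalg.IsSubcoalg D := hD
  have hDsub : HopfRep.IsSubcomod (k := K) (A := C) D := hDc.isSubcomod
  obtain ⟨d, hdD, hd0⟩ := Submodule.exists_mem_ne_zero_of_ne_bot hD0
  obtain ⟨W, hWfin, hWsub, hWD, hdW⟩ := H9_SubLat.exists_finite_subcomod ({d} : Finset C) D hDsub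
    (by intro x hx; simp only [Finset.coe_singleton, Set.mem_singleton_iff] at hx; rw [hx]; exact hdD)
  haveI := hWfin
  have hWne : W ≠ ⊥ := by
    intro h
    have : d ∈ W := hdW (by simp)
    rw [h, Submodule.mem_bot] at this
    exact hd0 this
  obtain ⟨E, hEW, hEne, hEsub, hEmin⟩ := H9_SubLat.exists_simple_subcomod W hWsub hWne
  have hED : E ≤ D := hEW.trans hWD
  letI cE : HopfRep.Comod K C ↥E := ComodSub.Comod.restr inferInstance E hEsub
  -- the coefficient space of `E` is `D`
  have hmemD : ∀ e ∈ E, CoalgebraStruct.comul (R := K) e ∈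
      LinearMap.range (TensorProduct.map E.subtype D.subtype) := by
    intro e he
    rw [H9_Slice.mem_range_map_subtype_iff]
    exact ⟨hEsub e he, ((H9_Slice.mem_range_map_subtype_iff D D _).1 (hD e (hED he))).2⟩
  have hle : H9_Subcoalg.coefSpace K C ↥E ≤ D :=
    (H9_Subcoalg.coefSpace_restr_le_iff E hEsub D).1 hmemD
  have hEle : E ≤ H9_Subcoalg.coefSpace K C ↥E := by
    have := H9_Subcoalg.range_le_coefSpace (K := K) (C := C) E.subtype
      (ComodSub.isComodHom_subtype inferInstance E hEsub)
    rwa [Submodule.range_subtype] at this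
  have hcne : H9_Subcoalg.coefSpace K C ↥E ≠ ⊥ := by
    intro h
    apply hEne
    rw [eq_bot_iff, ← h]
    exact hEle
  have hceq : H9_Subcoalg.coefSpace K C ↥E = D := by
    rcases hDs _ hle H9_Subcoalg.isSubcoalg_coefSpace with h | h
    · exact absurd h hcne
    · exact h
  refine ⟨E, hED, hEne, hEsub, hEmin, hmemD, ?_⟩
  intro D' hD'
  rw [← hceq]
  exact (H9_Subcoalg.coefSpace_restr_le_iff E hEsub D').1 hD'

end Groth.Agent.S14842
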