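import Groth.Statements.S19398
import Mathlib
import Groth.Agent.Lib.helper9.H9_ComodFix
import Groth.Agent.S7952
import Groth.Prelude.Def_ComodSub

set_option autoImplicit false
universe u
open GIT

namespace Groth.Agent.S19398

/-- For a reductive group G (here: every finite-dimensional representation completely reducible, i.e.
linearly reductive) acting linearly on vector spaces V and V′ of any dimension, with Reynolds
operators E and E′ (the projections onto the invariants along the unique invariant complement),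
every G-linear map u : V → V′ satisfies E′ ∘ u = u ∘ E. Stated for comodules over a commutative Hopf
algebra A whose finite-dimensional comodules are semisimple; a Reynolds operator is a comodule
endomorphism that is idempotent and fixes exactly the invariant vectors (such an operator is the
projection onto the invariants along an invariant complement, which is unique). -/
theorem result (k : Type u) [Field k] (A : Type u) [CommRing A] [HopfAlgebra k A]
    (hG : HopfRep.IsLinearlyReductive k A)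
    (V W : Type u) [AddCommGroup V] [Module k V] [HopfRep.Comod k A V]
    [AddCommGroup W] [Module k W] [HopfRep.Comod k A W]
    (E : V →ₗ[k] V) (hE₁ : Hoch.IsComodHom A E) (hE₂ : E ∘ₗ E = E)
    (hE₃ : ∀ x : V, E x = x ↔ x ∈ HopfRep.fixedPts k A V)
    (E' : W →ₗ[k] W) (hE'₁ : Hoch.IsComodHom A E') (hE'₂ : E' ∘ₗ E' = E')
    (hE'₃ : ∀ y : W, E' y = y ↔ y ∈ HopfRep.fixedPts k A W)
    (u : V →ₗ[k] W) (hu : Hoch.IsComodHom A u) :
    E' ∘ₗ u = u ∘ₗ E := by
  classical
  ext x
  simp only [LinearMap.comp_apply]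
  have hEE : E (E x) = E x := LinearMap.congr_fun hE₂ x
  have hEx : E x ∈ HopfRep.fixedPts k A V := (hE₃ (E x)).mp hEE
  have h1 : E' (u (E x)) = u (E x) :=
    (hE'₃ _).mpr (H9_ComodMod.map_mem_fixedPts u hu _ hEx)
  have hy : E (x - E x) = 0 := by rw [map_sub, hEE, sub_self]
  suffices h2 : E' (u (x - E x)) = 0 by
    have hx : x = E x + (x - E x) := by abel
    calc E' (u x) = E' (u (E x + (x - E x))) := by rw [← hx]
      _ = E' (u (E x)) + E' (u (x - E x)) := by rw [map_add, map_add]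
      _ = u (E x) := by rw [h1, h2, add_zero]
  generalize x - E x = y at hy
  obtain ⟨F, hFfin, hyF, hF⟩ := Groth.Agent.S7952.result k A V y
  have hN : HopfRep.IsSubcomod (k := k) (A := A) (LinearMap.ker E) :=
    Groth.Agent.H4.H4_isSubcomod_ker E hE₁
  have hM : HopfRep.IsSubcomod (k := k) (A := A) (F ⊓ LinearMap.ker E) :=
    Groth.Agent.H4.H4_isSubcomod_inf F _ hF hN
  haveI : Module.Finite k ↥(F ⊓ LinearMap.ker E) := by
    haveI := hFfin
    exact Submodule.finiteDimensional_inf_left F (LinearMap.ker E)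
  letI cM : HopfRep.Comod k A ↥(F ⊓ LinearMap.ker E) :=
    ComodSub.Comod.restr ‹HopfRep.Comod k A V› (F ⊓ LinearMap.ker E) hM
  have hsub : Hoch.IsComodHom A (F ⊓ LinearMap.ker E).subtype :=
    ComodSub.isComodHom_subtype ‹HopfRep.Comod k A V› (F ⊓ LinearMap.ker E) hM
  have hss : HopfRep.IsSemisimpleComod k A ↥(F ⊓ LinearMap.ker E) :=
    hG ↥(F ⊓ LinearMap.ker E) inferInstance
  have hφ : Hoch.IsComodHom A (E' ∘ₗ u) := H9_ComodMod.isComodHom_comp u hu E' hE'₁
  have hψ : Hoch.IsComodHom A ((E' ∘ₗ u) ∘ₗ (F ⊓ LinearMap.ker E).subtype) :=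
    H9_ComodMod.isComodHom_comp _ hsub _ hφ
  obtain ⟨M', hM', hc⟩ := hss (LinearMap.ker ((E' ∘ₗ u) ∘ₗ (F ⊓ LinearMap.ker E).subtype))
    (Groth.Agent.H4.H4_isSubcomod_ker _ hψ)
  have hM'bot : M' = ⊥ := by
    rw [eq_bot_iff]
    intro m' hm'
    have hfix : m' ∈ HopfRep.fixedPts k A ↥(F ⊓ LinearMap.ker E) := by
      rw [H9_ComodMod.mem_fixedPts_iff_T]
      intro f
      have h1 : H9_ComodMod.T (C := A) _ f m' ∈ M' :=
        (H9_ComodMod.isSubcomod_iff_T M').mp hM' f m' hm'
      have hfixW : ((E' ∘ₗ u) ∘ₗ (F ⊓ LinearMap.ker E).subtype) m' ∈ HopfRep.fixedPts k A W :=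
        (hE'₃ _).mp (LinearMap.congr_fun hE'₂ (u m'))
      have h2 : ((E' ∘ₗ u) ∘ₗ (F ⊓ LinearMap.ker E).subtype)
          (H9_ComodMod.T (C := A) _ f m' - f 1 • m') = 0 := by
        rw [map_sub, H9_ComodMod.T_comm_of_isComodHom _ hψ, map_smul,
          (H9_ComodMod.mem_fixedPts_iff_T _).mp hfixW f, sub_self]
      have h3 : H9_ComodMod.T (C := A) _ f m' - f 1 • m' ∈
          LinearMap.ker ((E' ∘ₗ u) ∘ₗ (F ⊓ LinearMap.ker E).subtype) ⊓ M' :=
        ⟨h2, M'.sub_mem h1 (M'.smul_mem _ hm')⟩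
      rw [hc.inf_eq_bot] at h3
      exact sub_eq_zero.mp ((Submodule.mem_bot k).mp h3)
    have hfixV : ((F ⊓ LinearMap.ker E).subtype m') ∈ HopfRep.fixedPts k A V :=
      H9_ComodMod.map_mem_fixedPts _ hsub m' hfix
    have e1 : E (m' : V) = (m' : V) := (hE₃ _).mpr hfixV
    have e2 : E (m' : V) = 0 := m'.2.2
    rw [Submodule.mem_bot]
    apply Subtype.ext
    rw [← e1, e2]
    rfl
  have hker : LinearMap.ker ((E' ∘ₗ u) ∘ₗ (F ⊓ LinearMap.ker E).subtype) = ⊤ := by
    have := hc.sup_eq_top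
    rwa [hM'bot, sup_bot_eq] at this
  have hmem : (⟨y, hyF, hy⟩ : ↥(F ⊓ LinearMap.ker E)) ∈
      LinearMap.ker ((E' ∘ₗ u) ∘ₗ (F ⊓ LinearMap.ker E).subtype) := by
    rw [hker]; exact Submodule.mem_top
  exact hmem

end Groth.Agent.S19398
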