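import Groth.Statements.S5155
import Groth.Statements.S5155
import Groth.Agent.Lib.helper9.H9_MatlisLen

set_option autoImplicit false
universe u
open Matlis

namespace Groth.Agent.S5155

/-- Let A be a Noetherian local ring with residue field k. An A-module E is an injective hull of k if
and only if E is injective, E is m-power torsion, and Hom_A(k, E) is simple (one-dimensional over
k). (The torsion condition is needed: for a prime p ≠ m the module E(k) ⊕ E(A/p) is injective with
Hom_A(k, −) simple, represents the same functor on modules of finite length, and is not an injective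
hull of k; the published definition of a dualizing module leaves this condition implicit and the
published proof uses it.) -/
theorem result (A : Type u) [CommRing A] [IsLocalRing A] [IsNoetherianRing A] (E : Type u) [AddCommGroup E] [Module A E] : (∃ f : IsLocalRing.ResidueField A →ₗ[A] E, InjHull.IsInjectiveHull f) ↔ (Module.Injective A E ∧ LocCoh.IsPowerTorsion (IsLocalRing.maximalIdeal A) E ∧ IsSimpleModule A (IsLocalRing.ResidueField A →ₗ[A] E)) := by
  classical
  set m := IsLocalRing.maximalIdeal A with hm
  haveI hsimple : IsSimpleModule A (IsLocalRing.ResidueField A) :=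
    (isSimpleModule_iff_isCoatom (R := A) (M := A) (m := m)).2 (Ideal.isMaximal_def.1 inferInstance)
  have hK : ∀ a ∈ m, ∀ x : IsLocalRing.ResidueField A, a • x = 0 := by
    intro a ha x
    rw [Algebra.smul_def, IsLocalRing.ResidueField.algebraMap_eq,
      (IsLocalRing.residue_eq_zero_iff a).2 ha, zero_mul]
  constructor
  · rintro ⟨f, hf⟩
    refine ⟨hf.isInjective, ?_, ?_⟩
    · intro e
      exact Groth.Agent.H9.EssArt.powerTorsion m f hf.toIsEssentialInj hK e
    · exact Groth.Agent.H9.MatlisLen.dual_simple f hf (IsLocalRing.ResidueField A)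
  · rintro ⟨hinj, hP, hH⟩
    obtain ⟨f, hf0⟩ : ∃ f : IsLocalRing.ResidueField A →ₗ[A] E, f ≠ 0 := by
      haveI := IsSimpleModule.nontrivial A (IsLocalRing.ResidueField A →ₗ[A] E)
      exact exists_ne 0
    have hfinj : Function.Injective f := by
      rw [← LinearMap.ker_eq_bot]
      rcases eq_bot_or_eq_top (LinearMap.ker f) with h | h
      · exact h
      · exfalso
        apply hf0
        ext x
        have : x ∈ LinearMap.ker f := by rw [h]; trivial
        simpa using this
    refine ⟨f, ⟨⟨hfinj, ?_⟩, hinj⟩⟩
    intro N hN
    obtain ⟨y, hyN, hy0⟩ := Submodule.exists_mem_ne_zero_of_ne_bot hN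
    have hex : ∃ n : ℕ, ∀ a ∈ m ^ n, a • y = 0 := hP y
    have hspec := Nat.find_spec hex
    have hmin := fun k => Nat.find_min hex (m := k)
    set N0 := Nat.find hex with hN0
    have hN0pos : N0 ≠ 0 := by
      intro h0
      rw [h0] at hspec
      have := hspec 1 (by simp)
      rw [one_smul] at this
      exact hy0 this
    obtain ⟨k, hk⟩ := Nat.exists_eq_succ_of_ne_zero hN0pos
    have hnot := hmin k (by omega)
    simp only [not_forall] at hnot
    obtain ⟨a, ha, hay⟩ := hnot
    set z : E := a • y with hz
    have hzm : ∀ c ∈ m, c • z = 0 := by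
      intro c hc
      rw [hz, smul_smul]
      apply hspec
      rw [hk, pow_succ']
      exact Ideal.mul_mem_mul hc ha
    let h : IsLocalRing.ResidueField A →ₗ[A] E :=
      Submodule.liftQ m (LinearMap.toSpanSingleton A E z) (by
        intro c hc
        rw [LinearMap.mem_ker, LinearMap.toSpanSingleton_apply]
        exact hzm c hc)
    have hh1 : h (Submodule.Quotient.mk 1) = z := by
      change Submodule.liftQ m _ _ (Submodule.Quotient.mk 1) = z
      rw [Submodule.liftQ_apply, LinearMap.toSpanSingleton_apply, one_smul]
    obtain ⟨c, hc⟩ := (isSimpleModule_iff_toSpanSingleton_surjective.1 hH).2 f hf0 h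
    rw [LinearMap.toSpanSingleton_apply] at hc
    intro hbot
    have hmem : z ∈ N ⊓ LinearMap.range f := by
      refine ⟨N.smul_mem a hyN, ?_⟩
      set one' : IsLocalRing.ResidueField A := Submodule.Quotient.mk 1 with hone'
      refine ⟨c • one', ?_⟩
      rw [map_smul, ← LinearMap.smul_apply, hc]
      exact hh1
    rw [hbot, Submodule.mem_bot] at hmem
    exact hay hmem

end Groth.Agent.S5155
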