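import Groth.Statements.S14950
import Mathlib

set_option autoImplicit false
universe u
open TensorProduct
open EtAlg

namespace Groth.Agent.S14950

/-- Let B' = B ×_A A' be a fibre product of commutative rings with A' → A surjective, let J be the
kernel of B' → B and L' a B'-module. The canonical map from L' to pairs in (B ⊗_{B'} L') × (A'
⊗_{B'} L') has kernel annihilated by J and contained in J L': if l ∈ L' satisfies 1 ⊗ l = 0 in B
⊗_{B'} L' and 1 ⊗ l = 0 in A' ⊗_{B'} L', then j • l = 0 for every j ∈ J, and l ∈ J L'. (Surjectivity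
of that map onto the compatible pairs is a separate result.) -/
theorem result (B' B A' A : Type u) [CommRing B'] [CommRing B] [CommRing A'] [CommRing A]
    [Algebra B' B] [Algebra B' A'] [Algebra B A] [Algebra A' A] [Algebra B' A] [IsScalarTower B' B A] [IsScalarTower B' A' A]
    (hsq : EtMil.IsFibreSquare B' B A' A)
    (L' : Type u) [AddCommGroup L'] [Module B' L'] (l : L')
    (h1 : ((1 : B) ⊗ₜ[B'] l : B ⊗[B'] L') = 0) (h2 : ((1 : A') ⊗ₜ[B'] l : A' ⊗[B'] L') = 0) :
    (∀ j : B', algebraMap B' B j = 0 → j • l = 0) ∧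
      l ∈ (RingHom.ker (algebraMap B' B)) • (⊤ : Submodule B' L') := by
  obtain ⟨hsurjA, hfib⟩ := hsq
  have hsurjB : Function.Surjective (algebraMap B' B) := by
    intro b
    obtain ⟨a', ha'⟩ := hsurjA (algebraMap B A b)
    obtain ⟨b', ⟨hb', _⟩, _⟩ := hfib b a' ha'.symm
    exact ⟨b', hb'⟩
  constructor
  · intro j hj
    have hcompat : ∀ a' : A', algebraMap B A 0 = algebraMap A' A (a' * algebraMap B' A' j) := by
      intro a'
      rw [map_zero, map_mul, ← IsScalarTower.algebraMap_apply B' A' A,
        IsScalarTower.algebraMap_apply B' B A, hj, map_zero, mul_zero]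
    choose s hs hs_uniq using fun a' => hfib 0 (a' * algebraMap B' A' j) (hcompat a')
    have s_add : ∀ x y, s (x + y) = s x + s y := by
      intro x y
      symm
      apply hs_uniq
      constructor
      · rw [map_add, (hs x).1, (hs y).1, add_zero]
      · rw [map_add, (hs x).2, (hs y).2, add_mul]
    have s_smul : ∀ (c : B') x, s (c • x) = c * s x := by
      intro c x
      symm
      apply hs_uniq
      constructor
      · rw [map_mul, (hs x).1, mul_zero]
      · rw [map_mul, (hs x).2, Algebra.smul_def, mul_assoc]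
    have s_one : s 1 = j := by
      symm
      apply hs_uniq
      exact ⟨hj, by rw [one_mul]⟩
    let S : A' →ₗ[B'] B' :=
      { toFun := s
        map_add' := s_add
        map_smul' := by intro c x; simp [s_smul] }
    let T : A' ⊗[B'] L' →ₗ[B'] L' := TensorProduct.lift ((LinearMap.lsmul B' L').comp S)
    have h3 := congrArg T h2
    have h4 : T ((1 : A') ⊗ₜ[B'] l) = s 1 • l := by
      simp [T, S]
    rw [h4, map_zero, s_one] at h3
    exact h3
  · have hker : RingHom.ker (Algebra.ofId B' B) = RingHom.ker (algebraMap B' B) := by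
      ext x
      simp [RingHom.mem_ker, Algebra.ofId_apply]
    rw [← hker]
    let e1 : (B' ⧸ RingHom.ker (Algebra.ofId B' B)) ≃ₐ[B'] B :=
      Ideal.quotientKerAlgEquivOfSurjective (f := Algebra.ofId B' B) hsurjB
    let e2 : B ⊗[B'] L' ≃ₗ[B'] (B' ⧸ RingHom.ker (Algebra.ofId B' B)) ⊗[B'] L' :=
      TensorProduct.congr e1.symm.toLinearEquiv (LinearEquiv.refl B' L')
    have h5 : e2 ((1 : B) ⊗ₜ[B'] l) = (1 : B' ⧸ RingHom.ker (Algebra.ofId B' B)) ⊗ₜ[B'] l := by
      simp [e2]
    have h6 := congrArg (fun z => TensorProduct.quotTensorEquivQuotSMul L' (RingHom.ker (Algebra.ofId B' B)) (e2 z)) h1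
    simp only [h5, map_zero, TensorProduct.quotTensorEquivQuotSMul_mk_one_tmul] at h6
    exact (Submodule.Quotient.mk_eq_zero _).mp h6

end Groth.Agent.S14950
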