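import Groth.Statements.S14949
import Mathlib
import Groth.Agent.S14950

set_option autoImplicit false
universe u
open TensorProduct
open EtAlg

namespace Groth.Agent.S14949

/-- Let B' = B ×_A A' be a fibre product of commutative rings with A' → A surjective, and let L' be a
B'-module. If B ⊗_{B'} L' = 0 and A' ⊗_{B'} L' = 0 then L' = 0. (The converse is clear.) -/
theorem result (B' B A' A : Type u) [CommRing B'] [CommRing B] [CommRing A'] [CommRing A]
    [Algebra B' B] [Algebra B' A'] [Algebra B A] [Algebra A' A] [Algebra B' A] [IsScalarTower B' B A] [IsScalarTower B' A' A]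
    (hsq : EtMil.IsFibreSquare B' B A' A)
    (L' : Type u) [AddCommGroup L'] [Module B' L']
    [Subsingleton (B ⊗[B'] L')] [Subsingleton (A' ⊗[B'] L')] : Subsingleton L' := by
  refine ⟨fun x y => ?_⟩
  have key : ∀ l : L', l = 0 := by
    intro l
    have h1 : ((1 : B) ⊗ₜ[B'] l : B ⊗[B'] L') = 0 := Subsingleton.elim _ _
    have h2 : ((1 : A') ⊗ₜ[B'] l : A' ⊗[B'] L') = 0 := Subsingleton.elim _ _
    obtain ⟨_, hb⟩ := Groth.Agent.S14950.result B' B A' A hsq L' l h1 h2
    refine Submodule.smul_induction_on hb ?_ ?_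
    · intro j hj m _
      have h1' : ((1 : B) ⊗ₜ[B'] m : B ⊗[B'] L') = 0 := Subsingleton.elim _ _
      have h2' : ((1 : A') ⊗ₜ[B'] m : A' ⊗[B'] L') = 0 := Subsingleton.elim _ _
      exact (Groth.Agent.S14950.result B' B A' A hsq L' m h1' h2').1 j (RingHom.mem_ker.mp hj)
    · intro x y hx hy
      rw [hx, hy, add_zero]
  rw [key x, key y]

end Groth.Agent.S14949
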