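import Groth.Statements.S14953
import Mathlib
import Groth.Agent.S14949
import Groth.Agent.Lib.helper7.BaseChangeFin

set_option autoImplicit false
universe u
open TensorProduct
open EtAlg

namespace Groth.Agent.S14953

/-- Let B' = B ×_A A' be a fibre product of commutative rings with A' → A surjective and L' a B'-module.
If B ⊗_{B'} L' is a finitely generated B-module and A' ⊗_{B'} L' is a finitely generated A'-module,
then L' is a finitely generated B'-module. (The published statement is about flat modules of finite
type; the finiteness conclusion does not use flatness, which descends separately.) -/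
theorem result (B' B A' A : Type u) [CommRing B'] [CommRing B] [CommRing A'] [CommRing A]
    [Algebra B' B] [Algebra B' A'] [Algebra B A] [Algebra A' A] [Algebra B' A] [IsScalarTower B' B A] [IsScalarTower B' A' A]
    (hsq : EtMil.IsFibreSquare B' B A' A)
    (L' : Type u) [AddCommGroup L'] [Module B' L']
    [Module.Finite B (B ⊗[B'] L')] [Module.Finite A' (A' ⊗[B'] L')] : Module.Finite B' L' := by
  classical
  obtain ⟨F1, hF1⟩ := Groth.Agent.Lib.helper7.H7_exists_finset_baseChange_eq_top B' B L'
  obtain ⟨F2, hF2⟩ := Groth.Agent.Lib.helper7.H7_exists_finset_baseChange_eq_top B' A' L'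
  set N : Submodule B' L' := Submodule.span B' ((F1 ∪ F2 : Finset L') : Set L') with hNdef
  have hN1 : N.baseChange B = ⊤ := by
    rw [eq_top_iff, ← hF1]
    apply Submodule.baseChange_mono
    apply Submodule.span_mono
    intro x hx
    simp only [Finset.coe_union, Set.mem_union]
    exact Or.inl hx
  have hN2 : N.baseChange A' = ⊤ := by
    rw [eq_top_iff, ← hF2]
    apply Submodule.baseChange_mono
    apply Submodule.span_mono
    intro x hx
    simp only [Finset.coe_union, Set.mem_union]
    exact Or.inr hx
  have s1 := Groth.Agent.Lib.helper7.H7_subsingleton_baseChange_quotient B' B L' N hN1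
  have s2 := Groth.Agent.Lib.helper7.H7_subsingleton_baseChange_quotient B' A' L' N hN2
  have s3 : Subsingleton (L' ⧸ N) := Groth.Agent.S14949.result B' B A' A hsq (L' ⧸ N)
  have hNtop : N = ⊤ := Submodule.Quotient.subsingleton_iff.mp s3
  rw [Module.finite_def, ← hNtop]
  exact Submodule.fg_span (Finset.finite_toSet _)

end Groth.Agent.S14953
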