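import Groth.Statements.S2057
import Groth.Statements.S2057
import Mathlib
open scoped TensorProduct

set_option autoImplicit false
universe u
open CAlg

namespace Groth.Agent.S2057

/-- An injective linear map `f : M₁ → M₂` is universally injective if and only if: whenever elements
`x_i` of `M₁` satisfy `f(x_i) = Σ_j a_{ij} y_j` for some `y_j ∈ M₂` and scalars `a_{ij}`, there are
`z_j ∈ M₁` with `x_i = Σ_j a_{ij} z_j`. -/
theorem result {R M₁ M₂ : Type u} [CommRing R] [AddCommGroup M₁]
    [Module R M₁] [AddCommGroup M₂] [Module R M₂] (f : M₁ →ₗ[R] M₂) (hf : Function.Injective f) :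
    CAlgX.UniversallyInjective R f ↔
      ∀ (n m : ℕ) (x : Fin n → M₁) (y : Fin m → M₂) (a : Fin n → Fin m → R),
        (∀ i, f (x i) = ∑ j, a i j • y j) → ∃ z : Fin m → M₁, ∀ i, x i = ∑ j, a i j • z j := by
  classical
  constructor
  · intro hui n m x y a hxy
    let col : Fin m → (Fin n → R) := fun j i => a i j
    let C : Submodule R (Fin n → R) := Submodule.span R (Set.range col)
    let eb : Fin n → (Fin n → R) ⧸ C := fun i => C.mkQ (Pi.single i 1)
    have hebspan : Submodule.span R (Set.range eb) = ⊤ := by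
      rw [eq_top_iff]
      rintro v -
      obtain ⟨v, rfl⟩ := C.mkQ_surjective v
      rw [pi_eq_sum_univ' v, map_sum]
      refine Submodule.sum_mem _ fun l _ => ?_
      rw [map_smul]
      exact Submodule.smul_mem _ _ (Submodule.subset_span ⟨l, rfl⟩)
    have hmkcol : ∀ j, C.mkQ (col j) = 0 := by
      intro j
      simp only [Submodule.mkQ_apply, Submodule.Quotient.mk_eq_zero]
      exact Submodule.subset_span ⟨j, rfl⟩
    let zt : M₁ ⊗[R] ((Fin n → R) ⧸ C) := ∑ i, x i ⊗ₜ[R] eb i
    have hfz : (f.rTensor ((Fin n → R) ⧸ C)) zt = 0 := by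
      simp only [zt, map_sum, LinearMap.rTensor_tmul, hxy]
      simp only [TensorProduct.sum_tmul, TensorProduct.smul_tmul]
      rw [Finset.sum_comm]
      simp only [← TensorProduct.tmul_sum]
      have : ∀ j, ∑ i, a i j • eb i = 0 := by
        intro j
        have h1 : ∑ i, a i j • eb i = C.mkQ (∑ i, col j i • Pi.single i 1) := by
          simp only [eb, map_sum, map_smul]
          rfl
        rw [h1, ← pi_eq_sum_univ' (col j), hmkcol]
      simp only [this, TensorProduct.tmul_zero, Finset.sum_const_zero]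
    have hz : zt = 0 := by
      apply hui ((Fin n → R) ⧸ C)
      rw [hfz, map_zero]
    have hz' : ∑ i, eb i ⊗ₜ[R] x i = (0 : ((Fin n → R) ⧸ C) ⊗[R] M₁) := by
      have := congrArg (TensorProduct.comm R M₁ ((Fin n → R) ⧸ C)) hz
      simpa [zt] using this
    obtain ⟨k, b, w, h₁, h₂⟩ := TensorProduct.vanishesTrivially_of_sum_tmul_eq_zero R hebspan hz'
    have hbC : ∀ t, (fun i => b i t) ∈ C := by
      intro t
      have h3 : C.mkQ (fun i => b i t) = 0 := by
        rw [pi_eq_sum_univ' (fun i => b i t), map_sum]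
        simp only [map_smul]
        exact h₂ t
      simpa only [Submodule.mkQ_apply, Submodule.Quotient.mk_eq_zero] using h3
    have hd : ∀ t, ∃ d : Fin m → R, ∑ j, d j • col j = fun i => b i t := by
      intro t
      exact (Submodule.mem_span_range_iff_exists_fun R).mp (hbC t)
    choose d hd using hd
    have hdb : ∀ t i, ∑ j, d t j * a i j = b i t := by
      intro t i
      have := congrFun (hd t) i
      simpa [col] using this
    refine ⟨fun j => ∑ t, d t j • w t, fun i => ?_⟩
    rw [h₁ i]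
    simp only [Finset.smul_sum, smul_smul]
    rw [Finset.sum_comm]
    refine Finset.sum_congr rfl fun t _ => ?_
    rw [← Finset.sum_smul, ← hdb t i]
    refine congrArg (· • w t) (Finset.sum_congr rfl fun j _ => mul_comm _ _)
  · intro hsolve
    -- a Fintype-indexed version of the hypothesis
    have hsolve' : ∀ (ι : Type) [Fintype ι] (m : ℕ) (x : ι → M₁) (y : Fin m → M₂)
        (a : ι → Fin m → R), (∀ i, f (x i) = ∑ j, a i j • y j) →
        ∃ z : Fin m → M₁, ∀ i, x i = ∑ j, a i j • z j := by
      intro ι _ m x y a h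
      let e := Fintype.equivFin ι
      obtain ⟨z, hz⟩ := hsolve (Fintype.card ι) m (fun i => x (e.symm i)) y
        (fun i => a (e.symm i)) (fun i => h (e.symm i))
      refine ⟨z, fun i => ?_⟩
      have := hz (e i)
      simpa using this
    intro Q _ _
    rw [injective_iff_map_eq_zero]
    intro xx hxx
    obtain ⟨s, x, q, rfl⟩ := TensorProduct.exists_sum_tmul_eq xx
    have hxx' : ∑ i, q i ⊗ₜ[R] f (x i) = (0 : Q ⊗[R] M₂) := by
      have := congrArg (TensorProduct.comm R M₂ Q) hxx
      simpa using this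
    let P₀ : Submodule R Q := Submodule.span R (Set.range q)
    have hP₀ : P₀.FG := Submodule.fg_span (Set.finite_range _)
    have hmem : ∀ i, q i ∈ P₀ := fun i => Submodule.subset_span ⟨i, rfl⟩
    let t : P₀ ⊗[R] M₂ := ∑ i, (⟨q i, hmem i⟩ : P₀) ⊗ₜ[R] f (x i)
    have ht : (LinearMap.rTensor M₂ P₀.subtype) t = 0 := by
      rw [← hxx', map_sum]
      rfl
    obtain ⟨Q', hPQ, hQ'fg, hQ'⟩ := TensorProduct.eq_zero_of_fg_of_subtype_eq_zero hP₀ ht
    haveI : Module.Finite R Q' := Module.Finite.iff_fg.mpr hQ'fg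
    obtain ⟨r, q', hq'⟩ := Module.Finite.exists_fin (R := R) (M := Q')
    have hqQ' : ∀ i, q i ∈ Q' := fun i => hPQ (hmem i)
    let μ : Fin s ⊕ Fin r → Q' := Sum.elim (fun i => ⟨q i, hqQ' i⟩) q'
    let ν : Fin s ⊕ Fin r → M₂ := Sum.elim (fun i => f (x i)) (fun _ => 0)
    have hspan : Submodule.span R (Set.range μ) = ⊤ := by
      rw [eq_top_iff, ← hq']
      apply Submodule.span_mono
      rintro _ ⟨l, rfl⟩
      exact ⟨Sum.inr l, rfl⟩
    have hsum : ∑ i, μ i ⊗ₜ[R] ν i = (0 : Q' ⊗[R] M₂) := by
      rw [Fintype.sum_sum_type]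
      simp only [μ, ν, Sum.elim_inl, Sum.elim_inr, TensorProduct.tmul_zero, Finset.sum_const_zero,
        add_zero]
      rw [← hQ', map_sum]
      rfl
    obtain ⟨k, a, y, h₁, h₂⟩ := TensorProduct.vanishesTrivially_of_sum_tmul_eq_zero R hspan hsum
    let xt : Fin s ⊕ Fin r → M₁ := Sum.elim x (fun _ => 0)
    have hfxt : ∀ i, f (xt i) = ν i := by
      rintro (i | l)
      · rfl
      · show f 0 = 0
        rw [map_zero]
    obtain ⟨z, hz⟩ := hsolve' (Fin s ⊕ Fin r) k xt y a (fun i => by rw [hfxt, h₁ i])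
    -- conclude
    let μQ : Fin s ⊕ Fin r → Q := fun i => (μ i : Q)
    have hv : TensorProduct.VanishesTrivially R μQ xt := by
      refine ⟨k, a, z, hz, fun j => ?_⟩
      have := congrArg (Q'.subtype) (h₂ j)
      simpa [μQ] using this
    have h0 := TensorProduct.sum_tmul_eq_zero_of_vanishesTrivially R hv
    rw [Fintype.sum_sum_type] at h0
    simp only [xt, Sum.elim_inl, Sum.elim_inr, TensorProduct.tmul_zero, Finset.sum_const_zero,
      add_zero] at h0
    have h0' := congrArg (TensorProduct.comm R Q M₁) h0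
    simpa [μQ, μ] using h0'

end Groth.Agent.S2057
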