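import Groth.Statements.S0015
import Mathlib

set_option autoImplicit false
universe u
open Coherent

namespace Groth.Agent.S0015

open AlgebraicGeometry in
/-- Let X be quasi-compact and quasi-separated and P a property of opens of X. If P holds for affine
opens, and P(U ∪ V) follows from P(U), P(V), P(U ∩ V) whenever U is quasi-compact open and V affine
open, then P holds for every quasi-compact open, in particular for X. -/
theorem result (X : Scheme.{u}) [CompactSpace X] [QuasiSeparatedSpace X]
    (P : X.Opens → Prop) (h₁ : ∀ U : X.Opens, IsAffineOpen U → P U)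
    (h₂ : ∀ U V : X.Opens, IsCompact (U : Set X) → IsAffineOpen V → P U → P V → P (U ⊓ V) →
      P (U ⊔ V))
    (U : X.Opens) (hU : IsCompact (U : Set X)) : P U := by
  classical
  -- Step 1: finite unions of basic opens of an affine open
  have step1 : ∀ (V : X.Opens) (hV : IsAffineOpen V) (n : ℕ) (s : Finset Γ(X, V)), s.card ≤ n →
      P (⨆ f ∈ s, X.basicOpen f) := by
    intro V hV n
    induction n with
    | zero =>
      intro s hs
      have : s = ∅ := by simpa using hs
      subst this
      simpa using h₁ ⊥ (isAffineOpen_bot X)
    | succ n ih =>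
      intro s hs
      rcases s.eq_empty_or_nonempty with rfl | ⟨f, hf⟩
      · simpa using h₁ ⊥ (isAffineOpen_bot X)
      · have hs' : s = insert f (s.erase f) := (Finset.insert_erase hf).symm
        rw [hs', Finset.iSup_insert, sup_comm]
        have hc : (s.erase f).card ≤ n := by rw [Finset.card_erase_of_mem hf]; omega
        apply h₂
        · have : ((⨆ g ∈ s.erase f, X.basicOpen g : X.Opens) : Set X) =
              ⋃ g ∈ s.erase f, (X.basicOpen g : Set X) := by
            simp
          rw [this]
          exact (s.erase f).finite_toSet.isCompact_biUnion fun g _ => (hV.basicOpen g).isCompact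
        · exact hV.basicOpen f
        · exact ih _ hc
        · exact h₁ _ (hV.basicOpen f)
        · have : (⨆ g ∈ s.erase f, X.basicOpen g) ⊓ X.basicOpen f =
              ⨆ g ∈ (s.erase f).image (· * f), X.basicOpen g := by
            rw [Finset.iSup_finset_image, iSup_inf_eq]
            congr 1; ext g : 1
            rw [iSup_inf_eq]
            congr 1; ext _ : 1
            simp [Scheme.basicOpen_mul]
          rw [this]
          exact ih _ (Finset.card_image_le.trans hc)
  -- Step 1': compact opens inside an affine open
  have step1' : ∀ (V : X.Opens), IsAffineOpen V → ∀ W : X.Opens, W ≤ V → IsCompact (W : Set X) → P W := by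
    intro V hV W hWV hW
    have hcov : ∀ x : W, ∃ f : Γ(X, V), X.basicOpen f ≤ W ∧ (x : X) ∈ X.basicOpen f :=
      fun x => hV.exists_basicOpen_le x (hWV x.2)
    choose f hf₁ hf₂ using hcov
    obtain ⟨t, ht⟩ := hW.elim_finite_subcover (fun x : W => (X.basicOpen (f x) : Set X))
      (fun x => (X.basicOpen (f x)).isOpen) (fun x hx => Set.mem_iUnion.mpr ⟨⟨x, hx⟩, hf₂ ⟨x, hx⟩⟩)
    have : W = ⨆ g ∈ t.image f, X.basicOpen g := by
      apply le_antisymm
      · intro x hx
        have := ht hx
        simp only [Set.mem_iUnion] at this
        obtain ⟨i, hi, hxi⟩ := this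
        simp only [Finset.iSup_finset_image]
        exact TopologicalSpace.Opens.mem_iSup.mpr ⟨i, TopologicalSpace.Opens.mem_iSup.mpr ⟨hi, hxi⟩⟩
      · simp only [Finset.iSup_finset_image]
        exact iSup₂_le fun i _ => hf₁ i
    rw [this]
    exact step1 V hV _ _ le_rfl
  refine compact_open_induction_on U hU (h₁ ⊥ (isAffineOpen_bot X)) ?_
  intro S hS V hPS
  refine h₂ S V hS V.2 hPS (h₁ V V.2) ?_
  refine step1' V V.2 (S ⊓ V) inf_le_right ?_
  exact QuasiSeparatedSpace.inter_isCompact _ _ S.isOpen hS V.1.isOpen V.2.isCompact

end Groth.Agent.S0015
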