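import Groth.Statements.S0063
import Groth.Agent.Lib.DiagOpen

set_option autoImplicit false
open CategoryTheory CategoryTheory.Limits AlgebraicGeometry Opposite
universe u
open EtBase

namespace Groth.Agent.S0063

/-- Rigidity of maps into an unramified separated scheme — two maps from a connected scheme over the
base that agree at one point, including on residue fields, coincide. -/
theorem result {X S Y : Scheme.{u}} (π : X ⟶ S)
    [FormallyUnramified π] [LocallyOfFiniteType π] [IsSeparated π]
    (h : Y ⟶ S) [ConnectedSpace Y] (f g : Y ⟶ X) (hf : f ≫ π = h) (hg : g ≫ π = h)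
    (y : Y) (hy : Y.fromSpecResidueField y ≫ f = Y.fromSpecResidueField y ≫ g) : f = g := by
  have hfg : f ≫ π = g ≫ π := hf.trans hg.symm
  set U := Groth.Agent.Lib.DiagOpen.eqLocus π f g hfg with hU
  have hyU : y ∈ U := Groth.Agent.Lib.DiagOpen.mem_eqLocus π f g hfg y hy
  have hclopen : IsClopen (U : Set Y) := by
    constructor
    · have : IsClosed (Set.range (pullback.diagonal π)) :=
        (pullback.diagonal π).isClosedEmbedding.isClosed_range
      exact this.preimage (pullback.lift f g hfg).continuous
    · exact U.isOpen
  have hUtop : (U : Set Y) = Set.univ := by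
    rcases isClopen_iff.mp hclopen with h0 | h1
    · exact absurd hyU (by rw [← SetLike.mem_coe, h0]; simp)
    · exact h1
  apply Scheme.hom_ext_of_forall
  intro z
  exact ⟨U, by rw [← SetLike.mem_coe, hUtop]; trivial,
    Groth.Agent.Lib.DiagOpen.eqLocus_ι_comp π f g hfg⟩

end Groth.Agent.S0063
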