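import Groth.Statements.S0065
import Mathlib
import Groth.Agent.Lib.helper4.EtaleStalk
import Groth.Agent.Lib.helper4.EtaleLocProps

set_option autoImplicit false
open CategoryTheory CategoryTheory.Limits AlgebraicGeometry Opposite
universe u
open EtBase

namespace Groth.Agent.S0065

/-- For an étale morphism X → Y with Y locally Noetherian and a point x of X, the local ring of X at x
is regular if and only if the local ring of Y at the image of x is regular. -/
theorem result {X Y : Scheme.{u}} (f : X ⟶ Y) [AlgebraicGeometry.Etale f]
    [IsLocallyNoetherian Y] (x : X) :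
    IsRegularLocalRing (X.presheaf.stalk x) ↔ IsRegularLocalRing (Y.presheaf.stalk (f.base x)) := by
  obtain ⟨A, B, _, _, _, _, q, _, ⟨e1⟩, ⟨e2⟩, -⟩ := Groth.Agent.H4.H4_etale_stalk_data f x
  have key := Groth.Agent.H4.H4_regular_localization_iff_of_etale A B q
  constructor
  · intro h
    haveI : IsRegularLocalRing (Localization.AtPrime q) := IsRegularLocalRing.of_ringEquiv e1
    haveI := key.mpr inferInstance
    exact IsRegularLocalRing.of_ringEquiv e2.symm
  · intro h
    haveI : IsRegularLocalRing (Localization.AtPrime (q.comap (algebraMap A B))) :=
      IsRegularLocalRing.of_ringEquiv e2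
    haveI := key.mp inferInstance
    exact IsRegularLocalRing.of_ringEquiv e1.symm

end Groth.Agent.S0065
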