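import Groth.Statements.S0066
import Mathlib
import Groth.Agent.Lib.helper4.EtaleStalk
import Groth.Agent.Lib.helper4.EtaleNormal

set_option autoImplicit false
open CategoryTheory CategoryTheory.Limits AlgebraicGeometry Opposite
universe u
open EtBase

namespace Groth.Agent.S0066

/-- For an étale morphism f : X → Y with Y locally Noetherian and a point x of X, the local ring O_{X,x}
is a normal domain (a domain which is integrally closed in its fraction field) if and only if
O_{Y,f(x)} is. -/
theorem result {X Y : Scheme.{u}} (f : X ⟶ Y) [AlgebraicGeometry.Etale f]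
    [IsLocallyNoetherian Y] (x : X) :
    (IsDomain (X.presheaf.stalk x) ∧ IsIntegrallyClosed (X.presheaf.stalk x)) ↔
      (IsDomain (Y.presheaf.stalk (f.base x)) ∧ IsIntegrallyClosed (Y.presheaf.stalk (f.base x))) := by
  obtain ⟨A, B, _, _, _, _, q, _, ⟨e1⟩, ⟨e2⟩, -⟩ := Groth.Agent.H4.H4_etale_stalk_data f x
  have key := Groth.Agent.H4.H4_normal_localization_iff_of_etale A B q
  have tr : ∀ {R S : Type u} [CommRing R] [CommRing S] (e : R ≃+* S),
      (IsDomain R ∧ IsIntegrallyClosed R) → (IsDomain S ∧ IsIntegrallyClosed S) := by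
    intro R S _ _ e ⟨h1, h2⟩
    haveI : IsDomain S := e.symm.toMulEquiv.isDomain
    exact ⟨inferInstance, IsIntegrallyClosed.of_equiv e⟩
  constructor
  · intro h
    exact tr e2.symm (key.mp (tr e1 h))
  · intro h
    exact tr e1.symm (key.mpr (tr e2 h))

end Groth.Agent.S0066
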