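import Groth.Statements.S0076
import Groth.Agent.Lib.EtaleLift
import Groth.Agent.S0415

set_option autoImplicit false
open CategoryTheory CategoryTheory.Limits AlgebraicGeometry Opposite
universe u
open EtBase

namespace Groth.Agent.S0076

/-- For X étale over S and any S-scheme Y, base change along an integral, universally injective,
surjective S' → S gives a bijection between S-morphisms Y → X and S'-morphisms of the base changes. -/
theorem result {S S' : Scheme.{u}} (g : S' ⟶ S) [IsIntegralHom g] [UniversallyInjective g]
    [Surjective g] (X Y : Over S) [AlgebraicGeometry.Etale X.hom] :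
    Function.Bijective (fun φ : Y ⟶ X => (Over.pullback g).map φ) := by
  have hgUH : FlatMor.IsUnivHomeo g :=
    (Groth.Agent.S0415.result g).mpr ⟨inferInstance, inferInstance, inferInstance⟩
  have hq : FlatMor.IsUnivHomeo (pullback.fst Y.hom g) := MorphismProperty.pullback_fst _ _ hgUH
  have hqsurj : Surjective (pullback.fst Y.hom g) := by
    have h' := hq
    rw [Groth.Agent.Lib.UnivHomeo.isUnivHomeo_eq] at h'
    exact h'.2
  constructor
  · intro φ₁ φ₂ h
    have h1 : ((Over.pullback g).map φ₁).left = ((Over.pullback g).map φ₂).left := congrArg _ h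
    have h2 : pullback.fst Y.hom g ≫ φ₁.left = pullback.fst Y.hom g ≫ φ₂.left := by
      have := congr($h1 ≫ pullback.fst X.hom g)
      simp only [Over.pullback_map_left] at this
      erw [pullback.lift_fst, pullback.lift_fst] at this
      exact this
    have hfg : φ₁.left ≫ X.hom = φ₂.left ≫ X.hom := by rw [Over.w, Over.w]
    have : φ₁.left = φ₂.left :=
      Groth.Agent.Lib.DiagOpen.eq_of_surjective_comp_eq X.hom φ₁.left φ₂.left hfg
        (pullback.fst Y.hom g) h2
    exact Over.OverMorphism.ext this
  · intro φ'
    let ψ : pullback Y.hom g ⟶ X.left := φ'.left ≫ pullback.fst X.hom g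
    have hw : φ'.left ≫ pullback.snd X.hom g = pullback.snd Y.hom g := Over.w φ'
    have hψ : ψ ≫ X.hom = pullback.fst Y.hom g ≫ Y.hom := by
      simp only [ψ, Category.assoc]
      rw [pullback.condition, ← Category.assoc, hw, pullback.condition]
    obtain ⟨φ, hφ₁, hφ₂⟩ := Groth.Agent.Lib.EtaleLift.exists_lift X.hom Y.hom
      (pullback.fst Y.hom g) hq ψ hψ
    refine ⟨Over.homMk φ hφ₁, ?_⟩
    apply Over.OverMorphism.ext
    simp only [Over.pullback_map_left, Over.homMk_left]
    apply pullback.hom_ext
    · erw [pullback.lift_fst]
      exact hφ₂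
    · erw [pullback.lift_snd]
      exact hw.symm

end Groth.Agent.S0076
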