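import Groth.Statements.S0077
import Mathlib
import Groth.Agent.H8Sig2

set_option autoImplicit false
universe u
open EtBase

namespace Groth.Agent.S0077

/-- First half — on a finite-dimensional vector space over an algebraically closed field of
characteristic p, any additive p-semilinear map F has F − id surjective. -/
theorem result {k V : Type u} [Field k] [IsAlgClosed k] (p : ℕ) [Fact p.Prime] [CharP k p]
    [AddCommGroup V] [Module k V] [FiniteDimensional k V] (F : V →+ V)
    (hF : ∀ (c : k) (v : V), F (c • v) = c ^ p • F v) :
    Function.Surjective fun v => F v - v := by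
  set σ : k →+* k := frobenius k p with hσdef
  have hσ : ∀ c, σ c = c ^ (p ^ 1) := fun c => by rw [pow_one]; rfl
  let T : V →ₛₗ[σ] V :=
    { toFun := F
      map_add' := F.map_add
      map_smul' := fun c v => by
        show F (c • v) = σ c • F v
        rw [hσ, pow_one, hF] }
  have hsurj := H8Sig.sub_surjective T (H8Sig.h2_pow p 1 one_pos σ hσ)
    (H8Sig.h3_pow p 1 one_pos σ hσ)
  intro z
  obtain ⟨v, hv⟩ := hsurj (-z)
  refine ⟨v, ?_⟩
  have hv' : v - F v = -z := hv
  show F v - v = z
  have : F v - v = -(v - F v) := by abel
  rw [this, hv', neg_neg]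

end Groth.Agent.S0077
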