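import Groth.Statements.S0078
import Mathlib
import Groth.Agent.H8Sig2

set_option autoImplicit false
universe u
open EtBase

namespace Groth.Agent.S0078

/-- Second half — for such an F the fixed vectors F v = v form a finite set of size at most p ^ dim V
(an F_p-space of dimension at most dim V). -/
theorem result {k V : Type u} [Field k] [IsAlgClosed k] (p : ℕ) [Fact p.Prime] [CharP k p]
    [AddCommGroup V] [Module k V] [FiniteDimensional k V] (F : V →+ V)
    (hF : ∀ (c : k) (v : V), F (c • v) = c ^ p • F v) :
    Set.Finite {v : V | F v = v} ∧ Nat.card {v : V | F v = v} ≤ p ^ Module.finrank k V := by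
  classical
  have hp1 : 1 < p := (Fact.out : p.Prime).one_lt
  obtain ⟨s, hsS, hspan, hli⟩ := exists_linearIndependent k {v : V | F v = v}
  have hsfin : s.Finite := hli.setFinite
  let _ := hsfin.fintype
  have hcard : Fintype.card s ≤ Module.finrank k V := hli.fintype_card_le_finrank
  set P : Polynomial k := Polynomial.X ^ p - Polynomial.X with hP
  have hP0 : P ≠ 0 := FiniteField.X_pow_card_sub_X_ne_zero k hp1
  have hPdeg : P.natDegree = p := FiniteField.X_pow_card_sub_X_natDegree_eq k hp1
  set R : Finset k := P.roots.toFinset with hR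
  have hRcard : R.card ≤ p := by
    calc R.card ≤ Multiset.card P.roots := Multiset.toFinset_card_le _
      _ ≤ P.natDegree := Polynomial.card_roots' P
      _ = p := hPdeg
  have key : ∀ v, F v = v → ∃ c : s → k, (∀ u, c u ∈ R) ∧ v = ∑ u, c u • (u : V) := by
    intro v hv
    have hvs : v ∈ Submodule.span k (Set.range (Subtype.val : s → V)) := by
      rw [Subtype.range_coe, hspan]
      exact Submodule.subset_span hv
    obtain ⟨c, hc⟩ := (Submodule.mem_span_range_iff_exists_fun k).1 hvs
    refine ⟨c, ?_, hc.symm⟩
    have hFv : F v = ∑ u, (c u) ^ p • (u : V) := by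
      rw [← hc, map_sum]
      apply Finset.sum_congr rfl
      intro u _
      rw [hF]
      have hu : F (u : V) = (u : V) := hsS u.2
      rw [hu]
    have hzero : ∑ u, ((c u) ^ p - c u) • (u : V) = 0 := by
      simp only [sub_smul, Finset.sum_sub_distrib]
      rw [← hFv, hc, hv, sub_self]
    have h0 := Fintype.linearIndependent_iff.1 hli (fun u => (c u) ^ p - c u) hzero
    intro u
    rw [hR, Multiset.mem_toFinset, Polynomial.mem_roots hP0, Polynomial.IsRoot.def, hP,
      Polynomial.eval_sub, Polynomial.eval_pow, Polynomial.eval_X]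
    exact h0 u
  set g : (s → k) → V := fun c => ∑ u, c u • (u : V) with hg
  set D : Finset (s → k) := Fintype.piFinset (fun _ : s => R) with hD
  have hsub : {v : V | F v = v} ⊆ g '' (D : Set (s → k)) := by
    intro v hv
    obtain ⟨c, hcR, hcv⟩ := key v hv
    exact ⟨c, by rw [hD, Finset.mem_coe, Fintype.mem_piFinset]; exact hcR, hcv.symm⟩
  have himfin : (g '' (D : Set (s → k))).Finite := (Finset.finite_toSet D).image g
  refine ⟨himfin.subset hsub, ?_⟩
  rw [Nat.card_coe_set_eq]
  calc ({v : V | F v = v} : Set V).ncard ≤ (g '' (D : Set (s → k))).ncard :=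
        Set.ncard_le_ncard hsub himfin
    _ ≤ (D : Set (s → k)).ncard := Set.ncard_image_le (Finset.finite_toSet D)
    _ = D.card := Set.ncard_coe_finset D
    _ = R.card ^ Fintype.card s := by
        rw [hD, Fintype.card_piFinset, Finset.prod_const, Finset.card_univ]
    _ ≤ p ^ Fintype.card s := Nat.pow_le_pow_left hRcard _
    _ ≤ p ^ Module.finrank k V := Nat.pow_le_pow_right (by omega) hcard

end Groth.Agent.S0078
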