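import Groth.Statements.S0079

set_option autoImplicit false
open CategoryTheory CategoryTheory.Limits AlgebraicGeometry Opposite
universe u
open EtBase

namespace Groth.Agent.S0079

/-- Quasi-compactness of a morphism descends along a quasi-compact flat surjective base change: if the
base change of a morphism g along a quasi-compact, flat, surjective morphism to its target is
quasi-compact, then g is quasi-compact. (Stated for a single quasi-compact faithfully flat cover;
combined with Zariski-locality on the target this gives the fpqc-local form.) -/
theorem result :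
    MorphismProperty.DescendsAlong @QuasiCompact (@Surjective ⊓ @Flat ⊓ @QuasiCompact : MorphismProperty Scheme.{u}) := by
  constructor
  intro A X Y Z fst snd f g h hf hfst
  obtain ⟨⟨hsurj, _⟩, hqc⟩ := hf
  have hsnd : Surjective snd := MorphismProperty.of_isPullback (P := @Surjective) h hsurj
  constructor
  intro U hU hUc
  have h1 : IsCompact (f ⁻¹' U) := hqc.isCompact_preimage U hU hUc
  have h1o : IsOpen (f ⁻¹' U) := hU.preimage f.continuous
  have h2 : IsCompact (fst ⁻¹' (f ⁻¹' U)) := hfst.isCompact_preimage _ h1o h1
  have h3 : fst ⁻¹' (f ⁻¹' U) = snd ⁻¹' (g ⁻¹' U) := by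
    rw [← Set.preimage_comp, ← Set.preimage_comp]
    have := congrArg (fun φ => (φ.base : A → Z)) h.w
    simp only [Scheme.Hom.comp_base, TopCat.coe_comp] at this
    rw [this]
  rw [h3] at h2
  have h4 : snd '' (snd ⁻¹' (g ⁻¹' U)) = g ⁻¹' U := Set.image_preimage_eq _ hsnd.surj
  rw [← h4]
  exact h2.image snd.continuous

end Groth.Agent.S0079
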