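import Groth.Statements.S0087
import Mathlib.AlgebraicGeometry.Morphisms.LocalFlatDescent
import Mathlib.AlgebraicGeometry.Morphisms.QuasiFinite

set_option autoImplicit false
open CategoryTheory CategoryTheory.Limits AlgebraicGeometry Opposite
universe u
open EtBase

namespace Groth.Agent.S0087

theorem core {X Y Z : Scheme.{u}} (f : X ⟶ Z) (g : Y ⟶ Z) [Surjective f] [QuasiCompact g]
    [LocallyOfFiniteType g] (h : LocallyQuasiFinite (pullback.fst f g)) :
    LocallyQuasiFinite g := by
  apply LocallyQuasiFinite.of_finite_preimage_singleton
  intro z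
  obtain ⟨x, rfl⟩ := f.surjective z
  have fin := (pullback.fst f g).finite_preimage_singleton x
  refine (fin.image (pullback.snd f g)).subset ?_
  intro y hy
  obtain ⟨w, hw1, hw2⟩ := Scheme.Pullback.exists_preimage_pullback (f := f) (g := g) x y hy.symm
  exact ⟨w, hw1, hw2⟩

/-- Being locally quasi-finite (in the sense that includes being locally of finite type; encoded as the
conjunction of the two properties) descends along a quasi-compact flat surjective base change: if
the base change of a morphism g along a quasi-compact, flat, surjective morphism to its target is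
locally quasi-finite and locally of finite type, then so is g. (Stated for a single quasi-compact
faithfully flat cover; combined with Zariski-locality on the target this gives the fpqc-local form.) -/
theorem result :
    MorphismProperty.DescendsAlong (@LocallyQuasiFinite ⊓ @LocallyOfFiniteType : MorphismProperty Scheme.{u}) (@Surjective ⊓ @Flat ⊓ @QuasiCompact : MorphismProperty Scheme.{u}) := by
  have H₁ : (@IsLocalIso ⊓ @Surjective : MorphismProperty Scheme.{u}) ≤
      (@Surjective ⊓ @Flat : MorphismProperty Scheme.{u}) := by
    rw [inf_comm]
    gcongr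
    exact IsLocalIso.le_of_isZariskiLocalAtSource @Flat
  apply IsZariskiLocalAtTarget.descendsAlong_inf_quasiCompact _ _ H₁
  intro R S Y φ g h hf
  have hLFT : LocallyOfFiniteType g := by
    have : MorphismProperty.DescendsAlong @LocallyOfFiniteType
      (@Surjective ⊓ @Flat ⊓ @QuasiCompact : MorphismProperty Scheme.{u}) := inferInstance
    exact MorphismProperty.of_pullback_fst_of_descendsAlong
      (P := @LocallyOfFiniteType) (Q := @Surjective ⊓ @Flat ⊓ @QuasiCompact) (f := Spec.map φ)
      ⟨h, inferInstance⟩ hf.2
  refine ⟨?_, hLFT⟩
  have hS : Surjective (Spec.map φ) := h.1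
  have hLQF : LocallyQuasiFinite (pullback.fst (Spec.map φ) g) := hf.1
  rw [IsZariskiLocalAtSource.iff_of_openCover (P := @LocallyQuasiFinite) Y.affineCover]
  intro i
  have heq : pullback.fst (Spec.map φ) (Y.affineCover.f i ≫ g) =
      pullback.map _ _ _ _ (𝟙 _) (Y.affineCover.f i) (𝟙 _) (by simp) (by simp) ≫
        pullback.fst (Spec.map φ) g := (pullback.lift_fst _ _ _).symm
  have h2 : LocallyQuasiFinite (pullback.fst (Spec.map φ) (Y.affineCover.f i ≫ g)) := by
    rw [heq]
    exact AlgebraicGeometry.IsZariskiLocalAtSource.comp hLQF _
  exact core (Spec.map φ) (Y.affineCover.f i ≫ g) h2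

end Groth.Agent.S0087
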