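import Groth.Statements.S0098
import Groth.Agent.Lib.FiniteUnramified

set_option autoImplicit false
open CategoryTheory CategoryTheory.Limits AlgebraicGeometry Opposite
universe u
open EtBase

namespace Groth.Agent.S0098

/-- A finite étale morphism whose fibre over a point s is a single point with the same residue field is
an isomorphism over an open neighbourhood of s. -/
theorem result {X S : Scheme.{u}} (f : X ⟶ S) [IsFinite f] [AlgebraicGeometry.Etale f] (s : S) (x : X)
    (hx : f.base ⁻¹' {s} = {x}) (hκ : Function.Surjective (f.residueFieldMap x)) :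
    ∃ U : S.Opens, s ∈ U ∧ IsIso (f ∣_ U) := by
  have hx' : ∀ y : X, f y = s → y = x := by
    intro y hy
    have : y ∈ f.base ⁻¹' {s} := hy
    rw [hx] at this
    exact this
  have hfx : f x = s := by
    have : x ∈ f.base ⁻¹' {s} := by rw [hx]; rfl
    exact this
  obtain ⟨U, hs, hU⟩ := Groth.Agent.Lib.FiniteUnramified.exists_nhd f s x hx' hκ
  have h1 : IsClosedImmersion (f ∣_ U) := hU U le_rfl
  have h2 : IsOpenImmersion (f ∣_ U) := IsOpenImmersion.of_flat_of_mono _
  let V : U.toScheme.Opens := (f ∣_ U).opensRange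
  let U' : S.Opens := U.ι ''ᵁ V
  have hU'U : U' ≤ U := by
    rintro _ ⟨u, _, rfl⟩
    exact u.2
  have hxU : x ∈ f ⁻¹ᵁ U := by
    change f x ∈ U
    rw [hfx]; exact hs
  have hsU' : s ∈ U' := by
    let x' : ((f ⁻¹ᵁ U : X.Opens) : Scheme.{u}) := ⟨x, hxU⟩
    refine ⟨(f ∣_ U) x', ⟨x', rfl⟩, ?_⟩
    change ((f ∣_ U) x').1 = s
    rw [morphismRestrict_base_coe]
    exact hfx
  refine ⟨U', hsU', ?_⟩
  have h3 : IsClosedImmersion (f ∣_ U') := hU U' hU'U
  have h4 : IsOpenImmersion (f ∣_ U') := IsOpenImmersion.of_flat_of_mono _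
  rw [isIso_iff_isOpenImmersion_and_surjective]
  refine ⟨h4, ⟨fun u' => ?_⟩⟩
  obtain ⟨_, ⟨y, rfl⟩, hy⟩ := u'.2
  have hy' : f y.1 = u'.1 := by
    rw [← morphismRestrict_base_coe]
    exact hy
  have hyU' : y.1 ∈ f ⁻¹ᵁ U' := by
    change f y.1 ∈ U'
    rw [hy']; exact u'.2
  let y' : ((f ⁻¹ᵁ U' : X.Opens) : Scheme.{u}) := ⟨y.1, hyU'⟩
  refine ⟨y', ?_⟩
  apply Subtype.ext
  rw [morphismRestrict_base_coe]
  exact hy'

end Groth.Agent.S0098
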