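import Groth.Statements.S0101
import Groth.Agent.Lib.LanFlat
-- import your own Groth.Agent.* helpers here

set_option autoImplicit false
open CategoryTheory CategoryTheory.Limits AlgebraicGeometry Opposite
universe u
open EtBase

namespace Groth.Agent.S0101

theorem result {X Y : Scheme.{u}} (f : X ⟶ Y) [EtCoh.BCCont f] :
    PreservesFiniteLimits (EtCoh.pull f) := by
  have hfilt : ∀ K : (X.Etale)ᵒᵖ, IsFiltered (CostructuredArrow (EtCoh.bc f).op K) := fun K =>
    IsFiltered.of_equivalence (structuredArrowOpEquivalence (EtCoh.bc f) (Opposite.unop K))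
  have : AB5OfSize.{u, u + 1} AddCommGrpCat.{u + 1} := AB5OfSize_shrink.{u, u + 1, u + 1, u + 1} _
  have : ∀ K : (X.Etale)ᵒᵖ, HasExactColimitsOfShape (CostructuredArrow (EtCoh.bc f).op K)
      AddCommGrpCat.{u + 1} := fun K => AB5OfSize.ofShape _
  have : PreservesFiniteLimits ((EtCoh.bc f).op.lan :
      ((Y.Etale)ᵒᵖ ⥤ AddCommGrpCat.{u + 1}) ⥤ (X.Etale)ᵒᵖ ⥤ AddCommGrpCat.{u + 1}) :=
    Groth.Agent.LanFlat.lan_pfl _ _
  exact Functor.sheafPullbackConstruction.preservesFiniteLimits (EtCoh.bc f) AddCommGrpCat.{u + 1}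
    Y.smallEtaleTopology X.smallEtaleTopology

end Groth.Agent.S0101
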