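import Groth.Statements.S0119
import Mathlib
import Groth.Agent.Lib.helper4.EtaleStalk
import Groth.Agent.Lib.helper4.EtaleLocProps

set_option autoImplicit false
open CategoryTheory CategoryTheory.Limits AlgebraicGeometry Opposite
universe u
open EtBase

namespace Groth.Agent.S0119

/-- Let f : X → Y be an étale morphism of schemes with Y locally Noetherian, and let x ∈ X. Then the
local ring O_{X,x} is reduced if and only if the local ring O_{Y,f(x)} is reduced. -/
theorem result {X Y : Scheme.{u}} (f : X ⟶ Y) [AlgebraicGeometry.Etale f]
    [IsLocallyNoetherian Y] (x : X) :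
    _root_.IsReduced (X.presheaf.stalk x) ↔ _root_.IsReduced (Y.presheaf.stalk (f.base x)) := by
  obtain ⟨A, B, _, _, _, _, q, _, ⟨e1⟩, ⟨e2⟩, -⟩ := Groth.Agent.H4.H4_etale_stalk_data f x
  have key := Groth.Agent.H4.H4_isReduced_localization_iff_of_etale A B q
  constructor
  · intro h
    haveI : _root_.IsReduced (Localization.AtPrime q) :=
      isReduced_of_injective e1.symm e1.symm.injective
    haveI := key.mpr inferInstance
    exact isReduced_of_injective e2 e2.injective
  · intro h
    haveI : _root_.IsReduced (Localization.AtPrime (q.comap (algebraMap A B))) :=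
      isReduced_of_injective e2.symm e2.symm.injective
    haveI := key.mp inferInstance
    exact isReduced_of_injective e1 e1.injective

end Groth.Agent.S0119
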