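import Groth.Statements.S0152
import Mathlib
import Groth.Agent.Lib.helper4.SpecPi0

set_option autoImplicit false
universe u
open EtPBC

namespace Groth.Agent.S0152

/-- Let X be a spectral space and Z a closed subset such that Z meets the closure of every point of X in
a connected (nonempty) set. If Z is the disjoint union of two closed subsets Z_1, Z_2 then X is the
disjoint union of closed subsets X_1, X_2 with Z_i = Z ∩ X_i. -/
theorem result (X : Type u) [TopologicalSpace X] [SpectralSpace X]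
    (Z : Set X) (hZ : IsClosed Z)
    (hconn : ∀ x : X, IsConnected (Z ∩ closure {x}))
    (Z₁ Z₂ : Set X) (h₁ : IsClosed Z₁) (h₂ : IsClosed Z₂) (hdisj : Disjoint Z₁ Z₂) (hunion : Z₁ ∪ Z₂ = Z) :
    ∃ X₁ X₂ : Set X, IsClosed X₁ ∧ IsClosed X₂ ∧ Disjoint X₁ X₂ ∧ X₁ ∪ X₂ = Set.univ ∧
      Z₁ = Z ∩ X₁ ∧ Z₂ = Z ∩ X₂ := by
  -- key dichotomy from connectedness
  have hZ₁Z : Z₁ ⊆ Z := hunion ▸ Set.subset_union_left
  have hZ₂Z : Z₂ ⊆ Z := hunion ▸ Set.subset_union_right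
  have key : ∀ x : X, Z ∩ closure {x} ⊆ Z₁ ∨ Z ∩ closure {x} ⊆ Z₂ := by
    intro x
    have hpre := (hconn x).isPreconnected
    rw [isPreconnected_iff_subset_of_disjoint_closed] at hpre
    refine hpre Z₁ Z₂ h₁ h₂ ?_ ?_
    · intro z hz; rw [hunion]; exact hz.1
    · rw [Set.disjoint_iff_inter_eq_empty.1 hdisj, Set.inter_empty]
  have hG1 : ∀ x : X, (Z₁ ∩ closure {x}).Nonempty → Z ∩ closure {x} ⊆ Z₁ := by
    intro x ⟨z, hz1, hzx⟩
    rcases key x with h | h
    · exact h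
    · exact absurd (h ⟨hZ₁Z hz1, hzx⟩) (Set.disjoint_left.1 hdisj hz1)
  have hG2 : ∀ x : X, (Z₂ ∩ closure {x}).Nonempty → Z ∩ closure {x} ⊆ Z₂ := by
    intro x ⟨z, hz2, hzx⟩
    rcases key x with h | h
    · exact absurd hz2 (Set.disjoint_left.1 hdisj (h ⟨hZ₂Z hz2, hzx⟩))
    · exact h
  have hstab1 : StableUnderSpecialization {x : X | (Z₁ ∩ closure {x}).Nonempty} := by
    intro x x' hxx' hx
    obtain ⟨z, hzZ, hzx'⟩ := (hconn x').nonempty
    have hsub : closure ({x'} : Set X) ⊆ closure {x} :=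
      (isClosed_closure.closure_subset_iff).2
        (Set.singleton_subset_iff.2 (specializes_iff_mem_closure.1 hxx'))
    exact ⟨z, hG1 x hx ⟨hzZ, hsub hzx'⟩, hzx'⟩
  have hstab2 : StableUnderSpecialization {x : X | (Z₂ ∩ closure {x}).Nonempty} := by
    intro x x' hxx' hx
    obtain ⟨z, hzZ, hzx'⟩ := (hconn x').nonempty
    have hsub : closure ({x'} : Set X) ⊆ closure {x} :=
      (isClosed_closure.closure_subset_iff).2
        (Set.singleton_subset_iff.2 (specializes_iff_mem_closure.1 hxx'))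
    exact ⟨z, hG2 x hx ⟨hzZ, hsub hzx'⟩, hzx'⟩
  refine ⟨{x : X | (Z₁ ∩ closure {x}).Nonempty}, {x : X | (Z₂ ∩ closure {x}).Nonempty},
    _root_.H4.H4_isClosed_of_isClosed_constr_of_stable
      (Groth.Agent.H4.H4_isClosed_constr_generizations h₁) hstab1,
    _root_.H4.H4_isClosed_of_isClosed_constr_of_stable
      (Groth.Agent.H4.H4_isClosed_constr_generizations h₂) hstab2, ?_, ?_, ?_, ?_⟩
  · rw [Set.disjoint_left]
    intro x hx1 hx2
    obtain ⟨z, hz2, hzx⟩ := hx2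
    exact Set.disjoint_left.1 hdisj (hG1 x hx1 ⟨hZ₂Z hz2, hzx⟩) hz2
  · ext x
    simp only [Set.mem_union, Set.mem_univ, iff_true]
    obtain ⟨z, hzZ, hzx⟩ := (hconn x).nonempty
    rw [← hunion] at hzZ
    rcases hzZ with h | h
    · exact Or.inl ⟨z, h, hzx⟩
    · exact Or.inr ⟨z, h, hzx⟩
  · ext z
    constructor
    · intro hz
      exact ⟨hZ₁Z hz, ⟨z, hz, subset_closure rfl⟩⟩
    · rintro ⟨hzZ, hz⟩
      exact hG1 z hz ⟨hzZ, subset_closure rfl⟩
  · ext z
    constructor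
    · intro hz
      exact ⟨hZ₂Z hz, ⟨z, hz, subset_closure rfl⟩⟩
    · rintro ⟨hzZ, hz⟩
      exact hG2 z hz ⟨hzZ, subset_closure rfl⟩

end Groth.Agent.S0152
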