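import Groth.Statements.S0179
import Mathlib
import Groth.Agent.Lib.helper4.SpecPi0

set_option autoImplicit false
universe u
open EtPBC

namespace Groth.Agent.S0179

/-- For a spectral space X with set of closed points X_0, the following are equivalent: (1) any open
cover of X admits a refinement by finitely many pairwise disjoint open-and-closed pieces; (2) the
map from X_0 to the space of connected components pi_0(X) is a bijection. -/
theorem result (X : Type u) [TopologicalSpace X] [SpectralSpace X] :
    (∀ (ι : Type u) (U : ι → Set X), (∀ i, IsOpen (U i)) → (⋃ i, U i) = Set.univ →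
      ∃ (n : ℕ) (V : Fin n → Set X), (∀ k, IsClopen (V k)) ∧
        Pairwise (fun k l => Disjoint (V k) (V l)) ∧ (⋃ k, V k) = Set.univ ∧ ∀ k, ∃ i, V k ⊆ U i) ↔
    Function.Bijective (fun x : {x : X // IsClosed ({x} : Set X)} => _root_.ConnectedComponents.mk x.1) := by
  classical
  have hcomp : ∀ x x' : X, x ⤳ x' →
      _root_.ConnectedComponents.mk x' = _root_.ConnectedComponents.mk x := by
    intro x x' h
    apply ConnectedComponents.coe_eq_coe'.2
    have hpre : IsPreconnected (closure ({x} : Set X)) := isPreconnected_singleton.closure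
    exact hpre.subset_connectedComponent (subset_closure rfl) (specializes_iff_mem_closure.1 h)
  have hexcl : ∀ x : X, ∃ z : X, IsClosed ({z} : Set X) ∧ x ⤳ z := by
    intro x
    obtain ⟨z, hz, hzcl⟩ := (isClosed_closure (s := ({x} : Set X))).exists_closed_singleton
      ⟨x, subset_closure rfl⟩
    exact ⟨z, hzcl, specializes_iff_mem_closure.2 hz⟩
  constructor
  · intro h1
    constructor
    · rintro ⟨a, ha⟩ ⟨b, hb⟩ hab
      simp only at hab
      apply Subtype.ext
      show a = b
      by_contra hne
      obtain ⟨n, V, hVclopen, -, hVcov, hVU⟩ := h1 (ULift Bool)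
        (fun i => if i.down then ({a} : Set X)ᶜ else ({b} : Set X)ᶜ)
        (fun i => by
          by_cases hi : i.down
          · simp only [hi, if_true]; exact ha.isOpen_compl
          · simp only [hi]; exact hb.isOpen_compl)
        (by
          ext x
          simp only [Set.mem_iUnion, Set.mem_univ, iff_true]
          by_cases hxa : x = a
          · refine ⟨⟨false⟩, ?_⟩
            simp only [Bool.false_eq_true, if_false]
            rw [hxa]; exact hne
          · exact ⟨⟨true⟩, by simpa using hxa⟩)
      have : a ∈ ⋃ k, V k := by rw [hVcov]; trivial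
      obtain ⟨k, hak⟩ := Set.mem_iUnion.1 this
      obtain ⟨i, hki⟩ := hVU k
      have hbk : b ∈ V k := by
        have hsub := (hVclopen k).connectedComponent_subset hak
        exact hsub (ConnectedComponents.coe_eq_coe'.1 hab.symm)
      by_cases hi : i.down
      · have := hki hak
        simp only [hi, if_true] at this
        exact this rfl
      · have := hki hbk
        simp only [hi] at this
        exact this rfl
    · intro c
      obtain ⟨x, rfl⟩ := ConnectedComponents.surjective_coe c
      obtain ⟨z, hzcl, hxz⟩ := hexcl x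
      exact ⟨⟨z, hzcl⟩, hcomp x z hxz⟩
  · intro hbij ι U hUo hUcov
    -- each point has a clopen neighbourhood inside some U i
    have hloc : ∀ x : X, ∃ W : Set X, IsClopen W ∧ x ∈ W ∧ ∃ i, W ⊆ U i := by
      intro x
      obtain ⟨z, hzcl, hxz⟩ := hexcl x
      have : z ∈ ⋃ i, U i := by rw [hUcov]; trivial
      obtain ⟨i, hzi⟩ := Set.mem_iUnion.1 this
      have hCU : connectedComponent x ⊆ U i := by
        intro y hy
        obtain ⟨z', hz'cl, hyz'⟩ := hexcl y
        have h1 : _root_.ConnectedComponents.mk z' = _root_.ConnectedComponents.mk z := by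
          rw [hcomp y z' hyz', hcomp x z hxz]
          exact ConnectedComponents.coe_eq_coe'.2 hy
        have h2 : (⟨z', hz'cl⟩ : {x : X // IsClosed ({x} : Set X)}) = ⟨z, hzcl⟩ :=
          hbij.1 h1
        have h3 : z' = z := congrArg Subtype.val h2
        rw [h3] at hyz'
        exact hyz'.mem_open (hUo i) hzi
      rw [Groth.Agent.H4.H4_connectedComponent_eq_iInter_isClopen x] at hCU
      have hempty : (U i)ᶜ ∩ ⋂ s : { s : Set X // IsClopen s ∧ x ∈ s }, (s : Set X) = ∅ := by
        rw [Set.eq_empty_iff_forall_notMem]
        rintro y ⟨hy1, hy2⟩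
        exact hy1 (hCU hy2)
      obtain ⟨t, ht⟩ := (hUo i).isClosed_compl.isCompact.elim_finite_subfamily_closed _
        (fun s : { s : Set X // IsClopen s ∧ x ∈ s } => s.2.1.1) hempty
      refine ⟨⋂ s ∈ t, (s : Set X), isClopen_biInter_finset fun s _ => s.2.1,
        Set.mem_iInter₂.2 fun s _ => s.2.2, i, ?_⟩
      intro y hy
      by_contra hyU
      have : y ∈ (U i)ᶜ ∩ ⋂ s ∈ t, (s : Set X) := ⟨hyU, hy⟩
      rw [ht] at this; exact this
    choose W hWclopen hxW hWU using hloc
    obtain ⟨t, ht⟩ := isCompact_univ.elim_finite_subcover W (fun x => (hWclopen x).2)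
      (fun x _ => Set.mem_iUnion.2 ⟨x, hxW x⟩)
    -- enumerate t
    let e := t.equivFin
    let f : Fin t.card → Set X := fun k => W (e.symm k).1
    refine ⟨t.card, disjointed f, ?_, ?_, ?_, ?_⟩
    · intro k
      refine disjointedRec (p := fun s : Set X => IsClopen s) ?_ (hWclopen _)
      intro s i hs
      exact hs.diff (hWclopen _)
    · exact disjoint_disjointed f
    · rw [iUnion_disjointed]
      ext y
      simp only [Set.mem_iUnion, Set.mem_univ, iff_true]
      obtain ⟨x, hxt, hyx⟩ := Set.mem_iUnion₂.1 (ht (Set.mem_univ y))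
      refine ⟨e ⟨x, hxt⟩, ?_⟩
      show y ∈ W (e.symm (e ⟨x, hxt⟩)).1
      rw [Equiv.symm_apply_apply]; exact hyx
    · intro k
      obtain ⟨i, hi⟩ := hWU (e.symm k).1
      exact ⟨i, (disjointed_subset f k).trans hi⟩

end Groth.Agent.S0179
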