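import Groth.Statements.S0180
import Mathlib
import Groth.Agent.Lib.helper4.SpecPi0
import Groth.Agent.S0152

set_option autoImplicit false
universe u
open EtPBC

namespace Groth.Agent.S0180

/-- Final assertion: if X is spectral, the set X_0 of closed points is closed, and every point of X
specializes to exactly one closed point, then X_0 -> pi_0(X) is bijective (so X satisfies the
equivalent conditions of the lemma; such X are called w-local). -/
theorem result (X : Type u) [TopologicalSpace X]
    [SpectralSpace X] (h0 : IsClosed {x : X | IsClosed ({x} : Set X)})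
    (huniq : ∀ x : X, ∃! z : X, IsClosed ({z} : Set X) ∧ x ⤳ z) :
    Function.Bijective (fun x : {x : X // IsClosed ({x} : Set X)} => _root_.ConnectedComponents.mk x.1) := by
  classical
  have hcomp : ∀ x x' : X, x ⤳ x' →
      _root_.ConnectedComponents.mk x' = _root_.ConnectedComponents.mk x := by
    intro x x' h
    apply ConnectedComponents.coe_eq_coe'.2
    have hpre : IsPreconnected (closure ({x} : Set X)) := isPreconnected_singleton.closure
    exact hpre.subset_connectedComponent (subset_closure rfl) (specializes_iff_mem_closure.1 h)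
  have hclosed_spec : ∀ z z' : X, IsClosed ({z} : Set X) → z ⤳ z' → z' = z := by
    intro z z' hz h
    have := specializes_iff_mem_closure.1 h
    rw [hz.closure_eq] at this
    exact this
  -- connectedness of X₀ ∩ closure {x}
  have hconn : ∀ x : X, IsConnected ({x : X | IsClosed ({x} : Set X)} ∩ closure {x}) := by
    intro x
    obtain ⟨z, ⟨hzcl, hxz⟩, hzu⟩ := huniq x
    have : {x : X | IsClosed ({x} : Set X)} ∩ closure {x} = {z} := by
      ext w
      constructor
      · rintro ⟨hw1, hw2⟩
        exact hzu w ⟨hw1, specializes_iff_mem_closure.2 hw2⟩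
      · rintro rfl
        exact ⟨hzcl, specializes_iff_mem_closure.1 hxz⟩
    rw [this]
    exact isConnected_singleton
  -- separation lemma
  have hsep : ∀ a b : X, IsClosed ({a} : Set X) → IsClosed ({b} : Set X) →
      ∀ U : Set X, IsOpen U → IsCompact U → a ∈ U → b ∉ U →
      _root_.ConnectedComponents.mk a ≠ _root_.ConnectedComponents.mk b := by
    intro a b ha hb U hUo hUc haU hbU hab
    have hZ1 : IsClosed ({x : X | IsClosed ({x} : Set X)} ∩ U) := by
      apply _root_.H4.H4_isClosed_of_isClosed_constr_of_stable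
      · exact @IsClosed.inter X _ _ (constructibleTopology X)
          (_root_.H4.H4_isClosed_constr_of_isClosed h0)
          (_root_.H4.H4_isClosed_constr_of_isCompact_isOpen hUc hUo)
      · intro x x' hxx' hx
        have := hclosed_spec x x' hx.1 hxx'
        rw [this]; exact hx
    have hZ2 : IsClosed ({x : X | IsClosed ({x} : Set X)} ∩ Uᶜ) := h0.inter hUo.isClosed_compl
    obtain ⟨X₁, X₂, hX₁, hX₂, hd, hu, e₁, e₂⟩ := Groth.Agent.S0152.result X
      {x : X | IsClosed ({x} : Set X)} h0 hconn _ _ hZ1 hZ2
      (by
        rw [Set.disjoint_left]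
        rintro x ⟨_, hxU⟩ ⟨_, hxU'⟩
        exact hxU' hxU)
      (by rw [← Set.inter_union_distrib_left, Set.union_compl_self, Set.inter_univ])
    have haX₁ : a ∈ X₁ := by
      have : a ∈ {x : X | IsClosed ({x} : Set X)} ∩ U := ⟨ha, haU⟩
      rw [e₁] at this; exact this.2
    have hbX₂ : b ∈ X₂ := by
      have : b ∈ {x : X | IsClosed ({x} : Set X)} ∩ Uᶜ := ⟨hb, hbU⟩
      rw [e₂] at this; exact this.2
    have hX₁clopen : IsClopen X₁ := by
      refine ⟨hX₁, ?_⟩
      have : X₁ = X₂ᶜ := by
        ext x
        constructor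
        · intro h1 h2; exact Set.disjoint_left.1 hd h1 h2
        · intro h2
          have : x ∈ X₁ ∪ X₂ := by rw [hu]; trivial
          exact this.resolve_right h2
      rw [this]; exact hX₂.isOpen_compl
    have hsub := hX₁clopen.connectedComponent_subset haX₁
    have hb_in : b ∈ connectedComponent a := ConnectedComponents.coe_eq_coe'.1 hab.symm
    exact Set.disjoint_left.1 hd (hsub hb_in) hbX₂
  constructor
  · rintro ⟨a, ha⟩ ⟨b, hb⟩ hab
    simp only at hab
    apply Subtype.ext
    show a = b
    by_contra hne
    obtain ⟨V, hVo, hV⟩ := exists_isOpen_xor_mem hne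
    rcases hV with ⟨haV, hbV⟩ | ⟨hbV, haV⟩
    · obtain ⟨U, ⟨hUo, hUc⟩, haU, hUV⟩ :=
        (PrespectralSpace.isTopologicalBasis (X := X)).exists_subset_of_mem_open haV hVo
      exact hsep a b ha hb U hUo hUc haU (fun h => hbV (hUV h)) hab
    · obtain ⟨U, ⟨hUo, hUc⟩, hbU, hUV⟩ :=
        (PrespectralSpace.isTopologicalBasis (X := X)).exists_subset_of_mem_open hbV hVo
      exact hsep b a hb ha U hUo hUc hbU (fun h => haV (hUV h)) hab.symm
  · intro c
    obtain ⟨x, rfl⟩ := ConnectedComponents.surjective_coe c
    obtain ⟨z, ⟨hzcl, hxz⟩, -⟩ := huniq x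
    exact ⟨⟨z, hzcl⟩, hcomp x z hxz⟩

end Groth.Agent.S0180
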