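import Groth.Statements.S0186
import Mathlib
import Groth.Agent.Lib.helper4.SimpleRep
import Groth.Agent.S0190

set_option autoImplicit false
universe u v w
open scoped TensorProduct
open Curves

namespace Groth.Agent.S0186

/-- Two algebra maps from a simple algebra into a finite central simple algebra differ by conjugation by
a unit. -/
theorem result (k : Type u) [Field k] (A : Type v) [Ring A] [Algebra k A]
    [Algebra.IsCentral k A] [IsSimpleRing A] [FiniteDimensional k A]
    (B : Type w) [Ring B] [Algebra k B] [IsSimpleRing B] (f g : B →ₐ[k] A) :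
    ∃ x : Aˣ, ∀ b : B, f b = (x : A) * g b * (x⁻¹ : Aˣ) := by
  classical
  haveI : IsSimpleRing (TensorProduct k B Aᵐᵒᵖ) := Groth.Agent.S0190.result k B Aᵐᵒᵖ
  have hfinj : Function.Injective f := (f : B →+* A).injective
  haveI : FiniteDimensional k B := Module.Finite.of_injective f.toLinearMap hfinj
  let φ : (B →ₐ[k] A) → (TensorProduct k B Aᵐᵒᵖ →ₐ[k] Module.End k A) := fun h =>
    (AlgHom.mulLeftRight k A).comp (Algebra.TensorProduct.map h (AlgHom.id k Aᵐᵒᵖ))
  have hφ : ∀ (h : B →ₐ[k] A) (b : B) (a : A) (x : A),
      φ h (TensorProduct.tmul k b (MulOpposite.op a)) x = h b * x * a := by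
    intro h b a x
    simp only [φ, AlgHom.comp_apply, Algebra.TensorProduct.map_tmul, AlgHom.id_apply,
      AlgHom.mulLeftRight_apply, MulOpposite.unop_op]
  obtain ⟨u, hu⟩ := Groth.Agent.H4.H4_rep_conj (φ f) (φ g)
  have hright : ∀ x a : A, u (x * a) = u x * a := by
    intro x a
    have := hu (TensorProduct.tmul k 1 (MulOpposite.op a)) x
    rw [hφ, hφ, map_one, map_one, one_mul, one_mul] at this
    exact this
  have hleft : ∀ (b : B) (x : A), u (f b * x) = g b * u x := by
    intro b x
    have := hu (TensorProduct.tmul k b (MulOpposite.op 1)) x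
    rw [hφ, hφ, mul_one, mul_one] at this
    exact this
  have hright' : ∀ y a : A, u.symm (y * a) = u.symm y * a := by
    intro y a
    apply u.injective
    rw [hright, LinearEquiv.apply_symm_apply, LinearEquiv.apply_symm_apply]
  set c := u 1 with hc
  set d := u.symm 1 with hd
  have hux : ∀ x, u x = c * x := by
    intro x
    have := hright 1 x
    rw [one_mul] at this
    exact this
  have husx : ∀ y, u.symm y = d * y := by
    intro y
    have := hright' 1 y
    rw [one_mul] at this
    exact this
  have hcd : c * d = 1 := by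
    rw [← hux, hd, LinearEquiv.apply_symm_apply]
  have hdc : d * c = 1 := by
    rw [← husx, hc, LinearEquiv.symm_apply_apply]
  refine ⟨⟨d, c, hdc, hcd⟩, fun b => ?_⟩
  change f b = d * g b * c
  have h1 : c * f b = g b * c := by
    have := hleft b 1
    rw [mul_one, hux] at this
    exact this
  calc f b = (d * c) * f b := by rw [hdc, one_mul]
    _ = d * (c * f b) := by rw [mul_assoc]
    _ = d * (g b * c) := by rw [h1]
    _ = d * g b * c := by rw [mul_assoc]

end Groth.Agent.S0186
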