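import Groth.Statements.S0193
import Mathlib
import Groth.Agent.Lib.helper4.MatrixSimple

set_option autoImplicit false
universe u v w
open scoped TensorProduct
open Curves

namespace Groth.Agent.S0193

/-- If matrix algebras of positive size over two finite central skew fields are isomorphic as
k-algebras, the skew fields are isomorphic. -/
theorem result (k : Type u) [Field k]
    (D : Type v) [DivisionRing D] [Algebra k D] [Algebra.IsCentral k D] [FiniteDimensional k D]
    (D' : Type w) [DivisionRing D'] [Algebra k D'] [Algebra.IsCentral k D'] [FiniteDimensional k D']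
    (n m : ℕ) (hn : n ≠ 0) (hm : m ≠ 0)
    (e : Matrix (Fin n) (Fin n) D ≃ₐ[k] Matrix (Fin m) (Fin m) D') :
    Nonempty (D ≃ₐ[k] D') := by
  classical
  haveI : NeZero n := ⟨hn⟩
  haveI : NeZero m := ⟨hm⟩
  let T := Matrix (Fin n) (Fin n) D
  haveI : IsArtinianRing T := IsArtinianRing.of_finite k T
  let ε₁ : T →ₐ[k] Matrix (Fin n) (Fin n) D := AlgHom.id k T
  let ε₂ : T →ₐ[k] Matrix (Fin m) (Fin m) D' := (e : T →ₐ[k] Matrix (Fin m) (Fin m) D')
  have h₁ : Function.Surjective ε₁ := Function.surjective_id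
  have h₂ : Function.Surjective ε₂ := e.surjective
  haveI := Groth.Agent.H4.H4col_simple k D n T ε₁ h₁
  haveI := Groth.Agent.H4.H4col_simple k D' m T ε₂ h₂
  obtain ⟨u⟩ := Groth.Agent.H4.H4_simple_iso T
    (Groth.Agent.H4.H4Rep (Groth.Agent.H4.H4col_φ k D n T ε₁))
    (Groth.Agent.H4.H4Rep (Groth.Agent.H4.H4col_φ k D' m T ε₂))
  let a₁ := Groth.Agent.H4.H4col_endEquiv k D n T ε₁ h₁
  let a₂ := Groth.Agent.H4.H4col_endEquiv k D' m T ε₂ h₂
  exact ⟨AlgEquiv.unop ((a₁.trans (u.conjAlgEquiv k)).trans a₂.symm)⟩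

end Groth.Agent.S0193
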