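import Groth.Statements.S0194
import Mathlib
import Groth.Agent.Lib.helper4.Centralizer
import Groth.Agent.Lib.helper6.CSATensor

set_option autoImplicit false
universe u v w
open scoped TensorProduct
open Curves

namespace Groth.Agent.S0194

/-- A central simple subalgebra B of a finite central simple algebra A, together with its centralizer C,
decomposes A as B ⊗ C. -/
theorem result (k : Type u) [Field k] (A : Type v) [Ring A] [Algebra k A]
    [Algebra.IsCentral k A] [IsSimpleRing A] [FiniteDimensional k A]
    (B : Subalgebra k A) [IsSimpleRing B] [Algebra.IsCentral k B] :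
    Function.Bijective (Algebra.TensorProduct.lift B.val (Subalgebra.centralizer k (B : Set A)).val
      (fun x y => y.2 x.1 x.2)) := by
  classical
  set C := Subalgebra.centralizer k (B : Set A) with hC
  obtain ⟨hCs, hdim1⟩ := Groth.Agent.H4.H4_centralizer_main k A B
  haveI : IsSimpleRing ↥C := hCs
  haveI : IsSimpleRing (TensorProduct k ↥B ↥C) :=
    Groth.Agent.Lib.helper6.H6_isSimpleRing_tensor (K := k) (A := ↥B) (B := ↥C)
  set μ := Algebra.TensorProduct.lift B.val C.val (fun x y => y.2 x.1 x.2) with hμ
  have hinj : Function.Injective μ := (μ : TensorProduct k ↥B ↥C →+* A).injective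
  refine ⟨hinj, ?_⟩
  have hfin : Module.finrank k (TensorProduct k ↥B ↥C) = Module.finrank k A := by
    rw [Module.finrank_tensorProduct, hdim1]
  exact (LinearMap.injective_iff_surjective_of_finrank_eq_finrank (f := μ.toLinearMap) hfin).1 hinj

end Groth.Agent.S0194
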