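import Groth.Statements.S0196
import Mathlib
import Groth.Agent.Lib.helper4.Centralizer

set_option autoImplicit false
universe u v w
open scoped TensorProduct
open Curves

namespace Groth.Agent.S0196

/-- In a finite central skew field D over k, a maximal commutative k-subalgebra L satisfies dim D = (dim
L)^2. -/
theorem result (k : Type u) [Field k]
    (D : Type v) [DivisionRing D] [Algebra k D] [Algebra.IsCentral k D] [FiniteDimensional k D]
    (L : Subalgebra k D) (hcomm : ∀ x ∈ L, ∀ y ∈ L, x * y = y * x)
    (hmax : ∀ L' : Subalgebra k D, (∀ x ∈ L', ∀ y ∈ L', x * y = y * x) → L ≤ L' → L' = L) :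
    Module.finrank k D = Module.finrank k L ^ 2 := by
  classical
  letI cr : CommRing ↥L :=
    { (inferInstance : Ring ↥L) with
      mul_comm := fun x y => Subtype.ext (hcomm x x.2 y y.2) }
  haveI : IsDomain ↥L := NoZeroDivisors.to_isDomain _
  haveI : Algebra.IsIntegral k ↥L := Algebra.IsIntegral.of_finite k ↥L
  have hfield : IsField ↥L := isField_of_isIntegral_of_isField' (Field.toIsField k)
  haveI : IsSimpleRing ↥L := (isSimpleRing_iff_isField ↥L).2 hfield
  have hcent : Subalgebra.centralizer k (L : Set D) = L := by
    apply le_antisymm
    · intro x hx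
      rw [Subalgebra.mem_centralizer_iff] at hx
      let L' := Algebra.adjoin k (insert x (L : Set D))
      have hs : ∀ a ∈ insert x (L : Set D), ∀ b ∈ insert x (L : Set D), a * b = b * a := by
        intro a ha b hb
        rcases ha with rfl | ha <;> rcases hb with rfl | hb
        · rfl
        · exact (hx b hb).symm
        · exact hx a ha
        · exact hcomm a ha b hb
      have hL'c : IsMulCommutative L' := Algebra.isMulCommutative_adjoin k hs
      have hL' : ∀ a ∈ L', ∀ b ∈ L', a * b = b * a := by
        intro a ha b hb
        have := hL'c.is_comm.comm ⟨a, ha⟩ ⟨b, hb⟩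
        exact congrArg Subtype.val this
      have hle : L ≤ L' := fun y hy => Algebra.subset_adjoin (Set.mem_insert_of_mem x hy)
      have := hmax L' hL' hle
      rw [← this]
      exact Algebra.subset_adjoin (Set.mem_insert x _)
    · intro x hx
      rw [Subalgebra.mem_centralizer_iff]
      intro y hy
      exact hcomm y hy x hx
  have h := (Groth.Agent.H4.H4_centralizer_main k D L).2
  rw [hcent] at h
  rw [h, sq]

end Groth.Agent.S0196
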