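import Groth.Statements.S0197
import Mathlib

set_option autoImplicit false
universe u v w
open scoped TensorProduct
open Curves

namespace Groth.Agent.S0197

/-- If a finite central skew field D has dimension d^2, the degree of any finite splitting field of D is
divisible by d. -/
theorem result (k : Type u) [Field k]
    (D : Type u) [DivisionRing D] [Algebra k D] [Algebra.IsCentral k D] [FiniteDimensional k D]
    (d : ℕ) (hd : Module.finrank k D = d ^ 2)
    (k' : Type u) [Field k'] [Algebra k k'] [FiniteDimensional k k'] (hs : Curves.Splits k D k') :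
    d ∣ Module.finrank k k' := by
  classical
  obtain ⟨n, hn, ⟨e⟩⟩ := hs
  have hnd : n = d := by
    have h1 : Module.finrank k' (TensorProduct k k' D) = Module.finrank k D :=
      Module.finrank_baseChange
    have h2 : Module.finrank k' (TensorProduct k k' D) = n * n := by
      rw [e.toLinearEquiv.finrank_eq, Module.finrank_matrix]
      simp
    rw [h1, hd, sq] at h2
    exact (Nat.mul_self_inj.1 h2).symm
  subst hnd
  let V := Fin n → k'
  let ψ : D →ₐ[k] Module.End k' V :=
    ((Matrix.toLinAlgEquiv' (R := k') (n := Fin n)).toAlgHom.restrictScalars k).comp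
      ((e.toAlgHom.restrictScalars k).comp Algebra.TensorProduct.includeRight)
  letI : Module D V := Module.compHom V (ψ : D →+* Module.End k' V)
  haveI : IsScalarTower k D V := ⟨fun c x v => by
    change ψ (c • x) v = c • ψ x v
    rw [map_smul]; rfl⟩
  have t1 := Module.finrank_mul_finrank k k' V
  have t2 := Module.finrank_mul_finrank k D V
  have hV : Module.finrank k' V = n := Module.finrank_fin_fun k'
  rw [hV] at t1
  rw [hd] at t2
  refine ⟨Module.finrank D V, ?_⟩
  have hpos : 0 < n := Nat.pos_of_ne_zero hn
  apply Nat.eq_of_mul_eq_mul_right hpos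
  rw [t1, ← t2]
  ring

end Groth.Agent.S0197
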