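import Groth.Statements.S0198
import Mathlib
import Groth.Agent.Lib.helper4.SepMaxSub

set_option autoImplicit false
universe u v w
open scoped TensorProduct
open Curves

namespace Groth.Agent.S0198

/-- A finite central skew field over k contains a maximal commutative subalgebra that is separable over
k. -/
theorem result (k : Type u) [Field k]
    (D : Type v) [DivisionRing D] [Algebra k D] [Algebra.IsCentral k D] [FiniteDimensional k D] :
    ∃ L : Subalgebra k D, (∀ x ∈ L, ∀ y ∈ L, x * y = y * x) ∧
      (∀ L' : Subalgebra k D, (∀ x ∈ L', ∀ y ∈ L', x * y = y * x) → L ≤ L' → L' = L) ∧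
      Algebra.IsSeparable k L := by
  classical
  let good : Subalgebra k D → Prop := fun L =>
    (∀ x ∈ L, ∀ y ∈ L, x * y = y * x) ∧ ∀ x ∈ L, IsSeparable k x
  have hbot : good ⊥ := by
    constructor
    · intro x hx y hy
      rw [Algebra.mem_bot] at hx hy
      obtain ⟨a, rfl⟩ := hx
      obtain ⟨b, rfl⟩ := hy
      rw [← map_mul, ← map_mul, mul_comm]
    · intro x hx
      rw [Algebra.mem_bot] at hx
      obtain ⟨a, rfl⟩ := hx
      exact isSeparable_algebraMap (F := k) (K := D) a
  obtain ⟨L, hL, hmax⟩ := (measure (fun L : Subalgebra k D =>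
    Module.finrank k D - Module.finrank k L)).wf.has_min {L | good L} ⟨⊥, hbot⟩
  have hmaxgood : ∀ M : Subalgebra k D, good M → ¬ L < M := by
    intro M hM hlt
    apply hmax M hM
    change Module.finrank k D - Module.finrank k M < Module.finrank k D - Module.finrank k L
    have h1 : Module.finrank k L < Module.finrank k M :=
      Submodule.finrank_lt_finrank_of_lt (show Subalgebra.toSubmodule L < Subalgebra.toSubmodule M from hlt)
    have h2 : Module.finrank k M ≤ Module.finrank k D := Submodule.finrank_le (Subalgebra.toSubmodule M)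
    omega
  have hcent : Subalgebra.centralizer k (L : Set D) = L := by
    by_contra hne
    obtain ⟨M, hlt, hM1, hM2⟩ := Groth.Agent.H4.H4_sep_extend k D L hL.1 hL.2 hne
    exact hmaxgood M ⟨hM1, hM2⟩ hlt
  refine ⟨L, hL.1, ?_, ?_⟩
  · intro L' hL' hle
    apply le_antisymm _ hle
    intro x hx
    rw [← hcent, Subalgebra.mem_centralizer_iff]
    intro y hy
    exact hL' y (hle hy) x hx
  · refine ⟨fun l => ?_⟩
    have h := hL.2 l.1 l.2
    unfold IsSeparable at h ⊢
    rwa [← minpoly.algHom_eq L.val Subtype.val_injective l]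

end Groth.Agent.S0198
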