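import Groth.Statements.S0200
import Mathlib
import Groth.Agent.Lib.helper6.SepClosedSplit
import Groth.Agent.Lib.helper6.CSADescent

set_option autoImplicit false
universe u v w
open scoped TensorProduct
open Curves

namespace Groth.Agent.S0200

/-- A k-algebra is finite central simple exactly when its base change to the separable closure of k is a
matrix algebra of positive size. -/
theorem result (k : Type u) [Field k] (A : Type v) [Ring A] [Algebra k A] :
    (Algebra.IsCentral k A ∧ IsSimpleRing A ∧ FiniteDimensional k A) ↔
      Curves.Splits k A (SeparableClosure k) := by
  classical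
  constructor
  · rintro ⟨hc, hs, hf⟩
    exact Groth.Agent.Lib.helper6.H6_split_baseChange_sepClosed (k := k) (A := A) (SeparableClosure k)
  · rintro ⟨n, hn, ⟨e⟩⟩
    haveI : NeZero n := ⟨hn⟩
    haveI hs' : IsSimpleRing (TensorProduct k (SeparableClosure k) A) :=
      IsSimpleRing.of_ringEquiv e.symm.toRingEquiv inferInstance
    haveI hc' : Algebra.IsCentral (SeparableClosure k)
        (TensorProduct k (SeparableClosure k) A) := by
      refine ⟨fun x hx => ?_⟩
      have hex : e x ∈ Subalgebra.center (SeparableClosure k)
          (Matrix (Fin n) (Fin n) (SeparableClosure k)) := by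
        rw [Subalgebra.mem_center_iff] at hx ⊢
        intro b
        have := hx (e.symm b)
        have h2 := congrArg e this
        rw [map_mul, map_mul, AlgEquiv.apply_symm_apply] at h2
        exact h2
      have hbot := Algebra.IsCentral.out (K := SeparableClosure k) hex
      rw [Algebra.mem_bot] at hbot ⊢
      obtain ⟨c, hc⟩ := hbot
      refine ⟨c, ?_⟩
      apply e.injective
      rw [AlgEquiv.commutes, hc]
    haveI hf' : FiniteDimensional (SeparableClosure k) (TensorProduct k (SeparableClosure k) A) :=
      Module.Finite.equiv e.symm.toLinearEquiv
    haveI hnt : Nontrivial A := by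
      by_contra h
      rw [not_nontrivial_iff_subsingleton] at h
      haveI : Subsingleton (TensorProduct k (SeparableClosure k) A) := by
        refine ⟨fun x y => ?_⟩
        have h0 : ∀ z : TensorProduct k (SeparableClosure k) A, z = 0 := by
          intro z
          induction z using TensorProduct.induction_on with
          | zero => rfl
          | tmul a b => rw [Subsingleton.elim b 0, TensorProduct.tmul_zero]
          | add x y hx hy => rw [hx, hy, add_zero]
        rw [h0 x, h0 y]
      exact not_subsingleton (TensorProduct k (SeparableClosure k) A) this
    refine ⟨Groth.Agent.Lib.helper6.H6_isCentral_of_baseChange (k := k) (K := SeparableClosure k),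
      Groth.Agent.Lib.helper6.H6_isSimpleRing_of_baseChange (k := k) (K := SeparableClosure k), ?_⟩
    rw [FiniteDimensional, ← Module.rank_lt_aleph0_iff]
    have h1 := Module.rank_baseChange (R := SeparableClosure k) (S := k) (M' := A)
    have h2 : Module.rank (SeparableClosure k) (TensorProduct k (SeparableClosure k) A) <
        Cardinal.aleph0 := Module.rank_lt_aleph0 _ _
    rw [h1, Cardinal.lift_lt_aleph0] at h2
    exact h2

end Groth.Agent.S0200
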