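import Groth.Statements.S0237
import Groth.Agent.Lib.FEtFaithful

set_option autoImplicit false
universe u
open Pi1

namespace Groth.Agent.S0237

open AlgebraicGeometry CategoryTheory in
/-- If a morphism of schemes has dense image, pulling back finite etale covers along it is faithful. -/
theorem result {X Y : Scheme.{u}} (f : X ⟶ Y)
    (h : DenseRange f.base) : (FEt.restrict f).Faithful := by
  apply Groth.Agent.Lib.FEtFaithful.faithful_of
  intro V W hW hsub
  have hfin : IsFinite V.hom := V.prop.1
  have het : Etale V.hom := V.prop.2
  rw [Scheme.Pullback.range_fst] at hsub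
  have hdense : Dense (V.hom ⁻¹' Set.range f) := h.preimage V.hom.isOpenMap
  have : closure (V.hom ⁻¹' Set.range f) ⊆ W := hW.1.closure_subset_iff.mpr hsub
  rw [hdense.closure_eq] at this
  exact Set.eq_univ_of_univ_subset this

end Groth.Agent.S0237
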