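import Groth.Statements.S0243
import Groth.Agent.Lib.FEtFaithful

set_option autoImplicit false
universe u
open Pi1

namespace Groth.Agent.S0243

open AlgebraicGeometry CategoryTheory CategoryTheory.Limits in
/-- If a closed subscheme meets every connected component of the ambient scheme, restricting finite
etale covers to it is a faithful functor. -/
theorem result {X Y : Scheme.{u}} (i : Y ⟶ X) [IsClosedImmersion i]
    (h : ∀ x : X, (connectedComponent x ∩ Set.range i.base).Nonempty) :
    (FEt.restrict i).Faithful := by
  apply Groth.Agent.Lib.FEtFaithful.faithful_of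
  intro V W hW hsub
  have hfin : IsFinite V.hom := V.prop.1
  have het : Etale V.hom := V.prop.2
  rw [Scheme.Pullback.range_fst] at hsub
  by_contra hne
  obtain ⟨v, hv⟩ : ∃ v, v ∉ W := by
    by_contra hcon
    push_neg at hcon
    exact hne (Set.eq_univ_of_forall hcon)
  set C : Set X := V.hom '' Wᶜ with hC
  have hCclopen : IsClopen C :=
    ⟨V.hom.isClosedMap _ hW.compl.1, V.hom.isOpenMap _ hW.compl.2⟩
  have hxC : V.hom v ∈ C := ⟨v, hv, rfl⟩
  have hsubC : connectedComponent (V.hom v) ⊆ C := hCclopen.connectedComponent_subset hxC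
  obtain ⟨z, hz1, hz2⟩ := h (V.hom v)
  obtain ⟨w, hw, hwz⟩ := hsubC hz1
  apply hw
  apply hsub
  change V.hom w ∈ Set.range i
  rw [hwz]
  exact hz2

end Groth.Agent.S0243
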