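import Groth.Statements.S0249
import Mathlib

set_option autoImplicit false
universe u
open Pi1

namespace Groth.Agent.S0249

open AlgebraicGeometry CategoryTheory CategoryTheory.Limits in
/-- Let A be a Noetherian local ring of dimension at least 1 and f an element of its maximal ideal. Then
some prime ideal of height exactly 1 contains f. -/
theorem result (A : Type u) [CommRing A] [IsNoetherianRing A] [IsLocalRing A]
    (h : (1 : WithBot ℕ∞) ≤ ringKrullDim A) (f : A) (hf : f ∈ IsLocalRing.maximalIdeal A) :
    ∃ p : Ideal A, p.IsPrime ∧ f ∈ p ∧ p.height = 1 := by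
  classical
  have key : ∀ n : ℕ, ∀ p : Ideal A, p.IsPrime → f ∈ p → 1 ≤ p.height → p.height = n →
      ∃ p' : Ideal A, p'.IsPrime ∧ f ∈ p' ∧ p'.height = 1 := by
    intro n
    induction n using Nat.strong_induction_on with
    | _ n ih =>
      intro p hp hfp h1 hn
      by_cases hle : p.height ≤ 1
      · exact ⟨p, hp, hfp, le_antisymm hle h1⟩
      · have hle' : ¬ p.height ≤ ((1 : ℕ) : ℕ∞) := by simpa using hle
        rw [Ideal.height_le_iff] at hle'
        push Not at hle'
        obtain ⟨q, hq, hqp, hqh⟩ := hle'
        have hqh1 : 1 ≤ q.height := by simpa using hqh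
        -- reduce: find p'' prime with f ∈ p'', 1 ≤ height, height < n
        suffices h : ∃ p'' : Ideal A, p''.IsPrime ∧ f ∈ p'' ∧ 1 ≤ p''.height ∧ p''.height < n by
          obtain ⟨p'', hp'', hf'', h1'', hlt⟩ := h
          have hne : p''.height ≠ ⊤ := ne_top_of_lt hlt
          obtain ⟨k, hk⟩ := ENat.ne_top_iff_exists.1 hne
          have hkn : k < n := by
            rw [← hk] at hlt
            exact_mod_cast hlt
          exact ih k hkn p'' hp'' hf'' h1'' hk.symm
        by_cases hfq : f ∈ q
        · refine ⟨q, hq, hfq, hqh1, ?_⟩
          rw [← hn]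
          exact Ideal.height_strict_mono_of_isPrime_of_isPrime hqp
        · obtain ⟨q0, hq0, hq0q⟩ := Ideal.exists_minimalPrimes_le (I := ⊥) (J := q) bot_le
          have hq0p : q0.IsPrime := hq0.1.1
          have hq0ne : q0 ≠ q := by
            rintro rfl
            have : q0.height = 0 := Ideal.height_eq_zero_iff.2 hq0
            rw [this] at hqh1
            exact absurd hqh1 (by simp)
          have hq0lt : q0 < q := lt_of_le_of_ne hq0q hq0ne
          have hsup : q0 ⊔ Ideal.span {f} ≤ p :=
            sup_le (hq0q.trans hqp.le) ((Ideal.span_singleton_le_iff_mem _).2 hfp)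
          obtain ⟨p', hp'min, hp'le⟩ := Ideal.exists_minimalPrimes_le hsup
          have hp'p : p'.IsPrime := hp'min.1.1
          have hq0p' : q0 ≤ p' := le_sup_left.trans hp'min.1.2
          have hfp' : f ∈ p' := hp'min.1.2 (Ideal.mem_sup_right (Ideal.mem_span_singleton_self f))
          have hfq0 : f ∉ q0 := fun h => hfq (hq0q h)
          have hq0ltp' : q0 < p' := lt_of_le_of_ne hq0p' (by rintro rfl; exact hfq0 hfp')
          have hmaple : (p'.map (Ideal.Quotient.mk q0)).height ≤ 1 :=
            Ideal.map_height_le_one_of_mem_minimalPrimes hp'min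
          have hp'ne : p' ≠ p := by
            rintro rfl
            have hle1 : (p'.map (Ideal.Quotient.mk q0)).height ≤ ((1 : ℕ) : ℕ∞) := by
              simpa using hmaple
            have hpm : (p'.map (Ideal.Quotient.mk q0)).IsPrime :=
              Ideal.isPrime_map_quotientMk_of_isPrime hq0p'
            have hqm : (q.map (Ideal.Quotient.mk q0)).IsPrime :=
              Ideal.isPrime_map_quotientMk_of_isPrime hq0q
            rw [Ideal.height_le_iff] at hle1
            have hlt : q.map (Ideal.Quotient.mk q0) < p'.map (Ideal.Quotient.mk q0) := by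
              refine lt_of_le_of_ne (Ideal.map_mono hqp.le) ?_
              intro heq
              have := congrArg (Ideal.comap (Ideal.Quotient.mk q0)) heq
              rw [Ideal.comap_map_of_surjective _ Ideal.Quotient.mk_surjective,
                Ideal.comap_map_of_surjective _ Ideal.Quotient.mk_surjective,
                ← RingHom.ker_eq_comap_bot, Ideal.mk_ker, sup_of_le_left hq0q,
                sup_of_le_left hq0p'] at this
              exact hqp.ne this
            have h0 := hle1 _ hqm hlt
            have h0' : (q.map (Ideal.Quotient.mk q0)).height = 0 := by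
              simpa using h0
            rw [Ideal.height_eq_zero_iff_eq_bot, Ideal.map_eq_bot_iff_le_ker, Ideal.mk_ker] at h0'
            exact hq0lt.not_ge h0'
          refine ⟨p', hp'p, hfp', ?_, ?_⟩
          · have := Ideal.height_add_one_le_of_lt_of_isPrime hq0ltp'
            exact le_trans (by simp) this
          · rw [← hn]
            exact Ideal.height_strict_mono_of_isPrime_of_isPrime (lt_of_le_of_ne hp'le hp'ne)
  have hm : (1 : ℕ∞) ≤ (IsLocalRing.maximalIdeal A).height := by
    have := IsLocalRing.maximalIdeal_height_eq_ringKrullDim (R := A)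
    rw [← this] at h
    exact_mod_cast h
  have hne : (IsLocalRing.maximalIdeal A).height ≠ ⊤ :=
    Ideal.height_ne_top_of_isPrime
  obtain ⟨k, hk⟩ := ENat.ne_top_iff_exists.1 hne
  exact key k _ inferInstance hf hm hk.symm

end Groth.Agent.S0249
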