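import Groth.Statements.S0253
import Mathlib
import Groth.Agent.Lib.helper4.SepClosedNormal

set_option autoImplicit false
universe u
open Pi1

namespace Groth.Agent.S0253

open AlgebraicGeometry CategoryTheory CategoryTheory.Limits in
/-- Let A be an integrally closed domain whose fraction field is separably closed. Then the residue
field at any nonzero prime ideal of A is algebraically closed. -/
theorem result (A : Type u) [CommRing A] [IsDomain A] [IsIntegrallyClosed A] [IsSepClosed (FractionRing A)]
    (p : Ideal A) [p.IsPrime] (hp : p ≠ ⊥) : IsAlgClosed p.ResidueField := by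
  classical
  haveI : IsIntegrallyClosed (Localization.AtPrime p) :=
    isIntegrallyClosed_of_isLocalization _ p.primeCompl p.primeCompl_le_nonZeroDivisors
  haveI : IsDomain (Localization.AtPrime p) :=
    IsLocalization.isDomain_localization p.primeCompl_le_nonZeroDivisors
  haveI hsc : IsSepClosed (IsLocalRing.ResidueField (Localization.AtPrime p)) :=
    Groth.Agent.H4.H4_sepClosed_residueField_of_sepClosed_fractionField
      (A := Localization.AtPrime p) (FractionRing A)
  obtain ⟨π, hπp, hπ0⟩ : ∃ π ∈ p, π ≠ 0 := Submodule.exists_mem_ne_zero_of_ne_bot hp
  have hmem : algebraMap A (Localization.AtPrime p) π ∈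
      IsLocalRing.maximalIdeal (Localization.AtPrime p) := by
    rw [← Localization.AtPrime.map_eq_maximalIdeal]
    exact Ideal.mem_map_of_mem _ hπp
  have hne : algebraMap A (Localization.AtPrime p) π ≠ 0 := by
    intro h0
    apply hπ0
    have hinj : Function.Injective (algebraMap A (Localization.AtPrime p)) :=
      IsLocalization.injective _ p.primeCompl_le_nonZeroDivisors
    exact hinj (by rw [h0, map_zero])
  haveI hpf : PerfectField (IsLocalRing.ResidueField (Localization.AtPrime p)) :=
    Groth.Agent.H4.H4_perfect_residueField_of_sepClosed_fractionField
      (A := Localization.AtPrime p) (FractionRing A) _ hmem hne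
  show IsAlgClosed (IsLocalRing.ResidueField (Localization.AtPrime p))
  infer_instance

end Groth.Agent.S0253
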