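import Groth.Statements.S0267
import Groth.Agent.Lib.helper1.GalFun
import Groth.Agent.Lib.helper1.GalExact

set_option autoImplicit false
universe u v
open Pi1

namespace Groth.Agent.S0267

open CategoryTheory CategoryTheory.Limits in
/-- For an exact functor H between Galois categories, H is fully faithful exactly when it carries
connected objects to connected objects (both are equivalent to surjectivity of the induced map on
fundamental groups). -/
theorem result {C : Type u} [Category.{v} C]
    [GaloisCategory C] {D : Type u} [Category.{v} D] [GaloisCategory D]
    (H : C ⥤ D) [PreservesFiniteLimits H] [PreservesFiniteColimits H] :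
    (H.Full ∧ H.Faithful) ↔
      ∀ X : C, PreGaloisCategory.IsConnected X → PreGaloisCategory.IsConnected (H.obj X) := by
  let F' := PreGaloisCategory.GaloisCategory.getFiberFunctor D
  haveI : PreGaloisCategory.FiberFunctor (H ⋙ F') := Groth.Agent.H1.GalExact.fiberFunctorComp H F'
  constructor
  · rintro ⟨hfull, _⟩ X hX
    exact Groth.Agent.H1.GalFun.preservesConnected_of_full H F' X
  · intro h
    have hs := Groth.Agent.H1.GalFun.surjective_autWhisker_of_preservesConnected H F' h
    exact ⟨Groth.Agent.H1.GalFun.full_of_surjective_autWhisker H F' hs,
      Groth.Agent.H1.GalFun.faithful_of_fiberFunctor_comp H F'⟩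

end Groth.Agent.S0267
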