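import Groth.Statements.S0274
import Groth.Statements.S0274
import Mathlib
import Groth.Agent.Lib.helper9.H9_UIFlatDescent

set_option autoImplicit false
universe u
open scoped TensorProduct
open Pi1

namespace Groth.Agent.S0274

/-- Let R -> S be universally injective and M an R-module such that S ⊗_R M is flat over S. Then M is
flat over R. -/
theorem result (R S : Type u) [CommRing R] [CommRing S] [Algebra R S]
    (h : Pi1.UnivInjective R S) (M : Type u) [AddCommGroup M] [Module R M]
    [Module.Flat S (S ⊗[R] M)] : Module.Flat R M := by
  have hUI : CAlgX.UniversallyInjective R (Algebra.linearMap R S) := by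
    intro Q _ _
    rw [← LinearMap.lTensor_inj_iff_rTensor_inj]
    exact h Q
  have hinj : Function.Injective (algebraMap R S) := by
    have h1 := h R
    intro x y hxy
    have h2 : (LinearMap.lTensor R (Algebra.linearMap R S)) ((1 : R) ⊗ₜ[R] x) =
        (LinearMap.lTensor R (Algebra.linearMap R S)) ((1 : R) ⊗ₜ[R] y) := by
      rw [LinearMap.lTensor_tmul, LinearMap.lTensor_tmul, Algebra.linearMap_apply,
        Algebra.linearMap_apply, hxy]
    have h3 := h1 h2
    have h4 := congrArg (TensorProduct.lid R R) h3
    simpa using h4
  exact H9_UIFlatDescent.flat_of_UI hinj hUI M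

end Groth.Agent.S0274
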