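import Groth.Statements.S0275
import Groth.Agent.Lib.UnivInj

set_option autoImplicit false
universe u
open scoped TensorProduct
open Pi1

namespace Groth.Agent.S0275

/-- Let R -> S be universally injective and M an R-module such that S ⊗_R M is finitely generated over
S. Then M is finitely generated over R. -/
theorem result (R S : Type u) [CommRing R] [CommRing S] [Algebra R S]
    (h : Pi1.UnivInjective R S) (M : Type u) [AddCommGroup M] [Module R M]
    [Module.Finite S (S ⊗[R] M)] : Module.Finite R M := by
  classical
  obtain ⟨T, hT⟩ := (Module.Finite.fg_top : (⊤ : Submodule S (S ⊗[R] M)).FG)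
  choose d hd using fun t : S ⊗[R] M => TensorProduct.exists_finset t
  let F : Finset M := T.biUnion fun t => (d t).image Prod.snd
  let M' : Submodule R M := Submodule.span R (F : Set M)
  have hM' : M' = ⊤ := by
    apply Groth.Agent.Lib.UnivInj.eq_top_of_lTensor_surjective h
    have hrange : LinearMap.range (M'.subtype.baseChange S) = ⊤ := by
      rw [eq_top_iff, ← hT, Submodule.span_le]
      intro t ht
      rw [hd t]
      refine Submodule.sum_mem _ fun i hi => ?_
      have hi2 : i.2 ∈ M' := by
        apply Submodule.subset_span
        simp only [F, Finset.coe_biUnion, Finset.coe_image, Set.mem_iUnion, Set.mem_image]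
        exact ⟨t, ht, i, hi, rfl⟩
      exact ⟨i.1 ⊗ₜ ⟨i.2, hi2⟩, by simp⟩
    intro x
    have hx : x ∈ LinearMap.range (M'.subtype.baseChange S) := by rw [hrange]; trivial
    obtain ⟨y, hy⟩ := hx
    exact ⟨y, by rw [← hy]; rfl⟩
  exact ⟨by rw [← hM']; exact Submodule.fg_span F.finite_toSet⟩

end Groth.Agent.S0275
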