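import Groth.Statements.S0276
import Groth.Agent.S0275

set_option autoImplicit false
universe u
open scoped TensorProduct
open Pi1

namespace Groth.Agent.S0276

/-- Let R -> S be universally injective and M an R-module such that S ⊗_R M is finitely presented over
S. Then M is finitely presented over R. -/
theorem result (R S : Type u) [CommRing R] [CommRing S] [Algebra R S]
    (h : Pi1.UnivInjective R S) (M : Type u) [AddCommGroup M] [Module R M]
    [Module.FinitePresentation S (S ⊗[R] M)] : Module.FinitePresentation R M := by
  classical
  haveI : Module.Finite S (S ⊗[R] M) := inferInstance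
  haveI : Module.Finite R M := Groth.Agent.S0275.result R S h M
  obtain ⟨n, f, hf⟩ := Module.Finite.exists_fin' R M
  set K := LinearMap.ker f with hK
  -- kernel of base change is f.g.
  have hfg : (LinearMap.ker (f.baseChange S)).FG :=
    Module.FinitePresentation.fg_ker (f.baseChange S) (LinearMap.lTensor_surjective S hf)
  have hex : Function.Exact (K.subtype.baseChange S) (f.baseChange S) :=
    lTensor_exact S f.exact_subtype_ker_map hf
  obtain ⟨T, hT⟩ := hfg
  -- each generator is the image of an element of `S ⊗ K`
  have hTr : ∀ t : S ⊗[R] (Fin n → R), t ∈ T → ∃ y : S ⊗[R] K, K.subtype.baseChange S y = t := by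
    intro t ht
    have : t ∈ LinearMap.ker (f.baseChange S) := by
      rw [← hT]; exact Submodule.subset_span ht
    exact (hex t).mp this
  choose! y hy using hTr
  choose d hd using fun z : S ⊗[R] K => TensorProduct.exists_finset z
  let F : Finset (Fin n → R) := T.biUnion fun t => (d (y t)).image fun p => (p.2 : Fin n → R)
  let K' : Submodule R (Fin n → R) := Submodule.span R (F : Set (Fin n → R))
  have hK'K : K' ≤ K := by
    rw [Submodule.span_le]
    intro x hx
    simp only [F, Finset.coe_biUnion, Finset.coe_image, Set.mem_iUnion, Set.mem_image] at hx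
    obtain ⟨t, _, p, _, rfl⟩ := hx
    exact p.2.2
  have hKK' : K ≤ K' := by
    intro x hx
    apply Groth.Agent.Lib.UnivInj.mem_of_tmul_mem_range h K' x
    have hx1 : (1 : S) ⊗ₜ[R] x ∈ LinearMap.ker (f.baseChange S) := by
      rw [LinearMap.mem_ker, LinearMap.baseChange_tmul]
      have : f x = 0 := hx
      rw [this, TensorProduct.tmul_zero]
    rw [← hT] at hx1
    have hle : Submodule.span S (T : Set (S ⊗[R] (Fin n → R))) ≤
        LinearMap.range (K'.subtype.baseChange S) := by
      rw [Submodule.span_le]
      intro t ht
      rw [← hy t ht, hd (y t), map_sum]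
      refine Submodule.sum_mem _ fun i hi => ?_
      have hi2 : (i.2 : Fin n → R) ∈ K' := by
        apply Submodule.subset_span
        simp only [F, Finset.coe_biUnion, Finset.coe_image, Set.mem_iUnion, Set.mem_image]
        exact ⟨t, ht, i, hi, rfl⟩
      exact ⟨i.1 ⊗ₜ ⟨i.2, hi2⟩, by simp⟩
    obtain ⟨z, hz⟩ := hle hx1
    exact ⟨z, by rw [← hz]; rfl⟩
  have hKfg : K.FG := by
    rw [le_antisymm hKK' hK'K]
    exact Submodule.fg_span F.finite_toSet
  exact Module.finitePresentation_of_free_of_surjective f hf hKfg

end Groth.Agent.S0276
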