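import Groth.Statements.S0277
import Groth.Agent.Lib.UnivInj

set_option autoImplicit false
universe u
open scoped TensorProduct
open Pi1

namespace Groth.Agent.S0277

/-- Let R -> S be universally injective and A an R-algebra such that S ⊗_R A is of finite type over S.
Then A is of finite type over R. -/
theorem result (R S : Type u) [CommRing R] [CommRing S] [Algebra R S]
    (h : Pi1.UnivInjective R S) (A : Type u) [CommRing A] [Algebra R A]
    [Algebra.FiniteType S (S ⊗[R] A)] : Algebra.FiniteType R A := by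
  classical
  obtain ⟨T, hT⟩ := (Algebra.FiniteType.out : (⊤ : Subalgebra S (S ⊗[R] A)).FG)
  choose d hd using fun t : S ⊗[R] A => TensorProduct.exists_finset t
  let F : Finset A := T.biUnion fun t => (d t).image Prod.snd
  let A' : Subalgebra R A := Algebra.adjoin R (F : Set A)
  have hA' : Subalgebra.toSubmodule A' = ⊤ := by
    apply Groth.Agent.Lib.UnivInj.eq_top_of_lTensor_surjective h
    let ψ : S ⊗[R] A' →ₐ[S] S ⊗[R] A := Algebra.TensorProduct.map (AlgHom.id S S) A'.val
    have hrange : ψ.range = ⊤ := by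
      rw [eq_top_iff, ← hT, Algebra.adjoin_le_iff]
      intro t ht
      rw [hd t]
      refine Subalgebra.sum_mem _ fun i hi => ?_
      have hi2 : i.2 ∈ A' := by
        apply Algebra.subset_adjoin
        simp only [F, Finset.coe_biUnion, Finset.coe_image, Set.mem_iUnion, Set.mem_image]
        exact ⟨t, ht, i, hi, rfl⟩
      exact ⟨i.1 ⊗ₜ ⟨i.2, hi2⟩, by simp [ψ]⟩
    intro x
    have hx : x ∈ ψ.range := by rw [hrange]; trivial
    obtain ⟨y, rfl⟩ := hx
    obtain ⟨e, rfl⟩ := TensorProduct.exists_finset y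
    refine ⟨∑ i ∈ e, i.1 ⊗ₜ (⟨i.2.1, i.2.2⟩ : Subalgebra.toSubmodule A'), ?_⟩
    simp [map_sum, ψ]
  have hA'' : A' = ⊤ := by
    apply Subalgebra.toSubmodule_injective
    rw [hA']; simp
  exact ⟨by rw [← hA'']; exact Subalgebra.fg_adjoin_finset F⟩

end Groth.Agent.S0277
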