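import Groth.Statements.S0278
import Groth.Agent.S0277
import Groth.Agent.Lib.UnivInj

set_option autoImplicit false
universe u
open scoped TensorProduct
open Pi1

namespace Groth.Agent.S0278

/-- Let R -> S be universally injective and A an R-algebra such that S ⊗_R A is of finite presentation
over S. Then A is of finite presentation over R. -/
theorem result (R S : Type u) [CommRing R] [CommRing S] [Algebra R S]
    (h : Pi1.UnivInjective R S) (A : Type u) [CommRing A] [Algebra R A]
    [Algebra.FinitePresentation S (S ⊗[R] A)] : Algebra.FinitePresentation R A := by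
  classical
  haveI : Algebra.FiniteType S (S ⊗[R] A) := inferInstance
  haveI : Algebra.FiniteType R A := Groth.Agent.S0277.result R S h A
  obtain ⟨n, f, hf⟩ := Algebra.FiniteType.iff_quotient_mvPolynomial''.mp
    (inferInstance : Algebra.FiniteType R A)
  let ψ : S ⊗[R] MvPolynomial (Fin n) R →ₐ[S] S ⊗[R] A :=
    Algebra.TensorProduct.map (AlgHom.id S S) f
  have hψ : Function.Surjective ψ :=
    Algebra.TensorProduct.map_surjective (AlgHom.id S S) f Function.surjective_id hf
  have hker : (RingHom.ker ψ.toRingHom).FG :=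
    Algebra.FinitePresentation.ker_fG_of_surjective ψ hψ
  have hkerψ : RingHom.ker ψ.toRingHom =
      (RingHom.ker f).map (Algebra.TensorProduct.includeRight :
        MvPolynomial (Fin n) R →ₐ[R] S ⊗[R] MvPolynomial (Fin n) R) := by
    rw [← Algebra.TensorProduct.lTensor_ker (A := S) f hf]
    rfl
  rw [hkerψ] at hker
  have hker2 : (Submodule.span (S ⊗[R] MvPolynomial (Fin n) R)
      ((Algebra.TensorProduct.includeRight :
        MvPolynomial (Fin n) R →ₐ[R] S ⊗[R] MvPolynomial (Fin n) R) ''
          (RingHom.ker f : Set (MvPolynomial (Fin n) R)))).FG := hker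
  rw [Submodule.fg_span_iff_fg_span_finset_subset] at hker2
  obtain ⟨T, hTsub, hTspan⟩ := hker2
  -- lift T to a finite subset of ker f
  obtain ⟨F, hFsub, hFT⟩ : ∃ F : Finset (MvPolynomial (Fin n) R),
      (F : Set (MvPolynomial (Fin n) R)) ⊆ RingHom.ker f ∧
      (T : Set (S ⊗[R] MvPolynomial (Fin n) R)) ⊆
        (Algebra.TensorProduct.includeRight :
        MvPolynomial (Fin n) R →ₐ[R] S ⊗[R] MvPolynomial (Fin n) R) '' F := by
    have hTsub' : ∀ t : S ⊗[R] MvPolynomial (Fin n) R, t ∈ T →
        ∃ x : MvPolynomial (Fin n) R, x ∈ RingHom.ker f ∧ (Algebra.TensorProduct.includeRight :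
        MvPolynomial (Fin n) R →ₐ[R] S ⊗[R] MvPolynomial (Fin n) R) x = t := fun t ht => hTsub ht
    choose! g hg using hTsub'
    refine ⟨T.image g, ?_, ?_⟩
    · intro x hx
      simp only [Finset.coe_image, Set.mem_image] at hx
      obtain ⟨t, ht, rfl⟩ := hx
      exact (hg t ht).1
    · intro t ht
      exact ⟨g t, by simpa using ⟨t, ht, rfl⟩, (hg t ht).2⟩
  let I' : Ideal (MvPolynomial (Fin n) R) := Ideal.span (F : Set (MvPolynomial (Fin n) R))
  have hI'le : I' ≤ RingHom.ker f := Ideal.span_le.mpr hFsub
  have hle : RingHom.ker f ≤ I' := by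
    intro x hx
    have hx1 : (Algebra.TensorProduct.includeRight :
        MvPolynomial (Fin n) R →ₐ[R] S ⊗[R] MvPolynomial (Fin n) R) x ∈
        I'.map (Algebra.TensorProduct.includeRight :
        MvPolynomial (Fin n) R →ₐ[R] S ⊗[R] MvPolynomial (Fin n) R) := by
      have h1 : (Algebra.TensorProduct.includeRight :
        MvPolynomial (Fin n) R →ₐ[R] S ⊗[R] MvPolynomial (Fin n) R) x ∈
          Submodule.span (S ⊗[R] MvPolynomial (Fin n) R)
            ((Algebra.TensorProduct.includeRight :
              MvPolynomial (Fin n) R →ₐ[R] S ⊗[R] MvPolynomial (Fin n) R) ''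
                (RingHom.ker f : Set (MvPolynomial (Fin n) R))) :=
        Submodule.subset_span ⟨x, hx, rfl⟩
      rw [hTspan] at h1
      have h2 : Submodule.span (S ⊗[R] MvPolynomial (Fin n) R)
          (T : Set (S ⊗[R] MvPolynomial (Fin n) R)) ≤
          I'.map (Algebra.TensorProduct.includeRight :
            MvPolynomial (Fin n) R →ₐ[R] S ⊗[R] MvPolynomial (Fin n) R) := by
        rw [Submodule.span_le]
        intro t ht
        obtain ⟨y, hy, rfl⟩ := hFT ht
        exact Ideal.mem_map_of_mem _ (Ideal.subset_span hy)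
      exact h2 h1
    have hx2 : (Algebra.TensorProduct.includeRight :
        MvPolynomial (Fin n) R →ₐ[R] S ⊗[R] MvPolynomial (Fin n) R) x ∈
        (I'.map (Algebra.TensorProduct.includeRight :
        MvPolynomial (Fin n) R →ₐ[R] S ⊗[R] MvPolynomial (Fin n) R)).restrictScalars R := hx1
    rw [Ideal.map_includeRight_eq] at hx2
    exact Groth.Agent.Lib.UnivInj.mem_of_tmul_mem_range h (I'.restrictScalars R) x hx2
  have hfg : (RingHom.ker f.toRingHom).FG := by
    have : RingHom.ker f.toRingHom = I' := le_antisymm hle hI'le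
    rw [this]
    exact ⟨F, rfl⟩
  exact Algebra.FinitePresentation.of_surjective hf hfg

end Groth.Agent.S0278
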