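import Groth.Statements.S0283
import Groth.Agent.Lib.EtaleLift
import Groth.Agent.S0415

set_option autoImplicit false
universe u
open Pi1

namespace Groth.Agent.S0283

open AlgebraicGeometry CategoryTheory CategoryTheory.Limits in
/-- Let f : X → Y be a morphism of schemes which is integral, universally injective and surjective (that
is, a universal homeomorphism). Then base change along f, from finite étale covers of Y to finite
étale covers of X, is a full and faithful functor. -/
theorem result {X Y : Scheme.{u}} (f : X ⟶ Y) [IsIntegralHom f] [UniversallyInjective f] [Surjective f] :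
    (FEt.restrict f).Full ∧ (FEt.restrict f).Faithful := by
  have hfUH : FlatMor.IsUnivHomeo f :=
    (Groth.Agent.S0415.result f).mpr ⟨inferInstance, inferInstance, inferInstance⟩
  have hq : ∀ A : FEt.Cat Y, FlatMor.IsUnivHomeo (pullback.fst A.hom f) :=
    fun A => MorphismProperty.pullback_fst _ _ hfUH
  have hqsurj : ∀ A : FEt.Cat Y, Surjective (pullback.fst A.hom f) := by
    intro A
    have h' := hq A
    rw [Groth.Agent.Lib.UnivHomeo.isUnivHomeo_eq] at h'
    exact h'.2
  constructor
  · constructor
    intro A B a'
    have hB : Etale B.hom := B.prop.2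
    let al : pullback A.hom f ⟶ pullback B.hom f := a'.left
    let ψ : pullback A.hom f ⟶ B.left := al ≫ pullback.fst B.hom f
    have hw : al ≫ pullback.snd B.hom f = pullback.snd A.hom f :=
      MorphismProperty.Over.w a'
    have hψ : ψ ≫ B.hom = pullback.fst A.hom f ≫ A.hom := by
      simp only [ψ, Category.assoc]
      rw [pullback.condition, ← Category.assoc, hw, pullback.condition]
    obtain ⟨φ, hφ₁, hφ₂⟩ := Groth.Agent.Lib.EtaleLift.exists_lift B.hom A.hom
      (pullback.fst A.hom f) (hq A) ψ hψ
    refine ⟨MorphismProperty.Over.homMk φ hφ₁ trivial, ?_⟩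
    apply MorphismProperty.Over.Hom.ext
    change pullback.lift (pullback.fst A.hom f ≫ φ) (pullback.snd A.hom f) _ = al
    apply pullback.hom_ext
    · erw [pullback.lift_fst]
      exact hφ₂
    · erw [pullback.lift_snd]
      exact hw.symm
  · constructor
    intro A B a b hab
    have hB : Etale B.hom := B.prop.2
    have h1 : ((FEt.restrict f).map a).left = ((FEt.restrict f).map b).left := by rw [hab]
    have h2 : pullback.fst A.hom f ≫ a.left = pullback.fst A.hom f ≫ b.left := by
      have := congr($h1 ≫ pullback.fst B.hom f)
      simp only [FEt.restrict, MorphismProperty.Over.pullback_map_left] at this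
      erw [pullback.lift_fst, pullback.lift_fst] at this
      exact this
    have hfg : a.left ≫ B.hom = b.left ≫ B.hom := by
      rw [MorphismProperty.Over.w a, MorphismProperty.Over.w b]
    have := hqsurj A
    have : a.left = b.left :=
      Groth.Agent.Lib.DiagOpen.eq_of_surjective_comp_eq B.hom a.left b.left hfg
        (pullback.fst A.hom f) h2
    exact MorphismProperty.Over.Hom.ext this

end Groth.Agent.S0283
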