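import Groth.Statements.S0294
import Mathlib

set_option autoImplicit false
universe u
open Pi1

namespace Groth.Agent.S0294

open AlgebraicGeometry CategoryTheory CategoryTheory.Limits in
/-- For a finite étale cover Y of a scheme X and a point ξ : Spec Ω → X with values in a field Ω, the
fibre of Y over ξ (the set of Ω-valued points of Y lying over ξ) is finite. -/
theorem result {X : Scheme.{u}} {Ω : Type u} [Field Ω] (ξ : Spec (CommRingCat.of Ω) ⟶ X) (Y : FEt.Cat X) :
    Finite (FEt.fiberObj ξ Y) := by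
  have hfin : IsFinite Y.hom := Y.prop.1
  have het : Etale Y.hom := Y.prop.2
  let P := pullback Y.hom ξ
  let π : P ⟶ Spec (CommRingCat.of Ω) := pullback.snd Y.hom ξ
  have hπ : IsFinite π := inferInstance
  have hPaff : IsAffine P := isAffine_of_isAffineHom π
  let φ : CommRingCat.of Ω ⟶ Γ(P, ⊤) := (Scheme.ΓSpecIso (CommRingCat.of Ω)).inv ≫ π.appTop
  have hφfin : φ.hom.Finite := by
    have h1 : (π.appTop).hom.Finite :=
      ((HasAffineProperty.iff_of_isAffine (P := @IsFinite)).mp hπ).2
    have h2 : ((Scheme.ΓSpecIso (CommRingCat.of Ω)).inv).hom.Finite := by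
      apply RingHom.Finite.of_surjective
      exact (ConcreteCategory.bijective_of_isIso (Scheme.ΓSpecIso (CommRingCat.of Ω)).inv).2
    exact h1.comp h2
  letI : Algebra Ω Γ(P, ⊤) := φ.hom.toAlgebra
  have hmodfin : Module.Finite Ω Γ(P, ⊤) := hφfin
  -- the map to algebra homs
  let toHom : FEt.fiberObj ξ Y → (Γ(P, ⊤) →ₐ[Ω] Ω) := fun s =>
    let σ : Spec (CommRingCat.of Ω) ⟶ P := pullback.lift s.1 (𝟙 _) (by rw [s.2, Category.id_comp])
    { toRingHom := (σ.appTop ≫ (Scheme.ΓSpecIso (CommRingCat.of Ω)).hom).hom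
      commutes' := by
        intro r
        have hσ : σ ≫ π = 𝟙 _ := pullback.lift_snd _ _ _
        have : φ ≫ σ.appTop ≫ (Scheme.ΓSpecIso (CommRingCat.of Ω)).hom = 𝟙 _ := by
          simp only [φ, Category.assoc]
          rw [← Scheme.Hom.comp_appTop_assoc, hσ]
          simp
        exact congr($this r) }
  apply Finite.of_injective toHom
  intro s s' hss'
  let σ : Spec (CommRingCat.of Ω) ⟶ P := pullback.lift s.1 (𝟙 _) (by rw [s.2, Category.id_comp])
  let σ' : Spec (CommRingCat.of Ω) ⟶ P := pullback.lift s'.1 (𝟙 _) (by rw [s'.2, Category.id_comp])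
  have h1 : σ.appTop ≫ (Scheme.ΓSpecIso (CommRingCat.of Ω)).hom =
      σ'.appTop ≫ (Scheme.ΓSpecIso (CommRingCat.of Ω)).hom := by
    ext x
    exact congr($hss' x)
  have h2 : σ.appTop = σ'.appTop := by
    rwa [cancel_mono] at h1
  have h3 : σ = σ' := ext_of_isAffine h2
  apply Subtype.ext
  have e1 : s.1 = σ ≫ pullback.fst Y.hom ξ := (pullback.lift_fst _ _ _).symm
  have e2 : s'.1 = σ' ≫ pullback.fst Y.hom ξ := (pullback.lift_fst _ _ _).symm
  rw [e1, e2, h3]

end Groth.Agent.S0294
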