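import Groth.Statements.S0300
import Mathlib

set_option autoImplicit false
universe u v
open InjHull

namespace Groth.Agent.S0300

/-- Over a Noetherian ring, injectivity of modules is preserved under arbitrary direct sums. -/
theorem result (R : Type u) [CommRing R] [IsNoetherianRing R] {ι : Type u} (E : ι → Type u) [∀ i, AddCommGroup (E i)] [∀ i, Module R (E i)] (hE : ∀ i, Module.Injective R (E i)) : Module.Injective R (DirectSum ι E) := by
  classical
  apply Module.Baer.injective
  intro I g
  have hB : ∀ i, Module.Baer R (E i) := fun i => Module.Baer.of_injective (hE i)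
  -- components of g
  let gi : ∀ i, I →ₗ[R] E i := fun i => (DirectSum.component R ι E i).comp g
  choose gi' hgi' using fun i => hB i I (gi i)
  -- finite generation of I
  obtain ⟨T, hT⟩ := (isNoetherianRing_iff_ideal_fg R).mp inferInstance I
  have hTI : ∀ a ∈ T, a ∈ I := fun a ha => hT ▸ Ideal.subset_span ha
  let S : Finset ι := T.attach.biUnion fun a => DFinsupp.support (g ⟨a.1, hTI a.1 a.2⟩)
  have hS : ∀ j, j ∉ S → ∀ x : I, gi j x = 0 := by
    intro j hj x
    have hx : (x : R) ∈ Ideal.span (T : Set R) := hT ▸ x.2
    have key : ∀ y (hy : y ∈ Ideal.span (T : Set R)), ∀ hyI : y ∈ I, gi j ⟨y, hyI⟩ = 0 := by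
      intro y hy
      induction hy using Submodule.span_induction with
      | mem a ha =>
        intro haI
        by_contra hne
        apply hj
        simp only [S, Finset.mem_biUnion, Finset.mem_attach, true_and]
        refine ⟨⟨a, ha⟩, ?_⟩
        rw [DFinsupp.mem_support_iff]
        exact hne
      | zero =>
        intro _
        have : (⟨0, I.zero_mem⟩ : I) = 0 := rfl
        rw [this, map_zero]
      | add a b ha hb iha ihb =>
        intro habI
        have haI : a ∈ I := hT ▸ ha
        have hbI : b ∈ I := hT ▸ hb
        have : (⟨a + b, habI⟩ : I) = ⟨a, haI⟩ + ⟨b, hbI⟩ := rfl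
        rw [this, map_add, iha haI, ihb hbI, add_zero]
      | smul r a ha iha =>
        intro hraI
        have haI : a ∈ I := hT ▸ ha
        have : (⟨r • a, hraI⟩ : I) = r • ⟨a, haI⟩ := rfl
        rw [this, map_smul, iha haI, smul_zero]
    exact key x.1 hx x.2
  refine ⟨∑ i ∈ S, (DirectSum.lof R ι E i).comp (gi' i), fun x hx => ?_⟩
  apply DFinsupp.ext
  intro j
  change DirectSum.component R ι E j _ = DirectSum.component R ι E j _
  rw [LinearMap.sum_apply, map_sum]
  simp only [LinearMap.comp_apply, DirectSum.component.of, DirectSum.lof_eq_of]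
  simp only [← DirectSum.apply_eq_component]
  by_cases hj : j ∈ S
  · rw [Finset.sum_eq_single j]
    · rw [DirectSum.of_eq_same, hgi' j x hx]
      rfl
    · intro b _ hb
      rw [DirectSum.of_eq_of_ne _ _ _ hb.symm]
    · intro h; exact absurd hj h
  · rw [Finset.sum_eq_zero]
    · have := hS j hj ⟨x, hx⟩
      exact this.symm
    · intro b hb
      have : b ≠ j := fun h => hj (h ▸ hb)
      rw [DirectSum.of_eq_of_ne _ _ _ this.symm]

end Groth.Agent.S0300
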