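import Groth.Statements.S5168
import Groth.Statements.S5168
import Mathlib

set_option autoImplicit false
universe u
open InjHull

namespace Groth.Agent.S5168

/-- Let A be a Noetherian ring, J an ideal and H a J-power torsion A-module. Then H is injective if and
only if Hom_A(−, H) is exact on finite A-modules killed by a power of J, i.e. every linear map to H
from a submodule of such a module M extends to M. -/
theorem result (A : Type u) [CommRing A] [IsNoetherianRing A] (J : Ideal A) (H : Type u) [AddCommGroup H] [Module A H] (hH : LocCoh.IsPowerTorsion J H) : Module.Injective A H ↔ ∀ (M : Type u) [AddCommGroup M] [Module A M], Module.Finite A M → (∃ k : ℕ, (J ^ k) • (⊤ : Submodule A M) = ⊥) → ∀ (N : Submodule A M) (g : N →ₗ[A] H), ∃ g' : M →ₗ[A] H, g'.comp N.subtype = g := by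
  classical
  constructor
  · intro hinj M _ _ _ _ N g
    exact Module.Injective.extension_property A H N M N.subtype N.injective_subtype g
  · intro hext
    apply Module.Baer.injective
    intro 𝔞 g
    -- a uniform power killing the image of g
    obtain ⟨K, hK⟩ : ∃ K : ℕ, ∀ x : 𝔞, ∀ c ∈ J ^ K, c • g x = 0 := by
      obtain ⟨s, hs⟩ := (isNoetherianRing_iff_ideal_fg A).1 inferInstance 𝔞
      have hsmem : ∀ a ∈ s, a ∈ 𝔞 := fun a ha => hs ▸ Ideal.subset_span ha
      have h : ∀ a : A, ∃ k : ℕ, ∀ (ha : a ∈ 𝔞), ∀ c ∈ J ^ k, c • g ⟨a, ha⟩ = 0 := by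
        intro a
        by_cases ha : a ∈ 𝔞
        · obtain ⟨k, hk⟩ := hH (g ⟨a, ha⟩)
          exact ⟨k, fun _ c hc => hk c hc⟩
        · exact ⟨0, fun ha' => absurd ha' ha⟩
      choose k hk using h
      refine ⟨s.sup k, ?_⟩
      rintro ⟨x, hx⟩ c hc
      have hx' : x ∈ Ideal.span (s : Set A) := hs ▸ hx
      induction hx' using Submodule.span_induction with
      | mem a ha =>
        exact hk a (hsmem a ha) c (Ideal.pow_le_pow_right (Finset.le_sup ha) hc)
      | zero =>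
        have : (⟨0, hx⟩ : 𝔞) = 0 := rfl
        rw [this, map_zero, smul_zero]
      | add y z hy hz ihy ihz =>
        have hy' : y ∈ 𝔞 := hs ▸ hy
        have hz' : z ∈ 𝔞 := hs ▸ hz
        have : (⟨y + z, hx⟩ : 𝔞) = ⟨y, hy'⟩ + ⟨z, hz'⟩ := rfl
        rw [this, map_add, smul_add, ihy hy', ihz hz', add_zero]
      | smul r y hy ihy =>
        have hy' : y ∈ 𝔞 := hs ▸ hy
        have : (⟨r • y, hx⟩ : 𝔞) = r • ⟨y, hy'⟩ := rfl
        rw [this, map_smul, smul_comm, ihy hy', smul_zero]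
    -- Artin-Rees
    obtain ⟨k, hk⟩ := Ideal.exists_pow_inf_eq_pow_smul J (𝔞 : Submodule A A)
    set n := k + K with hn
    have hAR : ∀ x (hx : x ∈ 𝔞), x ∈ J ^ n → g ⟨x, hx⟩ = 0 := by
      intro x hx hxn
      have h1 : x ∈ (J ^ n • ⊤ ⊓ (𝔞 : Submodule A A) : Submodule A A) := by
        refine ⟨?_, hx⟩
        rw [smul_eq_mul, Ideal.mul_top]
        exact hxn
      rw [hk n (by omega), show n - k = K by omega] at h1
      have h2 : x ∈ (J ^ K • (𝔞 : Submodule A A) : Submodule A A) :=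
        Submodule.smul_mono le_rfl inf_le_right h1
      have hsub : (J ^ K • (𝔞 : Submodule A A) : Submodule A A) ≤ 𝔞 := Submodule.smul_le_right
      revert hx
      refine Submodule.smul_induction_on' (p := fun x _ => ∀ hx : x ∈ 𝔞, g ⟨x, hx⟩ = 0) h2 ?_ ?_
      · intro c hc y hy hx
        have : (⟨c • y, hx⟩ : 𝔞) = c • ⟨y, hy⟩ := rfl
        rw [this, map_smul]
        exact hK ⟨y, hy⟩ c hc
      · intro y hy z hz ihy ihz hx
        have hy' : y ∈ 𝔞 := hsub hy
        have hz' : z ∈ 𝔞 := hsub hz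
        have : (⟨y + z, hx⟩ : 𝔞) = ⟨y, hy'⟩ + ⟨z, hz'⟩ := rfl
        rw [this, map_add, ihy hy', ihz hz', add_zero]
    -- the quotient module
    let ρ : 𝔞 →ₗ[A] (A ⧸ J ^ n) := (J ^ n).mkQ ∘ₗ (𝔞 : Submodule A A).subtype
    have hle : LinearMap.ker ρ ≤ LinearMap.ker g := by
      rintro ⟨x, hx⟩ hxk
      rw [LinearMap.mem_ker] at hxk ⊢
      apply hAR x hx
      have : (J ^ n).mkQ x = 0 := hxk
      rwa [Submodule.mkQ_apply, Submodule.Quotient.mk_eq_zero] at this
    let gbar : LinearMap.range ρ →ₗ[A] H :=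
      (LinearMap.ker ρ).liftQ g hle ∘ₗ ρ.quotKerEquivRange.symm.toLinearMap
    obtain ⟨G', hG'⟩ := hext (A ⧸ J ^ n) inferInstance ⟨n, by
      rw [eq_bot_iff, Submodule.smul_le]
      intro c hc y _
      obtain ⟨r, rfl⟩ := Ideal.Quotient.mk_surjective y
      have : c • Ideal.Quotient.mk (J ^ n) r = Ideal.Quotient.mk (J ^ n) (c * r) := rfl
      rw [this, Submodule.mem_bot, Ideal.Quotient.eq_zero_iff_mem]
      exact Ideal.mul_mem_right _ _ hc⟩ (LinearMap.range ρ) gbar
    refine ⟨G' ∘ₗ (J ^ n).mkQ, ?_⟩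
    intro x hx
    have h1 := LinearMap.congr_fun hG' ⟨ρ ⟨x, hx⟩, ⟨⟨x, hx⟩, rfl⟩⟩
    change G' (ρ ⟨x, hx⟩) = gbar _ at h1
    change G' (ρ ⟨x, hx⟩) = _
    rw [h1]
    change (LinearMap.ker ρ).liftQ g hle (ρ.quotKerEquivRange.symm ⟨ρ ⟨x, hx⟩, _⟩) = _
    rw [LinearMap.quotKerEquivRange_symm_apply_image]
    rfl

end Groth.Agent.S5168
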