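import Groth.Statements.S0301
import Groth.Statements.S0301
import Groth.Agent.S5168

set_option autoImplicit false
universe u v
open InjHull

namespace Groth.Agent.S0301

/-- Over a Noetherian ring, the submodule of an injective module consisting of the elements killed by
some power of a given ideal is again injective. -/
theorem result (R : Type u) [CommRing R] [IsNoetherianRing R] (I : Type u) [AddCommGroup I] [Module R I] (hI : Module.Injective R I) (J : Ideal R) : Module.Injective R ↥(⨆ n : ℕ, Submodule.torsionBySet R I ((J ^ n : Ideal R) : Set R)) := by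
  classical
  set H : Submodule R I := ⨆ n : ℕ, Submodule.torsionBySet R I ((J ^ n : Ideal R) : Set R) with hHdef
  have hmono : Monotone fun n : ℕ => Submodule.torsionBySet R I ((J ^ n : Ideal R) : Set R) := by
    intro a b hab x hx
    rw [Submodule.mem_torsionBySet_iff] at hx ⊢
    rintro ⟨c, hc⟩
    exact hx ⟨c, Ideal.pow_le_pow_right hab hc⟩
  have hmem : ∀ x : I, x ∈ H ↔ ∃ n : ℕ, ∀ a ∈ J ^ n, a • x = 0 := by
    intro x
    rw [hHdef, Submodule.mem_iSup_of_directed _ hmono.directed_le]
    constructor
    · rintro ⟨n, hn⟩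
      rw [Submodule.mem_torsionBySet_iff] at hn
      exact ⟨n, fun a ha => hn ⟨a, ha⟩⟩
    · rintro ⟨n, hn⟩
      refine ⟨n, ?_⟩
      rw [Submodule.mem_torsionBySet_iff]
      rintro ⟨a, ha⟩
      exact hn a ha
  have hH : LocCoh.IsPowerTorsion J ↥H := by
    intro x
    obtain ⟨n, hn⟩ := (hmem x.1).1 x.2
    exact ⟨n, fun a ha => Subtype.ext (by rw [Submodule.coe_smul, hn a ha, Submodule.coe_zero])⟩
  rw [Groth.Agent.S5168.result R J ↥H hH]
  intro M _ _ _ hk N g
  obtain ⟨k, hk⟩ := hk
  obtain ⟨G, hG⟩ := Module.Injective.extension_property R I N M N.subtype N.injective_subtype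
    (H.subtype ∘ₗ g)
  have hGH : ∀ y : M, G y ∈ H := by
    intro y
    rw [hmem]
    refine ⟨k, fun a ha => ?_⟩
    have : a • y ∈ (J ^ k • ⊤ : Submodule R M) := Submodule.smul_mem_smul ha trivial
    rw [hk, Submodule.mem_bot] at this
    rw [← map_smul, this, map_zero]
  refine ⟨LinearMap.codRestrict H G hGH, ?_⟩
  apply LinearMap.ext
  intro x
  apply Subtype.ext
  have := LinearMap.congr_fun hG x
  simpa using this

end Groth.Agent.S0301
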