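import Groth.Statements.S0303

set_option autoImplicit false
universe u v
open InjHull

namespace Groth.Agent.S0303

/-- If `f : M → E` is an essential injection and `α : E → I` has `α ∘ f` injective then `α` is injective. -/
theorem injective_of_comp_essential {R : Type u} [CommRing R] {M E I : Type u} [AddCommGroup M]
    [Module R M] [AddCommGroup E] [Module R E] [AddCommGroup I] [Module R I]
    (f : M →ₗ[R] E) (hf : InjHull.IsEssentialInj f) (α : E →ₗ[R] I)
    (hα : Function.Injective (α ∘ₗ f)) : Function.Injective α := by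
  rw [← LinearMap.ker_eq_bot]
  by_contra hne
  apply hf.essential _ hne
  rw [eq_bot_iff]
  rintro x ⟨hx1, ⟨m, rfl⟩⟩
  have : (α ∘ₗ f) m = (α ∘ₗ f) 0 := by simpa using hx1
  have hm := hα this
  simp [hm]

/-- If M → E is an injective hull and M → I is any embedding into an injective module, then E embeds
into I compatibly with M and its image is a direct summand of I. -/
theorem result (R : Type u) [CommRing R] (M : Type u) [AddCommGroup M] [Module R M] (E : Type u) [AddCommGroup E] [Module R E] (I : Type u) [AddCommGroup I] [Module R I] (f : M →ₗ[R] E) (hf : InjHull.IsInjectiveHull f) (i : M →ₗ[R] I) (hi : Function.Injective i) (hI : Module.Injective R I) : ∃ α : E →ₗ[R] I, Function.Injective α ∧ α ∘ₗ f = i ∧ ∃ I' : Submodule R I, IsCompl (LinearMap.range α) I' := by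
  obtain ⟨α, hα⟩ := hI.out f hf.injective i
  have hαf : α ∘ₗ f = i := LinearMap.ext hα
  have hαinj : Function.Injective α :=
    injective_of_comp_essential f hf.toIsEssentialInj α (by rw [hαf]; exact hi)
  refine ⟨α, hαinj, hαf, ?_⟩
  obtain ⟨r, hr⟩ := hf.isInjective.out α hαinj LinearMap.id
  refine ⟨LinearMap.ker r, ?_⟩
  have hr' : r ∘ₗ α = LinearMap.id := LinearMap.ext hr
  refine ⟨?_, ?_⟩
  · rw [Submodule.disjoint_def]
    rintro x ⟨e, rfl⟩ hx
    rw [LinearMap.mem_ker, hr] at hx
    simp at hx
    simp [hx]
  · rw [Submodule.codisjoint_iff_exists_add_eq]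
    intro z
    refine ⟨α (r z), z - α (r z), ⟨r z, rfl⟩, ?_, by abel⟩
    rw [LinearMap.mem_ker, map_sub, hr]
    simp

end Groth.Agent.S0303
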