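import Groth.Statements.S0302
import Groth.Agent.S0303

set_option autoImplicit false
universe u v
open InjHull

namespace Groth.Agent.S0302

/-- Two injective hulls of the same module are isomorphic by an isomorphism compatible with the two
embeddings. -/
theorem result (R : Type u) [CommRing R] (M : Type u) [AddCommGroup M] [Module R M] (E : Type u) [AddCommGroup E] [Module R E] (E' : Type u) [AddCommGroup E'] [Module R E'] (f : M →ₗ[R] E) (hf : InjHull.IsInjectiveHull f) (g : M →ₗ[R] E') (hg : InjHull.IsInjectiveHull g) : ∃ e : E ≃ₗ[R] E', e.toLinearMap ∘ₗ f = g := by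
  obtain ⟨α, hα⟩ := hg.isInjective.out f hf.injective g
  have hαf : α ∘ₗ f = g := LinearMap.ext hα
  have hαinj : Function.Injective α :=
    Groth.Agent.S0303.injective_of_comp_essential f hf.toIsEssentialInj α
      (by rw [hαf]; exact hg.injective)
  obtain ⟨r, hr⟩ := hf.isInjective.out α hαinj LinearMap.id
  -- `r ∘ g = f` is injective, so `r` is injective by essentiality of `g`
  have hrg : r ∘ₗ g = f := by
    ext m
    simp [← hαf, hr]
  have hrinj : Function.Injective r :=
    Groth.Agent.S0303.injective_of_comp_essential g hg.toIsEssentialInj r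
      (by rw [hrg]; exact hf.injective)
  have hαsurj : Function.Surjective α := by
    intro y
    refine ⟨r y, hrinj ?_⟩
    rw [hr]; rfl
  exact ⟨LinearEquiv.ofBijective α ⟨hαinj, hαsurj⟩, by ext m; simp [← hαf]⟩

end Groth.Agent.S0302
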