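import Groth.Statements.S0304
import Groth.Statements.S0304
import Groth.Agent.Lib.helper9.H9_InjHullEx

set_option autoImplicit false
universe u v
open InjHull

namespace Groth.Agent.S0304

/-- Let R be a commutative ring and E an indecomposable injective R-module. Then any two nonzero
submodules of E have nonzero intersection, and the set of elements r ∈ R such that r·x = 0 for some
nonzero x ∈ E is a prime ideal of R. -/
theorem result (R : Type u) [CommRing R] (E : Type u) [AddCommGroup E] [Module R E] (hE : InjHull.IsIndecomposable R E) (hinj : Module.Injective R E) : (∀ N N' : Submodule R E, N ≠ ⊥ → N' ≠ ⊥ → N ⊓ N' ≠ ⊥) ∧ ∃ p : Ideal R, p.IsPrime ∧ (p : Set R) = {r : R | ∃ x : E, x ≠ 0 ∧ r • x = 0} := by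
  have key : ∀ N N' : Submodule R E, N ≠ ⊥ → N' ≠ ⊥ → N ⊓ N' ≠ ⊥ := by
    intro N N' hN hN' hbot
    obtain ⟨F, C, hNF, hess, hFC⟩ := Groth.Agent.H9.InjHullEx.exists_ess_summand hinj N
    have hF : F ≠ ⊥ := fun h => hN (by rw [eq_bot_iff, ← h]; exact hNF)
    have hC : C = ⊥ := (hE.2 F C hFC).resolve_left hF
    have hFtop : F = ⊤ := by
      have := hFC.sup_eq_top
      rwa [hC, sup_bot_eq] at this
    obtain ⟨x, hx, hx0⟩ := (Submodule.ne_bot_iff N').1 hN'
    obtain ⟨r, hr0, hrN⟩ := hess x (by rw [hFtop]; trivial) hx0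
    have : r • x ∈ N ⊓ N' := ⟨hrN, N'.smul_mem r hx⟩
    rw [hbot] at this
    exact hr0 ((Submodule.mem_bot R).1 this)
  refine ⟨key, ?_⟩
  haveI := hE.1
  let p : Ideal R :=
    { carrier := {r : R | ∃ x : E, x ≠ 0 ∧ r • x = 0}
      zero_mem' := by
        obtain ⟨x, hx⟩ := exists_ne (0 : E)
        exact ⟨x, hx, zero_smul _ _⟩
      add_mem' := by
        rintro r s ⟨x, hx0, hx⟩ ⟨y, hy0, hy⟩
        have h1 : Submodule.span R {x} ≠ ⊥ := by
          rw [Ne, Submodule.span_singleton_eq_bot]; exact hx0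
        have h2 : Submodule.span R {y} ≠ ⊥ := by
          rw [Ne, Submodule.span_singleton_eq_bot]; exact hy0
        obtain ⟨z, hz, hz0⟩ := (Submodule.ne_bot_iff _).1 (key _ _ h1 h2)
        obtain ⟨a, ha⟩ := Submodule.mem_span_singleton.1 hz.1
        obtain ⟨b, hb⟩ := Submodule.mem_span_singleton.1 hz.2
        refine ⟨z, hz0, ?_⟩
        have e1 : r • z = 0 := by rw [← ha, smul_comm r a x, hx, smul_zero]
        have e2 : s • z = 0 := by rw [← hb, smul_comm s b y, hy, smul_zero]
        rw [add_smul, e1, e2, add_zero]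
      smul_mem' := by
        rintro a r ⟨x, hx0, hx⟩
        exact ⟨x, hx0, by rw [smul_eq_mul, mul_smul, hx, smul_zero]⟩ }
  refine ⟨p, ?_, rfl⟩
  constructor
  · rw [Ne, Ideal.eq_top_iff_one]
    rintro ⟨x, hx0, hx⟩
    exact hx0 (by simpa using hx)
  · rintro r s ⟨x, hx0, hx⟩
    by_cases hs : s • x = 0
    · exact Or.inr ⟨x, hx0, hs⟩
    · exact Or.inl ⟨s • x, hs, by rw [← mul_smul]; exact hx⟩

end Groth.Agent.S0304
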