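import Groth.Statements.S0305
import Groth.Statements.S0305
import Mathlib

set_option autoImplicit false
universe u v
open InjHull

namespace Groth.Agent.S0305

/-- Let R be a commutative ring, p a prime ideal, and E an injective hull of R/p. Then E is
indecomposable, and E is also an injective hull of the residue field κ(p). -/
theorem result (R : Type u) [CommRing R] (p : Ideal R) [p.IsPrime] (E : Type u) [AddCommGroup E] [Module R E] (f : (R ⧸ p) →ₗ[R] E) (hf : InjHull.IsInjectiveHull f) : InjHull.IsIndecomposable R E ∧ ∃ g : p.ResidueField →ₗ[R] E, InjHull.IsInjectiveHull g := by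
  have hinj := hf.injective
  have hess := hf.essential
  have hE := hf.isInjective
  constructor
  · constructor
    · refine ⟨⟨f 1, 0, ?_⟩⟩
      intro h
      rw [← map_zero f] at h
      exact one_ne_zero (hinj h)
    · intro N N' hNN'
      by_contra hcon
      push Not at hcon
      obtain ⟨hN, hN'⟩ := hcon
      obtain ⟨x, hx, hx0⟩ := (Submodule.ne_bot_iff _).1 (hess N hN)
      obtain ⟨y, hy, hy0⟩ := (Submodule.ne_bot_iff _).1 (hess N' hN')
      obtain ⟨hxN, a, rfl⟩ := hx
      obtain ⟨hyN, b, rfl⟩ := hy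
      obtain ⟨a', rfl⟩ := Ideal.Quotient.mk_surjective a
      obtain ⟨b', rfl⟩ := Ideal.Quotient.mk_surjective b
      have ha0 : Ideal.Quotient.mk p a' ≠ 0 := fun h => hx0 (by rw [h, map_zero])
      have hb0 : Ideal.Quotient.mk p b' ≠ 0 := fun h => hy0 (by rw [h, map_zero])
      have hab : Ideal.Quotient.mk p a' * Ideal.Quotient.mk p b' ≠ 0 := mul_ne_zero ha0 hb0
      have h1 : f (Ideal.Quotient.mk p a' * Ideal.Quotient.mk p b') ∈ N := by
        have : Ideal.Quotient.mk p a' * Ideal.Quotient.mk p b' = b' • Ideal.Quotient.mk p a' := by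
          rw [mul_comm, ← map_mul]; rfl
        rw [this, map_smul]; exact N.smul_mem _ hxN
      have h2 : f (Ideal.Quotient.mk p a' * Ideal.Quotient.mk p b') ∈ N' := by
        have : Ideal.Quotient.mk p a' * Ideal.Quotient.mk p b' = a' • Ideal.Quotient.mk p b' := by
          rw [← map_mul]; rfl
        rw [this, map_smul]; exact N'.smul_mem _ hyN
      have h3 : f (Ideal.Quotient.mk p a' * Ideal.Quotient.mk p b') ∈ N ⊓ N' := ⟨h1, h2⟩
      rw [hNN'.inf_eq_bot] at h3
      have h4 := (Submodule.mem_bot R).1 h3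
      rw [← map_zero f] at h4
      exact hab (hinj h4)
  · let ι : (R ⧸ p) →ₗ[R] p.ResidueField :=
      (IsScalarTower.toAlgHom R (R ⧸ p) p.ResidueField).toLinearMap
    have hι : Function.Injective ι := Ideal.injective_algebraMap_quotient_residueField p
    obtain ⟨g, hg⟩ := hE.out ι hι f
    refine ⟨g, ⟨⟨?_, ?_⟩, hE⟩⟩
    · rw [← LinearMap.ker_eq_bot, LinearMap.ker_eq_bot']
      intro x hx
      obtain ⟨a, b, hb, rfl⟩ := IsFractionRing.div_surjective (A := R ⧸ p) x
      obtain ⟨b', rfl⟩ := Ideal.Quotient.mk_surjective b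
      have hb0 : algebraMap (R ⧸ p) p.ResidueField (Ideal.Quotient.mk p b') ≠ 0 :=
        IsFractionRing.to_map_ne_zero_of_mem_nonZeroDivisors hb
      have h1 : b' • (algebraMap (R ⧸ p) p.ResidueField a /
          algebraMap (R ⧸ p) p.ResidueField (Ideal.Quotient.mk p b')) = ι a := by
        rw [Algebra.smul_def, IsScalarTower.algebraMap_apply R (R ⧸ p) p.ResidueField]
        show algebraMap (R ⧸ p) p.ResidueField (Ideal.Quotient.mk p b') * _ = algebraMap _ _ a
        field_simp
      have h2 : f a = 0 := by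
        rw [← hg a, ← h1, map_smul, hx, smul_zero]
      have h3 : a = 0 := by
        rw [← map_zero f] at h2
        exact hinj h2
      rw [h3, map_zero, zero_div]
    · intro N hN hbot
      apply hess N hN
      rw [eq_bot_iff, ← hbot]
      refine inf_le_inf_left N ?_
      rintro _ ⟨a, rfl⟩
      exact ⟨ι a, hg a⟩

end Groth.Agent.S0305
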