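import Groth.Statements.S0306
import Groth.Statements.S0306
import Groth.Agent.Lib.helper9.H9_InjHullEx
import Groth.Agent.S0305

set_option autoImplicit false
universe u v
open InjHull

namespace Groth.Agent.S0306

/-- Over a Noetherian ring every indecomposable injective module is an injective hull of the residue
field of some prime. -/
theorem result (R : Type u) [CommRing R] [IsNoetherianRing R] (E : Type u) [AddCommGroup E] [Module R E] (hE : InjHull.IsIndecomposable R E) (hinj : Module.Injective R E) : ∃ (p : Ideal R) (_ : p.IsPrime) (g : p.ResidueField →ₗ[R] E), InjHull.IsInjectiveHull g := by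
  haveI := hE.1
  obtain ⟨p, hp⟩ := associatedPrimes.nonempty R E
  obtain ⟨hpp, f, hfinj⟩ := (isAssociatedPrime_iff_exists_injective_linearMap p E).1 hp
  obtain ⟨F, C, hAF, hess, hFC⟩ :=
    Groth.Agent.H9.InjHullEx.exists_ess_summand hinj (LinearMap.range f)
  have hF : F ≠ ⊥ := by
    intro h
    have h1 : f 1 ∈ F := hAF ⟨1, rfl⟩
    rw [h, Submodule.mem_bot, ← map_zero f] at h1
    have h2 : (1 : R ⧸ p) = 0 := hfinj h1
    haveI : Nontrivial (R ⧸ p) := Ideal.Quotient.nontrivial_iff.mpr hpp.ne_top
    exact one_ne_zero h2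
  have hC : C = ⊥ := (hE.2 F C hFC).resolve_left hF
  have hFtop : F = ⊤ := by
    have := hFC.sup_eq_top
    rwa [hC, sup_bot_eq] at this
  rw [hFtop] at hess
  have hhull : InjHull.IsInjectiveHull f :=
    ⟨⟨hfinj, Groth.Agent.H9.InjHullEx.essential_of_ess f hess⟩, hinj⟩
  obtain ⟨_, g, hg⟩ := Groth.Agent.S0305.result R p E f hhull
  exact ⟨p, hpp, g, hg⟩

end Groth.Agent.S0306
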