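import Groth.Statements.S0310
import Groth.Statements.S0310
import Mathlib

set_option autoImplicit false
universe u v
open Matlis

namespace Groth.Agent.S0310

/-- Over a local ring, a module killed elementwise by powers of the maximal ideal and whose socle has
finite dimension n over the residue field embeds into the n-fold sum of an injective hull of the
residue field. -/
theorem result (R : Type u) [CommRing R] [IsLocalRing R] (E : Type u) [AddCommGroup E] [Module R E] (f : IsLocalRing.ResidueField R →ₗ[R] E) (hf : InjHull.IsInjectiveHull f) (M : Type u) [AddCommGroup M] [Module R M] (hM : LocCoh.IsPowerTorsion (IsLocalRing.maximalIdeal R) M) (n : ℕ) [Module.Finite (R ⧸ IsLocalRing.maximalIdeal R) ↥(LocCoh.torsionBy (IsLocalRing.maximalIdeal R) M)] (hn : Module.finrank (R ⧸ IsLocalRing.maximalIdeal R) ↥(LocCoh.torsionBy (IsLocalRing.maximalIdeal R) M) = n) : ∃ g : M →ₗ[R] (Fin n → E), Function.Injective g := by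
  classical
  set m := IsLocalRing.maximalIdeal R with hm
  haveI := hf.isInjective
  letI : Field (R ⧸ m) := Ideal.Quotient.field m
  let S : Submodule R M := LocCoh.torsionBy m M
  let b : Module.Basis (Fin n) (R ⧸ m) S := Module.finBasisOfFinrankEq (R ⧸ m) S hn
  let e : S ≃ₗ[R ⧸ m] (Fin n → R ⧸ m) := b.equivFun
  let eR : S →ₗ[R] (Fin n → IsLocalRing.ResidueField R) := (e.restrictScalars R).toLinearMap
  have heR : Function.Injective eR := e.injective
  let fn : (Fin n → IsLocalRing.ResidueField R) →ₗ[R] (Fin n → E) := f.compLeft (Fin n)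
  have hfn : Function.Injective fn := by
    intro x y hxy
    funext i
    exact hf.injective (congrFun hxy i)
  let φ : S →ₗ[R] (Fin n → E) := fn ∘ₗ eR
  have hφ : Function.Injective φ := hfn.comp heR
  obtain ⟨g, hg⟩ := Module.Injective.extension_property R (Fin n → E) S M S.subtype
    S.injective_subtype φ
  refine ⟨g, ?_⟩
  rw [injective_iff_map_eq_zero]
  intro x hx
  by_contra hx0
  have hex : ∃ N : ℕ, ∀ a ∈ m ^ N, a • x = 0 := hM x
  have hspec := Nat.find_spec hex
  have hmin := fun k => Nat.find_min hex (m := k)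
  set N0 := Nat.find hex with hN0
  have hN0pos : N0 ≠ 0 := by
    intro h0
    rw [h0] at hspec
    have := hspec 1 (by simp)
    rw [one_smul] at this
    exact hx0 this
  obtain ⟨k, hk⟩ := Nat.exists_eq_succ_of_ne_zero hN0pos
  have hnot := hmin k (by omega)
  simp only [not_forall] at hnot
  obtain ⟨a, ha, hax⟩ := hnot
  have hyS : a • x ∈ S := by
    change a • x ∈ Submodule.torsionBySet R M (m : Set R)
    rw [Submodule.mem_torsionBySet_iff]
    rintro ⟨c, hc⟩
    rw [smul_smul]
    apply hspec
    rw [hk, pow_succ']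
    exact Ideal.mul_mem_mul hc ha
  have h1 : φ ⟨a • x, hyS⟩ = 0 := by
    have := LinearMap.congr_fun hg ⟨a • x, hyS⟩
    rw [← this]
    simp [hx]
  have h2 : (⟨a • x, hyS⟩ : S) = 0 := hφ (by rw [h1, map_zero])
  exact hax (congrArg Subtype.val h2)

end Groth.Agent.S0310
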