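import Groth.Statements.S0314
import Groth.Statements.S0314
import Groth.Agent.Lib.helper9.H9_EssArt

set_option autoImplicit false
universe u v
open Matlis

namespace Groth.Agent.S0314

/-- Over a Noetherian local ring an injective hull of the residue field satisfies the descending chain
condition on submodules. -/
theorem result (R : Type u) [CommRing R] [IsLocalRing R] [IsNoetherianRing R] (E : Type u) [AddCommGroup E] [Module R E] (f : IsLocalRing.ResidueField R →ₗ[R] E) (hf : InjHull.IsInjectiveHull f) : IsArtinian R E := by
  have hK : ∀ a ∈ IsLocalRing.maximalIdeal R, ∀ x : IsLocalRing.ResidueField R, a • x = 0 := by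
    intro a ha x
    rw [Algebra.smul_def, IsLocalRing.ResidueField.algebraMap_eq,
      (IsLocalRing.residue_eq_zero_iff a).2 ha, zero_mul]
  haveI : IsSimpleModule R (R ⧸ IsLocalRing.maximalIdeal R) :=
    isSimpleModule_iff_isCoatom.2 (Ideal.isMaximal_def.1 inferInstance)
  haveI : IsArtinian R (IsLocalRing.ResidueField R) :=
    inferInstanceAs (IsArtinian R (R ⧸ IsLocalRing.maximalIdeal R))
  exact Groth.Agent.H9.EssArt.isArtinian (IsLocalRing.maximalIdeal R) f hf.toIsEssentialInj hK

end Groth.Agent.S0314
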