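import Groth.Statements.S0317
import Groth.Statements.S0317
import Groth.Agent.Lib.helper9.H9_MatlisComplete
import Groth.Agent.S0310

set_option autoImplicit false
universe u v
open Matlis

namespace Groth.Agent.S0317

/-- Over a complete Noetherian local ring with E an injective hull of the residue field, the E-dual of
an Artinian module is a finite module and the evaluation map into the double E-dual is bijective. -/
theorem result (R : Type u) [CommRing R] [IsLocalRing R] [IsNoetherianRing R] [IsAdicComplete (IsLocalRing.maximalIdeal R) R] (E : Type u) [AddCommGroup E] [Module R E] (f : IsLocalRing.ResidueField R →ₗ[R] E) (hf : InjHull.IsInjectiveHull f) (M : Type u) [AddCommGroup M] [Module R M] [IsArtinian R M] : Module.Finite R (M →ₗ[R] E) ∧ Function.Bijective (LinearMap.applyₗ : M →ₗ[R] (M →ₗ[R] E) →ₗ[R] E) := by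
  classical
  set m := IsLocalRing.maximalIdeal R with hm
  have hinjE := hf.isInjective
  obtain ⟨hP, hF⟩ := (Groth.Agent.S0315.result R M).1 inferInstance
  obtain ⟨n, hn⟩ : ∃ n : ℕ, Module.finrank (R ⧸ m) ↥(LocCoh.torsionBy m M) = n := ⟨_, rfl⟩
  obtain ⟨g, hg⟩ := Groth.Agent.S0310.result R E f hf M hP n hn
  -- every functional on E^n is a combination of projections
  have hcomb : ∀ χ : (Fin n → E) →ₗ[R] E, ∃ r : Fin n → R, ∀ v : Fin n → E, χ v = ∑ i, r i • v i := by
    intro χ
    have h : ∀ i : Fin n, ∃ r : R, ∀ e : E, (χ ∘ₗ LinearMap.single R (fun _ => E) i) e = r • e :=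
      fun i => Groth.Agent.H9.MatlisComplete.end_eq_smul f hf _
    choose r hr using h
    refine ⟨r, fun v => ?_⟩
    conv_lhs => rw [← Finset.univ_sum_single v, map_sum]
    exact Finset.sum_congr rfl (fun i _ => hr i (v i))
  -- D(g) is surjective
  have hDg : Function.Surjective (LinearMap.lcomp R E g) := by
    intro ψ
    obtain ⟨χ, hχ⟩ := Module.Injective.extension_property R E M (Fin n → E) g hg ψ
    exact ⟨χ, hχ⟩
  refine ⟨?_, Groth.Agent.H9.MatlisLen.eval_injective f hf M, ?_⟩
  · -- finiteness
    have hfin : Module.Finite R ((Fin n → E) →ₗ[R] E) := by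
      refine ⟨⟨Finset.univ.image (fun i : Fin n => (LinearMap.proj i : (Fin n → E) →ₗ[R] E)), ?_⟩⟩
      rw [eq_top_iff]
      intro χ _
      obtain ⟨r, hr⟩ := hcomb χ
      have : χ = ∑ i, r i • (LinearMap.proj i : (Fin n → E) →ₗ[R] E) := by
        apply LinearMap.ext
        intro v
        rw [hr v, LinearMap.sum_apply]
        rfl
      rw [this]
      refine Submodule.sum_mem _ fun i _ => Submodule.smul_mem _ _ (Submodule.subset_span ?_)
      simp
    exact Module.Finite.of_surjective (LinearMap.lcomp R E g) hDg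
  · intro θ
    let θ' : ((Fin n → E) →ₗ[R] E) →ₗ[R] E := θ ∘ₗ (LinearMap.lcomp R E g)
    let y : Fin n → E := fun i => θ' (LinearMap.proj i)
    have hy : ∀ χ : (Fin n → E) →ₗ[R] E, θ' χ = χ y := by
      intro χ
      obtain ⟨r, hr⟩ := hcomb χ
      have : χ = ∑ i, r i • (LinearMap.proj i : (Fin n → E) →ₗ[R] E) := by
        apply LinearMap.ext
        intro v
        rw [hr v, LinearMap.sum_apply]
        rfl
      rw [hr y]
      conv_lhs => rw [this]
      rw [map_sum]
      exact Finset.sum_congr rfl (fun i _ => by rw [map_smul])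
    have hyg : y ∈ LinearMap.range g := by
      by_contra hnot
      have hne : (LinearMap.range g).mkQ y ≠ 0 := by
        rw [Submodule.mkQ_apply, Ne, Submodule.Quotient.mk_eq_zero]
        exact hnot
      obtain ⟨φ, hφ⟩ := Groth.Agent.H9.MatlisLen.sep f hf _ _ hne
      apply hφ
      have h1 : θ' (φ ∘ₗ (LinearMap.range g).mkQ) = φ ((LinearMap.range g).mkQ y) :=
        hy (φ ∘ₗ (LinearMap.range g).mkQ)
      rw [← h1]
      have h2 : (LinearMap.lcomp R E g) (φ ∘ₗ (LinearMap.range g).mkQ) = 0 := by
        apply LinearMap.ext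
        intro x
        change φ ((LinearMap.range g).mkQ (g x)) = 0
        have hmem : g x ∈ LinearMap.range g := ⟨x, rfl⟩
        rw [Submodule.mkQ_apply, (Submodule.Quotient.mk_eq_zero _).2 hmem, map_zero]
      change θ ((LinearMap.lcomp R E g) (φ ∘ₗ (LinearMap.range g).mkQ)) = 0
      rw [h2, map_zero]
    obtain ⟨x, hx⟩ := hyg
    refine ⟨x, ?_⟩
    apply LinearMap.ext
    intro ψ
    obtain ⟨χ, rfl⟩ := hDg ψ
    change χ (g x) = θ' χ
    rw [hy, hx]

end Groth.Agent.S0317
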