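import Groth.Statements.S0322
import Groth.Statements.S0322
import Mathlib
import Groth.Agent.Lib.helper9.H9_CMDim

set_option autoImplicit false
universe u v
open LocCoh

namespace Groth.Agent.S0322

/-- For a finite Cohen–Macaulay module M over a Noetherian local ring and a proper ideal I, the I-depth
of M equals dim Supp(M) minus dim Supp(M/IM); stated additively. -/
theorem result (R : Type u) [CommRing R] [IsLocalRing R] [IsNoetherianRing R] (I : Ideal R) (hI : I ≠ ⊤) (M : Type u) [AddCommGroup M] [Module R M] [Module.Finite R M] (hM : LocCoh.IsCohenMacaulayModule R M) : Module.supportDim R M = Module.supportDim R (M ⧸ (I • (⊤ : Submodule R M))) + ((LocCoh.idealDepth I M : ℕ∞) : WithBot ℕ∞) := by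
  have hIm : I ≤ IsLocalRing.maximalIdeal R := IsLocalRing.le_maximalIdeal hI
  haveI := H9CMDim.nontrivial_of_cm R M hM
  have hmM : IsLocalRing.maximalIdeal R • (⊤ : Submodule R M) ≠ ⊤ := by
    intro htop
    have h1 := Submodule.eq_bot_of_le_smul_of_le_jacobson_bot (IsLocalRing.maximalIdeal R)
      (⊤ : Submodule R M) Module.Finite.fg_top (by rw [htop])
      (IsLocalRing.maximalIdeal_le_jacobson ⊥)
    exact top_ne_bot h1
  have hIM : I • (⊤ : Submodule R M) ≠ ⊤ := by
    intro htop
    apply hmM
    have hle : I • (⊤ : Submodule R M) ≤ IsLocalRing.maximalIdeal R • (⊤ : Submodule R M) :=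
      Submodule.smul_mono_left hIm
    rw [htop] at hle
    exact top_le_iff.mp hle
  have hmono : LocCoh.idealDepth I M ≤ LocCoh.depth R M := by
    unfold LocCoh.depth LocCoh.idealDepth
    rw [if_neg hIM, if_neg hmM]
    exact iSup₂_le fun rs h => le_iSup₂_of_le rs ⟨h.1, fun r hr => hIm (h.2 r hr)⟩ le_rfl
  have hdfin : LocCoh.depth R M ≠ ⊤ := by
    obtain ⟨r, hr⟩ := H9Ischebeck.exists_nat_supportDim_lt R M
    have hM' : Module.supportDim R M = ((LocCoh.depth R M : ℕ∞) : WithBot ℕ∞) := hM
    rw [hM'] at hr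
    have h2 : LocCoh.depth R M < (r : ℕ∞) := by exact_mod_cast hr
    exact ne_top_of_lt h2
  have hfin : LocCoh.idealDepth I M ≠ ⊤ := ne_top_of_le_ne_top hdfin hmono
  obtain ⟨n, hn⟩ := ENat.ne_top_iff_exists.mp hfin
  rw [← hn]
  exact H9CMDim.main R I hI n M hM hn.symm

end Groth.Agent.S0322
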