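import Groth.Statements.S0346

set_option autoImplicit false
universe u v
open CategoryTheory MonoidalCategory CartesianMonoidalCategory MonObj GrpObj AlgebraicGeometry
open GrpSch

namespace Groth.Agent.S0346

/-- A group scheme over any base scheme is separated over the base exactly when its unit section is a
closed immersion, and quasi-separated exactly when the unit section is quasi-compact. -/
theorem result (S : Scheme.{u}) (G : Over S) [GrpObj G] : (IsSeparated G.hom ↔ IsClosedImmersion η[G].left) ∧ (QuasiSeparated G.hom ↔ QuasiCompact η[G].left) := by
  have hpb : IsPullback (toUnit G) (lift (𝟙 G) (𝟙 G)) η[G]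
      (lift (fst G G) (snd G G ≫ ι[G]) ≫ μ[G]) := by
    refine ⟨⟨?_⟩, ⟨Limits.PullbackCone.IsLimit.mk _ (fun s => s.snd ≫ fst G G) ?_ ?_ ?_⟩⟩
    · rw [comp_lift_assoc]
      simp
    · intro s
      exact toUnit_unique _ _
    · intro s
      have h := s.condition
      rw [comp_lift_assoc, ← Category.assoc, eq_comm, lift_inv_right_eq] at h
      rw [comp_lift]
      simp only [Category.comp_id]
      apply CartesianMonoidalCategory.hom_ext
      · simp
      · rw [lift_snd, h]
        simp
    · intro s m _ hm
      rw [← hm]
      simp
  have hpb' := hpb.map (Over.forget S)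
  simp only [Over.forget_obj, Over.forget_map] at hpb'
  have hdiag : (lift (𝟙 G) (𝟙 G)).left = Limits.pullback.diagonal G.hom := by
    rw [Over.lift_left]
    rfl
  rw [hdiag] at hpb'
  have hη : η[G].left ≫ G.hom = 𝟙 S := by
    have := Over.w η[G]
    simpa using this
  constructor
  · constructor
    · intro h
      have : IsClosedImmersion (η[G].left ≫ G.hom) := by
        rw [hη]; exact inferInstanceAs (IsClosedImmersion (𝟙 S))
      exact IsClosedImmersion.of_comp η[G].left G.hom
    · intro h
      exact ⟨MorphismProperty.of_isPullback hpb' h⟩
  · constructor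
    · intro h
      have : QuasiCompact (η[G].left ≫ G.hom) := by
        rw [hη]; exact inferInstanceAs (QuasiCompact (𝟙 S))
      exact QuasiCompact.of_comp η[G].left G.hom
    · intro h
      rw [quasiSeparated_iff]
      exact MorphismProperty.of_isPullback hpb' h

end Groth.Agent.S0346
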