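import Groth.Statements.S0347

set_option autoImplicit false
universe u v
open CategoryTheory MonoidalCategory CartesianMonoidalCategory MonObj GrpObj AlgebraicGeometry
open GrpSch

namespace Groth.Agent.S0347

/-- The multiplication map of a group scheme over a field is an open map of topological spaces. -/
theorem result (K : Type u) [Field K] (G : Over (Spec (CommRingCat.of K))) [GrpObj G] : IsOpenMap (μ[G].left : (G ⊗ G).left ⟶ G.left) := by
  -- shear isomorphism
  have key1 : lift μ[G] (snd G G ≫ ι[G]) ≫ μ[G] = fst G G := by
    have : lift μ[G] (snd G G ≫ ι[G]) =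
        lift (lift (fst G G) (snd G G) ≫ μ[G]) (snd G G ≫ ι[G]) := by simp
    rw [this, lift_lift_assoc]
    simp
  let sh : G ⊗ G ≅ G ⊗ G :=
    { hom := lift μ[G] (snd G G)
      inv := lift (lift (fst G G) (snd G G ≫ ι[G]) ≫ μ[G]) (snd G G)
      hom_inv_id := by
        apply CartesianMonoidalCategory.hom_ext
        · simp only [Category.assoc, lift_fst, Category.id_comp, comp_lift_assoc, lift_snd_assoc]
          exact key1
        · simp
      inv_hom_id := by
        apply CartesianMonoidalCategory.hom_ext
        · simp only [Category.assoc, lift_fst, Category.id_comp, comp_lift_assoc, lift_snd_assoc]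
          simp [lift_lift_assoc]
        · simp }
  have hμ : μ[G] = sh.hom ≫ fst G G := by simp [sh]
  have h1 : IsOpenMap ((fst G G).left : (G ⊗ G).left ⟶ G.left) := by
    rw [Over.fst_left]
    have : UniversallyOpen G.hom := inferInstance
    exact (Limits.pullback.fst G.hom G.hom).isOpenMap
  have h2 : IsOpenMap (sh.hom.left : (G ⊗ G).left ⟶ (G ⊗ G).left) := by
    have : IsIso sh.hom := sh.isIso_hom
    have : IsIso sh.hom.left := (Over.forget _).map_isIso sh.hom
    exact (sh.hom.left).homeomorph.isOpenMap
  rw [hμ, Over.comp_left]
  exact h1.comp h2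

end Groth.Agent.S0347
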