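import Groth.Statements.S0352
import Mathlib

set_option autoImplicit false
universe u v
open CategoryTheory MonoidalCategory CartesianMonoidalCategory MonObj GrpObj AlgebraicGeometry
open GrpSch

namespace Groth.Agent.S0352

/-- If the image of a homomorphism of group schemes over a field is open, it is also closed. -/
theorem result (K : Type u) [Field K] (H G : Over (Spec (CommRingCat.of K))) [GrpObj H] [GrpObj G] (ψ : H ⟶ G) [IsMonHom ψ] (h : IsOpen (Set.range ψ.left)) : IsClosed (Set.range ψ.left) := by
  rw [← isOpen_compl_iff, isOpen_iff_forall_mem_open]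
  intro z hz
  let T : Over (Spec (CommRingCat.of K)) := Over.mk (G.left.fromSpecResidueField z ≫ G.hom)
  let t : T ⟶ G := Over.homMk (G.left.fromSpecResidueField z) rfl
  let m : T ⊗ G ⟶ G := (fst T G ≫ t) * snd T G
  let σ : T ⊗ G ≅ T ⊗ G :=
    { hom := lift (fst T G) m
      inv := lift (fst T G) ((fst T G ≫ t)⁻¹ * snd T G)
      hom_inv_id := by
        apply CartesianMonoidalCategory.hom_ext
        · simp
        · simp [MonObj.comp_mul, GrpObj.comp_inv, m]
      inv_hom_id := by
        apply CartesianMonoidalCategory.hom_ext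
        · simp
        · simp [MonObj.comp_mul, GrpObj.comp_inv, m] }
  have hm : m = σ.hom ≫ snd T G := by simp [σ]
  have hopen : IsOpenMap (m.left : (T ⊗ G).left ⟶ G.left) := by
    have h1 : IsOpenMap ((snd T G).left : (T ⊗ G).left ⟶ G.left) := by
      rw [Over.snd_left]
      have : UniversallyOpen T.hom := inferInstance
      exact (Limits.pullback.snd T.hom G.hom).isOpenMap
    have h2 : IsOpenMap (σ.hom.left : (T ⊗ G).left ⟶ (T ⊗ G).left) := by
      have : IsIso σ.hom := σ.isIso_hom
      have : IsIso σ.hom.left := (Over.forget _).map_isIso σ.hom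
      exact (σ.hom.left).homeomorph.isOpenMap
    rw [hm, Over.comp_left]
    exact h1.comp h2
  have hone : η[G].left (IsLocalRing.closedPoint K) ∈ Set.range ψ.left := by
    refine ⟨η[H].left (IsLocalRing.closedPoint K), ?_⟩
    rw [← Scheme.Hom.comp_apply, ← Over.comp_left, IsMonHom.one_hom]
  have hall : ∀ pt : T.left, t.left pt = z := by
    intro pt
    have : t.left = G.left.fromSpecResidueField z := rfl
    rw [this]
    have := G.left.range_fromSpecResidueField z
    have h2 : G.left.fromSpecResidueField z pt ∈ Set.range (G.left.fromSpecResidueField z) :=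
      ⟨pt, rfl⟩
    rw [this] at h2
    exact h2
  refine ⟨m.left '' ((snd T G).left ⁻¹' Set.range ψ.left), ?_, ?_, ?_⟩
  · rintro _ ⟨p, hp, rfl⟩ ⟨h0, hh0⟩
    apply hz
    have hpq : p ∈ Set.range (T ◁ ψ).left := by
      rw [Over.whiskerLeft_left, Scheme.Pullback.range_map]
      refine ⟨⟨(Limits.pullback.fst T.hom G.hom) p, rfl⟩, hp⟩
    obtain ⟨q, rfl⟩ := hpq
    let a : T ⊗ H ⟶ G := (T ◁ ψ) ≫ m
    have ha : a = (fst T H ≫ t) * (snd T H ≫ ψ) := by
      simp [a, m, MonObj.comp_mul]
    have haq : a.left q = ψ.left h0 := by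
      rw [hh0]; rfl
    obtain ⟨r, hr1, hr2⟩ := Scheme.Pullback.exists_preimage_pullback (f := a.left) (g := ψ.left)
      q h0 haq
    let P' : Over (Spec (CommRingCat.of K)) :=
      Over.mk (Limits.pullback.fst a.left ψ.left ≫ (T ⊗ H).hom)
    let π₁ : P' ⟶ T ⊗ H := Over.homMk (Limits.pullback.fst a.left ψ.left) rfl
    let π₂ : P' ⟶ H := Over.homMk (Limits.pullback.snd a.left ψ.left) (by
      show Limits.pullback.snd a.left ψ.left ≫ H.hom =
        Limits.pullback.fst a.left ψ.left ≫ (T ⊗ H).hom
      rw [← Over.w ψ, ← Over.w a, Limits.pullback.condition_assoc])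
    have hπ : π₁ ≫ a = π₂ ≫ ψ := by
      ext1
      exact Limits.pullback.condition
    let u : P' ⟶ G := π₁ ≫ fst T H ≫ t
    let v : P' ⟶ H := π₁ ≫ snd T H
    have huv : u * (v ≫ ψ) = π₂ ≫ ψ := by
      rw [← hπ, ha, MonObj.comp_mul]
      simp [u, v]
    have hu : u = (π₂ * v⁻¹) ≫ ψ := by
      rw [MonObj.mul_comp, GrpObj.inv_comp, ← huv]
      simp
    have hur : u.left r = z := by
      show t.left ((π₁ ≫ fst T H).left r) = z
      exact hall _
    rw [← hur, hu]
    exact ⟨_, rfl⟩
  · exact hopen _ (h.preimage (snd T G).left.continuous)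
  · let e : T ⟶ T ⊗ G := lift (𝟙 T) (toUnit T ≫ η[G])
    have he : e ≫ m = t := by
      simp [e, m, MonObj.comp_mul, ← MonObj.one_eq_one, ← Hom.one_def]
    obtain ⟨pt, hpt⟩ : ∃ pt : T.left, t.left pt = z := by
      obtain ⟨pt⟩ : Nonempty (Spec (G.left.residueField z)) := inferInstance
      refine ⟨pt, ?_⟩
      have : t.left = G.left.fromSpecResidueField z := rfl
      rw [this]
      have := G.left.range_fromSpecResidueField z
      have h2 : G.left.fromSpecResidueField z pt ∈ Set.range (G.left.fromSpecResidueField z) := ⟨pt, rfl⟩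
      rw [this] at h2
      exact h2
    refine ⟨e.left pt, ?_, ?_⟩
    · show (snd T G).left (e.left pt) ∈ Set.range ψ.left
      rw [← Scheme.Hom.comp_apply, ← Over.comp_left]
      have : e ≫ snd T G = toUnit T ≫ η[G] := by simp [e]
      rw [this, Over.comp_left, Scheme.Hom.comp_apply]
      convert hone
      exact Subsingleton.elim (α := PrimeSpectrum K) _ _
    · rw [← Scheme.Hom.comp_apply, ← Over.comp_left, he, hpt]

end Groth.Agent.S0352
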