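import Groth.Statements.S0397
import Mathlib

set_option autoImplicit false
universe u
open FlatMor

namespace Groth.Agent.S0397

open TensorProduct in
/-- Nakayama for a nilpotent ideal, without finiteness. -/
theorem eq_top_of_sup_smul_eq_top {R M : Type u} [CommRing R] [AddCommGroup M] [Module R M]
    (I : Ideal R) (hI : IsNilpotent I) (N : Submodule R M) (h : N ⊔ I • (⊤ : Submodule R M) = ⊤) :
    N = ⊤ := by
  obtain ⟨n, hn⟩ := hI
  have key : ∀ k : ℕ, N ⊔ (I ^ k) • (⊤ : Submodule R M) = ⊤ := by
    intro k
    induction k with
    | zero => simp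
    | succ k ih =>
      rw [eq_top_iff]
      calc (⊤ : Submodule R M) = N ⊔ I • (⊤ : Submodule R M) := h.symm
        _ = N ⊔ I • (N ⊔ (I ^ k) • (⊤ : Submodule R M)) := by rw [ih]
        _ = N ⊔ (I • N ⊔ I • ((I ^ k) • (⊤ : Submodule R M))) := by rw [Submodule.smul_sup]
        _ ≤ N ⊔ (I ^ (k + 1)) • (⊤ : Submodule R M) := by
          refine sup_le le_sup_left (sup_le (le_sup_of_le_left Submodule.smul_le_right) ?_)
          rw [← Submodule.mul_smul, pow_succ']
          exact le_sup_right
  have := key n
  rwa [hn, Submodule.zero_eq_bot, Submodule.bot_smul, sup_bot_eq] at this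

/-- Over a local ring whose maximal ideal is nilpotent, every flat module (not necessarily finitely
generated) is free. -/
theorem result {R M : Type u} [CommRing R] [IsLocalRing R] (hR : IsNilpotent (IsLocalRing.maximalIdeal R))
    [AddCommGroup M] [Module R M] [Module.Flat R M] : Module.Free R M := by
  classical
  let k := IsLocalRing.ResidueField R
  let w := Module.Free.chooseBasis k (TensorProduct R k M)
  obtain ⟨v, eq⟩ := (TensorProduct.mk_surjective R M k Ideal.Quotient.mk_surjective).comp_left w
  have eq' : (⇑(TensorProduct.mk R k M 1) ∘ v) = w := eq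
  have hli : LinearIndependent R v := by
    apply Module.IsLocalRing.linearIndependent_of_flat
    rw [eq']
    exact w.linearIndependent
  have hspan : Submodule.span R (Set.range v) = ⊤ := by
    apply eq_top_of_sup_smul_eq_top (IsLocalRing.maximalIdeal R) hR
    rw [← LinearMap.ker_tensorProductMk, ← Submodule.comap_map_eq]
    rw [eq_top_iff]
    intro x _
    rw [Submodule.mem_comap, Submodule.map_span, ← Set.range_comp]
    have h1 : Submodule.span R (Set.range ((TensorProduct.mk R k M 1) ∘ v)) =
        (Submodule.span k (Set.range ((TensorProduct.mk R k M 1) ∘ v))).restrictScalars R :=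
      (Submodule.restrictScalars_span R k Ideal.Quotient.mk_surjective _).symm
    have h2 : Submodule.span k (Set.range ((TensorProduct.mk R k M 1) ∘ v)) = ⊤ := by
      rw [eq', w.span_eq]
    change (TensorProduct.mk R k M 1) x ∈ Submodule.span R (Set.range ((TensorProduct.mk R k M 1) ∘ v))
    rw [h1, h2]
    trivial
  exact Module.Free.of_basis (Module.Basis.mk hli hspan.ge)

end Groth.Agent.S0397
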