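import Groth.Statements.S0401
import Mathlib

set_option autoImplicit false
universe u
open FlatMor

namespace Groth.Agent.S0401

/-- heights do not drop under contraction along an integral extension. -/
lemma height_le_height_under_of_isIntegral {R S : Type*} [CommRing R] [CommRing S] [Algebra R S]
    [Algebra.IsIntegral R S] (q : Ideal S) [q.IsPrime] : q.height ≤ (q.under R).height := by
  have hmono : StrictMono (PrimeSpectrum.comap (algebraMap R S)) := by
    intro a b hab
    have hab' : a.asIdeal < b.asIdeal := hab
    obtain ⟨hle, x, hxb, hxa⟩ := SetLike.lt_iff_le_and_exists.mp hab'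
    exact Ideal.comap_lt_comap_of_integral_mem_sdiff (I := a.asIdeal) (J := b.asIdeal) hle
      ⟨hxb, hxa⟩ (Algebra.IsIntegral.isIntegral x)
  have := Order.height_le_height_apply_of_strictMono _ hmono (⟨q, inferInstance⟩ : PrimeSpectrum S)
  rw [← PrimeSpectrum.height_eq_orderHeight, ← PrimeSpectrum.height_eq_orderHeight] at this
  exact this

/-- For a finite type ring map R → S quasi-finite at a prime q lying over p, the dimension of S_q is at
most the dimension of R_p. -/
theorem result {R S : Type u} [CommRing R] [CommRing S] [Algebra R S] [Algebra.FiniteType R S] (q : Ideal S) [q.IsPrime] [Algebra.QuasiFiniteAt R q] :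
    ringKrullDim (Localization.AtPrime q) ≤ ringKrullDim (Localization.AtPrime (q.under R)) := by
  obtain ⟨S', hfg, r, hrq, hbij⟩ :=
    Algebra.QuasiFiniteAt.exists_fg_and_exists_notMem_and_awayMap_bijective (R := R) q
  have hfin : Module.Finite R S' := ⟨(Submodule.fg_top _).mpr hfg⟩
  have hint : Algebra.IsIntegral R S' := inferInstance
  rw [IsLocalization.AtPrime.ringKrullDim_eq_height q, IsLocalization.AtPrime.ringKrullDim_eq_height (q.under R)]
  norm_cast
  -- the prime of S'
  let q' : Ideal S' := q.comap S'.val
  have hq'R : q'.under R = q.under R := by
    ext x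
    simp [q', Ideal.under, Ideal.mem_comap]
  -- localizations
  let e : Localization.Away r ≃+* Localization.Away (S'.val.toRingHom r) :=
    RingEquiv.ofBijective _ hbij
  let QB : Ideal (Localization.Away (S'.val.toRingHom r)) :=
    q.map (algebraMap S (Localization.Away (S'.val.toRingHom r)))
  have hdisj : Disjoint ((Submonoid.powers (S'.val.toRingHom r) : Submonoid S) : Set S) (q : Set S) := by
    rw [Set.disjoint_left]
    rintro x ⟨n, rfl⟩ hx
    exact hrq (Ideal.IsPrime.mem_of_pow_mem inferInstance n hx)
  have hQBprime : QB.IsPrime :=
    IsLocalization.isPrime_of_isPrime_disjoint (Submonoid.powers (S'.val.toRingHom r)) _ q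
      inferInstance hdisj
  have h1 : QB.height = q.height :=
    IsLocalization.height_map_of_disjoint (Submonoid.powers (S'.val.toRingHom r)) q hdisj
  have h2 : (QB.comap (e : Localization.Away r →+* _)).height = QB.height :=
    RingEquiv.height_comap e QB
  have h3 : ((QB.comap (e : Localization.Away r →+* _)).under S').height =
      (QB.comap (e : Localization.Away r →+* _)).height :=
    IsLocalization.height_under (Submonoid.powers r) _
  have hcomap : QB.comap (algebraMap S (Localization.Away (S'.val.toRingHom r))) = q :=
    IsLocalization.under_map_of_isPrime_disjoint (Submonoid.powers (S'.val.toRingHom r)) _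
      inferInstance hdisj
  have h4 : (QB.comap (e : Localization.Away r →+* _)).under S' = q' := by
    ext x
    have he : e (algebraMap S' (Localization.Away r) x) =
        algebraMap S (Localization.Away (S'.val.toRingHom r)) (S'.val x) := by
      show Localization.awayMap S'.val.toRingHom r (algebraMap S' (Localization.Away r) x) = _
      simp only [Localization.awayMap, IsLocalization.Away.map]
      rw [IsLocalization.map_eq]
      rfl
    simp only [Ideal.under, Ideal.mem_comap, q']
    rw [show ((e : Localization.Away r →+* _) (algebraMap S' (Localization.Away r) x)) =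
      e (algebraMap S' (Localization.Away r) x) from rfl, he, ← Ideal.mem_comap, hcomap]
  calc q.height = q'.height := by rw [← h1, ← h2, ← h3, h4]
    _ ≤ (q'.under R).height := height_le_height_under_of_isIntegral q'
    _ = (q.under R).height := by rw [hq'R]

end Groth.Agent.S0401
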