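import Groth.Statements.S0417
import Mathlib
import Groth.Agent.Lib.NilSurj

set_option autoImplicit false
universe u
open FlatMor

namespace Groth.Agent.S0417

open AlgebraicGeometry CategoryTheory Limits in
/-- Pushout square of rings `B' = B ⊗_A A'` with `A → A'` surjective with kernel `I`, and
`A' → B'` surjective: then every `b : B` is congruent to the image of some `a` modulo `I B`. -/
theorem exists_sub_mem {A A' B B' : CommRingCat.{u}} (φ : A ⟶ B) (π : A ⟶ A') (ψ : B ⟶ B')
    (φ' : A' ⟶ B') (h : IsPushout φ π ψ φ') (hπ : Function.Surjective π.hom)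
    (hφ' : Function.Surjective φ'.hom) (b : B) :
    ∃ a : A, b - φ.hom a ∈ (RingHom.ker π.hom).map φ.hom := by
  let J : Ideal B := (RingHom.ker π.hom).map φ.hom
  let mkB : B ⟶ CommRingCat.of (B ⧸ J) := CommRingCat.ofHom (Ideal.Quotient.mk J)
  have hle : RingHom.ker π.hom ≤ RingHom.ker ((Ideal.Quotient.mk J).comp φ.hom) := by
    intro a ha
    rw [RingHom.mem_ker, RingHom.comp_apply, Ideal.Quotient.eq_zero_iff_mem]
    exact Ideal.mem_map_of_mem _ ha
  let ρ : A' ⟶ CommRingCat.of (B ⧸ J) :=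
    CommRingCat.ofHom (RingHom.liftOfSurjective π.hom hπ ⟨(Ideal.Quotient.mk J).comp φ.hom, hle⟩)
  have hcomm : φ ≫ mkB = π ≫ ρ := by
    ext a
    simp only [CommRingCat.hom_comp, CommRingCat.hom_ofHom, RingHom.comp_apply, mkB, ρ]
    exact (RingHom.liftOfRightInverse_comp_apply π.hom _ (Function.rightInverse_surjInv hπ)
      ⟨(Ideal.Quotient.mk J).comp φ.hom, hle⟩ a).symm
  let d := h.desc mkB ρ hcomm
  have hd : ψ ≫ d = mkB := h.inl_desc _ _ _
  obtain ⟨a', ha'⟩ := hφ' (ψ.hom b)
  obtain ⟨a, rfl⟩ := hπ a'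
  refine ⟨a, ?_⟩
  have h1 : ψ.hom (b - φ.hom a) = 0 := by
    rw [map_sub, sub_eq_zero, ← ha']
    have := congr($(h.w).hom a)
    simpa using this.symm
  have h2 : mkB.hom (b - φ.hom a) = 0 := by
    rw [← hd]
    simp only [CommRingCat.hom_comp, RingHom.comp_apply]
    rw [h1, map_zero]
  exact Ideal.Quotient.eq_zero_iff_mem.mp h2

open AlgebraicGeometry CategoryTheory Limits in
/-- Let i : S' → S be a closed immersion that is bijective on points and f : X → S a morphism of finite
type (locally of finite type and quasi-compact) whose base change X ×_S S' → S' is a closed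
immersion. Then f is a closed immersion. The published statement alternatively allows S' → S of
finite presentation in place of the finite-type hypothesis on f; only the first alternative is
stated. -/
theorem result {X S S' : Scheme.{u}} (f : X ⟶ S) (i : S' ⟶ S) [IsClosedImmersion i] (hi : Function.Bijective i)
    [LocallyOfFiniteType f] [QuasiCompact f] [IsClosedImmersion (pullback.snd f i)] : IsClosedImmersion f := by
  classical
  haveI : Surjective i := ⟨hi.2⟩
  -- Step 0: `f` is a closed embedding topologically.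
  let g := pullback.fst f i
  let f' := pullback.snd f i
  have hgsurj : Function.Surjective g := (inferInstance : Surjective (pullback.fst f i)).surj
  have hcomp : Topology.IsClosedEmbedding (g ≫ f) := by
    have : g ≫ f = f' ≫ i := pullback.condition
    rw [this]
    exact (f' ≫ i).isClosedEmbedding
  have hcompfun : ⇑(g ≫ f) = ⇑f ∘ ⇑g := by
    ext z; simp
  have hce : Topology.IsClosedEmbedding f := by
    refine Topology.IsClosedEmbedding.of_continuous_injective_isClosedMap f.continuous ?_ ?_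
    · intro a b hab
      obtain ⟨a', rfl⟩ := hgsurj a
      obtain ⟨b', rfl⟩ := hgsurj b
      have : (g ≫ f) a' = (g ≫ f) b' := by simpa using hab
      rw [hcomp.injective this]
    · intro Z hZ
      have : ⇑f '' Z = ⇑(g ≫ f) '' (⇑g ⁻¹' Z) := by
        rw [hcompfun, Set.image_comp, Set.image_preimage_eq _ hgsurj]
      rw [this]
      exact hcomp.isClosedMap _ (hZ.preimage g.continuous)
  have haff : IsAffineHom f := isAffineHom_of_isInducing f hce.isInducing hce.isClosed_range
  rw [isClosedImmersion_iff_isAffineHom]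
  refine ⟨haff, fun U hU => ?_⟩
  -- Step 2: surjectivity on sections over an affine open `U`.
  have H : IsPullback g f' f i := IsPullback.of_hasPullback f i
  have hUT : IsAffineOpen (i ⁻¹ᵁ U) := hU.preimage i
  have hUX : IsAffineOpen (f ⁻¹ᵁ U) := hU.preimage f
  have hUY : f' ⁻¹ᵁ (i ⁻¹ᵁ U) = g ⁻¹ᵁ (f ⁻¹ᵁ U) ⊓ f' ⁻¹ᵁ (i ⁻¹ᵁ U) := by
    have : g ⁻¹ᵁ (f ⁻¹ᵁ U) = f' ⁻¹ᵁ (i ⁻¹ᵁ U) := by
      rw [← Scheme.Hom.comp_preimage, ← Scheme.Hom.comp_preimage, H.w]
    rw [this, inf_idem]
  have hiso := isIso_pushoutSection_of_isAffineOpen H (US := U) (UT := i ⁻¹ᵁ U)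
    (UX := f ⁻¹ᵁ U) le_rfl le_rfl hUY hU hUT hUX
  have hpush := (isIso_pushoutSection_iff H (US := U) (UT := i ⁻¹ᵁ U)
    (UX := f ⁻¹ᵁ U) le_rfl le_rfl hUY).mp hiso
  have hπ : Function.Surjective (i.appLE U (i ⁻¹ᵁ U) le_rfl).hom := by
    rw [Scheme.Hom.appLE_eq_app]
    exact i.app_surjective U hU
  have hφ' : Function.Surjective (f'.appLE (i ⁻¹ᵁ U) (f' ⁻¹ᵁ (i ⁻¹ᵁ U)) le_rfl).hom := by
    rw [Scheme.Hom.appLE_eq_app]
    exact f'.app_surjective _ hUT
  have hft : (f.appLE U (f ⁻¹ᵁ U) le_rfl).hom.FiniteType :=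
    HasRingHomProperty.appLE (P := @LocallyOfFiniteType) f inferInstance ⟨U, hU⟩ ⟨_, hUX⟩ le_rfl
  have hnil : RingHom.ker (i.appLE U (i ⁻¹ᵁ U) le_rfl).hom ≤ nilradical Γ(S, U) := by
    intro a ha
    rw [mem_nilradical, Scheme.isNilpotent_iff_basicOpen_eq_bot_of_isCompact hU.isCompact]
    rw [Scheme.Hom.appLE_eq_app] at ha
    have h0 : (i.app U).hom a = 0 := ha
    have h1 : i ⁻¹ᵁ (S.basicOpen a) = ⊥ := by
      rw [Scheme.preimage_basicOpen]
      have : (ConcreteCategory.hom (i.app U)) a = 0 := h0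
      rw [this]
      exact Scheme.basicOpen_zero _ _
    ext s
    simp only [TopologicalSpace.Opens.coe_bot, Set.mem_empty_iff_false, iff_false]
    intro hs
    obtain ⟨s', rfl⟩ := hi.2 s
    have : s' ∈ i ⁻¹ᵁ (S.basicOpen a) := hs
    rw [h1] at this
    exact this
  have key := Groth.Agent.Lib.NilSurj.surjective_of_nil (f.appLE U (f ⁻¹ᵁ U) le_rfl).hom hft _ hnil
    (exists_sub_mem _ _ _ _ hpush hπ hφ')
  rw [Scheme.Hom.appLE_eq_app] at key
  exact key

end Groth.Agent.S0417
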