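import Groth.Statements.S0423
import Mathlib

set_option autoImplicit false
universe u
open FlatMor

namespace Groth.Agent.S0423

open AlgebraicGeometry CategoryTheory Limits in
/-- A weakly étale morphism of schemes (flat with flat diagonal) is formally unramified. -/
theorem result {X Y : Scheme.{u}} (f : X ⟶ Y) [WeaklyEtale f] : FormallyUnramified f := by
  apply FormallyUnramified.of_hom_ext
  intro R S φ hφ hker g₁ g₂ h₁ h₂
  let g : Spec R ⟶ pullback f f := pullback.lift g₁ g₂ h₂
  let t : pullback (pullback.diagonal f) g ⟶ Spec R := pullback.snd _ _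
  have hflat : Flat t := inferInstance
  have hmono : Mono t := inferInstance
  have himm : IsImmersion t := inferInstance
  let s : Spec S ⟶ pullback (pullback.diagonal f) g :=
    pullback.lift (Spec.map φ ≫ g₁) (Spec.map φ) (by
      apply pullback.hom_ext
      · simp only [Category.assoc, pullback.diagonal_fst, Category.comp_id, g, pullback.lift_fst]
      · simp only [Category.assoc, pullback.diagonal_snd, Category.comp_id, g, pullback.lift_snd, h₁])
  have hs : s ≫ t = Spec.map φ := pullback.lift_snd ..
  have hsurjφ : Surjective (Spec.map φ) := by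
    constructor
    intro p
    have hle : RingHom.ker φ.hom ≤ p.asIdeal := by
      intro x hx
      have : x ^ 2 ∈ RingHom.ker φ.hom ^ 2 := Ideal.pow_mem_pow hx 2
      rw [hker] at this
      have h0 : x ^ 2 = 0 := this
      exact p.isPrime.mem_of_pow_mem 2 (h0 ▸ p.asIdeal.zero_mem)
    have hp : p ∈ Set.range (PrimeSpectrum.comap φ.hom) := by
      rw [range_comap_of_surjective _ _ hφ]
      exact hle
    exact hp
  have hsurj : Surjective t := by
    have : Surjective (s ≫ t) := hs ▸ hsurjφ
    exact Surjective.of_comp s t
  have hqc : QuasiCompact t := by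
    have hhomeo : IsHomeomorph t :=
      (t.isEmbedding.toHomeomorphOfSurjective t.surjective).isHomeomorph
    exact ⟨fun U hU hc ↦ hhomeo.homeomorph.isCompact_preimage.mpr hc⟩
  have hiso : IsIso t := Flat.isIso_of_surjective_of_mono t
  have hg : g = inv t ≫ pullback.fst _ _ ≫ pullback.diagonal f := by
    rw [pullback.condition]; simp [t]
  have e₁ : g₁ = g ≫ pullback.fst f f := (pullback.lift_fst ..).symm
  have e₂ : g₂ = g ≫ pullback.snd f f := (pullback.lift_snd ..).symm
  rw [e₁, e₂, hg]
  simp

end Groth.Agent.S0423
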