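import Groth.Statements.S0426
import Mathlib

set_option autoImplicit false
universe u
open FlatMor

namespace Groth.Agent.S0426

open TensorProduct in
theorem isIdempotentElem_ker_of_flat {A B : Type*} [CommRing A] [CommRing B] (f : A →+* B)
    (hs : Function.Surjective f) (hf : f.Flat) : IsIdempotentElem (RingHom.ker f) := by
  algebraize [f]
  have hf' : Module.Flat A B := hf
  let e : (A ⧸ RingHom.ker (Algebra.ofId A B)) ≃ₐ[A] B :=
    Ideal.quotientKerAlgEquivOfSurjective (f := Algebra.ofId A B) hs
  have hk : RingHom.ker (Algebra.ofId A B) = RingHom.ker f := rfl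
  rw [← hk]
  have : Module.Flat A (A ⧸ RingHom.ker (Algebra.ofId A B)) :=
    Module.Flat.of_linearEquiv e.toLinearEquiv
  exact Ideal.isIdempotentElem_of_pure _

theorem flat_of_comp_field {A L' L : Type*} [CommRing A] [Field L'] [CommRing L] [Nontrivial L]
    (f : A →+* L') (g : L' →+* L) (h : (g.comp f).Flat) : f.Flat := by
  algebraize [f, g, g.comp f]
  have hfl : Module.Flat A L := h
  obtain ⟨r, hr⟩ := LinearMap.exists_leftInverse_of_injective (Algebra.linearMap L' L)
    (LinearMap.ker_eq_bot.mpr (algebraMap L' L).injective)
  show Module.Flat A L'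
  refine Module.Flat.of_retract ((Algebra.linearMap L' L).restrictScalars A)
    (r.restrictScalars A) ?_
  ext x
  exact LinearMap.congr_fun hr x

/-- A field extension L/K such that L is weakly étale over K (equivalently the multiplication map of L
⊗_K L is flat) is algebraic and separable. -/
theorem result {K L : Type u} [Field K] [Field L] [Algebra K L] [Algebra.WeaklyEtale K L] : Algebra.IsSeparable K L := by
  constructor
  intro x
  let L' : IntermediateField K L := IntermediateField.adjoin K {x}
  have hfg : L'.FG := IntermediateField.fg_adjoin_of_finite (Set.finite_singleton x)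
  have : Algebra.EssFiniteType K L' := IntermediateField.essFiniteType_iff.mpr hfg
  have hfl : (Algebra.TensorProduct.lmul' K (S := L')).toRingHom.Flat := by
    apply flat_of_comp_field _ (algebraMap L' L)
    have heq : (algebraMap L' L).comp (Algebra.TensorProduct.lmul' K (S := L')).toRingHom =
        (Algebra.TensorProduct.lmul' K (S := L)).toRingHom.comp
          (Algebra.TensorProduct.map L'.val L'.val).toRingHom := by
      have : (L'.val).comp (Algebra.TensorProduct.lmul' K (S := L')) =
          (Algebra.TensorProduct.lmul' K (S := L)).comp
            (Algebra.TensorProduct.map L'.val L'.val) := by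
        ext <;> simp
      exact congrArg AlgHom.toRingHom this
    rw [heq]
    refine RingHom.Flat.comp ?_ (Algebra.WeaklyEtale.flat_lmul' K L)
    refine RingHom.Flat.tensorProductMap ?_ ?_
    · exact RingHom.Flat.of_isField (Field.toIsField _) _
    · exact RingHom.Flat.of_isField (Field.toIsField _) _
  have hidem := isIdempotentElem_ker_of_flat _
    (fun y => ⟨y ⊗ₜ 1, by simp⟩) hfl
  have : Algebra.FormallyUnramified K L' := by
    refine ⟨?_⟩
    exact (Ideal.cotangent_subsingleton_iff _).mpr hidem
  have hsep := Algebra.FormallyUnramified.isSeparable K L'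
  have hx := Algebra.IsSeparable.isSeparable K (⟨x, IntermediateField.mem_adjoin_simple_self K x⟩ : L')
  have := hx.map (L'.val)
  simpa using this

end Groth.Agent.S0426
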