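import Groth.Statements.S0443
import Mathlib

set_option autoImplicit false
universe u
open FlatMor

namespace Groth.Agent.S0443

theorem finite_localRingHom {R S : Type u} [CommRing R] [CommRing S] (φ : R →+* S) (hφ : φ.Finite)
    (p : Ideal R) [p.IsPrime] (q : Ideal S) [q.IsPrime] (h : p = q.comap φ)
    (hq : ∀ q' : Ideal S, q'.IsPrime → q'.comap φ = p → q' = q) :
    (Localization.localRingHom p q φ h).Finite := by
  algebraize [φ]
  have hlo : q.LiesOver p := ⟨h⟩
  have hprimes : p.primesOver S = {q} := by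
    ext q'
    simp only [Set.mem_singleton_iff]
    constructor
    · rintro ⟨hq'1, hq'2⟩
      exact hq q' hq'1 hq'2.over.symm
    · rintro rfl
      exact ⟨inferInstance, hlo⟩
  letI := Localization.AtPrime.algebraOfLiesOver p q
  have hfin := Localization.finite_of_primesOver_eq_singleton hprimes
  exact hfin

open AlgebraicGeometry CategoryTheory Limits in
/-- For a finite morphism π : X → Y and a point x of X that is the only point of its fibre, the induced
homomorphism of local rings O_{Y,π(x)} → O_{X,x} is finite. (The published lemma has further parts,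
not stated here.) -/
theorem result {X Y : Scheme.{u}} (π : X ⟶ Y) [IsFinite π] (x : X) (hx : ∀ x' : ↑X, π x' = π x → x' = x) :
    (π.stalkMap x).hom.Finite := by
  classical
  obtain ⟨U, hU, hfx, -⟩ := TopologicalSpace.Opens.isBasis_iff_nbhd.mp Y.isBasis_affineOpens
    (TopologicalSpace.Opens.mem_top <| π x)
  have hV : IsAffineOpen (π ⁻¹ᵁ U) := hU.preimage π
  have hxV : x ∈ π ⁻¹ᵁ U := hfx
  rw [RingHom.finite_respectsIso.arrow_mk_iso_iff
    (IsAffineOpen.arrowStalkMapIso π U hU (π ⁻¹ᵁ U) hV le_rfl hxV)]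
  have hφ : (π.appLE U (π ⁻¹ᵁ U) le_rfl).hom.Finite := by
    rw [← Scheme.Hom.app_eq_appLE]
    exact π.finite_app U hU
  have hcomap := IsAffineOpen.comap_primeIdealOf_appLE (f := π) U hU (π ⁻¹ᵁ U) hV le_rfl hxV
  refine finite_localRingHom _ hφ _ _ (congrArg PrimeSpectrum.asIdeal hcomap).symm ?_
  intro q' hq' hq'p
  -- the point of `X` corresponding to `q'`
  let Q' : Spec Γ(X, π ⁻¹ᵁ U) := ⟨q', hq'⟩
  have h1 : π (hV.fromSpec Q') = π x := by
    have := congr($(IsAffineOpen.SpecMap_appLE_fromSpec π hU hV le_rfl) Q')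
    simp only [Scheme.Hom.comp_apply] at this
    rw [← this]
    have h2 : Spec.map (π.appLE U (π ⁻¹ᵁ U) le_rfl) Q' = hU.primeIdealOf ⟨π x, hfx⟩ := by
      apply PrimeSpectrum.ext
      exact hq'p
    rw [h2, hU.fromSpec_primeIdealOf]
  have h3 : hV.fromSpec Q' = x := hx _ h1
  have h4 : hV.fromSpec (hV.primeIdealOf ⟨x, hxV⟩) = x := hV.fromSpec_primeIdealOf ⟨x, hxV⟩
  have h5 : Q' = hV.primeIdealOf ⟨x, hxV⟩ :=
    hV.fromSpec.isOpenEmbedding.injective (h3.trans h4.symm)
  exact congrArg PrimeSpectrum.asIdeal h5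

end Groth.Agent.S0443
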