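import Groth.Statements.S0448
import Mathlib

set_option autoImplicit false
universe u
open FlatMor

namespace Groth.Agent.S0448

open TensorProduct

theorem flat_prod {R M₁ M₂ : Type u} [CommRing R] [AddCommGroup M₁] [Module R M₁]
    [AddCommGroup M₂] [Module R M₂] [Module.Flat R M₁] [Module.Flat R M₂] :
    Module.Flat R (M₁ × M₂) := by
  rw [Module.Flat.iff_rTensor_preserves_injective_linearMap]
  intro N N' _ _ _ _ f hf
  have key : (TensorProduct.prodRight R R N' M₁ M₂).toLinearMap ∘ₗ f.rTensor (M₁ × M₂) =
      (LinearMap.prodMap (f.rTensor M₁) (f.rTensor M₂)) ∘ₗ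
        (TensorProduct.prodRight R R N M₁ M₂).toLinearMap := by
    ext <;> simp
  have h1 : Function.Injective ((LinearMap.prodMap (f.rTensor M₁) (f.rTensor M₂)) ∘ₗ
        (TensorProduct.prodRight R R N M₁ M₂).toLinearMap) := by
    rw [LinearMap.coe_comp]
    refine Function.Injective.comp ?_ (LinearEquiv.injective _)
    rw [LinearMap.coe_prodMap]
    exact Function.Injective.prodMap
      (Module.Flat.rTensor_preserves_injective_linearMap f hf)
      (Module.Flat.rTensor_preserves_injective_linearMap f hf)
  rw [← key] at h1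
  exact Function.Injective.of_comp h1


/-- free case -/
theorem rTensor_injective_of_basis {R : Type u} [CommRing R] [IsLocalRing R]
    {F N : Type u} [AddCommGroup F] [Module R F] [AddCommGroup N] [Module R N] [Module.Flat R N]
    {ι : Type u} (ℬ : Module.Basis ι R F) (u : F →ₗ[R] N)
    (h : Function.Injective (LinearMap.lTensor (IsLocalRing.ResidueField R) u))
    (Q : Type u) [AddCommGroup Q] [Module R Q] : Function.Injective (LinearMap.rTensor Q u) := by
  classical
  rw [injective_iff_map_eq_zero]
  intro x hx
  obtain ⟨c, rfl⟩ := TensorProduct.eq_repr_basis_left ℬ x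
  let s := c.support
  -- the relation in `Q ⊗ N`
  have hrel : ∑ i : s, (c i) ⊗ₜ[R] u (ℬ i) = (0 : Q ⊗[R] N) := by
    have := congrArg (TensorProduct.comm R N Q) hx
    simp only [Finsupp.sum, map_sum, LinearMap.rTensor_tmul, TensorProduct.comm_tmul,
      map_zero] at this
    rw [← this]
    exact (Finset.sum_coe_sort s (fun i => c i ⊗ₜ[R] u (ℬ i)))
  have hinj : Function.Injective (LinearMap.rTensor N
      (Submodule.span R (Set.range (fun i : s => c i))).subtype) :=
    Module.Flat.rTensor_preserves_injective_linearMap _ Subtype.val_injective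
  obtain ⟨k, a, z, hz, ha⟩ :=
    TensorProduct.vanishesTrivially_of_sum_tmul_eq_zero_of_rTensor_injective R hinj hrel
  replace hz : ∀ i : s, u (ℬ i) = ∑ j, a i j • z j := hz
  replace ha : ∀ j, ∑ i : s, a i j • c i = 0 := ha
  let A : (s → R) →ₗ[R] (Fin k → R) := Fintype.linearCombination R (fun i : s => a i)
  let Z : (Fin k → R) →ₗ[R] N := Fintype.linearCombination R z
  let J : (s → R) →ₗ[R] F := Fintype.linearCombination R (fun i : s => ℬ i)
  let r : F →ₗ[R] (s → R) := LinearMap.pi (fun i : s => ℬ.coord i)
  have hrJ : r ∘ₗ J = LinearMap.id := by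
    apply LinearMap.pi_ext'
    intro i
    ext j
    simp only [LinearMap.coe_comp, LinearMap.coe_single, Function.comp_apply, LinearMap.id_coe,
      id_eq, r, J, LinearMap.pi_apply, Fintype.linearCombination_apply_single, one_smul,
      Module.Basis.coord_apply, Module.Basis.repr_self]
    rw [Finsupp.single_apply, Pi.single_apply]
    simp only [Subtype.ext_iff]
    simp [eq_comm]
  have huJ : u ∘ₗ J = Z ∘ₗ A := by
    apply LinearMap.pi_ext'
    intro i
    ext
    simp only [LinearMap.coe_comp, LinearMap.coe_single, Function.comp_apply, J, A, Z,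
      Fintype.linearCombination_apply_single, one_smul]
    rw [hz i, Fintype.linearCombination_apply]
  have hJinj : Function.Injective (LinearMap.lTensor (IsLocalRing.ResidueField R) J) := by
    have : (LinearMap.lTensor (IsLocalRing.ResidueField R) r) ∘ₗ
        (LinearMap.lTensor (IsLocalRing.ResidueField R) J) = LinearMap.id := by
      rw [← LinearMap.lTensor_comp, hrJ, LinearMap.lTensor_id]
    exact Function.HasLeftInverse.injective ⟨_, LinearMap.congr_fun this⟩
  have hAinj : Function.Injective (LinearMap.lTensor (IsLocalRing.ResidueField R) A) := by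
    have h1 : Function.Injective (LinearMap.lTensor (IsLocalRing.ResidueField R) (u ∘ₗ J)) := by
      rw [LinearMap.lTensor_comp]
      exact h.comp hJinj
    rw [huJ, LinearMap.lTensor_comp] at h1
    exact Function.Injective.of_comp h1
  obtain ⟨C, hC⟩ := (IsLocalRing.split_injective_iff_lTensor_residueField_injective A).mpr hAinj
  let x₀ : (s → R) ⊗[R] Q := ∑ i : s, (Pi.single i (1 : R)) ⊗ₜ[R] c i
  have hx₀ : LinearMap.rTensor Q J x₀ = c.sum (fun i n => ℬ i ⊗ₜ[R] n) := by
    simp only [x₀, map_sum, LinearMap.rTensor_tmul, J, Fintype.linearCombination_apply_single,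
      one_smul, Finsupp.sum]
    exact (Finset.sum_coe_sort s (fun i => ℬ i ⊗ₜ[R] c i))
  have hAx₀ : LinearMap.rTensor Q A x₀ = 0 := by
    simp only [x₀, map_sum, LinearMap.rTensor_tmul, A, Fintype.linearCombination_apply_single,
      one_smul]
    have key : ∀ i : s, (a i : Fin k → R) ⊗ₜ[R] c i =
        ∑ j, (Pi.single j (1 : R) : Fin k → R) ⊗ₜ[R] (a i j • c i) := by
      intro i
      have h1 : (a i : Fin k → R) = ∑ j, a i j • (Pi.single j (1 : R) : Fin k → R) := by
        ext j'
        simp [Pi.single_apply]
      conv_lhs => rw [h1]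
      rw [TensorProduct.sum_tmul]
      refine Finset.sum_congr rfl (fun j _ => ?_)
      rw [TensorProduct.smul_tmul]
    rw [Finset.sum_congr rfl (fun i _ => key i), Finset.sum_comm]
    refine Finset.sum_eq_zero (fun j _ => ?_)
    rw [← TensorProduct.tmul_sum, ha, TensorProduct.tmul_zero]
  have hx₀0 : x₀ = 0 := by
    have : LinearMap.rTensor Q (C ∘ₗ A) x₀ = x₀ := by
      rw [hC, LinearMap.rTensor_id]; rfl
    rw [← this, LinearMap.rTensor_comp, LinearMap.comp_apply, hAx₀, map_zero]
  rw [← hx₀, hx₀0, map_zero]

open TensorProduct in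
/-- Over a local ring, a linear map from a projective module to a flat module which is injective modulo
the maximal ideal is universally injective (injective after tensoring with any module). -/
theorem result {R M N : Type u} [CommRing R] [IsLocalRing R] [AddCommGroup M] [Module R M] [Module.Projective R M]
    [AddCommGroup N] [Module R N] [Module.Flat R N] (u : M →ₗ[R] N)
    (h : Function.Injective (LinearMap.lTensor (IsLocalRing.ResidueField R) u)) :
    ∀ (Q : Type u) [AddCommGroup Q] [Module R Q], Function.Injective (LinearMap.rTensor Q u) := by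
  intro Q _ _
  -- reduce to the free case
  obtain ⟨s, hs⟩ := Module.projective_def'.mp (inferInstance : Module.Projective R M)
  let p : (M →₀ R) →ₗ[R] M := Finsupp.linearCombination R id
  have hps : p ∘ₗ s = LinearMap.id := hs
  let u' : (M →₀ R) →ₗ[R] N × (M →₀ R) := LinearMap.prod (u ∘ₗ p) (LinearMap.id - s ∘ₗ p)
  have hu's : u' ∘ₗ s = LinearMap.inl R N (M →₀ R) ∘ₗ u := by
    apply LinearMap.ext
    intro m
    have h1 : p (s m) = m := LinearMap.congr_fun hps m
    simp [u', h1]
  have hu'inj : Function.Injective (LinearMap.lTensor (IsLocalRing.ResidueField R) u') := by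
    rw [injective_iff_map_eq_zero]
    intro ξ hξ
    have h1 := congrArg (LinearMap.lTensor (IsLocalRing.ResidueField R) (LinearMap.fst R N (M →₀ R))) hξ
    have h2 := congrArg (LinearMap.lTensor (IsLocalRing.ResidueField R) (LinearMap.snd R N (M →₀ R))) hξ
    rw [← LinearMap.comp_apply, ← LinearMap.lTensor_comp, map_zero] at h1 h2
    have e1 : LinearMap.fst R N (M →₀ R) ∘ₗ u' = u ∘ₗ p := by
      ext; simp [u']
    have e2 : LinearMap.snd R N (M →₀ R) ∘ₗ u' = LinearMap.id - s ∘ₗ p := by
      ext; simp [u']
    rw [e1, LinearMap.lTensor_comp, LinearMap.comp_apply] at h1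
    have h3 := h (h1.trans (map_zero _).symm)
    rw [e2, LinearMap.lTensor_sub, LinearMap.sub_apply, LinearMap.lTensor_id, LinearMap.id_apply,
      LinearMap.lTensor_comp, LinearMap.comp_apply, h3, map_zero, sub_zero] at h2
    exact h2
  have : Module.Flat R (N × (M →₀ R)) := flat_prod
  have hu'Q := rTensor_injective_of_basis (Finsupp.basisSingleOne (R := R) (ι := M)) u' hu'inj Q
  rw [injective_iff_map_eq_zero]
  intro x hx
  have h1 : LinearMap.rTensor Q u' (LinearMap.rTensor Q s x) = 0 := by
    rw [← LinearMap.comp_apply, ← LinearMap.rTensor_comp, hu's, LinearMap.rTensor_comp,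
      LinearMap.comp_apply, hx, map_zero]
  have h2 : LinearMap.rTensor Q s x = 0 := hu'Q (h1.trans (map_zero _).symm)
  have h3 : LinearMap.rTensor Q p (LinearMap.rTensor Q s x) = x := by
    rw [← LinearMap.comp_apply, ← LinearMap.rTensor_comp, hps, LinearMap.rTensor_id]; rfl
  rw [← h3, h2, map_zero]

end Groth.Agent.S0448
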