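import Groth.Statements.S0471
import Groth.Agent.Lib.CohTopGodement
import Groth.Agent.Lib.CohTopClosedEmb

set_option autoImplicit false
universe u
open CategoryTheory
open CohTop

namespace Groth.Agent.S0471

open CategoryTheory Limits Opposite TopologicalSpace Abelian TopCat.Presheaf
open Groth.Agent.CohTopBasics

/-- gluing two sections over disjoint opens. -/
lemma glue_disjoint {X : TopCat.{u}} (G : CohTop.Ab X) (U₁ U₂ : Opens X) (hd : U₁ ⊓ U₂ = ⊥)
    (t₁ : G.obj.obj (op U₁)) (t₂ : G.obj.obj (op U₂)) :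
    ∃ t : G.obj.obj (op (U₁ ⊔ U₂)),
      G.obj.map (homOfLE (le_sup_left : U₁ ≤ U₁ ⊔ U₂)).op t = t₁ ∧
      G.obj.map (homOfLE (le_sup_right : U₂ ≤ U₁ ⊔ U₂)).op t = t₂ := by
  have hd' : U₂ ⊓ U₁ = ⊥ := by rw [inf_comm]; exact hd
  let f : Fin 2 → Opens X := ![U₁, U₂]
  let sf : (k : Fin 2) → G.obj.obj (op (f k))
    | 0 => t₁
    | 1 => t₂
  have hcompat : IsCompatible G.obj f sf := by
    simp only [IsCompatible, Fin.forall_fin_two]
    refine ⟨⟨rfl, ?_⟩, ?_, rfl⟩
    · exact Subsingleton.elim (h := subsingleton_of_eq_bot G hd) _ _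
    · exact Subsingleton.elim (h := subsingleton_of_eq_bot G hd') _ _
  have hcover : U₁ ⊔ U₂ ≤ iSup f := by
    rintro x (hx | hx)
    · exact Opens.mem_iSup.mpr ⟨0, hx⟩
    · exact Opens.mem_iSup.mpr ⟨1, hx⟩
  obtain ⟨t, ht, -⟩ := TopCat.Sheaf.existsUnique_gluing' G f (U₁ ⊔ U₂)
    (fun k => match k with
      | 0 => homOfLE le_sup_left
      | 1 => homOfLE le_sup_right) hcover sf hcompat
  exact ⟨t, ht 0, ht 1⟩


/-- naturality of a sheaf morphism with respect to restriction, elementwise. -/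
lemma app_res {X : TopCat.{u}} {G H : CohTop.Ab X} (φ : G ⟶ H) {U V : Opens X} (h : V ≤ U)
    (t : G.obj.obj (op U)) :
    φ.hom.app (op V) (G.obj.map (homOfLE h).op t) = H.obj.map (homOfLE h).op (φ.hom.app (op U) t) := by
  have := φ.hom.naturality (homOfLE h).op
  exact congrArg (fun m => m.hom t) this

lemma res_res {X : TopCat.{u}} (H : CohTop.Ab X) {U V W : Opens X} (h : V ≤ U) (h' : W ≤ V)
    (s : H.obj.obj (op U)) :
    H.obj.map (homOfLE h').op (H.obj.map (homOfLE h).op s) = H.obj.map (homOfLE (h'.trans h)).op s := by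
  rw [← ConcreteCategory.comp_apply, ← H.obj.map_comp]
  rfl

/-- on a profinite space, epimorphisms of abelian sheaves are surjective on global sections. -/
lemma exists_global_lift {X : TopCat.{u}} [CompactSpace X] [T2Space X] [TotallyDisconnectedSpace X]
    {G H : CohTop.Ab X} (φ : G ⟶ H) [Epi φ] (s : H.obj.obj (op ⊤)) :
    ∃ t : G.obj.obj (op ⊤), φ.hom.app (op ⊤) t = s := by
  classical
  -- local clopen lifts
  have hloc : ∀ x : X, ∃ (W : Opens X) (t : G.obj.obj (op W)), x ∈ W ∧ IsClosed (W : Set X) ∧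
      φ.hom.app (op W) t = H.obj.map (homOfLE (le_top : W ≤ ⊤)).op s := by
    intro x
    obtain ⟨V, h, t, hxV, ht⟩ := exists_local_lift φ ⊤ s x trivial
    obtain ⟨W, hW, hxW, hWV⟩ := isTopologicalBasis_isClopen.exists_subset_of_mem_open hxV V.isOpen
    refine ⟨⟨W, hW.isOpen⟩, G.obj.map (homOfLE (show (⟨W, hW.isOpen⟩ : Opens X) ≤ V from hWV)).op t,
      hxW, hW.isClosed, ?_⟩
    rw [app_res, ht, res_res]
  choose W tx hxW hWc htx using hloc
  -- induction over finite subfamilies
  have key : ∀ T : Finset X, ∃ (A : Opens X), IsClosed (A : Set X) ∧ (∀ x ∈ T, W x ≤ A) ∧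
      ∃ t : G.obj.obj (op A), φ.hom.app (op A) t = H.obj.map (homOfLE (le_top : A ≤ ⊤)).op s := by
    intro T
    induction T using Finset.induction_on with
    | empty =>
      refine ⟨⊥, by simp, by simp, 0, ?_⟩
      exact Subsingleton.elim (h := subsingleton_of_eq_bot H rfl) _ _
    | insert x T hxT ih =>
      obtain ⟨A, hAc, hTA, t, ht⟩ := ih
      let B : Opens X := ⟨(W x : Set X) ∩ (A : Set X)ᶜ, (W x).isOpen.inter hAc.isOpen_compl⟩
      have hBW : B ≤ W x := fun y hy => hy.1
      have hAB : A ⊓ B = ⊥ := by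
        ext y
        simp only [B, Opens.coe_inf, Opens.coe_mk, Set.mem_inter_iff, Set.mem_compl_iff,
          Opens.coe_bot, Set.mem_empty_iff_false, iff_false]
        tauto
      obtain ⟨t', h1, h2⟩ := glue_disjoint G A B hAB t (G.obj.map (homOfLE hBW).op (tx x))
      refine ⟨A ⊔ B, ?_, ?_, t', ?_⟩
      · have : ((A ⊔ B : Opens X) : Set X) = (A : Set X) ∪ (W x : Set X) := by
          ext y
          simp only [B, Opens.coe_sup, Opens.coe_mk, Set.mem_union, Set.mem_inter_iff,
            Set.mem_compl_iff]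
          tauto
        rw [this]
        exact hAc.union (hWc x)
      · intro y hy
        rcases Finset.mem_insert.mp hy with rfl | hy
        · intro z hz
          by_cases hzA : z ∈ A
          · exact Or.inl hzA
          · exact Or.inr ⟨hz, hzA⟩
        · exact (hTA y hy).trans le_sup_left
      · refine TopCat.Sheaf.eq_of_locally_eq₂ H (homOfLE le_sup_left) (homOfLE le_sup_right)
          le_rfl _ _ ?_ ?_
        · rw [← app_res, h1, ht, res_res]
        · rw [← app_res, h2, app_res, htx, res_res, res_res]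
  obtain ⟨T, hT⟩ := isCompact_univ.elim_finite_subcover (fun x => (W x : Set X))
    (fun x => (W x).isOpen) (fun x _ => Set.mem_iUnion.mpr ⟨x, hxW x⟩)
  obtain ⟨A, -, hTA, t, ht⟩ := key T
  have hA : A = ⊤ := by
    rw [eq_top_iff]
    intro y _
    obtain ⟨x, hx⟩ := Set.mem_iUnion.mp (hT (Set.mem_univ y))
    obtain ⟨hxT, hy⟩ := Set.mem_iUnion.mp hx
    exact hTA x hxT hy
  subst hA
  refine ⟨t, ?_⟩
  rw [ht]
  have : (homOfLE (le_top : (⊤ : Opens X) ≤ ⊤)).op = 𝟙 _ := rfl
  rw [this, H.obj.map_id]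
  rfl

/-- If X is profinite (compact, Hausdorff, totally disconnected), then H^(p+1)(X, F) = 0 for every
abelian sheaf F. -/
theorem result {X : TopCat.{u}} [CompactSpace X] [T2Space X] [TotallyDisconnectedSpace X]
    (F : CohTop.Ab X) (p : ℕ) : Subsingleton (CohTop.H F (p + 1)) := by
  have hproj : Projective (constZ X) := by
    refine ⟨fun {E H} f e he => ?_⟩
    obtain ⟨t, ht⟩ := exists_global_lift e (constEquiv H f)
    refine ⟨(constEquiv E).symm t, ?_⟩
    apply (constEquiv H).injective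
    rw [constEquiv_comp, Equiv.apply_symm_apply, ht]
  exact subsingleton_of_forall_eq 0
    (fun (x : Ext (constZ X) F (p + 1)) => Ext.eq_zero_of_projective x)

end Groth.Agent.S0471
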