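import Groth.Statements.S0480
import Mathlib

set_option autoImplicit false
universe v u
open CategoryTheory
open CohDer

namespace Groth.Agent.S0480

open CategoryTheory.Limits in
/-- In an abelian category, if the product of a family of K-injective cochain complexes exists (it is
then the termwise product), it is again K-injective. -/
theorem result {A : Type u} [Category.{v} A] [Abelian A] {T : Type v} (I : T → CochainComplex A ℤ)
    [HasProduct I] (h : ∀ t, (I t).IsKInjective) : (∏ᶜ I).IsKInjective := by
  open CochainComplex HomComplex in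
  constructor
  intro K f hK
  -- each component is null-homotopic
  have hcomp : ∀ t, Nonempty (Homotopy (f ≫ Pi.π I t) 0) := fun t =>
    (h t).nonempty_homotopy_zero _ hK
  -- build maps from the cone of the identity
  let α : ∀ t, Cochain K (I t) (-1) := fun t => Cochain.ofHomotopy (hcomp t).some
  have hα : ∀ t, δ (-1) 0 (α t) = Cochain.ofHom (𝟙 K ≫ (f ≫ Pi.π I t)) := by
    intro t
    have := ((Cochain.equivHomotopy _ _) (hcomp t).some).2
    simp only [Cochain.equivHomotopy_apply_coe, Cochain.ofHom_zero, add_zero] at this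
    rw [Category.id_comp]
    exact this.symm
  let g : ∀ t, mappingCone (𝟙 K) ⟶ I t := fun t =>
    mappingCone.desc (𝟙 K) (α t) (f ≫ Pi.π I t) (hα t)
  let G : mappingCone (𝟙 K) ⟶ ∏ᶜ I := Pi.lift g
  have hG : mappingCone.inr (𝟙 K) ≫ G = f := by
    apply Pi.hom_ext
    intro t
    simp only [G, Category.assoc, Pi.lift_π, g, mappingCone.inr_desc]
  -- the homotopy
  let β : Cochain K (∏ᶜ I) (-1) := (mappingCone.inl (𝟙 K)).comp (Cochain.ofHom G) (add_zero _)
  have hβ : Cochain.ofHom f = δ (-1) 0 β + Cochain.ofHom (0 : K ⟶ ∏ᶜ I) := by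
    simp only [β, δ_comp_ofHom, mappingCone.δ_inl, Category.id_comp, Cochain.ofHom_zero, add_zero,
      ← Cochain.ofHom_comp, hG]
  exact ⟨(Cochain.equivHomotopy f 0).symm ⟨β, hβ⟩⟩

end Groth.Agent.S0480
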