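import Groth.Statements.S0481

set_option autoImplicit false
universe v u
open CategoryTheory
open CohDer

namespace Groth.Agent.S0481

open CategoryTheory.Limits in
/-- Let u : A ⥤ B be right adjoint to an exact additive functor w : B ⥤ A between abelian categories.
Then u applied termwise sends K-injective complexes to K-injective complexes. -/
theorem result {A : Type u} [Category.{v} A] [Abelian A]
    {B : Type u} [Category.{v} B] [Abelian B] (u : A ⥤ B) (w : B ⥤ A) (adj : w ⊣ u)
    [u.Additive] [w.Additive] [PreservesFiniteLimits w] [PreservesFiniteColimits w]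
    (I : CochainComplex A ℤ) (h : I.IsKInjective) :
    CochainComplex.IsKInjective ((u.mapHomologicalComplex (ComplexShape.up ℤ)).obj I) := by
  classical
  constructor
  intro K f hK
  -- adjoint map
  let KW : CochainComplex A ℤ := (w.mapHomologicalComplex (ComplexShape.up ℤ)).obj K
  have hKW : KW.Acyclic := by
    intro n
    exact (hK n).map w
  obtain ⟨g, hg, hgf⟩ : ∃ g : ∀ n, K.X n ⟶ u.obj (I.X n),
      (∀ i j, g i ≫ u.map (I.d i j) = K.d i j ≫ g j) ∧ ∀ n, f.f n = g n :=
    ⟨fun n => f.f n, fun i j => f.comm i j, fun n => rfl⟩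
  let f' : KW ⟶ I :=
    { f := fun n => (adj.homEquiv (K.X n) (I.X n)).symm (g n)
      comm' := by
        intro i j _
        change (adj.homEquiv (K.X i) (I.X i)).symm (g i) ≫ I.d i j =
          w.map (K.d i j) ≫ (adj.homEquiv (K.X j) (I.X j)).symm (g j)
        rw [← Adjunction.homEquiv_naturality_right_symm, ← Adjunction.homEquiv_naturality_left_symm,
          hg] }
  let η : K ⟶ (u.mapHomologicalComplex (ComplexShape.up ℤ)).obj KW :=
    { f := fun n => adj.unit.app (K.X n)
      comm' := by
        intro i j _
        exact (adj.unit_naturality (K.d i j)) }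
  have hf : f = η ≫ (u.mapHomologicalComplex (ComplexShape.up ℤ)).map f' := by
    ext n
    rw [hgf]
    have : g n = adj.unit.app (K.X n) ≫ u.map ((adj.homEquiv (K.X n) (I.X n)).symm (g n)) := by
      have h2 := Adjunction.homEquiv_unit adj (K.X n) (I.X n) ((adj.homEquiv (K.X n) (I.X n)).symm (g n))
      rw [Equiv.apply_symm_apply] at h2
      exact h2
    exact this
  obtain ⟨h0⟩ := h.nonempty_homotopy_zero f' hKW
  have h1 := (Functor.mapHomotopy u h0).compLeft η
  refine ⟨(Homotopy.ofEq hf).trans (h1.trans (Homotopy.ofEq ?_))⟩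
  simp

end Groth.Agent.S0481
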