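import Groth.Statements.S0494
import Groth.Agent.Lib.AcyclicCx
import Groth.Agent.Lib.CohTopClosedEmb
import Groth.Agent.Lib.CohTopAcyclic

set_option autoImplicit false
universe u
open CohTop

namespace Groth.Agent.S0494

open CategoryTheory Limits Opposite TopologicalSpace Abelian
open Groth.Agent.CohTopBasics Groth.Agent.AcyclicCx

/-- post-composition with an isomorphism, additively. -/
noncomputable def homAddEquivOfIso {C : Type*} [Category C] [Preadditive C] (B : C) {M M' : C}
    (e : M ≅ M') : (B ⟶ M) ≃+ (B ⟶ M') where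
  toFun g := g ≫ e.hom
  invFun g := g ≫ e.inv
  left_inv g := by simp
  right_inv g := by simp
  map_add' g g' := Preadditive.add_comp _ _ _ _ _ _

/-- `Hom(ℤ_Y, M) ≃+ Γ(Y, M)`. -/
noncomputable def constAddEquiv {Y : TopCat.{u}} (M : CohTop.Ab Y) :
    (constZ Y ⟶ M) ≃+ M.obj.obj (op (⊤ : Opens Y)) :=
  (Ext.addEquiv₀.symm).trans (Sheaf.H.equiv₀ M isTerminalTop)

open Opposite in
/-- If H^p(Y, R^q f_* F) = 0 for all q and all p > 0, then H^q(X, F) ≅ Γ(Y, R^q f_* F) for every q
(existence of a group isomorphism). -/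
theorem result {X Y : TopCat.{u}} (f : X ⟶ Y) (F : CohTop.Ab X)
    (h : ∀ p q : ℕ, Subsingleton (CohTop.H ((CohTop.Rpush f q).obj F) (p + 1))) (q : ℕ) :
    Nonempty (CohTop.H F q ≃+ ((CohTop.Rpush f q).obj F).obj.obj (op ⊤)) := by
  let R : InjectiveResolution F := InjectiveResolution.of F
  have := push_preservesFiniteLimits f
  let K : CochainComplex (CohTop.Ab Y) ℕ :=
    ((CohTop.push f).mapHomologicalComplex _).obj R.cocomplex
  have hacyc : ∀ q, IsAcyclic (constZ Y) ((CohTop.Rpush f q).obj F) :=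
    fun q m x => Subsingleton.elim (h := h m q) _ _
  cases q with
  | zero =>
    exact ⟨(Ext.addEquiv₀ (X := constZ X) (Y := F)).trans
      ((Groth.Agent.ExtCompare.θAdd (CohTop.push f) (constZ X) (constZ Y) (θPush f)
        (θPush_comp f) F).trans
      ((homAddEquivOfIso (constZ Y) ((CohTop.push f).rightDerivedZeroIsoSelf.app F).symm).trans
        (constAddEquiv _)))⟩
  | succ q =>
    have hK : ∀ n, IsAcyclic (constZ Y) (K.X n) := fun n => by
      have : Injective (K.X n) := push_injective f (R.cocomplex.X n)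
      exact isAcyclic_of_injective _ _
    have hW0 : IsAcyclic (constZ Y) (W K 0) := by
      have e1 : W K 0 ≅ (CohTop.push f).obj F :=
        IsLimit.conePointUniqueUpToIso (kernelIsKernel (K.d 0 1))
          (R.kernelFork.mapIsLimit R.isLimitKernelFork (CohTop.push f))
      exact isAcyclic_of_iso (((CohTop.push f).rightDerivedZeroIsoSelf.app F) ≪≫ e1.symm) (hacyc 0)
    have eH : ∀ q, cokernel (toW K q) ≅ (CohTop.Rpush f (q + 1)).obj F := fun q =>
      (ShortComplex.LeftHomologyData.ofHasKernelOfHasCokernel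
        (K.sc' q (q + 1) (q + 1 + 1))).homologyIso.symm ≪≫
      (K.homologyIsoSc' q (q + 1) (q + 1 + 1) (by simp) (by simp)).symm ≪≫
      (R.isoRightDerivedObj (CohTop.push f) (q + 1)).symm
    have hH : ∀ q, IsAcyclic (constZ Y) (cokernel (toW K q)) := fun q =>
      isAcyclic_of_iso (eH q).symm (hacyc (q + 1))
    obtain ⟨e⟩ := nonempty_ext_addEquiv (B := constZ Y) (A := constZ X) R K
      (fun n => Groth.Agent.ExtCompare.θAdd (CohTop.push f) (constZ X) (constZ Y) (θPush f)
        (θPush_comp f) (R.cocomplex.X n))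
      (fun n g => θPush_comp f g _) hK hW0 hH q
    exact ⟨e.trans ((homAddEquivOfIso (constZ Y) (eH q)).trans (constAddEquiv _))⟩

end Groth.Agent.S0494
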