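import Groth.Statements.S0527
import Mathlib.Dynamics.Newton

set_option autoImplicit false
universe u
open Hensel

namespace Groth.Agent.S0527

/-- A ring is Henselian at any locally nilpotent ideal, i.e. an ideal all of whose elements are
nilpotent. -/
theorem result (A : Type u) [CommRing A] (I : Ideal A) (hI : ∀ x ∈ I, IsNilpotent x) :
    HenselianRing A I := by
  have hjac : I ≤ Ideal.jacobson ⊥ := fun x hx =>
    Ideal.radical_le_jacobson (by
      obtain ⟨n, hn⟩ := hI x hx
      exact ⟨n, by simp [hn]⟩)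
  refine ⟨hjac, ?_⟩
  intro f hf a₀ h₁ h₂
  have hloc := isLocalHom_of_le_jacobson_bot I hjac
  have hu : IsUnit (f.derivative.eval a₀) := hloc.map_nonunit _ h₂
  obtain ⟨r, ⟨hr1, hr2⟩, -⟩ := Polynomial.existsUnique_nilpotent_sub_and_aeval_eq_zero
    (P := f) (x := a₀) (by simpa using hI _ h₁) (by simpa using hu)
  have hr2' : f.eval r = 0 := by simpa using hr2
  refine ⟨r, hr2', ?_⟩
  obtain ⟨k, hk⟩ := Polynomial.binomExpansion f r (a₀ - r)
  have hur : IsUnit (f.derivative.eval r) := by
    have hr1' : IsNilpotent (r - a₀) := by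
      have : r - a₀ = -(a₀ - r) := by ring
      rw [this]; exact hr1.neg
    have := Polynomial.isUnit_aeval_of_isUnit_aeval_of_isNilpotent_sub (P := Polynomial.derivative f)
      (a := r) (b := a₀) (by simpa using hu) hr1'
    simpa using this
  have hnil : IsNilpotent (k * (a₀ - r)) := (Commute.all _ _).isNilpotent_mul_left hr1
  have hunit : IsUnit (f.derivative.eval r + k * (a₀ - r)) :=
    IsNilpotent.isUnit_add_left_of_commute hnil hur (Commute.all _ _)
  have heq : f.eval a₀ = (a₀ - r) * (f.derivative.eval r + k * (a₀ - r)) := by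
    have : r + (a₀ - r) = a₀ := by ring
    rw [this, hr2'] at hk
    rw [hk]; ring
  obtain ⟨u, hu'⟩ := hunit
  have : a₀ - r = f.eval a₀ * ↑u⁻¹ := by
    rw [heq, ← hu', mul_assoc, Units.mul_inv, mul_one]
  have hmem : a₀ - r ∈ I := by
    rw [this]; exact I.mul_mem_right _ h₁
  have : r - a₀ = -(a₀ - r) := by ring
  rw [this]; exact I.neg_mem hmem

end Groth.Agent.S0527
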