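import Groth.Statements.S0496
import Mathlib

set_option autoImplicit false
universe u
open Hensel

namespace Groth.Agent.S0496

/-- If every factorization of the reduction of a monic polynomial into two coprime factors over the
residue field lifts to a factorization over the local ring, then the local ring is henselian. -/
theorem result (R : Type u) [CommRing R] [IsLocalRing R]
    (h : ∀ f : Polynomial R, f.Monic →
      ∀ g₀ h₀ : Polynomial (IsLocalRing.ResidueField R), IsCoprime g₀ h₀ →
      Polynomial.map (IsLocalRing.residue R) f = g₀ * h₀ →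
      ∃ g h : Polynomial R, f = g * h ∧ Polynomial.map (IsLocalRing.residue R) g = g₀ ∧
        Polynomial.map (IsLocalRing.residue R) h = h₀) :
    HenselianLocalRing R := by
  classical
  refine { ‹IsLocalRing R› with is_henselian := ?_ }
  intro f hfm a₀ h₁ h₂
  have hres : ∀ (p : Polynomial R) (x : R),
      (p.map (IsLocalRing.residue R)).eval (IsLocalRing.residue R x) =
        IsLocalRing.residue R (p.eval x) := by
    intro p x
    rw [Polynomial.eval_map, Polynomial.eval₂_hom]
  have hroot : (f.map (IsLocalRing.residue R)).IsRoot (IsLocalRing.residue R a₀) := by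
    rw [Polynomial.IsRoot, hres]
    exact (IsLocalRing.residue_eq_zero_iff _).mpr h₁
  obtain ⟨h₀, hh₀⟩ := Polynomial.dvd_iff_isRoot.mpr hroot
  have hder : (Polynomial.derivative (f.map (IsLocalRing.residue R))).eval
      (IsLocalRing.residue R a₀) = h₀.eval (IsLocalRing.residue R a₀) := by
    rw [hh₀, Polynomial.derivative_mul]
    simp
  have hder' : h₀.eval (IsLocalRing.residue R a₀) ≠ 0 := by
    rw [← hder, Polynomial.derivative_map, hres]
    intro h0
    rw [IsLocalRing.residue_eq_zero_iff] at h0
    exact (IsLocalRing.mem_maximalIdeal _).mp h0 h₂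
  have hcop : IsCoprime (Polynomial.X - Polynomial.C (IsLocalRing.residue R a₀)) h₀ := by
    rw [(Polynomial.irreducible_X_sub_C _).coprime_iff_not_dvd, Polynomial.dvd_iff_isRoot]
    exact hder'
  obtain ⟨g, h', hfgh, hg, hh'⟩ := h f hfm _ h₀ hcop hh₀
  -- the module R[X]/(g)
  have hgf : g ∣ f := ⟨h', hfgh⟩
  haveI : Module.Finite R (AdjoinRoot f) := hfm.finite_adjoinRoot
  have hsurj : Function.Surjective (AdjoinRoot.algHomOfDvd R f g hgf) := by
    intro y
    obtain ⟨p, rfl⟩ := AdjoinRoot.mk_surjective y
    refine ⟨AdjoinRoot.mk f p, ?_⟩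
    rw [AdjoinRoot.coe_algHomOfDvd]
    simp only [AdjoinRoot.liftAlgHom_mk]
    rw [← AdjoinRoot.aeval_eq]
    rfl
  haveI : Module.Finite R (AdjoinRoot g) :=
    Module.Finite.of_surjective (AdjoinRoot.algHomOfDvd R f g hgf).toLinearMap hsurj
  have hjac : IsLocalRing.maximalIdeal R ≤ Ideal.jacobson ⊥ :=
    IsLocalRing.maximalIdeal_le_jacobson ⊥
  have hmemm : ∀ r : Polynomial R, r.map (IsLocalRing.residue R) = 0 →
      AdjoinRoot.mk g r ∈ IsLocalRing.maximalIdeal R • (⊤ : Submodule R (AdjoinRoot g)) := by
    intro r hr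
    have hcoeff : ∀ i, r.coeff i ∈ IsLocalRing.maximalIdeal R := by
      intro i
      have := congrArg (fun p => Polynomial.coeff p i) hr
      simp only [Polynomial.coeff_map, Polynomial.coeff_zero] at this
      exact (IsLocalRing.residue_eq_zero_iff _).mp this
    rw [r.as_sum_support_C_mul_X_pow, map_sum]
    refine Submodule.sum_mem _ (fun i _ => ?_)
    have : AdjoinRoot.mk g (Polynomial.C (r.coeff i) * Polynomial.X ^ i) =
        r.coeff i • AdjoinRoot.mk g (Polynomial.X ^ i) := by
      rw [map_mul, Algebra.smul_def]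
      rfl
    rw [this]
    exact Submodule.smul_mem_smul (hcoeff i) Submodule.mem_top
  have hNak : (⊤ : Submodule R (AdjoinRoot g)) ≤ Submodule.span R {(1 : AdjoinRoot g)} := by
    apply Submodule.le_of_le_smul_of_le_jacobson_bot (Module.Finite.fg_top) hjac
    intro y _
    obtain ⟨p, rfl⟩ := AdjoinRoot.mk_surjective y
    obtain ⟨q, hq⟩ := Polynomial.map_surjective (IsLocalRing.residue R)
      IsLocalRing.residue_surjective
      ((p.map (IsLocalRing.residue R)) /ₘ (Polynomial.X - Polynomial.C (IsLocalRing.residue R a₀)))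
    have hdecomp : p = (p - g * q - Polynomial.C (p.eval a₀)) + g * q +
        Polynomial.C (p.eval a₀) := by ring
    have hr0 : (p - g * q - Polynomial.C (p.eval a₀)).map (IsLocalRing.residue R) = 0 := by
      rw [Polynomial.map_sub, Polynomial.map_sub, Polynomial.map_mul, hg, hq, Polynomial.map_C,
        ← hres]
      have h1 := Polynomial.modByMonic_add_div (p.map (IsLocalRing.residue R))
        (Polynomial.X - Polynomial.C (IsLocalRing.residue R a₀))
      rw [Polynomial.modByMonic_X_sub_C_eq_C_eval] at h1
      rw [sub_sub, sub_eq_zero, add_comm]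
      exact h1.symm
    rw [hdecomp, map_add, map_add]
    have hgq : AdjoinRoot.mk g (g * q) = 0 := by
      rw [AdjoinRoot.mk_eq_zero]; exact dvd_mul_right g q
    rw [hgq, add_zero]
    refine Submodule.add_mem _ (Submodule.mem_sup_right (hmemm _ hr0)) (Submodule.mem_sup_left ?_)
    rw [Submodule.mem_span_singleton]
    refine ⟨p.eval a₀, ?_⟩
    rw [Algebra.smul_def, mul_one]
    rfl
  obtain ⟨a, ha⟩ := Submodule.mem_span_singleton.mp (hNak (Submodule.mem_top (x := AdjoinRoot.root g)))
  have hdvd : g ∣ Polynomial.X - Polynomial.C a := by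
    rw [← AdjoinRoot.mk_eq_zero, map_sub, AdjoinRoot.mk_X, sub_eq_zero, ← ha, Algebra.smul_def,
      mul_one]
    rfl
  obtain ⟨w, hw⟩ := hdvd
  have hwbar := congrArg (Polynomial.map (IsLocalRing.residue R)) hw
  rw [Polynomial.map_sub, Polynomial.map_X, Polynomial.map_C, Polynomial.map_mul, hg] at hwbar
  have haa₀ : IsLocalRing.residue R a = IsLocalRing.residue R a₀ := by
    have := congrArg (Polynomial.eval (IsLocalRing.residue R a₀)) hwbar
    simp only [Polynomial.eval_sub, Polynomial.eval_X, Polynomial.eval_C, Polynomial.eval_mul,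
      sub_self, zero_mul] at this
    exact (sub_eq_zero.mp this).symm
  have hwone : w.map (IsLocalRing.residue R) = 1 := by
    rw [haa₀] at hwbar
    have hne : (Polynomial.X - Polynomial.C (IsLocalRing.residue R a₀)) ≠ 0 :=
      Polynomial.X_sub_C_ne_zero _
    have h2 : (Polynomial.X - Polynomial.C (IsLocalRing.residue R a₀)) * 1 =
        (Polynomial.X - Polynomial.C (IsLocalRing.residue R a₀)) * w.map (IsLocalRing.residue R) := by
      rw [mul_one]; exact hwbar
    exact (mul_left_cancel₀ hne h2).symm
  have hwunit : IsUnit (w.eval a) := by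
    by_contra hnu
    have h3 : w.eval a ∈ IsLocalRing.maximalIdeal R := (IsLocalRing.mem_maximalIdeal _).mpr hnu
    rw [← IsLocalRing.residue_eq_zero_iff, ← hres, hwone, Polynomial.eval_one] at h3
    exact one_ne_zero h3
  have hfw : f * w = (Polynomial.X - Polynomial.C a) * h' := by
    rw [hw, hfgh]; ring
  have hfa : f.eval a * w.eval a = 0 := by
    rw [← Polynomial.eval_mul, hfw, Polynomial.eval_mul]
    simp
  refine ⟨a, (hwunit.mul_left_eq_zero).mp hfa, ?_⟩
  rw [← IsLocalRing.residue_eq_zero_iff, map_sub, haa₀, sub_self]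

end Groth.Agent.S0496
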