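import Groth.Statements.S0500
import Mathlib
import Groth.Agent.Lib.helper4.HenselLocalFactor

set_option autoImplicit false
universe u
open Hensel

namespace Groth.Agent.S0500

/-- If every algebra over a local ring that is finitely generated as a module is ring-isomorphic to a
finite product of local rings, then the local ring is henselian. -/
theorem result (R : Type u) [CommRing R] [IsLocalRing R]
    (h : ∀ (S : Type u) [CommRing S] [Algebra R S], Module.Finite R S →
      ∃ (ι : Type u) (_ : Fintype ι) (A : ι → Type u) (_ : ∀ i, CommRing (A i)),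
        (∀ i, IsLocalRing (A i)) ∧ Nonempty (S ≃+* (∀ i, A i))) :
    HenselianLocalRing R := by
  classical
  refine { ‹IsLocalRing R› with is_henselian := ?_ }
  intro f hfm a₀ h₁ h₂
  haveI : Module.Finite R (AdjoinRoot f) := hfm.finite_adjoinRoot
  obtain ⟨ι, hι, A, hA, hloc, ⟨Φ⟩⟩ := h (AdjoinRoot f) inferInstance
  exact Groth.Agent.H4.H4_root_of_pi_local f hfm Φ a₀ h₁ h₂

end Groth.Agent.S0500
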