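import Groth.Statements.S0502
import Mathlib

set_option autoImplicit false
universe u
open Hensel

namespace Groth.Agent.S0502

/-- A local ring `R` is henselian as soon as every étale `R`-algebra having a prime over the maximal
ideal with trivial residue field extension admits an `R`-algebra retraction to `R`. -/
theorem result (R : Type u) [CommRing R] [IsLocalRing R]
    (h : ∀ (S : Type u) [CommRing S] [Algebra R S] [Algebra.Etale R S] (q : Ideal S) [q.IsPrime],
      q.LiesOver (IsLocalRing.maximalIdeal R) → Function.Surjective (algebraMap R q.ResidueField) →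
      Nonempty (S →ₐ[R] R)) :
    HenselianLocalRing R := by
  classical
  refine ⟨fun f hf a₀ h1 h2 => ?_⟩
  -- f - C (f a₀) = (X - C a₀) * G
  have hroot : (f - Polynomial.C (f.eval a₀)).IsRoot a₀ := by
    simp [Polynomial.IsRoot]
  obtain ⟨G, hG⟩ := Polynomial.dvd_iff_isRoot.mpr hroot
  have hGa : G.eval a₀ = f.derivative.eval a₀ := by
    have := congrArg (fun p => (Polynomial.derivative p).eval a₀) hG
    simp only [Polynomial.derivative_sub, Polynomial.derivative_C, sub_zero, Polynomial.derivative_mul,
      Polynomial.derivative_X, Polynomial.eval_add, Polynomial.eval_mul, Polynomial.eval_sub,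
      Polynomial.eval_X, Polynomial.eval_C, sub_self, zero_mul, add_zero, Polynomial.eval_one,
      one_mul] at this
    exact this.symm
  let P : StandardEtalePair R :=
    ⟨f, hf, Polynomial.derivative f * G, ⟨G, 0, 1, by rw [mul_zero, add_zero, pow_one]⟩⟩
  let k := IsLocalRing.ResidueField R
  have hres : ∀ p : Polynomial R, Polynomial.aeval (IsLocalRing.residue R a₀) p =
      IsLocalRing.residue R (p.eval a₀) := by
    intro p
    rw [← IsLocalRing.ResidueField.algebraMap_eq]
    exact Polynomial.aeval_algebraMap_apply_eq_algebraMap_eval a₀ p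
  have hmap0 : P.HasMap (IsLocalRing.residue R a₀) := by
    constructor
    · show Polynomial.aeval (IsLocalRing.residue R a₀) f = 0
      rw [hres]
      exact (IsLocalRing.residue_eq_zero_iff _).mpr h1
    · show IsUnit (Polynomial.aeval (IsLocalRing.residue R a₀) (Polynomial.derivative f * G))
      rw [hres, Polynomial.eval_mul, hGa]
      exact (h2.mul h2).map _
  let φ₀ : P.Ring →ₐ[R] IsLocalRing.ResidueField R := P.lift _ hmap0
  have hφ₀surj : Function.Surjective φ₀ := by
    intro y
    obtain ⟨r, rfl⟩ := IsLocalRing.residue_surjective y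
    exact ⟨algebraMap R P.Ring r, φ₀.commutes r⟩
  let q : Ideal P.Ring := RingHom.ker φ₀
  have hqmax : q.IsMaximal := RingHom.ker_isMaximal_of_surjective φ₀ hφ₀surj
  have hqprime : q.IsPrime := hqmax.isPrime
  have hlies : q.LiesOver (IsLocalRing.maximalIdeal R) := by
    constructor
    ext x
    rw [Ideal.mem_comap, RingHom.mem_ker, AlgHom.commutes]
    exact ((IsLocalRing.residue_eq_zero_iff x)).symm
  have hsurj : Function.Surjective (algebraMap R q.ResidueField) := by
    intro y
    obtain ⟨s, rfl⟩ := Ideal.algebraMap_residueField_surjective q y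
    obtain ⟨r, hr⟩ := IsLocalRing.residue_surjective (φ₀ s)
    refine ⟨r, ?_⟩
    have hmem : s - algebraMap R P.Ring r ∈ q := by
      rw [RingHom.mem_ker, map_sub, AlgHom.commutes, sub_eq_zero]
      exact hr.symm
    have h3 := Ideal.algebraMap_residueField_eq_zero.mpr hmem
    rw [map_sub, sub_eq_zero] at h3
    rw [h3, ← IsScalarTower.algebraMap_apply]
  obtain ⟨τ⟩ := h P.Ring q hlies hsurj
  have hmapτ : P.HasMap (τ P.X) := P.hasMap_X.map τ
  refine ⟨τ P.X, ?_, ?_⟩
  · have := hmapτ.1
    simpa [Polynomial.IsRoot] using this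
  · have hu : IsUnit (Polynomial.aeval (τ P.X) (Polynomial.derivative f * G)) := hmapτ.2
    rw [map_mul] at hu
    have huG : IsUnit (G.eval (τ P.X)) := by
      have := (isUnit_of_mul_isUnit_right hu)
      simpa using this
    have hfa : f.eval (τ P.X) = 0 := by
      have := hmapτ.1
      simpa using this
    have h4 := congrArg (fun p => p.eval (τ P.X)) hG
    simp only [Polynomial.eval_sub, Polynomial.eval_C, Polynomial.eval_mul, Polynomial.eval_X, hfa,
      zero_sub] at h4
    obtain ⟨u, hu'⟩ := huG
    have h5 : τ P.X - a₀ = -(f.eval a₀) * (u⁻¹ : Rˣ) := by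
      have : (τ P.X - a₀) * (u : R) = -(f.eval a₀) := by rw [hu']; exact h4.symm
      calc τ P.X - a₀ = (τ P.X - a₀) * (u : R) * (u⁻¹ : Rˣ) := by
            rw [mul_assoc, Units.mul_inv, mul_one]
        _ = _ := by rw [this]
    rw [h5]
    exact Ideal.mul_mem_right _ _ (neg_mem h1)

end Groth.Agent.S0502
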