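import Groth.Statements.S0503
import Mathlib
import Groth.Agent.Lib.helper4.QuasiFiniteHensel

set_option autoImplicit false
universe u
open Hensel

namespace Groth.Agent.S0503

/-- A finite-type quasi-finite algebra `S` over a henselian local ring `R` contains an idempotent `e`
such that `S/(1-e)` is finitely generated as an `R`-module and the maximal ideal of `R` generates
the unit ideal of `S/(e)`; in other words `S` is a product of a module-finite algebra and an algebra
whose fibre over the closed point is empty. -/
theorem result (R : Type u) [CommRing R] [HenselianLocalRing R]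
    (S : Type u) [CommRing S] [Algebra R S] [Algebra.FiniteType R S] [Algebra.QuasiFinite R S] :
    ∃ e : S, IsIdempotentElem e ∧ Module.Finite R (S ⧸ Ideal.span ({1 - e} : Set S)) ∧
      Ideal.map (algebraMap R (S ⧸ Ideal.span ({e} : Set S))) (IsLocalRing.maximalIdeal R) = ⊤ := by
  classical
  have hfin : ((IsLocalRing.maximalIdeal R).primesOver S).Finite :=
    Algebra.QuasiFinite.finite_primesOver _
  have claim : ∀ T : Finset (Ideal S),
      (∀ q ∈ T, q.IsPrime ∧ q.LiesOver (IsLocalRing.maximalIdeal R)) →
      ∃ e : S, IsIdempotentElem e ∧ Groth.Agent.H4.H4_IdemFG R e ∧ ∀ q ∈ T, e ∉ q := by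
    intro T
    induction T using Finset.induction_on with
    | empty =>
      intro _
      exact ⟨0, IsIdempotentElem.zero, Groth.Agent.H4.H4_idemFG_zero, fun q hq => by simp at hq⟩
    | insert q T hqT ih =>
      intro hT
      obtain ⟨e, he, hefg, heT⟩ := ih (fun q' hq' => hT q' (Finset.mem_insert_of_mem hq'))
      obtain ⟨hqp, hqm⟩ := hT q (Finset.mem_insert_self q T)
      haveI := hqp
      haveI := hqm
      obtain ⟨f, hf, hfq, hffg, -⟩ := Groth.Agent.H4.H4_quasiFiniteAt_idem R S q
      refine ⟨e + f - e * f, Groth.Agent.H4.H4_isIdempotentElem_join he hf,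
        Groth.Agent.H4.H4_idemFG_join he hf hefg hffg, ?_⟩
      intro q' hq' hmem
      have h1 : e ∈ q' := by
        have : e = e * (e + f - e * f) := by
          have h1 : e * e = e := he
          have : e * (e + f - e * f) = e * e + e * f - (e * e) * f := by ring
          rw [this, h1]; ring
        rw [this]
        exact Ideal.mul_mem_left _ _ hmem
      have h2 : f ∈ q' := by
        have : f = f * (e + f - e * f) := by
          have h1 : f * f = f := hf
          have : f * (e + f - e * f) = e * f + f * f - e * (f * f) := by ring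
          rw [this, h1]; ring
        rw [this]
        exact Ideal.mul_mem_left _ _ hmem
      rcases Finset.mem_insert.mp hq' with rfl | hq'T
      · exact hfq h2
      · exact heT q' hq'T h1
  obtain ⟨e, he, hefg, heT⟩ := claim hfin.toFinset (fun q hq => by
    rw [Set.Finite.mem_toFinset] at hq
    exact hq)
  refine ⟨e, he, Groth.Agent.H4.H4_finite_quotient_of_idemFG hefg, ?_⟩
  by_contra hne
  obtain ⟨M, hM, hle⟩ := Ideal.exists_le_maximal _ hne
  let n : Ideal S := M.comap (Ideal.Quotient.mk (Ideal.span ({e} : Set S)))
  haveI hnp : n.IsPrime := Ideal.comap_isPrime _ _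
  have hen : e ∈ n := by
    show Ideal.Quotient.mk _ e ∈ M
    rw [Ideal.Quotient.eq_zero_iff_mem.mpr (Ideal.mem_span_singleton_self e)]
    exact M.zero_mem
  have hnm : n.LiesOver (IsLocalRing.maximalIdeal R) := by
    constructor
    have h1 : IsLocalRing.maximalIdeal R ≤ n.under R := by
      intro r hr
      rw [Ideal.under_def, Ideal.mem_comap]
      show Ideal.Quotient.mk _ (algebraMap R S r) ∈ M
      apply hle
      have : Ideal.Quotient.mk (Ideal.span ({e} : Set S)) (algebraMap R S r) =
          algebraMap R (S ⧸ Ideal.span ({e} : Set S)) r := rfl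
      rw [this]
      exact Ideal.mem_map_of_mem _ hr
    have h2 : n.under R ≠ ⊤ := by
      haveI : (n.under R).IsPrime := Ideal.comap_isPrime _ _
      exact Ideal.IsPrime.ne_top ‹_›
    exact ((IsLocalRing.maximalIdeal.isMaximal R).eq_of_le h2 h1)
  exact heT n (by
    rw [Set.Finite.mem_toFinset]
    exact ⟨hnp, hnm⟩) hen

end Groth.Agent.S0503
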