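import Groth.Statements.S0504
import Mathlib
import Groth.Agent.Lib.helper4.QuasiFiniteHensel
import Groth.Agent.Lib.helper4.QuasiFiniteLocus

set_option autoImplicit false
universe u
open Hensel

namespace Groth.Agent.S0504

/-- A finite-type algebra `S` over a henselian local ring `R` contains an idempotent `e` such that
`S/(1-e)` is finitely generated as an `R`-module and `R → S/(e)` is quasi-finite at no prime lying
over the maximal ideal of `R`. -/
theorem result (R : Type u) [CommRing R] [HenselianLocalRing R]
    (S : Type u) [CommRing S] [Algebra R S] [Algebra.FiniteType R S] :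
    ∃ e : S, IsIdempotentElem e ∧ Module.Finite R (S ⧸ Ideal.span ({1 - e} : Set S)) ∧
      ∀ (q : Ideal (S ⧸ Ideal.span ({e} : Set S))) [q.IsPrime],
        q.LiesOver (IsLocalRing.maximalIdeal R) → ¬ Algebra.QuasiFiniteAt R q := by
  classical
  have hfin := Groth.Agent.H4.H4_finite_quasiFiniteAt_primesOver R S (IsLocalRing.maximalIdeal R)
  have claim : ∀ T : Finset (Ideal S),
      (∀ q ∈ T, ∃ (_ : q.IsPrime), q.LiesOver (IsLocalRing.maximalIdeal R) ∧
        Algebra.QuasiFiniteAt R q) →
      ∃ e : S, IsIdempotentElem e ∧ Groth.Agent.H4.H4_IdemFG R e ∧ ∀ q ∈ T, e ∉ q := by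
    intro T
    induction T using Finset.induction_on with
    | empty =>
      intro _
      exact ⟨0, IsIdempotentElem.zero, Groth.Agent.H4.H4_idemFG_zero, fun q hq => by simp at hq⟩
    | insert q T hqT ih =>
      intro hT
      obtain ⟨e, he, hefg, heT⟩ := ih (fun q' hq' => hT q' (Finset.mem_insert_of_mem hq'))
      obtain ⟨hqp, hqm, hqf⟩ := hT q (Finset.mem_insert_self q T)
      haveI := hqp
      haveI := hqm
      haveI := hqf
      obtain ⟨f, hf, hfq, hffg, -⟩ := Groth.Agent.H4.H4_quasiFiniteAt_idem R S q
      refine ⟨e + f - e * f, Groth.Agent.H4.H4_isIdempotentElem_join he hf,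
        Groth.Agent.H4.H4_idemFG_join he hf hefg hffg, ?_⟩
      intro q' hq' hmem
      have h1 : e ∈ q' := by
        have : e = e * (e + f - e * f) := by
          have h1 : e * e = e := he
          have : e * (e + f - e * f) = e * e + e * f - (e * e) * f := by ring
          rw [this, h1]; ring
        rw [this]
        exact Ideal.mul_mem_left _ _ hmem
      have h2 : f ∈ q' := by
        have : f = f * (e + f - e * f) := by
          have h1 : f * f = f := hf
          have : f * (e + f - e * f) = e * f + f * f - e * (f * f) := by ring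
          rw [this, h1]; ring
        rw [this]
        exact Ideal.mul_mem_left _ _ hmem
      rcases Finset.mem_insert.mp hq' with rfl | hq'T
      · exact hfq h2
      · exact heT q' hq'T h1
  obtain ⟨e, he, hefg, heT⟩ := claim hfin.toFinset (fun q hq => by
    rw [Set.Finite.mem_toFinset] at hq
    exact hq)
  refine ⟨e, he, Groth.Agent.H4.H4_finite_quotient_of_idemFG hefg, ?_⟩
  intro q' hq'p hq'm hq'f
  haveI : (q'.comap (Ideal.Quotient.mk (Ideal.span ({e} : Set S)))).IsPrime :=
    Ideal.comap_isPrime _ _
  have hqm : (q'.comap (Ideal.Quotient.mk (Ideal.span ({e} : Set S)))).LiesOver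
      (IsLocalRing.maximalIdeal R) := by
    constructor
    rw [hq'm.over]
    rfl
  have hqf : Algebra.QuasiFiniteAt R (q'.comap (Ideal.Quotient.mk (Ideal.span ({e} : Set S)))) :=
    Groth.Agent.H4.H4_quasiFiniteAt_of_quotient_idem R S e he q' _ rfl
  have hne : e ∉ q'.comap (Ideal.Quotient.mk (Ideal.span ({e} : Set S))) :=
    heT _ (by
      rw [Set.Finite.mem_toFinset]
      exact ⟨inferInstance, hqm, hqf⟩)
  apply hne
  rw [Ideal.mem_comap]
  have : Ideal.Quotient.mk (Ideal.span ({e} : Set S)) e = 0 :=
    Ideal.Quotient.eq_zero_iff_mem.mpr (Ideal.mem_span_singleton_self e)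
  rw [this]
  exact Ideal.zero_mem _

end Groth.Agent.S0504
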