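import Groth.Statements.S0510
import Mathlib
import Groth.Agent.Lib.helper4.HenselizationBasic

set_option autoImplicit false
universe u
open Hensel

namespace Groth.Agent.S0510

/-- For a local ring `R` with henselization `S` and every `n`, the natural map from `R` modulo the
`n`-th power of its maximal ideal to `S` modulo the extension of that power is a bijection. -/
theorem result (R : Type u) [CommRing R] [IsLocalRing R] (S : Type u) [CommRing S] [IsLocalRing S]
    [Algebra R S] [IsLocalHom (algebraMap R S)] [Hensel.IsHenselization R S] (n : ℕ) :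
    Function.Bijective (Ideal.quotientMap
      (Ideal.map (algebraMap R S) (IsLocalRing.maximalIdeal R ^ n)) (algebraMap R S)
      Ideal.le_comap_map) := by
  rcases Nat.eq_zero_or_pos n with hn | hn
  · subst hn
    have h1 : IsLocalRing.maximalIdeal R ^ 0 = ⊤ := by rw [pow_zero, Ideal.one_eq_top]
    haveI : Subsingleton (R ⧸ IsLocalRing.maximalIdeal R ^ 0) :=
      Ideal.Quotient.subsingleton_iff.mpr h1
    haveI : Subsingleton (S ⧸ Ideal.map (algebraMap R S) (IsLocalRing.maximalIdeal R ^ 0)) :=
      Ideal.Quotient.subsingleton_iff.mpr (by rw [h1, Ideal.map_top])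
    exact ⟨Function.injective_of_subsingleton _, Function.surjective_to_subsingleton _⟩
  · have hbij := Groth.Agent.H4.H4_henselization_quotient_pow_bijective (R := R) (S := S) n
      (Nat.pos_iff_ne_zero.mp hn)
    have heq : ⇑(Ideal.quotientMap (Ideal.map (algebraMap R S) (IsLocalRing.maximalIdeal R ^ n))
        (algebraMap R S) Ideal.le_comap_map) =
        ⇑(algebraMap (R ⧸ IsLocalRing.maximalIdeal R ^ n)
          (S ⧸ (IsLocalRing.maximalIdeal R ^ n).map (algebraMap R S))) := by
      funext x
      obtain ⟨r, rfl⟩ := Ideal.Quotient.mk_surjective x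
      rfl
    rw [heq]
    exact hbij

end Groth.Agent.S0510
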