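import Groth.Statements.S0513
import Mathlib
import Groth.Agent.Lib.helper4.RegFlat
import Groth.Agent.Lib.helper4.HensNoeth

set_option autoImplicit false
universe u
open Hensel

namespace Groth.Agent.S0513

/-- A Noetherian local ring is regular exactly when its henselization is a regular local ring. -/
theorem result (R : Type u) [CommRing R] [IsLocalRing R] (S : Type u) [CommRing S] [IsLocalRing S]
    [Algebra R S] [IsLocalHom (algebraMap R S)] [Hensel.IsHenselization R S] [IsNoetherianRing R] :
    IsRegularLocalRing R ↔ IsRegularLocalRing S := by
  haveI : IsNoetherianRing S :=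
    (Groth.Agent.H4.H4_henselization_isNoetherianRing_iff R S).mp inferInstance
  haveI : Module.Flat R S :=
    (Groth.Agent.H4.H4_weaklyEtale_of_isIndEtale R S
      (Groth.Agent.H4.H4_henselization_isIndEtale R S)).flat
  exact Groth.Agent.H4.H4_isRegularLocalRing_iff_of_faithfullyFlat R S
    (Groth.Agent.H4.H4_henselization_map_maximalIdeal (R := R) (S := S)).1

end Groth.Agent.S0513
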