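import Groth.Statements.S1972
import Mathlib
import Groth.Agent.Lib.helper4.HensReduced

set_option autoImplicit false
universe u
open EtAlg

namespace Groth.Agent.S1972

/-- Let R be a local ring and S a henselization or a strict henselization of R. Then the nilradical of S
is the extension of the nilradical of R. -/
theorem result (R S : Type u) [CommRing R] [IsLocalRing R] [CommRing S] [IsLocalRing S]
    [Algebra R S] [IsLocalHom (algebraMap R S)]
    (h : Hensel.IsHenselization R S ∨ Hensel.IsStrictHenselization R S) :
    (nilradical R).map (algebraMap R S) = nilradical S := by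
  rcases h with h | h
  · haveI := h
    obtain ⟨e⟩ := Groth.Agent.H4.H4_henselization_equiv (R := R) S
    exact Groth.Agent.H4.H4_nilradical_map_of_equiv e (Groth.Agent.H4.H4_Hens_nilradical R)
  · haveI := h
    obtain ⟨e⟩ := Groth.Agent.H4.H4_strictHenselization_equiv (R := R) S
    exact Groth.Agent.H4.H4_nilradical_map_of_equiv e (Groth.Agent.H4.H4_SHens_nilradical R)

end Groth.Agent.S1972
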