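import Groth.Statements.S0514
import Mathlib
import Groth.Agent.S1972
import Groth.Agent.S0509

set_option autoImplicit false
universe u
open Hensel

namespace Groth.Agent.S0514

/-- A local ring is reduced exactly when its henselization is reduced. -/
theorem result (R : Type u) [CommRing R] [IsLocalRing R] (S : Type u) [CommRing S] [IsLocalRing S]
    [Algebra R S] [IsLocalHom (algebraMap R S)] [Hensel.IsHenselization R S] :
    IsReduced R ↔ IsReduced S := by
  have hnil : (nilradical R).map (algebraMap R S) = nilradical S :=
    Groth.Agent.S1972.result R S (Or.inl inferInstance)
  haveI : Module.FaithfullyFlat R S := Groth.Agent.S0509.result R S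
  have hinj : Function.Injective (algebraMap R S) := FaithfulSMul.algebraMap_injective R S
  constructor
  · intro hR
    rw [← nilradical_eq_bot_iff] at hR ⊢
    rw [← hnil, hR, Ideal.map_bot]
  · intro hS
    constructor
    intro x hx
    apply hinj
    rw [map_zero]
    exact (hx.map (algebraMap R S)).eq_zero

end Groth.Agent.S0514
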