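import Groth.Statements.S0515
import Mathlib
import Groth.Agent.Lib.helper4.HensNormal
import Groth.Agent.S0509

set_option autoImplicit false
universe u
open Hensel

namespace Groth.Agent.S0515

/-- A local ring is an integrally closed domain exactly when its henselization is. -/
theorem result (R : Type u) [CommRing R] [IsLocalRing R] (S : Type u) [CommRing S] [IsLocalRing S]
    [Algebra R S] [IsLocalHom (algebraMap R S)] [Hensel.IsHenselization R S] :
    (IsDomain R ∧ IsIntegrallyClosed R) ↔ (IsDomain S ∧ IsIntegrallyClosed S) := by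
  haveI : Module.FaithfullyFlat R S := Groth.Agent.S0509.result R S
  constructor
  · rintro ⟨hd, hic⟩
    haveI := hd
    haveI := hic
    obtain ⟨e⟩ := Groth.Agent.H4.H4_henselization_equiv (R := R) S
    obtain ⟨hd', hic'⟩ := Groth.Agent.H4.H4_Hens_normal R
    haveI := hd'
    haveI := hic'
    haveI : IsDomain S := e.toRingEquiv.toMulEquiv.isDomain (Groth.Agent.H4.H4_Hens R)
    exact ⟨inferInstance, IsIntegrallyClosed.of_equiv e.symm.toRingEquiv⟩
  · rintro ⟨hd, hic⟩
    haveI := hd
    haveI := hic
    exact Groth.Agent.H4.H4_normal_descent R S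

end Groth.Agent.S0515
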