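import Groth.Statements.S0516
import Mathlib
import Groth.Agent.Lib.helper4.UnramifiedSplit
import Groth.Agent.Lib.helper4.FiniteEtaleHom
import Groth.Agent.S0503

set_option autoImplicit false
universe u
open Hensel

namespace Groth.Agent.S0516

/-- An unramified algebra `S` (formally unramified of finite type) over a strictly henselian local ring
`R` is isomorphic over `R` to a product of finitely many quotient rings of `R` and an `R`-algebra in
which the maximal ideal of `R` generates the unit ideal. -/
theorem result (R : Type u) [CommRing R]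
    [HenselianLocalRing R] [IsSepClosed (IsLocalRing.ResidueField R)] (S : Type u) [CommRing S] [Algebra R S]
    [Algebra.Unramified R S] :
    ∃ (ι : Type u) (_ : Fintype ι) (A : ι → Type u) (_ : ∀ i, CommRing (A i))
      (_ : ∀ i, Algebra R (A i)) (B : Type u) (_ : CommRing B) (_ : Algebra R B),
      (∀ i, Function.Surjective (algebraMap R (A i))) ∧
      Ideal.map (algebraMap R B) (IsLocalRing.maximalIdeal R) = ⊤ ∧
      Nonempty (S ≃ₐ[R] ((∀ i, A i) × B)) := by
  classical
  haveI : Algebra.FiniteType R S := inferInstance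
  haveI : Algebra.QuasiFinite R S := inferInstance
  obtain ⟨e, he, hfin, htop⟩ := Groth.Agent.S0503.result R S
  let Φ₀ : S ≃ₐ[R] (S ⧸ Ideal.span ({1 - e} : Set S)) × (S ⧸ Ideal.span ({e} : Set S)) :=
    AlgEquiv.prodQuotientOfIsIdempotentElem R he.one_sub he (by ring) (by
      have : e * e = e := he
      rw [sub_mul, one_mul, this, sub_self])
  haveI := hfin
  obtain ⟨ι, hι, A, hA, algA, hloc, ⟨Φ⟩⟩ :=
    Groth.Agent.H4.H4_finite_henselian_pi_alg R (S ⧸ Ideal.span ({1 - e} : Set S))
  let π : ∀ i, (S ⧸ Ideal.span ({1 - e} : Set S)) →ₐ[R] A i :=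
    fun i => (Pi.evalAlgHom R A i).comp Φ.toAlgHom
  have hπ : ∀ i y, π i y = Φ y i := fun i y => rfl
  have hπsurj : ∀ i, Function.Surjective (π i) := fun i a =>
    ⟨Φ.symm (Pi.single i a), by rw [hπ, AlgEquiv.apply_symm_apply, Pi.single_eq_same]⟩
  haveI : ∀ i, Module.Finite R (A i) := fun i =>
    Module.Finite.of_surjective (π i).toLinearMap (hπsurj i)
  haveI : Algebra.FormallyUnramified R (S ⧸ Ideal.span ({1 - e} : Set S)) :=
    Algebra.FormallyUnramified.of_surjective (Ideal.Quotient.mkₐ R _) Ideal.Quotient.mk_surjective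
  haveI : ∀ i, Algebra.FormallyUnramified R (A i) := fun i =>
    Algebra.FormallyUnramified.of_surjective (π i) (hπsurj i)
  refine ⟨ι, hι, A, hA, algA, S ⧸ Ideal.span ({e} : Set S), inferInstance, inferInstance,
    fun i => Groth.Agent.H4.H4_surjective_of_finite_unramified_local R (A i), htop,
    ⟨Φ₀.trans (AlgEquiv.prodCongr Φ AlgEquiv.refl)⟩⟩

end Groth.Agent.S0516
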