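import Groth.Statements.S0517
import Mathlib
import Groth.Agent.Lib.helper4.EtaleHensel

set_option autoImplicit false
universe u
open Hensel

namespace Groth.Agent.S0517

/-- Given strictly henselian local rings `R` and `S`, a local ring map `φ` between them, and a square
system of `n` polynomial equations in `n` unknowns over `R` whose quotient algebra is étale over
`R`, applying `φ` coordinatewise matches the solutions of the system in `Rⁿ` bijectively with the
solutions of the transported system in `Sⁿ`. -/
theorem result (R : Type u) [CommRing R]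
    [HenselianLocalRing R] [IsSepClosed (IsLocalRing.ResidueField R)] (S : Type u) [CommRing S]
    [HenselianLocalRing S] [IsSepClosed (IsLocalRing.ResidueField S)] (φ : R →+* S) [IsLocalHom φ] (n : ℕ)
    (P : Fin n → MvPolynomial (Fin n) R)
    [Algebra.Etale R (MvPolynomial (Fin n) R ⧸ Ideal.span (Set.range P))] :
    Set.BijOn (fun r : Fin n → R => φ ∘ r)
      {r : Fin n → R | ∀ i, MvPolynomial.eval r (P i) = 0}
      {s : Fin n → S | ∀ i, MvPolynomial.eval s (MvPolynomial.map φ (P i)) = 0} := by
  classical
  letI : Algebra R S := φ.toAlgebra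
  have halg : algebraMap R S = φ := RingHom.algebraMap_toAlgebra φ
  -- evaluation compatibilities
  have hevR : ∀ (r : Fin n → R) (p : MvPolynomial (Fin n) R),
      MvPolynomial.aeval r p = MvPolynomial.eval r p := fun r p => rfl
  have hevS : ∀ (s : Fin n → S) (p : MvPolynomial (Fin n) R),
      MvPolynomial.aeval s p = MvPolynomial.eval s (MvPolynomial.map φ p) := by
    intro s p
    rw [MvPolynomial.eval_map, MvPolynomial.aeval_def, halg]
  have hφev : ∀ (r : Fin n → R) (p : MvPolynomial (Fin n) R),
      MvPolynomial.eval (φ ∘ r) (MvPolynomial.map φ p) = φ (MvPolynomial.eval r p) := by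
    intro r p
    rw [MvPolynomial.eval_map, ← MvPolynomial.eval₂_id, MvPolynomial.eval₂_comp_left]
    rfl
  -- φ respects maximal ideals
  have hφm : ∀ x : R, φ x ∈ IsLocalRing.maximalIdeal S ↔ x ∈ IsLocalRing.maximalIdeal R := by
    intro x
    rw [IsLocalRing.mem_maximalIdeal, IsLocalRing.mem_maximalIdeal, mem_nonunits_iff,
      mem_nonunits_iff]
    constructor
    · intro h h'
      exact h (h'.map φ)
    · intro h h'
      exact h (isUnit_of_map_unit φ x h')
  let φₐ : R →ₐ[R] S := Algebra.ofId R S
  have hφₐ : ∀ x, φₐ x = φ x := fun x => by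
    show algebraMap R S x = φ x
    rw [halg]
  refine ⟨?_, ?_, ?_⟩
  · intro r hr i
    rw [Set.mem_setOf_eq] at hr
    show MvPolynomial.eval (φ ∘ r) (MvPolynomial.map φ (P i)) = 0
    rw [hφev, hr i, map_zero]
  · intro r hr r' hr' hrr'
    rw [Set.mem_setOf_eq] at hr hr'
    obtain ⟨f, hf⟩ := Groth.Agent.H4.H4_exists_algHom_of_solution (T := R) P r
      (fun i => by rw [hevR]; exact hr i)
    obtain ⟨f', hf'⟩ := Groth.Agent.H4.H4_exists_algHom_of_solution (T := R) P r'
      (fun i => by rw [hevR]; exact hr' i)
    have hres : ∀ a, IsLocalRing.residue R (f a) = IsLocalRing.residue R (f' a) := by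
      intro a
      obtain ⟨p, rfl⟩ := Ideal.Quotient.mk_surjective a
      rw [hf, hf', hevR, hevR, ← sub_eq_zero, ← map_sub, IsLocalRing.residue_eq_zero_iff, ← hφm,
        map_sub, ← hφev, ← hφev]
      have : φ ∘ r = φ ∘ r' := hrr'
      rw [this, sub_self]
      exact Ideal.zero_mem _
    have hff' : f = f' := Groth.Agent.H4.H4_etale_algHom_ext_of_residue f f' hres
    funext i
    have h1 := hf (MvPolynomial.X i)
    have h2 := hf' (MvPolynomial.X i)
    rw [MvPolynomial.aeval_X] at h1 h2
    rw [← h1, ← h2, hff']
  · intro s hs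
    rw [Set.mem_setOf_eq] at hs
    obtain ⟨h, hh⟩ := Groth.Agent.H4.H4_exists_algHom_of_solution (T := S) P s
      (fun i => by rw [hevS]; exact hs i)
    let q : Ideal (MvPolynomial (Fin n) R ⧸ Ideal.span (Set.range P)) :=
      Ideal.comap h.toRingHom (IsLocalRing.maximalIdeal S)
    haveI : q.IsPrime := Ideal.comap_isPrime _ _
    have hq : q.comap (algebraMap R (MvPolynomial (Fin n) R ⧸ Ideal.span (Set.range P))) =
        IsLocalRing.maximalIdeal R := by
      ext x
      rw [Ideal.mem_comap, Ideal.mem_comap]
      show h (algebraMap R _ x) ∈ _ ↔ _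
      rw [h.commutes, halg, hφm]
    have hsurj := Groth.Agent.H4.H4_surjective_algebraMap_residueField q hq
    obtain ⟨f, hfq⟩ := Groth.Agent.H4.H4_exists_algHom_of_surjective_residueField q hq hsurj
    have hcomp : Ideal.comap (φₐ.comp f).toRingHom (IsLocalRing.maximalIdeal S) = q := by
      rw [← hfq]
      ext a
      rw [Ideal.mem_comap, Ideal.mem_comap]
      show φₐ (f a) ∈ _ ↔ f a ∈ _
      rw [hφₐ, hφm]
    have hres := Groth.Agent.H4.H4_residue_eq_of_comap_eq q hsurj h (φₐ.comp f) rfl hcomp
    have heq : h = φₐ.comp f := Groth.Agent.H4.H4_etale_algHom_ext_of_residue _ _ hres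
    refine ⟨fun i => f (Ideal.Quotient.mk _ (MvPolynomial.X i)), ?_, ?_⟩
    · rw [Set.mem_setOf_eq]
      intro i
      have h1 : ∀ p : MvPolynomial (Fin n) R, f (Ideal.Quotient.mk _ p) =
          MvPolynomial.eval (fun i => f (Ideal.Quotient.mk _ (MvPolynomial.X i))) p := by
        intro p
        have h2 : (f.comp (Ideal.Quotient.mkₐ R (Ideal.span (Set.range P)))) =
            MvPolynomial.aeval (fun i => f (Ideal.Quotient.mk _ (MvPolynomial.X i))) := by
          apply MvPolynomial.algHom_ext
          intro j
          rw [MvPolynomial.aeval_X]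
          rfl
        have := AlgHom.congr_fun h2 p
        rw [hevR] at this
        exact this
      have h3 : Ideal.Quotient.mk (Ideal.span (Set.range P)) (P i) = 0 :=
        Ideal.Quotient.eq_zero_iff_mem.mpr (Ideal.subset_span (Set.mem_range_self i))
      rw [← h1, h3, map_zero]
    · funext i
      show φ (f (Ideal.Quotient.mk _ (MvPolynomial.X i))) = s i
      have h1 := hh (MvPolynomial.X i)
      rw [MvPolynomial.aeval_X] at h1
      rw [← h1, heq]
      show _ = φₐ (f _)
      rw [hφₐ]

end Groth.Agent.S0517
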