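import Groth.Statements.S0518
import Mathlib
import Groth.Agent.Lib.helper4.FiniteEtaleLift

set_option autoImplicit false
universe u
open Hensel

namespace Groth.Agent.S0518

/-- Over a henselian local ring `R` with residue field `κ`, every finite étale `κ`-algebra is the base
change of some finite étale `R`-algebra. -/
theorem result (R : Type u) [CommRing R]
    [HenselianLocalRing R] (A : Type u) [CommRing A] [Algebra (IsLocalRing.ResidueField R) A]
    [Module.Finite (IsLocalRing.ResidueField R) A] [Algebra.Etale (IsLocalRing.ResidueField R) A] :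
    ∃ (S : Type u) (_ : CommRing S) (_ : Algebra R S), Module.Finite R S ∧ Algebra.Etale R S ∧
      Nonempty (TensorProduct R (IsLocalRing.ResidueField R) S ≃ₐ[IsLocalRing.ResidueField R] A) := by
  classical
  obtain ⟨I, hI, Ai, hfield, halg, e, hsep⟩ :=
    (Algebra.FormallyEtale.iff_exists_algEquiv_prod
      (K := IsLocalRing.ResidueField R) (A := A)).mp inferInstance
  haveI := Fintype.ofFinite I
  have hfin : ∀ i, Module.Finite (IsLocalRing.ResidueField R) (Ai i) := by
    intro i
    haveI : Module.Finite (IsLocalRing.ResidueField R) (Π i, Ai i) :=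
      Module.Finite.equiv e.toLinearEquiv
    exact Module.Finite.of_surjective (LinearMap.proj (R := IsLocalRing.ResidueField R) (φ := Ai) i)
      (fun x => ⟨Pi.single i x, by simp⟩)
  have key : ∀ i, ∃ G : Polynomial R, G.Monic ∧ IsUnit (AdjoinRoot.mk G (Polynomial.derivative G)) ∧
      Nonempty (TensorProduct R (IsLocalRing.ResidueField R) (AdjoinRoot G)
        ≃ₐ[IsLocalRing.ResidueField R] Ai i) := by
    intro i
    haveI := hfin i
    haveI := hsep i
    obtain ⟨α, hα⟩ := Field.exists_primitive_element (IsLocalRing.ResidueField R) (Ai i)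
    have hint : IsIntegral (IsLocalRing.ResidueField R) α := IsIntegral.of_finite _ α
    have hlift : minpoly (IsLocalRing.ResidueField R) α ∈ Polynomial.lifts (IsLocalRing.residue R) := by
      rw [Polynomial.lifts_iff_coeff_lifts]
      intro n
      exact IsLocalRing.residue_surjective _
    obtain ⟨G, hG1, hG2, hG3⟩ := Polynomial.lifts_and_natDegree_eq_and_monic hlift (minpoly.monic hint)
    refine ⟨G, hG3, ?_, ?_⟩
    · apply Groth.Agent.H4.H4_isUnit_mk_derivative_of_separable_residue G hG3
      rw [hG1]
      exact Algebra.IsSeparable.isSeparable _ α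
    · exact Groth.Agent.H4.H4_tensor_adjoinRoot_equiv G α hint hα hG1.symm
  choose G hGm hGu hGe using key
  haveI : ∀ i, Algebra.Etale R (AdjoinRoot (G i)) := fun i =>
    Groth.Agent.H4.H4_etale_adjoinRoot (G i) (hGm i) (hGu i)
  haveI : ∀ i, Module.Finite R (AdjoinRoot (G i)) := fun i => (hGm i).finite_adjoinRoot
  haveI : ∀ i, Module.Free R (AdjoinRoot (G i)) := fun i =>
    Module.Free.of_basis (AdjoinRoot.powerBasis' (hGm i)).basis
  refine ⟨Π i, AdjoinRoot (G i), inferInstance, inferInstance, inferInstance, ?_, ?_⟩
  · haveI : Algebra.FormallyEtale R (Π i, AdjoinRoot (G i)) :=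
      (Algebra.FormallyEtale.pi_iff _).mpr (fun i => inferInstance)
    haveI : Algebra.FinitePresentation R (Π i, AdjoinRoot (G i)) := inferInstance
    exact ⟨inferInstance, inferInstance⟩
  · refine ⟨?_⟩
    exact ((Algebra.TensorProduct.piRight R (IsLocalRing.ResidueField R) (IsLocalRing.ResidueField R)
      (fun i => AdjoinRoot (G i))).trans
      (AlgEquiv.piCongrRight (fun i => (hGe i).some))).trans e.symm

end Groth.Agent.S0518
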