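import Groth.Statements.S0519
import Mathlib
import Groth.Agent.Lib.helper4.FiniteEtaleHom

set_option autoImplicit false
universe u
open Hensel TensorProduct

namespace Groth.Agent.S0519

/-- Over a henselian local ring `R` with residue field `κ`, base change to `κ` gives a bijection between
`R`-algebra maps of two finite étale `R`-algebras and `κ`-algebra maps of their base changes. -/
theorem result (R : Type u) [CommRing R]
    [HenselianLocalRing R] (S₁ S₂ : Type u) [CommRing S₁] [CommRing S₂] [Algebra R S₁]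
    [Algebra R S₂] [Module.Finite R S₁] [Algebra.Etale R S₁] [Module.Finite R S₂]
    [Algebra.Etale R S₂] :
    Function.Bijective (fun φ : S₁ →ₐ[R] S₂ =>
      Algebra.TensorProduct.map (AlgHom.id (IsLocalRing.ResidueField R) (IsLocalRing.ResidueField R)) φ) := by
  classical
  obtain ⟨ι, hι, A, hA, algA, hloc, ⟨Φ⟩⟩ := Groth.Agent.H4.H4_finite_henselian_pi_alg R S₂
  let π : ∀ i, S₂ →ₐ[R] A i := fun i => (Pi.evalAlgHom R A i).comp Φ.toAlgHom
  have hπ : ∀ i y, π i y = Φ y i := fun i y => rfl
  have hπsurj : ∀ i, Function.Surjective (π i) := fun i a =>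
    ⟨Φ.symm (Pi.single i a), by rw [hπ, AlgEquiv.apply_symm_apply, Pi.single_eq_same]⟩
  haveI : ∀ i, Module.Finite R (A i) := fun i =>
    Module.Finite.of_surjective (π i).toLinearMap (hπsurj i)
  haveI : ∀ i, HenselianLocalRing (A i) := fun i => Groth.Agent.S0505.result R (A i)
  haveI : ∀ i, Algebra.FormallyUnramified R (A i) := fun i =>
    Algebra.FormallyUnramified.of_surjective (π i) (hπsurj i)
  haveI hlh : ∀ i, IsLocalHom (algebraMap R (A i)) := by
    intro i
    haveI : Algebra.IsIntegral R (A i) := Algebra.IsIntegral.of_finite R (A i)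
    have h1 : ((IsLocalRing.maximalIdeal (A i)).comap (algebraMap R (A i))).IsMaximal :=
      Ideal.isMaximal_comap_of_isIntegral_of_isMaximal _
    exact ((IsLocalRing.local_hom_TFAE (algebraMap R (A i))).out 0 4).mpr
      (IsLocalRing.eq_maximalIdeal h1)
  have hmax : ∀ i, (IsLocalRing.maximalIdeal R).map (algebraMap R (A i)) =
      IsLocalRing.maximalIdeal (A i) := fun i => Algebra.FormallyUnramified.map_maximalIdeal
  -- membership in `m S₂`
  have hsub : ∀ y : S₂, y ∈ (IsLocalRing.maximalIdeal R) • (⊤ : Submodule R S₂) →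
      ∀ i, π i y ∈ IsLocalRing.maximalIdeal (A i) := by
    intro y hy i
    refine Submodule.smul_induction_on hy ?_ ?_
    · intro r hr n _
      rw [map_smul, Algebra.smul_def]
      exact Ideal.mul_mem_right _ _ (map_nonunit (algebraMap R (A i)) r hr)
    · intro x z hx hz
      rw [map_add]
      exact Ideal.add_mem _ hx hz
  have hsup : ∀ y : S₂, (∀ i, π i y ∈ IsLocalRing.maximalIdeal (A i)) →
      y ∈ (IsLocalRing.maximalIdeal R) • (⊤ : Submodule R S₂) := by
    intro y hy
    have hsum : y = ∑ i, Φ.symm (Pi.single i (Φ y i)) := by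
      apply Φ.injective
      rw [map_sum]
      simp only [AlgEquiv.apply_symm_apply]
      exact (Finset.univ_sum_single (Φ y)).symm
    rw [hsum]
    apply Submodule.sum_mem
    intro i _
    have h1 : Φ y i ∈ (IsLocalRing.maximalIdeal R) • (⊤ : Submodule R (A i)) := by
      rw [Ideal.smul_top_eq_map, hmax i]
      exact hy i
    refine Submodule.smul_induction_on h1 ?_ ?_
    · intro r hr a _
      have : Φ.symm (Pi.single i (r • a)) = r • Φ.symm (Pi.single i a) := by
        rw [← map_smul]
        congr 1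
        exact Pi.single_smul i r a
      rw [this]
      exact Submodule.smul_mem_smul hr Submodule.mem_top
    · intro a b ha hb
      rw [Pi.single_add, map_add]
      exact Submodule.add_mem _ ha hb
  constructor
  · -- injective
    intro φ φ' hφ
    have hx : ∀ x, φ x - φ' x ∈ (IsLocalRing.maximalIdeal R) • (⊤ : Submodule R S₂) := by
      intro x
      rw [← Groth.Agent.H4.H4_one_tmul_eq_zero_iff, TensorProduct.tmul_sub, sub_eq_zero]
      have := AlgHom.congr_fun hφ ((1 : IsLocalRing.ResidueField R) ⊗ₜ[R] x)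
      simpa using this
    have hcomp : ∀ i, (π i).comp φ = (π i).comp φ' := by
      intro i
      apply Groth.Agent.H4.H4_unramified_algHom_ext_of_residue
      intro x
      rw [← sub_eq_zero, ← map_sub, IsLocalRing.residue_eq_zero_iff]
      show π i (φ x) - π i (φ' x) ∈ _
      rw [← map_sub]
      exact hsub _ (hx x) i
    ext x
    apply Φ.injective
    funext i
    exact AlgHom.congr_fun (hcomp i) x
  · -- surjective
    intro ψ
    let ρ : ∀ i, IsLocalRing.ResidueField R ⊗[R] S₂ →ₐ[R] IsLocalRing.ResidueField (A i) := fun i =>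
      Algebra.TensorProduct.productMap
        (IsScalarTower.toAlgHom R (IsLocalRing.ResidueField R) (IsLocalRing.ResidueField (A i)))
        ((IsScalarTower.toAlgHom R (A i) (IsLocalRing.ResidueField (A i))).comp (π i))
    have hρ : ∀ i y, ρ i ((1 : IsLocalRing.ResidueField R) ⊗ₜ[R] y) =
        IsLocalRing.residue (A i) (π i y) := by
      intro i y
      simp only [ρ, Algebra.TensorProduct.productMap_apply_tmul, map_one, one_mul]
      rfl
    let g : ∀ i, S₁ →ₐ[R] IsLocalRing.ResidueField (A i) := fun i =>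
      ((ρ i).comp (ψ.restrictScalars R)).comp Algebra.TensorProduct.includeRight
    have hg : ∀ i x, g i x = ρ i (ψ ((1 : IsLocalRing.ResidueField R) ⊗ₜ[R] x)) := fun i x => rfl
    have hex : ∀ i, ∃ f : S₁ →ₐ[R] A i, ∀ a, IsLocalRing.residue (A i) (f a) = g i a := fun i =>
      Groth.Agent.H4.H4_etale_exists_lift_of_residue (g i)
    choose φi hφi using hex
    let φ : S₁ →ₐ[R] S₂ := Φ.symm.toAlgHom.comp (Pi.algHom R A φi)
    have hφ : ∀ i x, π i (φ x) = φi i x := by
      intro i x
      show Φ (Φ.symm (Pi.algHom R A φi x)) i = _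
      rw [AlgEquiv.apply_symm_apply]
      rfl
    refine ⟨φ, ?_⟩
    apply Algebra.TensorProduct.ext'
    intro c x
    obtain ⟨y, hy⟩ := Groth.Agent.H4.H4_exists_one_tmul (ψ ((1 : IsLocalRing.ResidueField R) ⊗ₜ[R] x))
    have hkey : (1 : IsLocalRing.ResidueField R) ⊗ₜ[R] φ x = ψ (1 ⊗ₜ[R] x) := by
      rw [← hy, ← sub_eq_zero, ← TensorProduct.tmul_sub,
        Groth.Agent.H4.H4_one_tmul_eq_zero_iff]
      apply hsup
      intro i
      rw [← IsLocalRing.residue_eq_zero_iff, map_sub, map_sub, sub_eq_zero, hφ, hφi, hg, ← hy, hρ]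
    have hc : c ⊗ₜ[R] x = c • ((1 : IsLocalRing.ResidueField R) ⊗ₜ[R] x) := by
      rw [TensorProduct.smul_tmul', smul_eq_mul, mul_one]
    rw [hc, map_smul, map_smul, ← hkey]
    simp

end Groth.Agent.S0519
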