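import Groth.Statements.S0528
import Mathlib.Dynamics.Newton
import Mathlib.RingTheory.Polynomial.Basic
import Mathlib.Algebra.Polynomial.Lifts

set_option autoImplicit false
universe u
open Hensel

namespace Groth.Agent.S0528

/-- A unit plus an element of the Jacobson radical is a unit. -/
theorem isUnit_add_jac {A : Type u} [CommRing A] {v j : A} (hv : IsUnit v)
    (hj : j ∈ Ideal.jacobson (⊥ : Ideal A)) : IsUnit (v + j) := by
  obtain ⟨w, rfl⟩ := hv
  have h := Ideal.mem_jacobson_bot.mp hj (↑w⁻¹)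
  have : (w : A) + j = w * (j * ↑w⁻¹ + 1) := by
    rw [mul_add, mul_one, mul_comm j, ← mul_assoc, Units.mul_inv, one_mul, add_comm]
  rw [this]
  exact w.isUnit.mul h

/-- If `a` is a root of `f`, `a - a₀` lies in an ideal `K` inside the Jacobson radical and
`f'(a₀)` is a unit, then `a - a₀` is a multiple of `f(a₀)`. -/
theorem root_sub_mem {A : Type u} [CommRing A] (f : Polynomial A) (a a₀ : A) (K : Ideal A)
    (hK : K ≤ Ideal.jacobson ⊥) (ha : f.eval a = 0) (haK : a - a₀ ∈ K)
    (hu : IsUnit (f.derivative.eval a₀)) (I : Ideal A) (hI : f.eval a₀ ∈ I) : a - a₀ ∈ I := by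
  obtain ⟨k, hk⟩ := Polynomial.binomExpansion f a (a₀ - a)
  have h1 : f.derivative.eval a - f.derivative.eval a₀ ∈ K := by
    obtain ⟨c, hc⟩ := Polynomial.sub_dvd_eval_sub a a₀ f.derivative
    rw [hc]; exact K.mul_mem_right _ haK
  have h2 : k * (a₀ - a) ∈ K := by
    have : a₀ - a = -(a - a₀) := by ring
    rw [this]; exact K.mul_mem_left _ (K.neg_mem haK)
  have hunit : IsUnit (f.derivative.eval a + k * (a₀ - a)) := by
    have : f.derivative.eval a + k * (a₀ - a) =
        f.derivative.eval a₀ + ((f.derivative.eval a - f.derivative.eval a₀) + k * (a₀ - a)) := by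
      ring
    rw [this]
    exact isUnit_add_jac hu (hK (K.add_mem h1 h2))
  have heq : f.eval a₀ = (a₀ - a) * (f.derivative.eval a + k * (a₀ - a)) := by
    have : a + (a₀ - a) = a₀ := by ring
    rw [this, ha] at hk
    rw [hk]; ring
  obtain ⟨u, hu'⟩ := hunit
  have h3 : a₀ - a = f.eval a₀ * ↑u⁻¹ := by
    rw [heq, ← hu', mul_assoc, Units.mul_inv, mul_one]
  have h4 : a - a₀ = -(a₀ - a) := by ring
  rw [h4, h3]
  exact I.neg_mem (I.mul_mem_right _ hI)

/-- A surjective ring hom whose kernel lies in the Jacobson radical reflects units. -/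
theorem isUnit_of_map_of_ker_le_jac {A B : Type u} [CommRing A] [CommRing B] (φ : A →+* B)
    (hφ : Function.Surjective φ) (hker : RingHom.ker φ ≤ Ideal.jacobson ⊥) {x : A}
    (hx : IsUnit (φ x)) : IsUnit x := by
  obtain ⟨z, hz⟩ := isUnit_iff_exists_inv.mp hx
  obtain ⟨y, rfl⟩ := hφ z
  have h1 : x * y - 1 ∈ RingHom.ker φ := by
    rw [RingHom.mem_ker, map_sub, map_mul, hz, map_one, sub_self]
  have h2 : IsUnit (x * y) := Ideal.isUnit_of_sub_one_mem_jacobson_bot _ (hker h1)
  exact isUnit_of_mul_isUnit_left h2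

theorem mk_isUnit_of_le_jac {A : Type u} [CommRing A] (K : Ideal A) (hK : K ≤ Ideal.jacobson ⊥)
    {x : A} (hx : IsUnit (Ideal.Quotient.mk K x)) : IsUnit x :=
  isUnit_of_map_of_ker_le_jac (Ideal.Quotient.mk K) Ideal.Quotient.mk_surjective
    (by rw [Ideal.mk_ker]; exact hK) hx

/-- For ideals `I ≤ J` of `A`, the ring `A` is Henselian at `J` exactly when `A` is Henselian at `I` and
`A/I` is Henselian at the image of `J`. -/
theorem result (A : Type u) [CommRing A] (I J : Ideal A) (hIJ : I ≤ J) :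
    HenselianRing A J ↔
      (HenselianRing A I ∧ HenselianRing (A ⧸ I) (Ideal.map (Ideal.Quotient.mk I) J)) := by
  have F1 : ∀ x : A, Ideal.Quotient.mk I x ∈ Ideal.map (Ideal.Quotient.mk I) J ↔ x ∈ J :=
    fun x => Ideal.mem_quotient_iff_mem hIJ
  constructor
  · intro H
    have hJ : J ≤ Ideal.jacobson ⊥ := H.jac
    have hI : I ≤ Ideal.jacobson ⊥ := hIJ.trans hJ
    refine ⟨⟨hI, ?_⟩, ⟨?_, ?_⟩⟩
    · intro f hf a₀ h₁ h₂
      have hu : IsUnit (f.derivative.eval a₀) := mk_isUnit_of_le_jac I hI h₂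
      obtain ⟨a, ha, haJ⟩ := H.is_henselian f hf a₀ (hIJ h₁) (hu.map _)
      exact ⟨a, ha, root_sub_mem f a a₀ J hJ ha haJ hu I h₁⟩
    · intro x hx
      obtain ⟨x, rfl⟩ := Ideal.Quotient.mk_surjective x
      rw [Ideal.mem_jacobson_bot]
      intro y
      obtain ⟨y, rfl⟩ := Ideal.Quotient.mk_surjective y
      have := Ideal.mem_jacobson_bot.mp (hJ ((F1 x).mp hx)) y
      simpa using this.map (Ideal.Quotient.mk I)
    · intro fb hfb ab₀ h₁ h₂
      obtain ⟨f, hfmap, -, hf⟩ := Polynomial.lifts_and_natDegree_eq_and_monic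
        ((Polynomial.mem_lifts _).mpr (Polynomial.map_surjective _ Ideal.Quotient.mk_surjective fb)) hfb
      obtain ⟨a₀, rfl⟩ := Ideal.Quotient.mk_surjective ab₀
      subst hfmap
      rw [Polynomial.eval_map_apply, F1] at h₁
      rw [Polynomial.derivative_map, Polynomial.eval_map_apply] at h₂
      have hker : RingHom.ker ((Ideal.Quotient.mk (Ideal.map (Ideal.Quotient.mk I) J)).comp
          (Ideal.Quotient.mk I)) ≤ Ideal.jacobson ⊥ := by
        intro x hx
        rw [RingHom.mem_ker, RingHom.comp_apply, Ideal.Quotient.eq_zero_iff_mem, F1] at hx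
        exact hJ hx
      have hu : IsUnit (f.derivative.eval a₀) :=
        isUnit_of_map_of_ker_le_jac ((Ideal.Quotient.mk (Ideal.map (Ideal.Quotient.mk I) J)).comp
          (Ideal.Quotient.mk I)) ((Ideal.Quotient.mk_surjective).comp
          Ideal.Quotient.mk_surjective) hker h₂
      obtain ⟨a, ha, haJ⟩ := H.is_henselian f hf a₀ h₁ (hu.map _)
      refine ⟨Ideal.Quotient.mk I a, ?_, ?_⟩
      · rw [Polynomial.IsRoot, Polynomial.eval_map_apply, ha, map_zero]
      · rw [← map_sub]; exact Ideal.mem_map_of_mem _ haJ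
  · rintro ⟨HI, HJ'⟩
    have hI : I ≤ Ideal.jacobson ⊥ := HI.jac
    have hJ : J ≤ Ideal.jacobson ⊥ := by
      intro x hx
      rw [Ideal.mem_jacobson_bot]
      intro y
      have h1 : Ideal.Quotient.mk I x ∈ Ideal.jacobson (⊥ : Ideal (A ⧸ I)) :=
        HJ'.jac ((F1 x).mpr hx)
      have h2 := Ideal.mem_jacobson_bot.mp h1 (Ideal.Quotient.mk I y)
      rw [← map_mul, ← map_one (Ideal.Quotient.mk I), ← map_add] at h2
      exact mk_isUnit_of_le_jac I hI h2
    refine ⟨hJ, ?_⟩
    intro f hf a₀ h₁ h₂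
    have hu : IsUnit (f.derivative.eval a₀) := mk_isUnit_of_le_jac J hJ h₂
    obtain ⟨bb, hbb, hbbJ⟩ := HJ'.is_henselian (f.map (Ideal.Quotient.mk I)) (hf.map _)
      (Ideal.Quotient.mk I a₀) (by rw [Polynomial.eval_map_apply, F1]; exact h₁)
      (by rw [Polynomial.derivative_map, Polynomial.eval_map_apply]; exact (hu.map _).map _)
    obtain ⟨b, rfl⟩ := Ideal.Quotient.mk_surjective bb
    rw [← map_sub, F1] at hbbJ
    rw [Polynomial.IsRoot, Polynomial.eval_map_apply, Ideal.Quotient.eq_zero_iff_mem] at hbb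
    have hub : IsUnit (f.derivative.eval b) := by
      have h1 : f.derivative.eval b - f.derivative.eval a₀ ∈ J := by
        obtain ⟨c, hc⟩ := Polynomial.sub_dvd_eval_sub b a₀ f.derivative
        rw [hc]; exact J.mul_mem_right _ hbbJ
      have : f.derivative.eval b = f.derivative.eval a₀ +
          (f.derivative.eval b - f.derivative.eval a₀) := by ring
      rw [this]
      exact isUnit_add_jac hu (hJ h1)
    obtain ⟨a, ha, haI⟩ := HI.is_henselian f hf b hbb (hub.map _)
    refine ⟨a, ha, ?_⟩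
    have : a - a₀ = (a - b) + (b - a₀) := by ring
    rw [this]
    exact J.add_mem (hIJ haI) hbbJ

end Groth.Agent.S0528
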