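import Groth.Statements.S0525
import Groth.Agent.S0527
import Groth.Agent.S0528

set_option autoImplicit false
universe u
open Hensel

namespace Groth.Agent.S0525

theorem henselian_radical_iff (A : Type u) [CommRing A] (I : Ideal A) :
    HenselianRing A I.radical ↔ HenselianRing A I := by
  rw [Groth.Agent.S0528.result A I I.radical Ideal.le_radical]
  refine ⟨fun h => h.1, fun h => ⟨h, ?_⟩⟩
  apply Groth.Agent.S0527.result
  intro x hx
  obtain ⟨x, rfl⟩ := Ideal.Quotient.mk_surjective x
  rw [Ideal.mem_quotient_iff_mem Ideal.le_radical] at hx
  obtain ⟨n, hn⟩ := hx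
  refine ⟨n, ?_⟩
  rw [← map_pow, Ideal.Quotient.eq_zero_iff_mem]
  exact hn

/-- If two ideals of a ring have the same radical (the same closed set), the ring is Henselian at one
exactly when it is Henselian at the other. -/
theorem result (A : Type u) [CommRing A] (I J : Ideal A)
    (h : I.radical = J.radical) : HenselianRing A I ↔ HenselianRing A J := by
  rw [← henselian_radical_iff A I, ← henselian_radical_iff A J, h]

end Groth.Agent.S0525
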