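import Groth.Statements.S0530
import Mathlib
import Groth.Agent.Lib.helper5.HenselQuot

set_option autoImplicit false
universe u
open Hensel

namespace Groth.Agent.S0530

/-- If `A` is Henselian at `I` and `p` is a prime ideal of `A`, then the spectrum of `A/(p + I)` is
connected. -/
theorem result (A : Type u) [CommRing A] (I : Ideal A) [HenselianRing A I]
    (p : Ideal A) [p.IsPrime] : ConnectedSpace (PrimeSpectrum (A ⧸ p ⊔ I)) := by
  classical
  have hjac : I ≤ Ideal.jacobson ⊥ := HenselianRing.jac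
  have hne : p ⊔ I ≠ ⊤ := by
    intro htop
    have h1 : (1 : A) ∈ p ⊔ I := by rw [htop]; trivial
    obtain ⟨x, hx, y, hy, hxy⟩ := Submodule.mem_sup.1 h1
    have hu : IsUnit ((-y) * 1 + 1) := Ideal.mem_jacobson_bot.1 (hjac (I.neg_mem hy)) 1
    have : (-y) * 1 + 1 = x := by linear_combination (-1 : A) * hxy
    rw [this] at hu
    exact (Ideal.IsPrime.ne_top ‹p.IsPrime›) (Ideal.eq_top_of_isUnit_mem p hx hu)
  haveI : Nontrivial (A ⧸ p ⊔ I) := Ideal.Quotient.nontrivial_iff.2 hne
  have hidem : ∀ e : A ⧸ p ⊔ I, IsIdempotentElem e → e = 0 ∨ e = 1 := by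
    intro e he
    obtain ⟨a, rfl⟩ := Ideal.Quotient.mk_surjective e
    have hmem : a * a - a ∈ p ⊔ I := by
      rw [← Ideal.Quotient.eq, map_mul]; exact he
    obtain ⟨x, hx, y, hy, hxy⟩ := Submodule.mem_sup.1 hmem
    haveI hB : HenselianRing (A ⧸ p) (I.map (Ideal.Quotient.mk p)) :=
      H5HG.henselian_of_surjective I (Ideal.Quotient.mk p) Ideal.Quotient.mk_surjective
    obtain ⟨b, hb⟩ : ∃ b : A ⧸ p, b = Ideal.Quotient.mk p a := ⟨_, rfl⟩
    have hbb : b * b - b ∈ I.map (Ideal.Quotient.mk p) := by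
      have : b * b - b = Ideal.Quotient.mk p y := by
        rw [hb, ← map_mul, ← map_sub, ← hxy, map_add, Ideal.Quotient.eq_zero_iff_mem.2 hx,
          zero_add]
      rw [this]; exact Ideal.mem_map_of_mem _ hy
    rcases H5HG.mem_or_one_sub_mem (I.map (Ideal.Quotient.mk p)) b hbb with hbI | hbI
    · left
      obtain ⟨i, hi, hib⟩ :=
        (Ideal.mem_map_iff_of_surjective _ Ideal.Quotient.mk_surjective).1 hbI
      have h3 : i - a ∈ p := Ideal.Quotient.eq.1 (hib.trans hb)
      rw [Ideal.Quotient.eq_zero_iff_mem]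
      have ha : a = i - (i - a) := by ring
      rw [ha]
      exact (p ⊔ I).sub_mem (Ideal.mem_sup_right hi) (Ideal.mem_sup_left h3)
    · right
      obtain ⟨i, hi, hib⟩ :=
        (Ideal.mem_map_iff_of_surjective _ Ideal.Quotient.mk_surjective).1 hbI
      have h3 : i - (1 - a) ∈ p := by
        apply Ideal.Quotient.eq.1
        rw [hib, hb, map_sub, map_one]
      rw [← map_one (Ideal.Quotient.mk (p ⊔ I)), Ideal.Quotient.eq]
      have ha : a - 1 = (i - (1 - a)) - i := by ring
      rw [ha]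
      exact (p ⊔ I).sub_mem (Ideal.mem_sup_left h3) (Ideal.mem_sup_right hi)
  have hpre : PreconnectedSpace (PrimeSpectrum (A ⧸ p ⊔ I)) := by
    rw [preconnectedSpace_iff_clopen]
    intro s hs
    obtain ⟨e, he, rfl⟩ := PrimeSpectrum.isClopen_iff.1 hs
    rcases hidem e he with rfl | rfl
    · left; simp
    · right; simp
  exact { toPreconnectedSpace := hpre, toNonempty := inferInstance }

end Groth.Agent.S0530
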