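import Groth.Statements.S0531
import Groth.Agent.S0528

set_option autoImplicit false
universe u
open Hensel

namespace Groth.Agent.S0531

open Groth.Agent.S0528 in
/-- The sum of two ideals at which `A` is Henselian is again such an ideal. -/
theorem henselian_sup (A : Type u) [CommRing A] (J₁ J₂ : Ideal A)
    (H₁ : HenselianRing A J₁) (H₂ : HenselianRing A J₂) : HenselianRing A (J₁ ⊔ J₂) := by
  have hJ : J₁ ⊔ J₂ ≤ Ideal.jacobson ⊥ := sup_le H₁.jac H₂.jac
  refine ⟨hJ, ?_⟩
  intro f hf a₀ h₁ h₂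
  rcases subsingleton_or_nontrivial A with hA | hA
  · exact ⟨a₀, Subsingleton.elim _ _, by rw [Subsingleton.elim (a₀ - a₀) 0]; exact Ideal.zero_mem _⟩
  have hu : IsUnit (f.derivative.eval a₀) := mk_isUnit_of_le_jac _ hJ h₂
  obtain ⟨j₁, hj₁, j₂, hj₂, hsum⟩ := Submodule.mem_sup.mp h₁
  have hdeg : 0 < f.degree := by
    rw [← Polynomial.natDegree_pos_iff_degree_pos]
    by_contra hcon
    have h0 : f.natDegree = 0 := by omega
    have h1 : f = 1 := by
      rw [Polynomial.eq_C_of_natDegree_eq_zero h0]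
      have : f.coeff 0 = 1 := by
        have := hf.coeff_natDegree
        rwa [h0] at this
      rw [this, Polynomial.C_1]
    rw [h1, Polynomial.eval_one] at h₁
    have h2 : (1 : A) ∈ Ideal.jacobson (⊥ : Ideal A) := hJ h₁
    have h3 := Ideal.mem_jacobson_bot.mp h2 (-1)
    simp at h3
  have hg : (f - Polynomial.C j₂).Monic := by
    apply hf.sub_of_left
    exact lt_of_le_of_lt Polynomial.degree_C_le hdeg
  have hgd : (f - Polynomial.C j₂).derivative = f.derivative := by simp
  obtain ⟨b, hb, hbJ⟩ := H₁.is_henselian (f - Polynomial.C j₂) hg a₀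
    (by rw [Polynomial.eval_sub, Polynomial.eval_C, ← hsum]; simpa using hj₁)
    (by rw [hgd]; exact hu.map _)
  have hfb : f.eval b = j₂ := by
    rw [Polynomial.IsRoot, Polynomial.eval_sub, Polynomial.eval_C, sub_eq_zero] at hb
    exact hb
  have hub : IsUnit (f.derivative.eval b) := by
    have h1 : f.derivative.eval b - f.derivative.eval a₀ ∈ J₁ := by
      obtain ⟨c, hc⟩ := Polynomial.sub_dvd_eval_sub b a₀ f.derivative
      rw [hc]; exact J₁.mul_mem_right _ hbJ
    have : f.derivative.eval b = f.derivative.eval a₀ +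
        (f.derivative.eval b - f.derivative.eval a₀) := by ring
    rw [this]
    exact isUnit_add_jac hu (H₁.jac h1)
  obtain ⟨a, ha, haJ⟩ := H₂.is_henselian f hf b (by rw [hfb]; exact hj₂) (hub.map _)
  refine ⟨a, ha, ?_⟩
  have : a - a₀ = (b - a₀) + (a - b) := by ring
  rw [this]
  exact Submodule.add_mem_sup hbJ haJ

/-- Every ring has a largest ideal at which it is Henselian. -/
theorem result (A : Type u) [CommRing A] :
    ∃ I : Ideal A, HenselianRing A I ∧ ∀ J : Ideal A, HenselianRing A J → J ≤ I := by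
  set S : Set (Ideal A) := {J | HenselianRing A J} with hS
  have hbot : HenselianRing A (⊥ : Ideal A) := by
    refine ⟨bot_le, ?_⟩
    intro f hf a₀ h₁ h₂
    exact ⟨a₀, by simpa using h₁, by simp⟩
  have hne : S.Nonempty := ⟨⊥, hbot⟩
  have hdir : DirectedOn (· ≤ ·) S := by
    intro J₁ h₁ J₂ h₂
    exact ⟨J₁ ⊔ J₂, henselian_sup A J₁ J₂ h₁ h₂, le_sup_left, le_sup_right⟩
  refine ⟨sSup S, ⟨?_, ?_⟩, fun J hJ => le_sSup hJ⟩
  · exact sSup_le fun J (hJ : HenselianRing A J) => hJ.jac
  · intro f hf a₀ h₁ h₂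
    have hjac : sSup S ≤ Ideal.jacobson ⊥ := sSup_le fun J (hJ : HenselianRing A J) => hJ.jac
    have hu : IsUnit (f.derivative.eval a₀) := Groth.Agent.S0528.mk_isUnit_of_le_jac _ hjac h₂
    obtain ⟨J, hJ, hmem⟩ := (Submodule.mem_sSup_of_directed hne hdir).mp h₁
    have hJ' : HenselianRing A J := hJ
    obtain ⟨a, ha, haJ⟩ := hJ'.is_henselian f hf a₀ hmem (hu.map _)
    exact ⟨a, ha, (le_sSup hJ) haJ⟩

end Groth.Agent.S0531
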