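import Groth.Statements.S0544
import Groth.Statements.S0544
import Mathlib

set_option autoImplicit false
universe u
open CAlg

namespace Groth.Agent.S0544

/-- Let `R` be complete with respect to an ideal `I` and `M` an `R`-module which is `I`-adically
separated and such that `M/IM` is finitely generated. Then `M` is a finitely generated `R`-module. -/
theorem result (R : Type u) [CommRing R]
    (I : Ideal R) [IsAdicComplete I R] (M : Type u) [AddCommGroup M] [Module R M] [IsHausdorff I M]
    (h : Module.Finite R (M ⧸ (I • ⊤ : Submodule R M))) : Module.Finite R M := by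
  classical
  obtain ⟨n, s, hs⟩ := Module.Finite.exists_fin (R := R) (M := M ⧸ (I • ⊤ : Submodule R M))
  have hmem : ∀ (J : Ideal R) (x : Fin n → R), x ∈ (J • ⊤ : Submodule R (Fin n → R)) ↔ ∀ i, x i ∈ J := by
    intro J x
    constructor
    · intro hx i
      have h2 : (LinearMap.proj i : (Fin n → R) →ₗ[R] R) x ∈ Submodule.map (LinearMap.proj i : (Fin n → R) →ₗ[R] R) (J • ⊤) :=
        Submodule.mem_map_of_mem hx
      rw [Submodule.map_smul''] at h2
      have h3 : (J • (Submodule.map (LinearMap.proj i : (Fin n → R) →ₗ[R] R) ⊤) : Submodule R R) ≤ J := by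
        intro y hy
        refine Submodule.smul_induction_on hy (fun r hr a _ => ?_) (fun x y hx hy => J.add_mem hx hy)
        exact J.mul_mem_right _ hr
      exact h3 h2
    · intro hx
      rw [pi_eq_sum_univ x]
      refine Submodule.sum_mem _ (fun i _ => ?_)
      exact Submodule.smul_mem_smul (hx i) Submodule.mem_top
  haveI : IsPrecomplete I (Fin n → R) := by
    refine ⟨fun f hf => ?_⟩
    have hc : ∀ i : Fin n, ∃ L : R, ∀ k, (fun k => f k i) k ≡ L [SMOD (I ^ k • ⊤ : Submodule R R)] := by
      intro i
      refine IsPrecomplete.prec' (I := I) (M := R) (fun k => f k i) ?_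
      intro a b hab
      have := hf hab
      rw [SModEq.sub_mem] at this ⊢
      rw [hmem] at this
      simpa using this i
    choose L hL using hc
    refine ⟨L, fun k => ?_⟩
    rw [SModEq.sub_mem, hmem]
    intro i
    have := hL i k
    rw [SModEq.sub_mem] at this
    simpa using this
  choose m hm using fun i => Submodule.mkQ_surjective (I • ⊤ : Submodule R M) (s i)
  let f : (Fin n → R) →ₗ[R] M := Fintype.linearCombination R m
  have hsurj : Function.Surjective ((Submodule.mkQ (I • ⊤ : Submodule R M)) ∘ₗ f) := by
    rw [← LinearMap.range_eq_top, eq_top_iff, ← hs, Submodule.span_le]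
    rintro _ ⟨i, rfl⟩
    refine ⟨Pi.single i 1, ?_⟩
    simp [f, hm]
  have := surjective_of_mkQ_comp_surjective (I := I) hsurj
  exact Module.Finite.of_surjective f this

end Groth.Agent.S0544
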