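import Groth.Statements.S0547
import Groth.Statements.S0547
import Groth.Agent.Lib.helper9.H9_ComplNoeth

set_option autoImplicit false
universe u
open CAlg

namespace Groth.Agent.S0547

/-- The completion of a Noetherian local ring at its maximal ideal has the same Krull dimension as the
ring. -/
theorem result (A : Type u) [CommRing A] [IsLocalRing A]
    [IsNoetherianRing A] :
    ringKrullDim (AdicCompletion (IsLocalRing.maximalIdeal A) A) = ringKrullDim A := by
  classical
  haveI := Groth.Agent.H9.ComplNoeth.isNoetherianRing_adicCompletion A (IsLocalRing.maximalIdeal A)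
  rw [← IsLocalRing.maximalIdeal_height_eq_ringKrullDim,
    ← IsLocalRing.maximalIdeal_height_eq_ringKrullDim]
  congr 1
  have key := AdicCompletion.maximalIdeal_eq_map (R := A)
  rw [Ideal.height_eq_height_add_of_liesOver_of_hasGoingDown (IsLocalRing.maximalIdeal A)
    (IsLocalRing.maximalIdeal (AdicCompletion (IsLocalRing.maximalIdeal A) A))]
  have hP : (IsLocalRing.maximalIdeal (AdicCompletion (IsLocalRing.maximalIdeal A) A)).map
      (Ideal.Quotient.mk ((IsLocalRing.maximalIdeal A).map
        (algebraMap A (AdicCompletion (IsLocalRing.maximalIdeal A) A)))) = ⊥ := by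
    rw [Ideal.map_eq_bot_iff_le_ker, Ideal.mk_ker]
    exact key.le
  haveI : Nontrivial (AdicCompletion (IsLocalRing.maximalIdeal A) A ⧸
      (IsLocalRing.maximalIdeal A).map
        (algebraMap A (AdicCompletion (IsLocalRing.maximalIdeal A) A))) := by
    apply Ideal.Quotient.nontrivial_iff.2
    rw [← key]
    exact Ideal.IsPrime.ne_top'
  rw [hP, Ideal.height_bot, add_zero]

end Groth.Agent.S0547
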