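import Groth.Statements.S0549
import Groth.Statements.S0549
import Groth.Agent.S0548
import Groth.Agent.Lib.helper9.H9_DVRCompl

set_option autoImplicit false
universe u
open CAlg

namespace Groth.Agent.S0549

/-- A Noetherian local ring is a discrete valuation ring exactly when its completion at the maximal
ideal is a discrete valuation ring. -/
theorem result (A : Type u) [CommRing A] [IsLocalRing A]
    [IsNoetherianRing A] :
    (∃ _ : IsDomain A, IsDiscreteValuationRing A) ↔
      ∃ _ : IsDomain (AdicCompletion (IsLocalRing.maximalIdeal A) A),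
        IsDiscreteValuationRing (AdicCompletion (IsLocalRing.maximalIdeal A) A) := by
  classical
  haveI := Groth.Agent.H9.ComplNoeth.isNoetherianRing_adicCompletion A (IsLocalRing.maximalIdeal A)
  have hinj : Function.Injective (algebraMap A (AdicCompletion (IsLocalRing.maximalIdeal A) A)) :=
    AdicCompletion.of_injective (IsLocalRing.maximalIdeal A) A
  constructor
  · rintro ⟨hdom, hdvr⟩
    have h1 := (Groth.Agent.H9.DVRCompl.dvr_iff_regular_dim_one A).1 hdvr
    -- the completion is a domain
    obtain ⟨π, hπ⟩ := (IsPrincipalIdealRing.principal (IsLocalRing.maximalIdeal A)).principal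
    have hπ' : IsLocalRing.maximalIdeal A = Ideal.span {π} := hπ
    have hπ0 : π ≠ 0 := by
      rintro rfl
      apply IsDiscreteValuationRing.not_isField A
      rw [IsLocalRing.isField_iff_maximalIdeal_eq, hπ']
      exact Ideal.span_singleton_eq_bot.2 rfl
    have hdomC : IsDomain (AdicCompletion (IsLocalRing.maximalIdeal A) A) := by
      apply Groth.Agent.H9.DVRCompl.isDomain_of_principal _
        (algebraMap A (AdicCompletion (IsLocalRing.maximalIdeal A) A) π)
      · rw [AdicCompletion.maximalIdeal_eq_map, hπ', Ideal.map_span, Set.image_singleton]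
      · intro n hn
        rw [← map_pow] at hn
        exact pow_ne_zero n hπ0 (hinj (hn.trans (map_zero _).symm))
    refine ⟨hdomC, ?_⟩
    rw [Groth.Agent.H9.DVRCompl.dvr_iff_regular_dim_one]
    exact ⟨(Groth.Agent.S0548.result A).1 h1.1, (Groth.Agent.S0547.result A).trans h1.2⟩
  · rintro ⟨hdom, hdvr⟩
    have h1 := (Groth.Agent.H9.DVRCompl.dvr_iff_regular_dim_one _).1 hdvr
    have hdomA : IsDomain A := hinj.isDomain _
    refine ⟨hdomA, ?_⟩
    rw [Groth.Agent.H9.DVRCompl.dvr_iff_regular_dim_one]
    exact ⟨(Groth.Agent.S0548.result A).2 h1.1, (Groth.Agent.S0547.result A).symm.trans h1.2⟩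

end Groth.Agent.S0549
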