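import Groth.Statements.S0552
import Mathlib

set_option autoImplicit false
universe u
open CAlg

namespace Groth.Agent.S0552

/-- the order-theoretic catenary property -/
def Cat (α : Type*) [PartialOrder α] : Prop :=
  (∀ p q : α, p ≤ q → ∃ n : ℕ, ∀ s : LTSeries α,
      s.head = p → s.last = q → s.length ≤ n) ∧
  ∀ s t : LTSeries α, s.head = t.head → s.last = t.last →
    (∀ i : Fin s.length, s (Fin.castSucc i) ⋖ s (Fin.succ i)) →
    (∀ i : Fin t.length, t (Fin.castSucc i) ⋖ t (Fin.succ i)) →
    s.length = t.length

theorem cat_iff (R : Type*) [CommRing R] : CAlg.IsCatenary R ↔ Cat (PrimeSpectrum R) := Iff.rfl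

theorem Cat.of_embedding {α β : Type*} [PartialOrder α] [PartialOrder β] (f : α ↪o β)
    (hl : IsLowerSet (Set.range f)) (h : Cat β) : Cat α := by
  refine ⟨fun p q hpq => ?_, fun s t hh hlast hs ht => ?_⟩
  · obtain ⟨n, hn⟩ := h.1 (f p) (f q) (f.monotone hpq)
    refine ⟨n, fun s hs hl' => ?_⟩
    have := hn (s.map f f.strictMono) (by simp [hs]) (by simp [hl'])
    simpa using this
  · have := h.2 (s.map f f.strictMono) (t.map f f.strictMono) (by simp [hh]) (by simp [hlast])
      (fun i => CovBy.image f (hs i) hl.ordConnected)
      (fun i => CovBy.image f (ht i) hl.ordConnected)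
    simpa using this

/-- pull a series lying in the range of an order embedding back -/
noncomputable def pullSeries {α β : Type*} [PartialOrder α] [PartialOrder β] (f : α ↪o β)
    (s : LTSeries β) (hs : ∀ j, s j ∈ Set.range f) : LTSeries α where
  length := s.length
  toFun j := Classical.choose (hs j)
  step j := by
    have h1 := Classical.choose_spec (hs (Fin.castSucc j))
    have h2 := Classical.choose_spec (hs j.succ)
    have := s.step j
    change s (Fin.castSucc j) < s j.succ at this
    rw [← h1, ← h2] at this
    exact f.lt_iff_lt.mp this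

theorem pullSeries_apply {α β : Type*} [PartialOrder α] [PartialOrder β] (f : α ↪o β)
    (s : LTSeries β) (hs : ∀ j, s j ∈ Set.range f) (j : Fin (s.length + 1)) :
    f ((pullSeries f s hs) j) = s j := Classical.choose_spec (hs j)

theorem Cat.of_family {β : Type*} [PartialOrder β] {ι : Type*} (A : ι → Type*)
    [∀ i, PartialOrder (A i)] (f : ∀ i, A i ↪o β) (hl : ∀ i, IsLowerSet (Set.range (f i)))
    (hc : ∀ q : β, ∃ i, q ∈ Set.range (f i)) (h : ∀ i, Cat (A i)) : Cat β := by
  have key : ∀ (i : ι) (s : LTSeries β), s.last ∈ Set.range (f i) → ∀ j, s j ∈ Set.range (f i) := by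
    intro i s hs j
    exact hl i (s.monotone (Fin.le_last j)) hs
  refine ⟨fun p q hpq => ?_, fun s t hh hlast hs ht => ?_⟩
  · obtain ⟨i, q', rfl⟩ := hc q
    obtain ⟨p', rfl⟩ := hl i hpq ⟨q', rfl⟩
    obtain ⟨n, hn⟩ := (h i).1 p' q' ((f i).le_iff_le.mp hpq)
    refine ⟨n, fun s hs hl' => ?_⟩
    have hmem := key i s (by rw [hl']; exact ⟨q', rfl⟩)
    have := hn (pullSeries (f i) s hmem)
      ((f i).injective (by rw [← hs]; exact pullSeries_apply (f i) s hmem _))
      ((f i).injective (by rw [← hl']; exact pullSeries_apply (f i) s hmem _))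
    exact this
  · obtain ⟨i, hi⟩ := hc s.last
    have hmems := key i s hi
    have hmemt := key i t (hlast ▸ hi)
    refine (h i).2 (pullSeries (f i) s hmems) (pullSeries (f i) t hmemt) ?_ ?_ ?_ ?_
    · apply (f i).injective
      rw [show (pullSeries (f i) s hmems).head = (pullSeries (f i) s hmems) 0 from rfl,
        show (pullSeries (f i) t hmemt).head = (pullSeries (f i) t hmemt) 0 from rfl,
        pullSeries_apply, pullSeries_apply]
      exact hh
    · apply (f i).injective
      rw [show (pullSeries (f i) s hmems).last = (pullSeries (f i) s hmems) (Fin.last _) from rfl,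
        show (pullSeries (f i) t hmemt).last = (pullSeries (f i) t hmemt) (Fin.last _) from rfl,
        pullSeries_apply, pullSeries_apply]
      exact hlast
    · intro j
      apply CovBy.of_image (f i)
      rw [pullSeries_apply, pullSeries_apply]
      exact hs j
    · intro j
      apply CovBy.of_image (f i)
      rw [pullSeries_apply, pullSeries_apply]
      exact ht j

/-- The order embedding of the spectrum of a localization. -/
noncomputable def locEmb (R : Type*) [CommRing R] (m : Ideal R) [m.IsPrime] :
    PrimeSpectrum (Localization.AtPrime m) ↪o PrimeSpectrum R :=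
  OrderEmbedding.ofMapLEIff (PrimeSpectrum.comap (algebraMap R (Localization.AtPrime m)))
    (fun a b => by
      show a.asIdeal.comap _ ≤ b.asIdeal.comap _ ↔ a.asIdeal ≤ b.asIdeal
      exact (IsLocalization.orderEmbedding m.primeCompl (Localization.AtPrime m)).le_iff_le)

theorem locEmb_range (R : Type*) [CommRing R] (m : Ideal R) [m.IsPrime] :
    Set.range (locEmb R m) = {p | p.asIdeal ≤ m} := by
  have := PrimeSpectrum.localization_comap_range (Localization.AtPrime m) m.primeCompl
  show Set.range (PrimeSpectrum.comap (algebraMap R (Localization.AtPrime m))) = _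
  rw [this]
  ext p
  simp only [Set.mem_ofPred_eq]
  rw [Set.disjoint_left]
  constructor
  · intro h x hx
    by_contra hxm
    exact h hxm hx
  · intro h x hx hx'
    exact hx (h hx')

/-- A ring is catenary exactly when its localization at every maximal ideal is catenary. -/
theorem result (R : Type u) [CommRing R] :
    CAlg.IsCatenary R ↔ ∀ (m : Ideal R) [m.IsMaximal], CAlg.IsCatenary (Localization.AtPrime m) := by
  constructor
  · intro h m _
    rw [cat_iff] at h ⊢
    refine Cat.of_embedding (locEmb R m) ?_ h
    rw [locEmb_range]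
    intro a b hba ha
    exact le_trans (show b.asIdeal ≤ a.asIdeal from hba) ha
  · intro h
    rw [cat_iff]
    refine Cat.of_family (ι := {m : Ideal R // m.IsMaximal})
      (fun m => PrimeSpectrum (@Localization.AtPrime R _ m.1 m.2.isPrime))
      (fun m => @locEmb R _ m.1 m.2.isPrime) ?_ ?_ ?_
    · intro m
      have := m.2.isPrime
      rw [locEmb_range]
      intro a b hba ha
      exact le_trans (show b.asIdeal ≤ a.asIdeal from hba) ha
    · intro q
      obtain ⟨m, hm, hqm⟩ := Ideal.exists_le_maximal q.asIdeal q.2.ne_top
      refine ⟨⟨m, hm⟩, ?_⟩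
      have := hm.isPrime
      rw [locEmb_range]
      exact hqm
    · intro m
      have := m.2
      exact (cat_iff _).mp (h m.1)

end Groth.Agent.S0552
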