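import Groth.Statements.S0553
import Mathlib
import Groth.Agent.Lib.helper4.UnivCat

set_option autoImplicit false
universe u
open CAlg

namespace Groth.Agent.S0553

/-- A Noetherian ring is universally catenary exactly when its localization at every maximal ideal is
universally catenary. -/
theorem result (R : Type u) [CommRing R]
    [IsNoetherianRing R] :
    CAlg.IsUniversallyCatenary R ↔
      ∀ (m : Ideal R) [m.IsMaximal], CAlg.IsUniversallyCatenary (Localization.AtPrime m) := by
  constructor
  · intro hR m _
    exact Groth.Agent.H4.H4_univCat_localization R m.primeCompl (Localization.AtPrime m) hR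
  · intro h
    apply Groth.Agent.H4.H4_univCat_of_local
    intro p
    obtain ⟨m, hm, hpm⟩ := Ideal.exists_le_maximal p.asIdeal p.2.ne_top
    exact ⟨⟨m, hm.isPrime⟩, hpm, h m⟩

end Groth.Agent.S0553
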