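import Groth.Statements.S0574
import Mathlib

set_option autoImplicit false
universe u
open CAlg

namespace Groth.Agent.S0574

/-- For Noetherian domains of characteristic zero the conditions N-1 and N-2 coincide. -/
theorem result (R : Type u) [CommRing R] [IsDomain R] [IsNoetherianRing R]
    [CharZero R] : CAlg.IsN1 R ↔ CAlg.IsN2 R := by
  constructor
  · intro h1 L _ _ _ _ hfd
    let K := FractionRing R
    let R' : Subalgebra R K := integralClosure R K
    have hfin : Module.Finite R R' := h1
    have : IsIntegrallyClosed R' := integralClosure.isIntegrallyClosedOfFiniteExtension (R := R) K
    have : IsFractionRing R' K := integralClosure.isFractionRing_of_finite_extension K K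
    have : IsNoetherianRing R' := by
      have : IsNoetherian R R' := isNoetherian_of_isNoetherianRing_of_finite R R'
      exact isNoetherianRing_iff.mpr (isNoetherian_of_tower R this)
    have : CharZero K := inferInstance
    have : Algebra.IsSeparable K L := inferInstance
    let C' : Subalgebra R' L := integralClosure R' L
    have hfin' : Module.Finite R' C' := IsIntegralClosure.finite R' K L C'
    have hfin'' : Module.Finite R C' := Module.Finite.trans R' C'
    have heq : integralClosure R L = C'.restrictScalars R := by
      ext x
      simp only [Subalgebra.mem_restrictScalars]
      constructor
      · intro hx
        exact IsIntegral.tower_top hx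
      · intro hx
        exact isIntegral_trans x hx
    rw [heq]
    exact hfin''
  · intro h2
    exact h2 (FractionRing R) inferInstance

end Groth.Agent.S0574
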