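import Groth.Statements.S0579
import Mathlib
import Groth.Agent.Lib.helper4.SubfieldLift
import Groth.Agent.Lib.helper4.FiniteHenselian

set_option autoImplicit false
universe u
open CAlg

namespace Groth.Agent.S0579

/-- A local ring which is complete with respect to its maximal ideal and whose residue field has
characteristic zero admits a coefficient field: there is a ring homomorphism from the residue field
to the ring which is a section of the residue map. -/
theorem result (R : Type u) [CommRing R] [IsLocalRing R]
    [IsAdicComplete (IsLocalRing.maximalIdeal R) R] [CharZero (IsLocalRing.ResidueField R)] :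
    ∃ s : IsLocalRing.ResidueField R →+* R, (IsLocalRing.residue R).comp s = RingHom.id _ := by
  classical
  haveI : HenselianLocalRing R := Groth.Agent.H4.H4_henselianLocalRing_of_henselianRing R
  have hint : ∀ y : nonZeroDivisors ℤ, IsUnit (Int.castRingHom R y) := by
    intro y
    by_contra hnu
    have h1 := (IsLocalRing.mem_maximalIdeal _).mpr hnu
    rw [← IsLocalRing.residue_eq_zero_iff] at h1
    have h2 : IsLocalRing.residue R (Int.castRingHom R y) =
        ((y : ℤ) : IsLocalRing.ResidueField R) := by simp
    rw [h2, Int.cast_eq_zero] at h1
    exact (nonZeroDivisors.ne_zero y.2) h1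
  let j : ℚ →+* R := IsLocalization.lift hint
  obtain ⟨S, hS₀S, hS, -, hmax⟩ := Groth.Agent.H4.H4_exists_maximal_subfield (fun _ => True)
    (fun _ _ _ _ => trivial) j.range (Groth.Agent.H4.H4_isSubfield_range j) trivial
  letI : Field S := (Groth.Agent.H4.H4_isField_of_isSubfield hS).toField
  let ρ : S →+* IsLocalRing.ResidueField R := (IsLocalRing.residue R).comp S.subtype
  have hsurj : ∀ e : IsLocalRing.ResidueField R, ∃ a ∈ S, IsLocalRing.residue R a = e := by
    intro e
    obtain ⟨a, rfl⟩ := IsLocalRing.residue_surjective e
    by_cases htr : ∀ q : Polynomial S, q ≠ 0 →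
        Polynomial.eval₂ ρ (IsLocalRing.residue R a) q ≠ 0
    · exact ⟨a, Groth.Agent.H4.H4_maximal_subfield_transcendental (fun _ => True) S hS hmax a htr
        (fun _ _ _ _ _ => trivial), rfl⟩
    · push Not at htr
      obtain ⟨q, hq0, hq⟩ := htr
      letI : Algebra S (IsLocalRing.ResidueField R) := ρ.toAlgebra
      have halg : IsAlgebraic S (IsLocalRing.residue R a) :=
        ⟨q, hq0, by rw [Polynomial.aeval_def]; exact hq⟩
      have hint' := halg.isIntegral
      haveI : CharZero S := RingHom.charZero ρ
      have hPirr : Irreducible (minpoly S (IsLocalRing.residue R a)) := minpoly.irreducible hint'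
      have hPsep : (minpoly S (IsLocalRing.residue R a)).Separable := hPirr.separable
      exact Groth.Agent.H4.H4_maximal_subfield_separable (fun _ => True) S hS hmax
        (IsLocalRing.residue R a) (minpoly S (IsLocalRing.residue R a)) hPirr (minpoly.monic hint')
        (by
          have := minpoly.aeval S (IsLocalRing.residue R a)
          rw [Polynomial.aeval_def] at this
          exact this)
        (by
          have := hPsep.aeval_derivative_ne_zero (minpoly.aeval S (IsLocalRing.residue R a))
          rw [Polynomial.aeval_def] at this
          exact this)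
        (fun _ _ _ _ _ _ _ => trivial)
  have hbij : Function.Bijective ρ := ⟨ρ.injective, fun e => by
    obtain ⟨a, ha, rfl⟩ := hsurj e
    exact ⟨⟨a, ha⟩, rfl⟩⟩
  let eq := RingEquiv.ofBijective ρ hbij
  refine ⟨S.subtype.comp eq.symm.toRingHom, ?_⟩
  ext e
  show IsLocalRing.residue R (S.subtype (eq.symm e)) = e
  exact eq.apply_symm_apply e

end Groth.Agent.S0579
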