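import Groth.Statements.S0643

set_option autoImplicit false
universe u
open EtCore

namespace Groth.Agent.S0643

open Polynomial in
/-- Let A be a ring, assumed nonzero here (the published statement does not say so; over the zero ring
no polynomial has positive degree in Lean's sense), and a, b elements generating the unit ideal such
that some positive power of a is congruent to 1 modulo b. Then there is a monic polynomial P of
positive degree over A such that in B = A[y]/(P) the element a - b y is a unit. -/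
theorem result (A : Type u) [CommRing A] [Nontrivial A] (a b : A) (hab : IsCoprime a b)
    (hroot : ∃ n : ℕ, 0 < n ∧ a ^ n - 1 ∈ Ideal.span ({b} : Set A)) :
    ∃ P : A[X], P.Monic ∧ 0 < P.natDegree ∧
      IsUnit (algebraMap A (AdjoinRoot P) a - algebraMap A (AdjoinRoot P) b * AdjoinRoot.root P) := by
  obtain ⟨n, hn, hmem⟩ := hroot
  obtain ⟨c, hc⟩ := Ideal.mem_span_singleton'.mp hmem
  -- hc : c * b = a ^ n - 1
  obtain ⟨u, v, huv⟩ := IsCoprime.pow (m := n - 1) (n := n - 1) hab
  -- huv : u * a ^ (n-1) + v * b ^ (n-1) = 1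
  set q : A := -c * u with hq
  set r : A := -c * v with hr
  have hkey : a ^ n + q * b * a ^ (n - 1) + r * b ^ n = 1 := by
    have hbn : b ^ n = b * b ^ (n - 1) := by
      rw [← pow_succ', Nat.sub_add_cancel hn]
    have : q * b * a ^ (n - 1) + r * b ^ n = -(c * b) * (u * a ^ (n - 1) + v * b ^ (n - 1)) := by
      rw [hbn, hq, hr]; ring
    rw [add_assoc, this, huv, hc]; ring
  obtain ⟨P, hP⟩ : ∃ P : A[X], P = X ^ n + (C q * X ^ (n - 1) + C r) := ⟨_, rfl⟩
  have hdeg : (C q * X ^ (n - 1) + C r : A[X]).degree < n := by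
    refine lt_of_le_of_lt (degree_add_le _ _) (max_lt ?_ ?_)
    · refine lt_of_le_of_lt (degree_C_mul_X_pow_le _ _) ?_
      exact_mod_cast Nat.sub_lt hn Nat.one_pos
    · refine lt_of_le_of_lt degree_C_le ?_
      exact_mod_cast hn
  have hmonic : P.Monic := by rw [hP]; exact monic_X_pow_add hdeg
  have hnat : P.natDegree = n := by
    rw [hP, natDegree_add_eq_left_of_degree_lt (by rw [degree_X_pow]; exact hdeg), natDegree_X_pow]
  refine ⟨P, hmonic, by rw [hnat]; exact hn, ?_⟩
  set Y := AdjoinRoot.root P with hY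
  set φ := algebraMap A (AdjoinRoot P) with hφ
  have hroot : Y ^ n + (φ q * Y ^ (n - 1) + φ r) = 0 := by
    have h := AdjoinRoot.eval₂_root P
    conv at h => lhs; arg 3; rw [hP]
    simpa [eval₂_add, eval₂_mul, eval₂_pow, eval₂_X, eval₂_C, ← AdjoinRoot.algebraMap_eq] using h
  have hbn : φ b ^ n = φ b * φ b ^ (n - 1) := by
    rw [← pow_succ', Nat.sub_add_cancel hn]
  have h1 : (φ b * Y) ^ n + φ q * φ b * (φ b * Y) ^ (n - 1) + φ r * φ b ^ n = 0 := by
    have : (φ b * Y) ^ n + φ q * φ b * (φ b * Y) ^ (n - 1) + φ r * φ b ^ n =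
        φ b ^ n * (Y ^ n + (φ q * Y ^ (n - 1) + φ r)) := by
      rw [mul_pow, mul_pow, hbn]; ring
    rw [this, hroot, mul_zero]
  have h2 : φ a ^ n + φ q * φ b * φ a ^ (n - 1) + φ r * φ b ^ n = 1 := by
    have := congrArg φ hkey
    simpa using this
  have h3 : (φ a ^ n - (φ b * Y) ^ n) + φ q * φ b * (φ a ^ (n - 1) - (φ b * Y) ^ (n - 1)) = 1 := by
    rw [← h2, ← sub_zero (φ a ^ n + φ q * φ b * φ a ^ (n - 1) + φ r * φ b ^ n), ← h1]; ring
  have hdvd : (φ a - φ b * Y) ∣ 1 := by
    rw [← h3]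
    exact dvd_add (sub_dvd_pow_sub_pow _ _ _) (Dvd.dvd.mul_left (sub_dvd_pow_sub_pow _ _ _) _)
  exact isUnit_of_dvd_one hdvd

end Groth.Agent.S0643
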