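import Groth.Statements.S0703
import Mathlib
import Groth.Agent.Lib.helper4.SpecPi0

set_option autoImplicit false
open Topology
universe u
open ProEtW

namespace Groth.Agent.S0703

/-- Let X be a spectral space, T a profinite space and g : T -> pi_0(X) continuous; let Y be the fibre
product of X and T over pi_0(X) (pairs (x, t) with [x] = g t, subspace topology). Then Y is spectral
and the projection Y -> T induces a homeomorphism pi_0(Y) = T. -/
theorem result (X T : Type u) [TopologicalSpace X] [SpectralSpace X]
    [TopologicalSpace T] [CompactSpace T] [T2Space T] [TotallyDisconnectedSpace T]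
    (g : C(T, _root_.ConnectedComponents X)) :
    SpectralSpace {p : X × T // _root_.ConnectedComponents.mk p.1 = g p.2} ∧
      ∃ e : _root_.ConnectedComponents {p : X × T // _root_.ConnectedComponents.mk p.1 = g p.2} ≃ₜ T,
        ∀ y : {p : X × T // _root_.ConnectedComponents.mk p.1 = g p.2}, e (_root_.ConnectedComponents.mk y) = y.1.2 := by
  haveI : SpectralSpace T := Groth.Agent.H4.H4_spectralSpace_of_profinite
  haveI : SpectralSpace (X × T) := Groth.Agent.H4.H4_spectralSpace_prod
  haveI : T2Space (_root_.ConnectedComponents X) :=
    Groth.Agent.H4.H4_t2Space_connectedComponents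
  have hcl : IsClosed {p : X × T | _root_.ConnectedComponents.mk p.1 = g p.2} :=
    isClosed_eq (ConnectedComponents.continuous_coe.comp continuous_fst)
      (g.continuous.comp continuous_snd)
  have hsp : SpectralSpace {p : X × T // _root_.ConnectedComponents.mk p.1 = g p.2} :=
    _root_.H4.H4_spectralSpace_of_isClosed_constr (_root_.H4.H4_isClosed_constr_of_isClosed hcl)
  refine ⟨hsp, ?_⟩
  haveI := hsp
  have hq : Continuous (fun y : {p : X × T // _root_.ConnectedComponents.mk p.1 = g p.2} =>
      y.1.2) := continuous_snd.comp continuous_subtype_val
  have hqb : Continuous hq.connectedComponentsLift := hq.connectedComponentsLift_continuous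
  have hqb_apply : ∀ y : {p : X × T // _root_.ConnectedComponents.mk p.1 = g p.2},
      hq.connectedComponentsLift (_root_.ConnectedComponents.mk y) = y.1.2 :=
    fun y => hq.connectedComponentsLift_apply_coe y
  have hbij : Function.Bijective hq.connectedComponentsLift := by
    constructor
    · intro a b
      obtain ⟨y, rfl⟩ := ConnectedComponents.surjective_coe a
      obtain ⟨y', rfl⟩ := ConnectedComponents.surjective_coe b
      intro h
      have h' : y.1.2 = y'.1.2 := by
        have h1 := hqb_apply y
        have h2 := hqb_apply y'
        exact h1.symm.trans (h.trans h2)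
      have hmem : ∀ c : ↥(connectedComponent y.1.1),
          _root_.ConnectedComponents.mk c.1 = g y.1.2 := fun c =>
        (ConnectedComponents.coe_eq_coe'.2 c.2).trans y.2
      let j : ↥(connectedComponent y.1.1) →
          {p : X × T // _root_.ConnectedComponents.mk p.1 = g p.2} :=
        fun c => ⟨(c.1, y.1.2), hmem c⟩
      have hj : Continuous j :=
        Continuous.subtype_mk (continuous_subtype_val.prodMk continuous_const) _
      haveI : PreconnectedSpace ↥(connectedComponent y.1.1) :=
        Subtype.preconnectedSpace isPreconnected_connectedComponent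
      have hpre : IsPreconnected (Set.range j) := isPreconnected_range hj
      have hy : y ∈ Set.range j := ⟨⟨y.1.1, mem_connectedComponent⟩, rfl⟩
      have hy'c : y'.1.1 ∈ connectedComponent y.1.1 := by
        apply ConnectedComponents.coe_eq_coe'.1
        have := y'.2
        rw [← h'] at this
        exact this.trans y.2.symm
      have hy' : y' ∈ Set.range j := by
        refine ⟨⟨y'.1.1, hy'c⟩, ?_⟩
        apply Subtype.ext
        exact Prod.ext rfl h'
      have hsub := hpre.subset_connectedComponent hy
      exact (ConnectedComponents.coe_eq_coe'.2 (hsub hy')).symm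
    · intro t
      obtain ⟨x, hx⟩ := ConnectedComponents.surjective_coe (g t)
      exact ⟨_root_.ConnectedComponents.mk ⟨(x, t), hx⟩, hqb_apply _⟩
  exact ⟨Continuous.homeoOfEquivCompactToT2 (f := Equiv.ofBijective _ hbij) hqb,
    fun y => hqb_apply y⟩

end Groth.Agent.S0703
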