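import Groth.Statements.S0704
import Mathlib
import Groth.Agent.Lib.helper4.SpecPi0
import Groth.Agent.S0703

set_option autoImplicit false
open Topology
universe u
open ProEtW

namespace Groth.Agent.S0704

/-- With X, T, g and the fibre product Y of X and T over pi_0(X) as in the first part, if X is moreover
w-local then Y is w-local, the projection Y -> X is w-local, and the closed points of Y are exactly
the points mapping to closed points of X. -/
theorem result (X T : Type u) [TopologicalSpace X]
    [TopologicalSpace T] [CompactSpace T] [T2Space T] [TotallyDisconnectedSpace T]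
    (hX : ProEtW.IsWLocal X) (g : C(T, _root_.ConnectedComponents X)) :
    ProEtW.IsWLocal {p : X × T // _root_.ConnectedComponents.mk p.1 = g p.2} ∧
      ProEtW.IsWLocalMap (fun y : {p : X × T // _root_.ConnectedComponents.mk p.1 = g p.2} => y.1.1) ∧
      ProEtW.closedPoints {p : X × T // _root_.ConnectedComponents.mk p.1 = g p.2} =
        (fun y : {p : X × T // _root_.ConnectedComponents.mk p.1 = g p.2} => y.1.1) ⁻¹' ProEtW.closedPoints X := by
  obtain ⟨hspX, hX0cl, huniq⟩ := hX
  haveI := hspX
  obtain ⟨hspY, -⟩ := Groth.Agent.S0703.result X T g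
  haveI : T2Space (_root_.ConnectedComponents X) :=
    Groth.Agent.H4.H4_t2Space_connectedComponents
  have hcl : IsClosed {p : X × T | _root_.ConnectedComponents.mk p.1 = g p.2} :=
    isClosed_eq (ConnectedComponents.continuous_coe.comp continuous_fst)
      (g.continuous.comp continuous_snd)
  -- specialization in Y
  have hspec : ∀ y y' : {p : X × T // _root_.ConnectedComponents.mk p.1 = g p.2},
      y ⤳ y' ↔ y.1.1 ⤳ y'.1.1 ∧ y.1.2 = y'.1.2 := by
    intro y y'
    rw [subtype_specializes_iff]
    have : (y.1 ⤳ y'.1) ↔ (y.1.1, y.1.2) ⤳ (y'.1.1, y'.1.2) := Iff.rfl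
    rw [this, specializes_prod]
    exact and_congr Iff.rfl specializes_iff_eq
  -- specialization keeps the connected component
  have hcomp : ∀ x x' : X, x ⤳ x' →
      _root_.ConnectedComponents.mk x' = _root_.ConnectedComponents.mk x := by
    intro x x' h
    apply ConnectedComponents.coe_eq_coe'.2
    have hpre : IsPreconnected (closure ({x} : Set X)) := isPreconnected_singleton.closure
    exact hpre.subset_connectedComponent (subset_closure rfl) (specializes_iff_mem_closure.1 h)
  -- closed points
  have hclosed_iff : ∀ {Z : Type u} [TopologicalSpace Z] (z : Z),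
      IsClosed ({z} : Set Z) ↔ ∀ z' : Z, z ⤳ z' → z' = z := by
    intro Z _ z
    constructor
    · intro h z' hz'
      have := specializes_iff_mem_closure.1 hz'
      rw [h.closure_eq] at this
      exact this
    · intro h
      rw [← closure_subset_iff_isClosed]
      intro z' hz'
      exact h z' (specializes_iff_mem_closure.2 hz')
  have hA : ∀ y : {p : X × T // _root_.ConnectedComponents.mk p.1 = g p.2},
      IsClosed ({y} : Set {p : X × T // _root_.ConnectedComponents.mk p.1 = g p.2}) ↔
      IsClosed ({y.1.1} : Set X) := by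
    intro y
    rw [hclosed_iff, hclosed_iff]
    constructor
    · intro h x' hx'
      have hmem : _root_.ConnectedComponents.mk x' = g y.1.2 := (hcomp _ _ hx').trans y.2
      have h1 := h ⟨(x', y.1.2), hmem⟩ ((hspec _ _).2 ⟨hx', rfl⟩)
      exact congrArg (fun z : {p : X × T // _root_.ConnectedComponents.mk p.1 = g p.2} =>
        z.1.1) h1
    · intro h y' hy'
      obtain ⟨h1, h2⟩ := (hspec _ _).1 hy'
      apply Subtype.ext
      exact Prod.ext (h _ h1) h2.symm
  have hp : Continuous (fun y : {p : X × T // _root_.ConnectedComponents.mk p.1 = g p.2} =>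
      y.1.1) := continuous_fst.comp continuous_subtype_val
  refine ⟨⟨hspY, ?_, ?_⟩, ⟨⟨hp, ?_⟩, ?_⟩, ?_⟩
  · have : {y : {p : X × T // _root_.ConnectedComponents.mk p.1 = g p.2} |
        IsClosed ({y} : Set _)} = (fun y => y.1.1) ⁻¹' {x : X | IsClosed ({x} : Set X)} := by
      ext y; exact hA y
    rw [this]
    exact hX0cl.preimage hp
  · intro y
    obtain ⟨x₀, ⟨hx₀cl, hx₀⟩, hx₀u⟩ := huniq y.1.1
    have hmem : _root_.ConnectedComponents.mk x₀ = g y.1.2 := (hcomp _ _ hx₀).trans y.2
    refine ⟨⟨(x₀, y.1.2), hmem⟩, ⟨(hA _).2 hx₀cl, (hspec _ _).2 ⟨hx₀, rfl⟩⟩, ?_⟩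
    rintro z ⟨hzcl, hz⟩
    obtain ⟨h1, h2⟩ := (hspec _ _).1 hz
    have hz0 : z.1.1 = x₀ := hx₀u _ ⟨(hA z).1 hzcl, h1⟩
    apply Subtype.ext
    exact Prod.ext hz0 h2.symm
  · intro U hUo hUc
    have hemb : Topology.IsClosedEmbedding (Subtype.val :
        {p : X × T // _root_.ConnectedComponents.mk p.1 = g p.2} → X × T) :=
      hcl.isClosedEmbedding_subtypeVal
    have := hemb.isCompact_preimage (hUc.prod (isCompact_univ (X := T)))
    convert this using 1
    ext y
    simp
  · intro y hy
    exact (hA y).1 hy
  · ext y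
    exact hA y

end Groth.Agent.S0704
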