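import Groth.Statements.S0736
import Mathlib
import Groth.Agent.Lib.helper4.IndEtaleWeakly2

set_option autoImplicit false
open CategoryTheory CategoryTheory.Limits AlgebraicGeometry Opposite Topology
universe u
open ProEtW

namespace Groth.Agent.S0736

/-- An ind-etale ring map A -> B is weakly etale (A -> B and B (x)_A B -> B flat), in Mathlib's sense
Algebra.WeaklyEtale. -/
theorem result (A B : Type u) [CommRing A] [CommRing B] [Algebra A B]
    (h : EtPBC.IsIndEtale A B) : Algebra.WeaklyEtale A B := by
  obtain ⟨J, _, _, D, c, hc, het, ⟨e⟩⟩ := h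
  refine Groth.Agent.H4.H4_weaklyEtale_of_under_colimit A B J D c hc ?_ e
  intro j
  letI := (D.obj j).hom.hom.toAlgebra
  haveI : Algebra.Etale A (D.obj j).right := het j
  infer_instance

end Groth.Agent.S0736
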