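import Groth.Statements.S0738

set_option autoImplicit false
open Topology
universe u
open ProEtW

namespace Groth.Agent.S0738

open Topology in
theorem quasiSeparatedSpace_of_isClosedEmbedding {X Y : Type u} [TopologicalSpace X]
    [TopologicalSpace Y] [QuasiSeparatedSpace X] [PrespectralSpace X] (f : Y → X)
    (hf : IsClosedEmbedding f) : QuasiSeparatedSpace Y := by
  have key : ∀ U : Set Y, IsOpen U → IsCompact U → ∃ W : Set X, IsCompact W ∧ IsOpen W ∧ f ⁻¹' W = U := by
    intro U hUo hUc
    obtain ⟨U', hU'o, rfl⟩ := hf.isInducing.isOpen_iff.mp hUo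
    obtain ⟨W, hWc, hWo, hKW, hWU⟩ := PrespectralSpace.exists_isCompact_and_isOpen_between
      (hUc.image hf.continuous) hU'o (Set.image_preimage_subset f U')
    refine ⟨W, hWc, hWo, ?_⟩
    apply Set.Subset.antisymm
    · exact Set.preimage_mono hWU
    · intro y hy
      exact hKW ⟨y, hy, rfl⟩
  constructor
  intro U V hUo hUc hVo hVc
  obtain ⟨W, hWc, hWo, rfl⟩ := key U hUo hUc
  obtain ⟨W', hW'c, hW'o, rfl⟩ := key V hVo hVc
  rw [← Set.preimage_inter]
  exact hf.isCompact_preimage (QuasiSeparatedSpace.inter_isCompact W W' hWo hWc hW'o hW'c)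

open Topology in
theorem spectralSpace_of_isClosedEmbedding {X Y : Type u} [TopologicalSpace X]
    [TopologicalSpace Y] [SpectralSpace X] (f : Y → X) (hf : IsClosedEmbedding f) :
    SpectralSpace Y where
  __ := hf.quasiSober
  __ := PrespectralSpace.of_isClosedEmbedding f hf
  __ := quasiSeparatedSpace_of_isClosedEmbedding f hf
  __ := hf.isEmbedding.t0Space
  __ := hf.compactSpace

/-- A closed subset of a w-local spectral space is w-local (with the subspace topology). -/
theorem result (X : Type u) [TopologicalSpace X] (hX : ProEtW.IsWLocal X)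
    (Y : Set X) (hY : IsClosed Y) : ProEtW.IsWLocal ↥Y := by
  obtain ⟨hS, hcl, huniq⟩ := hX
  have hemb : Topology.IsClosedEmbedding (Subtype.val : Y → X) := hY.isClosedEmbedding_subtypeVal
  have hpt : ∀ y : Y, IsClosed ({y} : Set Y) ↔ IsClosed ({(y : X)} : Set X) := by
    intro y
    rw [hemb.isClosed_iff_image_isClosed, Set.image_singleton]
  refine ⟨spectralSpace_of_isClosedEmbedding _ hemb, ?_, ?_⟩
  · have : {y : Y | IsClosed ({y} : Set Y)} = Subtype.val ⁻¹' {x : X | IsClosed ({x} : Set X)} := by
      ext y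
      exact hpt y
    rw [this]
    exact hcl.preimage continuous_subtype_val
  · intro y
    obtain ⟨z, ⟨hz1, hz2⟩, hz3⟩ := huniq y
    have hzY : z ∈ Y := by
      have : z ∈ closure ({(y : X)} : Set X) := hz2.mem_closure
      exact (closure_minimal (Set.singleton_subset_iff.mpr y.2) hY) this
    refine ⟨⟨z, hzY⟩, ⟨(hpt _).mpr hz1, ?_⟩, ?_⟩
    · exact (hemb.isInducing.specializes_iff (x := y) (y := ⟨z, hzY⟩)).mp hz2
    · rintro w ⟨hw1, hw2⟩
      apply Subtype.ext
      apply hz3
      exact ⟨(hpt w).mp hw1, (hemb.isInducing.specializes_iff).mpr hw2⟩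

end Groth.Agent.S0738
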