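import Groth.Statements.S0781
import Groth.Agent.Lib.DiagOpen

set_option autoImplicit false
open CategoryTheory CategoryTheory.Limits AlgebraicGeometry Opposite
universe u
open Desc

namespace Groth.Agent.S0781

/-- If p : X → S is a surjective morphism of schemes, then for schemes U₁, U₂ étale over S, two
S-morphisms U₁ → U₂ whose base changes to X agree, as morphisms of canonical descent data relative
to p, are equal; that is, the canonical-descent-datum functor is faithful on schemes étale over S.
(Descent data are taken in functor-of-points form, equivalent by the Yoneda lemma to an isomorphism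
over X ×_S X satisfying the cocycle condition.) -/
theorem result {X S : Scheme.{u}} (p : X ⟶ S) [Surjective p] (U₁ U₂ : Over S)
    [Etale U₁.hom] [Etale U₂.hom] : Function.Injective ((Desc.toDD p).map : (U₁ ⟶ U₂) → _) := by
  intro φ ψ h
  have h1 : ((Desc.toDD p).map φ).hom.left = ((Desc.toDD p).map ψ).hom.left := by rw [h]
  have h2 : pullback.snd p U₁.hom ≫ φ.left = pullback.snd p U₁.hom ≫ ψ.left := by
    have := congr($h1 ≫ pullback.snd p U₂.hom)
    simp only [Desc.toDD, Over.homMk_left, pullback.map] at this
    erw [pullback.lift_snd, pullback.lift_snd] at this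
    exact this
  have hfg : φ.left ≫ U₂.hom = ψ.left ≫ U₂.hom := by rw [Over.w, Over.w]
  have : φ.left = ψ.left :=
    Groth.Agent.Lib.DiagOpen.eq_of_surjective_comp_eq U₂.hom φ.left ψ.left hfg
      (pullback.snd p U₁.hom) h2
  exact Over.OverMorphism.ext this

end Groth.Agent.S0781
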