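import Groth.Statements.S0858
import Groth.Agent.Lib.CechInjSite

set_option autoImplicit false
universe u
open CategoryTheory
open CohSite

namespace Groth.Agent.S0858

open CategoryTheory.Limits in
/-- On a site with fibre products, for a covering family Y_i -> U and an injective abelian sheaf I, the
Cech cohomology groups of I with respect to the family vanish in all positive degrees. -/
theorem result {C : Type u} [SmallCategory C] [HasPullbacks C]
    (J : GrothendieckTopology C) (I : Sheaf J AddCommGrpCat.{u}) [Injective I]
    {U : C} {ι : Type u} (Y : ι → Over U)
    (hY : Sieve.ofArrows (fun i => (Y i).left) (fun i => (Y i).hom) ∈ J U) (p : ℕ) :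
    IsZero (CohCx.cechH I.obj Y (p + 1)) := by
  haveI := Groth.Agent.Cech.injective_sheaf_obj J I
  haveI := Groth.Agent.Cech.injective_over_restr U I.obj
  exact Groth.Agent.Cech.isZero_homology_of_injective (P := (Over.forget U).op ⋙ I.obj) Y p

end Groth.Agent.S0858
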