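import Groth.Statements.S0919
import Mathlib

set_option autoImplicit false
universe v u
open CategoryTheory
open CohDer

namespace Groth.Agent.S0919

open CategoryTheory.Limits in
/-- Let A be a Grothendieck abelian category and F a contravariant functor from A to sets (a functor on
the opposite category). Then F is representable if and only if F turns all small colimits of A into
limits, i.e. preserves small limits as a functor on the opposite category. -/
theorem result {A : Type u} [Category.{v} A] [Abelian A]
    [IsGrothendieckAbelian.{v} A] (F : Aᵒᵖ ⥤ Type v) :
    F.IsRepresentable ↔ PreservesLimitsOfSize.{v, v} F := by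
  constructor
  · intro h
    exact preservesLimits_of_natIso F.reprW
  · intro h
    have hcolim : PreservesColimitsOfSize.{v, v} F.rightOp := preservesColimitsOfSize_rightOp F
    have hadj : F.rightOp.IsLeftAdjoint :=
      isLeftAdjoint_of_preservesColimits_of_isSeparating
        (P := ObjectProperty.singleton (separator A)) (isSeparator_separator A) F.rightOp
    let adj := Adjunction.ofIsLeftAdjoint F.rightOp
    let R : A := (F.rightOp.rightAdjoint).obj (Opposite.op PUnit.{v + 1})
    let e : ∀ X : A, (F.rightOp.obj X ⟶ Opposite.op PUnit.{v + 1}) ≃ F.obj (Opposite.op X) :=
      fun X =>
        { toFun := fun g => g.unop PUnit.unit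
          invFun := fun t => (TypeCat.ofHom (fun _ => t)).op
          left_inv := fun g => by
            apply Quiver.Hom.unop_inj
            ext ⟨⟩
            rfl
          right_inv := fun t => rfl }
    refine ⟨R, ⟨{ homEquiv := fun {X} =>
        ((adj.homEquiv X (Opposite.op PUnit.{v + 1})).symm).trans (e X)
                  homEquiv_comp := ?_ }⟩⟩
    intro X X' f g
    simp only [Equiv.trans_apply]
    rw [Adjunction.homEquiv_naturality_left_symm]
    rfl

end Groth.Agent.S0919
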