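import Groth.Statements.S0925
import Groth.Agent.Lib.ClosedAdj

set_option autoImplicit false
universe u
open CategoryTheory
open CohTop

namespace Groth.Agent.S0925

open TopologicalSpace in
/-- For an open U of X with closed complement Z and an injective abelian sheaf I on X, the sheaf H_Z(I),
the sheaf on Z of sections of I supported in Z (pullback to Z of the kernel of I -> j_* j^{-1} I, j
: U -> X), is an injective abelian sheaf on Z. -/
theorem result {X : TopCat.{u}} (U : Opens X) (I : CohTop.Ab X) [Injective I] :
    Injective (CohCx.HZ U I) := by
  have : (CohTop.push (CohCx.inclCompl U)).PreservesMonomorphisms :=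
    Functor.preservesMonomorphisms_of_adjunction
      (Groth.Agent.CohTopBasics.pullPushAdj (CohCx.inclCompl U))
  exact Injective.injective_of_adjoint (Groth.Agent.GSS.closedAdj U) I


end Groth.Agent.S0925
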