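import Groth.Statements.S0978
import Mathlib
import Groth.Agent.Lib.helper2.CompactEnv
import Groth.Agent.Lib.helper2.HocolimPres

set_option autoImplicit false
universe v u
open CategoryTheory
open CohDer

namespace Groth.Agent.S0978

open CategoryTheory.Limits in
/-- Let D be a triangulated category with all small direct sums and E a compact object. Then E generates
D (an object admitting only zero maps from all shifts of E is zero) if and only if D is compactly
generated and every compact object lies in the triangulated envelope of E (objects reachable from E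
by shifts, finite sums, direct summands and extensions). -/
theorem result {D : Type u} [Category.{v} D] [Preadditive D] [Limits.HasZeroObject D] [HasShift D ℤ]
    [∀ n : ℤ, (shiftFunctor D n).Additive] [Pretriangulated D] [IsTriangulated D] [HasCoproducts.{v} D]
    [HasColimitsOfShape (Discrete ℕ) D]
    (E : D) (hE : CohDer.IsCompactObject E) :
    CohDer.Generates (fun _ : Unit => E) ↔
      (CohDer.IsCompactlyGenerated D ∧ ∀ X : D, CohDer.IsCompactObject X → ObjectProperty.triangEnvelope (fun Y : D => Y = E) X) := by
  constructor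
  · intro hgen
    have hgen' : CohDer.Generates (fun _ : PUnit.{v + 1} => E) := by
      intro K hK
      exact hgen K (fun _ n f => hK PUnit.unit n f)
    refine ⟨⟨PUnit.{v + 1}, fun _ => E, fun _ => hE, hgen'⟩, ?_⟩
    intro X hX
    obtain ⟨K, f, i, ⟨c, hT⟩, h0, hstep⟩ :=
      Groth.Agent.H2.H2_hocolim_presentation (fun _ : PUnit.{v + 1} => E) (fun _ => hE) hgen' X
    obtain ⟨N, a, ha⟩ := Groth.Agent.H2.H2_hocolim_factor K f (Limits.Sigma.desc i) c hT hX (𝟙 X)
    rw [Limits.Sigma.ι_desc] at ha
    obtain ⟨E'', g₁, h₁, hE'', hfac⟩ :=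
      Groth.Agent.H2.H2_PFact_stages (fun _ => hE) K f h0 hstep N X hX a
    have hret : Groth.Agent.H2.H2_FinEnv (fun _ : PUnit.{v + 1} => E) X :=
      Groth.Agent.H2.H2_FinEnv_retract ⟨g₁, h₁ ≫ i N, by
        rw [← Category.assoc, hfac, ← ha]⟩ hE''
    obtain ⟨s, hs⟩ := hret
    exact ObjectProperty.monotone_triangEnvelope (fun Y ⟨_, _, e⟩ => e) X hs
  · rintro ⟨⟨ι', E', hc', hg'⟩, henv⟩
    intro K hK
    apply hg'
    intro j n α
    have h1 : ObjectProperty.triangEnvelope (fun Y : D => Y = E) ≤ Groth.Agent.H2.H2_LOrth K := by
      rw [ObjectProperty.triangEnvelope_le_iff]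
      intro Y hY
      have hY' : Y = E := hY
      subst hY'
      intro n α
      exact hK () n α
    exact h1 _ (henv _ (hc' j)) n α

end Groth.Agent.S0978
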