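import Groth.Statements.S0982
import Mathlib
import Groth.Agent.Lib.helper2.TStr

set_option autoImplicit false
universe w v u
open CategoryTheory CategoryTheory.Limits
open CohDer

namespace Groth.Agent.S0982

/-- Let K : ℕ ⥤ CochainComplex A ℤ be a sequence of cochain maps K₀ → K₁ → K₂ → … in an abelian category
with Hⁱ(K₀) = 0 for i > 0 and such that for every j < n the map H⁻ʲ(Kⱼ) → H⁻ʲ(Kⱼ₊₁) is zero. Then in
the derived category the composite K₀ → Kₙ factors through the canonical truncation τ_{≤ -n}Kₙ → Kₙ. -/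
theorem result {A : Type u} [Category.{v} A] [Abelian A] [HasDerivedCategory.{w} A]
    (K : ℕ ⥤ CochainComplex A ℤ) (n : ℕ)
    (h0 : ∀ i : ℤ, 0 < i → IsZero ((K.obj 0).homology i))
    (hz : ∀ j : ℕ, j < n → HomologicalComplex.homologyMap (K.map (homOfLE (Nat.le_succ j))) (-(j : ℤ)) = 0) :
    ∃ φ : DerivedCategory.Q.obj (K.obj 0) ⟶ DerivedCategory.Q.obj ((K.obj n).truncLE (-(n : ℤ))),
      φ ≫ DerivedCategory.Q.map ((K.obj n).ιTruncLE (-(n : ℤ))) = DerivedCategory.Q.map (K.map (homOfLE (Nat.zero_le n))) := by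
  induction n with
  | zero =>
    have hLE : (K.obj 0).IsLE (-((0 : ℕ) : ℤ)) := by
      rw [CochainComplex.isLE_iff]
      intro i hi
      rw [HomologicalComplex.exactAt_iff_isZero_homology]
      exact h0 i (by simpa using hi)
    have hqi : QuasiIso ((K.obj 0).ιTruncLE (-((0 : ℕ) : ℤ))) := inferInstance
    have : IsIso (DerivedCategory.Q.map ((K.obj 0).ιTruncLE (-((0 : ℕ) : ℤ)))) := by
      rw [DerivedCategory.isIso_Q_map_iff_quasiIso]
      exact hqi
    refine ⟨inv (DerivedCategory.Q.map ((K.obj 0).ιTruncLE (-((0 : ℕ) : ℤ)))), ?_⟩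
    rw [IsIso.inv_hom_id]
    have : homOfLE (Nat.zero_le 0) = 𝟙 (0 : ℕ) := Subsingleton.elim _ _
    rw [this, CategoryTheory.Functor.map_id, CategoryTheory.Functor.map_id]
  | succ n ih =>
    obtain ⟨φ, hφ⟩ := ih (fun j hj => hz j (Nat.lt_succ_of_lt hj))
    have hzn := hz n (Nat.lt_succ_self n)
    clear hz ih
    have hcomp : K.map (homOfLE (Nat.zero_le n)) ≫ K.map (homOfLE (Nat.le_succ n)) =
        K.map (homOfLE (Nat.zero_le (n + 1))) := by
      rw [← K.map_comp]
      congr 1
    generalize K.map (homOfLE (Nat.le_succ n)) = f at hzn hcomp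
    generalize K.map (homOfLE (Nat.zero_le n)) = t at hφ hcomp
    generalize K.map (homOfLE (Nat.zero_le (n + 1))) = t' at hcomp
    generalize K.obj n = Kn at *
    generalize K.obj (n + 1) = Kn1 at *
    generalize K.obj 0 = K0 at *
    subst hcomp
    have hg : HomologicalComplex.homologyMap (CochainComplex.truncLEMap f (-(n : ℤ))) (-(n : ℤ)) = 0 := by
      have h1 := congrArg (fun x => HomologicalComplex.homologyMap x (-(n : ℤ)))
        (CochainComplex.ιTruncLE_naturality f (-(n : ℤ)))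
      simp only [HomologicalComplex.homologyMap_comp] at h1
      rw [hzn, Limits.comp_zero] at h1
      have : IsIso (HomologicalComplex.homologyMap (Kn1.ιTruncLE (-(n : ℤ))) (-(n : ℤ))) := by
        rw [← quasiIsoAt_iff_isIso_homologyMap]
        infer_instance
      exact (cancel_mono _).1 (h1.trans Limits.zero_comp.symm)
    obtain ⟨δ, hδ⟩ := Groth.Agent.H2.H2_truncTriangle_dist (Kn1.truncLE (-(n : ℤ)))
      (-((n + 1 : ℕ) : ℤ)) (-(n : ℤ)) (by push_cast; ring)
    have hzero : DerivedCategory.Q.map (CochainComplex.truncLEMap f (-(n : ℤ))) ≫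
        DerivedCategory.Q.map ((Kn1.truncLE (-(n : ℤ))).πTruncGE (-(n : ℤ))) = 0 := by
      apply Groth.Agent.H2.H2_Q_hom_eq_zero_of_homology (-(n : ℤ))
      have h2 := (DerivedCategory.homologyFunctorFactors A (-(n : ℤ))).hom.naturality
        (CochainComplex.truncLEMap f (-(n : ℤ)))
      dsimp at h2
      have h3 : (DerivedCategory.homologyFunctor A (-(n : ℤ))).map
          (DerivedCategory.Q.map (CochainComplex.truncLEMap f (-(n : ℤ)))) = 0 := by
        rw [← cancel_mono ((DerivedCategory.homologyFunctorFactors A (-(n : ℤ))).hom.app _), h2,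
          Limits.zero_comp]
        show _ ≫ HomologicalComplex.homologyMap (CochainComplex.truncLEMap f (-(n : ℤ))) (-(n : ℤ)) = 0
        rw [hg, Limits.comp_zero]
      rw [Functor.map_comp, h3, Limits.zero_comp]
    obtain ⟨ψ, hψ⟩ : ∃ ψ : DerivedCategory.Q.obj K0 ⟶
        DerivedCategory.Q.obj ((Kn1.truncLE (-(n : ℤ))).truncLE (-((n + 1 : ℕ) : ℤ))),
        φ ≫ DerivedCategory.Q.map (CochainComplex.truncLEMap f (-(n : ℤ))) =
          ψ ≫ DerivedCategory.Q.map ((Kn1.truncLE (-(n : ℤ))).ιTruncLE (-((n + 1 : ℕ) : ℤ))) :=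
      Pretriangulated.Triangle.coyoneda_exact₂ _ hδ
        (φ ≫ DerivedCategory.Q.map (CochainComplex.truncLEMap f (-(n : ℤ))))
        (by
          show (φ ≫ DerivedCategory.Q.map (CochainComplex.truncLEMap f (-(n : ℤ)))) ≫
            DerivedCategory.Q.map ((Kn1.truncLE (-(n : ℤ))).πTruncGE (-(n : ℤ))) = 0
          rw [Category.assoc, hzero, Limits.comp_zero])
    refine ⟨ψ ≫ DerivedCategory.Q.map (CochainComplex.truncLEMap (Kn1.ιTruncLE (-(n : ℤ)))
      (-((n + 1 : ℕ) : ℤ))), ?_⟩
    rw [Category.assoc, ← Functor.map_comp, CochainComplex.ιTruncLE_naturality,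
      Functor.map_comp, ← Category.assoc, ← hψ, Category.assoc, ← Functor.map_comp,
      CochainComplex.ιTruncLE_naturality, Functor.map_comp, ← Category.assoc, hφ,
      ← Functor.map_comp]

end Groth.Agent.S0982
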