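import Groth.Statements.S0983
import Mathlib

set_option autoImplicit false
universe v u
open CategoryTheory
open CohDer

namespace Groth.Agent.S0983


open CategoryTheory CategoryTheory.Limits Opposite

open CategoryTheory.Pretriangulated

theorem main {D : Type u} [Category.{v} D] [Preadditive D] [Limits.HasZeroObject D] [HasShift D ℤ]
    [∀ n : ℤ, (shiftFunctor D n).Additive] [Pretriangulated D] [IsTriangulated D]
    {X Y X' Y' : D} (f : X ⟶ Y) (f' : X' ⟶ Y') (u : X ⟶ X') (v : Y ⟶ Y') (comm : f ≫ v = u ≫ f') :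
    ∃ (Z Z' X'' Y'' Z'' : D) (g : Y ⟶ Z) (h : Z ⟶ (shiftFunctor D (1 : ℤ)).obj X)
      (g' : Y' ⟶ Z') (h' : Z' ⟶ (shiftFunctor D (1 : ℤ)).obj X')
      (f'' : X'' ⟶ Y'') (g'' : Y'' ⟶ Z'') (h'' : Z'' ⟶ (shiftFunctor D (1 : ℤ)).obj X'')
      (u' : X' ⟶ X'') (u'' : X'' ⟶ (shiftFunctor D (1 : ℤ)).obj X)
      (v' : Y' ⟶ Y'') (v'' : Y'' ⟶ (shiftFunctor D (1 : ℤ)).obj Y)
      (w : Z ⟶ Z') (w' : Z' ⟶ Z'') (w'' : Z'' ⟶ (shiftFunctor D (1 : ℤ)).obj Z),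
      Triangle.mk f g h ∈ distinguishedTriangles ∧ Triangle.mk f' g' h' ∈ distinguishedTriangles ∧
      Triangle.mk f'' g'' h'' ∈ distinguishedTriangles ∧
      Triangle.mk u u' u'' ∈ distinguishedTriangles ∧ Triangle.mk v v' v'' ∈ distinguishedTriangles ∧
      Triangle.mk w w' w'' ∈ distinguishedTriangles ∧
      g ≫ w = v ≫ g' ∧ h ≫ (shiftFunctor D (1 : ℤ)).map u = w ≫ h' ∧
      f' ≫ v' = u' ≫ f'' ∧ g' ≫ w' = v' ≫ g'' ∧ h' ≫ (shiftFunctor D (1 : ℤ)).map u' = w' ≫ h'' ∧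
      f'' ≫ v'' = u'' ≫ (shiftFunctor D (1 : ℤ)).map f ∧ g'' ≫ w'' = v'' ≫ (shiftFunctor D (1 : ℤ)).map g ∧
      h'' ≫ (shiftFunctor D (1 : ℤ)).map u'' = -(w'' ≫ (shiftFunctor D (1 : ℤ)).map h) := by
  obtain ⟨Z, g, h, hT⟩ := distinguished_cocone_triangle f
  obtain ⟨Z', g', h', hT'⟩ := distinguished_cocone_triangle f'
  obtain ⟨X'', u', u'', hU⟩ := distinguished_cocone_triangle u
  obtain ⟨Y'', v', v'', hV⟩ := distinguished_cocone_triangle v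
  obtain ⟨A, p, q, hD⟩ := distinguished_cocone_triangle (f ≫ v)
  have O1 := Triangulated.someOctahedron rfl hT hV hD
  have O2 := Triangulated.someOctahedron comm.symm hU hT' hD
  obtain ⟨Z'', g'', h'', hF''⟩ := distinguished_cocone_triangle (O2.m₁ ≫ O1.m₃)
  have hR : Triangle.mk O1.m₃ (v'' ≫ (shiftFunctor D (1 : ℤ)).map g)
      (-(shiftFunctor D (1 : ℤ)).map O1.m₁) ∈ distTriang D := rot_of_distTriang _ O1.mem
  have O3 := Triangulated.someOctahedron rfl O2.mem hR hF''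
  have c1 : O2.m₃ ≫ O3.m₁ = O1.m₃ ≫ g'' := O3.comm₁
  have c2 : O3.m₁ ≫ h'' = h' ≫ (shiftFunctor D (1 : ℤ)).map u' := O3.comm₂
  have c3 : g'' ≫ O3.m₃ = v'' ≫ (shiftFunctor D (1 : ℤ)).map g := O3.comm₃
  have c4 : h'' ≫ (shiftFunctor D (1 : ℤ)).map O2.m₁ =
      O3.m₃ ≫ (-(shiftFunctor D (1 : ℤ)).map O1.m₁) := O3.comm₄
  have hm : Triangle.mk O3.m₁ O3.m₃
      ((-(shiftFunctor D (1 : ℤ)).map O1.m₁) ≫ (shiftFunctor D (1 : ℤ)).map O2.m₃) ∈ distTriang D :=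
    O3.mem
  have a1 : g ≫ O1.m₁ = v ≫ p := O1.comm₁
  have a2 : O1.m₁ ≫ q = h := O1.comm₂
  have a3 : p ≫ O1.m₃ = v' := O1.comm₃
  have a4 : q ≫ (shiftFunctor D (1 : ℤ)).map f = O1.m₃ ≫ v'' := O1.comm₄
  have b1 : u' ≫ O2.m₁ = f' ≫ p := O2.comm₁
  have b2 : O2.m₁ ≫ q = u'' := O2.comm₂
  have b3 : p ≫ O2.m₃ = g' := O2.comm₃
  have b4 : q ≫ (shiftFunctor D (1 : ℤ)).map u = O2.m₃ ≫ h' := O2.comm₄
  have hW : Triangle.mk (O1.m₁ ≫ O2.m₃) O3.m₁ O3.m₃ ∈ distTriang D := by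
    rw [rotate_distinguished_triangle]
    refine isomorphic_distinguished _ hm _
      (Triangle.isoMk _ _ (Iso.refl _) (Iso.refl _) (Iso.refl _)
        ((Category.comp_id _).trans (Category.id_comp _).symm)
        ((Category.comp_id _).trans (Category.id_comp _).symm)
        (by
          show (-(shiftFunctor D (1 : ℤ)).map (O1.m₁ ≫ O2.m₃)) ≫ (shiftFunctor D (1 : ℤ)).map (𝟙 _) =
            𝟙 _ ≫ ((-(shiftFunctor D (1 : ℤ)).map O1.m₁) ≫ (shiftFunctor D (1 : ℤ)).map O2.m₃)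
          rw [CategoryTheory.Functor.map_id, Category.comp_id, Category.id_comp,
            CategoryTheory.Functor.map_comp, Preadditive.neg_comp]))
  refine ⟨Z, Z', X'', Y'', Z'', g, h, g', h', O2.m₁ ≫ O1.m₃, g'', h'', u', u'', v', v'',
    O1.m₁ ≫ O2.m₃, O3.m₁, O3.m₃, hT, hT', hF'', hU, hV, hW, ?_, ?_, ?_, ?_, ?_, ?_, ?_, ?_⟩
  · rw [← Category.assoc, a1, Category.assoc, b3]
  · rw [Category.assoc, ← b4, ← Category.assoc, a2]
  · rw [← Category.assoc, b1, Category.assoc, a3]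
  · calc g' ≫ O3.m₁ = (p ≫ O2.m₃) ≫ O3.m₁ := by rw [b3]
      _ = p ≫ O1.m₃ ≫ g'' := by rw [Category.assoc, c1]
      _ = v' ≫ g'' := by rw [← Category.assoc, a3]
  · exact c2.symm
  · rw [Category.assoc, ← a4, ← Category.assoc, b2]
  · exact c3
  · calc h'' ≫ (shiftFunctor D (1 : ℤ)).map u''
        = h'' ≫ (shiftFunctor D (1 : ℤ)).map (O2.m₁ ≫ q) := by rw [b2]
      _ = (h'' ≫ (shiftFunctor D (1 : ℤ)).map O2.m₁) ≫ (shiftFunctor D (1 : ℤ)).map q := by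
          rw [CategoryTheory.Functor.map_comp, Category.assoc]
      _ = (O3.m₃ ≫ (-(shiftFunctor D (1 : ℤ)).map O1.m₁)) ≫ (shiftFunctor D (1 : ℤ)).map q := by
          rw [c4]
      _ = -(O3.m₃ ≫ (shiftFunctor D (1 : ℤ)).map (O1.m₁ ≫ q)) := by simp
      _ = -(O3.m₃ ≫ (shiftFunctor D (1 : ℤ)).map h) := by rw [a2]

open CategoryTheory.Pretriangulated in
/-- In a triangulated category, a commutative square f ≫ v = u ≫ f' (with f : X ⟶ Y, f' : X' ⟶ Y', u : X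
⟶ X', v : Y ⟶ Y') extends to a diagram with three distinguished rows (X, Y, Z), (X', Y', Z'), (X'',
Y'', Z'') and three distinguished columns (X, X', X''), (Y, Y', Y''), (Z, Z', Z''), in which all
squares commute except the one formed by the third morphisms of the last row and last column, which
anticommutes; the fourth row and column are the shifts of the first ones. -/
theorem result {D : Type u} [Category.{v} D] [Preadditive D] [Limits.HasZeroObject D] [HasShift D ℤ]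
    [∀ n : ℤ, (shiftFunctor D n).Additive] [Pretriangulated D] [IsTriangulated D]
    {X Y X' Y' : D} (f : X ⟶ Y) (f' : X' ⟶ Y') (u : X ⟶ X') (v : Y ⟶ Y') (comm : f ≫ v = u ≫ f') :
    ∃ (Z Z' X'' Y'' Z'' : D) (g : Y ⟶ Z) (h : Z ⟶ (shiftFunctor D (1 : ℤ)).obj X)
      (g' : Y' ⟶ Z') (h' : Z' ⟶ (shiftFunctor D (1 : ℤ)).obj X')
      (f'' : X'' ⟶ Y'') (g'' : Y'' ⟶ Z'') (h'' : Z'' ⟶ (shiftFunctor D (1 : ℤ)).obj X'')
      (u' : X' ⟶ X'') (u'' : X'' ⟶ (shiftFunctor D (1 : ℤ)).obj X)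
      (v' : Y' ⟶ Y'') (v'' : Y'' ⟶ (shiftFunctor D (1 : ℤ)).obj Y)
      (w : Z ⟶ Z') (w' : Z' ⟶ Z'') (w'' : Z'' ⟶ (shiftFunctor D (1 : ℤ)).obj Z),
      Triangle.mk f g h ∈ distinguishedTriangles ∧ Triangle.mk f' g' h' ∈ distinguishedTriangles ∧
      Triangle.mk f'' g'' h'' ∈ distinguishedTriangles ∧
      Triangle.mk u u' u'' ∈ distinguishedTriangles ∧ Triangle.mk v v' v'' ∈ distinguishedTriangles ∧
      Triangle.mk w w' w'' ∈ distinguishedTriangles ∧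
      g ≫ w = v ≫ g' ∧ h ≫ (shiftFunctor D (1 : ℤ)).map u = w ≫ h' ∧
      f' ≫ v' = u' ≫ f'' ∧ g' ≫ w' = v' ≫ g'' ∧ h' ≫ (shiftFunctor D (1 : ℤ)).map u' = w' ≫ h'' ∧
      f'' ≫ v'' = u'' ≫ (shiftFunctor D (1 : ℤ)).map f ∧ g'' ≫ w'' = v'' ≫ (shiftFunctor D (1 : ℤ)).map g ∧
      h'' ≫ (shiftFunctor D (1 : ℤ)).map u'' = -(w'' ≫ (shiftFunctor D (1 : ℤ)).map h) := by
  exact main f f' u v comm

end Groth.Agent.S0983
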