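import Groth.Statements.S0989

set_option autoImplicit false
universe w v u
open CategoryTheory CategoryTheory.Limits
open CohDer

namespace Groth.Agent.S0989

open Pretriangulated ComposableArrows ZeroObject

/-- Let P be a weak Serre class in an abelian category A: P is closed under isomorphisms, holds for a
zero object, and whenever X₀ → X₁ → X₂ → X₃ → X₄ is exact with P holding for X₀, X₁, X₃, X₄ it holds
for X₂. Then the class of objects of the derived category all of whose cohomology objects satisfy P
is a triangulated subcategory (contains zero, stable under shifts, closed under extensions) which is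
moreover closed under retracts (saturated). -/
theorem result {A : Type u} [Category.{v} A] [Abelian A] [HasDerivedCategory.{w} A]
    (P : ObjectProperty A) [P.IsClosedUnderIsomorphisms] (h0 : ∃ Z : A, IsZero Z ∧ P Z)
    (hP : ∀ S : ComposableArrows A 4, S.Exact → P (S.obj 0) → P (S.obj 1) → P (S.obj 3) → P (S.obj 4) → P (S.obj 2)) :
    ObjectProperty.IsTriangulated (fun X : DerivedCategory A => ∀ n : ℤ, P ((DerivedCategory.homologyFunctor A n).obj X)) ∧
    ObjectProperty.IsStableUnderRetracts (fun X : DerivedCategory A => ∀ n : ℤ, P ((DerivedCategory.homologyFunctor A n).obj X)) := by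
  obtain ⟨Z, hZ, hPZ⟩ := h0
  have hzero : ∀ Y : A, IsZero Y → P Y := fun Y hY => P.prop_of_iso (hZ.iso hY) hPZ
  refine ⟨{ exists_zero := ?_, isStableUnderShiftBy := ?_, ext₂' := ?_ }, ⟨?_⟩⟩
  · exact ⟨0, isZero_zero _, fun n => hzero _ ((DerivedCategory.homologyFunctor A n).map_isZero (isZero_zero _))⟩
  · intro a
    refine ⟨fun X hX n => ?_⟩
    exact P.prop_of_iso (((DerivedCategory.homologyFunctor A 0).shiftIso a n (a + n) rfl).app X).symm
      (hX (a + n))
  · intro T hT h₁ h₃
    refine ObjectProperty.le_isoClosure _ _ ?_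
    intro n
    have hS : (mk₄ (DerivedCategory.HomologySequence.δ T (n - 1) n (by lia))
        ((DerivedCategory.homologyFunctor A n).map T.mor₁)
        ((DerivedCategory.homologyFunctor A n).map T.mor₂)
        (DerivedCategory.HomologySequence.δ T n (n + 1) rfl)).Exact :=
      exact_of_δ₀ (DerivedCategory.HomologySequence.exact₁ T hT (n - 1) n (by lia)).exact_toComposableArrows
        (exact_of_δ₀ (DerivedCategory.HomologySequence.exact₂ T hT n).exact_toComposableArrows
          (DerivedCategory.HomologySequence.exact₃ T hT n (n + 1) rfl).exact_toComposableArrows)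
    exact hP _ hS (h₃ (n - 1)) (h₁ n) (h₃ n) (h₁ (n + 1))
  · intro X Y r hY n
    let F := DerivedCategory.homologyFunctor A n
    have hir : F.map r.i ≫ F.map r.r = 𝟙 _ := by rw [← F.map_comp, r.retract, F.map_id]
    have hS : (mk₄ (0 : Z ⟶ Z) (0 : Z ⟶ F.obj X) (F.map r.i) (𝟙 _ - F.map r.r ≫ F.map r.i)).Exact := by
      have w1 : (0 : Z ⟶ Z) ≫ (0 : Z ⟶ F.obj X) = 0 := by simp
      have w2 : (0 : Z ⟶ F.obj X) ≫ F.map r.i = 0 := by simp
      have w3 : F.map r.i ≫ (𝟙 _ - F.map r.r ≫ F.map r.i) = 0 := by
        rw [Preadditive.comp_sub, Category.comp_id, ← Category.assoc, hir, Category.id_comp, sub_self]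
      have e1 : (ShortComplex.mk _ _ w1).Exact := ShortComplex.exact_of_isZero_X₂ _ hZ
      have e2 : (ShortComplex.mk _ _ w2).Exact := by
        rw [ShortComplex.exact_iff_mono _ rfl]
        exact mono_of_mono_fac hir
      have e3 : (ShortComplex.mk _ _ w3).Exact := by
        rw [ShortComplex.exact_iff_exact_up_to_refinements]
        intro B x₂ hx₂
        refine ⟨B, 𝟙 _, inferInstance, x₂ ≫ F.map r.r, ?_⟩
        dsimp at hx₂ ⊢
        rw [Preadditive.comp_sub, Category.comp_id, sub_eq_zero] at hx₂
        rw [Category.id_comp, Category.assoc]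
        exact hx₂
      exact exact_of_δ₀ e1.exact_toComposableArrows
        (exact_of_δ₀ e2.exact_toComposableArrows e3.exact_toComposableArrows)
    exact hP _ hS hPZ hPZ (hY n) (hY n)

end Groth.Agent.S0989
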