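import Groth.Statements.S10089
import Mathlib
import Groth.Agent.Lib.helper5.AlgSpBasic

set_option autoImplicit false
universe u
open CategoryTheory CategoryTheory.Limits AlgebraicGeometry
open AlgSp

namespace Groth.Agent.S10089

/-- Let `a : F ⟶ G` be a map of presheaves of sets on schemes over `S` which is representable by
algebraic spaces. If `G` is an fppf sheaf, then so is `F`. -/
theorem result (S : Scheme.{u}) (F G : AlgSp.PSp S) (a : F ⟶ G)
    (ha : AlgSp.RepBySp a) (hG : Presheaf.IsSheaf (AlgSp.J S) G) :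
    Presheaf.IsSheaf (AlgSp.J S) F := by
  rw [isSheaf_iff_isSheaf_of_type] at hG ⊢
  intro U R hR x hx
  obtain ⟨t, ht, htuniq⟩ := hG R hR (x.map a) (hx.map a)
  obtain ⟨F', fst, snd, sq⟩ : ∃ (F' : AlgSp.PSp S) (fst : F' ⟶ F)
      (snd : F' ⟶ (AlgSp.pyon S).obj U),
      IsPullback fst snd a (uliftYonedaEquiv.{u+1}.symm t) :=
    ⟨_, _, _, IsPullback.of_hasPullback a _⟩
  obtain ⟨hF'sheaf, -⟩ := ha (uliftYonedaEquiv.{u+1}.symm t) fst snd sq
  have hV : Presieve.IsSheaf (AlgSp.J S) F' := (isSheaf_iff_isSheaf_of_type _ _).1 hF'sheaf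
  have hloc : ∀ ⦃W : Over S⦄ (f : W ⟶ U) (hf : R f), ∃ p : F'.obj (Opposite.op W),
      fst.app (Opposite.op W) p = x f hf ∧ snd.app (Opposite.op W) p = ⟨f⟩ := by
    intro W f hf
    exact AlgSp.H5_psh_exists sq (T := Opposite.op W) (x f hf) ⟨f⟩ (by
      have := ht f hf
      simpa using this.symm)
  choose p hp1 hp2 using hloc
  let y : Presieve.FamilyOfElements F' R := fun W f hf => p f hf
  have hy : y.Compatible := by
    intro Y₁ Y₂ Z g₁ g₂ f₁ f₂ h₁ h₂ hcomm
    apply AlgSp.H5_psh_ext sq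
    · rw [NatTrans.naturality_apply, NatTrans.naturality_apply]
      change F.map g₁.op (fst.app (Opposite.op Y₁) (p f₁ h₁)) =
        F.map g₂.op (fst.app (Opposite.op Y₂) (p f₂ h₂))
      rw [hp1, hp1]
      exact hx g₁ g₂ h₁ h₂ hcomm
    · rw [NatTrans.naturality_apply, NatTrans.naturality_apply]
      change ((AlgSp.pyon S).obj U).map g₁.op (snd.app (Opposite.op Y₁) (p f₁ h₁)) =
        ((AlgSp.pyon S).obj U).map g₂.op (snd.app (Opposite.op Y₂) (p f₂ h₂))
      rw [hp2, hp2]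
      change (⟨g₁ ≫ f₁⟩ : ULift (Z ⟶ U)) = ⟨g₂ ≫ f₂⟩
      rw [hcomm]
  obtain ⟨τ, hτ, hτuniq⟩ := hV R hR y hy
  refine ⟨fst.app (Opposite.op U) τ, ?_, ?_⟩
  · intro W f hf
    rw [← NatTrans.naturality_apply, hτ f hf]
    exact hp1 f hf
  · intro s' hs'
    have hs't : a.app (Opposite.op U) s' = t := by
      apply htuniq
      intro W f hf
      change G.map f.op (a.app (Opposite.op U) s') = a.app (Opposite.op W) (x f hf)
      rw [← NatTrans.naturality_apply, hs' f hf]
    obtain ⟨p', hp1', hp2'⟩ := AlgSp.H5_psh_exists sq (T := Opposite.op U) s' ⟨𝟙 U⟩ (by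
      simpa using hs't)
    have hpτ : p' = τ := by
      apply hτuniq
      intro W f hf
      apply AlgSp.H5_psh_ext sq
      · rw [NatTrans.naturality_apply, hp1', hs' f hf]
        exact (hp1 f hf).symm
      · rw [NatTrans.naturality_apply, hp2']
        change (⟨f ≫ 𝟙 U⟩ : ULift (W ⟶ U)) = snd.app (Opposite.op W) (p f hf)
        rw [hp2, Category.comp_id]
    rw [← hpτ, hp1']

end Groth.Agent.S10089
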