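import Groth.Statements.S10116
import Mathlib
import Groth.Agent.Lib.helper5.AlgSpField
import Groth.Agent.Lib.helper5.AlgSpDiag2
import Groth.Agent.Lib.helper5.AlgSpQC
import Groth.Agent.Lib.helper5.AlgSpQCMor

set_option autoImplicit false
universe u
open CategoryTheory CategoryTheory.Limits AlgebraicGeometry MonoidalCategory MonObj
open AlgSp

namespace Groth.Agent.S10116

/-- Let `G` be a group algebraic space over an algebraic space `B` with unit `e : B ⟶ G`. Then `G ⟶ B`
is separated if and only if `e` is a closed immersion, quasi-separated if and only if `e` is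
quasi-compact, and if `G ⟶ B` is locally separated then `e` is an immersion. (The published
statement makes the last part an equivalence as well; this row states only that a locally separated
`G ⟶ B` has `e` an immersion.) -/
theorem result (S : Scheme.{u}) (B : AlgSp.Sp S) (hB : AlgSp.IsAlgSpace B)
    (G : Over B) [GrpObj G] (hG : AlgSp.IsAlgSpace G.left) :
    (AlgSp.IsSeparatedMor G.hom ↔ AlgSp.RepWith @IsClosedImmersion (η[G]).left) ∧
      (AlgSp.IsQuasiSeparatedMor G.hom ↔ AlgSp.IsQuasiCompactMor (η[G]).left) ∧
      (AlgSp.IsLocallySeparatedMor G.hom → AlgSp.RepWith @IsImmersion (η[G]).left) := by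
  have sqO := CategoryTheory.H5_grp_diag_isPullback G
  have sq := sqO.map (Over.forget B)
  have hdiag : (Over.forget B).map (CartesianMonoidalCategory.lift (𝟙 G) (𝟙 G)) =
      pullback.diagonal G.hom := rfl
  rw [hdiag] at sq
  have hsec : (η[G]).left ≫ G.hom = 𝟙 B := by
    have := Over.w η[G]
    simpa using this
  have hrepΔ : AlgSp.Representable (pullback.diagonal G.hom) :=
    (AlgSp.H5_diagonal_properties hG G.hom).1
  refine ⟨⟨fun h => AlgSp.H5_section_of_diagonal (AlgSp.RepWith @IsClosedImmersion) G.hom _ hsec h,
    fun h => ?_⟩, ⟨fun h => ?_, fun h => ?_⟩,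
    fun h => AlgSp.H5_section_of_diagonal (AlgSp.RepWith @IsImmersion) G.hom _ hsec h⟩
  · show AlgSp.RepWith @IsClosedImmersion (pullback.diagonal G.hom)
    exact MorphismProperty.of_isPullback (P := AlgSp.RepWith @IsClosedImmersion) sq h
  · exact Groth.Agent.Lib.helper5.H5_isQuasiCompactMor_of_repWith _
      (AlgSp.H5_section_of_diagonal (AlgSp.RepWith @QuasiCompact) G.hom _ hsec h)
  · have h1 : AlgSp.IsQuasiCompactMor (pullback.diagonal G.hom) :=
      AlgSp.H5_isQuasiCompactMor_baseChange sq h
    exact Groth.Agent.Lib.helper5.H5_repWith_of_isQuasiCompactMor _ hrepΔ h1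

end Groth.Agent.S10116
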