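import Groth.Statements.S10121
import Mathlib
import Groth.Agent.Lib.helper5.AlgSpPoints

set_option autoImplicit false
universe u
open CategoryTheory CategoryTheory.Limits AlgebraicGeometry
open AlgSp

namespace Groth.Agent.S10121

/-- For a pre-equivalence relation `s, t : R ⟶ U` of algebraic spaces, the relation on points of `U`
given by `x ∼ y` when some point `r` of `R` has `t(r) = x` and `s(r) = y` is an equivalence relation
on `|U|`. -/
theorem result (S : Scheme.{u}) (R U : AlgSp.Sp S)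
    (hR : AlgSp.IsAlgSpace R) (hU : AlgSp.IsAlgSpace U) (s t : R ⟶ U) (h : AlgSp.IsPreEqvRelSp s t) :
    _root_.Equivalence (fun x y : AlgSp.Points U =>
      ∃ r : AlgSp.Points R, AlgSp.Points.map t r = x ∧ AlgSp.Points.map s r = y) := by
  have e_comp : ∀ {T : Over S} {F G : AlgSp.Sp S} (r : (AlgSp.yon S).obj T ⟶ F) (f : F ⟶ G),
      (AlgSp.J S).uliftYonedaEquiv (r ≫ f) = f.hom.app _ ((AlgSp.J S).uliftYonedaEquiv r) :=
    fun r f => (AlgSp.J S).uliftYonedaEquiv_comp r f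
  have e_hom : ∀ {F : AlgSp.Sp S} (p : AlgSp.FieldPt F),
      (AlgSp.J S).uliftYonedaEquiv (AlgSp.H5_fieldPtHom p) = p.val :=
    fun p => Equiv.apply_symm_apply _ _
  have e_map : ∀ {F G : AlgSp.Sp S} (K : Type u) [Field K] (str : Spec (.of K) ⟶ S)
      (r : (AlgSp.yon S).obj (Over.mk str) ⟶ F) (f : F ⟶ G),
      AlgSp.Points.map f (AlgSp.Points.mk ⟨K, str, (AlgSp.J S).uliftYonedaEquiv r⟩) =
        AlgSp.Points.mk ⟨K, str, (AlgSp.J S).uliftYonedaEquiv (r ≫ f)⟩ := by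
    intro F G K _ str r f
    rw [AlgSp.Points.map_mk, e_comp]
    rfl
  refine ⟨?_, ?_, ?_⟩
  · intro x
    obtain ⟨p, rfl⟩ := AlgSp.Points.mk_surjective x
    obtain ⟨r, hr1, hr2⟩ := (h p.pt).refl (AlgSp.H5_fieldPtHom p)
    refine ⟨AlgSp.Points.mk ⟨p.K, p.str, (AlgSp.J S).uliftYonedaEquiv r⟩, ?_, ?_⟩
    · rw [e_map, hr1, e_hom]
      rfl
    · rw [e_map, hr2, e_hom]
      rfl
  · rintro x y ⟨ρ, rfl, rfl⟩
    obtain ⟨q, rfl⟩ := AlgSp.Points.mk_surjective ρ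
    obtain ⟨r', hr1, hr2⟩ := (h q.pt).symm (x := AlgSp.H5_fieldPtHom q ≫ t)
      (y := AlgSp.H5_fieldPtHom q ≫ s) ⟨AlgSp.H5_fieldPtHom q, rfl, rfl⟩
    refine ⟨AlgSp.Points.mk ⟨q.K, q.str, (AlgSp.J S).uliftYonedaEquiv r'⟩, ?_, ?_⟩
    · rw [e_map, hr1, e_comp, e_hom]
      rfl
    · rw [e_map, hr2, e_comp, e_hom]
      rfl
  · rintro x y z ⟨ρ1, rfl, rfl⟩ ⟨ρ2, h2, rfl⟩
    obtain ⟨q1, rfl⟩ := AlgSp.Points.mk_surjective ρ1
    obtain ⟨q2, rfl⟩ := AlgSp.Points.mk_surjective ρ2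
    have hrel : AlgSp.FieldPt.Rel (q1.map s) (q2.map t) := AlgSp.Points.mk_eq_mk_iff.1 h2.symm
    obtain ⟨Ω, _, w, a0, b0, hab0⟩ := hrel
    obtain ⟨a, b, hab⟩ : ∃ (a' : Over.mk w ⟶ q1.pt) (b' : Over.mk w ⟶ q2.pt),
        U.obj.map a'.op (s.hom.app _ q1.val) = U.obj.map b'.op (t.hom.app _ q2.val) :=
      ⟨a0, b0, hab0⟩
    clear hab0 a0 b0
    have er1 : (AlgSp.J S).uliftYonedaEquiv ((AlgSp.yon S).map a ≫ AlgSp.H5_fieldPtHom q1) =
        R.obj.map a.op q1.val := by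
      rw [← GrothendieckTopology.uliftYonedaEquiv_naturality, e_hom]
    have er2 : (AlgSp.J S).uliftYonedaEquiv ((AlgSp.yon S).map b ≫ AlgSp.H5_fieldPtHom q2) =
        R.obj.map b.op q2.val := by
      rw [← GrothendieckTopology.uliftYonedaEquiv_naturality, e_hom]
    have h12 : ((AlgSp.yon S).map b ≫ AlgSp.H5_fieldPtHom q2) ≫ t =
        ((AlgSp.yon S).map a ≫ AlgSp.H5_fieldPtHom q1) ≫ s := by
      apply (AlgSp.J S).uliftYonedaEquiv.injective
      rw [e_comp _ t, e_comp _ s, er1, er2]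
      have n1 := NatTrans.naturality_apply s.hom a.op q1.val
      have n2 := NatTrans.naturality_apply t.hom b.op q2.val
      rw [n1, n2]
      exact hab.symm
    obtain ⟨r3, hr3a, hr3b⟩ := (h (Over.mk w)).trans
      (x := ((AlgSp.yon S).map a ≫ AlgSp.H5_fieldPtHom q1) ≫ t)
      (y := ((AlgSp.yon S).map a ≫ AlgSp.H5_fieldPtHom q1) ≫ s)
      (z := ((AlgSp.yon S).map b ≫ AlgSp.H5_fieldPtHom q2) ≫ s)
      ⟨_, rfl, rfl⟩ ⟨_, h12, rfl⟩
    refine ⟨AlgSp.Points.mk ⟨Ω, w, (AlgSp.J S).uliftYonedaEquiv r3⟩, ?_, ?_⟩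
    · rw [e_map, hr3a, e_comp _ t, er1]
      have n1 := NatTrans.naturality_apply t.hom a.op q1.val
      rw [n1]
      exact AlgSp.H5_mk_restrict (q1.map t) w a
    · rw [e_map, hr3b, e_comp _ s, er2]
      have n2 := NatTrans.naturality_apply s.hom b.op q2.val
      rw [n2]
      exact AlgSp.H5_mk_restrict (q2.map s) w b

end Groth.Agent.S10121
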