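import Groth.Statements.S10122
import Mathlib
import Groth.Agent.Lib.helper5.AlgSpGpdStab
import Groth.Agent.Lib.helper5.AlgSpQC
import Groth.Agent.Lib.helper5.AlgSpQCMor

set_option autoImplicit false
universe u
open CategoryTheory CategoryTheory.Limits AlgebraicGeometry
open AlgSp AlgSp.GroupoidSp

namespace Groth.Agent.S10122

/-- Let `(U, R, s, t, c)` be a groupoid in algebraic spaces over `B` with stabilizer `G ⟶ U` and unit
section `e : U ⟶ G`. Then (1) `j : R ⟶ U ×_B U` is separated iff `G ⟶ U` is separated iff `e` is a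
closed immersion; (3) `j` is quasi-separated iff `G ⟶ U` is quasi-separated iff `e` is
quasi-compact; (2) if `j` or `G ⟶ U` is locally separated then `e` is an immersion. The unit section
is written as any morphism `U ⟶ G` lifting the identity `e : U ⟶ R` of the groupoid. (The published
part (2) is a three-way equivalence; this row states only that `j` locally separated, or `G ⟶ U`
locally separated, implies that `e` is an immersion.) -/
theorem result (S : Scheme.{u}) (B : AlgSp.Sp S) (hB : AlgSp.IsAlgSpace B)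
    (G : AlgSp.GroupoidSp B) (hU : AlgSp.IsAlgSpace G.U) (hR : AlgSp.IsAlgSpace G.R)
    (eG : G.U ⟶ G.stabilizer) (heG : eG ≫ G.stabilizerι = G.e) :
    ((AlgSp.IsSeparatedMor G.j ↔ AlgSp.IsSeparatedMor G.stabilizerToU) ∧
        (AlgSp.IsSeparatedMor G.j ↔ AlgSp.RepWith @IsClosedImmersion eG)) ∧
      ((AlgSp.IsQuasiSeparatedMor G.j ↔ AlgSp.IsQuasiSeparatedMor G.stabilizerToU) ∧
        (AlgSp.IsQuasiSeparatedMor G.j ↔ AlgSp.IsQuasiCompactMor eG)) ∧
      ((AlgSp.IsLocallySeparatedMor G.j → AlgSp.RepWith @IsImmersion eG) ∧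
        (AlgSp.IsLocallySeparatedMor G.stabilizerToU → AlgSp.RepWith @IsImmersion eG)) := by
  obtain ⟨a1, a2, a3⟩ := G.H5_stab_sep (AlgSp.RepWith @IsClosedImmersion) eG heG
  obtain ⟨b1, b2, b3⟩ := G.H5_stab_sep (AlgSp.RepWith @QuasiCompact) eG heG
  obtain ⟨c1, c2, -⟩ := G.H5_stab_sep (AlgSp.RepWith @IsImmersion) eG heG
  refine ⟨⟨⟨a1, fun h => a3 (a2 h)⟩, ⟨fun h => a2 (a1 h), a3⟩⟩,
    ⟨⟨b1, fun h => b3 (b2 h)⟩, ⟨fun h => ?_, fun h => ?_⟩⟩, ⟨fun h => c2 (c1 h), c2⟩⟩
  · exact Groth.Agent.Lib.helper5.H5_isQuasiCompactMor_of_repWith _ (b2 (b1 h))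
  · exact Groth.Agent.Lib.helper5.H5_repWith_of_isQuasiCompactMor _
      (AlgSp.H5_diagonal_properties hR G.j).1
      (AlgSp.H5_isQuasiCompactMor_baseChange (G.H5_diagonal_j_isPullback eG heG) h)

end Groth.Agent.S10122
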