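import Groth.Statements.S10124
import Mathlib
import Groth.Agent.Lib.helper5.AlgSpGpd

set_option autoImplicit false
universe u
open CategoryTheory CategoryTheory.Limits AlgebraicGeometry
open AlgSp AlgSp.GroupoidSp

namespace Groth.Agent.S10124

/-- Let `(U, R, s, t, c)` be a groupoid in algebraic spaces over `B`, `K` a field and `r, r' : Spec K ⟶
R` with `t ∘ r = t ∘ r'`; put `u = s ∘ r`, `u' = s ∘ r'`. Then the fibres `Spec K ×_{u, U, s} R` and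
`Spec K ×_{u', U, s} R` are isomorphic as spaces over `Spec K` (existence of an isomorphism over
`Spec K`). -/
theorem result (S : Scheme.{u}) (B : AlgSp.Sp S) (hB : AlgSp.IsAlgSpace B)
    (G : AlgSp.GroupoidSp B) (hU : AlgSp.IsAlgSpace G.U) (hR : AlgSp.IsAlgSpace G.R)
    (K : Type u) [Field K] (σ : Spec (CommRingCat.of K) ⟶ S)
    (r r' : (AlgSp.yon S).obj (Over.mk σ) ⟶ G.R) (h : r ≫ G.t = r' ≫ G.t) :
    Nonempty (Over.mk (pullback.fst (r ≫ G.s) G.s) ≅ Over.mk (pullback.fst (r' ≫ G.s) G.s)) := by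
  have key : ∀ (r r' : (AlgSp.yon S).obj (Over.mk σ) ⟶ G.R) (h : r ≫ G.t = r' ≫ G.t),
      ∃ Φ : pullback (r ≫ G.s) G.s ⟶ pullback (r' ≫ G.s) G.s,
        Φ ≫ pullback.fst (r' ≫ G.s) G.s = pullback.fst (r ≫ G.s) G.s ∧
        ∀ h1 h2, Φ ≫ pullback.snd (r' ≫ G.s) G.s =
          G.H5_comp (pullback.snd (r ≫ G.s) G.s)
            (G.H5_comp ((pullback.fst (r ≫ G.s) G.s ≫ r) ≫ G.i)
              (pullback.fst (r ≫ G.s) G.s ≫ r') h1) h2 := by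
    intro r r' h
    have h1 : ((pullback.fst (r ≫ G.s) G.s ≫ r) ≫ G.i) ≫ G.s =
        (pullback.fst (r ≫ G.s) G.s ≫ r') ≫ G.t := by
      rw [G.H5_inv_s, Category.assoc, Category.assoc, h]
    have h2 : pullback.snd (r ≫ G.s) G.s ≫ G.s =
        G.H5_comp ((pullback.fst (r ≫ G.s) G.s ≫ r) ≫ G.i)
          (pullback.fst (r ≫ G.s) G.s ≫ r') h1 ≫ G.t := by
      rw [G.H5_comp_t, G.H5_inv_t, Category.assoc]
      exact pullback.condition.symm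
    have h3 : pullback.fst (r ≫ G.s) G.s ≫ r' ≫ G.s =
        G.H5_comp (pullback.snd (r ≫ G.s) G.s)
          (G.H5_comp ((pullback.fst (r ≫ G.s) G.s ≫ r) ≫ G.i)
            (pullback.fst (r ≫ G.s) G.s ≫ r') h1) h2 ≫ G.s := by
      rw [G.H5_comp_s, G.H5_comp_s, Category.assoc]
    exact ⟨pullback.lift _ _ h3, pullback.lift_fst _ _ _, fun _ _ => pullback.lift_snd _ _ _⟩
  have alg : ∀ {T : AlgSp.Sp S} (γ ρ ρ' : T ⟶ G.R) (h1 : (ρ ≫ G.i) ≫ G.s = ρ' ≫ G.t)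
      (h2 : γ ≫ G.s = G.H5_comp (ρ ≫ G.i) ρ' h1 ≫ G.t) (m1 : (ρ' ≫ G.i) ≫ G.s = ρ ≫ G.t)
      (m2 : G.H5_comp γ (G.H5_comp (ρ ≫ G.i) ρ' h1) h2 ≫ G.s =
        G.H5_comp (ρ' ≫ G.i) ρ m1 ≫ G.t),
      G.H5_comp (G.H5_comp γ (G.H5_comp (ρ ≫ G.i) ρ' h1) h2) (G.H5_comp (ρ' ≫ G.i) ρ m1) m2 =
        γ := by
    intro T γ ρ ρ' h1 h2 m1 m2
    have n1 : G.H5_comp (ρ ≫ G.i) ρ' h1 ≫ G.s = G.H5_comp (ρ' ≫ G.i) ρ m1 ≫ G.t := by
      rw [G.H5_comp_s, G.H5_comp_t, G.H5_inv_t]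
    have p1 : ρ' ≫ G.s = G.H5_comp (ρ' ≫ G.i) ρ m1 ≫ G.t := by
      rw [G.H5_comp_t, G.H5_inv_t]
    have e1 : G.H5_comp ρ' (G.H5_comp (ρ' ≫ G.i) ρ m1) p1 = ρ :=
      G.H5_comp_inv_comp' ρ' ρ m1 p1
    have p2 : (ρ ≫ G.i) ≫ G.s = G.H5_comp ρ' (G.H5_comp (ρ' ≫ G.i) ρ m1) p1 ≫ G.t := by
      rw [G.H5_comp_t, G.H5_inv_s]
      exact (G.H5_inv_s ρ).symm.trans h1
    have q : (ρ ≫ G.i) ≫ G.s = ρ ≫ G.t := G.H5_inv_s ρ
    have e2 : G.H5_comp (G.H5_comp (ρ ≫ G.i) ρ' h1) (G.H5_comp (ρ' ≫ G.i) ρ m1) n1 =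
        ρ ≫ G.s ≫ G.e := by
      rw [G.H5_comp_assoc _ _ _ h1 p1 n1 p2]
      exact (G.H5_comp_congr p2 q rfl e1).trans (G.H5_comp_left_inv ρ _ rfl q)
    have n2 : γ ≫ G.s =
        G.H5_comp (G.H5_comp (ρ ≫ G.i) ρ' h1) (G.H5_comp (ρ' ≫ G.i) ρ m1) n1 ≫ G.t := by
      rw [G.H5_comp_t]
      exact h2
    rw [G.H5_comp_assoc _ _ _ h2 n1 m2 n2]
    have hγs : γ ≫ G.s = ρ ≫ G.s := by
      rw [h2, G.H5_comp_t, G.H5_inv_t]
    have n3 : γ ≫ G.s = (ρ ≫ G.s ≫ G.e) ≫ G.t := by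
      rw [Category.assoc, Category.assoc, G.e_t, Category.comp_id]
      exact hγs
    exact (G.H5_comp_congr n2 n3 rfl e2).trans
      (G.H5_comp_right_unit γ _ (by rw [← Category.assoc, ← Category.assoc, hγs]) n3)
  have hinv : ∀ (r r' : (AlgSp.yon S).obj (Over.mk σ) ⟶ G.R) (h : r ≫ G.t = r' ≫ G.t)
      (Φ : pullback (r ≫ G.s) G.s ⟶ pullback (r' ≫ G.s) G.s)
      (Ψ : pullback (r' ≫ G.s) G.s ⟶ pullback (r ≫ G.s) G.s)
      (hΦ1 : Φ ≫ pullback.fst (r' ≫ G.s) G.s = pullback.fst (r ≫ G.s) G.s)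
      (hΦ2 : ∀ h1 h2, Φ ≫ pullback.snd (r' ≫ G.s) G.s =
          G.H5_comp (pullback.snd (r ≫ G.s) G.s)
            (G.H5_comp ((pullback.fst (r ≫ G.s) G.s ≫ r) ≫ G.i)
              (pullback.fst (r ≫ G.s) G.s ≫ r') h1) h2)
      (hΨ1 : Ψ ≫ pullback.fst (r ≫ G.s) G.s = pullback.fst (r' ≫ G.s) G.s)
      (hΨ2 : ∀ h1 h2, Ψ ≫ pullback.snd (r ≫ G.s) G.s =
          G.H5_comp (pullback.snd (r' ≫ G.s) G.s)
            (G.H5_comp ((pullback.fst (r' ≫ G.s) G.s ≫ r') ≫ G.i)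
              (pullback.fst (r' ≫ G.s) G.s ≫ r) h1) h2),
      Φ ≫ Ψ = 𝟙 _ := by
    intro r r' h Φ Ψ hΦ1 hΦ2 hΨ1 hΨ2
    have hΦ1' : ∀ {Z : AlgSp.Sp S} (k : (AlgSp.yon S).obj (Over.mk σ) ⟶ Z),
        Φ ≫ pullback.fst (r' ≫ G.s) G.s ≫ k = pullback.fst (r ≫ G.s) G.s ≫ k := by
      intro Z k
      rw [← Category.assoc, hΦ1]
    apply pullback.hom_ext
    · rw [Category.assoc, hΨ1, hΦ1, Category.id_comp]
    · rw [Category.assoc, Category.id_comp]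
      have k1 : ((pullback.fst (r' ≫ G.s) G.s ≫ r') ≫ G.i) ≫ G.s =
          (pullback.fst (r' ≫ G.s) G.s ≫ r) ≫ G.t := by
        rw [G.H5_inv_s, Category.assoc, Category.assoc, h]
      have k2 : pullback.snd (r' ≫ G.s) G.s ≫ G.s =
          G.H5_comp ((pullback.fst (r' ≫ G.s) G.s ≫ r') ≫ G.i)
            (pullback.fst (r' ≫ G.s) G.s ≫ r) k1 ≫ G.t := by
        rw [G.H5_comp_t, G.H5_inv_t, Category.assoc]
        exact pullback.condition.symm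
      have h1 : ((pullback.fst (r ≫ G.s) G.s ≫ r) ≫ G.i) ≫ G.s =
          (pullback.fst (r ≫ G.s) G.s ≫ r') ≫ G.t := by
        rw [G.H5_inv_s, Category.assoc, Category.assoc, h]
      have h2 : pullback.snd (r ≫ G.s) G.s ≫ G.s =
          G.H5_comp ((pullback.fst (r ≫ G.s) G.s ≫ r) ≫ G.i)
            (pullback.fst (r ≫ G.s) G.s ≫ r') h1 ≫ G.t := by
        rw [G.H5_comp_t, G.H5_inv_t, Category.assoc]
        exact pullback.condition.symm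
      have m1 : ((pullback.fst (r ≫ G.s) G.s ≫ r') ≫ G.i) ≫ G.s =
          (pullback.fst (r ≫ G.s) G.s ≫ r) ≫ G.t := by
        rw [G.H5_inv_s, Category.assoc, Category.assoc, h]
      have m2 : G.H5_comp (pullback.snd (r ≫ G.s) G.s)
            (G.H5_comp ((pullback.fst (r ≫ G.s) G.s ≫ r) ≫ G.i)
              (pullback.fst (r ≫ G.s) G.s ≫ r') h1) h2 ≫ G.s =
          G.H5_comp ((pullback.fst (r ≫ G.s) G.s ≫ r') ≫ G.i)
            (pullback.fst (r ≫ G.s) G.s ≫ r) m1 ≫ G.t := by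
        rw [G.H5_comp_s, G.H5_comp_s, G.H5_comp_t, G.H5_inv_t]
      rw [hΨ2 k1 k2]
      have hy : (Φ ≫ (pullback.fst (r' ≫ G.s) G.s ≫ r') ≫ G.i) ≫ G.s =
          (Φ ≫ pullback.fst (r' ≫ G.s) G.s ≫ r) ≫ G.t := by
        rw [Category.assoc, k1]
        simp only [Category.assoc]
      have hx : (Φ ≫ pullback.snd (r' ≫ G.s) G.s) ≫ G.s =
          (Φ ≫ G.H5_comp ((pullback.fst (r' ≫ G.s) G.s ≫ r') ≫ G.i)
            (pullback.fst (r' ≫ G.s) G.s ≫ r) k1) ≫ G.t := by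
        rw [Category.assoc, k2]
        simp only [Category.assoc]
      rw [G.H5_map_comp Φ _ _ k2 hx]
      refine (G.H5_comp_congr hx m2 (hΦ2 h1 h2) ?_).trans (alg _ _ _ h1 h2 m1 m2)
      rw [G.H5_map_comp Φ _ _ k1 hy]
      refine G.H5_comp_congr hy m1 ?_ ?_
      · simp only [Category.assoc, hΦ1']
      · simp only [Category.assoc, hΦ1']
  obtain ⟨Φ, hΦ1, hΦ2⟩ := key r r' h
  obtain ⟨Ψ, hΨ1, hΨ2⟩ := key r' r h.symm
  exact ⟨Over.isoMk ⟨Φ, Ψ, hinv r r' h Φ Ψ hΦ1 hΦ2 hΨ1 hΨ2,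
    hinv r' r h.symm Ψ Φ hΨ1 hΨ2 hΦ1 hΦ2⟩ hΦ1⟩

end Groth.Agent.S10124
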