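import Groth.Statements.S10125
import Mathlib
import Groth.Agent.Lib.helper5.AlgSpField

set_option autoImplicit false
universe u
open CategoryTheory CategoryTheory.Limits AlgebraicGeometry MonoidalCategory MonObj
open AlgSp

namespace Groth.Agent.S10125

/-- For a group algebraic space `G` over a field `k`, the multiplication `m` of `G`, a morphism `G ×_k G
⟶ G`, is both flat and universally open. (The published situation allows any base scheme `S` with
`k` a field over `S`; this row takes `S = Spec k`.) -/
theorem result (k : Type u) [Field k]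
    (G : Over ((AlgSp.yon (Spec (CommRingCat.of k))).obj (Over.mk (𝟙 _)))) [GrpObj G]
    (hG : AlgSp.IsAlgSpace G.left) :
    AlgSp.LocP @Flat (μ[G]).left ∧ AlgSp.IsUnivOpenMor (μ[G]).left := by
  have sqO := CategoryTheory.H5_grp_mul_isPullback G
  have sq := (sqO.map (Over.forget _)).flip
  have hT : AlgSp.IsAlgSpace ((AlgSp.yon (Spec (CommRingCat.of k))).obj (Over.mk (𝟙 _))) :=
    AlgSp.IsAlgSpace.yon_obj _
  have hu1 : AlgSp.LocP @Flat ((Over.forget _).map (CartesianMonoidalCategory.toUnit G)) :=
    AlgSp.H5_locP_flat_to_field (𝟙 _) _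
  have hu2 : AlgSp.IsUnivOpenMor ((Over.forget _).map (CartesianMonoidalCategory.toUnit G)) :=
    AlgSp.H5_isUnivOpenMor_to_field (𝟙 _) hG _
  exact ⟨AlgSp.H5_locP_baseChange @Flat AlgSp.H5_etLocal_flat hG hT hG _ _ _ _ sq hu1,
    AlgSp.H5_univSp_baseChange _ sq hu2⟩

end Groth.Agent.S10125
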