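import Groth.Statements.S10126
import Mathlib
import Groth.Agent.Lib.helper5.AlgSpField

set_option autoImplicit false
universe u
open CategoryTheory CategoryTheory.Limits AlgebraicGeometry
open AlgSp AlgSp.GroupoidSp

namespace Groth.Agent.S10126

/-- Let `(U, R, s, t, c)` be a groupoid in algebraic spaces over `B` whose object space is `U = Spec k`,
with `k` a field. Then the composition `c : R ×_{s, U, t} R ⟶ R` is flat and universally open. -/
theorem result (S : Scheme.{u}) (B : AlgSp.Sp S) (hB : AlgSp.IsAlgSpace B)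
    (G : AlgSp.GroupoidSp B) (hR : AlgSp.IsAlgSpace G.R) (k : Type u) [Field k]
    (σ : Spec (CommRingCat.of k) ⟶ S) (eU : G.U ≅ (AlgSp.yon S).obj (Over.mk σ)) :
    AlgSp.LocP @Flat G.c ∧ AlgSp.IsUnivOpenMor G.c := by
  have sq := G.H5_c_isPullback
  have sq' : IsPullback G.c (pullback.snd G.s G.t) (G.s ≫ eU.hom) (G.s ≫ eU.hom) :=
    IsPullback.of_iso sq (Iso.refl _) (Iso.refl _) (Iso.refl _) eU (by simp) (by simp) (by simp)
      (by simp)
  have hT : AlgSp.IsAlgSpace ((AlgSp.yon S).obj (Over.mk σ)) := AlgSp.IsAlgSpace.yon_obj _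
  exact ⟨AlgSp.H5_locP_baseChange @Flat AlgSp.H5_etLocal_flat hR hT hR _ _ _ _ sq'.flip
      (AlgSp.H5_locP_flat_to_field σ _),
    AlgSp.H5_univSp_baseChange _ sq'.flip (AlgSp.H5_isUnivOpenMor_to_field σ hR _)⟩

end Groth.Agent.S10126
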