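import Groth.Statements.S10130
import Mathlib
import Groth.Agent.Lib.helper5.AlgSpOpenSub
import Groth.Agent.Lib.helper5.AlgSpGpd
import Groth.Agent.Lib.helper5.AlgSpPoints

set_option autoImplicit false
universe u
open CategoryTheory CategoryTheory.Limits AlgebraicGeometry
open AlgSp AlgSp.GroupoidSp

namespace Groth.Agent.S10130

/-- Let `(U, R, s, t, c)` be a groupoid in algebraic spaces over `B` with `s, t` open. For every open
subspace `W ⊂ U`, the open subspace `s(t⁻¹(W))` of `U` is `R`-invariant. -/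
theorem result (S : Scheme.{u}) (B : AlgSp.Sp S) (hB : AlgSp.IsAlgSpace B)
    (G : AlgSp.GroupoidSp B) (hU : AlgSp.IsAlgSpace G.U) (hR : AlgSp.IsAlgSpace G.R)
    (hs : AlgSp.IsOpenMor G.s) (ht : AlgSp.IsOpenMor G.t)
    (W W' : AlgSp.Sp S) (w : W ⟶ G.U) (w' : W' ⟶ G.U)
    (hw : AlgSp.RepWith @IsOpenImmersion w) (hw' : AlgSp.RepWith @IsOpenImmersion w')
    (himg : Set.range (AlgSp.Points.map w') =
      AlgSp.Points.map G.s '' (AlgSp.Points.map G.t ⁻¹' Set.range (AlgSp.Points.map w))) :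
    G.IsInvariant w' := by
  have hcomp : ∀ ρ₁ ρ₂ : AlgSp.Points G.R, AlgSp.Points.map G.s ρ₁ = AlgSp.Points.map G.t ρ₂ →
      ∃ ρ₃ : AlgSp.Points G.R, AlgSp.Points.map G.t ρ₃ = AlgSp.Points.map G.t ρ₁ ∧
        AlgSp.Points.map G.s ρ₃ = AlgSp.Points.map G.s ρ₂ := by
    intro ρ₁ ρ₂ h
    obtain ⟨w₀, hw1, hw2⟩ :=
      AlgSp.H5_points_pullback_surj (IsPullback.of_hasPullback G.s G.t) ρ₁ ρ₂ h
    refine ⟨AlgSp.Points.map G.c w₀, ?_, ?_⟩
    · rw [← AlgSp.Points.map_comp, G.H5_c_t, AlgSp.Points.map_comp, hw1]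
    · rw [← AlgSp.Points.map_comp, G.H5_c_s, AlgSp.Points.map_comp, hw2]
  set V := AlgSp.Points.map G.s '' (AlgSp.Points.map G.t ⁻¹' Set.range (AlgSp.Points.map w)) with hV
  have key : ∀ ρ : AlgSp.Points G.R, AlgSp.Points.map G.t ρ ∈ V ↔ AlgSp.Points.map G.s ρ ∈ V := by
    intro ρ
    constructor
    · rintro ⟨ρ', hρ'W, hρ's⟩
      obtain ⟨ρ₃, h3t, h3s⟩ := hcomp ρ' ρ hρ's
      exact ⟨ρ₃, by rw [Set.mem_preimage, h3t]; exact hρ'W, h3s⟩
    · rintro ⟨ρ', hρ'W, hρ's⟩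
      have hinv_t : AlgSp.Points.map G.t (AlgSp.Points.map G.i ρ) = AlgSp.Points.map G.s ρ := by
        rw [← AlgSp.Points.map_comp, G.i_t]
      have hinv_s : AlgSp.Points.map G.s (AlgSp.Points.map G.i ρ) = AlgSp.Points.map G.t ρ := by
        rw [← AlgSp.Points.map_comp, G.i_s]
      obtain ⟨ρ₃, h3t, h3s⟩ := hcomp ρ' (AlgSp.Points.map G.i ρ) (by rw [hρ's, hinv_t])
      exact ⟨ρ₃, by rw [Set.mem_preimage, h3t]; exact hρ'W, by rw [h3s, hinv_s]⟩
  have hfac : ∀ {T : Over S} (x : (AlgSp.yon S).obj T ⟶ G.U),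
      (∃ a : (AlgSp.yon S).obj T ⟶ W', a ≫ w' = x) ↔ Set.range (AlgSp.Points.map x) ⊆ V := by
    intro T x
    rw [← himg]
    constructor
    · rintro ⟨a, rfl⟩
      rintro _ ⟨y, rfl⟩
      exact ⟨AlgSp.Points.map a y, (AlgSp.Points.map_comp _ _ _).symm⟩
    · intro h
      exact AlgSp.H5_exists_factor_of_range_subset w' hw' x h
  intro T r
  rw [hfac (r ≫ G.t), hfac (r ≫ G.s)]
  constructor
  · rintro h _ ⟨y, rfl⟩
    rw [AlgSp.Points.map_comp]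
    exact (key _).1 (by rw [← AlgSp.Points.map_comp]; exact h ⟨y, rfl⟩)
  · rintro h _ ⟨y, rfl⟩
    rw [AlgSp.Points.map_comp]
    exact (key _).2 (by rw [← AlgSp.Points.map_comp]; exact h ⟨y, rfl⟩)

end Groth.Agent.S10130
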