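import Groth.Statements.S10131
import Mathlib
import Groth.Agent.S10130
import Groth.Agent.Lib.helper5.AlgSpOpenSub
import Groth.Agent.Lib.helper5.AlgSpQCMor
import Groth.Agent.Lib.helper5.AlgSpUniv

set_option autoImplicit false
universe u
open CategoryTheory CategoryTheory.Limits AlgebraicGeometry
open AlgSp AlgSp.GroupoidSp

namespace Groth.Agent.S10131

/-- Let `(U, R, s, t, c)` be a groupoid in algebraic spaces over `B` with `s, t` open and quasi-compact.
Then `U` has an open covering by `R`-invariant quasi-compact open subspaces. -/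
theorem result (S : Scheme.{u}) (B : AlgSp.Sp S) (hB : AlgSp.IsAlgSpace B)
    (G : AlgSp.GroupoidSp B) (hU : AlgSp.IsAlgSpace G.U) (hR : AlgSp.IsAlgSpace G.R)
    (hs : AlgSp.IsOpenMor G.s ∧ AlgSp.IsQuasiCompactMor G.s) (ht : AlgSp.IsOpenMor G.t ∧ AlgSp.IsQuasiCompactMor G.t)
    (x : AlgSp.Points G.U) :
    ∃ (W : AlgSp.Sp S) (w : W ⟶ G.U), AlgSp.RepWith @IsOpenImmersion w ∧ G.IsInvariant w ∧
      AlgSp.IsQuasiCompactSp W ∧ x ∈ Set.range (AlgSp.Points.map w) := by
  have hqcsub : ∀ (V : Set (AlgSp.Points G.U)), IsOpen V → IsCompact V →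
      AlgSp.IsQuasiCompactSp (AlgSp.H5_openSub G.U V) := by
    intro V hV hVc
    have hj := AlgSp.H5_repWith_isOpenImmersion_openSubι G.U hV
    have hinj : Function.Injective (AlgSp.Points.map (AlgSp.H5_openSubι G.U V)) :=
      AlgSp.H5_injective_of_repWith _ (AlgSp.H5_repWith_of_le (fun _ _ k hk => by
        haveI : IsOpenImmersion k := hk
        exact (inferInstance : UniversallyInjective k)) hj)
    have hop : IsOpenMap (AlgSp.Points.map (AlgSp.H5_openSubι G.U V)) :=
      AlgSp.H5_isOpenMap_of_repWith _ (AlgSp.H5_repWith_of_le (fun _ _ k hk => by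
        haveI : IsOpenImmersion k := hk
        exact (inferInstance : UniversallyOpen k)) hj)
    have hemb : Topology.IsOpenEmbedding (AlgSp.Points.map (AlgSp.H5_openSubι G.U V)) :=
      Topology.IsOpenEmbedding.of_continuous_injective_isOpenMap
        (AlgSp.Points.continuous_map _) hinj hop
    haveI : CompactSpace (AlgSp.Points (AlgSp.H5_openSub G.U V)) := by
      rw [← isCompact_univ_iff, hemb.isInducing.isCompact_iff, Set.image_univ,
        AlgSp.H5_openSub_range]
      exact hVc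
    exact (AlgSp.H5_isQuasiCompactSp_iff_compactSpace
      (AlgSp.H5_isAlgSpace_openSub hU hV)).2 inferInstance
  obtain ⟨W₀, hW₀o, hW₀c, hxW₀, -⟩ :=
    AlgSp.H5_exists_isOpen_isCompact_nhd hU x Set.univ isOpen_univ trivial
  set V := AlgSp.Points.map G.s '' (AlgSp.Points.map G.t ⁻¹' W₀) with hV
  have hVo : IsOpen V := hs.1 _ (hW₀o.preimage (AlgSp.Points.continuous_map _))
  have hVc : IsCompact V :=
    (AlgSp.H5_isCompact_preimage G.t hU ht.2 W₀ hW₀o hW₀c).image (AlgSp.Points.continuous_map _)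
  have hxV : x ∈ V := by
    refine ⟨AlgSp.Points.map G.e x, ?_, ?_⟩
    · rw [Set.mem_preimage, ← AlgSp.Points.map_comp, G.e_t, AlgSp.Points.map_id]
      exact hxW₀
    · rw [← AlgSp.Points.map_comp, G.e_s, AlgSp.Points.map_id]
  refine ⟨AlgSp.H5_openSub G.U V, AlgSp.H5_openSubι G.U V,
    AlgSp.H5_repWith_isOpenImmersion_openSubι G.U hVo, ?_, hqcsub V hVo hVc, ?_⟩
  · exact Groth.Agent.S10130.result S B hB G hU hR hs.1 ht.1 (AlgSp.H5_openSub G.U W₀)
      (AlgSp.H5_openSub G.U V) (AlgSp.H5_openSubι G.U W₀) (AlgSp.H5_openSubι G.U V)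
      (AlgSp.H5_repWith_isOpenImmersion_openSubι G.U hW₀o)
      (AlgSp.H5_repWith_isOpenImmersion_openSubι G.U hVo)
      (by rw [AlgSp.H5_openSub_range, AlgSp.H5_openSub_range])
  · rw [AlgSp.H5_openSub_range]
    exact hxV

end Groth.Agent.S10131
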