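import Groth.Statements.S10142
import Mathlib
import Groth.Agent.Lib.helper5.AlgSpGpd

set_option autoImplicit false
universe u
open CategoryTheory CategoryTheory.Limits AlgebraicGeometry
open AlgSp AlgSp.GroupoidSp

namespace Groth.Agent.S10142

/-- For a groupoid in algebraic spaces `(U, R, s, t, c, e, i)` over `B`: the square with sides `c : R
×_{s,U,t} R ⟶ R`, `pr_1 : R ×_{s,U,t} R ⟶ R`, `s` and `s` is cartesian, and the morphism `R
×_{t,U,t} R ⟶ R ×_{s,U,t} R`, `(α, β) ↦ (α, i(α) ∘ β)`, is an isomorphism whose composite with `c`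
is the second projection `pr_1 : R ×_{t,U,t} R ⟶ R`. (The published statement also lists the square
formed by `pr_0`, `pr_1`, `s`, `t`, which is cartesian by definition of the fibre product.) -/
theorem result (S : Scheme.{u}) (B : AlgSp.Sp S) (hB : AlgSp.IsAlgSpace B)
    (G : AlgSp.GroupoidSp B) (hU : AlgSp.IsAlgSpace G.U) (hR : AlgSp.IsAlgSpace G.R) :
    IsPullback G.c (pullback.snd G.s G.t) G.s G.s ∧
      ∀ φ : pullback G.t G.t ⟶ pullback G.s G.t,
        φ ≫ pullback.fst G.s G.t = pullback.fst G.t G.t →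
        φ ≫ pullback.snd G.s G.t =
          pullback.lift (pullback.fst G.t G.t ≫ G.i) (pullback.snd G.t G.t)
            ((Category.assoc _ _ _).trans ((congrArg (pullback.fst G.t G.t ≫ ·) G.i_s).trans pullback.condition)) ≫ G.c →
        IsIso φ ∧ φ ≫ G.c = pullback.snd G.t G.t := by
  refine ⟨?_, ?_⟩
  · refine ⟨⟨G.H5_c_s⟩, ⟨PullbackCone.IsLimit.mk G.H5_c_s
      (fun s => pullback.lift
        (G.H5_comp s.fst (s.snd ≫ G.i) (s.condition.trans (G.H5_inv_t s.snd).symm)) s.snd
        ((G.H5_comp_s _ _ _).trans (G.H5_inv_s s.snd))) ?_ ?_ ?_⟩⟩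
    · intro s
      exact G.H5_comp_inv_comp s.fst s.snd _ _
    · intro s
      exact pullback.lift_snd _ _ _
    · intro s m hm1 hm2
      have hcond : (m ≫ pullback.fst G.s G.t) ≫ G.s = (m ≫ pullback.snd G.s G.t) ≫ G.t := by
        rw [Category.assoc, Category.assoc, pullback.condition]
      have hα' : s.fst = G.H5_comp (m ≫ pullback.fst G.s G.t) (m ≫ pullback.snd G.s G.t)
          hcond := by
        rw [← hm1]
        exact G.H5_hom_c m hcond
      apply pullback.hom_ext
      · rw [pullback.lift_fst]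
        have h'' : G.H5_comp (m ≫ pullback.fst G.s G.t) (m ≫ pullback.snd G.s G.t) hcond ≫ G.s =
            ((m ≫ pullback.snd G.s G.t) ≫ G.i) ≫ G.t :=
          (G.H5_comp_s _ _ _).trans (G.H5_inv_t _).symm
        calc m ≫ pullback.fst G.s G.t
            = G.H5_comp (G.H5_comp (m ≫ pullback.fst G.s G.t) (m ≫ pullback.snd G.s G.t) hcond)
                ((m ≫ pullback.snd G.s G.t) ≫ G.i) h'' :=
              (G.H5_comp_comp_inv _ _ hcond h'').symm
          _ = G.H5_comp s.fst (s.snd ≫ G.i) _ :=
              G.H5_comp_congr _ _ hα'.symm (by rw [hm2])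
      · rw [pullback.lift_snd]
        exact hm2
  · intro φ hφ1 hφ2
    have hab : pullback.fst G.t G.t ≫ G.t = pullback.snd G.t G.t ≫ G.t := pullback.condition
    have h1 : (pullback.fst G.t G.t ≫ G.i) ≫ G.s = pullback.snd G.t G.t ≫ G.t :=
      (G.H5_inv_s _).trans hab
    have hφ2' : φ ≫ pullback.snd G.s G.t =
        G.H5_comp (pullback.fst G.t G.t ≫ G.i) (pullback.snd G.t G.t) h1 := hφ2
    have hcondφ : (φ ≫ pullback.fst G.s G.t) ≫ G.s = (φ ≫ pullback.snd G.s G.t) ≫ G.t := by
      rw [Category.assoc, Category.assoc, pullback.condition]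
    have hφc : φ ≫ G.c = pullback.snd G.t G.t := by
      rw [G.H5_hom_c φ hcondφ]
      have h2 : pullback.fst G.t G.t ≫ G.s =
          G.H5_comp (pullback.fst G.t G.t ≫ G.i) (pullback.snd G.t G.t) h1 ≫ G.t := by
        rw [G.H5_comp_t, G.H5_inv_t]
      calc G.H5_comp (φ ≫ pullback.fst G.s G.t) (φ ≫ pullback.snd G.s G.t) hcondφ
          = G.H5_comp (pullback.fst G.t G.t)
              (G.H5_comp (pullback.fst G.t G.t ≫ G.i) (pullback.snd G.t G.t) h1) h2 :=
            G.H5_comp_congr _ _ hφ1 hφ2'
        _ = pullback.snd G.t G.t := G.H5_comp_inv_comp' _ _ h1 h2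
    refine ⟨⟨pullback.lift (pullback.fst G.s G.t) G.c G.H5_c_t.symm, ?_, ?_⟩, hφc⟩
    · apply pullback.hom_ext
      · rw [Category.assoc, pullback.lift_fst, hφ1, Category.id_comp]
      · rw [Category.assoc, pullback.lift_snd, hφc, Category.id_comp]
    · apply pullback.hom_ext
      · rw [Category.assoc, hφ1, pullback.lift_fst, Category.id_comp]
      · rw [Category.assoc, hφ2', Category.id_comp]
        have h3 : (pullback.lift (pullback.fst G.s G.t) G.c G.H5_c_t.symm ≫
            pullback.fst G.t G.t ≫ G.i) ≫ G.s =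
            (pullback.lift (pullback.fst G.s G.t) G.c G.H5_c_t.symm ≫ pullback.snd G.t G.t) ≫
              G.t := by
          have h1' : pullback.fst G.t G.t ≫ G.i ≫ G.s = pullback.snd G.t G.t ≫ G.t := by
            rw [← h1, Category.assoc]
          rw [Category.assoc, Category.assoc, h1', Category.assoc]
        rw [G.H5_map_comp _ _ _ h1 h3]
        have hcs : pullback.fst G.s G.t ≫ G.s = pullback.snd G.s G.t ≫ G.t := pullback.condition
        have h4 : (pullback.fst G.s G.t ≫ G.i) ≫ G.s =
            G.H5_comp (pullback.fst G.s G.t) (pullback.snd G.s G.t) hcs ≫ G.t := by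
          rw [G.H5_comp_t, G.H5_inv_s]
        calc G.H5_comp _ _ h3
            = G.H5_comp (pullback.fst G.s G.t ≫ G.i)
                (G.H5_comp (pullback.fst G.s G.t) (pullback.snd G.s G.t) hcs) h4 :=
              G.H5_comp_congr _ _ (by rw [← Category.assoc, pullback.lift_fst])
                (by rw [pullback.lift_snd]; exact G.H5_c_eq)
          _ = pullback.snd G.s G.t := G.H5_inv_comp_comp _ _ hcs h4

end Groth.Agent.S10142
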