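import Groth.Statements.S10145
import Mathlib
import Groth.Agent.Lib.helper5.AlgSpGpd

set_option autoImplicit false
universe u
open CategoryTheory CategoryTheory.Limits AlgebraicGeometry
open AlgSp AlgSp.GroupoidSp

namespace Groth.Agent.S10145

/-- Let `(U, R, s, t, c)` be a groupoid in algebraic spaces over `B` whose object space is `U = Spec k`,
and let `r : Spec k ⟶ R` be such that `s ∘ r` and `t ∘ r` are automorphisms of `Spec k`; write `a =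
r ∘ (s ∘ r)⁻¹`, so that `s ∘ a = id` and `t ∘ a` is an automorphism. Then `R ⟶ R`, `f ↦ c(a ∘ t ∘ f,
f)`, is an automorphism of `R` mapping `e` to `a` (the point `r`). -/
theorem result (S : Scheme.{u}) (B : AlgSp.Sp S) (hB : AlgSp.IsAlgSpace B)
    (G : AlgSp.GroupoidSp B) (hR : AlgSp.IsAlgSpace G.R) (k : Type u) [Field k]
    (σ : Spec (CommRingCat.of k) ⟶ S) (eU : G.U ≅ (AlgSp.yon S).obj (Over.mk σ))
    (a : G.U ⟶ G.R) (ha : a ≫ G.s = 𝟙 G.U) [IsIso (a ≫ G.t)] :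
    IsIso (pullback.lift (G.t ≫ a) (𝟙 G.R) (((Category.assoc _ _ _).trans (congrArg (G.t ≫ ·) ha)).trans ((Category.comp_id _).trans (Category.id_comp _).symm)) ≫ G.c) ∧
      G.e ≫ (pullback.lift (G.t ≫ a) (𝟙 G.R) (((Category.assoc _ _ _).trans (congrArg (G.t ≫ ·) ha)).trans ((Category.comp_id _).trans (Category.id_comp _).symm)) ≫ G.c) = a := by
  have hh : (G.t ≫ a) ≫ G.s = 𝟙 G.R ≫ G.t := by
    rw [Category.assoc, ha, Category.comp_id, Category.id_comp]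
  change IsIso (G.H5_comp (G.t ≫ a) (𝟙 G.R) hh) ∧ G.e ≫ G.H5_comp (G.t ≫ a) (𝟙 G.R) hh = a
  have hmap : ∀ {T T' : AlgSp.Sp S} (m : T' ⟶ T) (α β : T ⟶ G.R) (h : α ≫ G.s = β ≫ G.t),
      (m ≫ α) ≫ G.s = (m ≫ β) ≫ G.t := by
    intro T T' m α β h
    rw [Category.assoc, h, ← Category.assoc]
  have hφ1 : (a ≫ G.t) ≫ inv (a ≫ G.t) = 𝟙 _ := IsIso.hom_inv_id _
  have hφ2 : inv (a ≫ G.t) ≫ a ≫ G.t = 𝟙 _ := IsIso.inv_hom_id _
  have hcancel : ∀ {Z : AlgSp.Sp S} (g : G.U ⟶ Z), a ≫ G.t ≫ inv (a ≫ G.t) ≫ g = g := by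
    intro Z g
    rw [← Category.assoc, ← Category.assoc, hφ1, Category.id_comp]
  obtain ⟨δ, hδ⟩ : ∃ δ : G.R ⟶ G.R, δ = G.t ≫ inv (a ≫ G.t) ≫ a := ⟨_, rfl⟩
  have hδs : δ ≫ G.s = G.t ≫ inv (a ≫ G.t) := by
    rw [hδ, Category.assoc, Category.assoc, ha, Category.comp_id]
  have hδt : δ ≫ G.t = G.t := by
    rw [hδ, Category.assoc, Category.assoc, hφ2, Category.comp_id]
  have hh' : (δ ≫ G.i) ≫ G.s = 𝟙 G.R ≫ G.t := by
    rw [G.H5_inv_s, hδt, Category.id_comp]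
  obtain ⟨τ, hτ⟩ : ∃ τ : G.R ⟶ G.R, τ = G.H5_comp (G.t ≫ a) (𝟙 G.R) hh := ⟨_, rfl⟩
  obtain ⟨τ', hτ'⟩ : ∃ τ' : G.R ⟶ G.R, τ' = G.H5_comp (δ ≫ G.i) (𝟙 G.R) hh' := ⟨_, rfl⟩
  have hτt : τ ≫ G.t = G.t ≫ a ≫ G.t := by
    rw [hτ, G.H5_comp_t, Category.assoc]
  have hτ't : τ' ≫ G.t = G.t ≫ inv (a ≫ G.t) := by
    rw [hτ', G.H5_comp_t, G.H5_inv_t, hδs]
  have e1 : τ ≫ δ = G.t ≫ a := by
    calc τ ≫ δ = (τ ≫ G.t) ≫ inv (a ≫ G.t) ≫ a := by rw [hδ, Category.assoc]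
      _ = (G.t ≫ a ≫ G.t) ≫ inv (a ≫ G.t) ≫ a := by rw [hτt]
      _ = G.t ≫ a := by
        simp only [Category.assoc]
        rw [hcancel]
  have e2 : τ' ≫ G.t ≫ a = δ := by
    rw [← Category.assoc, hτ't, hδ, Category.assoc]
  rw [← hτ]
  refine ⟨⟨τ', ?_, ?_⟩, ?_⟩
  · have hz := hmap τ _ _ hh'
    have hw : ((G.t ≫ a) ≫ G.i) ≫ G.s = G.H5_comp (G.t ≫ a) (𝟙 G.R) hh ≫ G.t := by
      rw [G.H5_comp_t, G.H5_inv_s]
    rw [hτ', G.H5_map_comp τ _ _ hh' hz]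
    refine (G.H5_comp_congr hz hw ?_ ?_).trans (G.H5_inv_comp_comp _ _ hh hw)
    · rw [← Category.assoc, e1]
    · rw [Category.comp_id, hτ]
  · have hz := hmap τ' _ _ hh
    have hw : δ ≫ G.s = G.H5_comp (δ ≫ G.i) (𝟙 G.R) hh' ≫ G.t := by
      rw [G.H5_comp_t, G.H5_inv_t]
    rw [hτ, G.H5_map_comp τ' _ _ hh hz]
    refine (G.H5_comp_congr hz hw ?_ ?_).trans (G.H5_comp_inv_comp' _ _ hh' hw)
    · exact e2
    · rw [Category.comp_id, hτ']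
  · have hz := hmap G.e _ _ hh
    have hq : a ≫ G.s = G.e ≫ G.t := by rw [ha, G.e_t]
    rw [hτ, G.H5_map_comp G.e _ _ hh hz]
    refine (G.H5_comp_congr hz hq ?_ ?_).trans (G.H5_comp_right_unit a G.e ?_ hq)
    · rw [← Category.assoc, G.e_t, Category.id_comp]
    · rw [Category.comp_id]
    · rw [← Category.assoc, ha, Category.id_comp]

end Groth.Agent.S10145
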