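import Groth.Statements.S10148
import Mathlib
import Groth.Agent.Lib.helper5.LinTopSurj

set_option autoImplicit false
universe u
open LinTop

namespace Groth.Agent.S10148

/-- Let A be a weakly admissible topological ring (linearly topologized, Hausdorff and complete, having
a weak ideal of definition) and let I be a weak ideal of definition of A, that is, an open ideal
consisting of topologically nilpotent elements. Then (A, I) is a henselian pair. -/
theorem result
    (A : Type u) [CommRing A] [UniformSpace A] [IsUniformAddGroup A] [IsTopologicalRing A]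
    (hA : LinTop.IsWeaklyAdmissible A) (I : Ideal A) (hI : LinTop.IsWeakIdealOfDefinition A I) :
    HenselianRing A I := by
  classical
  obtain ⟨⟨hlin, -⟩, hT2, hcomplete⟩ := hA
  obtain ⟨hIopen, hInil⟩ := hI
  haveI := hlin; haveI := hT2; haveI := hcomplete
  have hna : NonarchimedeanAddGroup A := H5_nonarchimedeanAddGroup
  have hunit : ∀ x ∈ I, IsUnit (1 + x) := by
    intro x hxI
    have hx := hInil x hxI
    have hneg : IsTopologicallyNilpotent (-x) := by
      have := hx.mul_left (-1)
      simpa using this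
    have hs : Summable ((-x) ^ ·) := by
      apply NonarchimedeanAddGroup.summable_of_tendsto_cofinite_zero
      rw [Nat.cofinite_eq_atTop]
      exact hneg
    have := hs.one_sub_mul_tsum_pow
    rw [sub_neg_eq_add] at this
    exact IsUnit.of_mul_eq_one _ this
  have hjac : I ≤ Ideal.jacobson ⊥ := by
    intro x hx
    rw [Ideal.mem_jacobson_bot]
    intro y
    rw [add_comm]
    exact hunit _ (I.mul_mem_right y hx)
  refine { jac := hjac, is_henselian := ?_ }
  intro f _ a₀ h₁ h₂
  let f' := Polynomial.derivative f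
  let E : Ideal A := Ideal.span {f.eval a₀}
  have hEI : E ≤ I := (Ideal.span_singleton_le_iff_mem _).mpr h₁
  have h₁' : f.eval a₀ ∈ E := Ideal.mem_span_singleton_self _
  let c : ℕ → A := fun n => Nat.recOn n a₀ fun _ b => b - f.eval b * Ring.inverse (f'.eval b)
  have hc : ∀ n, c (n + 1) = c n - f.eval (c n) * Ring.inverse (f'.eval (c n)) := by
    intro n
    simp only [c]
  have hc_mod : ∀ n, c n ≡ a₀ [SMOD E] := by
    intro n
    induction n with
    | zero => rfl
    | succ n ih => ?_
    rw [hc, sub_eq_add_neg, ← add_zero a₀]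
    refine ih.add ?_
    rw [SModEq.zero, Ideal.neg_mem_iff]
    refine E.mul_mem_right _ ?_
    rw [← SModEq.zero] at h₁' ⊢
    exact (ih.eval f).trans h₁'
  have hf'c : ∀ n, IsUnit (f'.eval (c n)) := by
    intro n
    have := isLocalHom_of_le_jacobson_bot I hjac
    apply IsUnit.of_map (Ideal.Quotient.mk I)
    convert! h₂ using 1
    exact SModEq.def.mp (((hc_mod n).mono hEI).eval _)
  have hfcI : ∀ n, f.eval (c n) ∈ E ^ (n + 1) := by
    intro n
    induction n with
    | zero => simpa only [Nat.rec_zero, zero_add, pow_one] using! h₁'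
    | succ n ih => ?_
    rw [← Polynomial.taylor_eval_sub (c n), hc, sub_eq_add_neg, sub_eq_add_neg,
      add_neg_cancel_comm]
    rw [Polynomial.eval_eq_sum, Polynomial.sum_over_range' _ _ _ (lt_add_of_pos_right _ zero_lt_two), ←
      Finset.sum_range_add_sum_Ico _ (Nat.le_add_left _ _)]
    swap
    · intro i
      rw [zero_mul]
    refine Ideal.add_mem _ ?_ ?_
    · rw [← one_add_one_eq_two, Finset.sum_range_succ, Finset.range_one, Finset.sum_singleton,
        Polynomial.taylor_coeff_zero, Polynomial.taylor_coeff_one, pow_zero, pow_one, mul_one, mul_neg,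
        mul_left_comm, Ring.mul_inverse_cancel _ (hf'c n), mul_one, add_neg_cancel]
      exact Ideal.zero_mem _
    · refine Submodule.sum_mem _ ?_
      simp only [Finset.mem_Ico]
      rintro i ⟨h2i, _⟩
      have aux : n + 2 ≤ i * (n + 1) := by trans 2 * (n + 1) <;> nlinarith only [h2i]
      refine Ideal.mul_mem_left _ _ (Ideal.pow_le_pow_right aux ?_)
      rw [pow_mul']
      exact Ideal.pow_mem_pow ((Ideal.neg_mem_iff _).2 <| Ideal.mul_mem_right _ _ ih) _
  have hd : ∀ n, c (n + 1) - c n ∈ E ^ (n + 1) := by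
    intro n
    rw [hc, sub_sub_cancel_left, neg_mem_iff]
    exact Ideal.mul_mem_right _ _ (hfcI n)
  have hEpow : ∀ U ∈ nhds (0 : A), ∃ k₀, ∀ k, k₀ ≤ k → ((E ^ k : Ideal A) : Set A) ⊆ U := by
    intro U hU
    obtain ⟨J, hJ, hJU⟩ := H5_exists_open_ideal hU
    have hε : IsTopologicallyNilpotent (f.eval a₀) := hInil _ h₁
    obtain ⟨k₀, hk₀⟩ := hε.exists_pow_mem_of_mem_nhds (H5_mem_nhds_of_isOpen J hJ)
    refine ⟨k₀, fun k hk => ?_⟩
    have : E ^ k ≤ J := by
      rw [Ideal.span_singleton_pow, Ideal.span_singleton_le_iff_mem]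
      obtain ⟨j, rfl⟩ := Nat.exists_eq_add_of_le hk
      rw [pow_add]; exact J.mul_mem_right _ hk₀
    exact (SetLike.coe_subset_coe.mpr this).trans hJU
  let d : ℕ → A := fun k => c (k + 1) - c k
  have htend0 : Filter.Tendsto d Filter.atTop (nhds 0) := by
    intro U hU
    obtain ⟨k₀, hk₀⟩ := hEpow U hU
    rw [Filter.mem_map]
    exact Filter.mem_atTop_sets.mpr ⟨k₀, fun k hk => hk₀ (k + 1) (by omega) (hd k)⟩
  have hsummable : Summable d := by
    apply NonarchimedeanAddGroup.summable_of_tendsto_cofinite_zero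
    rw [Nat.cofinite_eq_atTop]
    exact htend0
  have hcsum : ∀ n, c n = a₀ + ∑ k ∈ Finset.range n, d k := by
    intro n
    rw [Finset.sum_range_sub]
    simp [c]
  have hlim : Filter.Tendsto c Filter.atTop (nhds (a₀ + ∑' k, d k)) := by
    have := (tendsto_const_nhds (x := a₀)).add hsummable.hasSum.tendsto_sum_nat
    refine this.congr fun n => (hcsum n).symm
  refine ⟨a₀ + ∑' k, d k, ?_, ?_⟩
  · have h1 : Filter.Tendsto (fun n => f.eval (c n)) Filter.atTop
        (nhds (f.eval (a₀ + ∑' k, d k))) := (f.continuous.tendsto _).comp hlim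
    have h2 : Filter.Tendsto (fun n => f.eval (c n)) Filter.atTop (nhds 0) := by
      intro U hU
      obtain ⟨k₀, hk₀⟩ := hEpow U hU
      rw [Filter.mem_map]
      exact Filter.mem_atTop_sets.mpr ⟨k₀, fun k hk => hk₀ (k + 1) (by omega) (hfcI k)⟩
    exact tendsto_nhds_unique h1 h2
  · have : a₀ + ∑' k, d k - a₀ = ∑' k, d k := by ring
    rw [this]
    have hclosed : IsClosed (I : Set A) := H5_isClosed_of_isOpen I hIopen
    refine hclosed.mem_of_tendsto hsummable.hasSum.tendsto_sum_nat
      (Filter.Eventually.of_forall fun K => ?_)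
    exact I.sum_mem fun k _ => hEI (Ideal.pow_le_self (by omega) (hd k))

end Groth.Agent.S10148
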