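import Groth.Statements.S10149
import Mathlib

set_option autoImplicit false
universe u v
open LinTop

namespace Groth.Agent.S10149

/-- In a linearly topologized ring B the ideal of topologically nilpotent elements is closed. Moreover,
if φ : A → B is a continuous homomorphism of linearly topologized rings and I is an ideal of A
consisting of topologically nilpotent elements, then every element of the closure of the ideal φ(I)B
is topologically nilpotent. -/
theorem result
    (A : Type u) [CommRing A] [TopologicalSpace A] [IsTopologicalRing A] [IsLinearTopology A A]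
    (B : Type v) [CommRing B] [TopologicalSpace B] [IsTopologicalRing B] [IsLinearTopology B B] :
    IsClosed ((topologicalNilradical B : Ideal B) : Set B) ∧
      ∀ (φ : A →+* B), Continuous φ → ∀ I : Ideal A, (∀ f ∈ I, IsTopologicallyNilpotent f) →
        ∀ g ∈ (I.map φ).closure, IsTopologicallyNilpotent g := by
  have hclosed : IsClosed ((topologicalNilradical B : Ideal B) : Set B) := by
    rw [← closure_subset_iff_isClosed]
    intro g hg
    show IsTopologicallyNilpotent g
    simp only [IsTopologicallyNilpotent,
      Filter.atTop_basis.tendsto_iff IsLinearTopology.hasBasis_ideal, true_and]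
    intro U hU
    have hgU : (fun y => g + y) '' (U : Set B) ∈ nhds g := by
      have := Filter.image_mem_map (m := fun y => g + y) hU
      rwa [map_add_left_nhds_zero] at this
    obtain ⟨h, ⟨u, hu, rfl⟩, hN⟩ := mem_closure_iff_nhds.mp hg _ hgU
    have hN' : IsTopologicallyNilpotent (g + u) := hN
    obtain ⟨n0, hn0⟩ := Filter.eventually_atTop.mp (hN'.eventually_mem hU)
    refine ⟨n0, fun n hn => ?_⟩
    have h1 : (g + u) ^ n ∈ U := hn0 n hn
    have h2 : (g + u) ^ n - g ^ n ∈ U := by
      obtain ⟨c, hc⟩ := sub_dvd_pow_sub_pow (g + u) g n
      rw [hc]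
      have : g + u - g = u := by ring
      rw [this]
      exact U.mul_mem_right _ hu
    have h3 : g ^ n = (g + u) ^ n - ((g + u) ^ n - g ^ n) := by ring
    show g ^ n ∈ U
    rw [h3]; exact U.sub_mem h1 h2
  refine ⟨hclosed, ?_⟩
  intro φ hφ I hI g hg
  have hle : I.map φ ≤ topologicalNilradical B := by
    rw [Ideal.map_le_iff_le_comap]
    intro f hf
    exact (hI f hf).map hφ
  have h1 : ((I.map φ).closure : Set B) ⊆ (topologicalNilradical B : Set B) := by
    rw [Ideal.coe_closure]
    exact closure_minimal hle hclosed
  exact h1 hg

end Groth.Agent.S10149
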