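import Groth.Statements.S10151
import Mathlib

set_option autoImplicit false
universe u v w
open LinTop

namespace Groth.Agent.S10151

/-- Given linearly topologized rings A, B, C and continuous ring maps ψ : B → C and φ : A → B, tautness
of the composite A → C implies that ψ is taut. -/
theorem result
    (A : Type u) [CommRing A] [TopologicalSpace A] [IsTopologicalRing A] [IsLinearTopology A A]
    (B : Type v) [CommRing B] [TopologicalSpace B] [IsTopologicalRing B] [IsLinearTopology B B]
    (C : Type w) [CommRing C] [TopologicalSpace C] [IsTopologicalRing C] [IsLinearTopology C C]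
    (φ : A →+* B) (ψ : B →+* C) (hφ : Continuous φ) (hψ : Continuous ψ)
    (h : LinTop.IsTaut (ψ.comp φ)) : LinTop.IsTaut ψ := by
  obtain ⟨-, h2, -⟩ := h
  refine ⟨hψ, ?_, ?_⟩
  · intro J hJ
    have hJ' : IsOpen ((J.comap φ : Ideal A) : Set A) := by
      have : ((J.comap φ : Ideal A) : Set A) = φ ⁻¹' (J : Set B) := rfl
      rw [this]; exact hJ.preimage hφ
    have h3 := h2 _ hJ'
    have hle : (J.comap φ).map (ψ.comp φ) ≤ J.map ψ := by
      rw [← Ideal.map_map]
      exact Ideal.map_mono Ideal.map_comap_le
    have hle' : ((J.comap φ).map (ψ.comp φ)).closure ≤ (J.map ψ).closure := by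
      intro x hx
      have hx' : x ∈ closure (((J.comap φ).map (ψ.comp φ) : Ideal C) : Set C) := by
        rwa [← Ideal.coe_closure]
      have : x ∈ closure ((J.map ψ : Ideal C) : Set C) := closure_mono hle hx'
      rwa [← Ideal.coe_closure] at this
    have := Ideal.isOpen_of_isOpen_subideal hle' (by rw [Ideal.coe_closure]; exact h3)
    rwa [Ideal.coe_closure] at this
  · intro U hU
    obtain ⟨K, hK, hKU⟩ := (IsLinearTopology.hasBasis_open_ideal (R := C)).mem_iff.mp hU
    refine ⟨K.comap ψ, ?_, ?_⟩
    · have : ((K.comap ψ : Ideal B) : Set B) = ψ ⁻¹' (K : Set C) := rfl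
      rw [this]; exact hK.preimage hψ
    · have hle : (K.comap ψ).map ψ ≤ K := Ideal.map_comap_le
      have hKc : IsClosed (K : Set C) := by
        have := AddSubgroup.isClosed_of_isOpen K.toAddSubgroup hK
        exact this
      exact (closure_minimal hle hKc).trans hKU

end Groth.Agent.S10151
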