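import Groth.Statements.S10152
import Mathlib
import Groth.Agent.Lib.helper5.LinTop

set_option autoImplicit false
universe u v
open LinTop

namespace Groth.Agent.S10152

/-- Let φ : A → B be a taut homomorphism of linearly topologized rings. If A has a countable fundamental
system of open ideals, then so does B (equivalently, the neighbourhood filters of 0 are countably
generated). -/
theorem result
    (A : Type u) [CommRing A] [TopologicalSpace A] [IsTopologicalRing A] [IsLinearTopology A A]
    (B : Type v) [CommRing B] [TopologicalSpace B] [IsTopologicalRing B] [IsLinearTopology B B]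
    (φ : A →+* B) (hφ : LinTop.IsTaut φ) (hA : (nhds (0 : A)).IsCountablyGenerated) :
    (nhds (0 : B)).IsCountablyGenerated := by
  obtain ⟨x, hx⟩ := (nhds (0 : A)).exists_antitone_basis
  have hex : ∀ n : ℕ, ∃ I : Ideal A, IsOpen (I : Set A) ∧ (I : Set A) ⊆ x n := fun n =>
    H5_exists_open_ideal (hx.toHasBasis.mem_of_mem trivial)
  choose I hIo hIx using hex
  have hb : (nhds (0 : B)).HasBasis (fun _ : ℕ => True)
      (fun n => (((I n).map φ).closure : Set B)) := by
    refine ⟨fun U => ⟨fun hU => ?_, ?_⟩⟩
    · obtain ⟨I', hI', hI'U⟩ := H5_taut_nhds φ hφ hU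
      obtain ⟨n, -, hn⟩ := hx.toHasBasis.mem_iff.mp (H5_mem_nhds_of_isOpen I' hI')
      refine ⟨n, trivial, ?_⟩
      have hle : I n ≤ I' := fun a ha => hn (hIx n ha)
      exact (SetLike.coe_subset_coe.mpr (H5_closure_mono (Ideal.map_mono hle))).trans hI'U
    · rintro ⟨n, -, hn⟩
      exact Filter.mem_of_superset
        (H5_mem_nhds_of_isOpen _ (H5_taut_open φ hφ (I n) (hIo n))) hn
  exact hb.isCountablyGenerated

end Groth.Agent.S10152
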