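import Groth.Statements.S10154
import Mathlib
import Groth.Agent.Lib.helper5.LinTop

set_option autoImplicit false
universe u v
open LinTop

namespace Groth.Agent.S10154

/-- Let φ : A → B be a taut homomorphism of linearly topologized rings. If A is pre-admissible, then B
is pre-admissible. -/
theorem result
    (A : Type u) [CommRing A] [TopologicalSpace A] [IsTopologicalRing A] [IsLinearTopology A A]
    (B : Type v) [CommRing B] [TopologicalSpace B] [IsTopologicalRing B] [IsLinearTopology B B]
    (φ : A →+* B) (hφ : LinTop.IsTaut φ) (hA : LinTop.IsPreadmissible A) :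
    LinTop.IsPreadmissible B := by
  obtain ⟨-, I, hIo, hIn⟩ := hA
  refine ⟨inferInstance, (I.map φ).closure, H5_taut_open φ hφ I hIo, ?_⟩
  intro U hU
  obtain ⟨K, hK, hKU⟩ := H5_exists_open_ideal hU
  obtain ⟨I', hI', hI'K⟩ := H5_taut_nhds φ hφ (H5_mem_nhds_of_isOpen K hK)
  obtain ⟨n, hn, hnI'⟩ := hIn _ (H5_mem_nhds_of_isOpen I' hI')
  refine ⟨n, hn, ?_⟩
  have h1 : (I.map φ).closure ^ n ≤ ((I.map φ) ^ n).closure := H5_closure_pow_le _ n
  have h2 : ((I.map φ) ^ n).closure ≤ (I'.map φ).closure := by
    apply H5_closure_mono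
    rw [← Ideal.map_pow]
    exact Ideal.map_mono (fun a ha => hnI' ha)
  exact (SetLike.coe_subset_coe.mpr (h1.trans h2)).trans (hI'K.trans hKU)

end Groth.Agent.S10154
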