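import Groth.Statements.S10155
import Mathlib
import Groth.Agent.Lib.helper5.LinTopSurj

set_option autoImplicit false
universe u v
open LinTop

namespace Groth.Agent.S10155

/-- Let φ : A → B be a taut homomorphism of linearly topologized rings with dense image. Assume A is
Hausdorff and complete with a countable fundamental system of open ideals and B is Hausdorff. Then φ
is surjective and open, so that B is the quotient of A by the closed ideal ker φ with the quotient
topology, and B is complete. -/
theorem result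
    (A : Type u) [CommRing A] [UniformSpace A] [IsUniformAddGroup A] [IsTopologicalRing A]
    [IsLinearTopology A A] [T2Space A] [CompleteSpace A] (hA : (nhds (0 : A)).IsCountablyGenerated)
    (B : Type v) [CommRing B] [UniformSpace B] [IsUniformAddGroup B] [IsTopologicalRing B]
    [IsLinearTopology B B] [T2Space B]
    (φ : A →+* B) (hφ : LinTop.IsTaut φ) (hd : DenseRange φ) :
    Function.Surjective φ ∧ IsOpenQuotientMap φ ∧ CompleteSpace B := by
  classical
  have hφ' := hφ
  obtain ⟨hcont, hopenB, hnhdsB⟩ := hφ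
  obtain ⟨I, hIopen, hIbasis⟩ :=
    (IsLinearTopology.hasBasis_open_ideal (R := A)).exists_antitone_subbasis
  have hanti : Antitone I := fun m n h => SetLike.coe_subset_coe.mp (hIbasis.antitone h)
  have hI : ∀ U ∈ nhds (0 : A), ∃ k, (I k : Set A) ⊆ U := fun U hU => by
    obtain ⟨k, -, hk⟩ := hIbasis.toHasBasis.mem_iff.mp hU
    exact ⟨k, hk⟩
  let J : ℕ → Ideal B := fun n => ((I n).map φ).closure
  have hJopen : ∀ n, IsOpen (J n : Set B) := fun n => H5_taut_open φ hφ' (I n) (hIopen n)
  have hJanti : Antitone J := fun m n h => H5_closure_mono (Ideal.map_mono (hanti h))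
  have hJ : ∀ U ∈ nhds (0 : B), ∃ k₀, ∀ k, k₀ ≤ k → (J k : Set B) ⊆ U := by
    intro U hU
    obtain ⟨K, hK, hKU⟩ := H5_taut_nhds φ hφ' hU
    obtain ⟨k₀, hk₀⟩ := hI (K : Set A) (H5_mem_nhds_of_isOpen K hK)
    refine ⟨k₀, fun k hk => ?_⟩
    have h1 : I k ≤ K := (hanti hk).trans (SetLike.coe_subset_coe.mp hk₀)
    exact (SetLike.coe_subset_coe.mpr (H5_closure_mono (Ideal.map_mono h1))).trans hKU
  have hdense : ∀ (b : B) (n : ℕ), ∃ a : A, b - φ a ∈ J n := by
    intro b n
    have hnb : (fun y => b - y) ⁻¹' (J n : Set B) ∈ nhds b := by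
      apply (continuous_const.sub continuous_id).continuousAt
      simpa using H5_mem_nhds_of_isOpen (J n) (hJopen n)
    obtain ⟨a, ha⟩ := hd.mem_nhds hnb
    exact ⟨a, ha⟩
  have hstep : ∀ k, ∀ b ∈ J k, ∃ a ∈ I k, b - φ a ∈ J (k + 1) := by
    intro k
    let S : Ideal B :=
      { carrier := {c | ∃ a ∈ I k, c - φ a ∈ J (k + 1)}
        add_mem' := by
          rintro c c' ⟨a, ha, hc⟩ ⟨a', ha', hc'⟩
          refine ⟨a + a', (I k).add_mem ha ha', ?_⟩
          have : c + c' - φ (a + a') = (c - φ a) + (c' - φ a') := by rw [map_add]; ring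
          rw [this]; exact (J (k+1)).add_mem hc hc'
        zero_mem' := ⟨0, (I k).zero_mem, by simp⟩
        smul_mem' := by
          rintro b c ⟨a, ha, hc⟩
          obtain ⟨a', ha'⟩ := hdense b (k + 1)
          refine ⟨a' * a, (I k).mul_mem_left a' ha, ?_⟩
          have : b • c - φ (a' * a) = b * (c - φ a) + (b - φ a') * φ a := by
            rw [map_mul, smul_eq_mul]; ring
          rw [this]
          exact (J (k+1)).add_mem ((J (k+1)).mul_mem_left b hc) ((J (k+1)).mul_mem_right _ ha') }
    have h1 : (I k).map φ ≤ S := by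
      rw [Ideal.map_le_iff_le_comap]
      intro x hx
      exact ⟨x, hx, by simp⟩
    have h2 : J (k + 1) ≤ S := fun c hc => ⟨0, (I k).zero_mem, by simpa using hc⟩
    have h3 : J k ≤ (I k).map φ ⊔ J (k + 1) :=
      H5_closure_le_of_isOpen le_sup_left
        (Ideal.isOpen_of_isOpen_subideal le_sup_right (hJopen (k+1)))
    intro b hb
    exact (h3.trans (sup_le h1 h2)) hb
  have hlift := H5_lift_of_approx φ hcont I J hanti hIopen hI hJ hstep
  have hsurj : Function.Surjective φ := by
    intro b
    obtain ⟨a, ha⟩ := hdense b 0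
    obtain ⟨a', -, ha'⟩ := hlift 0 (b - φ a) ha
    exact ⟨a + a', by rw [map_add, ha']; ring⟩
  have hopenmap : IsOpenMap φ := by
    rw [IsTopologicalAddGroup.isOpenMap_iff_nhds_zero]
    intro S hS
    rw [Filter.mem_map] at hS
    obtain ⟨n, hn⟩ := hI _ hS
    refine Filter.mem_of_superset (H5_mem_nhds_of_isOpen (J n) (hJopen n)) ?_
    intro b hb
    obtain ⟨a, ha, hab⟩ := hlift n b hb
    rw [← hab]
    exact hn ha
  refine ⟨hsurj, ⟨hsurj, hcont, hopenmap⟩, ?_⟩
  -- completeness
  have hbasisB : (nhds (0 : B)).HasBasis (fun _ : ℕ => True) (fun n => (J n : Set B)) := by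
    refine ⟨fun U => ⟨fun hU => ?_, fun ⟨n, _, hn⟩ =>
      Filter.mem_of_superset (H5_mem_nhds_of_isOpen (J n) (hJopen n)) hn⟩⟩
    obtain ⟨k₀, hk₀⟩ := hJ U hU
    exact ⟨k₀, trivial, hk₀ k₀ le_rfl⟩
  have hcgB : (nhds (0 : B)).IsCountablyGenerated := hbasisB.isCountablyGenerated
  have hcgU : (uniformity B).IsCountablyGenerated := IsUniformAddGroup.uniformity_countably_generated
  refine UniformSpace.complete_of_convergent_controlled_sequences
    (fun N => {p : B × B | p.2 - p.1 ∈ J N}) (fun N => ?_) (fun u hu => ?_)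
  · rw [uniformity_eq_comap_nhds_zero B]
    exact Filter.preimage_mem_comap (H5_mem_nhds_of_isOpen (J N) (hJopen N))
  · have hd : ∀ k, u (k + 1) - u k ∈ J k := fun k => hu k k (k + 1) le_rfl (Nat.le_succ k)
    have hl : ∀ k, ∃ a ∈ I k, φ a = u (k + 1) - u k := fun k => hlift k _ (hd k)
    choose a haI ha using hl
    obtain ⟨x0, hx0⟩ := hsurj (u 0)
    have htend0 : Filter.Tendsto a Filter.atTop (nhds 0) := by
      intro U hU
      obtain ⟨k₀, hk₀⟩ := hI U hU
      rw [Filter.mem_map]
      exact Filter.mem_atTop_sets.mpr ⟨k₀, fun k hk => hk₀ (hanti hk (haI k))⟩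
    have hsummable : Summable a := by
      have : NonarchimedeanAddGroup A := H5_nonarchimedeanAddGroup
      apply NonarchimedeanAddGroup.summable_of_tendsto_cofinite_zero
      rw [Nat.cofinite_eq_atTop]
      exact htend0
    have hlimA : Filter.Tendsto (fun K => x0 + ∑ k ∈ Finset.range K, a k) Filter.atTop
        (nhds (x0 + ∑' k, a k)) :=
      tendsto_const_nhds.add hsummable.hasSum.tendsto_sum_nat
    have hu_eq : ∀ K, φ (x0 + ∑ k ∈ Finset.range K, a k) = u K := by
      intro K
      rw [map_add, map_sum, hx0]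
      simp_rw [ha]
      rw [Finset.sum_range_sub]
      ring
    refine ⟨φ (x0 + ∑' k, a k), ?_⟩
    have := (hcont.tendsto _).comp hlimA
    refine this.congr ?_
    intro K
    exact hu_eq K

end Groth.Agent.S10155
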