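import Groth.Statements.S10156
import Mathlib
import Groth.Agent.Lib.helper5.LinTop

set_option autoImplicit false
universe u v w
open LinTop

namespace Groth.Agent.S10156

/-- Given pre-adic rings A, B, C and continuous ring maps ψ : B → C and φ : A → B, adicness of the
composite A → C implies that ψ is adic. -/
theorem result
    (A : Type u) [CommRing A] [TopologicalSpace A] [IsTopologicalRing A] (hA : LinTop.IsPreadic A)
    (B : Type v) [CommRing B] [TopologicalSpace B] [IsTopologicalRing B] (hB : LinTop.IsPreadic B)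
    (C : Type w) [CommRing C] [TopologicalSpace C] [IsTopologicalRing C] (hC : LinTop.IsPreadic C)
    (φ : A →+* B) (ψ : B →+* C) (hφ : Continuous φ) (hψ : Continuous ψ)
    (h : LinTop.IsAdicHom (ψ.comp φ)) : LinTop.IsAdicHom ψ := by
  obtain ⟨I, ⟨hIo, hIb⟩, hadic⟩ := h
  obtain ⟨hco, hcb⟩ := isAdic_iff.mp hadic
  obtain ⟨J₀, hJ₀⟩ := hB
  obtain ⟨hJ₀o, hJ₀b⟩ := isAdic_iff.mp hJ₀
  have hJ₀o1 : IsOpen ((J₀ : Ideal B) : Set B) := by simpa using hJ₀o 1
  -- a power of `I.map φ` lies in `J₀`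
  obtain ⟨m, -, hm⟩ := hIb _ (H5_mem_nhds_of_isOpen _ (H5_isOpen_comap φ hφ J₀ hJ₀o1))
  have ham : (I.map φ) ^ m ≤ J₀ := by
    rw [← Ideal.map_pow, Ideal.map_le_iff_le_comap]
    exact fun a ha => hm ha
  have hJm : (J₀ ⊔ I.map φ) ^ (1 + m) ≤ J₀ := by
    refine Ideal.sup_pow_add_le_pow_sup_pow.trans ?_
    rw [pow_one]
    exact sup_le le_rfl ham
  refine ⟨J₀ ⊔ I.map φ, ⟨Ideal.isOpen_of_isOpen_subideal le_sup_left hJ₀o1, ?_⟩, ?_⟩
  · intro U hU
    obtain ⟨k, hk⟩ := hJ₀b U hU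
    refine ⟨(1 + m) * (k + 1), Nat.mul_pos (by omega) (Nat.succ_pos k), ?_⟩
    have h1 : (J₀ ⊔ I.map φ) ^ ((1 + m) * (k + 1)) ≤ J₀ ^ (k + 1) := by
      rw [pow_mul]; exact Ideal.pow_right_mono hJm _
    have h2 : J₀ ^ (k + 1) ≤ J₀ ^ k := Ideal.pow_le_pow_right (Nat.le_succ k)
    exact (SetLike.coe_subset_coe.mpr (h1.trans h2)).trans hk
  · have hc1 : IsOpen ((I.map (ψ.comp φ) : Ideal C) : Set C) := by simpa using hco 1
    obtain ⟨m', hm'⟩ := hJ₀b _ (H5_mem_nhds_of_isOpen _ (H5_isOpen_comap ψ hψ _ hc1))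
    have hbm : (J₀.map ψ) ^ m' ≤ I.map (ψ.comp φ) := by
      rw [← Ideal.map_pow, Ideal.map_le_iff_le_comap]
      exact fun a ha => hm' ha
    have hd : (J₀ ⊔ I.map φ).map ψ = J₀.map ψ ⊔ I.map (ψ.comp φ) := by
      rw [Ideal.map_sup, Ideal.map_map]
    have hdm : ((J₀ ⊔ I.map φ).map ψ) ^ (m' + 1) ≤ I.map (ψ.comp φ) := by
      rw [hd]
      refine Ideal.sup_pow_add_le_pow_sup_pow.trans ?_
      rw [pow_one]
      exact sup_le hbm le_rfl
    have hcd : I.map (ψ.comp φ) ≤ (J₀ ⊔ I.map φ).map ψ := by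
      rw [hd]; exact le_sup_right
    rw [isAdic_iff]
    refine ⟨fun n => ?_, fun s hs => ?_⟩
    · exact Ideal.isOpen_of_isOpen_subideal (Ideal.pow_right_mono hcd n) (hco n)
    · obtain ⟨n, hn⟩ := hcb s hs
      refine ⟨(m' + 1) * n, ?_⟩
      have : ((J₀ ⊔ I.map φ).map ψ) ^ ((m' + 1) * n) ≤ (I.map (ψ.comp φ)) ^ n := by
        rw [pow_mul]; exact Ideal.pow_right_mono hdm n
      exact (SetLike.coe_subset_coe.mpr this).trans hn

end Groth.Agent.S10156
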