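import Groth.Statements.S10157
import Mathlib
import Groth.Agent.Lib.helper5.LinTop

set_option autoImplicit false
universe u v
open LinTop

namespace Groth.Agent.S10157

/-- A continuous adic homomorphism φ : A → B between pre-adic topological rings is taut. -/
theorem result
    (A : Type u) [CommRing A] [TopologicalSpace A] [IsTopologicalRing A] (hA : LinTop.IsPreadic A)
    (B : Type v) [CommRing B] [TopologicalSpace B] [IsTopologicalRing B] (hB : LinTop.IsPreadic B)
    (φ : A →+* B) (hφ : Continuous φ) (h : LinTop.IsAdicHom φ) : LinTop.IsTaut φ := by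
  obtain ⟨I, ⟨hIo, hIb⟩, hadic⟩ := h
  obtain ⟨hJo, hJb⟩ := isAdic_iff.mp hadic
  obtain ⟨I₀, hI₀⟩ := hA
  obtain ⟨hI₀o, hI₀b⟩ := isAdic_iff.mp hI₀
  refine ⟨hφ, ?_, ?_⟩
  · intro I' hI'
    obtain ⟨n, -, hn⟩ := hIb _ (H5_mem_nhds_of_isOpen I' hI')
    have hle : (I.map φ) ^ n ≤ I'.map φ := by
      rw [← Ideal.map_pow]
      exact Ideal.map_mono (fun a ha => hn ha)
    have ho : IsOpen ((I'.map φ : Ideal B) : Set B) :=
      Ideal.isOpen_of_isOpen_subideal hle (hJo n)
    rw [(H5_isClosed_of_isOpen _ ho).closure_eq]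
    exact ho
  · intro U hU
    obtain ⟨n, hn⟩ := hJb U hU
    obtain ⟨k, hk⟩ := hI₀b _ (H5_mem_nhds_of_isOpen I hIo)
    have hle : I₀ ^ (k * n) ≤ I ^ n := by
      rw [pow_mul]
      exact Ideal.pow_right_mono (fun a ha => hk ha) n
    have hIn : IsOpen ((I ^ n : Ideal A) : Set A) :=
      Ideal.isOpen_of_isOpen_subideal hle (hI₀o _)
    refine ⟨I ^ n, hIn, ?_⟩
    rw [Ideal.map_pow, (H5_isClosed_of_isOpen _ (hJo n)).closure_eq]
    exact hn

end Groth.Agent.S10157
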