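import Groth.Statements.S10159
import Mathlib
import Groth.Agent.Lib.helper5.LinTop

set_option autoImplicit false
universe u
open LinTop

namespace Groth.Agent.S10159

/-- For a ring A carrying a linear topology, the following four conditions are equivalent: (1) A is
weakly pre-adic; (2) there exist a pre-adic topological ring A' and a taut continuous ring
homomorphism A' → A (A' is taken in the universe of A, which suffices since A with an adic topology
serves); (3) A has an ideal of definition, and for at least one ideal of definition I every closure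
cl(I^n) with n ≥ 1 is open; (4) A has an ideal of definition, and for each of its ideals of
definition I every closure cl(I^n) with n ≥ 1 is open. -/
theorem result
    (A : Type u) [CommRing A] [TopologicalSpace A] [IsTopologicalRing A] [IsLinearTopology A A] :
    List.TFAE [LinTop.IsWeaklyPreadic A,
      ∃ (A' : Type u) (_ : CommRing A') (_ : TopologicalSpace A') (_ : IsTopologicalRing A')
        (φ : A' →+* A), LinTop.IsPreadic A' ∧ LinTop.IsTaut φ,
      LinTop.IsPreadmissible A ∧ ∃ I : Ideal A, LinTop.IsIdealOfDefinition A I ∧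
        ∀ n : ℕ, 0 < n → IsOpen (closure ((I ^ n : Ideal A) : Set A)),
      LinTop.IsPreadmissible A ∧ ∀ I : Ideal A, LinTop.IsIdealOfDefinition A I →
        ∀ n : ℕ, 0 < n → IsOpen (closure ((I ^ n : Ideal A) : Set A))] := by
  -- auxiliary: an open ideal contains closure of a power of I when closures of powers form a basis
  tfae_have 1 → 2 := by
    rintro ⟨-, I, hopen, hbasis⟩
    refine ⟨A, inferInstance, I.adicTopology, (I.nonarchimedean).toIsTopologicalRing,
      RingHom.id A, ⟨I, rfl⟩, ?_⟩
    refine ⟨?_, ?_, ?_⟩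
    · have hle : I.adicTopology ≤ (inferInstance : TopologicalSpace A) := by
        apply le_of_nhds_le_nhds
        intro x U hU
        have h0 : (fun y => x + y) ⁻¹' U ∈ nhds (0 : A) := by
          apply (continuous_const_add x).continuousAt
          simpa using hU
        obtain ⟨n, hn⟩ := hbasis _ h0
        refine (I.hasBasis_nhds_adic x).mem_iff.mpr ⟨n, trivial, ?_⟩
        rintro _ ⟨y, hy, rfl⟩
        exact hn (subset_closure hy)
      exact continuous_id_iff_le.mpr hle
    · intro I' hI'
      have h0 : (I' : Set A) ∈ @nhds A I.adicTopology 0 :=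
        @IsOpen.mem_nhds A I.adicTopology 0 _ hI' I'.zero_mem
      obtain ⟨n, -, hn⟩ := (I.hasBasis_nhds_zero_adic).mem_iff.mp h0
      rw [Ideal.map_id]
      have hle : (I ^ n).closure ≤ I'.closure := H5_closure_mono (fun x hx => hn hx)
      have := Ideal.isOpen_of_isOpen_subideal hle (by rw [Ideal.coe_closure]; exact hopen n)
      rwa [Ideal.coe_closure] at this
    · intro U hU
      obtain ⟨n, hn⟩ := hbasis U hU
      refine ⟨I ^ n, ?_, by rwa [Ideal.map_id]⟩
      exact @OpenAddSubgroup.isOpen' A _ I.adicTopology (I.openAddSubgroup n)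
  tfae_have 2 → 1 := by
    rintro ⟨A', _, _, _, φ, ⟨I', hI'⟩, hφ⟩
    obtain ⟨ho, hb⟩ := isAdic_iff.mp hI'
    refine ⟨inferInstance, I'.map φ, ?_, ?_⟩
    · intro n
      rw [← Ideal.map_pow]
      exact hφ.2.1 _ (ho n)
    · intro U hU
      obtain ⟨I'', hI''o, hI''U⟩ := hφ.2.2 U hU
      obtain ⟨n, hn⟩ := hb _ (hI''o.mem_nhds I''.zero_mem)
      refine ⟨n, ?_⟩
      rw [← Ideal.map_pow]
      exact (closure_mono (SetLike.coe_subset_coe.mpr
        (Ideal.map_mono (f := φ) (fun x hx => hn hx)))).trans hI''U
  tfae_have 1 → 4 := by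
    rintro ⟨hlin, I, hopen, hbasis⟩
    refine ⟨⟨hlin, I.closure, ?_, ?_⟩, ?_⟩
    · have := hopen 1
      rwa [pow_one, ← Ideal.coe_closure] at this
    · intro U hU
      obtain ⟨n, hn⟩ := hbasis U hU
      refine ⟨n + 1, Nat.succ_pos n, ?_⟩
      have h1 : I.closure ^ (n + 1) ≤ I.closure ^ n := Ideal.pow_le_pow_right (Nat.le_succ n)
      have h2 : I.closure ^ n ≤ (I ^ n).closure := H5_closure_pow_le I n
      have h3 := SetLike.coe_subset_coe.mpr (h1.trans h2)
      rw [Ideal.coe_closure] at h3
      exact h3.trans hn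
    · intro I' hI' n _
      obtain ⟨k, hk⟩ := hbasis _ (H5_mem_nhds_of_isOpen I' hI'.1)
      have hle : I ^ (k * n) ≤ I' ^ n := by
        rw [pow_mul]
        exact Ideal.pow_right_mono (fun x hx => hk (subset_closure hx)) n
      have := Ideal.isOpen_of_isOpen_subideal (H5_closure_mono hle)
        (by rw [Ideal.coe_closure]; exact hopen (k * n))
      rwa [Ideal.coe_closure] at this
  tfae_have 4 → 3 := by
    rintro ⟨hpre, h⟩
    obtain ⟨-, I, hI⟩ := id hpre
    exact ⟨hpre, I, hI, h I hI⟩
  tfae_have 3 → 1 := by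
    rintro ⟨⟨hlin, -⟩, I, hI, hopen⟩
    refine ⟨hlin, I, ?_, ?_⟩
    · intro n
      rcases Nat.eq_zero_or_pos n with rfl | hn
      · simp
      · exact hopen n hn
    · intro U hU
      obtain ⟨I'', hI''o, hI''U⟩ := H5_exists_open_ideal hU
      obtain ⟨n, -, hn⟩ := hI.2 _ (H5_mem_nhds_of_isOpen I'' hI''o)
      exact ⟨n, (closure_minimal hn (H5_isClosed_of_isOpen I'' hI''o)).trans hI''U⟩
  tfae_finish

end Groth.Agent.S10159
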