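import Groth.Statements.S10160
import Mathlib
import Groth.Agent.Lib.helper5.LinTop

set_option autoImplicit false
universe u
open LinTop

namespace Groth.Agent.S10160

/-- A weakly adic topological ring is admissible and has a countable fundamental system of open ideals. -/
theorem result
    (A : Type u) [CommRing A] [UniformSpace A] [IsUniformAddGroup A] [IsTopologicalRing A] (hA : LinTop.IsWeaklyAdic A) :
    LinTop.IsAdmissible A ∧ (nhds (0 : A)).IsCountablyGenerated := by
  obtain ⟨⟨hlin, I, hopen, hbasis⟩, hT2, hcomp⟩ := hA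
  refine ⟨⟨⟨hlin, I.closure, ?_, ?_⟩, hT2, hcomp⟩, ?_⟩
  · have := hopen 1
    rwa [pow_one, ← Ideal.coe_closure] at this
  · intro U hU
    obtain ⟨n, hn⟩ := hbasis U hU
    refine ⟨n + 1, Nat.succ_pos n, ?_⟩
    have h1 : I.closure ^ (n + 1) ≤ I.closure ^ n := Ideal.pow_le_pow_right (Nat.le_succ n)
    have h2 : I.closure ^ n ≤ (I ^ n).closure := H5_closure_pow_le I n
    have h3 := SetLike.coe_subset_coe.mpr (h1.trans h2)
    rw [Ideal.coe_closure] at h3
    exact h3.trans hn
  · have hb : (nhds (0 : A)).HasBasis (fun _ : ℕ => True)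
        (fun n => closure ((I ^ n : Ideal A) : Set A)) := by
      refine ⟨fun U => ⟨fun hU => ?_, ?_⟩⟩
      · obtain ⟨n, hn⟩ := hbasis U hU
        exact ⟨n, trivial, hn⟩
      · rintro ⟨n, -, hn⟩
        refine Filter.mem_of_superset ((hopen n).mem_nhds ?_) hn
        exact subset_closure (I ^ n).zero_mem
    exact hb.isCountablyGenerated

end Groth.Agent.S10160
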