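import Groth.Statements.S10165
import Mathlib
import Groth.Agent.Lib.helper5.LinTop

set_option autoImplicit false
universe u v
open LinTop

namespace Groth.Agent.S10165

/-- Let φ : A → B be a taut homomorphism of linearly topologized rings. If A is weakly pre-adic, then B
is weakly pre-adic. -/
theorem result
    (A : Type u) [CommRing A] [TopologicalSpace A] [IsTopologicalRing A] [IsLinearTopology A A]
    (B : Type v) [CommRing B] [TopologicalSpace B] [IsTopologicalRing B] [IsLinearTopology B B]
    (φ : A →+* B) (hφ : LinTop.IsTaut φ) (hA : LinTop.IsWeaklyPreadic A) :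
    LinTop.IsWeaklyPreadic B := by
  obtain ⟨-, I, hopen, hbasis⟩ := hA
  refine ⟨inferInstance, I.map φ, ?_, ?_⟩
  · intro n
    have h1 : IsOpen (((I ^ n).closure : Ideal A) : Set A) := by
      rw [Ideal.coe_closure]; exact hopen n
    have h2 := H5_taut_open φ hφ _ h1
    rw [H5_closure_map_closure φ hφ.1, Ideal.map_pow, Ideal.coe_closure] at h2
    exact h2
  · intro U hU
    obtain ⟨I', hI', hI'U⟩ := H5_taut_nhds φ hφ hU
    obtain ⟨n, hn⟩ := hbasis _ (H5_mem_nhds_of_isOpen I' hI')
    refine ⟨n, ?_⟩
    have hle : I ^ n ≤ I' := fun a ha => hn (subset_closure ha)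
    have h3 := SetLike.coe_subset_coe.mpr (H5_closure_mono (Ideal.map_mono (f := φ) hle))
    rw [Ideal.map_pow, Ideal.coe_closure] at h3
    exact h3.trans hI'U

end Groth.Agent.S10165
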