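import Groth.Statements.S10164
import Mathlib
import Groth.Agent.Lib.helper5.LinTopComplete

set_option autoImplicit false
universe u
open LinTop

namespace Groth.Agent.S10164

/-- Let A be weakly adic and I an ideal of definition of A with I/I₂ finitely generated, where I₂
denotes the closure of I^2 (here: I maps onto a finitely generated ideal of A/I₂). Then A is adic,
and some finitely generated ideal of A is an ideal of definition. -/
theorem result
    (A : Type u) [CommRing A] [UniformSpace A] [IsUniformAddGroup A] [IsTopologicalRing A] (hA : LinTop.IsWeaklyAdic A)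
    (I : Ideal A) (hI : LinTop.IsIdealOfDefinition A I)
    (hfg : (I.map (Ideal.Quotient.mk ((I ^ 2).closure))).FG) :
    LinTop.IsAdicRing A ∧ ∃ J : Ideal A, LinTop.IsIdealOfDefinition A J ∧ J.FG := by
  classical
  obtain ⟨⟨hlin, I₀, hopen₀, hbasis₀⟩, hT2, hcomp⟩ := hA
  have := hlin
  have := hT2
  have := hcomp
  obtain ⟨hIo, hIb⟩ := hI
  -- closures of powers of I are open and form a basis
  have F1 : ∀ n : ℕ, IsOpen (((I ^ n).closure : Ideal A) : Set A) := by
    intro n
    obtain ⟨k, hk⟩ := hbasis₀ _ (H5_mem_nhds_of_isOpen I hIo)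
    have hle : I₀ ^ (k * n) ≤ I ^ n := by
      rw [pow_mul]
      exact Ideal.pow_right_mono (fun x hx => hk (subset_closure hx)) n
    exact Ideal.isOpen_of_isOpen_subideal (H5_closure_mono hle)
      (by rw [Ideal.coe_closure]; exact hopen₀ (k * n))
  have F2 : ∀ I' : Ideal A, IsOpen (I' : Set A) → ∃ m : ℕ, (I ^ m).closure ≤ I' := by
    intro I' hI'
    obtain ⟨n, -, hn⟩ := hIb _ (H5_mem_nhds_of_isOpen I' hI')
    exact ⟨n, H5_closure_le_of_isOpen (fun x hx => hn hx) hI'⟩
  have Fmul : ∀ a b : ℕ, (I ^ a).closure * (I ^ b).closure ≤ (I ^ (a + b)).closure := by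
    intro a b
    rw [pow_add]
    exact H5_closure_mul_le _ _
  have Fmono : ∀ {a b : ℕ}, a ≤ b → (I ^ b).closure ≤ (I ^ a).closure := fun h =>
    H5_closure_mono (Ideal.pow_le_pow_right h)
  -- finitely generated J ≤ I with I ≤ J ⊔ closure (I^2)
  obtain ⟨J, hJI, hJfg, hIJ⟩ : ∃ J : Ideal A, J ≤ I ∧ J.FG ∧ I ≤ J ⊔ (I ^ 2).closure := by
    have h1 : (Ideal.span ((Ideal.Quotient.mk ((I ^ 2).closure)) '' (I : Set A))).FG := hfg
    obtain ⟨s', hs', hspan⟩ := (Submodule.fg_span_iff_fg_span_finset_subset _).mp h1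
    obtain ⟨T, hT, hTs⟩ := Finset.subset_set_image_iff.mp hs'
    refine ⟨Ideal.span (T : Set A), Ideal.span_le.mpr hT, ⟨T, rfl⟩, ?_⟩
    intro x hx
    rw [← Ideal.mem_quotient_iff_mem_sup, Ideal.map_span]
    have h2 : Ideal.Quotient.mk ((I ^ 2).closure) x ∈
        Ideal.span ((Ideal.Quotient.mk ((I ^ 2).closure)) '' (I : Set A)) :=
      Ideal.subset_span ⟨x, hx, rfl⟩
    have h3 : Ideal.span ((Ideal.Quotient.mk ((I ^ 2).closure)) '' (I : Set A)) =
        Ideal.span ((Ideal.Quotient.mk ((I ^ 2).closure)) '' (T : Set A)) := by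
      rw [← Finset.coe_image, hTs]
      exact hspan
    rw [← h3]
    exact h2
  have hJpow : ∀ n : ℕ, J ^ n ≤ (I ^ n).closure := fun n =>
    (Ideal.pow_right_mono hJI n).trans (H5_le_closure _)
  -- I^n ≤ J^n ⊔ closure (I^(n+1))
  have C1 : ∀ n : ℕ, I ^ n ≤ J ^ n ⊔ (I ^ (n + 1)).closure := by
    intro n
    induction n with
    | zero => simp
    | succ n ih =>
      have h1 : I ^ (n + 1) ≤ (J ^ n ⊔ (I ^ (n + 1)).closure) * (J ⊔ (I ^ 2).closure) := by
        rw [pow_succ]
        exact Ideal.mul_mono ih hIJ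
      refine h1.trans ?_
      rw [Ideal.sup_mul, Ideal.mul_sup, Ideal.mul_sup]
      refine sup_le (sup_le ?_ ?_) (sup_le ?_ ?_)
      · rw [← pow_succ]; exact le_sup_left
      · refine le_trans ?_ le_sup_right
        exact (Ideal.mul_mono_left (hJpow n)).trans (Fmul n 2)
      · refine le_trans ?_ le_sup_right
        have : J ≤ (I ^ 1).closure := by simpa using hJpow 1
        exact (Ideal.mul_mono_right this).trans (Fmul (n + 1) 1)
      · refine le_trans ?_ le_sup_right
        exact (Fmul (n + 1) 2).trans (Fmono (by omega))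
  -- closure (I^n) ≤ J^n ⊔ closure (I^(n+k))
  have C2 : ∀ n k : ℕ, (I ^ n).closure ≤ J ^ n ⊔ (I ^ (n + k)).closure := by
    intro n k
    induction k with
    | zero => exact le_sup_right
    | succ k ih =>
      have h1 : (I ^ (n + k)).closure ≤ I ^ (n + k) ⊔ (I ^ (n + k + 1)).closure :=
        H5_closure_le_of_isOpen le_sup_left
          (Ideal.isOpen_of_isOpen_subideal le_sup_right (F1 _))
      have h2 : I ^ (n + k) ⊔ (I ^ (n + k + 1)).closure ≤ J ^ n ⊔ (I ^ (n + k + 1)).closure := by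
        refine sup_le ((C1 (n + k)).trans ?_) le_sup_right
        exact sup_le_sup_right (Ideal.pow_le_pow_right (Nat.le_add_right n k)) _
      refine ih.trans (sup_le le_sup_left ?_)
      exact h1.trans h2
  have C3 : ∀ n : ℕ, (I ^ n).closure ≤ (J ^ n).closure := by
    intro n x hx
    apply H5_mem_closure_of_forall_open
    intro I' hI'
    obtain ⟨m, hm⟩ := F2 I' hI'
    have h1 : (I ^ (n + m)).closure ≤ I' := (Fmono (Nat.le_add_left m n)).trans hm
    exact (sup_le_sup_left h1 _) (C2 n m hx)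
  have hadic : IsAdic J := by
    apply H5_isAdic_of_closure_pow J hJfg
    · intro n
      have := Ideal.isOpen_of_isOpen_subideal (C3 n) (F1 n)
      rwa [Ideal.coe_closure] at this
    · intro U hU
      obtain ⟨I', hI', hI'U⟩ := H5_exists_open_ideal hU
      obtain ⟨m, hm⟩ := F2 I' hI'
      refine ⟨m, ?_⟩
      rw [← Ideal.coe_closure]
      exact (SetLike.coe_subset_coe.mpr
        ((H5_closure_mono (Ideal.pow_right_mono hJI m)).trans hm)).trans hI'U
  obtain ⟨hJo, hJb⟩ := isAdic_iff.mp hadic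
  refine ⟨⟨⟨J, hadic⟩, hT2, hcomp⟩, J, ⟨by simpa using hJo 1, ?_⟩, hJfg⟩
  intro U hU
  obtain ⟨n, hn⟩ := hJb U hU
  exact ⟨n + 1, Nat.succ_pos n,
    (SetLike.coe_subset_coe.mpr (Ideal.pow_le_pow_right (Nat.le_succ n))).trans hn⟩

end Groth.Agent.S10164
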