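import Groth.Statements.S10166
import Mathlib
import Groth.Agent.Lib.helper5.LinTop

set_option autoImplicit false
universe u v
open LinTop

namespace Groth.Agent.S10166

/-- Let φ : A → B be a taut homomorphism of linearly topologized rings such that for every open ideal I
of A, with J the closure of φ(I)B, the induced map A/I → B/J is faithfully flat. If B has a
countable fundamental system of open ideals, then so does A. -/
theorem result
    (A : Type u) [CommRing A] [TopologicalSpace A] [IsTopologicalRing A] [IsLinearTopology A A]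
    (B : Type v) [CommRing B] [TopologicalSpace B] [IsTopologicalRing B] [IsLinearTopology B B]
    (φ : A →+* B) (hφ : LinTop.IsTautFFlat φ) (hB : (nhds (0 : B)).IsCountablyGenerated) :
    (nhds (0 : A)).IsCountablyGenerated := by
  obtain ⟨x, hx⟩ := (nhds (0 : B)).exists_antitone_basis
  have hex : ∀ n : ℕ, ∃ I : Ideal A, IsOpen (I : Set A) ∧
      (((I.map φ).closure : Ideal B) : Set B) ⊆ x n := fun n =>
    H5_taut_nhds φ hφ.1 (hx.toHasBasis.mem_of_mem trivial)
  choose I hIo hIx using hex
  have hb : (nhds (0 : A)).HasBasis (fun _ : ℕ => True) (fun n => ((I n : Ideal A) : Set A)) := by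
    refine ⟨fun U => ⟨fun hU => ?_, ?_⟩⟩
    · obtain ⟨I', hI', hI'U⟩ := H5_exists_open_ideal hU
      have hJ' := H5_taut_open φ hφ.1 I' hI'
      obtain ⟨n, -, hn⟩ := hx.toHasBasis.mem_iff.mp (H5_mem_nhds_of_isOpen _ hJ')
      refine ⟨n, trivial, ?_⟩
      intro a ha
      apply hI'U
      apply H5_tautFFlat_comap_le φ hφ I' hI'
      apply hn
      apply hIx n
      exact H5_le_closure _ (Ideal.mem_map_of_mem φ ha)
    · rintro ⟨n, -, hn⟩
      exact Filter.mem_of_superset (H5_mem_nhds_of_isOpen _ (hIo n)) hn
  exact hb.isCountablyGenerated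

end Groth.Agent.S10166
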