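import Groth.Statements.S10167
import Mathlib
import Groth.Agent.Lib.helper5.LinTop

set_option autoImplicit false
universe u v
open LinTop

namespace Groth.Agent.S10167

/-- Let φ : A → B be a taut homomorphism of linearly topologized rings such that for every open ideal I
of A the induced ring map A/I → B/J, where J denotes the closure of φ(I)B, is faithfully flat. If B
has a weak ideal of definition (B is weakly pre-admissible), then so does A. -/
theorem result
    (A : Type u) [CommRing A] [TopologicalSpace A] [IsTopologicalRing A] [IsLinearTopology A A]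
    (B : Type v) [CommRing B] [TopologicalSpace B] [IsTopologicalRing B] [IsLinearTopology B B]
    (φ : A →+* B) (hφ : LinTop.IsTautFFlat φ) (hB : LinTop.IsWeaklyPreadmissible B) :
    LinTop.IsWeaklyPreadmissible A := by
  obtain ⟨-, J, hJo, hJn⟩ := hB
  obtain ⟨I, hIo, hIJ⟩ := H5_taut_nhds φ hφ.1 (H5_mem_nhds_of_isOpen J hJo)
  refine ⟨inferInstance, I, hIo, ?_⟩
  intro f hf
  have hφf : IsTopologicallyNilpotent (φ f) :=
    hJn _ (hIJ (H5_le_closure _ (Ideal.mem_map_of_mem φ hf)))
  simp only [IsTopologicallyNilpotent,
    Filter.atTop_basis.tendsto_iff IsLinearTopology.hasBasis_open_ideal, true_and]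
  intro I' hI'
  have hJ' := H5_taut_open φ hφ.1 I' hI'
  obtain ⟨n0, hn0⟩ := Filter.eventually_atTop.mp
    (hφf.eventually_mem (H5_mem_nhds_of_isOpen _ hJ'))
  refine ⟨n0, fun n hn => ?_⟩
  apply H5_tautFFlat_comap_le φ hφ I' hI'
  rw [map_pow]
  exact hn0 n hn

end Groth.Agent.S10167
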