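import Groth.Statements.S10168
import Mathlib
import Groth.Agent.Lib.helper5.LinTop

set_option autoImplicit false
universe u v
open LinTop

namespace Groth.Agent.S10168

/-- Let φ : A → B be a taut homomorphism of linearly topologized rings such that for every open ideal I
of A, with J the closure of φ(I)B, the induced map A/I → B/J is faithfully flat. If B is
pre-admissible, then A is pre-admissible. -/
theorem result
    (A : Type u) [CommRing A] [TopologicalSpace A] [IsTopologicalRing A] [IsLinearTopology A A]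
    (B : Type v) [CommRing B] [TopologicalSpace B] [IsTopologicalRing B] [IsLinearTopology B B]
    (φ : A →+* B) (hφ : LinTop.IsTautFFlat φ) (hB : LinTop.IsPreadmissible B) :
    LinTop.IsPreadmissible A := by
  obtain ⟨-, J, hJo, hJb⟩ := hB
  obtain ⟨I, hIo, hIJ⟩ := H5_taut_nhds φ hφ.1 (H5_mem_nhds_of_isOpen J hJo)
  refine ⟨inferInstance, I, hIo, ?_⟩
  intro U hU
  obtain ⟨I', hI', hI'U⟩ := H5_exists_open_ideal hU
  have hJ' := H5_taut_open φ hφ.1 I' hI'
  obtain ⟨n, hn, hnJ⟩ := hJb _ (H5_mem_nhds_of_isOpen _ hJ')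
  refine ⟨n, hn, ?_⟩
  intro a ha
  apply hI'U
  apply H5_tautFFlat_comap_le φ hφ I' hI'
  apply hnJ
  have h1 : (I ^ n).map φ ≤ J ^ n := by
    rw [Ideal.map_pow]
    apply Ideal.pow_right_mono
    intro b hb
    exact hIJ (H5_le_closure _ hb)
  exact h1 (Ideal.mem_map_of_mem φ ha)

end Groth.Agent.S10168
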