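import Groth.Statements.S10169
import Mathlib
import Groth.Agent.Lib.helper5.LinTop

set_option autoImplicit false
universe u v
open LinTop

namespace Groth.Agent.S10169

/-- Let φ : A → B be a taut homomorphism of linearly topologized rings such that for every open ideal I
of A the induced ring map A/I → B/J, where J denotes the closure of φ(I)B, is faithfully flat. Weak
pre-adicness then descends: when B is weakly pre-adic, A is as well. -/
theorem result
    (A : Type u) [CommRing A] [TopologicalSpace A] [IsTopologicalRing A] [IsLinearTopology A A]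
    (B : Type v) [CommRing B] [TopologicalSpace B] [IsTopologicalRing B] [IsLinearTopology B B]
    (φ : A →+* B) (hφ : LinTop.IsTautFFlat φ) (hB : LinTop.IsWeaklyPreadic B) :
    LinTop.IsWeaklyPreadic A := by
  obtain ⟨-, J, hJopen, hJbasis⟩ := hB
  have hJo : ∀ n : ℕ, IsOpen (((J ^ n).closure : Ideal B) : Set B) := fun n => by
    rw [Ideal.coe_closure]; exact hJopen n
  have hJb : ∀ U ∈ nhds (0 : B), ∃ n : ℕ, (((J ^ n).closure : Ideal B) : Set B) ⊆ U := fun U hU => by
    obtain ⟨n, hn⟩ := hJbasis U hU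
    exact ⟨n, by rwa [Ideal.coe_closure]⟩
  -- choose I
  obtain ⟨I, hIo, hIJ⟩ := H5_taut_nhds φ hφ.1 (H5_mem_nhds_of_isOpen _ (hJo 1))
  rw [pow_one] at hIJ
  have hIJ' : (I.map φ).closure ≤ J.closure := fun x hx => hIJ hx
  -- (I^n).map φ ≤ (J^n).closure
  have hpow : ∀ n : ℕ, ((I ^ n).map φ) ≤ (J ^ n).closure := by
    intro n
    rw [Ideal.map_pow]
    calc (I.map φ) ^ n ≤ (I.map φ).closure ^ n := Ideal.pow_right_mono (H5_le_closure _) n
      _ ≤ J.closure ^ n := Ideal.pow_right_mono hIJ' n
      _ ≤ (J ^ n).closure := H5_closure_pow_le J n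
  refine ⟨inferInstance, I, ?_, ?_⟩
  · intro n
    -- find m with (J^m).closure ≤ (I.map φ).closure
    obtain ⟨m, hm⟩ := hJb _ (H5_mem_nhds_of_isOpen _ (H5_taut_open φ hφ.1 I hIo))
    have hm' : J ^ m ≤ (I.map φ).closure := fun x hx => hm (H5_le_closure _ hx)
    obtain ⟨I'', hI''o, hI''⟩ := H5_taut_nhds φ hφ.1 (H5_mem_nhds_of_isOpen _ (hJo (m * n)))
    have hJN : (J ^ (m * n)).closure ≤ ((I ^ n).map φ).closure := by
      have h1 : J ^ (m * n) ≤ ((I ^ n).map φ).closure := by
        rw [pow_mul, Ideal.map_pow]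
        calc (J ^ m) ^ n ≤ (I.map φ).closure ^ n := Ideal.pow_right_mono hm' n
          _ ≤ ((I.map φ) ^ n).closure := H5_closure_pow_le _ n
      have := H5_closure_mono h1
      rwa [H5_closure_closure] at this
    have hsub : I'' ≤ (I ^ n).closure := by
      intro a ha
      apply H5_mem_closure_of_forall_open
      intro I' hI'
      apply H5_tautFFlat_mem_of_map_mem φ hφ I' hI' (I ^ n ⊔ I') le_sup_right
      have h2 : φ a ∈ ((I ^ n).map φ).closure :=
        hJN (hI'' (H5_le_closure _ (Ideal.mem_map_of_mem φ ha)))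
      have hJ'o := H5_taut_open φ hφ.1 I' hI'
      have h3 : ((I ^ n).map φ).closure ≤ (I ^ n).map φ ⊔ (I'.map φ).closure :=
        H5_closure_le_of_isOpen le_sup_left
          (Ideal.isOpen_of_isOpen_subideal le_sup_right hJ'o)
      have h4 : (I ^ n).map φ ⊔ (I'.map φ).closure ≤ (I ^ n ⊔ I').map φ ⊔ (I'.map φ).closure :=
        sup_le_sup_right (Ideal.map_mono le_sup_left) _
      exact h4 (h3 h2)
    have := Ideal.isOpen_of_isOpen_subideal hsub hI''o
    rwa [Ideal.coe_closure] at this
  · intro U hU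
    obtain ⟨I', hI', hI'U⟩ := H5_exists_open_ideal hU
    obtain ⟨n, hn⟩ := hJb _ (H5_mem_nhds_of_isOpen _ (H5_taut_open φ hφ.1 I' hI'))
    refine ⟨n, ?_⟩
    have hle : I ^ n ≤ I' := by
      intro a ha
      apply H5_tautFFlat_comap_le φ hφ I' hI'
      exact hn (hpow n (Ideal.mem_map_of_mem φ ha))
    exact (closure_minimal hle (H5_isClosed_of_isOpen I' hI')).trans hI'U

end Groth.Agent.S10169
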