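import Groth.Statements.S10170
import Mathlib
import Groth.Agent.Lib.helper5.LinTopComplete

set_option autoImplicit false
universe u v
open LinTop

namespace Groth.Agent.S10170

/-- Let φ : A → B be a taut homomorphism of linearly topologized rings such that for every open ideal I
of A the induced ring map A/I → B/J, where J denotes the closure of φ(I)B, is faithfully flat.
Suppose A is Hausdorff and complete, and B is adic with some finitely generated ideal of definition.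
Then A is adic, and some finitely generated ideal of A is an ideal of definition. -/
theorem result
    (A : Type u) [CommRing A] [UniformSpace A] [IsUniformAddGroup A] [IsTopologicalRing A] [IsLinearTopology A A] [T2Space A] [CompleteSpace A]
    (B : Type v) [CommRing B] [UniformSpace B] [IsUniformAddGroup B] [IsTopologicalRing B] (hB : LinTop.IsAdicRing B)
    (hJ : ∃ J : Ideal B, LinTop.IsIdealOfDefinition B J ∧ J.FG)
    (φ : A →+* B) (hφ : LinTop.IsTautFFlat φ) :
    LinTop.IsAdicRing A ∧ ∃ I : Ideal A, LinTop.IsIdealOfDefinition A I ∧ I.FG := by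
  classical
  obtain ⟨⟨J₀, hJ₀⟩, hT2B, hcompB⟩ := hB
  obtain ⟨J, ⟨hJo, hJb⟩, hJfg⟩ := hJ
  obtain ⟨hJ₀o, hJ₀b⟩ := isAdic_iff.mp hJ₀
  have hlinB : IsLinearTopology B B := IsLinearTopology.mk_of_hasBasis _ hJ₀.hasBasis_nhds_zero
  -- powers of J are open
  have hJpo : ∀ m : ℕ, IsOpen ((J ^ m : Ideal B) : Set B) := by
    intro m
    obtain ⟨k, hk⟩ := hJ₀b _ (H5_mem_nhds_of_isOpen J hJo)
    have hle : J₀ ^ (k * m) ≤ J ^ m := by
      rw [pow_mul]; exact Ideal.pow_right_mono (fun a ha => hk ha) m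
    exact Ideal.isOpen_of_isOpen_subideal hle (hJ₀o _)
  have hJsmall : ∀ K : Ideal B, IsOpen (K : Set B) → ∃ m : ℕ, J ^ m ≤ K := by
    intro K hK
    obtain ⟨m, -, hm⟩ := hJb _ (H5_mem_nhds_of_isOpen K hK)
    exact ⟨m, fun x hx => hm hx⟩
  -- I₀
  obtain ⟨I₀, hI₀o, hI₀J⟩ := H5_taut_nhds φ hφ.1 (H5_mem_nhds_of_isOpen J hJo)
  have hI₀J' : (I₀.map φ).closure ≤ J := fun x hx => hI₀J hx
  have hI₀small : ∀ I' : Ideal A, IsOpen (I' : Set A) → ∃ m : ℕ, I₀ ^ m ≤ I' := by
    intro I' hI'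
    obtain ⟨m, hm⟩ := hJsmall _ (H5_taut_open φ hφ.1 I' hI')
    refine ⟨m, fun a ha => ?_⟩
    apply H5_tautFFlat_comap_le φ hφ I' hI'
    apply hm
    have h1 : (I₀ ^ m).map φ ≤ J ^ m := by
      rw [Ideal.map_pow]
      exact Ideal.pow_right_mono ((H5_le_closure _).trans hI₀J') m
    exact h1 (Ideal.mem_map_of_mem φ ha)
  obtain ⟨n, hn⟩ := hJsmall _ (H5_taut_open φ hφ.1 I₀ hI₀o)
  -- finitely generated I₁ ≤ I₀ with J^n ≤ I₁B ⊔ J^(n+1)
  obtain ⟨I₁, hI₁le, hI₁fg, hI₁⟩ : ∃ I₁ : Ideal A, I₁ ≤ I₀ ∧ I₁.FG ∧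
      J ^ n ≤ I₁.map φ ⊔ J ^ (n + 1) := by
    obtain ⟨s, g, hg⟩ := Submodule.fg_iff_exists_fin_generating_family.mp (hJfg.pow (n := n))
    have hg' : Ideal.span (Set.range g) = J ^ n := hg
    have hex : ∀ i : Fin s, ∃ T : Finset A, (T : Set A) ⊆ I₀ ∧
        g i ∈ (Ideal.span (T : Set A)).map φ ⊔ J ^ (n + 1) := by
      intro i
      have h1 : g i ∈ J ^ n := by rw [← hg']; exact Ideal.subset_span ⟨i, rfl⟩
      have h2 : g i ∈ I₀.map φ ⊔ J ^ (n + 1) :=
        (H5_closure_le_of_isOpen le_sup_left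
          (Ideal.isOpen_of_isOpen_subideal le_sup_right (hJpo (n + 1)))) (hn h1)
      obtain ⟨u, hu, v, hv, huv⟩ := Submodule.mem_sup.mp h2
      have hu' : u ∈ Submodule.span B (φ '' (I₀ : Set A)) := hu
      obtain ⟨T, hT, huT⟩ := Submodule.mem_span_finite_of_mem_span hu'
      obtain ⟨T', hT', hT'T⟩ := Finset.subset_set_image_iff.mp hT
      refine ⟨T', hT', ?_⟩
      rw [← huv]
      refine Submodule.add_mem_sup ?_ hv
      rw [Ideal.map_span, ← Finset.coe_image, hT'T]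
      exact huT
    choose T hT hgT using hex
    refine ⟨⨆ i, Ideal.span (T i : Set A), iSup_le fun i => Ideal.span_le.mpr (hT i),
      Submodule.fg_iSup _ fun i => ⟨T i, rfl⟩, ?_⟩
    rw [← hg', Ideal.span_le]
    rintro _ ⟨i, rfl⟩
    have h5 : (Ideal.span (T i : Set A)).map φ ⊔ J ^ (n + 1) ≤
        (⨆ i, Ideal.span (T i : Set A)).map φ ⊔ J ^ (n + 1) :=
      sup_le_sup_right (Ideal.map_mono (le_iSup (fun i => Ideal.span (T i : Set A)) i)) _
    exact h5 (hgT i)
  have hXJ : I₁.map φ ≤ J := (Ideal.map_mono hI₁le).trans ((H5_le_closure _).trans hI₀J')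
  -- J^n ≤ I₁B ⊔ J^(n+k)
  have hstep : ∀ k : ℕ, J ^ n ≤ I₁.map φ ⊔ J ^ (n + k) := by
    intro k
    induction k with
    | zero => exact le_sup_right
    | succ k ih =>
      refine ih.trans (sup_le le_sup_left ?_)
      have h1 : J ^ (n + k) = J ^ k * J ^ n := by rw [← pow_add, add_comm]
      rw [h1]
      refine (Ideal.mul_mono_right hI₁).trans ?_
      rw [Ideal.mul_sup]
      refine sup_le (Ideal.mul_le_right.trans le_sup_left) ?_
      refine le_trans (le_of_eq ?_) le_sup_right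
      rw [← pow_add]; congr 1; omega
  have hJncl : J ^ n ≤ (I₁.map φ).closure := by
    intro x hx
    apply H5_mem_closure_of_forall_open
    intro K hK
    obtain ⟨m, hm⟩ := hJsmall K hK
    have h1 : J ^ (n + m) ≤ K := (Ideal.pow_le_pow_right (Nat.le_add_left m n)).trans hm
    exact (sup_le_sup_left h1 _) (hstep m hx)
  have hI₁adic : IsAdic I₁ := by
    apply H5_isAdic_of_closure_pow I₁ hI₁fg
    · intro m
      obtain ⟨I'', hI''o, hI''⟩ := H5_taut_nhds φ hφ.1 (H5_mem_nhds_of_isOpen _ (hJpo (n * m)))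
      have hsub : I'' ≤ (I₁ ^ m).closure := by
        intro a ha
        apply H5_mem_closure_of_forall_open
        intro I' hI'
        apply H5_tautFFlat_mem_of_map_mem φ hφ I' hI' (I₁ ^ m ⊔ I') le_sup_right
        have h1 : φ a ∈ J ^ (n * m) := hI'' (H5_le_closure _ (Ideal.mem_map_of_mem φ ha))
        have h2 : J ^ (n * m) ≤ ((I₁ ^ m).map φ).closure := by
          rw [pow_mul, Ideal.map_pow]
          exact (Ideal.pow_right_mono hJncl m).trans (H5_closure_pow_le _ m)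
        have h3 : ((I₁ ^ m).map φ).closure ≤ (I₁ ^ m).map φ ⊔ (I'.map φ).closure :=
          H5_closure_le_of_isOpen le_sup_left
            (Ideal.isOpen_of_isOpen_subideal le_sup_right (H5_taut_open φ hφ.1 I' hI'))
        have h4 : (I₁ ^ m).map φ ⊔ (I'.map φ).closure ≤
            (I₁ ^ m ⊔ I').map φ ⊔ (I'.map φ).closure :=
          sup_le_sup_right (Ideal.map_mono le_sup_left) _
        exact h4 (h3 (h2 h1))
      have := Ideal.isOpen_of_isOpen_subideal hsub hI''o
      rwa [Ideal.coe_closure] at this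
    · intro U hU
      obtain ⟨I', hI', hI'U⟩ := H5_exists_open_ideal hU
      obtain ⟨m, hm⟩ := hI₀small I' hI'
      refine ⟨m, ?_⟩
      have h1 : I₁ ^ m ≤ I' := (Ideal.pow_right_mono hI₁le m).trans hm
      exact (closure_minimal h1 (H5_isClosed_of_isOpen I' hI')).trans hI'U
  obtain ⟨hI₁o, hI₁b⟩ := isAdic_iff.mp hI₁adic
  refine ⟨⟨⟨I₁, hI₁adic⟩, inferInstance, inferInstance⟩, I₁, ⟨by simpa using hI₁o 1, ?_⟩, hI₁fg⟩
  intro U hU
  obtain ⟨m, hm⟩ := hI₁b U hU
  exact ⟨m + 1, Nat.succ_pos m,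
    (SetLike.coe_subset_coe.mpr (Ideal.pow_le_pow_right (Nat.le_succ m))).trans hm⟩

end Groth.Agent.S10170
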