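import Groth.Statements.S10173
import Mathlib
import Groth.Agent.Lib.helper5.ModuleApprox

set_option autoImplicit false
universe u v
open LinTop

namespace Groth.Agent.S10173

/-- Let R be a commutative ring, I a finitely generated ideal and M a topological R-module (additive
uniform structure, each scalar acting uniformly continuously) having an open submodule M' whose
topology is the I-adic one, i.e. the I^n M' are open in M and form a fundamental system of
neighbourhoods of 0. Then the separated completion M^ has an open submodule whose topology is I-adic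
in the same sense, and for every n ≥ 1 the map M → M^/I^n M^ is surjective with kernel I^n M,
identifying M^/I^n M^ with M/I^n M. -/
theorem result
    {R : Type u} [CommRing R] (I : Ideal R) (hI : I.FG)
    {M : Type v} [AddCommGroup M] [Module R M] [UniformSpace M] [IsUniformAddGroup M]
    [UniformContinuousConstSMul R M]
    (M' : Submodule R M) (hopen : ∀ n : ℕ, IsOpen ((I ^ n • M' : Submodule R M) : Set M))
    (hbasis : ∀ U ∈ nhds (0 : M), ∃ n : ℕ, ((I ^ n • M' : Submodule R M) : Set M) ⊆ U) :
    (∃ M'' : Submodule R (UniformSpace.Completion M),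
        (∀ n : ℕ, IsOpen ((I ^ n • M'' : Submodule R (UniformSpace.Completion M)) :
          Set (UniformSpace.Completion M))) ∧
        ∀ U ∈ nhds (0 : UniformSpace.Completion M), ∃ n : ℕ,
          ((I ^ n • M'' : Submodule R (UniformSpace.Completion M)) :
            Set (UniformSpace.Completion M)) ⊆ U) ∧
      ∀ n : ℕ, 0 < n →
        Function.Surjective ((QuotientAddGroup.mk' (I ^ n • ⊤ : Submodule R (UniformSpace.Completion M)).toAddSubgroup).comp
          (UniformSpace.Completion.toCompl : M →+ UniformSpace.Completion M)) ∧
        ((QuotientAddGroup.mk' (I ^ n • ⊤ : Submodule R (UniformSpace.Completion M)).toAddSubgroup).comp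
          (UniformSpace.Completion.toCompl : M →+ UniformSpace.Completion M)).ker = (I ^ n • ⊤ : Submodule R M).toAddSubgroup := by
  classical
  let ι : M →ₗ[R] UniformSpace.Completion M :=
    { toFun := fun m => (m : UniformSpace.Completion M)
      map_add' := UniformSpace.Completion.coe_add
      map_smul' := fun r m => UniformSpace.Completion.coe_smul r m }
  have hιc : Continuous ι := UniformSpace.Completion.continuous_coe M
  have hιdi : IsDenseInducing (ι : M → UniformSpace.Completion M) :=
    UniformSpace.Completion.isDenseInducing_coe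
  let cl : Submodule R M → Submodule R (UniformSpace.Completion M) :=
    fun S => (S.map ι).topologicalClosure
  have hcl_coe : ∀ S, (cl S : Set (UniformSpace.Completion M)) = closure (ι '' (S : Set M)) :=
    fun S => rfl
  have hcl_mono : ∀ {S T : Submodule R M}, S ≤ T → cl S ≤ cl T :=
    fun h => Submodule.topologicalClosure_mono (Submodule.map_mono h)
  let C : ℕ → Submodule R (UniformSpace.Completion M) := fun k => cl (I ^ k • M')
  have hC_coe : ∀ k, (C k : Set (UniformSpace.Completion M)) =
      closure (ι '' ((I ^ k • M' : Submodule R M) : Set M)) := fun k => rfl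
  have hCnhds : ∀ k, (C k : Set (UniformSpace.Completion M)) ∈
      nhds (0 : UniformSpace.Completion M) := by
    intro k
    have h1 : ((I ^ k • M' : Submodule R M) : Set M) ∈ nhds (0 : M) :=
      (hopen k).mem_nhds (Submodule.zero_mem _)
    have := hιdi.closure_image_mem_nhds h1
    rw [show ι 0 = 0 from map_zero ι] at this
    exact this
  have hCopen : ∀ k, IsOpen (C k : Set (UniformSpace.Completion M)) := fun k =>
    AddSubgroup.isOpen_of_mem_nhds (C k).toAddSubgroup (hCnhds k)
  have hCanti : ∀ {a b : ℕ}, a ≤ b → C b ≤ C a := fun h =>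
    hcl_mono (Submodule.smul_mono_left (Ideal.pow_le_pow_right h))
  have hCbasis : ∀ U ∈ nhds (0 : UniformSpace.Completion M), ∃ k,
      (C k : Set (UniformSpace.Completion M)) ⊆ U := by
    intro U hU
    obtain ⟨V, hV, hVc, hVU⟩ := exists_mem_nhds_isClosed_subset hU
    have hpre : ι ⁻¹' V ∈ nhds (0 : M) := by
      apply hιc.continuousAt
      rw [map_zero]; exact hV
    obtain ⟨k, hk⟩ := hbasis _ hpre
    refine ⟨k, ?_⟩
    rw [hC_coe]
    exact (closure_minimal (Set.image_subset_iff.mpr hk) hVc).trans hVU
  haveI : NonarchimedeanAddGroup (UniformSpace.Completion M) :=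
    { is_nonarchimedean := fun U hU => by
        obtain ⟨k, hk⟩ := hCbasis U hU
        exact ⟨⟨(C k).toAddSubgroup, hCopen k⟩, hk⟩ }
  have hF6 : ∀ n, I ^ n • C 0 ≤ C n := by
    intro n
    rw [Submodule.smul_le]
    intro r hr x hx
    have hx' : x ∈ closure (ι '' ((I ^ 0 • M' : Submodule R M) : Set M)) := hx
    show r • x ∈ closure (ι '' ((I ^ n • M' : Submodule R M) : Set M))
    refine map_mem_closure (continuous_const_smul r) hx' ?_
    rintro _ ⟨m, hm, rfl⟩
    refine ⟨r • m, ?_, map_smul ι r m⟩
    have hm' : m ∈ M' := by simpa using hm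
    exact Submodule.smul_mem_smul hr hm'
  have hF5 : ∀ n, C n ≤ I ^ n • C 0 := by
    intro n x hx
    obtain ⟨s, g, hg⟩ := Submodule.fg_iff_exists_fin_generating_family.mp (hI.pow (n := n))
    have hg' : Ideal.span (Set.range g) = I ^ n := hg
    have key := H5_module_approx g (fun k => (C k).toAddSubgroup)
      (fun k => (C (n + k)).toAddSubgroup) ?_ ?_ ?_ ?_ ?_ x hx
    · obtain ⟨y, hy, rfl⟩ := key
      refine Submodule.sum_mem _ fun j _ => Submodule.smul_mem_smul ?_ (hy j)
      rw [← hg']; exact Ideal.subset_span ⟨j, rfl⟩
    · show IsClosed (C 0 : Set (UniformSpace.Completion M))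
      rw [hC_coe]; exact isClosed_closure
    · intro k; exact hCanti (Nat.zero_le k)
    · intro U hU
      obtain ⟨k₀, hk₀⟩ := hCbasis U hU
      exact ⟨k₀, fun k hk => (SetLike.coe_subset_coe.mpr (hCanti hk)).trans hk₀⟩
    · intro U hU
      obtain ⟨k₀, hk₀⟩ := hCbasis U hU
      exact ⟨k₀, fun k hk =>
        (SetLike.coe_subset_coe.mpr (hCanti (by omega : k₀ ≤ n + k))).trans hk₀⟩
    · intro k z hz
      have hz' : z ∈ closure (ι '' ((I ^ (n + k) • M' : Submodule R M) : Set M)) := hz
      rw [mem_closure_iff_nhds] at hz'
      have hnb : (fun y => z - y) ⁻¹' (C (n + k + 1) : Set (UniformSpace.Completion M)) ∈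
          nhds z := by
        apply (continuous_const.sub continuous_id).continuousAt
        simpa using hCnhds (n + k + 1)
      obtain ⟨_, hy, ⟨w, hw, rfl⟩⟩ := hz' _ hnb
      have hw' : w ∈ Ideal.span (Set.range g) • (I ^ k • M' : Submodule R M) := by
        rw [hg', ← Submodule.mul_smul, ← pow_add]; exact hw
      obtain ⟨m, hm, rfl⟩ := H5_mem_span_smul g _ hw'
      refine ⟨fun j => ι (m j), fun j => subset_closure ⟨m j, hm j, rfl⟩, ?_⟩
      have : ι (∑ j, g j • m j) = ∑ j, g j • ι (m j) := by simp [map_sum]
      rw [← this]; exact hy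
  have hCeq : ∀ n, I ^ n • C 0 = C n := fun n => le_antisymm (hF6 n) (hF5 n)
  refine ⟨⟨C 0, fun n => ?_, fun U hU => ?_⟩, fun n hn => ?_⟩
  · rw [hCeq]; exact hCopen n
  · obtain ⟨k, hk⟩ := hCbasis U hU
    exact ⟨k, by rw [hCeq]; exact hk⟩
  · have hTopen : IsOpen ((I ^ n • ⊤ : Submodule R (UniformSpace.Completion M)) :
        Set (UniformSpace.Completion M)) := by
      have hle : C n ≤ (I ^ n • ⊤ : Submodule R (UniformSpace.Completion M)) := by
        rw [← hCeq]; exact Submodule.smul_mono le_rfl le_top
      exact AddSubgroup.isOpen_mono (H₁ := (C n).toAddSubgroup)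
        (H₂ := (I ^ n • ⊤ : Submodule R (UniformSpace.Completion M)).toAddSubgroup) hle (hCopen n)
    constructor
    · intro q
      obtain ⟨x, rfl⟩ := QuotientAddGroup.mk'_surjective _ q
      have hnb : (fun y => x - y) ⁻¹' ((I ^ n • ⊤ : Submodule R (UniformSpace.Completion M)) :
          Set (UniformSpace.Completion M)) ∈ nhds x := by
        apply (continuous_const.sub continuous_id).continuousAt
        simpa using hTopen.mem_nhds (Submodule.zero_mem _)
      obtain ⟨m, hm⟩ := (UniformSpace.Completion.denseRange_coe (α := M)).mem_nhds hnb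
      refine ⟨m, ?_⟩
      refine (QuotientAddGroup.eq).mpr ?_
      have hm' : x - (m : UniformSpace.Completion M) ∈
          (I ^ n • ⊤ : Submodule R (UniformSpace.Completion M)) := hm
      have : -(m : UniformSpace.Completion M) + x = x - m := by abel
      show -(m : UniformSpace.Completion M) + x ∈ _
      rw [this]; exact hm'
    · ext m
      rw [AddMonoidHom.mem_ker, AddMonoidHom.comp_apply, QuotientAddGroup.mk'_apply,
        QuotientAddGroup.eq_zero_iff]
      show ((m : UniformSpace.Completion M)) ∈
          (I ^ n • ⊤ : Submodule R (UniformSpace.Completion M)) ↔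
        m ∈ (I ^ n • ⊤ : Submodule R M)
      constructor
      · intro hm
        have hTle : (I ^ n • ⊤ : Submodule R (UniformSpace.Completion M)) ≤ cl (I ^ n • ⊤) := by
          rw [Submodule.smul_le]
          intro r hr x _
          have hx' : x ∈ closure (ι '' (Set.univ : Set M)) := by
            rw [Set.image_univ]; exact UniformSpace.Completion.denseRange_coe x
          show r • x ∈ closure (ι '' ((I ^ n • ⊤ : Submodule R M) : Set M))
          refine map_mem_closure (continuous_const_smul r) hx' ?_
          rintro _ ⟨m, -, rfl⟩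
          exact ⟨r • m, Submodule.smul_mem_smul hr Submodule.mem_top, map_smul ι r m⟩
        have h1 : ι m ∈ closure (ι '' ((I ^ n • ⊤ : Submodule R M) : Set M)) := hTle hm
        have h2 : m ∈ closure ((I ^ n • ⊤ : Submodule R M) : Set M) := by
          rw [hιdi.isInducing.closure_eq_preimage_closure_image]; exact h1
        have hopenM : IsOpen ((I ^ n • ⊤ : Submodule R M) : Set M) :=
          AddSubgroup.isOpen_mono (H₁ := (I ^ n • M').toAddSubgroup)
            (H₂ := (I ^ n • ⊤ : Submodule R M).toAddSubgroup)
            (Submodule.smul_mono le_rfl le_top) (hopen n)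
        have hclosedM : IsClosed ((I ^ n • ⊤ : Submodule R M) : Set M) :=
          AddSubgroup.isClosed_of_isOpen (I ^ n • ⊤ : Submodule R M).toAddSubgroup hopenM
        rw [hclosedM.closure_eq] at h2
        exact h2
      · intro hm
        refine Submodule.smul_induction_on hm ?_ ?_
        · intro r hr m' _
          show ((r • m' : M) : UniformSpace.Completion M) ∈ _
          rw [UniformSpace.Completion.coe_smul]
          exact Submodule.smul_mem_smul hr Submodule.mem_top
        · intro a b ha hb
          show ((a + b : M) : UniformSpace.Completion M) ∈ _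
          rw [UniformSpace.Completion.coe_add]
          exact Submodule.add_mem _ ha hb

end Groth.Agent.S10173
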