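import Groth.Statements.S10180
import Mathlib

set_option autoImplicit false
universe u
open CategoryTheory CategoryTheory.Limits AlgebraicGeometry Topology TopologicalSpace
open AlgSp

namespace Groth.Agent.S10180

/-- An algebraic space X over a scheme S is quasi-compact if and only if there exist an affine scheme U
over S and a representable etale, representable surjective map h_U ⟶ X. -/
theorem result {S : Scheme.{u}} (X : AlgSp.Space S) :
    AlgSp.IsQuasiCompactSp X.obj ↔
      ∃ (U : Over S) (p : (AlgSp.yon S).obj U ⟶ X.obj),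
        IsAffine U.left ∧ AlgSp.RepWith @Etale p ∧ AlgSp.RepWith @Surjective p := by
  constructor
  · rintro ⟨U, p, he, hs, hc⟩
    haveI : CompactSpace U.left := hc
    obtain ⟨𝒰, h𝒰⟩ : ∃ 𝒰 : U.left.OpenCover, 𝒰 = U.left.affineCover.finiteSubcover := ⟨_, rfl⟩
    haveI hfin : Finite 𝒰.I₀ := by
      rw [h𝒰]
      infer_instance
    haveI haff : ∀ i, IsAffine (𝒰.X i) := by
      rw [h𝒰]
      intro i
      infer_instance
    have hd_et : Etale (Sigma.desc 𝒰.f) :=
      IsZariskiLocalAtSource.sigmaDesc (P := @Etale) (fun i => by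
        haveI : IsOpenImmersion (𝒰.f i) := 𝒰.map_prop i
        infer_instance)
    have hd_surj : Surjective (Sigma.desc 𝒰.f) := ⟨fun x => by
      obtain ⟨i, y, rfl⟩ := 𝒰.exists_eq x
      exact ⟨Sigma.ι 𝒰.X i y, by simp [← Scheme.Hom.comp_apply]⟩⟩
    refine ⟨Over.mk (Sigma.desc 𝒰.f ≫ U.hom),
      (AlgSp.yon S).map (Over.homMk (Sigma.desc 𝒰.f) rfl : Over.mk (Sigma.desc 𝒰.f ≫ U.hom) ⟶ U) ≫ p,
      ?_, ?_, ?_⟩
    · show IsAffine (∐ 𝒰.X)
      infer_instance
    · exact (AlgSp.RepWith @Etale).comp_mem _ _ ((AlgSp.repWith_yon_map_iff @Etale _).2 hd_et) he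
    · exact (AlgSp.RepWith @Surjective).comp_mem _ _
        ((AlgSp.repWith_yon_map_iff @Surjective _).2 hd_surj) hs
  · rintro ⟨U, p, haff, he, hs⟩
    haveI : IsAffine U.left := haff
    exact ⟨U, p, he, hs, inferInstance⟩

end Groth.Agent.S10180
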