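import Groth.Statements.S10181
import Mathlib
import Groth.Agent.Lib.helper5.AlgSpDiag3

set_option autoImplicit false
universe u
open CategoryTheory CategoryTheory.Limits AlgebraicGeometry Topology TopologicalSpace
open AlgSp

namespace Groth.Agent.S10181

/-- Let X be an algebraic space over a scheme S and a : h_U ⟶ X a representable etale map from a scheme
U over S whose underlying scheme is separated. Then a is (representable and) separated, and the
scheme R = U ×_X U representing the fibre product h_U ×_X h_U is separated. -/
theorem result {S : Scheme.{u}} (X : AlgSp.Space S) {U : Over S}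
    (a : (AlgSp.yon S).obj U ⟶ X.obj) (ha : AlgSp.RepWith @Etale a) [U.left.IsSeparated] :
    AlgSp.RepWith @IsSeparated a ∧
      ∀ (R : Over S) (s t : R ⟶ U), IsPullback ((AlgSp.yon S).map t) ((AlgSp.yon S).map s) a a →
        R.left.IsSeparated := by
  have hmono := (AlgSp.H5_diag_properties X.obj X.property).2.1
  have key : ∀ {V W : Over S} (g : (AlgSp.yon S).obj V ⟶ X.obj) (f₁ : W ⟶ U) (f₂ : W ⟶ V),
      IsPullback ((AlgSp.yon S).map f₁) ((AlgSp.yon S).map f₂) a g → IsSeparated f₂.left := by
    intro V W g f₁ f₂ sq
    haveI hm : Mono (prod.lift f₁ f₂).left :=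
      AlgSp.H5_prodLift_left_of_diag (MorphismProperty.monomorphisms Scheme.{u}) hmono a g f₁ f₂ sq
    haveI hU : IsSeparated U.hom := inferInstance
    haveI hs : IsSeparated (prod.snd : U ⨯ V ⟶ V).left :=
      AlgSp.H5_prod_snd_left_of @IsSeparated U V hU
    have e : (prod.lift f₁ f₂).left ≫ (prod.snd : U ⨯ V ⟶ V).left = f₂.left := by
      rw [← Over.comp_left, prod.lift_snd]
    rw [← e]
    infer_instance
  refine ⟨⟨ha.1, ?_⟩, ?_⟩
  · intro V W g fst snd pb
    obtain ⟨f₁, hf₁⟩ := (AlgSp.yon S).map_surjective fst
    subst hf₁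
    exact key g f₁ snd pb
  · intro R s t sq
    haveI : IsSeparated s.left := key a t s sq
    constructor
    have h1 : terminal.from R.left = s.left ≫ terminal.from U.left := (terminal.comp_from _).symm
    rw [h1]
    infer_instance

end Groth.Agent.S10181
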