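import Groth.Statements.S10183
import Mathlib
import Groth.Agent.Lib.helper5.AlgSpPoints
import Groth.Agent.Lib.helper5.AlgSpLocP

set_option autoImplicit false
universe u
open CategoryTheory CategoryTheory.Limits AlgebraicGeometry Topology TopologicalSpace
open AlgSp

namespace Groth.Agent.S10183

/-- Let X be an algebraic space over a scheme S, a : h_U ⟶ X a representable etale map from a scheme U
over S, and R a scheme over S with h_R = h_U ×_X h_U whose two projections s, t : R ⟶ U are
quasi-compact (for instance if a is quasi-compact). Then the maps |U| → |X| and |R| → |X| have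
finite fibres. -/
theorem result {S : Scheme.{u}} (X : AlgSp.Space S) {R U : Over S}
    (a : (AlgSp.yon S).obj U ⟶ X.obj) (ha : AlgSp.RepWith @Etale a) (s t : R ⟶ U)
    (hR : IsPullback ((AlgSp.yon S).map t) ((AlgSp.yon S).map s) a a)
    [QuasiCompact s.left] [QuasiCompact t.left] (x : AlgSp.Points X.obj) :
    (AlgSp.Points.ofPt a ⁻¹' {x}).Finite ∧
      (AlgSp.Points.ofPt ((AlgSp.yon S).map t ≫ a) ⁻¹' {x}).Finite := by
  haveI hs : Etale s.left := ha.2 a ((AlgSp.yon S).map t) s hR
  haveI ht : Etale t.left := ha.2 a ((AlgSp.yon S).map s) t hR.flip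
  haveI : LocallyQuasiFinite s.left := H5_lqf_of_unramified s.left
  haveI : LocallyQuasiFinite t.left := H5_lqf_of_unramified t.left
  have key : ∀ u u₀ : U.left, AlgSp.Points.ofPt a u = AlgSp.Points.ofPt a u₀ →
      ∃ r : R.left, t.left r = u ∧ s.left r = u₀ := by
    intro u u₀ h
    rw [AlgSp.Points.ofPt_eq_map_ofScheme, AlgSp.Points.ofPt_eq_map_ofScheme] at h
    obtain ⟨w, hw1, hw2⟩ := AlgSp.H5_points_pullback_surj hR _ _ h
    refine ⟨AlgSp.Points.toScheme R w, ?_, ?_⟩
    · have h1 := congrArg (AlgSp.Points.toScheme U) hw1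
      rw [← AlgSp.Points.ofScheme_toScheme R w, ← AlgSp.Points.ofPt_eq_map_ofScheme,
        AlgSp.Points.toScheme_ofPt, AlgSp.Points.toScheme_ofScheme] at h1
      exact h1
    · have h1 := congrArg (AlgSp.Points.toScheme U) hw2
      rw [← AlgSp.Points.ofScheme_toScheme R w, ← AlgSp.Points.ofPt_eq_map_ofScheme,
        AlgSp.Points.toScheme_ofPt, AlgSp.Points.toScheme_ofScheme] at h1
      exact h1
  have fin1 : (AlgSp.Points.ofPt a ⁻¹' {x}).Finite := by
    by_cases hne : ∃ u₀, AlgSp.Points.ofPt a u₀ = x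
    · obtain ⟨u₀, hu₀⟩ := hne
      refine Set.Finite.subset ((s.left.finite_preimage_singleton u₀).image t.left) ?_
      intro u hu
      have hu' : AlgSp.Points.ofPt a u = x := hu
      obtain ⟨r, hr1, hr2⟩ := key u u₀ (hu'.trans hu₀.symm)
      exact ⟨r, hr2, hr1⟩
    · have : AlgSp.Points.ofPt a ⁻¹' {x} = ∅ := by
        ext u
        simp only [Set.mem_preimage, Set.mem_singleton_iff, Set.mem_empty_iff_false, iff_false]
        exact fun h => hne ⟨u, h⟩
      rw [this]
      exact Set.finite_empty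
  refine ⟨fin1, ?_⟩
  have : AlgSp.Points.ofPt ((AlgSp.yon S).map t ≫ a) ⁻¹' {x} =
      t.left ⁻¹' (AlgSp.Points.ofPt a ⁻¹' {x}) := by
    ext r
    simp only [Set.mem_preimage, Set.mem_singleton_iff]
    rw [AlgSp.H5_ofPt_comp]
  rw [this]
  exact t.left.finite_preimage fin1

end Groth.Agent.S10183
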