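import Groth.Statements.S10184
import Mathlib
import Groth.Agent.Lib.helper5.AlgSpDiag3

set_option autoImplicit false
universe u
open CategoryTheory CategoryTheory.Limits AlgebraicGeometry Topology TopologicalSpace
open AlgSp

namespace Groth.Agent.S10184

/-- Let X be an algebraic space over a scheme S such that for all affine schemes U, V over S mapping to
X, every scheme P over S representing h_U ×_X h_V is quasi-compact. Then X is quasi-separated over
S. (The published statement is about absolute quasi-separatedness, over the integers, which this
hypothesis also gives and which implies quasi-separatedness over S.) -/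
theorem result {S : Scheme.{u}} (X : AlgSp.Space S)
    (h : ∀ (U V P : Over S) (a : (AlgSp.yon S).obj U ⟶ X.obj) (b : (AlgSp.yon S).obj V ⟶ X.obj)
      (fst : P ⟶ U) (snd : P ⟶ V),
      IsAffine U.left → IsAffine V.left →
      IsPullback ((AlgSp.yon S).map fst) ((AlgSp.yon S).map snd) a b → CompactSpace ↥P.left) :
    AlgSp.IsQuasiSeparatedSp X.obj := by
  refine AlgSp.H5_repWith_of_affine_base @QuasiCompact (Limits.diag X.obj) X.property.diag ?_
  intro T W g e₁ e₂ hT sqE
  haveI : IsAffine T.left := hT
  obtain ⟨P, p₁, p₂, δ, sqP, _, _, hδ⟩ := AlgSp.H5_magic_closedImmersion X.property g e₁ e₂ sqE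
  haveI : CompactSpace P.left := h T T P _ _ p₁ p₂ hT hT sqP
  haveI : IsClosedImmersion δ.left := hδ
  haveI : CompactSpace W.left := QuasiCompact.compactSpace_of_compactSpace δ.left
  show QuasiCompact e₂.left
  infer_instance

end Groth.Agent.S10184
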