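import Groth.Statements.S10186
import Mathlib
import Groth.Agent.Lib.helper5.AlgSpDiag3

set_option autoImplicit false
universe u
open CategoryTheory CategoryTheory.Limits AlgebraicGeometry Topology TopologicalSpace
open AlgSp

namespace Groth.Agent.S10186

/-- Let X be an algebraic space over a scheme S such that for all affine schemes U, V over S mapping to
X and every scheme P over S representing h_U ×_X h_V, the scheme P is affine and the ring map from
the tensor product over the integers of the global sections of U and V to the global sections of P,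
induced by the two projections, is surjective. Then X is separated over S. (The published statement
concerns absolute separatedness, over the integers, which this hypothesis also gives and which
implies separatedness over S.) -/
theorem result {S : Scheme.{u}} (X : AlgSp.Space S)
    (h : ∀ (U V P : Over S) (a : (AlgSp.yon S).obj U ⟶ X.obj) (b : (AlgSp.yon S).obj V ⟶ X.obj)
      (fst : P ⟶ U) (snd : P ⟶ V),
      IsAffine U.left → IsAffine V.left →
      IsPullback ((AlgSp.yon S).map fst) ((AlgSp.yon S).map snd) a b →
        IsAffine P.left ∧ Function.Surjective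
          (Algebra.TensorProduct.productMap fst.left.appTop.hom.toIntAlgHom snd.left.appTop.hom.toIntAlgHom)) :
    AlgSp.IsSeparatedSp X.obj := by
  refine AlgSp.H5_repWith_of_affine_base @IsClosedImmersion (Limits.diag X.obj) X.property.diag ?_
  intro T W g e₁ e₂ hT sqE
  haveI : IsAffine T.left := hT
  obtain ⟨P, p₁, p₂, δ, sqP, hδ₁, hδ₂, hδ⟩ :=
    AlgSp.H5_magic_closedImmersion X.property g e₁ e₂ sqE
  obtain ⟨hPaff, hsurj⟩ := h T T P _ _ p₁ p₂ hT hT sqP
  haveI : IsAffine P.left := hPaff
  haveI : IsClosedImmersion δ.left := hδ
  obtain ⟨hWaff, hδs⟩ := IsClosedImmersion.isAffine_surjective_of_isAffine δ.left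
  haveI : IsAffine W.left := hWaff
  show IsClosedImmersion e₂.left
  apply IsClosedImmersion.of_surjective_of_isAffine
  have h₁r : (δ.left.appTop.hom).comp (p₁.left.appTop.hom) = e₂.left.appTop.hom := by
    rw [← CommRingCat.hom_comp, ← Scheme.Hom.comp_appTop, ← Over.comp_left, hδ₁]
  have h₂r : (δ.left.appTop.hom).comp (p₂.left.appTop.hom) = e₂.left.appTop.hom := by
    rw [← CommRingCat.hom_comp, ← Scheme.Hom.comp_appTop, ← Over.comp_left, hδ₂]
  exact AlgSp.H5_ring_aux _ _ _ _ h₁r h₂r hδs hsurj

end Groth.Agent.S10186
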