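import Groth.Statements.S10188
import Mathlib

set_option autoImplicit false
universe u
open CategoryTheory CategoryTheory.Limits AlgebraicGeometry Topology TopologicalSpace
open AlgSp

namespace Groth.Agent.S10188

/-- Let P be a property of schemes that is local in the etale topology (for every scheme V and every
etale covering family of V, V has P if and only if all members have P), and let X be an algebraic
space over a scheme S. Then X has P etale locally (some surjective etale chart from a scheme with P)
if and only if every scheme admitting a representable etale map to X has P. -/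
theorem result {S : Scheme.{u}} (P : Scheme.{u} → Prop)
    (hP : ∀ (V : Scheme.{u}) (𝒰 : Scheme.Cover.{u} (Scheme.precoverage @Etale) V), P V ↔ ∀ i, P (𝒰.X i))
    (X : AlgSp.Space S) :
    AlgSp.EtaleLocally P X.obj ↔
      ∀ (U : Over S) (a : (AlgSp.yon S).obj U ⟶ X.obj), AlgSp.RepWith @Etale a → P U.left := by
  constructor
  · rintro ⟨U₀, p₀, he₀, hs₀, hP₀⟩ U a ha
    obtain ⟨W, snd, fst, pb⟩ := he₀.1 a
    obtain ⟨f₁, rfl⟩ := (AlgSp.yon S).map_surjective fst
    haveI h1 : Etale snd.left := he₀.2 a _ snd pb
    haveI h2 : Surjective snd.left := hs₀.2 a _ snd pb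
    haveI h3 : Etale f₁.left := ha.2 p₀ _ f₁ pb.flip
    have hW : P W.left :=
      (hP U₀.left ((Scheme.coverOfIsIso.{u} (P := @Etale) (𝟙 U₀.left)).add f₁.left h3)).1 hP₀ none
    exact (hP U.left (Scheme.Cover.mkOfCovers PUnit.{u+1} (fun _ => W.left) (fun _ => snd.left)
      (fun x => ⟨PUnit.unit, h2.surj x⟩) (fun _ => h1))).2 (fun _ => hW)
  · intro h
    obtain ⟨U, p, he, hs⟩ := X.property.atlas
    exact ⟨U, p, he, hs, h U p he⟩

end Groth.Agent.S10188
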