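import Groth.Statements.S10190
import Mathlib
import Groth.Agent.Lib.helper5.AlgSpPoints

set_option autoImplicit false
universe u
open CategoryTheory CategoryTheory.Limits AlgebraicGeometry Topology TopologicalSpace
open AlgSp

namespace Groth.Agent.S10190

/-- For an algebraic space X over a scheme S, the set of codimension 0 points of X (points x of |X| such
that, for some representable etale h_U ⟶ X from a scheme U and some point u of U mapping to x, the
local ring of U at u has dimension 0) is dense in |X|. -/
theorem result {S : Scheme.{u}} (X : AlgSp.Space S) :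
    Dense {x : AlgSp.Points X.obj |
      AlgSp.HasAt (fun U u => ringKrullDim ↥(U.presheaf.stalk u) = 0) X.obj x} := by
  obtain ⟨U, p, he, hs⟩ := X.property.atlas
  have hD : Dense {u : U.left | ringKrullDim (U.left.presheaf.stalk u) = 0} := by
    rw [dense_iff_inter_open]
    intro O hO hne
    obtain ⟨x, hx⟩ := hne
    obtain ⟨η, hη⟩ := QuasiSober.sober (isIrreducible_irreducibleComponent (x := x))
      isClosed_irreducibleComponent
    have hηx : η ⤳ x := by
      rw [specializes_iff_mem_closure, hη.def]
      exact mem_irreducibleComponent
    refine ⟨η, hηx.mem_open hO hx, ?_⟩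
    show ringKrullDim (U.left.presheaf.stalk η) = 0
    rw [ringKrullDim_stalk_eq_coheight]
    have hmax : IsMax η := by
      intro η' hle
      rw [Scheme.le_iff_specializes] at hle ⊢
      have h1 : irreducibleComponent x ⊆ closure {η'} := by
        rw [← hη.def]
        exact specializes_iff_closure_subset.1 hle
      have h2 : closure {η'} = irreducibleComponent x :=
        eq_irreducibleComponent isIrreducible_singleton.closure.isPreirreducible h1
      rw [specializes_iff_mem_closure, hη.def, ← h2]
      exact subset_closure rfl
    rw [Order.coheight_eq_zero.2 hmax]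
    rfl
  have hsurj : Function.Surjective (AlgSp.Points.ofPt p) := by
    intro x
    obtain ⟨y, rfl⟩ := AlgSp.H5_surjective_of_repWith p hs x
    refine ⟨AlgSp.Points.toScheme U y, ?_⟩
    rw [AlgSp.Points.ofPt_eq_map_ofScheme, AlgSp.Points.ofScheme_toScheme]
  have hdense := hsurj.denseRange.dense_image (AlgSp.Points.continuous_ofPt p) hD
  refine hdense.mono ?_
  rintro _ ⟨u, hu, rfl⟩
  exact ⟨U, p, u, he, rfl, hu⟩

end Groth.Agent.S10190
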