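import Groth.Statements.S10191
import Mathlib
import Groth.Agent.Lib.helper5.AlgSpPoints
import Groth.Agent.Lib.helper5.AlgSpUniv

set_option autoImplicit false
universe u
open CategoryTheory CategoryTheory.Limits AlgebraicGeometry Topology TopologicalSpace
open AlgSp

namespace Groth.Agent.S10191

/-- Let i : Z ⟶ X be an immersion of algebraic spaces over a scheme S (a morphism representable by
immersions of schemes). Then |i| : |Z| → |X| is a homeomorphism onto its image, and this image is a
locally closed subset of |X|. -/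
theorem result {S : Scheme.{u}} {Z X : AlgSp.Space S} (i : Z ⟶ X)
    (hi : AlgSp.RepWith @IsImmersion i.hom) :
    IsEmbedding (AlgSp.Points.map i.hom) ∧ IsLocallyClosed (Set.range (AlgSp.Points.map i.hom)) := by
  obtain ⟨U, p, he, hs⟩ := X.property.atlas
  obtain ⟨W, snd, fst, pb⟩ := hi.1 p
  haveI himm : IsImmersion snd.left := hi.2 p fst snd pb
  have hfe : AlgSp.RepWith @Etale fst := MorphismProperty.of_isPullback pb.flip he
  have hfs : AlgSp.RepWith @Surjective fst := MorphismProperty.of_isPullback pb.flip hs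
  have openOf : ∀ {F : AlgSp.Sp S} {T : Over S} (q : (AlgSp.yon S).obj T ⟶ F),
      AlgSp.RepWith @Etale q → IsOpenMap (AlgSp.Points.ofPt q) := by
    intro F T q hq
    have h1 : IsOpenMap (AlgSp.Points.map q) := AlgSp.H5_isOpenMap_of_repWith q
      (AlgSp.H5_repWith_of_le AlgSp.H5_etale_le_universallyOpen hq)
    have h2 : AlgSp.Points.ofPt q = AlgSp.Points.map q ∘ (AlgSp.Points.schemeHomeo T) := by
      funext u
      exact AlgSp.Points.ofPt_eq_map_ofScheme q u
    rw [h2]
    exact h1.comp (AlgSp.Points.schemeHomeo T).isOpenMap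
  have surjOf : ∀ {F : AlgSp.Sp S} {T : Over S} (q : (AlgSp.yon S).obj T ⟶ F),
      AlgSp.RepWith @Surjective q → Function.Surjective (AlgSp.Points.ofPt q) := by
    intro F T q hq x
    obtain ⟨y, rfl⟩ := AlgSp.H5_surjective_of_repWith q hq x
    refine ⟨AlgSp.Points.toScheme T y, ?_⟩
    rw [AlgSp.Points.ofPt_eq_map_ofScheme, AlgSp.Points.ofScheme_toScheme]
  have hUo := openOf p he
  have hUs := surjOf p hs
  have hWs := surjOf fst hfs
  have hUc := AlgSp.Points.continuous_ofPt p
  have hWc := AlgSp.Points.continuous_ofPt fst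
  have K : ∀ (z : AlgSp.Points Z.obj) (u : U.left),
      AlgSp.Points.map i.hom z = AlgSp.Points.ofPt p u →
      ∃ w : W.left, AlgSp.Points.ofPt fst w = z ∧ snd.left w = u := by
    intro z u h
    rw [AlgSp.Points.ofPt_eq_map_ofScheme] at h
    obtain ⟨y, hy1, hy2⟩ := AlgSp.H5_points_pullback_surj pb z (AlgSp.Points.ofScheme U u) h
    refine ⟨AlgSp.Points.toScheme W y, ?_, ?_⟩
    · rw [AlgSp.Points.ofPt_eq_map_ofScheme, AlgSp.Points.ofScheme_toScheme]
      exact hy1
    · have h1 := congrArg (AlgSp.Points.toScheme U) hy2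
      rw [← AlgSp.Points.ofScheme_toScheme W y, ← AlgSp.Points.ofPt_eq_map_ofScheme,
        AlgSp.Points.toScheme_ofPt, AlgSp.Points.toScheme_ofScheme] at h1
      exact h1
  have hcomm : ∀ w : W.left, AlgSp.Points.map i.hom (AlgSp.Points.ofPt fst w) =
      AlgSp.Points.ofPt p (snd.left w) := by
    intro w
    rw [AlgSp.Points.map_ofPt, pb.w, AlgSp.H5_ofPt_comp]
  have hinj : Function.Injective (AlgSp.Points.map i.hom) := by
    intro z z' hzz
    obtain ⟨u, hu⟩ := hUs (AlgSp.Points.map i.hom z)
    obtain ⟨w, hw1, hw2⟩ := K z u hu.symm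
    obtain ⟨w', hw1', hw2'⟩ := K z' u (hzz.symm.trans hu.symm)
    have hww : w = w' := snd.left.isEmbedding.injective (hw2.trans hw2'.symm)
    rw [← hw1, ← hw1', hww]
  have hind : Topology.IsInducing (AlgSp.Points.map i.hom) := by
    constructor
    apply le_antisymm
    · exact (AlgSp.Points.continuous_map i.hom).le_induced
    · refine TopologicalSpace.le_def.2 (fun O hO => ?_)
      rw [isOpen_induced_iff]
      have h1 : IsOpen (AlgSp.Points.ofPt fst ⁻¹' O) := hO.preimage hWc
      obtain ⟨V₀, hV₀, hV₀e⟩ := snd.left.isEmbedding.isInducing.isOpen_iff.1 h1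
      refine ⟨AlgSp.Points.ofPt p '' V₀, hUo _ hV₀, ?_⟩
      ext z
      constructor
      · rintro ⟨u, hu, huz⟩
        obtain ⟨w, hw1, hw2⟩ := K z u huz.symm
        have hw : w ∈ snd.left ⁻¹' V₀ := by
          show snd.left w ∈ V₀
          rw [hw2]
          exact hu
        rw [hV₀e] at hw
        rw [← hw1]
        exact hw
      · intro hz
        obtain ⟨w, rfl⟩ := hWs z
        have hw : w ∈ snd.left ⁻¹' V₀ := by
          rw [hV₀e]
          exact hz
        exact ⟨snd.left w, hw, (hcomm w).symm⟩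
  have hlc : IsLocallyClosed (Set.range (AlgSp.Points.map i.hom)) := by
    rw [isLocallyClosed_iff_isOpen_coborder]
    have hpre : AlgSp.Points.ofPt p ⁻¹' (Set.range (AlgSp.Points.map i.hom)) =
        Set.range snd.left := by
      ext u
      constructor
      · rintro ⟨z, hz⟩
        obtain ⟨w, _, hw2⟩ := K z u hz
        exact ⟨w, hw2⟩
      · rintro ⟨w, rfl⟩
        exact ⟨AlgSp.Points.ofPt fst w, hcomm w⟩
    have h1 : IsOpen (AlgSp.Points.ofPt p ⁻¹'
        coborder (Set.range (AlgSp.Points.map i.hom))) := by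
      rw [← coborder_preimage hUo hUc, hpre]
      exact snd.left.isLocallyClosed_range.isOpen_coborder
    rw [← Set.image_preimage_eq (coborder (Set.range (AlgSp.Points.map i.hom))) hUs]
    exact hUo _ h1
  exact ⟨⟨hind, hinj⟩, hlc⟩

end Groth.Agent.S10191
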