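import Groth.Statements.S10193
import Mathlib
import Groth.Agent.Lib.helper5.AlgSpFpqcRep
import Groth.Agent.Lib.helper5.AlgSpPoints
import Groth.Agent.Lib.helper5.AlgSpLocal
import Groth.Agent.Lib.helper5.FppfLocalInst

set_option autoImplicit false
universe u
open CategoryTheory CategoryTheory.Limits AlgebraicGeometry Topology TopologicalSpace
open AlgSp

namespace Groth.Agent.S10193

/-- Let X, Y be algebraic spaces over a scheme S, i : Z ⟶ X a closed subspace (a morphism representable
by closed immersions) and assume Y is reduced. Then a morphism f : Y ⟶ X factors through Z if and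
only if |f|(|Y|) is contained in |Z|. -/
theorem result {S : Scheme.{u}} {X Y Z : AlgSp.Space S}
    (i : Z ⟶ X) (hi : AlgSp.RepWith @IsClosedImmersion i.hom) (hY : AlgSp.IsReducedSp Y.obj) (f : Y ⟶ X) :
    (∃ g : Y ⟶ Z, g ≫ i = f) ↔
      Set.range (AlgSp.Points.map f.hom) ⊆ Set.range (AlgSp.Points.map i.hom) := by
  constructor
  · rintro ⟨g, rfl⟩
    rintro _ ⟨y, rfl⟩
    refine ⟨AlgSp.Points.map g.hom y, ?_⟩
    rw [← AlgSp.Points.map_comp]
    rfl
  · intro hsub
    have sqP := IsPullback.of_hasPullback f.hom i.hom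
    have hk : AlgSp.RepWith @IsClosedImmersion (pullback.fst f.hom i.hom) :=
      MorphismProperty.of_isPullback sqP.flip hi
    have hsurj : Function.Surjective (AlgSp.Points.map (pullback.fst f.hom i.hom)) := by
      intro y
      obtain ⟨z, hz⟩ := hsub ⟨y, rfl⟩
      obtain ⟨w, hw1, _⟩ := AlgSp.H5_points_pullback_surj sqP y z hz.symm
      exact ⟨w, hw1⟩
    have hks := AlgSp.H5_repWith_surjective_of_surjective _ hk.1 hsurj
    obtain ⟨V, q, hqe, hqs, hVred⟩ := hY
    haveI : IsReduced V.left := hVred
    obtain ⟨W, snd, fst, pb⟩ := hk.1 q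
    haveI h1 : IsClosedImmersion snd.left := hk.2 q fst snd pb
    haveI h2 : Surjective snd.left := hks.2 q fst snd pb
    haveI h3 : IsIso snd.left := isIso_of_isClosedImmersion_of_surjective snd.left
    haveI : Sheaf.IsLocallySurjective q := AlgSp.H5_isLocallySurjective_of_etale q hqe hqs
    have h4 : AlgSp.RepWith (MorphismProperty.isomorphisms Scheme.{u}) ((AlgSp.yon S).map snd) :=
      (AlgSp.repWith_yon_map_iff _ snd).2 h3
    have h5 := AlgSp.H5_repWith_of_locSurj_base (pullback.fst f.hom i.hom) hk.1 q _ fst _ pb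
      (MorphismProperty.isomorphisms Scheme.{u}) h4
    haveI := AlgSp.H5_isIso_of_repWith_isomorphisms _ h5
    refine ⟨ObjectProperty.homMk (inv (pullback.fst f.hom i.hom) ≫ pullback.snd f.hom i.hom), ?_⟩
    apply ObjectProperty.hom_ext
    rw [ObjectProperty.FullSubcategory.comp_hom]
    change (inv (pullback.fst f.hom i.hom) ≫ pullback.snd f.hom i.hom) ≫ i.hom = f.hom
    rw [Category.assoc, ← pullback.condition, IsIso.inv_hom_id_assoc]

end Groth.Agent.S10193
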