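import Groth.Statements.S10196
import Mathlib
import Groth.Agent.Lib.helper5.AlgSpOpenSub
import Groth.Agent.Lib.helper5.AlgSpLocP
import Groth.Agent.Lib.helper5.AlgSpUnram
import Groth.Agent.Lib.helper5.AlgSpPoints
import Groth.Agent.Lib.helper5.AlgSpThick

set_option autoImplicit false
universe u
open CategoryTheory CategoryTheory.Limits AlgebraicGeometry Topology TopologicalSpace
open AlgSp

namespace Groth.Agent.S10196

/-- Let X be an algebraic space over a scheme S, a : h_U ⟶ X a representable etale map from a scheme U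
over S, and X' ⟶ X the open subspace whose image in |X| is the (open) image of U. Then a factors
through a representable etale and surjective a' : h_U ⟶ X', and if R is a scheme over S with h_R =
h_U ×_X h_U then also h_R = h_U ×_{X'} h_U and (U, R, a') is a presentation of X'. -/
theorem result {S : Scheme.{u}} {X X' : AlgSp.Space S} {U : Over S}
    (a : (AlgSp.yon S).obj U ⟶ X.obj) (ha : AlgSp.RepWith @Etale a)
    (j : X' ⟶ X) (hj : AlgSp.RepWith @IsOpenImmersion j.hom)
    (himage : Set.range (AlgSp.Points.map j.hom) = Set.range (AlgSp.Points.ofPt a)) :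
    ∃ a' : (AlgSp.yon S).obj U ⟶ X'.obj, a' ≫ j.hom = a ∧ AlgSp.RepWith @Etale a' ∧ AlgSp.RepWith @Surjective a' ∧
      ∀ (R : Over S) (s t : R ⟶ U), IsPullback ((AlgSp.yon S).map t) ((AlgSp.yon S).map s) a a →
        AlgSp.IsPresentation s t a' := by
  have hjet : AlgSp.RepWith @Etale j.hom :=
    AlgSp.H5_repWith_of_le AlgSp.H5_isOpenImmersion_le_etale hj
  have hjinj : Function.Injective (AlgSp.Points.map j.hom) := by
    apply AlgSp.H5_injective_of_repWith
    refine AlgSp.H5_repWith_of_le ?_ hj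
    intro _ _ k hk
    haveI : IsOpenImmersion k := hk
    exact (inferInstance : UniversallyInjective k)
  haveI hjmono : Mono j.hom := AlgSp.H5_mono_of_repWith AlgSp.H5_oi_le_mono j.hom hj
  have hsub : Set.range (AlgSp.Points.map a) ⊆ Set.range (AlgSp.Points.map j.hom) := by
    rintro _ ⟨y, rfl⟩
    rw [himage, ← AlgSp.Points.ofScheme_toScheme U y, ← AlgSp.Points.ofPt_eq_map_ofScheme]
    exact ⟨_, rfl⟩
  obtain ⟨a', ha'⟩ := AlgSp.H5_exists_factor_of_range_subset j.hom hj a hsub
  subst ha'
  have het : AlgSp.RepWith @Etale a' := AlgSp.H5_repWith_etale_of_postcomp a' j.hom hjet ha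
  have hsurj : AlgSp.RepWith @Surjective a' := by
    apply AlgSp.H5_repWith_surjective_of_surjective a' het.1
    intro x'
    have hx : AlgSp.Points.map j.hom x' ∈ Set.range (AlgSp.Points.ofPt (a' ≫ j.hom)) := by
      rw [← himage]
      exact ⟨x', rfl⟩
    obtain ⟨u, hu⟩ := hx
    refine ⟨AlgSp.Points.ofScheme U u, hjinj ?_⟩
    rw [← AlgSp.Points.map_comp, ← AlgSp.Points.ofPt_eq_map_ofScheme]
    exact hu
  refine ⟨a', rfl, het, hsurj, ?_⟩
  intro R s t hR
  have hR' : IsPullback ((AlgSp.yon S).map t) ((AlgSp.yon S).map s) a' a' := by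
    refine IsPullback.mk' ?_ ?_ ?_
    · rw [← cancel_mono j.hom, Category.assoc, Category.assoc]
      exact hR.w
    · intro T φ φ' h1 h2
      exact hR.hom_ext h1 h2
    · intro T α β hαβ
      have h3 : α ≫ a' ≫ j.hom = β ≫ a' ≫ j.hom := by
        rw [← Category.assoc, hαβ, Category.assoc]
      exact ⟨hR.lift α β h3, hR.lift_fst _ _ _, hR.lift_snd _ _ _⟩
  have hiff : ∀ (T : Over S) (x y : T ⟶ U), (∃ r : T ⟶ R, r ≫ t = x ∧ r ≫ s = y) ↔
      (AlgSp.yon S).map x ≫ a' = (AlgSp.yon S).map y ≫ a' := by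
    intro T x y
    constructor
    · rintro ⟨r, rfl, rfl⟩
      rw [Functor.map_comp, Functor.map_comp, Category.assoc, Category.assoc, hR'.w]
    · intro h
      obtain ⟨r, hr⟩ := (AlgSp.yon S).map_surjective (hR'.lift _ _ h)
      refine ⟨r, ?_, ?_⟩
      · apply (AlgSp.yon S).map_injective
        rw [Functor.map_comp, hr, hR'.lift_fst]
      · apply (AlgSp.yon S).map_injective
        rw [Functor.map_comp, hr, hR'.lift_snd]
  refine ⟨⟨⟨?_, ?_⟩, het.2 a' ((AlgSp.yon S).map t) s hR', het.2 a' ((AlgSp.yon S).map s) t hR'.flip⟩,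
    het, hsurj, hR'⟩
  · intro T r r' h1 h2
    apply (AlgSp.yon S).map_injective
    apply hR'.hom_ext
    · rw [← Functor.map_comp, ← Functor.map_comp, h1]
    · rw [← Functor.map_comp, ← Functor.map_comp, h2]
  · intro T
    exact ⟨fun x => (hiff T x x).2 rfl, fun {x y} h => (hiff T y x).2 ((hiff T x y).1 h).symm,
      fun {x y z} h1 h2 => (hiff T x z).2 (((hiff T x y).1 h1).trans ((hiff T y z).1 h2))⟩

end Groth.Agent.S10196
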