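import Groth.Statements.S10202
import Mathlib
import Groth.Agent.Lib.helper5.AlgSpPoints
import Groth.Agent.Lib.helper5.AlgSpUniv

set_option autoImplicit false
universe u
open CategoryTheory CategoryTheory.Limits AlgebraicGeometry Topology TopologicalSpace
open AlgSp

namespace Groth.Agent.S10202

/-- If X is a locally Noetherian algebraic space over a scheme S, then the space |X| is locally
Noetherian: every point of |X| has an open neighbourhood which is a Noetherian topological space in
the induced topology. -/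
theorem result {S : Scheme.{u}} (X : AlgSp.Space S)
    (hX : AlgSp.IsLocNoethSp X.obj) (x : AlgSp.Points X.obj) :
    ∃ W : Set (AlgSp.Points X.obj), IsOpen W ∧ x ∈ W ∧ NoetherianSpace ↥W := by
  obtain ⟨U, p, he, hs, hN⟩ := hX
  haveI : IsLocallyNoetherian U.left := hN
  have openOf : IsOpenMap (AlgSp.Points.ofPt p) := by
    have h1 : IsOpenMap (AlgSp.Points.map p) := AlgSp.H5_isOpenMap_of_repWith p
      (AlgSp.H5_repWith_of_le AlgSp.H5_etale_le_universallyOpen he)
    have h2 : AlgSp.Points.ofPt p = AlgSp.Points.map p ∘ (AlgSp.Points.schemeHomeo U) := by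
      funext u
      exact AlgSp.Points.ofPt_eq_map_ofScheme p u
    rw [h2]
    exact h1.comp (AlgSp.Points.schemeHomeo U).isOpenMap
  obtain ⟨y, rfl⟩ := AlgSp.H5_surjective_of_repWith p hs x
  obtain ⟨O, hO, huO, -⟩ := (TopologicalSpace.Opens.isBasis_iff_nbhd.1 U.left.isBasis_affineOpens)
    (show AlgSp.Points.toScheme U y ∈ (⊤ : U.left.Opens) from trivial)
  have hO' : IsAffineOpen O := hO
  haveI : IsNoetherianRing Γ(U.left, O) := IsLocallyNoetherian.component_noetherian ⟨O, hO'⟩
  haveI hNO : NoetherianSpace {v : U.left // v ∈ O} := noetherianSpace_of_isAffineOpen O hO'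
  refine ⟨AlgSp.Points.ofPt p '' (O : Set U.left), openOf _ O.isOpen, ⟨_, huO, ?_⟩, ?_⟩
  · rw [AlgSp.Points.ofPt_eq_map_ofScheme, AlgSp.Points.ofScheme_toScheme]
  · have e : AlgSp.Points.ofPt p '' (O : Set U.left) =
        Set.range (fun v : {v : U.left // v ∈ O} => AlgSp.Points.ofPt p v.1) := by
      ext z
      constructor
      · rintro ⟨v, hv, rfl⟩
        exact ⟨⟨v, hv⟩, rfl⟩
      · rintro ⟨⟨v, hv⟩, rfl⟩
        exact ⟨v, hv, rfl⟩
    rw [e]
    exact NoetherianSpace.range _ ((AlgSp.Points.continuous_ofPt p).comp continuous_subtype_val)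

end Groth.Agent.S10202
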