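import Groth.Statements.S10203
import Mathlib
import Groth.Agent.Lib.helper5.AlgSpPoints
import Groth.Agent.S10202

set_option autoImplicit false
universe u
open CategoryTheory CategoryTheory.Limits AlgebraicGeometry Topology TopologicalSpace
open AlgSp

namespace Groth.Agent.S10203

/-- If X is a quasi-compact, locally Noetherian algebraic space over a scheme S, then |X| is a
Noetherian topological space. -/
theorem result {S : Scheme.{u}} (X : AlgSp.Space S)
    (hqc : AlgSp.IsQuasiCompactSp X.obj) (hX : AlgSp.IsLocNoethSp X.obj) :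
    NoetherianSpace (AlgSp.Points X.obj) := by
  have key := fun x => Groth.Agent.S10202.result X hX x
  choose W hWo hxW hWn using key
  haveI : CompactSpace (AlgSp.Points X.obj) := by
    obtain ⟨U', p', he', hs', hc'⟩ := hqc
    haveI : CompactSpace U'.left := hc'
    constructor
    have hsurj : Function.Surjective (AlgSp.Points.ofPt p') := by
      intro x
      obtain ⟨y, rfl⟩ := AlgSp.H5_surjective_of_repWith p' hs' x
      refine ⟨AlgSp.Points.toScheme U' y, ?_⟩
      rw [AlgSp.Points.ofPt_eq_map_ofScheme, AlgSp.Points.ofScheme_toScheme]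
    rw [← Set.range_eq_univ.2 hsurj]
    exact isCompact_range (AlgSp.Points.continuous_ofPt p')
  obtain ⟨t, ht⟩ := isCompact_univ.elim_finite_subcover W hWo
    (fun x _ => Set.mem_iUnion.2 ⟨x, hxW x⟩)
  haveI : ∀ i : t, NoetherianSpace (W i.1) := fun i => hWn i.1
  have hN : NoetherianSpace (⋃ i : t, W i.1) := NoetherianSpace.iUnion (fun i : t => W i.1)
  have huniv : (⋃ i : t, W i.1) = Set.univ := by
    apply Set.eq_univ_of_univ_subset
    intro x hx
    obtain ⟨i, hi, hxi⟩ := Set.mem_iUnion₂.1 (ht hx)
    exact Set.mem_iUnion.2 ⟨⟨i, hi⟩, hxi⟩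
  rw [huniv] at hN
  exact noetherian_univ_iff.1 hN

end Groth.Agent.S10203
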