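import Groth.Statements.S10210
import Mathlib
import Groth.Agent.Lib.helper5.AlgSpUnram

set_option autoImplicit false
universe u
open CategoryTheory CategoryTheory.Limits AlgebraicGeometry Topology TopologicalSpace
open AlgSp

namespace Groth.Agent.S10210

/-- Let X, Y, Z be algebraic spaces over a scheme S, g : X ⟶ Z and h : Y ⟶ Z etale morphisms and f : X ⟶
Y a morphism with f ≫ h = g. Then f is etale. -/
theorem result {S : Scheme.{u}} {X Y Z : AlgSp.Space S} (f : X ⟶ Y) (h : Y ⟶ Z) (g : X ⟶ Z)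
    (w : f ≫ h = g) (hg : AlgSp.IsEtaleMor g.hom) (hh : AlgSp.IsEtaleMor h.hom) :
    AlgSp.IsEtaleMor f.hom := by
  intro U φ hφ
  have hΔ : RepWith @Etale (pullback.diagonal h.hom) :=
    H5_repWith_of_le H5_isOpenImmersion_le_etale
      (H5_repWith_isOpenImmersion_diagonal_of_isEtaleMor Y.property h.hom hh)
  refine H5_of_postcomp (RepWith @Etale) (φ ≫ f.hom) h.hom hΔ ?_
  have e : f.hom ≫ h.hom = g.hom := by rw [← w]; rfl
  rw [Category.assoc, e]
  exact hg φ hφ

end Groth.Agent.S10210
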