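import Groth.Statements.S10213
import Mathlib
import Groth.Agent.Lib.helper5.AlgSpFOBC

set_option autoImplicit false
universe u
open CategoryTheory CategoryTheory.Limits AlgebraicGeometry Topology TopologicalSpace
open AlgSp

namespace Groth.Agent.S10213

/-- For an algebraic space X over a scheme S there is a surjective etale map h_U ⟶ X where U is a
disjoint union of affine schemes, each of which maps into an affine open of S. -/
theorem result {S : Scheme.{u}} (X : AlgSp.Space S) :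
    ∃ (ι : Type u) (V : ι → Scheme.{u}) (_ : ∀ i, IsAffine (V i)) (q : (∐ V) ⟶ S)
      (p : (AlgSp.yon S).obj (Over.mk q) ⟶ X.obj),
      AlgSp.RepWith @Etale p ∧ AlgSp.RepWith @Surjective p ∧
        ∀ i, ∃ W : S.Opens, IsAffineOpen W ∧ ∀ v : ↥(V i), (Sigma.ι V i ≫ q) v ∈ W := by
  obtain ⟨U, p, he, hs⟩ := X.property.atlas
  have hex : ∀ u : U.left, ∃ (W : S.Opens) (V : Scheme.{u}) (o : V ⟶ U.left),
      IsAffineOpen W ∧ IsAffine V ∧ IsOpenImmersion o ∧ u ∈ Set.range o ∧
        Set.range o ⊆ U.hom ⁻¹' (W : Set S) := by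
    intro u
    obtain ⟨W, hW, hxW, -⟩ := (TopologicalSpace.Opens.isBasis_iff_nbhd.1 S.isBasis_affineOpens)
      (show U.hom u ∈ (⊤ : S.Opens) from trivial)
    obtain ⟨B, hB, o, ho, h1, h2⟩ := AlgSp.H5_exists_affine_nbhd_spec U.left u
      (U.hom ⁻¹' (W : Set S)) (W.isOpen.preimage U.hom.continuous) hxW
    exact ⟨W, Spec (CommRingCat.of B), o, hW, inferInstance, ho, h1, h2⟩
  choose W V o hW hV ho h1 h2 using hex
  haveI : ∀ u, IsOpenImmersion (o u) := ho
  have hd_et : Etale (Sigma.desc o) :=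
    IsZariskiLocalAtSource.sigmaDesc (P := @Etale) (fun i => inferInstance)
  have hd_surj : Surjective (Sigma.desc o) := ⟨fun x => by
    obtain ⟨y, hy⟩ := h1 x
    exact ⟨Sigma.ι V x y, by rw [← Scheme.Hom.comp_apply, Sigma.ι_desc]; exact hy⟩⟩
  refine ⟨U.left, V, hV, Sigma.desc o ≫ U.hom,
    (AlgSp.yon S).map (Over.homMk (Sigma.desc o) rfl : Over.mk (Sigma.desc o ≫ U.hom) ⟶ U) ≫ p,
    ?_, ?_, ?_⟩
  · exact (AlgSp.RepWith @Etale).comp_mem _ _ ((AlgSp.repWith_yon_map_iff @Etale _).2 hd_et) he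
  · exact (AlgSp.RepWith @Surjective).comp_mem _ _
      ((AlgSp.repWith_yon_map_iff @Surjective _).2 hd_surj) hs
  · intro i
    refine ⟨W i, hW i, fun v => ?_⟩
    have e : Sigma.ι V i ≫ Sigma.desc o ≫ U.hom = o i ≫ U.hom := by
      rw [← Category.assoc, Sigma.ι_desc]
    rw [e, Scheme.Hom.comp_apply]
    exact h2 i ⟨v, rfl⟩

end Groth.Agent.S10213
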