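import Groth.Statements.S10214
import Mathlib
import Groth.Agent.Lib.helper5.AlgSpFOBC
import Groth.Agent.Lib.helper5.AlgSpOpenSub
import Groth.Agent.Lib.helper5.AlgSpUniv
import Groth.Agent.Lib.helper5.AlgSpPoints
import Groth.Agent.S10196

set_option autoImplicit false
universe u
open CategoryTheory CategoryTheory.Limits AlgebraicGeometry Topology TopologicalSpace
open AlgSp

namespace Groth.Agent.S10214

/-- Every algebraic space X over a scheme S has a Zariski covering by open subspaces X_i such that each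
X_i has a surjective etale map from an affine scheme; moreover the affine schemes may be taken to
map into affine opens of S. -/
theorem result {S : Scheme.{u}} (X : AlgSp.Space S) :
    ∃ (ι : Type u) (Xi : ι → AlgSp.Space S) (j : ∀ i, Xi i ⟶ X),
      AlgSp.IsZarCover (fun i => (Xi i).obj) (fun i => (j i).hom) ∧
        ∀ i, ∃ (U : Over S) (p : (AlgSp.yon S).obj U ⟶ (Xi i).obj), IsAffine U.left ∧
          AlgSp.RepWith @Etale p ∧ AlgSp.RepWith @Surjective p ∧
          ∃ W : S.Opens, IsAffineOpen W ∧ ∀ v : ↥U.left, U.hom v ∈ W := by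
  obtain ⟨U, p, he, hs⟩ := X.property.atlas
  have hex : ∀ u : U.left, ∃ (W : S.Opens) (V : Scheme.{u}) (o : V ⟶ U.left),
      IsAffineOpen W ∧ IsAffine V ∧ IsOpenImmersion o ∧ u ∈ Set.range o ∧
        Set.range o ⊆ U.hom ⁻¹' (W : Set S) := by
    intro u
    obtain ⟨W, hW, hxW, -⟩ := (TopologicalSpace.Opens.isBasis_iff_nbhd.1 S.isBasis_affineOpens)
      (show U.hom u ∈ (⊤ : S.Opens) from trivial)
    obtain ⟨B, hB, o, ho, h1, h2⟩ := AlgSp.H5_exists_affine_nbhd_spec U.left u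
      (U.hom ⁻¹' (W : Set S)) (W.isOpen.preimage U.hom.continuous) hxW
    exact ⟨W, Spec (CommRingCat.of B), o, hW, inferInstance, ho, h1, h2⟩
  choose W V o hW hV ho h1 h2 using hex
  haveI : ∀ u, IsOpenImmersion (o u) := ho
  obtain ⟨a, ha_def⟩ : ∃ a : ∀ u, (AlgSp.yon S).obj (Over.mk (o u ≫ U.hom)) ⟶ X.obj,
      ∀ u, a u = (AlgSp.yon S).map (Over.homMk (o u) rfl : Over.mk (o u ≫ U.hom) ⟶ U) ≫ p :=
    ⟨_, fun _ => rfl⟩
  have hae : ∀ u, AlgSp.RepWith @Etale (a u) := fun u => by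
    rw [ha_def]
    exact (AlgSp.RepWith @Etale).comp_mem _ _
      ((AlgSp.repWith_yon_map_iff @Etale _).2 (inferInstance : Etale (o u))) he
  have openOf : ∀ {F : AlgSp.Sp S} {T : Over S} (q : (AlgSp.yon S).obj T ⟶ F),
      AlgSp.RepWith @Etale q → IsOpenMap (AlgSp.Points.ofPt q) := by
    intro F T q hq
    have h1 : IsOpenMap (AlgSp.Points.map q) := AlgSp.H5_isOpenMap_of_repWith q
      (AlgSp.H5_repWith_of_le AlgSp.H5_etale_le_universallyOpen hq)
    have h2 : AlgSp.Points.ofPt q = AlgSp.Points.map q ∘ (AlgSp.Points.schemeHomeo T) := by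
      funext u
      exact AlgSp.Points.ofPt_eq_map_ofScheme q u
    rw [h2]
    exact h1.comp (AlgSp.Points.schemeHomeo T).isOpenMap
  have hopen : ∀ u, IsOpen (Set.range (AlgSp.Points.ofPt (a u))) :=
    fun u => (openOf _ (hae u)).isOpen_range
  refine ⟨U.left, fun u => ⟨AlgSp.H5_openSub X.obj (Set.range (AlgSp.Points.ofPt (a u))),
      AlgSp.H5_isAlgSpace_openSub X.property (hopen u)⟩,
    fun u => ObjectProperty.homMk (AlgSp.H5_openSubι _ _), ⟨?_, ?_⟩, ?_⟩
  · intro u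
    exact AlgSp.H5_repWith_isOpenImmersion_openSubι X.obj (hopen u)
  · intro x
    obtain ⟨y, rfl⟩ := AlgSp.H5_surjective_of_repWith p hs x
    obtain ⟨v, hv⟩ := h1 (AlgSp.Points.toScheme U y)
    refine ⟨AlgSp.Points.toScheme U y, ?_⟩
    show AlgSp.Points.map p y ∈ Set.range (AlgSp.Points.map (AlgSp.H5_openSubι _ _))
    rw [AlgSp.H5_openSub_range]
    refine ⟨v, ?_⟩
    rw [ha_def, AlgSp.H5_ofPt_comp]
    show AlgSp.Points.ofPt p ((o _) v) = _
    rw [hv, AlgSp.Points.ofPt_eq_map_ofScheme, AlgSp.Points.ofScheme_toScheme]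
  · intro u
    obtain ⟨a', ha'1, ha'2, ha'3, _⟩ := Groth.Agent.S10196.result (X := X)
      (X' := ⟨AlgSp.H5_openSub X.obj (Set.range (AlgSp.Points.ofPt (a u))),
        AlgSp.H5_isAlgSpace_openSub X.property (hopen u)⟩) (a u) (hae u)
      (ObjectProperty.homMk (AlgSp.H5_openSubι _ _))
      (AlgSp.H5_repWith_isOpenImmersion_openSubι X.obj (hopen u)) AlgSp.H5_openSub_range
    refine ⟨Over.mk (o u ≫ U.hom), a', hV u, ha'2, ha'3, W u, hW u, fun v => ?_⟩
    show (o u ≫ U.hom) v ∈ W u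
    rw [Scheme.Hom.comp_apply]
    exact h2 u ⟨v, rfl⟩

end Groth.Agent.S10214
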