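import Groth.Statements.S10261
import Mathlib
import Groth.Agent.Lib.helper5.AlgSpEtMono

set_option autoImplicit false
universe u
open CategoryTheory CategoryTheory.Limits AlgebraicGeometry
open AlgSp

namespace Groth.Agent.S10261

/-- An etale and universally injective morphism of algebraic spaces is an open immersion. -/
theorem result {S : Scheme.{u}} {X Y : AlgSp.Space S}
    (f : X ⟶ Y) (het : AlgSp.IsEtaleMor f.hom) (hinj : AlgSp.IsUnivInjectiveMor f.hom) :
    AlgSp.RepWith @IsOpenImmersion f.hom := by
  have hX : IsAlgSpace X.obj := X.property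
  have hY : IsAlgSpace Y.obj := Y.property
  haveI hmono : Mono f.hom := H5_mono_of_isEtaleMor_of_isUnivInjectiveMor hX f.hom het hinj
  have hopen : IsOpenMap (Points.map f.hom) :=
    H5_Q_of_univSp hY (H5_isUnivOpenMor_of_isEtaleMor f.hom hX het)
  have hV : IsOpen (Set.range (Points.map f.hom)) := hopen.isOpen_range
  obtain ⟨f₁, hf₁⟩ := H5_exists_lift_openSub (V := Set.range (Points.map f.hom)) f.hom
    (le_refl _)
  have hι : RepWith @IsOpenImmersion (H5_openSubι Y.obj (Set.range (Points.map f.hom))) :=
    H5_repWith_isOpenImmersion_openSubι Y.obj hV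
  have hιe : RepWith @Etale (H5_openSubι Y.obj (Set.range (Points.map f.hom))) :=
    H5_repWith_of_le (fun _ _ k hk => by
      haveI : IsOpenImmersion k := hk
      exact (inferInstance : Etale k)) hι
  have hιinj : Function.Injective
      (Points.map (H5_openSubι Y.obj (Set.range (Points.map f.hom)))) :=
    H5_injective_of_repWith _ (H5_repWith_of_le (fun _ _ k hk => by
      haveI : IsOpenImmersion k := hk
      exact (inferInstance : UniversallyInjective k)) hι)
  haveI : Mono f₁ := mono_of_mono_fac hf₁
  obtain ⟨U, a, ha1, ha3⟩ := hX.atlas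
  have h1 : RepWith @Etale (a ≫ f₁) := by
    refine H5_repWith_etale_of_postcomp _ _ hιe ?_
    rw [Category.assoc, hf₁]
    exact het a ha1
  have hsurj : Function.Surjective (Points.map (a ≫ f₁)) := by
    intro z
    have hz : Points.map (H5_openSubι Y.obj (Set.range (Points.map f.hom))) z ∈
        Set.range (Points.map f.hom) := by
      have := H5_openSub_range (F := Y.obj) (V := Set.range (Points.map f.hom))
      exact this.le ⟨z, rfl⟩
    obtain ⟨x, hx⟩ := hz
    obtain ⟨u, rfl⟩ := H5_surjective_of_repWith a ha3 x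
    refine ⟨u, hιinj ?_⟩
    rw [← hx, ← Points.map_comp, ← Points.map_comp, Category.assoc, hf₁]
  have h3 : RepWith @Surjective (a ≫ f₁) := H5_repWith_surjective_of_surjective _ h1.1 hsurj
  haveI : Sheaf.IsLocallySurjective (a ≫ f₁) := H5_isLocallySurjective_of_etale _ h1 h3
  haveI : Epi (a ≫ f₁) := inferInstance
  haveI : Epi f₁ := epi_of_epi a f₁
  haveI : IsIso f₁ := isIso_of_mono_of_epi f₁
  rw [← hf₁]
  exact MorphismProperty.comp_mem _ _ _ (H5_repWith_of_isIso _ f₁) hι

end Groth.Agent.S10261
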