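import Groth.Statements.S10263
import Mathlib
import Groth.Agent.Lib.helper5.AlgSpLocP

set_option autoImplicit false
universe u
open CategoryTheory CategoryTheory.Limits AlgebraicGeometry
open AlgSp

namespace Groth.Agent.S10263

/-- If the composite X -> Y -> Z is unramified then X -> Y is unramified. -/
theorem result {S : Scheme.{u}} {X Y Z : AlgSp.Space S} (f : X ⟶ Y) (g : Y ⟶ Z)
    (h : AlgSp.LocP (@LocallyOfFiniteType ⊓ @FormallyUnramified) (f ≫ g).hom) :
    AlgSp.LocP (@LocallyOfFiniteType ⊓ @FormallyUnramified) f.hom := by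
  have h1 : AlgSp.LocP @LocallyOfFiniteType (f ≫ g).hom := fun U V a b k ha hb w => (h a b k ha hb w).1
  have h2 : AlgSp.LocP @FormallyUnramified (f ≫ g).hom := fun U V a b k ha hb w => (h a b k ha hb w).2
  have k1 := AlgSp.H5_locP_of_comp @LocallyOfFiniteType
    (fun _ _ _ u v huv => by
      haveI : LocallyOfFiniteType (u ≫ v) := huv
      exact locallyOfFiniteType_of_comp u v) Z.property f.hom g.hom h1
  have k2 := AlgSp.H5_locP_of_comp @FormallyUnramified
    (fun _ _ _ u v huv => by
      haveI : FormallyUnramified (u ≫ v) := huv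
      exact FormallyUnramified.of_comp u v) Z.property f.hom g.hom h2
  exact fun U V a b k ha hb w => ⟨k1 a b k ha hb w, k2 a b k ha hb w⟩

end Groth.Agent.S10263
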