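import Groth.Statements.S10264
import Mathlib
import Groth.Agent.Lib.helper5.AlgSpLocP

set_option autoImplicit false
universe u
open CategoryTheory CategoryTheory.Limits AlgebraicGeometry
open AlgSp

namespace Groth.Agent.S10264

/-- An immersion of algebraic spaces is unramified. -/
theorem result {S : Scheme.{u}} {X Y : AlgSp.Space S} (i : X ⟶ Y)
    (hi : AlgSp.RepWith @IsImmersion i.hom) :
    AlgSp.LocP (@LocallyOfFiniteType ⊓ @FormallyUnramified) i.hom := by
  have k1 : AlgSp.LocP @LocallyOfFiniteType i.hom := by
    refine AlgSp.H5_locP_of_repWith @LocallyOfFiniteType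
      (fun _ _ g hg => by haveI : Etale g := hg; infer_instance) i.hom ?_
    exact AlgSp.H5_repWith_of_le (fun _ _ g hg => by haveI : IsImmersion g := hg; infer_instance) hi
  have k2 : AlgSp.LocP @FormallyUnramified i.hom := by
    refine AlgSp.H5_locP_of_repWith @FormallyUnramified
      (fun _ _ g hg => by haveI : Etale g := hg; infer_instance) i.hom ?_
    exact AlgSp.H5_repWith_of_le (fun _ _ g hg => by haveI : IsImmersion g := hg; infer_instance) hi
  exact fun U V a b k ha hb w => ⟨k1 a b k ha hb w, k2 a b k ha hb w⟩

end Groth.Agent.S10264
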