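import Groth.Statements.S10265
import Mathlib
import Groth.Agent.Lib.helper5.AlgSpLocP

set_option autoImplicit false
universe u
open CategoryTheory CategoryTheory.Limits AlgebraicGeometry
open AlgSp

namespace Groth.Agent.S10265

/-- Whenever a morphism of algebraic spaces is etale, it is, etale locally on both source and target,
smooth, flat, unramified, locally quasi-finite, locally of finite type and locally of finite
presentation. -/
theorem result {S : Scheme.{u}} {X Y : AlgSp.Space S} (f : X ⟶ Y) (hf : AlgSp.IsEtaleMor f.hom) :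
    AlgSp.LocP (@LocallyQuasiFinite ⊓ @LocallyOfFiniteType) f.hom ∧ AlgSp.LocP @Smooth f.hom ∧
    AlgSp.LocP @Flat f.hom ∧ AlgSp.LocP @LocallyOfFinitePresentation f.hom ∧
    AlgSp.LocP @LocallyOfFiniteType f.hom ∧ AlgSp.LocP (@LocallyOfFiniteType ⊓ @FormallyUnramified) f.hom := by
  have key : ∀ ⦃U V : Over S⦄ (a : (AlgSp.yon S).obj U ⟶ X.obj) (b : (AlgSp.yon S).obj V ⟶ Y.obj)
      (h : U ⟶ V), AlgSp.RepWith @Etale a → AlgSp.RepWith @Etale b →
      a ≫ f.hom = (AlgSp.yon S).map h ≫ b → Etale h.left := by
    intro U V a b h ha hb w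
    have h1 : AlgSp.RepWith @Etale (a ≫ f.hom) := hf a ha
    rw [w] at h1
    exact (AlgSp.repWith_yon_map_iff @Etale h).1 (AlgSp.H5_repWith_etale_of_postcomp _ _ hb h1)
  refine ⟨?_, ?_, ?_, ?_, ?_, ?_⟩
  · intro U V a b h ha hb w
    haveI := key a b h ha hb w
    exact ⟨H5_lqf_of_unramified h.left, inferInstance⟩
  · intro U V a b h ha hb w
    haveI := key a b h ha hb w
    show Smooth h.left
    infer_instance
  · intro U V a b h ha hb w
    haveI := key a b h ha hb w
    show Flat h.left
    infer_instance
  · intro U V a b h ha hb w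
    haveI := key a b h ha hb w
    show LocallyOfFinitePresentation h.left
    infer_instance
  · intro U V a b h ha hb w
    haveI := key a b h ha hb w
    show LocallyOfFiniteType h.left
    infer_instance
  · intro U V a b h ha hb w
    haveI := key a b h ha hb w
    exact ⟨inferInstance, inferInstance⟩

end Groth.Agent.S10265
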