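import Groth.Statements.S10269
import Mathlib
import Groth.Agent.Lib.helper5.AlgSpAffBC

set_option autoImplicit false
universe u
open CategoryTheory CategoryTheory.Limits AlgebraicGeometry
open AlgSp

namespace Groth.Agent.S10269

/-- A finite morphism of algebraic spaces is integral; an integral morphism locally of finite type is
finite. -/
theorem result {S : Scheme.{u}} {X Y : AlgSp.Space S} (f : X ⟶ Y) :
    (AlgSp.IsFiniteMor f.hom → AlgSp.IsIntegralMor f.hom) ∧
    (AlgSp.IsIntegralMor f.hom → AlgSp.LocP @LocallyOfFiniteType f.hom → AlgSp.IsFiniteMor f.hom) := by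
  refine ⟨fun h Z hZ g => ?_, fun h hl Z hZ g => ?_⟩
  · obtain ⟨W, i, fst, sq, hW, hi⟩ := h hZ g
    haveI := hi
    exact ⟨W, i, fst, sq, hW, inferInstance⟩
  · obtain ⟨W, i, fst, sq, hW, hi⟩ := h hZ g
    refine ⟨W, i, fst, sq, hW, ?_⟩
    have hlft : LocallyOfFiniteType i.left :=
      AlgSp.H5_P_of_locP_of_affineRep @LocallyOfFiniteType Y.property f.hom hl
        (fun Z' hZ' g' => by
          obtain ⟨W', i', fst', sq', -, -⟩ := h hZ' g'
          exact ⟨W', i', fst', sq'⟩) g i fst sq
    exact (IsFinite.iff_isIntegralHom_and_locallyOfFiniteType _).2 ⟨hi, hlft⟩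

end Groth.Agent.S10269
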