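import Groth.Statements.S10270
import Mathlib
import Groth.Agent.Lib.helper5.AlgSpUniv
import Groth.Agent.Lib.helper5.AlgSpPoints

set_option autoImplicit false
universe u
open CategoryTheory CategoryTheory.Limits AlgebraicGeometry
open AlgSp

namespace Groth.Agent.S10270

/-- A morphism of algebraic spaces is integral if and only if it is affine and universally closed. -/
theorem result {S : Scheme.{u}} {X Y : AlgSp.Space S} (f : X ⟶ Y) :
    AlgSp.IsIntegralMor f.hom ↔ (AlgSp.IsAffineMor f.hom ∧ AlgSp.IsUnivClosedMor f.hom) := by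
  constructor
  · intro h
    refine ⟨fun Z hZ g => ?_, ?_⟩
    · obtain ⟨W, i, fst, sq, hW, -⟩ := h hZ g
      exact ⟨W, i, fst, sq, hW⟩
    · refine AlgSp.H5_isUnivClosedMor_of_affine f.hom ?_
      intro Z hZ g P fst snd sq
      obtain ⟨W, i, fst₀, sq₀, hW, hi⟩ := h hZ g
      haveI := hi
      have hUC : AlgSp.RepWith @UniversallyClosed ((AlgSp.yon S).map i) :=
        (AlgSp.repWith_yon_map_iff @UniversallyClosed i).2
          (inferInstance : UniversallyClosed i.left)
      have e : snd = (sq.isoIsPullback _ _ sq₀).hom ≫ (AlgSp.yon S).map i :=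
        (sq.isoIsPullback_hom_snd _ _ sq₀).symm
      rw [e]
      exact AlgSp.H5_isClosedMap_of_repWith _
        ((MorphismProperty.cancel_left_of_respectsIso (AlgSp.RepWith @UniversallyClosed) _ _).2 hUC)
  · rintro ⟨ha, hc⟩ Z hZ g
    obtain ⟨W, i, fst, sq, hW⟩ := ha hZ g
    refine ⟨W, i, fst, sq, hW, ?_⟩
    haveI := hZ
    haveI := hW
    have h1 : AlgSp.IsUnivClosedMor ((AlgSp.yon S).map i) :=
      AlgSp.H5_univSp_baseChange AlgSp.IsClosedMor sq hc
    have h2 : UniversallyClosed i.left :=
      (AlgSp.repWith_yon_map_iff @UniversallyClosed i).1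
        ((AlgSp.H5_repWith_universallyClosed_iff _
          (Functor.relativelyRepresentable.map (AlgSp.yon S) i)).2 h1)
    exact IsIntegralHom.iff_universallyClosed_and_isAffineHom.2 ⟨h2, inferInstance⟩

end Groth.Agent.S10270
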