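import Groth.Statements.S10271
import Mathlib
import Groth.Agent.Lib.helper5.AlgSpFinite
import Groth.Agent.S10269
import Groth.Agent.S10270

set_option autoImplicit false
universe u
open CategoryTheory CategoryTheory.Limits AlgebraicGeometry
open AlgSp

namespace Groth.Agent.S10271

/-- A morphism of algebraic spaces is finite if and only if it is affine and proper. -/
theorem result {S : Scheme.{u}} {X Y : AlgSp.Space S} (f : X ⟶ Y) :
    AlgSp.IsFiniteMor f.hom ↔ (AlgSp.IsAffineMor f.hom ∧ AlgSp.IsProperMor f.hom) := by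
  constructor
  · intro h
    have haff : AlgSp.IsAffineMor f.hom := fun Z hZ g => by
      obtain ⟨W, i, fst, sq, hW, -⟩ := h hZ g
      exact ⟨W, i, fst, sq, hW⟩
    refine ⟨haff, ?_, ⟨?_, ?_⟩, ?_⟩
    · exact AlgSp.H5_isSeparatedMor_of_isAffineMor X.property f.hom haff
    · refine AlgSp.H5_locP_of_affineRep @LocallyOfFiniteType
        (fun _ _ _ u v hu hv => by
          haveI : Etale u := hu
          haveI : LocallyOfFiniteType v := hv
          infer_instance) f.hom ?_
      intro Z hZ g
      obtain ⟨W, i, fst, sq, hW, hi⟩ := h hZ g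
      haveI := hi
      exact ⟨W, i, fst, sq, inferInstance⟩
    · exact AlgSp.H5_isQuasiCompactMor_of_isAffineMor X.property Y.property.diag f.hom haff
    · exact ((Groth.Agent.S10270.result f).1 ((Groth.Agent.S10269.result f).1 h)).2
  · rintro ⟨ha, hsep, ⟨hlft, hqc⟩, huc⟩
    exact (Groth.Agent.S10269.result f).2 ((Groth.Agent.S10270.result f).2 ⟨ha, huc⟩) hlft

end Groth.Agent.S10271
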