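import Groth.Statements.S10274
import Mathlib
import Groth.Agent.Lib.helper5.AlgSpLocP
import Groth.Agent.Lib.helper5.AlgSpQCMor

set_option autoImplicit false
universe u
open CategoryTheory CategoryTheory.Limits AlgebraicGeometry
open AlgSp

namespace Groth.Agent.S10274

/-- (4) ⇒ (1): properness of a morphism of algebraic spaces descends along a surjective etale base
change from a scheme. -/
theorem result {S : Scheme.{u}} {X Y : AlgSp.Space S} (f : X ⟶ Y) (V : Over S)
    (p : (AlgSp.yon S).obj V ⟶ Y.obj) (hp : AlgSp.RepWith @Etale p) (hps : AlgSp.RepWith @Surjective p)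
    {P : AlgSp.Sp S} (fst : P ⟶ X.obj) (snd : P ⟶ (AlgSp.yon S).obj V) (sq : IsPullback fst snd f.hom p)
    (h : AlgSp.IsProperMor snd) : AlgSp.IsProperMor f.hom := by
  obtain ⟨h1, ⟨h2, h3⟩, h4⟩ := h
  haveI : Sheaf.IsLocallySurjective p := AlgSp.H5_isLocallySurjective_of_etale p hp hps
  refine ⟨?_, ⟨?_, ?_⟩, ?_⟩
  · exact AlgSp.H5_repWith_diagonal_of_locSurj X.property f.hom p fst snd sq @IsClosedImmersion h1
  · exact AlgSp.H5_locP_descent @LocallyOfFiniteType
      (fun _ _ _ u v _ huv => by
        haveI : LocallyOfFiniteType (u ≫ v) := huv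
        exact locallyOfFiniteType_of_comp u v) f.hom p hp hps fst snd sq h2
  · exact AlgSp.H5_isQuasiCompactMor_descent_univOpen sq X.property Y.property
      (AlgSp.IsAlgSpace.yon_obj V)
      ((AlgSp.H5_repWith_universallyOpen_iff p hp.1).1
        (AlgSp.H5_repWith_of_le AlgSp.H5_etale_le_universallyOpen hp))
      (AlgSp.H5_surjective_of_repWith p hps) h3
  · exact AlgSp.H5_isUnivClosedMor_descent sq Y.property (AlgSp.IsAlgSpace.yon_obj V) ⟨hp, hps⟩ h4

end Groth.Agent.S10274
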