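import Groth.Statements.S10277
import Mathlib
import Groth.Agent.Lib.helper5.AlgSpLocP
import Groth.Agent.Lib.helper5.AlgSpQC

set_option autoImplicit false
universe u
open CategoryTheory CategoryTheory.Limits AlgebraicGeometry
open AlgSp

namespace Groth.Agent.S10277

/-- A closed immersion of algebraic spaces is proper. -/
theorem result {S : Scheme.{u}} {X Y : AlgSp.Space S} (i : X ⟶ Y)
    (hi : AlgSp.RepWith @IsClosedImmersion i.hom) : AlgSp.IsProperMor i.hom := by
  refine ⟨?_, ⟨?_, ?_⟩, ?_⟩
  · refine (AlgSp.H5_repWith_diagonal_iff @IsClosedImmersion i.hom hi.1).2 ⟨hi.1, ?_⟩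
    intro U V g fst snd sq
    have h : IsClosedImmersion snd.left := hi.2 g fst snd sq
    change IsClosedImmersion (pullback.diagonal snd.left)
    infer_instance
  · refine AlgSp.H5_locP_of_repWith @LocallyOfFiniteType
      (fun _ _ g hg => by haveI : Etale g := hg; infer_instance) i.hom ?_
    exact AlgSp.H5_repWith_of_le (fun _ _ g hg => by haveI : IsClosedImmersion g := hg; infer_instance) hi
  · exact Groth.Agent.Lib.helper5.H5_isQuasiCompactMor_of_repWith _
      (AlgSp.H5_repWith_of_le (fun _ _ g hg => by haveI : IsClosedImmersion g := hg; infer_instance) hi)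
  · exact (AlgSp.H5_repWith_universallyClosed_iff _ hi.1).1
      (AlgSp.H5_repWith_of_le (fun _ _ g hg => by haveI : IsClosedImmersion g := hg; infer_instance) hi)

end Groth.Agent.S10277
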