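import Groth.Statements.S10280
import Mathlib
import Groth.Agent.Lib.helper5.AlgSpLocP
import Groth.Agent.Lib.helper5.AlgSpProd

set_option autoImplicit false
universe u
open CategoryTheory CategoryTheory.Limits AlgebraicGeometry
open AlgSp

namespace Groth.Agent.S10280

/-- F is separated if and only if its diagonal is universally closed, if and only if its diagonal is
proper. -/
theorem result {S : Scheme.{u}} {X Y : AlgSp.Space S} (f : X ⟶ Y) :
    (AlgSp.IsSeparatedMor f.hom ↔ AlgSp.IsUnivClosedMor (pullback.diagonal f.hom)) ∧
    (AlgSp.IsSeparatedMor f.hom ↔ AlgSp.IsProperMor (pullback.diagonal f.hom)) := by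
  have hd := AlgSp.H5_diagonal_properties X.property f.hom
  have key : AlgSp.IsSeparatedMor f.hom ↔ AlgSp.IsUnivClosedMor (pullback.diagonal f.hom) := by
    constructor
    · intro h
      exact (AlgSp.H5_repWith_universallyClosed_iff _ hd.1).1
        (AlgSp.H5_repWith_of_le (fun _ _ g hg => by haveI : IsClosedImmersion g := hg; infer_instance) h)
    · intro h
      have h1 := (AlgSp.H5_repWith_universallyClosed_iff _ hd.1).2 h
      refine ⟨hd.1, fun U V g fst snd sq => ?_⟩
      have i1 : UniversallyClosed snd.left := h1.2 g fst snd sq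
      have i2 : LocallyOfFiniteType snd.left := hd.2.1.2 g fst snd sq
      have i3 : Mono snd.left := hd.2.2.1.2 g fst snd sq
      have i4 : IsSeparated snd.left := hd.2.2.2.1.2 g fst snd sq
      have i5 : IsProper snd.left := {}
      exact (IsClosedImmersion.iff_isProper_and_mono snd.left).2 ⟨i5, i3⟩
  refine ⟨key, ?_⟩
  constructor
  · intro h
    refine ⟨?_, ⟨?_, ?_⟩, key.1 h⟩
    · haveI : IsIso (pullback.diagonal (pullback.diagonal f.hom)) := inferInstance
      exact AlgSp.H5_repWith_of_isIso _ _
    · refine AlgSp.H5_locP_of_repWith @LocallyOfFiniteType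
        (fun _ _ g hg => by haveI : Etale g := hg; infer_instance) _ hd.2.1
    · exact Groth.Agent.Lib.helper5.H5_isQuasiCompactMor_of_repWith _
        (AlgSp.H5_repWith_of_le (fun _ _ g hg => by haveI : IsClosedImmersion g := hg; infer_instance) h)
  · intro h
    exact key.2 h.2.2

end Groth.Agent.S10280
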