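import Groth.Statements.S1031
import Mathlib

set_option autoImplicit false
universe v u
open CategoryTheory
open CohDer

namespace Groth.Agent.S1031


open CategoryTheory CategoryTheory.Limits Opposite

open ObjectProperty Pretriangulated

variable {D : Type u} [Category.{v} D] [Preadditive D] [Limits.HasZeroObject D] [HasShift D ℤ]
    [∀ n : ℤ, (shiftFunctor D n).Additive] [Pretriangulated D]

/-- the cone point of a limit presentation of a discrete diagram is the product. -/
noncomputable def presIso {J : Type} {X : D} (p : LimitPresentation (Discrete J) X)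
    [HasProduct (fun j : J => p.diag.obj ⟨j⟩)] :
    X ≅ ∏ᶜ (fun j : J => p.diag.obj ⟨j⟩) :=
  IsLimit.conePointUniqueUpToIso p.isLimit
    ((IsLimit.postcomposeHomEquiv (Discrete.natIsoFunctor (F := p.diag)).symm _).symm
      (productIsProduct (fun j : J => p.diag.obj ⟨j⟩)))

lemma closed_retractClosure (R : ObjectProperty D) [R.IsClosedUnderBinaryProducts] :
    R.retractClosure.IsClosedUnderBinaryProducts where
  limitsOfShape_le := by
    rintro X ⟨p⟩
    have h := p.prop_diag_obj
    choose Y hY r using fun j : WalkingPair => h ⟨j⟩
    have r' := fun j => (r j).some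
    refine (R.retractClosure).prop_of_iso (presIso p.toLimitPresentation).symm ?_
    refine ⟨∏ᶜ Y, R.prop_pi _ hY, ⟨⟨Limits.Pi.map (fun j => (r' j).i), Limits.Pi.map (fun j => (r' j).r), ?_⟩⟩⟩
    ext j
    simp

lemma closed_extensionProduct (P Q : ObjectProperty D) [P.IsClosedUnderBinaryProducts]
    [Q.IsClosedUnderBinaryProducts] :
    (extensionProduct P Q).IsClosedUnderBinaryProducts where
  limitsOfShape_le := by
    rintro X ⟨p⟩
    have h := p.prop_diag_obj
    choose Y Z f g k hT hY hZ using fun j : WalkingPair => h ⟨j⟩
    refine (extensionProduct P Q).prop_of_iso (presIso p.toLimitPresentation).symm ?_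
    let T : WalkingPair → Triangle D := fun j => Triangle.mk (f j) (g j) (k j)
    exact ⟨_, _, _, _, _, productTriangle_distinguished T hT, P.prop_pi _ hY, Q.prop_pi _ hZ⟩

lemma closed_iter (P : ObjectProperty D) [P.IsClosedUnderBinaryProducts] (n : ℕ) :
    (P.extensionProductIter n).IsClosedUnderBinaryProducts := by
  induction n with
  | zero => rw [extensionProductIter_zero]; infer_instance
  | succ n ih =>
    rw [extensionProductIter_succ]
    exact closed_extensionProduct _ _

lemma closed_env (P : ObjectProperty D) (n : ℕ) :
    (P.triangEnvelopeIter n).IsClosedUnderBinaryProducts := by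
  haveI : (P.shiftClosure ℤ).binaryProductsClosure.retractClosure.IsClosedUnderBinaryProducts :=
    closed_retractClosure _
  haveI := closed_iter (P.shiftClosure ℤ).binaryProductsClosure.retractClosure n
  exact closed_retractClosure _


variable [IsTriangulated D]

lemma base_le (P Q : ObjectProperty D) [P.Nonempty] (m : ℕ) (h : Q ≤ P.triangEnvelopeIter m) :
    (Q.shiftClosure ℤ).binaryProductsClosure.retractClosure ≤ P.triangEnvelopeIter m := by
  haveI := closed_env P m
  rw [retractClosure_le_iff, binaryProductsClosure_le_iff, shiftClosure_le_iff]
  exact h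

lemma step_le (P Q : ObjectProperty D) [P.Nonempty] (m : ℕ) (h : Q ≤ P.triangEnvelopeIter m)
    (n : ℕ) : Q.triangEnvelopeIter n ≤ P.triangEnvelopeIter (m + n * (m + 1)) := by
  induction n with
  | zero =>
    rw [triangEnvelopeIter_zero]
    simpa using base_le P Q m h
  | succ n ih =>
    rw [triangEnvelopeIter_succ]
    have e : m + (n + 1) * (m + 1) = (m + 1) + (m + n * (m + 1)) := by ring
    rw [e, triangEnvelopeIter_add P (n := m + 1) (n' := m) rfl]
    apply monotone_retractClosure
    exact (monotone_extensionProduct_left _ (base_le P Q m h)).trans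
      (monotone_extensionProduct_right _ ih)

theorem main
    (G E : D) (hG : ObjectProperty.IsStrongTriangulatedGenerator (fun X : D => X = G))
    (hE : ObjectProperty.IsClassicalTriangulatedGenerator (fun X : D => X = E)) :
    ObjectProperty.IsStrongTriangulatedGenerator (fun X : D => X = E) := by
  obtain ⟨d, hd⟩ := hG
  have hGm : ObjectProperty.triangEnvelope (fun X : D => X = E) G := by
    rw [isClassicalTriangulatedGenerator_iff] at hE
    rw [hE]; trivial
  rw [prop_triangEnvelope_iff] at hGm
  obtain ⟨m, hm⟩ := hGm
  haveI : ObjectProperty.Nonempty (fun X : D => X = E) := ⟨E, rfl⟩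
  refine ⟨m + d * (m + 1), ?_⟩
  rw [eq_top_iff, ← hd]
  apply step_le
  rintro X rfl
  exact hm

/-- Let D be a triangulated category admitting a strong generator G (every object is reached from G by
shifts, finite sums, summands and a uniformly bounded number of extensions). Then every classical
generator E of D (every object reached from E with some finite number of extensions) is itself a
strong generator. -/
theorem result {D : Type u} [Category.{v} D] [Preadditive D] [Limits.HasZeroObject D] [HasShift D ℤ]
    [∀ n : ℤ, (shiftFunctor D n).Additive] [Pretriangulated D] [IsTriangulated D]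
    (G E : D) (hG : ObjectProperty.IsStrongTriangulatedGenerator (fun X : D => X = G))
    (hE : ObjectProperty.IsClassicalTriangulatedGenerator (fun X : D => X = E)) :
    ObjectProperty.IsStrongTriangulatedGenerator (fun X : D => X = E) := by
  exact main G E hG hE

end Groth.Agent.S1031
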