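import Groth.Statements.S10326
import Mathlib
import Groth.Agent.Lib.helper5.SchemeNoeth
import Groth.Agent.Lib.helper5.AlgSpLocP

set_option autoImplicit false
universe u
open CategoryTheory CategoryTheory.Limits AlgebraicGeometry
open AlgSp

namespace Groth.Agent.S10326

/-- Every scheme etale over a locally Noetherian algebraic space has quasi-compact opens with finitely
many irreducible components. -/
theorem result {S : Scheme.{u}} (X : AlgSp.Space S)
    (hX : AlgSp.IsLocNoethSp X.obj) (U : Over S) (a : (AlgSp.yon S).obj U ⟶ X.obj) (ha : AlgSp.RepWith @Etale a)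
    (W : U.left.Opens) (hW : IsCompact (W : Set ↥U.left)) : (irreducibleComponents ↥W).Finite := by
  obtain ⟨V, p, he, hs, hN⟩ := hX
  haveI : IsLocallyNoetherian V.left := hN
  have hp : AlgSp.Representable p := he.1
  have sq := hp.isPullback' a
  haveI hπ : Etale (hp.fst' a).left :=
    (AlgSp.repWith_yon_map_iff @Etale _).1 (MorphismProperty.of_isPullback sq.flip ha)
  haveI : IsLocallyNoetherian (hp.pullback a).left :=
    AlgebraicGeometry.H5_isLocallyNoetherian_of_lft (hp.fst' a).left
  haveI he_et : Etale (hp.snd a).left :=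
    (AlgSp.repWith_yon_map_iff @Etale _).1 (MorphismProperty.of_isPullback sq he)
  have he_su : Surjective (hp.snd a).left :=
    (AlgSp.repWith_yon_map_iff @Surjective _).1 (MorphismProperty.of_isPullback sq hs)
  have hopen : IsOpenMap (hp.snd a).left := (hp.snd a).left.isOpenMap
  have key : ∀ w : ↥W, ∃ A : (hp.pullback a).left.Opens, IsAffineOpen A ∧
      w.1 ∈ (hp.snd a).left '' (A : Set (hp.pullback a).left) ∧
      (hp.snd a).left '' (A : Set (hp.pullback a).left) ⊆ (W : Set U.left) := by
    intro w
    obtain ⟨q, hq⟩ := he_su.surj w.1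
    obtain ⟨A, hA, hqA, hAW⟩ := exists_isAffineOpen_mem_and_subset (x := q)
      (U := (hp.snd a).left ⁻¹ᵁ W) (by
        show (hp.snd a).left q ∈ W
        rw [hq]; exact w.2)
    exact ⟨A, hA, ⟨q, hqA, hq⟩, by
      rintro _ ⟨y, hy, rfl⟩
      exact hAW hy⟩
  choose A hA hwA hAW using key
  obtain ⟨t, ht⟩ := hW.elim_finite_subcover
    (fun w : ↥W => (hp.snd a).left '' (A w : Set (hp.pullback a).left))
    (fun w => hopen _ (A w).isOpen)
    (fun u hu => Set.mem_iUnion.2 ⟨⟨u, hu⟩, hwA ⟨u, hu⟩⟩)
  haveI : ∀ w : ↥W, TopologicalSpace.NoetherianSpace ↥((hp.snd a).left '' (A w : Set (hp.pullback a).left)) := by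
    intro w
    haveI : IsNoetherianRing Γ((hp.pullback a).left, A w) :=
      IsLocallyNoetherian.component_noetherian ⟨A w, hA w⟩
    haveI hNO : TopologicalSpace.NoetherianSpace {v : (hp.pullback a).left // v ∈ A w} :=
      noetherianSpace_of_isAffineOpen (A w) (hA w)
    have e' : (hp.snd a).left '' (A w : Set (hp.pullback a).left) =
        Set.range (fun v : {v : (hp.pullback a).left // v ∈ A w} => (hp.snd a).left v.1) := by
      ext z
      constructor
      · rintro ⟨v, hv, rfl⟩
        exact ⟨⟨v, hv⟩, rfl⟩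
      · rintro ⟨⟨v, hv⟩, rfl⟩
        exact ⟨v, hv, rfl⟩
    rw [e']
    exact TopologicalSpace.NoetherianSpace.range _ ((hp.snd a).left.continuous.comp continuous_subtype_val)
  have hN' : TopologicalSpace.NoetherianSpace
      ↥(⋃ i : t, (hp.snd a).left '' (A i.1 : Set (hp.pullback a).left)) :=
    TopologicalSpace.NoetherianSpace.iUnion (fun i : t => (hp.snd a).left '' (A i.1 : Set (hp.pullback a).left))
  have hEq : (⋃ i : t, (hp.snd a).left '' (A i.1 : Set (hp.pullback a).left)) =
      (W : Set U.left) := by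
    apply subset_antisymm
    · exact Set.iUnion_subset fun i => hAW i.1
    · intro u hu
      obtain ⟨i, hi, hui⟩ := Set.mem_iUnion₂.1 (ht hu)
      exact Set.mem_iUnion.2 ⟨⟨i, hi⟩, hui⟩
  rw [hEq] at hN'
  haveI : TopologicalSpace.NoetherianSpace ↥W := hN'
  exact TopologicalSpace.NoetherianSpace.finite_irreducibleComponents

end Groth.Agent.S10326
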