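import Groth.Statements.S1033
import Mathlib
import Groth.Agent.Lib.helper2.ExtEfface

set_option autoImplicit false
universe w v u
open CategoryTheory CategoryTheory.Abelian
open CohDer

namespace Groth.Agent.S1033

/-- Let A be an abelian category (with Ext groups in some universe) and p ≥ 0. If Extᵖ(B, C) = 0 for all
objects B, C, then Extⁱ(B, C) = 0 for all i ≥ p and all B, C. -/
theorem result {A : Type u} [Category.{v} A] [Abelian A] [HasExt.{w} A] (p : ℕ)
    (h : ∀ (B C : A) (x : Ext B C p), x = 0) (i : ℕ) (hi : p ≤ i) (B C : A) (x : Ext B C i) : x = 0 := by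
  obtain ⟨k, rfl⟩ := Nat.exists_eq_add_of_le hi
  clear hi
  induction k generalizing B C with
  | zero => exact h B C x
  | succ k ih =>
    obtain ⟨P, π, hπ, hx⟩ := Groth.Agent.H2.H2_ext_efface (n := p + k) x
    let S : ShortComplex A := ShortComplex.mk (Limits.kernel.ι π) π (Limits.kernel.condition π)
    have hS : S.ShortExact :=
      { exact := ShortComplex.exact_of_f_is_kernel _ (Limits.kernelIsKernel π)
        mono_f := inferInstanceAs (Mono (Limits.kernel.ι π))
        epi_g := hπ }
    obtain ⟨x₁, hx₁⟩ := Abelian.Ext.contravariant_sequence_exact₃ hS C x hx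
      (n₀ := p + k) (by omega)
    rw [← hx₁, ih (Limits.kernel π) C x₁, Abelian.Ext.comp_zero]

end Groth.Agent.S1033
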