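import Groth.Statements.S10465
import Mathlib
import Groth.Agent.Lib.helper5.AlgSpPoints
import Groth.Agent.Lib.helper5.RelRep

set_option autoImplicit false
universe u
open CategoryTheory CategoryTheory.Limits AlgebraicGeometry Topology TopologicalSpace
open AlgSp

namespace Groth.Agent.S10465

/-- For a field extension k'/k and an algebraic space X over k, geometric connectedness of X over k is
equivalent to geometric connectedness of its base change X_{k'} over k' (the base changes of X_{k'}
to extensions K of k' being the base changes X_K of X, geometric connectedness of X_{k'} over k'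
reads: |X_K| is connected for every field K over k'). -/
theorem result (k : Type u) [Field k] (X : AlgSp.Space (Spec (CommRingCat.of k))) (k' : Type u) [Field k'] [Algebra k k'] :
    (∀ (K : Type u) [Field K] [Algebra k K], ConnectedSpace (AlgSp.Points (X.obj ⨯ (AlgSp.yon (Spec (CommRingCat.of k))).obj (Over.mk (Spec.map (CommRingCat.ofHom (algebraMap k K))))))) ↔
      ∀ (K : Type u) [Field K] [Algebra k K] [Algebra k' K] [IsScalarTower k k' K],
        ConnectedSpace (AlgSp.Points (X.obj ⨯ (AlgSp.yon (Spec (CommRingCat.of k))).obj (Over.mk (Spec.map (CommRingCat.ofHom (algebraMap k K)))))) := by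
  constructor
  · intro h K _ _ _ _
    exact h K
  · intro h K _ _
    have key : ∀ (L : Type u) [Field L] (a : K →+* L) (b : k' →+* L),
        a.comp (algebraMap k K) = b.comp (algebraMap k k') →
        ConnectedSpace (AlgSp.Points (X.obj ⨯ (AlgSp.yon (Spec (CommRingCat.of k))).obj
          (Over.mk (Spec.map (CommRingCat.ofHom (algebraMap k K)))))) := by
      intro L _ a b hab
      letI : Algebra k L := (a.comp (algebraMap k K)).toAlgebra
      letI : Algebra k' L := b.toAlgebra
      haveI : IsScalarTower k k' L := IsScalarTower.of_algebraMap_eq (fun x => by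
        show (a.comp (algebraMap k K)) x = b (algebraMap k k' x)
        rw [hab]; rfl)
      haveI hc := h L
      let ψ : Over.mk (Spec.map (CommRingCat.ofHom (algebraMap k L))) ⟶
          Over.mk (Spec.map (CommRingCat.ofHom (algebraMap k K))) :=
        Over.homMk (Spec.map (CommRingCat.ofHom a)) (by
          show Spec.map _ ≫ Spec.map _ = Spec.map _
          rw [← Spec.map_comp]; rfl)
      have sq := H5_isPullback_prod_snd_with_id
        ((AlgSp.yon (Spec (CommRingCat.of k))).map ψ) X.obj
      have hsurj : Function.Surjective (AlgSp.Points.map
          (prod.map (𝟙 X.obj) ((AlgSp.yon (Spec (CommRingCat.of k))).map ψ))) := by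
        intro w
        have hψ : Surjective ψ.left := by
          refine ⟨fun y => ?_⟩
          obtain ⟨x⟩ : Nonempty (Spec (CommRingCat.of L)) := inferInstance
          haveI : Subsingleton (Spec (CommRingCat.of K)) := inferInstance
          exact ⟨x, Subsingleton.elim (α := Spec (CommRingCat.of K)) _ _⟩
        obtain ⟨x, hx⟩ := H5_surjective_of_repWith
          ((AlgSp.yon (Spec (CommRingCat.of k))).map ψ)
          ((AlgSp.repWith_yon_map_iff _ ψ).2 hψ) (AlgSp.Points.map prod.snd w)
        obtain ⟨w', -, hw'⟩ := H5_points_pullback_surj sq x w hx
        exact ⟨w', hw'⟩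
      exact hsurj.connectedSpace (AlgSp.Points.continuous_map _)
    haveI : Nontrivial (TensorProduct k K k') :=
      Algebra.TensorProduct.nontrivial_of_algebraMap_injective_of_isDomain k K k'
        (algebraMap k K).injective (algebraMap k k').injective
    obtain ⟨M, hM⟩ := Ideal.exists_maximal (TensorProduct k K k')
    letI : Field (TensorProduct k K k' ⧸ M) := Ideal.Quotient.field M
    refine key (TensorProduct k K k' ⧸ M)
      ((Ideal.Quotient.mk M).comp
        (Algebra.TensorProduct.includeLeft : K →ₐ[k] TensorProduct k K k').toRingHom)
      ((Ideal.Quotient.mk M).comp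
        (Algebra.TensorProduct.includeRight : k' →ₐ[k] TensorProduct k K k').toRingHom) ?_
    refine RingHom.ext fun x => ?_
    show Ideal.Quotient.mk M ((Algebra.TensorProduct.includeLeft : K →ₐ[k] TensorProduct k K k')
      (algebraMap k K x)) = Ideal.Quotient.mk M
      ((Algebra.TensorProduct.includeRight : k' →ₐ[k] TensorProduct k K k') (algebraMap k k' x))
    rw [AlgHom.commutes, AlgHom.commutes]

end Groth.Agent.S10465
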