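import Groth.Statements.S10491
import Mathlib
import Groth.Agent.S10202

set_option autoImplicit false
universe u
open CategoryTheory CategoryTheory.Limits AlgebraicGeometry Topology TopologicalSpace
open AlgSp

namespace Groth.Agent.S10491

/-- Let X be an algebraic space over a scheme S which is locally Noetherian, and T ⊂ |X| a closed
subset. Then every point of |X| has a neighbourhood meeting only finitely many irreducible
components of T. -/
theorem result {S : Scheme.{u}} (X : AlgSp.Space S)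
    (hX : AlgSp.IsLocNoethSp X.obj) (T : Set (AlgSp.Points X.obj)) (hT : IsClosed T) :
    LocallyFinite (fun Z : ↥(irreducibleComponents ↥T) => ((↑) : ↥T → AlgSp.Points X.obj) '' (Z : Set ↥T)) := by
  intro x
  obtain ⟨O, hO, hxO, hON⟩ := Groth.Agent.S10202.result X hX x
  refine ⟨O, hO.mem_nhds hxO, ?_⟩
  have hOTo : IsOpen ((Subtype.val : ↥T → AlgSp.Points X.obj) ⁻¹' O) :=
    hO.preimage continuous_subtype_val
  haveI : NoetherianSpace ↥((Subtype.val : ↥T → AlgSp.Points X.obj) ⁻¹' O) := by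
    have hi : Topology.IsInducing
        (fun y : ↥((Subtype.val : ↥T → AlgSp.Points X.obj) ⁻¹' O) => (⟨y.1.1, y.2⟩ : ↥O)) := by
      refine Topology.IsInducing.of_comp
        (Continuous.subtype_mk (continuous_subtype_val.comp continuous_subtype_val) _)
        continuous_subtype_val ?_
      have h0 : Topology.IsInducing ((Subtype.val : ↥T → AlgSp.Points X.obj) ∘
          (Subtype.val : ↥((Subtype.val : ↥T → AlgSp.Points X.obj) ⁻¹' O) → ↥T)) :=
        Topology.IsInducing.subtypeVal.comp Topology.IsInducing.subtypeVal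
      exact h0
    exact hi.noetherianSpace
  have hfin : (irreducibleComponents ↥((Subtype.val : ↥T → AlgSp.Points X.obj) ⁻¹' O)).Finite :=
    NoetherianSpace.finite_irreducibleComponents
  have hemb : Topology.IsOpenEmbedding
      (Subtype.val : ↥((Subtype.val : ↥T → AlgSp.Points X.obj) ⁻¹' O) → ↥T) :=
    hOTo.isOpenEmbedding_subtypeVal
  have hsub : ∀ Z : ↥(irreducibleComponents ↥T),
      (((↑) : ↥T → AlgSp.Points X.obj) '' (Z : Set ↥T) ∩ O).Nonempty →
      ((Z : Set ↥T) ∩ Set.range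
        (Subtype.val : ↥((Subtype.val : ↥T → AlgSp.Points X.obj) ⁻¹' O) → ↥T)).Nonempty := by
    rintro Z ⟨_, ⟨t, htZ, rfl⟩, htO⟩
    exact ⟨t, htZ, ⟨⟨t, htO⟩, rfl⟩⟩
  have key : ∀ Z : ↥(irreducibleComponents ↥T),
      ((Z : Set ↥T) ∩ Set.range
        (Subtype.val : ↥((Subtype.val : ↥T → AlgSp.Points X.obj) ⁻¹' O) → ↥T)).Nonempty →
      (Z : Set ↥T) = closure (Subtype.val ''
        ((Subtype.val : ↥((Subtype.val : ↥T → AlgSp.Points X.obj) ⁻¹' O) → ↥T) ⁻¹'
          (Z : Set ↥T))) := by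
    intro Z hZ
    have hZirr : IsIrreducible (Z : Set ↥T) := Z.2.1
    have hZcl : IsClosed (Z : Set ↥T) := isClosed_of_mem_irreducibleComponents _ Z.2
    rw [Set.image_preimage_eq_inter_range]
    apply subset_antisymm
    · exact subset_closure_inter_of_isPreirreducible_of_isOpen hZirr.2 hemb.isOpen_range hZ
    · exact closure_minimal Set.inter_subset_left hZcl
  refine Set.Finite.of_finite_image
    (f := fun Z : ↥(irreducibleComponents ↥T) =>
      (Subtype.val : ↥((Subtype.val : ↥T → AlgSp.Points X.obj) ⁻¹' O) → ↥T) ⁻¹' (Z : Set ↥T))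
    (hfin.subset ?_) ?_
  · rintro _ ⟨Z, hZ, rfl⟩
    exact preimage_mem_irreducibleComponents Z.2 hemb (hsub Z hZ)
  · intro Z₁ h₁ Z₂ h₂ h12
    apply Subtype.ext
    rw [key Z₁ (hsub Z₁ h₁), key Z₂ (hsub Z₂ h₂)]
    have h12' : (Subtype.val : ↥((Subtype.val : ↥T → AlgSp.Points X.obj) ⁻¹' O) → ↥T) ⁻¹'
        (Z₁ : Set ↥T) = (Subtype.val : ↥((Subtype.val : ↥T → AlgSp.Points X.obj) ⁻¹' O) → ↥T) ⁻¹'
        (Z₂ : Set ↥T) := h12
    rw [h12']

end Groth.Agent.S10491
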