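import Groth.Statements.S1053
import Mathlib

set_option autoImplicit false
universe w v u
open CategoryTheory CategoryTheory.Limits
open CohDer

namespace Groth.Agent.S1053

/-- Let P and K be cochain complexes in an abelian category with P bounded, consisting of projective
objects and zero in degrees below n, and with Hⁱ(K) = 0 for all i ≥ n. Then every morphism P ⟶ K in
the homotopy category and every morphism P ⟶ K in the derived category is zero. -/
theorem result {A : Type u} [Category.{v} A] [Abelian A] [HasDerivedCategory.{w} A]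
    (P K : CochainComplex A ℤ) (n b : ℤ) [P.IsStrictlyGE n] [P.IsStrictlyLE b] (hP : ∀ i : ℤ, Projective (P.X i))
    (hK : ∀ i : ℤ, n ≤ i → IsZero (K.homology i)) :
    (∀ φ : (HomotopyCategory.quotient A (ComplexShape.up ℤ)).obj P ⟶ (HomotopyCategory.quotient A (ComplexShape.up ℤ)).obj K, φ = 0) ∧
    (∀ φ : DerivedCategory.Q.obj P ⟶ DerivedCategory.Q.obj K, φ = 0) := by
  haveI : ∀ i, Projective (P.X i) := hP
  haveI : P.IsKProjective := CochainComplex.isKProjective_of_projective P b
  let e := DerivedCategory.quotientCompQhIso A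
  have hD : ∀ φ : DerivedCategory.Q.obj P ⟶ DerivedCategory.Q.obj K, φ = 0 := by
    intro φ
    have hLE : K.IsLE (n - 1) := by
      rw [CochainComplex.isLE_iff]
      intro i hi
      rw [HomologicalComplex.exactAt_iff_isZero_homology]
      exact hK i (by omega)
    have hq : QuasiIso (K.ιTruncLE (n - 1)) := (K.quasiIso_ιTruncLE_iff (n - 1)).2 hLE
    have hiso : IsIso (DerivedCategory.Q.map (K.ιTruncLE (n - 1))) := by
      rw [DerivedCategory.isIso_Q_map_iff_quasiIso]; exact hq
    obtain ⟨ψ', hψ'⟩ := (CochainComplex.IsKProjective.Qh_map_bijective P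
      ((HomotopyCategory.quotient _ _).obj (K.truncLE (n - 1)))).2
      (e.hom.app P ≫ (φ ≫ inv (DerivedCategory.Q.map (K.ιTruncLE (n - 1)))) ≫ e.inv.app _)
    obtain ⟨ψ, rfl⟩ := (HomotopyCategory.quotient _ _).map_surjective ψ'
    have hψ : ψ = 0 := by
      ext i
      by_cases hi : i < n
      · exact (P.isZero_of_isStrictlyGE n i hi).eq_of_src _ _
      · exact ((K.truncLE (n - 1)).isZero_of_isStrictlyLE (n - 1) i (by omega)).eq_of_tgt _ _
    rw [hψ, Functor.map_zero, Functor.map_zero] at hψ'
    have h1 : φ ≫ inv (DerivedCategory.Q.map (K.ιTruncLE (n - 1))) = 0 := by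
      have := congrArg (fun t => e.inv.app P ≫ t ≫ e.hom.app _) hψ'
      simpa using this.symm
    have h2 := congrArg (fun t => t ≫ DerivedCategory.Q.map (K.ιTruncLE (n - 1))) h1
    simpa using h2
  refine ⟨fun φ => ?_, hD⟩
  apply (CochainComplex.IsKProjective.Qh_map_bijective P
      ((HomotopyCategory.quotient _ _).obj K)).1
  rw [Functor.map_zero]
  have h3 := hD (e.inv.app P ≫ DerivedCategory.Qh.map φ ≫ e.hom.app K)
  have h4 := congrArg (fun t => e.hom.app P ≫ t ≫ e.inv.app K) h3
  simpa using h4

end Groth.Agent.S1053
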