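import Groth.Statements.S10573
import Mathlib
import Groth.Agent.Lib.helper5.AlgSpFpqcOpen

set_option autoImplicit false
universe u
open CategoryTheory CategoryTheory.Limits AlgebraicGeometry
open AlgSp

namespace Groth.Agent.S10573

/-- Let {g_i : T_i ⟶ T} be a family of algebraic spaces over S forming an fpqc covering, and let W_i ⊂
|T_i| be open subsets (open subspaces) such that for all i, j the two projections T_i ×_T T_j ⟶ T_i,
T_j pull W_i and W_j back to the same subset of |T_i ×_T T_j|. Then there is a unique open subset W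
⊂ |T| with g_i⁻¹(W) = W_i for every i. -/
theorem result {S : Scheme.{u}} {ι : Type u} {T : AlgSp.Space S}
    (Ti : ι → AlgSp.Space S) (g : ∀ i, Ti i ⟶ T)
    (hg : AlgSp.IsFpqcCover (fun i => (Ti i).obj) (fun i => (g i).hom))
    (Wi : ∀ i, Set (AlgSp.Points (Ti i).obj)) (hW : ∀ i, IsOpen (Wi i))
    (hc : ∀ i j, AlgSp.Points.map (pullback.fst (g i).hom (g j).hom) ⁻¹' Wi i =
      AlgSp.Points.map (pullback.snd (g i).hom (g j).hom) ⁻¹' Wi j) :
    ∃! W : TopologicalSpace.Opens (AlgSp.Points T.obj), ∀ i, AlgSp.Points.map (g i).hom ⁻¹' (W : Set (AlgSp.Points T.obj)) = Wi i := by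
  obtain ⟨h1, h2⟩ := AlgSp.H5_isOpen_iUnion_image_of_fpqcRefine (g := fun i => (g i).hom) hg.2 Wi hW hc
  refine ⟨⟨_, h2⟩, h1, ?_⟩
  intro W' hW'
  apply TopologicalSpace.Opens.ext
  change (W' : Set (AlgSp.Points T.obj)) = ⋃ j, AlgSp.Points.map (g j).hom '' Wi j
  ext t
  constructor
  · intro ht
    obtain ⟨i, x, rfl⟩ := AlgSp.H5_fpqcRefine_jointly_surjective (g := fun i => (g i).hom) hg.2 t
    refine Set.mem_iUnion.2 ⟨i, x, ?_, rfl⟩
    rw [← hW' i]
    exact ht
  · intro ht
    obtain ⟨i, x, hx, rfl⟩ := Set.mem_iUnion.1 ht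
    rw [← hW' i] at hx
    exact hx

end Groth.Agent.S10573
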