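import Groth.Statements.S10589
import Mathlib
import Groth.Agent.S10280
import Groth.Agent.Lib.helper5.AlgSpThick

set_option autoImplicit false
universe u
open CategoryTheory CategoryTheory.Limits AlgebraicGeometry
open AlgSp

namespace Groth.Agent.S10589

/-- Consider a morphism (f, f') from the thickening X ⊂ X' to the thickening Y ⊂ Y' of algebraic spaces
over S, meaning: i : X ⟶ X' and j : Y ⟶ Y' are thickenings (representable, every base change to a
scheme a surjective closed immersion) and i ≫ f' = f ≫ j. Then f is separated if and only if f' is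
separated, and f is quasi-separated if and only if f' is quasi-separated. -/
theorem result {S : Scheme.{u}} {X X' Y Y' : AlgSp.Space S} (i : X ⟶ X') (j : Y ⟶ Y')
    (f : X ⟶ Y) (f' : X' ⟶ Y')
    (hi : AlgSp.IsThickMor i.hom)
    (hj : AlgSp.IsThickMor j.hom) (w : i ≫ f' = f ≫ j) :
    (AlgSp.IsSeparatedMor f.hom ↔ AlgSp.IsSeparatedMor f'.hom) ∧
    (AlgSp.IsQuasiSeparatedMor f.hom ↔ AlgSp.IsQuasiSeparatedMor f'.hom) := by
  have w' : i.hom ≫ f'.hom = f.hom ≫ j.hom := congrArg (·.hom) w
  haveI : Mono j.hom := H5_mono_of_thick j.hom hj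
  have hP : IsAlgSpace (pullback f.hom f.hom) :=
    H5_isAlgSpace_of_isPullback Y.obj Y.property.diag X X f.hom f.hom _ _ _
      (IsPullback.of_hasPullback _ _)
  have hP' : IsAlgSpace (pullback f'.hom f'.hom) :=
    H5_isAlgSpace_of_isPullback Y'.obj Y'.property.diag X' X' f'.hom f'.hom _ _ _
      (IsPullback.of_hasPullback _ _)
  have hι : IsThickMor (pullback.map f.hom f.hom f'.hom f'.hom i.hom i.hom j.hom w'.symm w'.symm) :=
    H5_thick_of_map (IsPullback.of_hasPullback _ _) (IsPullback.of_hasPullback _ _) i.hom i.hom j.hom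
      hi hi w'.symm w'.symm _ (pullback.lift_fst _ _ _) (pullback.lift_snd _ _ _)
  have wΔ : i.hom ≫ pullback.diagonal f'.hom = pullback.diagonal f.hom ≫
      pullback.map f.hom f.hom f'.hom f'.hom i.hom i.hom j.hom w'.symm w'.symm := by
    apply pullback.hom_ext
    · rw [Category.assoc, pullback.diagonal_fst, Category.comp_id, Category.assoc,
        pullback.lift_fst, ← Category.assoc, pullback.diagonal_fst, Category.id_comp]
    · rw [Category.assoc, pullback.diagonal_snd, Category.comp_id, Category.assoc,
        pullback.lift_snd, ← Category.assoc, pullback.diagonal_snd, Category.id_comp]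
  have huc : IsUnivClosedMor (pullback.diagonal f.hom) ↔ IsUnivClosedMor (pullback.diagonal f'.hom) :=
    H5_univClosed_thick_iff hP hP' i.hom _ _ _ hi hι wΔ
  have hqc : IsQuasiCompactMor (pullback.diagonal f.hom) ↔
      IsQuasiCompactMor (pullback.diagonal f'.hom) :=
    H5_qcMor_thick_iff X.property X'.property hP hP' i.hom _ _ _ hi hι wΔ
  refine ⟨?_, ?_⟩
  · rw [(Groth.Agent.S10280.result f).1, (Groth.Agent.S10280.result f').1]
    exact huc
  · have r := (H5_diagonal_properties X.property f.hom).1
    have r' := (H5_diagonal_properties X'.property f'.hom).1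
    exact ⟨fun h => Groth.Agent.Lib.helper5.H5_repWith_of_isQuasiCompactMor _ r'
        (hqc.1 (Groth.Agent.Lib.helper5.H5_isQuasiCompactMor_of_repWith _ h)),
      fun h => Groth.Agent.Lib.helper5.H5_repWith_of_isQuasiCompactMor _ r
        (hqc.2 (Groth.Agent.Lib.helper5.H5_isQuasiCompactMor_of_repWith _ h))⟩

end Groth.Agent.S10589
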