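import Groth.Statements.S10622
import Mathlib
import Groth.Agent.Lib.helper5.AlgSpTI3

set_option autoImplicit false
universe u
open CategoryTheory CategoryTheory.Limits AlgebraicGeometry
open AlgSp

namespace Groth.Agent.S10622

/-- For a morphism f : X ⟶ Y of algebraic spaces over S, these conditions are equivalent: f is formally
etale (lifting along square-zero thickenings of affine schemes); for every scheme U with a
representable etale U ⟶ X, every scheme V with a representable etale V ⟶ Y and every compatible U ⟶
V, the morphism of schemes U ⟶ V is formally etale; and this holds as soon as it holds for one such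
diagram in which both charts are moreover surjective. -/
theorem result {S : Scheme.{u}} {X Y : AlgSp.Space S} (f : X ⟶ Y) :
    (AlgSp.IsFormallyEtaleMor f.hom ↔ AlgSp.LocP @MoreMor.IsFormallyEtaleHom f.hom) ∧
    (∀ (U V : Over S) (a : (AlgSp.yon S).obj U ⟶ X.obj) (b : (AlgSp.yon S).obj V ⟶ Y.obj) (h : U ⟶ V),
      AlgSp.RepWith @Etale a → AlgSp.RepWith @Surjective a → AlgSp.RepWith @Etale b → AlgSp.RepWith @Surjective b →
      a ≫ f.hom = (AlgSp.yon S).map h ≫ b → MoreMor.IsFormallyEtaleHom h.left → AlgSp.IsFormallyEtaleMor f.hom) := by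
  refine ⟨⟨AlgSp.H5_locP_formallyEtaleHom_of_formallyEtale f.hom, ?_⟩, ?_⟩
  · intro hloc
    obtain ⟨U, V, a, b, h, ha, has, hb, hbs, w⟩ := AlgSp.H5_exists_charts f
    exact AlgSp.H5_formallyEtale_of_one_chart f.hom a b h ha has hb w (hloc a b h ha hb w)
  · intro U V a b h ha has hb hbs w hh
    exact AlgSp.H5_formallyEtale_of_one_chart f.hom a b h ha has hb w hh

end Groth.Agent.S10622
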