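import Groth.Statements.S10627
import Mathlib
import Groth.Agent.Lib.helper5.AlgSpFEt3
import Groth.Agent.Lib.helper5.AlgSpLocP

set_option autoImplicit false
universe u
open CategoryTheory CategoryTheory.Limits AlgebraicGeometry
open AlgSp

namespace Groth.Agent.S10627

/-- A morphism f : X ⟶ Y of algebraic spaces over S is etale if and only if it is locally of finite
presentation and formally etale (lifting sense). -/
theorem result {S : Scheme.{u}} {X Y : AlgSp.Space S} (f : X ⟶ Y) :
    AlgSp.IsEtaleMor f.hom ↔ AlgSp.LocP @LocallyOfFinitePresentation f.hom ∧ AlgSp.IsFormallyEtaleMor f.hom := by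
  constructor
  · intro hf
    refine ⟨?_, AlgSp.H5_isFormallyEtaleMor_of_isEtaleMor X.property f.hom hf⟩
    intro U V a b h ha hb w
    have h1 : AlgSp.RepWith @Etale ((AlgSp.yon S).map h ≫ b) := w ▸ hf a ha
    have h2 : AlgSp.RepWith @Etale ((AlgSp.yon S).map h) :=
      AlgSp.H5_repWith_etale_of_postcomp _ b hb h1
    haveI : Etale h.left := (AlgSp.repWith_yon_map_iff @Etale h).1 h2
    show LocallyOfFinitePresentation h.left
    infer_instance
  · rintro ⟨hlfp, hfe⟩
    refine AlgSp.H5_isEtaleMor_of_locP Y.property f.hom ?_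
    intro U V a b h ha hb w
    have hfe' := (AlgSp.H5_isFormallyEtaleMor_iff _).1 hfe
    have hae := AlgSp.H5_isFormallyEtaleMor_of_repWith_etale a ha
    have hae' := (AlgSp.H5_isFormallyEtaleMor_iff _).1 hae
    have hbe' := (AlgSp.H5_isFormallyEtaleMor_iff _).1
      (AlgSp.H5_isFormallyEtaleMor_of_repWith_etale b hb)
    have hsm := AlgSp.H5_formallySmooth_of_charts a b _ f.hom w hae hbe'.2 hfe'.1
    have hun := AlgSp.H5_formallyUnramified_of_charts a b _ f.hom w hae'.2 hfe'.2
    have hh := AlgSp.H5_isFormallyEtaleHom_of_yon_map h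
      ((AlgSp.H5_isFormallyEtaleMor_iff _).2 ⟨hsm, hun⟩)
    exact (Groth.Agent.S1489.result h.left).2 ⟨hlfp a b h ha hb w, hh⟩

end Groth.Agent.S10627
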