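import Groth.Statements.S10630
import Mathlib
import Groth.Agent.Lib.helper5.AlgSpFEt7

set_option autoImplicit false
universe u
open CategoryTheory CategoryTheory.Limits AlgebraicGeometry
open AlgSp

namespace Groth.Agent.S10630

/-- (1) ⇔ (3): let h : Z ⟶ X be a morphism of algebraic spaces over S and let i : Z ⟶ Z', h' : Z' ⟶ X be
a first order thickening of Z over X (i ≫ h' = h). Then (i, h') is a universal first order
thickening of Z over X if and only if for every first order thickening j : T ⟶ T' of schemes over S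
with T' affine, every a : T ⟶ Z and b : T' ⟶ X with j ≫ b = a ≫ h, there is exactly one a' : T' ⟶ Z'
with j ≫ a' = a ≫ i and a' ≫ h' = b. -/
theorem result {S : Scheme.{u}} {Z Z' X : AlgSp.Space S} (h : Z ⟶ X) (i : Z ⟶ Z')
    (h' : Z' ⟶ X) (hi : AlgSp.IsFOThickMor i.hom) (w : i ≫ h' = h) :
    AlgSp.IsUnivFOThick h.hom i.hom h'.hom ↔
      ∀ (T T' : Over S) (j : T ⟶ T'), IsAffine T'.left → AlgSp.IsFOThickMor ((AlgSp.yon S).map j) →
        ∀ (a : (AlgSp.yon S).obj T ⟶ Z.obj) (b : (AlgSp.yon S).obj T' ⟶ X.obj),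
          (AlgSp.yon S).map j ≫ b = a ≫ h.hom →
          ∃! a' : (AlgSp.yon S).obj T' ⟶ Z'.obj, (AlgSp.yon S).map j ≫ a' = a ≫ i.hom ∧ a' ≫ h'.hom = b := by
  have w' : i.hom ≫ h'.hom = h.hom := congrArg (·.hom) w
  constructor
  · rintro ⟨-, -, huniv⟩ T T' j hT' hj a b hab
    exact huniv (AlgSp.IsAlgSpace.yon_obj T) (AlgSp.IsAlgSpace.yon_obj T') _ a b hj hab
  · intro H
    refine ⟨hi, w', ?_⟩
    let Adm : ∀ (T : AlgSp.Sp S), (T ⟶ Z'.obj) → Prop := fun T t => ∃ a : T ⟶ Z.obj, t = a ≫ i.hom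
    have hc : AlgSp.H5_AdmComp Adm := by
      rintro T T' m t ⟨a, rfl⟩
      exact ⟨m ≫ a, (Category.assoc _ _ _).symm⟩
    have hU : AlgSp.H5_AffUniq h'.hom Adm := by
      rintro Z₀ Z₁ i' hZ₁ hFO l₁ l₂ ⟨a, ha⟩ h1 h2
      have hab : (AlgSp.yon S).map i' ≫ (l₁ ≫ h'.hom) = a ≫ h.hom := by
        rw [← Category.assoc, ha, Category.assoc, w']
      obtain ⟨a', -, huq⟩ := H Z₀ Z₁ i' hZ₁ hFO a (l₁ ≫ h'.hom) hab
      rw [huq l₁ ⟨ha, rfl⟩, huq l₂ ⟨h1.symm.trans ha, h2.symm⟩]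
    have hE : AlgSp.H5_AffLift h'.hom Adm := by
      rintro Z₀ Z₁ i' hZ₁ hFO a₀ b₀ ⟨a, rfl⟩ hw
      have hab : (AlgSp.yon S).map i' ≫ b₀ = a ≫ h.hom := by
        rw [← hw, Category.assoc, w']
      obtain ⟨a', ⟨h1, h2⟩, -⟩ := H Z₀ Z₁ i' hZ₁ hFO a b₀ hab
      exact ⟨a', h1, h2⟩
    intro T T' hT hT' j a b hj hjb
    have hw : (a ≫ i.hom) ≫ h'.hom = j ≫ b := by
      rw [Category.assoc, w', hjb]
    obtain ⟨l, hl1, hl2⟩ := AlgSp.H5_rel_lift_of_space_thickening h'.hom Adm hc hU hE hT' j hj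
      (a ≫ i.hom) ⟨a, rfl⟩ b hw
    refine ⟨l, ⟨hl1, hl2⟩, ?_⟩
    rintro l' ⟨h1, h2⟩
    exact AlgSp.H5_rel_unique_of_space_thickening h'.hom Adm hc hU hT' j hj l' l ⟨a, h1⟩
      (h1.trans hl1.symm) (h2.trans hl2.symm)

end Groth.Agent.S10630
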