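import Groth.Statements.S10631
import Mathlib
import Groth.Agent.Lib.helper5.AlgSpFEt6

set_option autoImplicit false
universe u
open CategoryTheory CategoryTheory.Limits AlgebraicGeometry
open AlgSp

namespace Groth.Agent.S10631

/-- Consider morphisms Z ⟶ Y ⟶ X of algebraic spaces over S. If (i : Z ⟶ Z', h' : Z' ⟶ Y) is, over Y, a
universal first order thickening of Z and g : Y ⟶ X is formally etale, then (i, h' ≫ g) is, over X,
a universal first order thickening of Z. -/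
theorem result {S : Scheme.{u}} {Z Z' Y X : AlgSp.Space S} (hZ : Z ⟶ Y) (g : Y ⟶ X)
    (i : Z ⟶ Z') (h' : Z' ⟶ Y) (HU : AlgSp.IsUnivFOThick hZ.hom i.hom h'.hom) (hg : AlgSp.IsFormallyEtaleMor g.hom) :
    AlgSp.IsUnivFOThick (hZ ≫ g).hom i.hom (h' ≫ g).hom := by
  obtain ⟨hFO, hcomp, huniv⟩ := HU
  have hgu := ((AlgSp.H5_isFormallyEtaleMor_iff g.hom).1 hg).2
  refine ⟨hFO, ?_, ?_⟩
  · show i.hom ≫ h'.hom ≫ g.hom = hZ.hom ≫ g.hom
    rw [← Category.assoc, hcomp]
  · intro T T' hT hT' j a b hj hw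
    have hw' : (a ≫ hZ.hom) ≫ g.hom = j ≫ b := by
      rw [Category.assoc]
      exact hw.symm
    obtain ⟨b', hb'1, hb'2⟩ := AlgSp.H5_etale_lift_of_space_thickening g.hom hg hT' j hj
      (a ≫ hZ.hom) b hw'
    obtain ⟨a', ⟨ha'1, ha'2⟩, ha'u⟩ := huniv hT hT' j a b' hj hb'1
    refine ⟨a', ⟨ha'1, ?_⟩, ?_⟩
    · show a' ≫ h'.hom ≫ g.hom = b
      rw [← Category.assoc, ha'2, hb'2]
    · rintro a'' ⟨h1, h2⟩
      have h2' : (a'' ≫ h'.hom) ≫ g.hom = b := by
        rw [Category.assoc]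
        exact h2
      have e : a'' ≫ h'.hom = b' := by
        refine AlgSp.H5_unram_unique_of_space_thickening g.hom hgu hT' j hj _ _ ?_ ?_
        · rw [← Category.assoc, h1, Category.assoc, hcomp, hb'1]
        · rw [h2', hb'2]
      exact ha'u a'' ⟨h1, e⟩

end Groth.Agent.S10631
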