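import Groth.Statements.S10632
import Mathlib
import Groth.Agent.Lib.helper5.AlgSpFEt6

set_option autoImplicit false
universe u
open CategoryTheory CategoryTheory.Limits AlgebraicGeometry
open AlgSp

namespace Groth.Agent.S10632

/-- Let e : Z ⟶ Y be an etale morphism of algebraic spaces over S, hY : Y ⟶ X, and let (iY : Y ⟶ Y', hY'
: Y' ⟶ X) be a universal first order thickening of Y over X. Let e' : Z' ⟶ Y' be etale with iZ : Z ⟶
Z' making Z = Y ×_{Y'} Z' a pullback square. Then (iZ, e' ≫ hY') is a universal first order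
thickening of Z over X. -/
theorem result {S : Scheme.{u}} {Z Y Y' Z' X : AlgSp.Space S} (e : Z ⟶ Y)
    (he : AlgSp.IsEtaleMor e.hom) (hY : Y ⟶ X) (iY : Y ⟶ Y') (hY' : Y' ⟶ X)
    (HU : AlgSp.IsUnivFOThick hY.hom iY.hom hY'.hom) (iZ : Z ⟶ Z') (e' : Z' ⟶ Y') (he' : AlgSp.IsEtaleMor e'.hom)
    (sq : IsPullback e.hom iZ.hom iY.hom e'.hom) :
    AlgSp.IsUnivFOThick (e ≫ hY).hom iZ.hom (e' ≫ hY').hom := by
  obtain ⟨hFO, hcomp, huniv⟩ := HU
  have hfe : AlgSp.IsFormallyEtaleMor e'.hom :=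
    AlgSp.H5_isFormallyEtaleMor_of_isEtaleMor Z'.property e'.hom he'
  have hfu := ((AlgSp.H5_isFormallyEtaleMor_iff e'.hom).1 hfe).2
  refine ⟨⟨?_, ?_⟩, ?_, ?_⟩
  · exact MorphismProperty.of_isPullback (P := AlgSp.RepWith AlgSp.thick) sq hFO.1
  · intro V W b fst snd hV hb pb
    exact hFO.2 (b ≫ e'.hom) (fst ≫ e.hom) snd hV (he' b hb) (pb.paste_horiz sq)
  · show iZ.hom ≫ e'.hom ≫ hY'.hom = e.hom ≫ hY.hom
    rw [← Category.assoc, ← sq.w, Category.assoc, hcomp]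
  · intro T T' hT hT' j a b hj hw
    have hw1 : j ≫ b = (a ≫ e.hom) ≫ hY.hom := by
      rw [Category.assoc]
      exact hw
    obtain ⟨aY, ⟨haY1, haY2⟩, haYu⟩ := huniv hT hT' j (a ≫ e.hom) b hj hw1
    have hw2 : (a ≫ iZ.hom) ≫ e'.hom = j ≫ aY := by
      rw [haY1, Category.assoc, Category.assoc, sq.w]
    obtain ⟨a', ha'1, ha'2⟩ := AlgSp.H5_etale_lift_of_space_thickening e'.hom hfe hT' j hj
      (a ≫ iZ.hom) aY hw2
    refine ⟨a', ⟨ha'1, ?_⟩, ?_⟩
    · show a' ≫ e'.hom ≫ hY'.hom = b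
      rw [← Category.assoc, ha'2, haY2]
    · rintro a'' ⟨h1, h2⟩
      have h2' : (a'' ≫ e'.hom) ≫ hY'.hom = b := by
        rw [Category.assoc]
        exact h2
      have e1 : a'' ≫ e'.hom = aY := by
        refine haYu _ ⟨?_, h2'⟩
        rw [← Category.assoc, h1, Category.assoc, Category.assoc, sq.w]
      exact AlgSp.H5_unram_unique_of_space_thickening e'.hom hfu hT' j hj a'' a'
        (h1.trans ha'1.symm) (e1.trans ha'2.symm)

end Groth.Agent.S10632
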