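import Groth.Statements.S10633
import Mathlib
import Groth.Agent.Lib.helper5.AlgSpTI5

set_option autoImplicit false
universe u
open CategoryTheory CategoryTheory.Limits AlgebraicGeometry
open AlgSp

namespace Groth.Agent.S10633

/-- Let e : Z ⟶ Y be a surjective etale morphism of algebraic spaces over S, hY : Y ⟶ X, and let (Z ⊂
Z') ⟶ (Y ⊂ Y') be an etale morphism of first order thickenings over X: iZ : Z ⟶ Z' and iY : Y ⟶ Y'
first order thickenings, f' : Z' ⟶ Y' etale with iZ ≫ f' = e ≫ iY, hY' : Y' ⟶ X with iY ≫ hY' = hY.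
If (iZ, f' ≫ hY') is a universal first order thickening of Z over X, then (iY, hY') is a universal
first order thickening of Y over X. -/
theorem result {S : Scheme.{u}} {Z Y Z' Y' X : AlgSp.Space S} (e : Z ⟶ Y)
    (he : AlgSp.IsEtaleMor e.hom) (hes : AlgSp.IsSurjectiveMor e.hom) (hY : Y ⟶ X)
    (iZ : Z ⟶ Z') (iY : Y ⟶ Y') (hiZ : AlgSp.IsFOThickMor iZ.hom) (hiY : AlgSp.IsFOThickMor iY.hom)
    (f' : Z' ⟶ Y') (hf' : AlgSp.IsEtaleMor f'.hom) (w : iZ ≫ f' = e ≫ iY) (hY' : Y' ⟶ X) (w' : iY ≫ hY' = hY)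
    (HU : AlgSp.IsUnivFOThick (e ≫ hY).hom iZ.hom (f' ≫ hY').hom) :
    AlgSp.IsUnivFOThick hY.hom iY.hom hY'.hom := by
  obtain ⟨hFOZ, hcompZ, hunivZ⟩ := HU
  have hw1 : iZ.hom ≫ f'.hom = e.hom ≫ iY.hom := congrArg (·.hom) w
  have hw2 : iY.hom ≫ hY'.hom = hY.hom := congrArg (·.hom) w'
  have hunivZ' : ∀ ⦃T T' : AlgSp.Sp S⦄, AlgSp.IsAlgSpace T → AlgSp.IsAlgSpace T' →
      ∀ (j : T ⟶ T') (a : T ⟶ Z.obj) (b : T' ⟶ X.obj), AlgSp.IsFOThickMor j →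
        j ≫ b = a ≫ e.hom ≫ hY.hom →
        ∃! a' : T' ⟶ Z'.obj, j ≫ a' = a ≫ iZ.hom ∧ a' ≫ f'.hom ≫ hY'.hom = b := hunivZ
  obtain ⟨U, p, hpe, hps⟩ := Z.property.atlas
  have hψe : AlgSp.RepWith @Etale (p ≫ e.hom) := he p hpe
  have hψs : AlgSp.RepWith @Surjective (p ≫ e.hom) := by
    refine AlgSp.H5_repWith_surjective_of_surjective _ hψe.1 ?_
    intro y
    obtain ⟨x, hx⟩ := hes y
    obtain ⟨z, hz⟩ := AlgSp.H5_surjective_of_repWith p hps x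
    exact ⟨z, by rw [AlgSp.Points.map_comp, hz, hx]⟩
  have hfe : AlgSp.IsFormallyEtaleMor f'.hom :=
    AlgSp.H5_isFormallyEtaleMor_of_isEtaleMor Z'.property f'.hom hf'
  obtain ⟨Adm, hAdm⟩ : ∃ Adm : ∀ (T : AlgSp.Sp S), (T ⟶ Y'.obj) → Prop,
      ∀ (T : AlgSp.Sp S) (t : T ⟶ Y'.obj), Adm T t ↔ ∃ a : T ⟶ Y.obj, t = a ≫ iY.hom :=
    ⟨fun T t => ∃ a : T ⟶ Y.obj, t = a ≫ iY.hom, fun _ _ => Iff.rfl⟩
  have hc : AlgSp.H5_AdmComp Adm := by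
    intro T T' m t ht
    obtain ⟨a, rfl⟩ := (hAdm _ _).1 ht
    exact (hAdm _ _).2 ⟨m ≫ a, (Category.assoc _ _ _).symm⟩
  have key : ∀ {T₀ T₁ : Over S} (i : T₀ ⟶ T₁), IsAffine T₁.left →
      AlgSp.IsFOThickMor ((AlgSp.yon S).map i) →
      ∀ (a : (AlgSp.yon S).obj T₀ ⟶ Y.obj) (y : T₁.left),
      ∃ (W W₀ : Over S) (w : W ⟶ T₁) (iW : W₀ ⟶ W) (d₀ : W₀ ⟶ T₀)
        (aZ : (AlgSp.yon S).obj W₀ ⟶ Z.obj),
        Etale w.left ∧ y ∈ Set.range w.left ∧ IsPullback iW d₀ w i ∧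
        AlgSp.IsFOThickMor ((AlgSp.yon S).map iW) ∧
        aZ ≫ e.hom = (AlgSp.yon S).map d₀ ≫ a := by
    intro T₀ T₁ i hT hi a y
    obtain ⟨W, W₀, w, iW, d₀, aU, hw, hy, pb, haU⟩ :=
      AlgSp.H5_exists_local_chart_lift (p ≫ e.hom) hψe hψs i hT hi a y
    refine ⟨W, W₀, w, iW, d₀, aU ≫ p, hw, hy, pb, ?_, ?_⟩
    · exact AlgSp.H5_isFOThickMor_of_isPullback hi ((AlgSp.yon S).map w)
        ((AlgSp.repWith_yon_map_iff @Etale w).2 hw) ((AlgSp.yon S).map d₀) iW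
        (pb.flip.map (AlgSp.yon S))
    · rw [Category.assoc]
      exact haU
  have hU : AlgSp.H5_AffUniq hY'.hom Adm := by
    intro T₀ T₁ i hT hi l₁ l₂ hadm h1 h2
    obtain ⟨a, ha⟩ := (hAdm _ _).1 hadm
    let R : Sieve T₁ :=
      { arrows := fun W u => (AlgSp.yon S).map u ≫ l₁ = (AlgSp.yon S).map u ≫ l₂
        downward_closed := by
          intro W W' u hu g
          show (AlgSp.yon S).map (g ≫ u) ≫ l₁ = (AlgSp.yon S).map (g ≫ u) ≫ l₂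
          rw [CategoryTheory.Functor.map_comp, Category.assoc, Category.assoc, hu] }
    have hR : R ∈ AlgSp.J S T₁ := by
      refine AlgSp.H5_mem_J_of_etale_cover R ?_
      intro y
      obtain ⟨W, W₀, w, iW, d₀, aZ, hw, hy, pb, hFO, haZ⟩ := key i hT hi a y
      refine ⟨W, w, ?_, hw, hy⟩
      show (AlgSp.yon S).map w ≫ l₁ = (AlgSp.yon S).map w ≫ l₂
      have hres : ∀ l : (AlgSp.yon S).obj T₁ ⟶ Y'.obj, (AlgSp.yon S).map i ≫ l = a ≫ iY.hom →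
          (aZ ≫ iZ.hom) ≫ f'.hom = (AlgSp.yon S).map iW ≫ (AlgSp.yon S).map w ≫ l := by
        intro l hl
        calc (aZ ≫ iZ.hom) ≫ f'.hom = aZ ≫ e.hom ≫ iY.hom := by rw [Category.assoc, hw1]
          _ = (AlgSp.yon S).map d₀ ≫ a ≫ iY.hom := by
              rw [← Category.assoc, haZ, Category.assoc]
          _ = (AlgSp.yon S).map d₀ ≫ (AlgSp.yon S).map i ≫ l := by rw [hl]
          _ = (AlgSp.yon S).map (d₀ ≫ i) ≫ l := by
              rw [CategoryTheory.Functor.map_comp, Category.assoc]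
          _ = (AlgSp.yon S).map (iW ≫ w) ≫ l := by rw [pb.w]
          _ = (AlgSp.yon S).map iW ≫ (AlgSp.yon S).map w ≫ l := by
              rw [CategoryTheory.Functor.map_comp, Category.assoc]
      obtain ⟨c₁, hc₁a, hc₁b⟩ := AlgSp.H5_etale_lift_of_space_thickening f'.hom hfe
        (AlgSp.IsAlgSpace.yon_obj W) ((AlgSp.yon S).map iW) hFO (aZ ≫ iZ.hom)
        ((AlgSp.yon S).map w ≫ l₁) (hres l₁ ha)
      obtain ⟨c₂, hc₂a, hc₂b⟩ := AlgSp.H5_etale_lift_of_space_thickening f'.hom hfe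
        (AlgSp.IsAlgSpace.yon_obj W) ((AlgSp.yon S).map iW) hFO (aZ ≫ iZ.hom)
        ((AlgSp.yon S).map w ≫ l₂) (hres l₂ (h1 ▸ ha))
      have hb : (AlgSp.yon S).map iW ≫ ((AlgSp.yon S).map w ≫ l₁ ≫ hY'.hom) =
          aZ ≫ e.hom ≫ hY.hom := by
        calc (AlgSp.yon S).map iW ≫ ((AlgSp.yon S).map w ≫ l₁ ≫ hY'.hom)
            = ((AlgSp.yon S).map iW ≫ (AlgSp.yon S).map w ≫ l₁) ≫ hY'.hom := by
              simp only [Category.assoc]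
          _ = ((aZ ≫ iZ.hom) ≫ f'.hom) ≫ hY'.hom := by rw [hres l₁ ha]
          _ = aZ ≫ (iZ.hom ≫ f'.hom) ≫ hY'.hom := by simp only [Category.assoc]
          _ = aZ ≫ e.hom ≫ iY.hom ≫ hY'.hom := by rw [hw1, Category.assoc]
          _ = aZ ≫ e.hom ≫ hY.hom := by rw [hw2]
      obtain ⟨c, -, hcu⟩ := hunivZ' (AlgSp.IsAlgSpace.yon_obj W₀) (AlgSp.IsAlgSpace.yon_obj W)
        ((AlgSp.yon S).map iW) aZ ((AlgSp.yon S).map w ≫ l₁ ≫ hY'.hom) hFO hb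
      have e1 : c₁ = c := hcu c₁ ⟨hc₁a, by rw [← Category.assoc, hc₁b, Category.assoc]⟩
      have e2 : c₂ = c := hcu c₂ ⟨hc₂a, by rw [← Category.assoc, hc₂b, Category.assoc, h2]⟩
      rw [← hc₁b, ← hc₂b, e1, e2]
    exact AlgSp.H5_hom_ext_of_sieve hR l₁ l₂ (fun W u hu => hu)
  have hE : AlgSp.H5_AffLift hY'.hom Adm := by
    intro T₀ T₁ i hT hi a₀ b₀ hadm hw0
    obtain ⟨a, rfl⟩ := (hAdm _ _).1 hadm
    refine AlgSp.H5_rel_lift_of_local hY'.hom Adm hc hU i hi (a ≫ iY.hom) hadm b₀ ?_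
    intro y
    obtain ⟨W, W₀, w, iW, d₀, aZ, hw, hy, pb, hFO, haZ⟩ := key i hT hi a y
    have hb : (AlgSp.yon S).map iW ≫ ((AlgSp.yon S).map w ≫ b₀) = aZ ≫ e.hom ≫ hY.hom := by
      calc (AlgSp.yon S).map iW ≫ (AlgSp.yon S).map w ≫ b₀
          = (AlgSp.yon S).map (iW ≫ w) ≫ b₀ := by
            rw [CategoryTheory.Functor.map_comp, Category.assoc]
        _ = (AlgSp.yon S).map (d₀ ≫ i) ≫ b₀ := by rw [pb.w]
        _ = (AlgSp.yon S).map d₀ ≫ (AlgSp.yon S).map i ≫ b₀ := by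
            rw [CategoryTheory.Functor.map_comp, Category.assoc]
        _ = (AlgSp.yon S).map d₀ ≫ (a ≫ iY.hom) ≫ hY'.hom := by rw [hw0]
        _ = ((AlgSp.yon S).map d₀ ≫ a) ≫ iY.hom ≫ hY'.hom := by simp only [Category.assoc]
        _ = (aZ ≫ e.hom) ≫ hY.hom := by rw [hw2, haZ]
        _ = aZ ≫ e.hom ≫ hY.hom := Category.assoc _ _ _
    obtain ⟨c, ⟨hc1, hc2⟩, -⟩ := hunivZ' (AlgSp.IsAlgSpace.yon_obj W₀)
      (AlgSp.IsAlgSpace.yon_obj W) ((AlgSp.yon S).map iW) aZ ((AlgSp.yon S).map w ≫ b₀) hFO hb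
    refine ⟨W, w, c ≫ f'.hom, hw, hy, ?_, ?_⟩
    · rw [Category.assoc]
      exact hc2
    · intro Q₀ c₀ d hcd
      obtain ⟨m, hm1, hm2⟩ : ∃ m : Q₀ ⟶ W₀, m ≫ iW = c₀ ∧ m ≫ d₀ = d :=
        ⟨pb.lift c₀ d hcd, pb.lift_fst _ _ _, pb.lift_snd _ _ _⟩
      calc (AlgSp.yon S).map c₀ ≫ c ≫ f'.hom
          = (AlgSp.yon S).map m ≫ ((AlgSp.yon S).map iW ≫ c) ≫ f'.hom := by
            rw [← hm1, CategoryTheory.Functor.map_comp]
            simp only [Category.assoc]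
        _ = (AlgSp.yon S).map m ≫ (aZ ≫ iZ.hom) ≫ f'.hom := by rw [hc1]
        _ = (AlgSp.yon S).map m ≫ aZ ≫ e.hom ≫ iY.hom := by rw [Category.assoc, hw1]
        _ = (AlgSp.yon S).map m ≫ ((AlgSp.yon S).map d₀ ≫ a) ≫ iY.hom := by
            rw [← haZ]
            simp only [Category.assoc]
        _ = (AlgSp.yon S).map (m ≫ d₀) ≫ a ≫ iY.hom := by
            rw [CategoryTheory.Functor.map_comp]
            simp only [Category.assoc]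
        _ = (AlgSp.yon S).map d ≫ a ≫ iY.hom := by rw [hm2]
  refine ⟨hiY, hw2, ?_⟩
  intro T T' hT hT' j a b hj hjb
  have hjb' : (a ≫ iY.hom) ≫ hY'.hom = j ≫ b := by rw [Category.assoc, hw2, hjb]
  obtain ⟨l, hl1, hl2⟩ := AlgSp.H5_rel_lift_of_space_thickening hY'.hom Adm hc hU hE hT' j hj
    (a ≫ iY.hom) ((hAdm _ _).2 ⟨a, rfl⟩) b hjb'
  refine ⟨l, ⟨hl1, hl2⟩, ?_⟩
  rintro l' ⟨h1, h2⟩
  exact AlgSp.H5_rel_unique_of_space_thickening hY'.hom Adm hc hU hT' j hj l' l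
    ((hAdm _ _).2 ⟨a, h1⟩) (h1.trans hl1.symm) (h2.trans hl2.symm)

end Groth.Agent.S10633
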