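import Groth.Statements.S10659
import Mathlib

set_option autoImplicit false
universe u
open CategoryTheory CategoryTheory.Limits AlgebraicGeometry
open AlgSp

namespace Groth.Agent.S10659

/-- For a property P of morphisms of schemes that is etale local on the target (local for the etale
precoverage) and a representable morphism f : X ⟶ Y of algebraic spaces over S: if for one scheme V
with a representable etale surjective b : h_V ⟶ Y and one pullback square of f along b with corner
h_W the projection W ⟶ V has P, then f has P etale locally on the target in the representable sense,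
i.e. every such projection along every etale h_V ⟶ Y has P. (The published statement also asserts
the converse direction and that, for X and Y representable, the condition is equivalent to f having
P; this row states only that one surjective etale chart suffices.) -/
theorem result {S : Scheme.{u}} (P : MorphismProperty Scheme.{u}) [P.IsLocalAtTarget Scheme.etalePrecoverage]
    {X Y : AlgSp.Space S} (f : X ⟶ Y) (hf : AlgSp.Representable f.hom)
    {V W : Over S} (b : (AlgSp.yon S).obj V ⟶ Y.obj) (hb1 : AlgSp.RepWith @Etale b) (hb2 : AlgSp.RepWith @Surjective b)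
    (fst : (AlgSp.yon S).obj W ⟶ X.obj) (snd : W ⟶ V)
    (sq : IsPullback fst ((AlgSp.yon S).map snd) f.hom b) (hP : P snd.left) :
    AlgSp.RepLocT P f.hom := by
  classical
  refine ⟨hf, ?_⟩
  intro V' W' b' fst' snd' hb' sq'
  obtain ⟨V'', p1, q, pb⟩ := hb1.1 b'
  obtain ⟨p2, rfl⟩ := (AlgSp.yon S).map_surjective q
  have hp1e : Etale p1.left := hb1.2 b' _ p1 pb
  have hp1s : Surjective p1.left := hb2.2 b' _ p1 pb
  have hp2e : Etale p2.left := hb'.2 b _ p2 pb.flip
  obtain ⟨W'', s'', t'', pb''⟩ := hf ((AlgSp.yon S).map p1 ≫ b')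
  -- left square over V'
  obtain ⟨r1', hr1a, hr1b⟩ : ∃ l : (AlgSp.yon S).obj W'' ⟶ (AlgSp.yon S).obj W',
      l ≫ fst' = t'' ∧ l ≫ (AlgSp.yon S).map snd' = (AlgSp.yon S).map s'' ≫ (AlgSp.yon S).map p1 :=
    ⟨sq'.lift t'' ((AlgSp.yon S).map s'' ≫ (AlgSp.yon S).map p1) (by rw [pb''.w, Category.assoc]),
      sq'.lift_fst _ _ _, sq'.lift_snd _ _ _⟩
  obtain ⟨r1, rfl⟩ := (AlgSp.yon S).map_surjective r1'
  have sqL : IsPullback ((AlgSp.yon S).map r1) ((AlgSp.yon S).map s'') ((AlgSp.yon S).map snd')
      ((AlgSp.yon S).map p1) := by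
    refine IsPullback.of_right ?_ hr1b sq'
    rw [hr1a]
    exact pb''
  have sqL' : IsPullback r1.left s''.left snd'.left p1.left :=
    (IsPullback.of_map_of_faithful (AlgSp.yon S) sqL).map (Over.forget S)
  -- left square over V
  have pb2 : IsPullback t'' ((AlgSp.yon S).map s'') f.hom ((AlgSp.yon S).map p2 ≫ b) := by
    rw [pb.w]
    exact pb''
  obtain ⟨r2', hr2a, hr2b⟩ : ∃ l : (AlgSp.yon S).obj W'' ⟶ (AlgSp.yon S).obj W,
      l ≫ fst = t'' ∧ l ≫ (AlgSp.yon S).map snd = (AlgSp.yon S).map s'' ≫ (AlgSp.yon S).map p2 :=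
    ⟨sq.lift t'' ((AlgSp.yon S).map s'' ≫ (AlgSp.yon S).map p2) (by rw [pb2.w, Category.assoc]),
      sq.lift_fst _ _ _, sq.lift_snd _ _ _⟩
  obtain ⟨r2, rfl⟩ := (AlgSp.yon S).map_surjective r2'
  have sqR : IsPullback ((AlgSp.yon S).map r2) ((AlgSp.yon S).map s'') ((AlgSp.yon S).map snd)
      ((AlgSp.yon S).map p2) := by
    refine IsPullback.of_right ?_ hr2b sq
    rw [hr2a]
    exact pb2
  have sqR' : IsPullback r2.left s''.left snd.left p2.left :=
    (IsPullback.of_map_of_faithful (AlgSp.yon S) sqR).map (Over.forget S)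
  -- P for s''
  have hPs : P s''.left := by
    have hR : (fun (U : Scheme.{u}) (g : U ⟶ V.left) => Etale g) ∈ Scheme.etalePrecoverage V.left := by
      refine ⟨(Presieve.mem_comap_jointlySurjectivePrecoverage_iff _).2 ?_, fun {U} g hg => hg⟩
      intro x
      exact ⟨V.left, 𝟙 _, (inferInstance : Etale (𝟙 V.left)), x, rfl⟩
    have : HasPullback snd.left p2.left := sqR'.hasPullback
    rw [← P.cancel_left_of_respectsIso sqR'.isoPullback.inv, sqR'.isoPullback_inv_snd]
    exact MorphismProperty.IsLocalAtTarget.pullbackSnd (K := Scheme.etalePrecoverage) hR hp2e hP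
  have hR1 : Presieve.singleton p1.left ∈ Scheme.etalePrecoverage V'.left :=
    (Scheme.singleton_mem_precoverage_iff _ _).2 ⟨hp1s.surj, hp1e⟩
  refine MorphismProperty.IsLocalAtTarget.of_forall_pullbackSnd (K := Scheme.etalePrecoverage) hR1 ?_
  intro U g _ hg
  cases hg
  rw [← sqL'.isoPullback_inv_snd, P.cancel_left_of_respectsIso]
  exact hPs

end Groth.Agent.S10659
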