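import Groth.Statements.S1072
import Mathlib

set_option autoImplicit false
universe v v' u u'
open CategoryTheory CategoryTheory.Limits
open CohDer

namespace Groth.Agent.S1072


open CategoryTheory CategoryTheory.Limits Opposite

section

variable {C : Type u} [Category.{v} C] [Abelian C]
  {D : Type u'} [Category.{v'} D]
  (L : C ⥤ D) (W : MorphismProperty C) [W.HasLeftCalculusOfFractions]
  [W.HasRightCalculusOfFractions]
  [L.IsLocalization W] [Preadditive D] [L.Additive]

include L W

lemma map_eq_zero_pre {X Y : C} (f : X ⟶ Y) :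
    L.map f = 0 ↔ ∃ (Z : C) (s : Z ⟶ X) (_ : W s), s ≫ f = 0 := by
  rw [← L.map_zero, MorphismProperty.map_eq_iff_precomp L W]
  simp

lemma map_eq_zero_post {X Y : C} (f : X ⟶ Y) :
    L.map f = 0 ↔ ∃ (Z : C) (s : Y ⟶ Z) (_ : W s), f ≫ s = 0 := by
  rw [← L.map_zero, MorphismProperty.map_eq_iff_postcomp L W]
  simp

lemma preservesMonomorphisms : L.PreservesMonomorphisms where
  preserves {X Y} f _ := by
    have := Localization.essSurj L W
    apply Preadditive.mono_of_cancel_zero
    intro P g hg
    let g' : L.obj (L.objPreimage P) ⟶ L.obj X := (L.objObjPreimageIso P).hom ≫ g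
    suffices g' = 0 by
      rw [← cancel_epi (L.objObjPreimageIso P).hom, comp_zero]
      exact this
    have hg' : g' ≫ L.map f = 0 := by simp [g', hg]
    obtain ⟨φ, hφ⟩ := Localization.exists_rightFraction L W g'
    have h1 : L.map φ.s ≫ g' = L.map φ.f := by
      rw [hφ, MorphismProperty.RightFraction.map_s_comp_map]
    have h2 : L.map (φ.f ≫ f) = 0 := by
      rw [L.map_comp, ← h1, Category.assoc, hg', comp_zero]
    obtain ⟨Z, t, ht, fac⟩ := (map_eq_zero_pre L W _).1 h2
    rw [← Category.assoc] at fac
    have h3 : t ≫ φ.f = 0 := by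
      rw [← cancel_mono f, zero_comp]; exact fac
    have := Localization.inverts L W t ht
    have h4 : L.map φ.f = 0 := by
      rw [← cancel_epi (L.map t), ← L.map_comp, h3, L.map_zero, comp_zero]
    have := Localization.inverts L W φ.s φ.hs
    rw [← cancel_epi (L.map φ.s), h1, h4, comp_zero]

lemma preservesEpimorphisms : L.PreservesEpimorphisms where
  preserves {X Y} f _ := by
    have := Localization.essSurj L W
    apply Preadditive.epi_of_cancel_zero
    intro P g hg
    let g' : L.obj Y ⟶ L.obj (L.objPreimage P) := g ≫ (L.objObjPreimageIso P).inv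
    suffices g' = 0 by
      rw [← cancel_mono (L.objObjPreimageIso P).inv, zero_comp]
      exact this
    have hg' : L.map f ≫ g' = 0 := by simp [g', reassoc_of% hg]
    obtain ⟨φ, hφ⟩ := Localization.exists_leftFraction L W g'
    have h1 : g' ≫ L.map φ.s = L.map φ.f := by
      rw [hφ, MorphismProperty.LeftFraction.map_comp_map_s]
    have h2 : L.map (f ≫ φ.f) = 0 := by
      rw [L.map_comp, ← h1, reassoc_of% hg', zero_comp]
    obtain ⟨Z, t, ht, fac⟩ := (map_eq_zero_post L W _).1 h2
    rw [Category.assoc] at fac
    have h3 : φ.f ≫ t = 0 := by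
      rw [← cancel_epi f, comp_zero]; exact fac
    have := Localization.inverts L W t ht
    have h4 : L.map φ.f = 0 := by
      rw [← cancel_mono (L.map t), ← L.map_comp, h3, L.map_zero, zero_comp]
    have := Localization.inverts L W φ.s φ.hs
    rw [← cancel_mono (L.map φ.s), h1, h4, zero_comp]

lemma preservesKernel {X Y : C} (f : X ⟶ Y) :
    PreservesLimit (parallelPair f 0) L := by
  have := preservesMonomorphisms L W
  have := Localization.essSurj L W
  suffices ∀ (W' : D) (z : W' ⟶ L.obj X) (hz : z ≫ L.map f = 0),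
      ∃ (l : W' ⟶ L.obj (kernel f)), l ≫ L.map (kernel.ι f) = z from
    preservesLimit_of_preserves_limit_cone (kernelIsKernel f)
      ((KernelFork.isLimitMapConeEquiv _ L).2
        (Fork.IsLimit.ofExistsUnique
          (fun s ↦ existsUnique_of_exists_of_unique
            (this _ _ (KernelFork.condition s))
            (fun _ _ h₁ h₂ ↦ by
              haveI : Mono (L.map (kernel.ι f)) := inferInstance
              exact (cancel_mono (L.map (kernel.ι f))).1 (h₁.trans h₂.symm)))))
  intro W' w hw
  wlog hw' : ∃ (Z : C) (hZ : W' = L.obj Z) (z : Z ⟶ X), w = eqToHom hZ ≫ L.map z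
      generalizing W'
  · obtain ⟨φ, hφ⟩ := Localization.exists_rightFraction L W
      ((L.objObjPreimageIso W').hom ≫ w)
    have hs := Localization.inverts L W φ.s φ.hs
    rw [← cancel_epi (L.map φ.s),
      MorphismProperty.RightFraction.map_s_comp_map] at hφ
    obtain ⟨l, hl⟩ := this _ (L.map φ.f) (by
      rw [← hφ, Category.assoc, Category.assoc, hw, comp_zero, comp_zero]) ⟨_, rfl, by simp⟩
    exact ⟨(L.objObjPreimageIso W').inv ≫ inv (L.map φ.s) ≫ l, by simp [hl, ← hφ]⟩
  obtain ⟨Z, rfl, z, rfl⟩ := hw'
  simp only [eqToHom_refl, Category.id_comp, ← L.map_comp, map_eq_zero_pre L W] at hw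
  obtain ⟨Z', t, ht, fac⟩ := hw
  have := Localization.inverts L W t ht
  rw [← Category.assoc] at fac
  exact ⟨inv (L.map t) ≫ L.map (kernel.lift _ _ fac), by simp [← Functor.map_comp]⟩

lemma preservesCokernel {X Y : C} (f : X ⟶ Y) :
    PreservesColimit (parallelPair f 0) L := by
  have := preservesEpimorphisms L W
  have := Localization.essSurj L W
  suffices ∀ (W' : D) (z : L.obj Y ⟶ W') (hz : L.map f ≫ z = 0),
      ∃ (l : L.obj (cokernel f) ⟶ W'), L.map (cokernel.π f) ≫ l = z from
    preservesColimit_of_preserves_colimit_cocone (cokernelIsCokernel f)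
      ((CokernelCofork.isColimitMapCoconeEquiv _ L).2
        (Cofork.IsColimit.ofExistsUnique
          (fun s ↦ existsUnique_of_exists_of_unique
            (this _ _ (CokernelCofork.condition s))
            (fun _ _ h₁ h₂ ↦ by
              haveI : Epi (L.map (cokernel.π f)) := inferInstance
              exact (cancel_epi (L.map (cokernel.π f))).1 (h₁.trans h₂.symm)))))
  intro W' w hw
  wlog hw' : ∃ (Z : C) (hZ : L.obj Z = W') (z : Y ⟶ Z), w = L.map z ≫ eqToHom hZ
      generalizing W'
  · obtain ⟨φ, hφ⟩ := Localization.exists_leftFraction L W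
      (w ≫ (L.objObjPreimageIso W').inv)
    have hs := Localization.inverts L W φ.s φ.hs
    rw [← cancel_mono (L.map φ.s), Category.assoc,
      MorphismProperty.LeftFraction.map_comp_map_s] at hφ
    obtain ⟨l, hl⟩ := this _ (L.map φ.f) (by rw [← hφ, reassoc_of% hw, zero_comp]) ⟨_, rfl, by simp⟩
    exact ⟨l ≫ inv (L.map φ.s) ≫ (L.objObjPreimageIso W').hom, by simp [reassoc_of% hl, ← hφ]⟩
  obtain ⟨Z, rfl, z, rfl⟩ := hw'
  simp only [eqToHom_refl, Category.comp_id, ← L.map_comp, map_eq_zero_post L W] at hw
  obtain ⟨Z', t, ht, fac⟩ := hw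
  rw [Category.assoc] at fac
  have := Localization.inverts L W t ht
  exact ⟨L.map (cokernel.desc _ _ fac) ≫ inv (L.map t), by simp [← L.map_comp_assoc]⟩

set_option backward.isDefEq.respectTransparency false in
lemma mono_iff {X Y : D} (f : X ⟶ Y) :
    Mono f ↔ ∃ (X' Y' : C) (f' : X' ⟶ Y') (_ : Mono f'),
      Nonempty (Arrow.mk (L.map f') ≅ Arrow.mk f) := by
  have := preservesMonomorphisms L W
  have := Localization.essSurj_mapArrow L W
  refine ⟨fun _ ↦ ?_, ?_⟩
  · suffices ∀ ⦃X Y : C⦄ (f : X ⟶ Y) (_ : Mono (L.map f)),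
      ∃ (X' Y' : C) (f' : X' ⟶ Y') (_ : Mono f'),
          Nonempty (Arrow.mk (L.map f') ≅ Arrow.mk (L.map f)) by
        let e := L.mapArrow.objObjPreimageIso (Arrow.mk f)
        obtain ⟨X', Y', f', _, ⟨e'⟩⟩ := this _
          (((MorphismProperty.monomorphisms D).arrow_iso_iff e).2 (.infer_property f))
        exact ⟨_, _, f', inferInstance, ⟨e' ≪≫ e⟩⟩
    intro X Y f hf
    refine ⟨_, _, Abelian.factorThruCoimage f, inferInstance, ⟨Iso.symm ?_⟩⟩
    have h0 : L.map (kernel.ι f) = 0 := by
      rw [← cancel_mono (L.map f), ← L.map_comp, kernel.condition, L.map_zero, zero_comp]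
    have := preservesCokernel L W (kernel.ι f)
    have hc := (CokernelCofork.isColimitMapCoconeEquiv _ L).1
      (isColimitOfPreserves L (cokernelIsCokernel (kernel.ι f)))
    have : IsIso (L.map (Abelian.coimage.π f)) :=
      CokernelCofork.IsColimit.isIso_π _ hc h0
    exact Arrow.isoMk (asIso (L.map (Abelian.coimage.π f))) (Iso.refl _)
      (by simp [← L.map_comp])
  · rintro ⟨X', Y', f', _, ⟨e⟩⟩
    exact ((MorphismProperty.monomorphisms D).arrow_mk_iso_iff e).1
      (by simpa using inferInstanceAs (Mono (L.map f')))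

set_option backward.isDefEq.respectTransparency false in
lemma epi_iff {X Y : D} (f : X ⟶ Y) :
    Epi f ↔ ∃ (X' Y' : C) (f' : X' ⟶ Y') (_ : Epi f'),
      Nonempty (Arrow.mk (L.map f') ≅ Arrow.mk f) := by
  have := preservesEpimorphisms L W
  have := Localization.essSurj_mapArrow L W
  refine ⟨fun _ ↦ ?_, ?_⟩
  · suffices ∀ ⦃X Y : C⦄ (f : X ⟶ Y) (_ : Epi (L.map f)),
      ∃ (X' Y' : C) (f' : X' ⟶ Y') (_ : Epi f'),
          Nonempty (Arrow.mk (L.map f') ≅ Arrow.mk (L.map f)) by
        let e := L.mapArrow.objObjPreimageIso (Arrow.mk f)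
        obtain ⟨X', Y', f', _, ⟨e'⟩⟩ := this _
          (((MorphismProperty.epimorphisms D).arrow_iso_iff e).2 (.infer_property f))
        exact ⟨_, _, f', inferInstance, ⟨e' ≪≫ e⟩⟩
    intro X Y f hf
    refine ⟨_, _, Abelian.factorThruImage f, inferInstance, ⟨?_⟩⟩
    have h0 : L.map (cokernel.π f) = 0 := by
      rw [← cancel_epi (L.map f), ← L.map_comp, cokernel.condition, L.map_zero, comp_zero]
    have := preservesKernel L W (cokernel.π f)
    have hc := (KernelFork.isLimitMapConeEquiv _ L).1
      (isLimitOfPreserves L (kernelIsKernel (cokernel.π f)))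
    have : IsIso (L.map (Abelian.image.ι f)) :=
      KernelFork.IsLimit.isIso_ι _ hc h0
    refine Arrow.isoMk (Iso.refl _) (asIso (L.map (Abelian.image.ι f))) (by simp [← L.map_comp])
  · rintro ⟨X', Y', f', _, ⟨e⟩⟩
    exact ((MorphismProperty.epimorphisms D).arrow_mk_iso_iff e).1
      (by simpa using inferInstanceAs (Epi (L.map f')))

set_option backward.isDefEq.respectTransparency false in
lemma hasKernels : HasKernels D where
  has_limit f := by
    obtain ⟨g, ⟨e⟩⟩ :=
      (Localization.essSurj_mapArrow L W).mem_essImage (Arrow.mk f)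
    have := preservesKernel L W g.hom
    have : HasLimit (parallelPair (L.map g.hom) 0) :=
      ⟨_, (KernelFork.isLimitMapConeEquiv _ L).1
        (isLimitOfPreserves L (kernelIsKernel g.hom))⟩
    exact hasLimit_of_iso (show parallelPair (L.map g.hom) 0 ≅ _ from
      parallelPair.ext (Arrow.leftFunc.mapIso e) (Arrow.rightFunc.mapIso e))

set_option backward.isDefEq.respectTransparency false in
lemma hasCokernels : HasCokernels D where
  has_colimit f := by
    obtain ⟨g, ⟨e⟩⟩ :=
      (Localization.essSurj_mapArrow L W).mem_essImage (Arrow.mk f)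
    have := preservesCokernel L W g.hom
    have : HasColimit (parallelPair (L.map g.hom) 0) :=
      ⟨_, (CokernelCofork.isColimitMapCoconeEquiv _ L).1
        (isColimitOfPreserves L (cokernelIsCokernel g.hom))⟩
    exact hasColimit_of_iso (show _ ≅ parallelPair (L.map g.hom) 0 from
      parallelPair.ext (Arrow.leftFunc.mapIso e.symm) (Arrow.rightFunc.mapIso e.symm))

lemma hasFiniteProducts : HasFiniteProducts D :=
  have := Localization.essSurj L W
  L.hasFiniteProducts_of_additive_of_essSurj

lemma isNormalMonoCategory : IsNormalMonoCategory D where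
  normalMonoOfMono f hf := by
    rw [mono_iff L W] at hf
    obtain ⟨X', Y', f', _, ⟨e⟩⟩ := hf
    let hf' := normalMonoOfMono f'
    have := preservesKernel L W hf'.g
    refine ⟨NormalMono.ofArrowIso ?_ e⟩
    exact {
      Z := L.obj hf'.Z
      g := L.map hf'.g
      w := by rw [← L.map_comp]; simp [hf'.w]
      isLimit :=
        (KernelFork.isLimitMapConeEquiv _ L).1
          (isLimitOfPreserves L hf'.isLimit) }

lemma isNormalEpiCategory : IsNormalEpiCategory D where
  normalEpiOfEpi f hf := by
    rw [epi_iff L W] at hf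
    obtain ⟨X', Y', f', _, ⟨e⟩⟩ := hf
    let hf' := normalEpiOfEpi f'
    have := preservesCokernel L W hf'.g
    refine ⟨NormalEpi.ofArrowIso ?_ e⟩
    exact {
      W := L.obj hf'.W
      g := L.map hf'.g
      w := by rw [← L.map_comp]; simp [hf'.w]
      isColimit :=
        (CokernelCofork.isColimitMapCoconeEquiv _ L).1
          (isColimitOfPreserves L hf'.isColimit) }

@[instance_reducible]
def abelian : Abelian D := by
  have := hasFiniteProducts L W
  have := hasKernels L W
  have := hasCokernels L W
  have := isNormalMonoCategory L W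
  have := isNormalEpiCategory L W
  constructor

lemma preservesFiniteLimits : PreservesFiniteLimits L := by
  let := abelian L W
  rw [((Functor.preservesFiniteLimits_tfae L).out 3 2 :)]
  intro _ _ f
  exact preservesKernel L W f

lemma preservesFiniteColimits : PreservesFiniteColimits L := by
  let := abelian L W
  rw [((Functor.preservesFiniteColimits_tfae L).out 3 2 :)]
  intro _ _ f
  exact preservesCokernel L W f

omit [Preadditive D] [L.Additive] in
theorem main :
    Nonempty (Abelian D) ∧ PreservesFiniteLimits L ∧ PreservesFiniteColimits L := by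
  letI := Localization.preadditive L W
  haveI := Localization.functor_additive L W
  exact ⟨⟨abelian L W⟩, preservesFiniteLimits L W, preservesFiniteColimits L W⟩

end

/-- Let A be an abelian category, W a class of morphisms admitting both left and right calculus of
fractions, and L : A ⥤ D a localization functor for W. Then D admits the structure of an abelian
category and L is exact (preserves finite limits and finite colimits). -/
theorem result {A : Type u} [Category.{v} A] [Abelian A]
    (W : MorphismProperty A) [W.HasLeftCalculusOfFractions] [W.HasRightCalculusOfFractions]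
    {D : Type u'} [Category.{v'} D] (L : A ⥤ D) [L.IsLocalization W] :
    Nonempty (Abelian D) ∧ PreservesFiniteLimits L ∧ PreservesFiniteColimits L := by
  exact main L W

end Groth.Agent.S1072
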