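import Groth.Statements.S10721
import Mathlib
import Groth.Agent.Lib.helper9.H9_TorsionBC

set_option autoImplicit false
universe u
open TensorProduct
open EtAlg

namespace Groth.Agent.S10721

/-- Glueing along a glueing pair detects closed immersions of affine schemes, stated for coordinate
rings. Let `(R → R', f)` be a glueing pair and `φ : A → B` a homomorphism of `R`-algebras with `A`,
`B` glueable as `R`-modules (so `Spec A`, `Spec B` are affine and glueable over `Spec R`). Then `φ`
is surjective (a closed immersion on spectra) if and only if `A_f → B_f` and `R' ⊗_R A → R' ⊗_R B`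
are surjective. -/
theorem result (R : Type u) [CommRing R] (R' : Type u) [CommRing R'] [Algebra R R'] (f : R)
    (hRR' : EtGlue.IsGlueingPair R R' f) (A B : Type u) [CommRing A] [Algebra R A] [CommRing B] [Algebra R B]
    (hA : EtGlue.IsGlueable R R' f A) (hB : EtGlue.IsGlueable R R' f B) (φ : A →ₐ[R] B) :
    Function.Surjective φ ↔
      Function.Surjective (Localization.awayMap φ.toRingHom (algebraMap R A f)) ∧ Function.Surjective (Algebra.TensorProduct.map (AlgHom.id R R') φ).toRingHom := by
  obtain ⟨hQ, -, -, -⟩ := hRR'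
  constructor
  · intro hφ
    refine ⟨?_, ?_⟩
    · rw [Localization.awayMap_surjective_iff]
      intro b
      obtain ⟨a, ha⟩ := hφ b
      exact ⟨a, 0, by rw [pow_zero, one_mul]; exact ha⟩
    · intro t
      induction t using TensorProduct.induction_on with
      | zero => exact ⟨0, map_zero _⟩
      | tmul r' b =>
        obtain ⟨a, rfl⟩ := hφ b
        exact ⟨r' ⊗ₜ[R] a, by simp⟩
      | add x y hx hy =>
        obtain ⟨x', rfl⟩ := hx
        obtain ⟨y', rfl⟩ := hy
        exact ⟨x' + y', map_add _ _ _⟩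
  · rintro ⟨h1, h2⟩
    rw [Localization.awayMap_surjective_iff] at h1
    have hM : ∀ y : B ⧸ LinearMap.range φ.toLinearMap, ∃ n : ℕ,
        ∀ a ∈ (Ideal.span {f}) ^ n, a • y = 0 := by
      intro y
      obtain ⟨b, rfl⟩ := Submodule.mkQ_surjective _ y
      obtain ⟨a, m, ham⟩ := h1 b
      refine ⟨m, fun c hc => ?_⟩
      rw [Ideal.span_singleton_pow, Ideal.mem_span_singleton'] at hc
      obtain ⟨r, rfl⟩ := hc
      rw [← map_smul, Submodule.mkQ_apply, Submodule.Quotient.mk_eq_zero]
      refine ⟨r • a, ?_⟩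
      have e1 : φ a = (algebraMap R B f) ^ m * b := by
        have := ham
        simp only [AlgHom.toRingHom_eq_coe, RingHom.coe_coe, AlgHom.commutes] at this
        exact this
      show φ (r • a) = (r * f ^ m) • b
      rw [map_smul, e1, mul_smul, Algebra.smul_def (f ^ m) b, map_pow]
    have hsurj : ∀ n : ℕ, 0 < n → ∀ x : R', ∃ r : R,
        x - algebraMap R R' r ∈ Ideal.map (algebraMap R R') ((Ideal.span {f}) ^ n) := by
      intro n hn x
      obtain ⟨q, hq⟩ := (hQ n hn).2 (Ideal.Quotient.mk _ x)
      obtain ⟨r, rfl⟩ := Ideal.Quotient.mk_surjective q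
      refine ⟨r, ?_⟩
      rw [Ideal.span_singleton_pow, ← Ideal.Quotient.eq]
      rw [Ideal.quotientMap_mk] at hq
      exact hq.symm
    have hinj : ∀ n : ℕ, 0 < n → ∀ r : R,
        algebraMap R R' r ∈ Ideal.map (algebraMap R R') ((Ideal.span {f}) ^ n) →
          r ∈ (Ideal.span {f}) ^ n := by
      intro n hn r hr
      rw [Ideal.span_singleton_pow] at hr ⊢
      rw [← Ideal.Quotient.eq_zero_iff_mem] at hr ⊢
      apply (hQ n hn).1
      rw [Ideal.quotientMap_mk, hr, map_zero]
    have hinj1 := Groth.Agent.H9.TorsionBC.mk_one_injective (R' := R')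
      (M := B ⧸ LinearMap.range φ.toLinearMap) (Ideal.span {f}) hsurj hinj hM
    intro b
    have hΨ : (TensorProduct.map (LinearMap.id : R' →ₗ[R] R')
        (LinearMap.range φ.toLinearMap).mkQ) ∘ₗ
        (Algebra.TensorProduct.map (AlgHom.id R R') φ).toLinearMap = 0 := by
      apply TensorProduct.ext'
      intro r' a
      show TensorProduct.map LinearMap.id (LinearMap.range φ.toLinearMap).mkQ
        ((Algebra.TensorProduct.map (AlgHom.id R R') φ) (r' ⊗ₜ[R] a)) = 0
      rw [Algebra.TensorProduct.map_tmul, TensorProduct.map_tmul]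
      have : (LinearMap.range φ.toLinearMap).mkQ (φ a) = 0 := by
        rw [Submodule.mkQ_apply, Submodule.Quotient.mk_eq_zero]
        exact ⟨a, rfl⟩
      rw [this, TensorProduct.tmul_zero]
    have hb : (1 : R') ⊗ₜ[R] ((LinearMap.range φ.toLinearMap).mkQ b) =
        (1 : R') ⊗ₜ[R] (0 : B ⧸ LinearMap.range φ.toLinearMap) := by
      obtain ⟨t, ht⟩ := h2 ((1 : R') ⊗ₜ[R] b)
      have e2 : (1 : R') ⊗ₜ[R] ((LinearMap.range φ.toLinearMap).mkQ b) =
          TensorProduct.map (LinearMap.id : R' →ₗ[R] R') (LinearMap.range φ.toLinearMap).mkQ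
            ((1 : R') ⊗ₜ[R] b) := rfl
      rw [e2, ← ht, TensorProduct.tmul_zero]
      exact LinearMap.congr_fun hΨ t
    have h0 := hinj1 hb
    rw [Submodule.mkQ_apply, Submodule.Quotient.mk_eq_zero] at h0
    obtain ⟨a, ha⟩ := h0
    exact ⟨a, ha⟩

end Groth.Agent.S10721
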