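import Groth.Statements.S10722
import Mathlib
import Mathlib
import Groth.Agent.Lib.helper9.H9_TorsionBC
import Groth.Agent.Lib.helper5.FTClosure

set_option autoImplicit false
universe u
open TensorProduct
open EtAlg

namespace Groth.Agent.S10722

/-- Glueing along a glueing pair detects finite type morphisms of affine schemes, stated for coordinate
rings. Let `(R → R', f)` be a glueing pair and `φ : A → B` a homomorphism of `R`-algebras with `A`,
`B` glueable as `R`-modules (so `Spec A`, `Spec B` are affine and glueable over `Spec R`). Then `φ`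
is of finite type if and only if `A_f → B_f` and `R' ⊗_R A → R' ⊗_R B` are. -/
theorem result (R : Type u) [CommRing R] (R' : Type u) [CommRing R'] [Algebra R R'] (f : R)
    (hRR' : EtGlue.IsGlueingPair R R' f) (A B : Type u) [CommRing A] [Algebra R A] [CommRing B] [Algebra R B]
    (hA : EtGlue.IsGlueable R R' f A) (hB : EtGlue.IsGlueable R R' f B) (φ : A →ₐ[R] B) :
    φ.toRingHom.FiniteType ↔ (Localization.awayMap φ.toRingHom (algebraMap R A f)).FiniteType ∧ (Algebra.TensorProduct.map (AlgHom.id R R') φ).toRingHom.FiniteType := by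
  classical
  obtain ⟨hQ, -, -, -⟩ := hRR'
  constructor
  · intro hφ
    refine ⟨RingHom.localization_away_map_finiteType A B
      (Localization.Away (algebraMap R A f)) (Localization.Away (φ.toRingHom (algebraMap R A f)))
      φ.toRingHom (algebraMap R A f) hφ, ?_⟩
    obtain ⟨S, hS⟩ := (H5FT.H5_finiteType_iff_closure _).1 hφ
    rw [H5FT.H5_finiteType_iff_closure]
    refine ⟨S.image (fun b => (1 : R') ⊗ₜ[R] b), ?_⟩
    rw [eq_top_iff]
    rintro t -
    set T := Subring.closure (Set.range (Algebra.TensorProduct.map (AlgHom.id R R') φ).toRingHom ∪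
      ((S.image (fun b => (1 : R') ⊗ₜ[R] b) : Finset (R' ⊗[R] B)) : Set (R' ⊗[R] B))) with hT
    have h1 : ∀ b : B, (1 : R') ⊗ₜ[R] b ∈ T := by
      intro b
      have hb : b ∈ Subring.closure (Set.range φ.toRingHom ∪ (S : Set B)) := by rw [hS]; trivial
      induction hb using Subring.closure_induction with
      | mem x hx =>
        rcases hx with ⟨a, rfl⟩ | hx
        · apply Subring.subset_closure
          left
          exact ⟨(1 : R') ⊗ₜ[R] a, by simp⟩
        · apply Subring.subset_closure
          right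
          rw [Finset.coe_image]
          exact ⟨x, hx, rfl⟩
      | zero => rw [TensorProduct.tmul_zero]; exact T.zero_mem
      | one => rw [← Algebra.TensorProduct.one_def]; exact T.one_mem
      | add x y _ _ hx hy => rw [TensorProduct.tmul_add]; exact T.add_mem hx hy
      | neg x _ hx => rw [TensorProduct.tmul_neg]; exact T.neg_mem hx
      | mul x y _ _ hx hy =>
        have e : (1 : R') ⊗ₜ[R] (x * y) = ((1 : R') ⊗ₜ[R] x) * ((1 : R') ⊗ₜ[R] y) := by
          rw [Algebra.TensorProduct.tmul_mul_tmul, one_mul]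
        rw [e]; exact T.mul_mem hx hy
    induction t using TensorProduct.induction_on with
    | zero => exact T.zero_mem
    | tmul r' b =>
      have e : r' ⊗ₜ[R] b = ((Algebra.TensorProduct.map (AlgHom.id R R') φ).toRingHom
          (r' ⊗ₜ[R] (1 : A))) * ((1 : R') ⊗ₜ[R] b) := by
        simp [Algebra.TensorProduct.tmul_mul_tmul]
      rw [e]
      exact T.mul_mem (Subring.subset_closure (Or.inl ⟨_, rfl⟩)) (h1 b)
    | add x y hx hy => exact T.add_mem hx hy
  · rintro ⟨h1, h2⟩
    set g : B := φ.toRingHom (algebraMap R A f) with hg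
    obtain ⟨S₁, hS₁⟩ := (H5FT.H5_finiteType_iff_closure _).1 h1
    obtain ⟨S₂, hS₂⟩ := (H5FT.H5_finiteType_iff_closure _).1 h2
    rw [H5FT.H5_finiteType_iff_closure]
    have hgf : g = algebraMap R B f := φ.commutes f
    have hnum : ∀ x : Localization.Away g, ∃ (b : B) (k : ℕ),
        x * algebraMap B (Localization.Away g) g ^ k = algebraMap B (Localization.Away g) b := by
      intro x
      obtain ⟨k, b, h⟩ := IsLocalization.Away.surj g x
      exact ⟨b, k, h⟩
    choose num1 k1 hnum1 using hnum
    have hten : ∀ t : R' ⊗[R] B, ∃ St : Finset B, ∀ B₀ : Subalgebra R B, (St : Set B) ⊆ B₀ →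
        t ∈ (Algebra.TensorProduct.map (AlgHom.id R R') B₀.val).range := by
      intro t
      induction t using TensorProduct.induction_on with
      | zero => exact ⟨∅, fun B₀ _ => Subalgebra.zero_mem _⟩
      | tmul r' b =>
        refine ⟨{b}, fun B₀ hB₀ => ⟨r' ⊗ₜ[R] (⟨b, hB₀ (by simp)⟩ : B₀), by simp⟩⟩
      | add x y hx hy =>
        obtain ⟨Sx, hSx⟩ := hx
        obtain ⟨Sy, hSy⟩ := hy
        refine ⟨Sx ∪ Sy, fun B₀ hB₀ => Subalgebra.add_mem _ (hSx B₀ ?_) (hSy B₀ ?_)⟩
        · exact fun z hz => hB₀ (by rw [Finset.coe_union]; exact Or.inl hz)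
        · exact fun z hz => hB₀ (by rw [Finset.coe_union]; exact Or.inr hz)
    choose St hSt using hten
    set S : Finset B := S₁.image num1 ∪ S₂.biUnion St with hS
    refine ⟨S, ?_⟩
    set B₀ : Subalgebra R B := Algebra.adjoin R (Set.range φ.toRingHom ∪ (S : Set B)) with hB₀
    have hφB₀ : ∀ a : A, φ.toRingHom a ∈ B₀ := fun a => Algebra.subset_adjoin (Or.inl ⟨a, rfl⟩)
    have hSB₀ : (S : Set B) ⊆ B₀ := fun z hz => Algebra.subset_adjoin (Or.inr hz)
    have hgB₀ : g ∈ B₀ := hφB₀ _
    have hmap : ∀ z : A, Localization.awayMap φ.toRingHom (algebraMap R A f)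
        (algebraMap A (Localization.Away (algebraMap R A f)) z) =
        algebraMap B (Localization.Away g) (φ.toRingHom z) := fun z => by
      simp [Localization.awayMap, IsLocalization.Away.map]
      rfl
    have hC1 : ∀ b : B, ∃ m : ℕ, g ^ m * b ∈ B₀ := by
      intro b
      have hp : ∀ x : Localization.Away g, ∃ (m : ℕ) (b₀ : B), b₀ ∈ B₀ ∧
          x * algebraMap B (Localization.Away g) g ^ m =
            algebraMap B (Localization.Away g) b₀ := by
        intro x
        have hx : x ∈ Subring.closure (Set.range (Localization.awayMap φ.toRingHom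
            (algebraMap R A f)) ∪ (S₁ : Set (Localization.Away g))) := by rw [hS₁]; trivial
        induction hx using Subring.closure_induction with
        | mem x hx =>
          rcases hx with ⟨y, rfl⟩ | hx
          · obtain ⟨n, a, hna⟩ := IsLocalization.Away.surj (algebraMap R A f) y
            refine ⟨n, φ.toRingHom a, hφB₀ a, ?_⟩
            have h3 := congrArg (Localization.awayMap φ.toRingHom (algebraMap R A f)) hna
            rw [map_mul, map_pow, hmap, hmap] at h3
            exact h3
          · refine ⟨k1 x, num1 x, hSB₀ ?_, hnum1 x⟩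
            rw [hS, Finset.coe_union]
            left
            rw [Finset.coe_image]
            exact ⟨x, hx, rfl⟩
        | zero => exact ⟨0, 0, B₀.zero_mem, by simp⟩
        | one => exact ⟨0, 1, B₀.one_mem, by simp⟩
        | add x y _ _ hx hy =>
          obtain ⟨m, b₁, hb₁, e₁⟩ := hx
          obtain ⟨n, b₂, hb₂, e₂⟩ := hy
          refine ⟨m + n, b₁ * g ^ n + b₂ * g ^ m,
            B₀.add_mem (B₀.mul_mem hb₁ (B₀.pow_mem hgB₀ n)) (B₀.mul_mem hb₂ (B₀.pow_mem hgB₀ m)), ?_⟩
          rw [map_add, map_mul, map_mul, map_pow, map_pow, ← e₁, ← e₂]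
          ring
        | neg x _ hx =>
          obtain ⟨m, b₁, hb₁, e₁⟩ := hx
          exact ⟨m, -b₁, B₀.neg_mem hb₁, by rw [map_neg, ← e₁, neg_mul]⟩
        | mul x y _ _ hx hy =>
          obtain ⟨m, b₁, hb₁, e₁⟩ := hx
          obtain ⟨n, b₂, hb₂, e₂⟩ := hy
          refine ⟨m + n, b₁ * b₂, B₀.mul_mem hb₁ hb₂, ?_⟩
          rw [map_mul, ← e₁, ← e₂]
          ring
      obtain ⟨m, b₀, hb₀, e⟩ := hp (algebraMap B _ b)
      rw [← map_pow, ← map_mul] at e
      obtain ⟨k, hk⟩ := IsLocalization.Away.exists_of_eq g e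
      refine ⟨k + m, ?_⟩
      have e3 : g ^ (k + m) * b = g ^ k * b₀ := by rw [← hk]; ring
      rw [e3]
      exact B₀.mul_mem (B₀.pow_mem hgB₀ k) hb₀
    have hC2 : ∀ t : R' ⊗[R] B,
        t ∈ (Algebra.TensorProduct.map (AlgHom.id R R') B₀.val).range := by
      intro t
      have ht : t ∈ Subring.closure (Set.range (Algebra.TensorProduct.map (AlgHom.id R R')
          φ).toRingHom ∪ (S₂ : Set (R' ⊗[R] B))) := by rw [hS₂]; trivial
      have hle : Subring.closure (Set.range (Algebra.TensorProduct.map (AlgHom.id R R')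
          φ).toRingHom ∪ (S₂ : Set (R' ⊗[R] B))) ≤
          (Algebra.TensorProduct.map (AlgHom.id R R') B₀.val).range.toSubring := by
        rw [Subring.closure_le]
        rintro z (⟨y, rfl⟩ | hz)
        · show (Algebra.TensorProduct.map (AlgHom.id R R') φ).toRingHom y ∈
            (Algebra.TensorProduct.map (AlgHom.id R R') B₀.val).range
          induction y using TensorProduct.induction_on with
          | zero => rw [map_zero]; exact Subalgebra.zero_mem _
          | tmul r' a => exact ⟨r' ⊗ₜ[R] (⟨φ.toRingHom a, hφB₀ a⟩ : B₀), by simp⟩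
          | add x y hx hy => rw [map_add]; exact Subalgebra.add_mem _ hx hy
        · apply hSt z B₀
          intro w hw
          apply hSB₀
          rw [hS, Finset.coe_union]
          right
          rw [Finset.coe_biUnion]
          exact Set.mem_biUnion hz hw
      exact hle ht
    have hM : ∀ y : B ⧸ Subalgebra.toSubmodule B₀, ∃ n : ℕ,
        ∀ a ∈ (Ideal.span {f}) ^ n, a • y = 0 := by
      intro y
      obtain ⟨b, rfl⟩ := Submodule.mkQ_surjective _ y
      obtain ⟨m, hm⟩ := hC1 b
      refine ⟨m, fun c hc => ?_⟩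
      rw [Ideal.span_singleton_pow, Ideal.mem_span_singleton'] at hc
      obtain ⟨r, rfl⟩ := hc
      rw [← map_smul, Submodule.mkQ_apply, Submodule.Quotient.mk_eq_zero]
      show (r * f ^ m) • b ∈ B₀
      rw [mul_smul, Algebra.smul_def (f ^ m) b, map_pow, ← hgf]
      exact B₀.smul_mem hm r
    have hsurj : ∀ n : ℕ, 0 < n → ∀ x : R', ∃ r : R,
        x - algebraMap R R' r ∈ Ideal.map (algebraMap R R') ((Ideal.span {f}) ^ n) := by
      intro n hn x
      obtain ⟨q, hq⟩ := (hQ n hn).2 (Ideal.Quotient.mk _ x)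
      obtain ⟨r, rfl⟩ := Ideal.Quotient.mk_surjective q
      refine ⟨r, ?_⟩
      rw [Ideal.span_singleton_pow, ← Ideal.Quotient.eq]
      rw [Ideal.quotientMap_mk] at hq
      exact hq.symm
    have hinj : ∀ n : ℕ, 0 < n → ∀ r : R,
        algebraMap R R' r ∈ Ideal.map (algebraMap R R') ((Ideal.span {f}) ^ n) →
          r ∈ (Ideal.span {f}) ^ n := by
      intro n hn r hr
      rw [Ideal.span_singleton_pow] at hr ⊢
      rw [← Ideal.Quotient.eq_zero_iff_mem] at hr ⊢
      apply (hQ n hn).1
      rw [Ideal.quotientMap_mk, hr, map_zero]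
    have hinj1 := Groth.Agent.H9.TorsionBC.mk_one_injective (R' := R')
      (M := B ⧸ Subalgebra.toSubmodule B₀) (Ideal.span {f}) hsurj hinj hM
    have hΨ : (TensorProduct.map (LinearMap.id : R' →ₗ[R] R')
        (Subalgebra.toSubmodule B₀).mkQ) ∘ₗ
        (Algebra.TensorProduct.map (AlgHom.id R R') B₀.val).toLinearMap = 0 := by
      apply TensorProduct.ext'
      intro r' a
      show TensorProduct.map LinearMap.id (Subalgebra.toSubmodule B₀).mkQ
        ((Algebra.TensorProduct.map (AlgHom.id R R') B₀.val) (r' ⊗ₜ[R] a)) = 0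
      rw [Algebra.TensorProduct.map_tmul, TensorProduct.map_tmul]
      have h0 : (Subalgebra.toSubmodule B₀).mkQ (B₀.val a) = 0 := by
        rw [Submodule.mkQ_apply, Submodule.Quotient.mk_eq_zero]
        exact a.2
      rw [h0, TensorProduct.tmul_zero]
    have hB₀top : ∀ b : B, b ∈ B₀ := by
      intro b
      have hb : (1 : R') ⊗ₜ[R] ((Subalgebra.toSubmodule B₀).mkQ b) =
          (1 : R') ⊗ₜ[R] (0 : B ⧸ Subalgebra.toSubmodule B₀) := by
        obtain ⟨t, ht⟩ := hC2 ((1 : R') ⊗ₜ[R] b)
        have e2 : (1 : R') ⊗ₜ[R] ((Subalgebra.toSubmodule B₀).mkQ b) =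
            TensorProduct.map (LinearMap.id : R' →ₗ[R] R') (Subalgebra.toSubmodule B₀).mkQ
              ((1 : R') ⊗ₜ[R] b) := rfl
        rw [e2, ← ht, TensorProduct.tmul_zero]
        exact LinearMap.congr_fun hΨ t
      have h0 := hinj1 hb
      rw [Submodule.mkQ_apply, Submodule.Quotient.mk_eq_zero] at h0
      exact h0
    rw [eq_top_iff]
    rintro b -
    have hb : b ∈ Algebra.adjoin R (Set.range φ.toRingHom ∪ (S : Set B)) := hB₀top b
    induction hb using Algebra.adjoin_induction with
    | mem x hx => exact Subring.subset_closure hx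
    | algebraMap r =>
      apply Subring.subset_closure
      left
      exact ⟨algebraMap R A r, φ.commutes r⟩
    | add x y _ _ hx hy => exact Subring.add_mem _ hx hy
    | mul x y _ _ hx hy => exact Subring.mul_mem _ hx hy

end Groth.Agent.S10722
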