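import Groth.Statements.S1076
import Mathlib
import Groth.Agent.Lib.helper2.CompactEnv

set_option autoImplicit false
universe v u
open CategoryTheory
open DerLim

namespace Groth.Agent.S1076

open CategoryTheory.Limits CategoryTheory.Pretriangulated in
/-- Let D be a triangulated category with all small direct sums and E a small nonempty family of compact
objects (nonempty so that the envelope of a finite subfamily can contain a zero object). Let X₀ → X₁
→ … be a sequential system in which X₀ is a direct sum of shifts of members of E and each Xₙ → Xₙ₊₁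
sits in a distinguished triangle Yₙ → Xₙ → Xₙ₊₁ → Yₙ[1] with Yₙ a direct sum of shifts of members of
E. Then every morphism from a compact object C to some Xₙ factors through an object of the
triangulated envelope (closure under shifts, finite sums, summands and extensions) of finitely many
members of E. -/
theorem result {D : Type u} [Category.{v} D] [Preadditive D] [Limits.HasZeroObject D] [HasShift D ℤ]
    [∀ n : ℤ, (shiftFunctor D n).Additive] [Pretriangulated D] [IsTriangulated D] [HasCoproducts.{v} D]
    {ι : Type v} [Nonempty ι] (E : ι → D) (hc : ∀ i, CohDer.IsCompactObject (E i))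
    (K : ℕ → D) (f : ∀ n, K n ⟶ K (n + 1))
    (h0 : ∃ (κ : Type v) (a : κ → ι) (m : κ → ℤ), Nonempty (K 0 ≅ ∐ (fun k => (shiftFunctor D (m k)).obj (E (a k)))))
    (hstep : ∀ n, ∃ (κ : Type v) (a : κ → ι) (m : κ → ℤ) (y : (∐ fun k => (shiftFunctor D (m k)).obj (E (a k))) ⟶ K n)
      (z : K (n + 1) ⟶ (shiftFunctor D (1 : ℤ)).obj (∐ fun k => (shiftFunctor D (m k)).obj (E (a k)))),
      Triangle.mk y (f n) z ∈ distinguishedTriangles)
    (C : D) (hC : CohDer.IsCompactObject C) (n : ℕ) (φ : C ⟶ K n) :
    ∃ (s : Finset ι) (E' : D) (g : C ⟶ E') (h : E' ⟶ K n),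
      ObjectProperty.triangEnvelope (fun Y : D => ∃ i ∈ s, Y = E i) E' ∧ g ≫ h = φ := by
  have key : ∀ n, Groth.Agent.H2.H2_PFact E (K n) := by
    intro n
    induction n with
    | zero =>
      obtain ⟨κ, a, m, ⟨e⟩⟩ := h0
      exact Groth.Agent.H2.H2_PFact_iso e.symm (Groth.Agent.H2.H2_PFact_coprod _
        (fun k => Groth.Agent.H2.H2_FinEnv_shift (Groth.Agent.H2.H2_FinEnv_of_mem (a k)) (m k)))
    | succ n ih =>
      obtain ⟨κ, a, m, y, z, hT⟩ := hstep n
      refine Groth.Agent.H2.H2_PFact_cone hc (Pretriangulated.Triangle.mk y (f n) z) hT ih ?_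
      let e : (∐ fun k => (shiftFunctor D (1 : ℤ)).obj ((shiftFunctor D (m k)).obj (E (a k)))) ≅
          (shiftFunctor D (1 : ℤ)).obj (∐ fun k => (shiftFunctor D (m k)).obj (E (a k))) :=
        asIso (Limits.sigmaComparison (shiftFunctor D (1 : ℤ))
          (fun k => (shiftFunctor D (m k)).obj (E (a k))))
      exact Groth.Agent.H2.H2_PFact_iso e
        (Groth.Agent.H2.H2_PFact_coprod _
          (fun k => Groth.Agent.H2.H2_FinEnv_shift
            (Groth.Agent.H2.H2_FinEnv_shift (Groth.Agent.H2.H2_FinEnv_of_mem (a k)) (m k)) 1))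
  obtain ⟨E', g, h, ⟨s, hs⟩, e⟩ := key n C hC φ
  exact ⟨s, E', g, h, hs, e⟩

end Groth.Agent.S1076
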