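import Groth.Statements.S7552
import Mathlib

set_option autoImplicit false
universe u
open PtTop

namespace Groth.Agent.S7552

/-- Let f : X → Y be a continuous surjective map of topological spaces with Y sober, and assume that
specializations lift along f or that generalizations lift along f. Then dim X ≥ dim Y (Krull
dimensions as suprema of lengths of chains of irreducible closed subsets). -/
theorem result {X Y : Type u}
    [TopologicalSpace X] [TopologicalSpace Y] [QuasiSober Y] [T0Space Y]
    (f : X → Y) (hf : Continuous f) (hsurj : Function.Surjective f)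
    (hlift : SpecializingMap f ∨ GeneralizingMap f) :
    topologicalKrullDim Y ≤ topologicalKrullDim X := by
  classical
  unfold topologicalKrullDim
  suffices h : ∀ p : LTSeries (TopologicalSpace.IrreducibleCloseds Y),
      ∃ q : LTSeries (TopologicalSpace.IrreducibleCloseds X), q.length = p.length by
    rw [Order.krullDim, iSup_le_iff]
    intro p
    obtain ⟨q, hq⟩ := h p
    rw [← hq]
    exact Order.LTSeries.length_le_krullDim q
  intro p
  have hgen : ∀ Z : TopologicalSpace.IrreducibleCloseds Y, ∃ η : Y, IsGenericPoint η (Z : Set Y) :=
    fun Z => QuasiSober.sober Z.isIrreducible' Z.isClosed'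
  choose η hη using hgen
  let n := p.length
  let g : Fin (n + 1) → Y := fun i => η (p i)
  have hgspec : ∀ i j : Fin (n + 1), i ≤ j → g j ⤳ g i := by
    intro i j hij
    have hle : p i ≤ p j := p.strictMono.monotone hij
    exact (hη (p j)).specializes (hle (hη (p i)).mem)
  have hginj : Function.Injective g := by
    intro i j hij
    apply p.strictMono.injective
    apply SetLike.coe_injective
    rw [← (hη (p i)).def, ← (hη (p j)).def]
    exact congrArg (fun y => closure {y}) hij
  -- sequence lifting
  have lift_seq : ∀ (R : X → X → Prop) (S : Y → Y → Prop)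
      (hfib : ∀ x y', S (f x) y' → ∃ x', R x x' ∧ f x' = y') (y : ℕ → Y)
      (hy : ∀ k, S (y k) (y (k + 1))),
      ∃ x : ℕ → X, (∀ k, f (x k) = y k) ∧ ∀ k, R (x k) (x (k + 1)) := by
    intro R S hfib y hy
    obtain ⟨x₀, hx₀⟩ := hsurj (y 0)
    have step : ∀ k (a : {x : X // f x = y k}), ∃ b : {x : X // f x = y (k + 1)}, R a.1 b.1 := by
      intro k a
      obtain ⟨x', hR, hx'⟩ := hfib a.1 (y (k + 1)) (by rw [a.2]; exact hy k)
      exact ⟨⟨x', hx'⟩, hR⟩
    choose nxt hnxt using step
    let x : (k : ℕ) → {x : X // f x = y k} := fun k => Nat.rec ⟨x₀, hx₀⟩ (fun k a => nxt k a) k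
    exact ⟨fun k => (x k).1, fun k => (x k).2, fun k => hnxt k (x k)⟩
  -- final construction from a compatible family of points
  have final : ∀ z : Fin (n + 1) → X, (∀ i j : Fin (n + 1), i ≤ j → z j ⤳ z i) →
      (∀ i, f (z i) = g i) →
      ∃ q : LTSeries (TopologicalSpace.IrreducibleCloseds X), q.length = p.length := by
    intro z hz hfz
    refine ⟨LTSeries.mk n (fun i => ⟨closure {z i}, isIrreducible_singleton.closure,
      isClosed_closure⟩) ?_, rfl⟩
    intro i j hij
    have hle : closure {z i} ⊆ closure {z j} := by
      rw [← specializes_iff_closure_subset]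
      exact hz i j hij.le
    refine lt_of_le_of_ne hle ?_
    intro heq
    have heq' : closure {z i} = closure {z j} := congrArg (fun Z : TopologicalSpace.IrreducibleCloseds X => (Z : Set X)) heq
    have h1 : z i ⤳ z j := by
      rw [specializes_iff_closure_subset, heq']
    have h2 : f (z i) ⤳ f (z j) := h1.map hf
    have h3 : f (z j) ⤳ f (z i) := (hz i j hij.le).map hf
    have := (h2.antisymm h3).eq
    rw [hfz, hfz] at this
    exact hij.ne (hginj this)
  rcases hlift with hsp | hgn
  · -- specializing
    let y : ℕ → Y := fun k => g ⟨n - k, by omega⟩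
    obtain ⟨x, hx, hxR⟩ := lift_seq (fun a b => a ⤳ b) (fun a b => a ⤳ b)
      (fun a b hab => hsp hab) y
      (fun k => hgspec _ _ (by simp only [Fin.mk_le_mk]; omega))
    have hmono : ∀ k l, k ≤ l → x k ⤳ x l := by
      intro k l hkl
      induction l, hkl using Nat.le_induction with
      | base => exact specializes_rfl
      | succ l _ ih => exact ih.trans (hxR l)
    refine final (fun i => x (n - i)) ?_ ?_
    · intro i j hij
      apply hmono
      have : (i : ℕ) ≤ j := hij
      omega
    · intro i
      rw [hx]
      simp only [y, g]
      congr 2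
      ext
      simp only
      have := i.2
      omega
  · -- generalizing
    let y : ℕ → Y := fun k => g ⟨min k n, by omega⟩
    obtain ⟨x, hx, hxR⟩ := lift_seq (fun a b => b ⤳ a) (fun a b => b ⤳ a)
      (fun a b hab => hgn hab) y
      (fun k => hgspec _ _ (by simp only [Fin.mk_le_mk]; omega))
    have hmono : ∀ k l, k ≤ l → x l ⤳ x k := by
      intro k l hkl
      induction l, hkl using Nat.le_induction with
      | base => exact specializes_rfl
      | succ l _ ih => exact (hxR l).trans ih
    refine final (fun i => x i) ?_ ?_
    · intro i j hij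
      exact hmono _ _ hij
    · intro i
      rw [hx]
      simp only [y, g]
      congr 2
      ext
      simp only
      have := i.2
      omega

end Groth.Agent.S7552
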