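import Groth.Statements.S10838
import Mathlib
import Groth.Agent.Lib.helper2.OpenGen
import Groth.Agent.S7552

set_option autoImplicit false
universe u
open CategoryTheory AlgebraicGeometry Topology
open Mor

namespace Groth.Agent.S10838

/-- For a morphism of schemes f : X → Y which is open as a map of topological spaces, the Krull
dimension of the image f(X) (with the subspace topology from Y) is at most the Krull dimension of X. -/
theorem result {X Y : Scheme.{u}} (f : X ⟶ Y) (hf : IsOpenMap f.base) :
    topologicalKrullDim ↥(Set.range f.base) ≤ topologicalKrullDim ↥X := by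
  have hgen := Groth.Agent.H2.H2_generalizingMap_of_isOpenMap f hf
  have hR : IsOpen (Set.range f.base) := hf.isOpen_range
  haveI : QuasiSober (Set.range f.base) := hR.isOpenEmbedding_subtypeVal.quasiSober
  refine Groth.Agent.S7552.result (Set.rangeFactorization f.base)
    (f.continuous.subtype_mk _) Set.rangeFactorization_surjective (Or.inr ?_)
  intro x y' hy'
  have h1 : y'.1 ⤳ f.base x := (subtype_specializes_iff _ _).mp hy'
  obtain ⟨x', hx', hfx'⟩ := hgen h1
  exact ⟨x', hx', Subtype.ext hfx'⟩

end Groth.Agent.S10838
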