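import Groth.Statements.S10839
import Mathlib

set_option autoImplicit false
universe u
open CategoryTheory AlgebraicGeometry Topology
open Variety

namespace Groth.Agent.S10839

/-- A closed immersion i : Y → X into an integral scheme X with dim X = dim Y < ∞ is an isomorphism. -/
theorem result {X Y : Scheme.{u}} (i : Y ⟶ X)
    [IsClosedImmersion i] [IsIntegral X] (hfin : topologicalKrullDim ↥X ≠ ⊤)
    (hdim : topologicalKrullDim ↥X = topologicalKrullDim ↥Y) : IsIso i := by
  classical
  suffices hs : Function.Surjective i by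
    haveI : Surjective i := ⟨hs⟩
    exact isIso_of_isClosedImmersion_of_surjective i
  by_contra hns
  have hemb : Topology.IsClosedEmbedding i := i.isClosedEmbedding
  let topX : TopologicalSpace.IrreducibleCloseds X := ⟨Set.univ, IrreducibleSpace.isIrreducible_univ X, isClosed_univ⟩
  haveI hXnn : Nonempty (TopologicalSpace.IrreducibleCloseds X) := ⟨topX⟩
  have h0 : (0 : WithBot ℕ∞) ≤ topologicalKrullDim X := Order.krullDim_nonneg
  have key : ∀ d : WithBot ℕ∞, d ≠ ⊤ → 0 ≤ d → ∃ n : ℕ, d = (n : WithBot ℕ∞) := by
    intro d hd h0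
    induction d using WithBot.recBotCoe with
    | bot => exact absurd h0 (by simp)
    | coe a =>
      have ha : a ≠ ⊤ := fun h => hd (by rw [h]; rfl)
      obtain ⟨m, rfl⟩ := ENat.ne_top_iff_exists.1 ha
      exact ⟨m, rfl⟩
  obtain ⟨n, hn⟩ := key _ hfin h0
  have hY : (n : WithBot ℕ∞) ≤ Order.krullDim (TopologicalSpace.IrreducibleCloseds Y) := by
    have : topologicalKrullDim Y = n := by rw [← hdim, hn]
    exact this.ge
  obtain ⟨l, hl⟩ := Order.le_krullDim_iff.1 hY
  let l' : LTSeries (TopologicalSpace.IrreducibleCloseds X) :=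
    l.map (TopologicalSpace.IrreducibleCloseds.map i hemb.continuous)
      (TopologicalSpace.IrreducibleCloseds.map_strictMono_of_isInducing hemb.isInducing)
  obtain ⟨x, hx⟩ : ∃ x : X, x ∉ Set.range i := by
    by_contra hcon
    push_neg at hcon
    exact hns hcon
  have hlast : l'.last < topX := by
    rw [SetLike.lt_iff_le_and_exists]
    refine ⟨fun y _ => Set.mem_univ y, x, Set.mem_univ x, ?_⟩
    intro hxm
    have h1 : l'.last = TopologicalSpace.IrreducibleCloseds.map i hemb.continuous l.last := LTSeries.last_map _ _ _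
    rw [h1] at hxm
    have h2 : closure (i '' (l.last : Set Y)) ⊆ Set.range i :=
      closure_minimal (Set.image_subset_range _ _) hemb.isClosed_range
    exact hx (h2 hxm)
  have hlen := Order.LTSeries.length_le_krullDim (l'.snoc topX hlast)
  have hlen' : ((n + 1 : ℕ) : WithBot ℕ∞) ≤ (n : WithBot ℕ∞) := by
    have e : (l'.snoc topX hlast).length = n + 1 := by
      simp [l', hl]
    rw [e] at hlen
    calc ((n + 1 : ℕ) : WithBot ℕ∞) ≤ Order.krullDim (TopologicalSpace.IrreducibleCloseds X) := hlen
      _ = n := hn
  have : n + 1 ≤ n := by exact_mod_cast hlen'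
  omega

end Groth.Agent.S10839
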