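import Groth.Statements.S10851
import Mathlib
import Groth.Agent.Lib.helper5.DivSuppDim

set_option autoImplicit false
universe u
open Mero

namespace Groth.Agent.S10851

open AlgebraicGeometry in
/-- Let X be a locally Noetherian scheme and D a divisor on X (a global section of K_X^×/O_X^×). Then
the support of D has codimension at least 1 in X: for every point z at which the germ of D is
non-trivial, the local ring O_{X,z} has Krull dimension at least 1. -/
theorem result {X : Scheme.{u}} [IsLocallyNoetherian X]
    (D : Mero.Divisor X) (z : X) (hz : z ∈ Mero.supp D) :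
    (1 : WithBot ℕ∞) ≤ ringKrullDim (X.presheaf.stalk z) := by
  have hz' : D.1 z ≠ 1 := hz
  obtain ⟨u, hu⟩ := QuotientGroup.mk_surjective (D.1 z)
  refine H5DV.one_le_dim (Mero.regStalk X z) (Mero.regStalk_le_nonZeroDivisors z) u ?_
  intro hmem
  apply hz'
  rw [← hu]
  exact (QuotientGroup.eq_one_iff u).mpr hmem

end Groth.Agent.S10851
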