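import Groth.Statements.S10868
import Mathlib
import Groth.Agent.Lib.helper1.QuasiAffineHom

set_option autoImplicit false
universe u
open Mor

namespace Groth.Agent.S10868

open CategoryTheory AlgebraicGeometry in
/-- f : X → Y is a finite morphism exactly when it is proper and quasi-affine (quasi-compact, with the
inverse image of every affine open subscheme of Y a quasi-affine scheme). -/
theorem result {X Y : Scheme.{u}} (f : X ⟶ Y) :
    IsFinite f ↔ IsProper f ∧ Mor2.IsQuasiAffine f := by
  constructor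
  · intro hf
    refine ⟨inferInstance, inferInstance, fun V hV => ?_⟩
    haveI : IsAffine ((f ⁻¹ᵁ V : X.Opens) : Scheme.{u}) := hV.preimage f
    infer_instance
  · rintro ⟨hp, hq1, hq2⟩
    rw [IsFinite.iff_isProper_and_isAffineHom]
    refine ⟨hp, ⟨fun V hV => ?_⟩⟩
    haveI hqa := hq2 V hV
    haveI : IsAffine (V : Scheme.{u}) := hV
    haveI : IsProper (f ∣_ V) := IsZariskiLocalAtTarget.restrict hp V
    have h1 : UniversallyClosed
        (((f ⁻¹ᵁ V : X.Opens) : Scheme.{u}).toSpecΓ ≫ Spec.map (f ∣_ V).appTop) := by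
      rw [← Scheme.toSpecΓ_naturality,
        MorphismProperty.cancel_right_of_respectsIso (P := @UniversallyClosed)]
      infer_instance
    haveI : UniversallyClosed ((f ⁻¹ᵁ V : X.Opens) : Scheme.{u}).toSpecΓ :=
      .of_comp_of_isSeparated _ (Spec.map (f ∣_ V).appTop)
    haveI : IsClosedImmersion ((f ⁻¹ᵁ V : X.Opens) : Scheme.{u}).toSpecΓ :=
      IsClosedImmersion.of_isPreimmersion _
        (((f ⁻¹ᵁ V : X.Opens) : Scheme.{u}).toSpecΓ.isClosedMap.isClosed_range)
    exact isAffine_of_isAffineHom ((f ⁻¹ᵁ V : X.Opens) : Scheme.{u}).toSpecΓ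

end Groth.Agent.S10868
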