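import Groth.Statements.S10891
import Mathlib

set_option autoImplicit false
universe u
open CAlg

namespace Groth.Agent.S10891

/-- Let k be a field containing a primitive r-th root of unity ζ and 0 < a < r. The cyclic group of r-th
roots of unity acts on k[X, Y] through the generator X ↦ ζ⁻¹ X, Y ↦ ζ^(−a) Y, and the ring of
invariants of this action is generated as a k-algebra by the monomials X^i Y^j with 0 ≤ i, j ≤ r,
(i, j) ≠ (r, r) and i + a·j ≡ 0 (mod r). (The printed statement writes n for the order of the group,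
which the surrounding section calls r.) -/
theorem result (k : Type u) [Field k] (r a : ℕ) (ha : 0 < a) (har : a < r)
    (ζ : k) (hζ : IsPrimitiveRoot ζ r) (p : MvPolynomial (Fin 2) k) :
    MvPolynomial.aeval (fun i : Fin 2 => if i = 0 then MvPolynomial.C ζ⁻¹ * MvPolynomial.X 0
        else MvPolynomial.C (ζ⁻¹ ^ a) * (MvPolynomial.X 1 : MvPolynomial (Fin 2) k)) p = p ↔
      p ∈ Algebra.adjoin k {q : MvPolynomial (Fin 2) k | ∃ i j : ℕ, i ≤ r ∧ j ≤ r ∧ ¬ (i = r ∧ j = r) ∧
        r ∣ i + a * j ∧ q = MvPolynomial.X 0 ^ i * MvPolynomial.X 1 ^ j} := by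
  classical
  set S : Set (MvPolynomial (Fin 2) k) := {q : MvPolynomial (Fin 2) k | ∃ i j : ℕ, i ≤ r ∧ j ≤ r ∧
    ¬ (i = r ∧ j = r) ∧ r ∣ i + a * j ∧ q = MvPolynomial.X 0 ^ i * MvPolynomial.X 1 ^ j} with hS
  set σ : MvPolynomial (Fin 2) k →ₐ[k] MvPolynomial (Fin 2) k := MvPolynomial.aeval (fun i : Fin 2 => if i = 0 then MvPolynomial.C ζ⁻¹ * MvPolynomial.X 0
        else MvPolynomial.C (ζ⁻¹ ^ a) * (MvPolynomial.X 1 : MvPolynomial (Fin 2) k)) with hσ
  have hσ0 : σ (MvPolynomial.X 0) = MvPolynomial.C ζ⁻¹ * MvPolynomial.X 0 := by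
    rw [hσ, MvPolynomial.aeval_X]
    exact if_pos rfl
  have hσ1 : σ (MvPolynomial.X 1) = MvPolynomial.C (ζ⁻¹ ^ a) * MvPolynomial.X 1 := by
    rw [hσ, MvPolynomial.aeval_X]
    exact if_neg (by decide)
  have hσC : ∀ c : k, σ (MvPolynomial.C c) = MvPolynomial.C c := by
    intro c
    rw [hσ, MvPolynomial.aeval_C, MvPolynomial.algebraMap_eq]
  have hr0 : r ≠ 0 := by omega
  have hζinv : IsPrimitiveRoot ζ⁻¹ r := hζ.inv
  have hσmon : ∀ i j : ℕ, σ (MvPolynomial.X 0 ^ i * MvPolynomial.X 1 ^ j) =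
      MvPolynomial.C (ζ⁻¹ ^ (i + a * j)) * (MvPolynomial.X 0 ^ i * MvPolynomial.X 1 ^ j) := by
    intro i j
    rw [map_mul, map_pow, map_pow, hσ0, hσ1, mul_pow, mul_pow, ← map_pow, ← map_pow, pow_add,
      pow_mul, map_mul]
    ring
  have hmono : ∀ (m : Fin 2 →₀ ℕ) (c : k), MvPolynomial.monomial m c =
      MvPolynomial.C c * (MvPolynomial.X 0 ^ m 0 * MvPolynomial.X 1 ^ m 1) := by
    intro m c
    rw [MvPolynomial.monomial_eq, Finsupp.prod_fintype _ _ (fun i => pow_zero _),
      Fin.prod_univ_two]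
  have hσm : ∀ (m : Fin 2 →₀ ℕ) (c : k), σ (MvPolynomial.monomial m c) =
      MvPolynomial.monomial m (c * ζ⁻¹ ^ (m 0 + a * m 1)) := by
    intro m c
    rw [hmono, map_mul, hσmon, hσC, hmono, map_mul]
    ring
  have hcoeff : ∀ (p : MvPolynomial (Fin 2) k) (m : Fin 2 →₀ ℕ),
      MvPolynomial.coeff m (σ p) = MvPolynomial.coeff m p * ζ⁻¹ ^ (m 0 + a * m 1) := by
    intro p m
    induction p using MvPolynomial.induction_on' with
    | monomial s c =>
      rw [hσm, MvPolynomial.coeff_monomial, MvPolynomial.coeff_monomial]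
      split_ifs with h
      · rw [h]
      · rw [zero_mul]
    | add p q hp hq =>
      rw [map_add, MvPolynomial.coeff_add, MvPolynomial.coeff_add, hp, hq, add_mul]
  have hC : ∀ c : k, MvPolynomial.C c ∈ Algebra.adjoin k S := by
    intro c
    rw [← MvPolynomial.algebraMap_eq]
    exact Subalgebra.algebraMap_mem _ c
  have hXr : (MvPolynomial.X 0 ^ r * MvPolynomial.X 1 ^ 0 : MvPolynomial (Fin 2) k) ∈
      Algebra.adjoin k S :=
    Algebra.subset_adjoin ⟨r, 0, le_refl r, Nat.zero_le r, fun h => hr0 h.2.symm, by simp, rfl⟩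
  have hYr : (MvPolynomial.X 0 ^ 0 * MvPolynomial.X 1 ^ r : MvPolynomial (Fin 2) k) ∈
      Algebra.adjoin k S :=
    Algebra.subset_adjoin ⟨0, r, Nat.zero_le r, le_refl r, fun h => hr0 h.1.symm, by simp, rfl⟩
  have hmon : ∀ n i j : ℕ, i + j = n → r ∣ i + a * j →
      (MvPolynomial.X 0 ^ i * MvPolynomial.X 1 ^ j : MvPolynomial (Fin 2) k) ∈
        Algebra.adjoin k S := by
    intro n
    induction n using Nat.strong_induction_on with
    | _ n ih =>
      intro i j hij hdiv
      by_cases hi : r < i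
      · obtain ⟨t, rfl⟩ : ∃ t, i = r + t := ⟨i - r, by omega⟩
        have h1 : (MvPolynomial.X 0 ^ (r + t) * MvPolynomial.X 1 ^ j : MvPolynomial (Fin 2) k) =
            (MvPolynomial.X 0 ^ r * MvPolynomial.X 1 ^ 0) *
              (MvPolynomial.X 0 ^ t * MvPolynomial.X 1 ^ j) := by
          rw [pow_zero, mul_one, ← mul_assoc, ← pow_add]
        rw [h1]
        refine Subalgebra.mul_mem _ hXr (ih (t + j) (by omega) t j rfl ?_)
        have h2 : r + t + a * j = r + (t + a * j) := by ring
        rw [h2] at hdiv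
        exact (Nat.dvd_add_right (dvd_refl r)).1 hdiv
      · by_cases hj : r < j
        · obtain ⟨t, rfl⟩ : ∃ t, j = r + t := ⟨j - r, by omega⟩
          have h1 : (MvPolynomial.X 0 ^ i * MvPolynomial.X 1 ^ (r + t) :
              MvPolynomial (Fin 2) k) =
              (MvPolynomial.X 0 ^ 0 * MvPolynomial.X 1 ^ r) *
                (MvPolynomial.X 0 ^ i * MvPolynomial.X 1 ^ t) := by
            rw [pow_zero, one_mul, pow_add]
            ring
          rw [h1]
          refine Subalgebra.mul_mem _ hYr (ih (i + t) (by omega) i t rfl ?_)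
          have h2 : i + a * (r + t) = r * a + (i + a * t) := by ring
          rw [h2] at hdiv
          exact (Nat.dvd_add_right (dvd_mul_right r a)).1 hdiv
        · by_cases hrr : i = r ∧ j = r
          · obtain ⟨hi', hj'⟩ := hrr
            rw [hi', hj']
            have h1 : (MvPolynomial.X 0 ^ r * MvPolynomial.X 1 ^ r : MvPolynomial (Fin 2) k) =
                (MvPolynomial.X 0 ^ r * MvPolynomial.X 1 ^ 0) *
                  (MvPolynomial.X 0 ^ 0 * MvPolynomial.X 1 ^ r) := by
              rw [pow_zero, pow_zero, mul_one, one_mul]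
            rw [h1]
            exact Subalgebra.mul_mem _ hXr hYr
          · exact Algebra.subset_adjoin ⟨i, j, by omega, by omega, hrr, hdiv, rfl⟩
  constructor
  · intro hp
    have hsupp : ∀ m ∈ p.support, r ∣ m 0 + a * m 1 := by
      intro m hm
      have hc : MvPolynomial.coeff m p ≠ 0 := MvPolynomial.mem_support_iff.1 hm
      have h1 := hcoeff p m
      rw [hp] at h1
      have h2 : ζ⁻¹ ^ (m 0 + a * m 1) = 1 := by
        have h3 : MvPolynomial.coeff m p * (ζ⁻¹ ^ (m 0 + a * m 1) - 1) = 0 := by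
          rw [mul_sub, mul_one, ← h1, sub_self]
        rcases mul_eq_zero.1 h3 with h | h
        · exact absurd h hc
        · exact sub_eq_zero.1 h
      exact (hζinv.pow_eq_one_iff_dvd _).1 h2
    rw [← MvPolynomial.support_sum_monomial_coeff p]
    refine Subalgebra.sum_mem _ (fun m hm => ?_)
    rw [hmono]
    exact Subalgebra.mul_mem _ (hC _) (hmon _ _ _ rfl (hsupp m hm))
  · intro hp
    induction hp using Algebra.adjoin_induction with
    | mem x hx =>
      obtain ⟨i, j, _, _, _, hdiv, rfl⟩ := hx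
      rw [hσmon, (hζinv.pow_eq_one_iff_dvd _).2 hdiv, MvPolynomial.C_1, one_mul]
    | algebraMap c => exact σ.commutes c
    | add x y _ _ hx hy => rw [map_add, hx, hy]
    | mul x y _ _ hx hy => rw [map_mul, hx, hy]

end Groth.Agent.S10891
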