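import Groth.Statements.S10897
import Mathlib

set_option autoImplicit false
universe u
open Cubic

namespace Groth.Agent.S10897

section aux
open MvPolynomial

variable {k : Type u} [Field k]

/-- directional derivative -/
noncomputable def dd (f : MvPolynomial (Fin 4) k) (x v : Fin 4 → k) : k :=
  ∑ i, v i * eval x (pderiv i f)

theorem dd_add' (g : MvPolynomial (Fin 4) k) (x v w : Fin 4 → k) :
    dd g x (v + w) = dd g x v + dd g x w := by
  unfold dd
  simp only [Pi.add_apply, add_mul, Finset.sum_add_distrib]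

theorem dd_smul' (g : MvPolynomial (Fin 4) k) (x : Fin 4 → k) (a : k) (v : Fin 4 → k) :
    dd g x (a • v) = a * dd g x v := by
  unfold dd
  simp only [Pi.smul_apply, smul_eq_mul, mul_assoc, Finset.mul_sum]

theorem dd_single' (g : MvPolynomial (Fin 4) k) (x : Fin 4 → k) (i : Fin 4) :
    dd g x (Pi.single i 1) = eval x (pderiv i g) := by
  unfold dd
  simp [Pi.single_apply]

theorem dd_zero' (g : MvPolynomial (Fin 4) k) (x : Fin 4 → k) : dd g x 0 = 0 := by
  unfold dd
  simp

theorem line_eval (f : MvPolynomial (Fin 4) k) (x v : Fin 4 → k) (s : k) :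
    Polynomial.eval s (aeval (fun i => Polynomial.C (x i) + Polynomial.C (v i) * Polynomial.X) f)
      = eval (x + s • v) f := by
  have h := MvPolynomial.comp_aeval_apply (R := k)
    (fun i => Polynomial.C (x i) + Polynomial.C (v i) * Polynomial.X)
    (Polynomial.aeval (R := k) s) f
  rw [Polynomial.coe_aeval_eq_eval] at h
  have hg : (fun i => Polynomial.eval s (Polynomial.C (x i) + Polynomial.C (v i) * Polynomial.X))
      = x + s • v := by
    funext i
    simp only [Polynomial.eval_add, Polynomial.eval_C, Polynomial.eval_mul, Polynomial.eval_X,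
      Pi.add_apply, Pi.smul_apply, smul_eq_mul]
    ring
  rw [h, hg, ← MvPolynomial.coe_aeval_eq_eval]
  rfl

theorem line_coeff_one (f : MvPolynomial (Fin 4) k) (x v : Fin 4 → k) :
    (aeval (fun i => Polynomial.C (x i) + Polynomial.C (v i) * Polynomial.X) f).coeff 1
      = dd f x v := by
  unfold dd
  induction f using MvPolynomial.induction_on with
  | C a => simp
  | add p q hp hq =>
    rw [map_add, Polynomial.coeff_add, hp, hq, ← Finset.sum_add_distrib]
    apply Finset.sum_congr rfl
    intro i _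
    rw [map_add, map_add, mul_add]
  | mul_X p j hp =>
    have h0 : (aeval (fun i => Polynomial.C (x i) + Polynomial.C (v i) * Polynomial.X) p).coeff 0
        = eval x p := by
      rw [Polynomial.coeff_zero_eq_eval_zero, line_eval]
      simp
    rw [map_mul, aeval_X]
    have h1 : ∀ Q : Polynomial k,
        (Q * (Polynomial.C (x j) + Polynomial.C (v j) * Polynomial.X)).coeff 1
        = x j * Q.coeff 1 + v j * Q.coeff 0 := by
      intro Q
      have : Q * (Polynomial.C (x j) + Polynomial.C (v j) * Polynomial.X)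
          = Polynomial.C (x j) * Q + Polynomial.C (v j) * (Q * Polynomial.X) := by ring
      have hX : (Q * Polynomial.X).coeff 1 = Q.coeff 0 := Polynomial.coeff_mul_X Q 0
      rw [this, Polynomial.coeff_add, Polynomial.coeff_C_mul, Polynomial.coeff_C_mul, hX]
    rw [h1, hp, h0]
    have h2 : ∀ i, v i * eval x (pderiv i (p * X j))
        = x j * (v i * eval x (pderiv i p)) + (if i = j then v i * eval x p else 0) := by
      intro i
      rw [pderiv_mul, pderiv_X, map_add, map_mul, map_mul, eval_X]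
      by_cases hij : i = j
      · subst hij
        rw [if_pos rfl, Pi.single_eq_same, map_one]; ring
      · rw [if_neg hij, Pi.single_eq_of_ne (Ne.symm hij), map_zero]; ring
    rw [Finset.sum_congr rfl (fun i _ => h2 i), Finset.sum_add_distrib, ← Finset.mul_sum,
      Finset.sum_ite_eq' Finset.univ j, if_pos (Finset.mem_univ j)]

theorem homN (g : MvPolynomial (Fin 4) k) (n : ℕ) (hg : g.IsHomogeneous n) (s : k)
    (v : Fin 4 → k) : eval (s • v) g = s ^ n * eval v g := by
  rw [MvPolynomial.eval_eq', MvPolynomial.eval_eq', Finset.mul_sum]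
  apply Finset.sum_congr rfl
  intro d hd
  have h1 := hg (MvPolynomial.mem_support_iff.mp hd)
  have h2 : Finsupp.degree d = n := by rw [Finsupp.degree_eq_weight_one]; exact h1
  have h3 : ∑ i, d i = n := by rw [← h2, Finsupp.degree_eq_sum]
  have h4 : ∏ i, (s • v) i ^ d i = s ^ n * ∏ i, v i ^ d i := by
    simp only [Pi.smul_apply, smul_eq_mul, mul_pow]
    rw [Finset.prod_mul_distrib, Finset.prod_pow_eq_pow_sum, h3]
  rw [h4]; ring

theorem taylor (f : MvPolynomial (Fin 4) k) (hf : f.IsHomogeneous 3) (x v : Fin 4 → k) :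
    ∃ a2 a3 : k, ∀ s : k,
      eval (x + s • v) f = eval x f + s * dd f x v + s ^ 2 * a2 + s ^ 3 * a3 := by
  obtain ⟨P, hP⟩ : ∃ P : Polynomial k,
    P = aeval (fun i => Polynomial.C (x i) + Polynomial.C (v i) * Polynomial.X) f := ⟨_, rfl⟩
  have hdeg : P.natDegree < 4 := by
    have := MvPolynomial.aeval_natDegree_le (m := 3) (n := 1) f hf.totalDegree_le
      (fun i => Polynomial.C (x i) + Polynomial.C (v i) * Polynomial.X)
      (fun i => by rw [add_comm]; exact Polynomial.natDegree_linear_le)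
    rw [← hP] at this
    omega
  refine ⟨P.coeff 2, P.coeff 3, fun s => ?_⟩
  have h1 : P.coeff 1 = dd f x v := by rw [hP]; exact line_coeff_one f x v
  have h0 : P.coeff 0 = eval x f := by
    rw [Polynomial.coeff_zero_eq_eval_zero, hP, line_eval]; simp
  rw [← line_eval, ← hP, Polynomial.eval_eq_sum_range' hdeg]
  rw [Finset.sum_range_succ, Finset.sum_range_succ, Finset.sum_range_succ, Finset.sum_range_one,
    h1, h0]
  ring

variable [CharZero k]

theorem cub4 (e0 e1 e2 e3 : k)
    (h : ∀ s : k, s ≠ 0 → e0 + e1 * s + e2 * s ^ 2 + e3 * s ^ 3 = 0) :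
    e0 = 0 ∧ e1 = 0 ∧ e2 = 0 ∧ e3 = 0 := by
  have h1 := h 1 one_ne_zero
  have h2 := h (-1) (by norm_num)
  have h3 := h 2 (by norm_num)
  have h4 := h (-2) (by norm_num)
  refine ⟨?_, ?_, ?_, ?_⟩
  · linear_combination (2/3) * h1 + (2/3) * h2 - (1/6) * h3 - (1/6) * h4
  · linear_combination (2/3) * h1 - (2/3) * h2 - (1/12) * h3 + (1/12) * h4
  · linear_combination (1/6) * h3 + (1/6) * h4 - (1/6) * h1 - (1/6) * h2
  · linear_combination (1/12) * h3 - (1/12) * h4 - (1/6) * h1 + (1/6) * h2

theorem taylor_full (f : MvPolynomial (Fin 4) k) (hf : f.IsHomogeneous 3) (x v : Fin 4 → k)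
    (s : k) :
    eval (x + s • v) f = eval x f + s * dd f x v + s ^ 2 * dd f v x + s ^ 3 * eval v f := by
  obtain ⟨a2, a3, ha⟩ := taylor f hf x v
  obtain ⟨b2, b3, hb⟩ := taylor f hf v x
  have e2 := cub4 (a3 - eval v f) (a2 - dd f v x) (dd f x v - b2) (eval x f - b3) (by
    intro s hs
    have h1 : v + s • x = s • (x + s⁻¹ • v) := by
      rw [smul_add, smul_smul, mul_inv_cancel₀ hs, one_smul, add_comm]
    have h2 := hb s
    rw [h1, homN f 3 hf, ha] at h2
    have h3 : s * s⁻¹ = 1 := mul_inv_cancel₀ hs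
    linear_combination h2 - (dd f x v * s ^ 2 + a2 * s * (s * s⁻¹ + 1) +
      a3 * (s ^ 2 * s⁻¹ ^ 2 + s * s⁻¹ + 1)) * h3)
  rw [ha s]
  have h3 : a3 = eval v f := by linear_combination e2.1
  have h2 : a2 = dd f v x := by linear_combination e2.2.1
  rw [h3, h2]

theorem taylor2 (g : MvPolynomial (Fin 4) k) (hg : g.IsHomogeneous 2) (x v : Fin 4 → k) :
    (∀ s : k, eval (x + s • v) g = eval x g + s * dd g x v + s ^ 2 * eval v g) ∧
      dd g x v = dd g v x := by
  have key : ∀ x v : Fin 4 → k, ∃ a2 : k, ∀ s : k,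
      eval (x + s • v) g = eval x g + s * dd g x v + s ^ 2 * a2 := by
    intro x v
    obtain ⟨P, hP⟩ : ∃ P : Polynomial k,
      P = aeval (fun i => Polynomial.C (x i) + Polynomial.C (v i) * Polynomial.X) g := ⟨_, rfl⟩
    have hdeg : P.natDegree < 3 := by
      have := MvPolynomial.aeval_natDegree_le (m := 2) (n := 1) g hg.totalDegree_le
        (fun i => Polynomial.C (x i) + Polynomial.C (v i) * Polynomial.X)
        (fun i => by rw [add_comm]; exact Polynomial.natDegree_linear_le)
      rw [← hP] at this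
      omega
    refine ⟨P.coeff 2, fun s => ?_⟩
    have h1 : P.coeff 1 = dd g x v := by rw [hP]; exact line_coeff_one g x v
    have h0 : P.coeff 0 = eval x g := by
      rw [Polynomial.coeff_zero_eq_eval_zero, hP, line_eval]; simp
    rw [← line_eval, ← hP, Polynomial.eval_eq_sum_range' hdeg]
    rw [Finset.sum_range_succ, Finset.sum_range_succ, Finset.sum_range_one, h1, h0]
    ring
  obtain ⟨a2, ha⟩ := key x v
  obtain ⟨b2, hb⟩ := key v x
  have e1 := cub4 (a2 - eval v g) (dd g x v - dd g v x) (eval x g - b2) 0 (by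
    intro s hs
    have h1 : v + s • x = s • (x + s⁻¹ • v) := by
      rw [smul_add, smul_smul, mul_inv_cancel₀ hs, one_smul, add_comm]
    have h2 := hb s
    rw [h1, homN g 2 hg, ha] at h2
    have h3 : s * s⁻¹ = 1 := mul_inv_cancel₀ hs
    linear_combination h2 - (dd g x v * s + a2 * (s * s⁻¹ + 1)) * h3)
  refine ⟨fun s => ?_, by linear_combination e1.2.1⟩
  rw [ha s]
  have h3 : a2 = eval v g := by linear_combination e1.1
  rw [h3]

/-- the quadratic function `x ↦ dd f x u` restricted to a plane -/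
theorem dd_quad (f : MvPolynomial (Fin 4) k) (hf : f.IsHomogeneous 3) (u k1 k2 : Fin 4 → k) :
    ∃ Bu : k, ∀ b c : k, dd f (b • k1 + c • k2) u
      = b ^ 2 * dd f k1 u + b * c * Bu + c ^ 2 * dd f k2 u := by
  obtain ⟨Q, hQdef⟩ : ∃ Q : MvPolynomial (Fin 4) k, Q = ∑ i, C (u i) * pderiv i f := ⟨_, rfl⟩
  have hQhom : Q.IsHomogeneous 2 := by
    rw [hQdef]
    apply MvPolynomial.IsHomogeneous.sum
    intro i _
    exact (hf.pderiv (i := i)).C_mul (u i)
  have hqQ : ∀ v : Fin 4 → k, eval v Q = dd f v u := by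
    intro v
    rw [hQdef, map_sum]
    unfold dd
    apply Finset.sum_congr rfl
    intro i _
    rw [map_mul, eval_C]
  refine ⟨dd Q k2 k1, fun b c => ?_⟩
  rw [← hqQ, (taylor2 Q hQhom (b • k1) k2).1 c, (taylor2 Q hQhom (b • k1) k2).2, dd_smul',
    homN Q 2 hQhom, hqQ k1, hqQ k2]
  ring

theorem F1 (f : MvPolynomial (Fin 4) k) (hf : f.IsHomogeneous 3) (e : Fin 4 → k)
    (hfe : eval e f = 0) (v : Fin 4 → k) (t : k) :
    eval (v + t • e) f = eval v f + t * dd f v e + t ^ 2 * dd f e v := by
  rw [taylor_full f hf v e t, hfe]; ring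

theorem hqe (f : MvPolynomial (Fin 4) k) (hf : f.IsHomogeneous 3) (e : Fin 4 → k)
    (hfe : eval e f = 0) : dd f e e = 0 := by
  have e1 := cub4 0 (dd f e e) (dd f e e) 0 (by
    intro s _
    have h1 := F1 f hf e hfe e s
    have h2 : e + s • e = (1 + s) • e := by rw [add_smul, one_smul]
    rw [h2, homN f 3 hf, hfe] at h1
    linear_combination -h1)
  exact e1.2.1

variable [IsAlgClosed k]

theorem quadK (A B C : k) (hA : A ≠ 0) :
    ∃ T2 T3 : k, A * (T2 + T3) = -B ∧ A * T2 * T3 = C := by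
  obtain ⟨s, hs⟩ := IsAlgClosed.exists_pow_nat_eq (B ^ 2 - 4 * A * C) (n := 2) (by norm_num)
  obtain ⟨T2, h2⟩ : ∃ T2, 2 * A * T2 = -B + s := ⟨(-B + s) / (2 * A), by field_simp⟩
  obtain ⟨T3, h3⟩ : ∃ T3, 2 * A * T3 = -B - s := ⟨(-B - s) / (2 * A), by field_simp⟩
  have h4A : (4 * A) ≠ 0 := mul_ne_zero (by norm_num) hA
  refine ⟨T2, T3, ?_, ?_⟩
  · linear_combination (1/2) * h2 + (1/2) * h3
  · have : (4 * A) * (A * T2 * T3 - C) = 0 := by
      linear_combination (2 * A * T3) * h2 + (-B + s) * h3 - hs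
    have h5 := (mul_eq_zero.mp this).resolve_left h4A
    linear_combination h5

/-- a nonzero binary cubic form has at most three roots up to proportionality -/
theorem cubic_roots_le (α β γ δ : k) (hne : ¬ (α = 0 ∧ β = 0 ∧ γ = 0 ∧ δ = 0)) :
    ∃ P1 P2 P3 : k × k, ∀ b c : k,
      α * b ^ 3 + β * b ^ 2 * c + γ * b * c ^ 2 + δ * c ^ 3 = 0 →
      (∃ z : k, b = z * P1.1 ∧ c = z * P1.2) ∨ (∃ z : k, b = z * P2.1 ∧ c = z * P2.2) ∨
        (∃ z : k, b = z * P3.1 ∧ c = z * P3.2) := by
  by_cases hα : α = 0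
  · by_cases hβ : β = 0
    · by_cases hγ : γ = 0
      · have hδ : δ ≠ 0 := fun h => hne ⟨hα, hβ, hγ, h⟩
        refine ⟨(1, 0), (1, 0), (1, 0), fun b c h => ?_⟩
        left
        rw [hα, hβ, hγ] at h
        have h1 : δ * c ^ 3 = 0 := by linear_combination h
        have h2 : c = 0 := by
          rcases mul_eq_zero.mp h1 with h3 | h3
          · exact absurd h3 hδ
          · exact pow_eq_zero_iff (by norm_num) |>.mp h3
        exact ⟨b, by simp, by simp [h2]⟩
      · refine ⟨(1, 0), (-δ, γ), (1, 0), fun b c h => ?_⟩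
        rw [hα, hβ] at h
        have h1 : c ^ 2 * (γ * b + δ * c) = 0 := by linear_combination h
        rcases mul_eq_zero.mp h1 with h3 | h3
        · left
          have h2 : c = 0 := pow_eq_zero_iff (by norm_num) |>.mp h3
          exact ⟨b, by simp, by simp [h2]⟩
        · right; left
          refine ⟨c / γ, ?_, ?_⟩
          · show b = c / γ * -δ
            field_simp
            linear_combination h3
          · show c = c / γ * γ
            field_simp
    · obtain ⟨T2, T3, v1, v2⟩ := quadK β γ δ hβ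
      refine ⟨(1, 0), (T2, 1), (T3, 1), fun b c h => ?_⟩
      rw [hα] at h
      have h1 : c * (β * (b - T2 * c) * (b - T3 * c)) = 0 := by
        linear_combination h - (b * c ^ 2) * v1 + (c ^ 3) * v2
      rcases mul_eq_zero.mp h1 with h3 | h3
      · left
        exact ⟨b, by simp, by simp [h3]⟩
      · rcases mul_eq_zero.mp h3 with h4 | h4
        · rcases mul_eq_zero.mp h4 with h5 | h5
          · exact absurd h5 hβ
          · right; left
            exact ⟨c, by show b = c * T2; linear_combination h5, by simp⟩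
        · right; right
          exact ⟨c, by show b = c * T3; linear_combination h4, by simp⟩
  · have hdeg : (Polynomial.C α * Polynomial.X ^ 3 + Polynomial.C β * Polynomial.X ^ 2 +
        Polynomial.C γ * Polynomial.X + Polynomial.C δ).degree ≠ 0 := by
      rw [Polynomial.degree_cubic hα]; norm_num
    obtain ⟨T1, hT1⟩ := IsAlgClosed.exists_root _ hdeg
    have h1 : α * T1 ^ 3 + β * T1 ^ 2 + γ * T1 + δ = 0 := by
      have := hT1
      simp only [Polynomial.IsRoot.def, Polynomial.eval_add, Polynomial.eval_mul,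
        Polynomial.eval_C, Polynomial.eval_pow, Polynomial.eval_X] at this
      exact this
    obtain ⟨T2, T3, v1, v2⟩ := quadK α (β + α * T1) (γ + (β + α * T1) * T1) hα
    refine ⟨(T1, 1), (T2, 1), (T3, 1), fun b c h => ?_⟩
    have h2 : α * (b - T1 * c) * (b - T2 * c) * (b - T3 * c) = 0 := by
      linear_combination h - ((b - T1 * c) * b * c) * v1 + ((b - T1 * c) * c ^ 2) * v2
        - (c ^ 3) * h1
    rcases mul_eq_zero.mp h2 with h3 | h3
    · rcases mul_eq_zero.mp h3 with h4 | h4
      · rcases mul_eq_zero.mp h4 with h5 | h5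
        · exact absurd h5 hα
        · left
          exact ⟨c, by show b = c * T1; linear_combination h5, by simp⟩
      · right; left
        exact ⟨c, by show b = c * T2; linear_combination h4, by simp⟩
    · right; right
      exact ⟨c, by show b = c * T3; linear_combination h3, by simp⟩

theorem main (f : MvPolynomial (Fin 4) k) (hf : f.IsHomogeneous 3)
    (hsm : ∀ v : Fin 4 → k, v ≠ 0 → MvPolynomial.eval v f = 0 →
      ∃ i : Fin 4, MvPolynomial.eval v (MvPolynomial.pderiv i f) ≠ 0)
    (v : Fin 4 → k) (hv : v ≠ 0) (hfv : MvPolynomial.eval v f = 0) :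
    {U : Submodule k (Fin 4 → k) | v ∈ U ∧ (Module.finrank k ↥U = 2 ∧ ∀ u ∈ U, MvPolynomial.eval u f = 0)}.Finite ∧
      {U : Submodule k (Fin 4 → k) | v ∈ U ∧ (Module.finrank k ↥U = 2 ∧ ∀ u ∈ U, MvPolynomial.eval u f = 0)}.ncard ≤ 3 ∧
      ∃ H : Submodule k (Fin 4 → k), Module.finrank k ↥H = 3 ∧
        ∀ U : Submodule k (Fin 4 → k), v ∈ U → (Module.finrank k ↥U = 2 ∧ ∀ u ∈ U, MvPolynomial.eval u f = 0) → U ≤ H := by
  classical
  have hℓv : dd f v v = 0 := hqe f hf v hfv
  obtain ⟨i1, hi1⟩ := hsm v hv hfv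
  obtain ⟨v0, hv0def⟩ : ∃ v0 : Fin 4 → k, v0 = Pi.single i1 1 := ⟨_, rfl⟩
  have hl0 : dd f v v0 ≠ 0 := by rw [hv0def, dd_single']; exact hi1
  obtain ⟨i0, hi0⟩ : ∃ i0, v i0 ≠ 0 := by
    by_contra h
    push Not at h
    exact hv (funext h)
  let ℓlin : (Fin 4 → k) →ₗ[k] k :=
    { toFun := dd f v
      map_add' := dd_add' f v
      map_smul' := fun a w => by rw [dd_smul']; rfl }
  have hℓapp : ∀ w, ℓlin w = dd f v w := fun w => rfl
  have hUvan : ∀ U : Submodule k (Fin 4 → k), v ∈ U → (∀ u ∈ U, eval u f = 0) →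
      ∀ u ∈ U, dd f u v = 0 ∧ dd f v u = 0 := by
    intro U hvU hU u hu
    have e := cub4 0 (dd f u v) (dd f v u) 0 (by
      intro s _
      have h1 := F1 f hf v hfv u s
      rw [hU _ (U.add_mem hu (U.smul_mem s hvU)), hU u hu] at h1
      linear_combination -h1)
    exact ⟨e.2.1, e.2.2.1⟩
  have hker3 : Module.finrank k ↥(LinearMap.ker ℓlin) = 3 := by
    have h1 := LinearMap.finrank_range_add_finrank_ker ℓlin
    have h2 : LinearMap.range ℓlin = ⊤ := by
      rw [LinearMap.range_eq_top]
      intro c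
      refine ⟨(c / dd f v v0) • v0, ?_⟩
      rw [hℓapp, dd_smul']
      field_simp
    rw [h2, finrank_top, Module.finrank_self, Module.finrank_fin_fun] at h1
    omega
  obtain ⟨k1, k2, hk1l, hk2l, hk1i, hk2i, hk12⟩ : ∃ k1 k2 : Fin 4 → k,
      dd f v k1 = 0 ∧ dd f v k2 = 0 ∧ k1 i0 = 0 ∧ k2 i0 = 0 ∧
      (∀ s t : k, s • k1 + t • k2 = 0 → s = 0 ∧ t = 0) := by
    let Λ : (Fin 4 → k) →ₗ[k] k × k := ℓlin.prod (LinearMap.proj i0)
    have h1 := LinearMap.finrank_range_add_finrank_ker Λ
    have h2 : Module.finrank k ↥(LinearMap.range Λ) ≤ 2 := by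
      have := Submodule.finrank_le (LinearMap.range Λ)
      rwa [Module.finrank_prod, Module.finrank_self] at this
    rw [Module.finrank_fin_fun] at h1
    have h3 : 1 < Module.finrank k ↥(LinearMap.ker Λ) := by omega
    have hpos : 0 < Module.finrank k ↥(LinearMap.ker Λ) := by omega
    obtain ⟨x, hx⟩ := (Module.finrank_pos_iff_exists_ne_zero (R := k)
      (M := ↥(LinearMap.ker Λ))).mp hpos
    obtain ⟨y, hxy⟩ := exists_linearIndependent_pair_of_one_lt_finrank h3 hx
    have hxk := LinearMap.mem_ker.mp x.2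
    have hyk := LinearMap.mem_ker.mp y.2
    refine ⟨(x : Fin 4 → k), (y : Fin 4 → k), ?_, ?_, ?_, ?_, ?_⟩
    · exact congrArg Prod.fst hxk
    · exact congrArg Prod.fst hyk
    · exact congrArg Prod.snd hxk
    · exact congrArg Prod.snd hyk
    · intro s t hst
      apply (LinearIndependent.pair_iff.mp hxy) s t
      apply Subtype.ext
      simpa using hst
  -- the binary cubic
  obtain ⟨α, β, γ, δ, hq⟩ : ∃ α β γ δ : k, ∀ a b : k, eval (a • k1 + b • k2) f
      = α * a ^ 3 + β * a ^ 2 * b + γ * a * b ^ 2 + δ * b ^ 3 := by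
    obtain ⟨a2, a3, ha⟩ := taylor f hf k2 k1
    obtain ⟨b2, b3, hb⟩ := taylor f hf k1 k2
    have e := cub4 (a3 - eval k1 f) (a2 - dd f k1 k2) (dd f k2 k1 - b2) (eval k2 f - b3) (by
      intro s hs
      have h1 : k1 + s • k2 = s • (k2 + s⁻¹ • k1) := by
        rw [smul_add, smul_smul, mul_inv_cancel₀ hs, one_smul, add_comm]
      have h2 := hb s
      rw [h1, homN f 3 hf, ha] at h2
      have h3 : s * s⁻¹ = 1 := mul_inv_cancel₀ hs
      linear_combination h2 - (dd f k2 k1 * s ^ 2 + a2 * s * (s * s⁻¹ + 1) +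
        a3 * (s ^ 2 * s⁻¹ ^ 2 + s * s⁻¹ + 1)) * h3)
    refine ⟨a3, a2, dd f k2 k1, eval k2 f, ?_⟩
    intro a b
    by_cases hb0 : b = 0
    · rw [hb0, zero_smul, add_zero, homN f 3 hf]
      have : a3 = eval k1 f := by linear_combination e.1
      rw [this]; ring
    · obtain ⟨u, hu⟩ : ∃ u, a = b * u := ⟨a / b, by field_simp⟩
      subst hu
      have h1 : (b * u) • k1 + b • k2 = b • (k2 + u • k1) := by
        rw [smul_add, smul_smul, add_comm]
      rw [h1, homN f 3 hf, ha]; ring
  have hind : ∀ a b μ τ : k, a • k1 + b • k2 + μ • v0 + τ • v = 0 →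
      a = 0 ∧ b = 0 ∧ μ = 0 ∧ τ = 0 := by
    intro a b μ τ h
    have hμ : μ = 0 := by
      have h3 := congrArg (dd f v) h
      rw [dd_add', dd_add', dd_add', dd_smul', dd_smul', dd_smul', dd_smul', hk1l, hk2l, hℓv,
        dd_zero'] at h3
      have h5 : μ * dd f v v0 = 0 := by linear_combination h3
      exact (mul_eq_zero.mp h5).resolve_right hl0
    subst hμ
    have hτ : τ = 0 := by
      have h3 := congrFun h i0
      simp only [Pi.add_apply, Pi.smul_apply, smul_eq_mul, Pi.zero_apply, hk1i, hk2i] at h3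
      have h5 : τ * v i0 = 0 := by linear_combination h3
      exact (mul_eq_zero.mp h5).resolve_right hi0
    subst hτ
    rw [zero_smul, zero_smul, add_zero, add_zero] at h
    obtain ⟨ha, hb⟩ := hk12 a b h
    exact ⟨ha, hb, rfl, rfl⟩
  have hspan : ∀ w : Fin 4 → k, ∃ a b μ τ : k, w = a • k1 + b • k2 + μ • v0 + τ • v := by
    have hli : LinearIndependent k ![k1, k2, v0, v] := by
      rw [Fintype.linearIndependent_iff]
      intro g hg
      have hg' : g 0 • k1 + g 1 • k2 + g 2 • v0 + g 3 • v = 0 := by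
        rw [← hg, Fin.sum_univ_four]; rfl
      obtain ⟨h1, h2, h3, h4⟩ := hind _ _ _ _ hg'
      intro i
      fin_cases i
      exacts [h1, h2, h3, h4]
    have htop := hli.span_eq_top_of_card_eq_finrank'
      (by rw [Fintype.card_fin, Module.finrank_fin_fun])
    intro w
    have hw : w ∈ Submodule.span k (Set.range ![k1, k2, v0, v]) := by
      rw [htop]; exact Submodule.mem_top
    obtain ⟨g, hg⟩ := (Submodule.mem_span_range_iff_exists_fun k).mp hw
    rw [Fin.sum_univ_four] at hg
    exact ⟨g 0, g 1, g 2, g 3, by rw [← hg]; rfl⟩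
  -- the line through v with direction a k1 + b k2
  obtain ⟨L, hLdef⟩ : ∃ L : k × k → Submodule k (Fin 4 → k),
      ∀ P, L P = Submodule.span k (Set.range ![v, P.1 • k1 + P.2 • k2]) :=
    ⟨fun P => Submodule.span k (Set.range ![v, P.1 • k1 + P.2 • k2]), fun P => rfl⟩
  have hLfr : ∀ P : k × k, (P.1 ≠ 0 ∨ P.2 ≠ 0) → Module.finrank k ↥(L P) = 2 := by
    intro P hP
    have hli : LinearIndependent k ![v, P.1 • k1 + P.2 • k2] := by
      rw [LinearIndependent.pair_iff]
      intro s t hst
      have h1 : (t * P.1) • k1 + (t * P.2) • k2 + (0 : k) • v0 + s • v = 0 := by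
        rw [zero_smul, add_zero, ← hst, smul_add, smul_smul, smul_smul]; abel
      obtain ⟨e1, e2, -, e4⟩ := hind _ _ _ _ h1
      refine ⟨e4, ?_⟩
      rcases hP with hP | hP
      · exact (mul_eq_zero.mp e1).resolve_right hP
      · exact (mul_eq_zero.mp e2).resolve_right hP
    rw [hLdef, finrank_span_eq_card hli, Fintype.card_fin]
  have hLU : ∀ U : Submodule k (Fin 4 → k), v ∈ U → Module.finrank k ↥U = 2 →
      ∀ P : k × k, (P.1 ≠ 0 ∨ P.2 ≠ 0) → P.1 • k1 + P.2 • k2 ∈ U → U = L P := by
    intro U hvU hU2 P hP hPU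
    have hle : L P ≤ U := by
      rw [hLdef, Submodule.span_le]
      rintro x ⟨i, rfl⟩
      fin_cases i
      · exact hvU
      · exact hPU
    exact (Submodule.eq_of_le_of_finrank_eq hle (by rw [hLfr P hP, hU2])).symm
  have hred : ∀ P1 P2 P3 : k × k,
      (∀ b c : k, (b ≠ 0 ∨ c ≠ 0) → eval (b • k1 + c • k2) f = 0 →
        dd f (b • k1 + c • k2) v = 0 →
        (∃ z : k, b = z * P1.1 ∧ c = z * P1.2) ∨ (∃ z : k, b = z * P2.1 ∧ c = z * P2.2) ∨
          (∃ z : k, b = z * P3.1 ∧ c = z * P3.2)) →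
      ∀ U : Submodule k (Fin 4 → k), v ∈ U →
        Module.finrank k ↥U = 2 → (∀ u ∈ U, eval u f = 0) →
        U = L P1 ∨ U = L P2 ∨ U = L P3 := by
    intro P1 P2 P3 hroots U hvU hU2 hUf
    obtain ⟨u, huU, hunot⟩ : ∃ u ∈ U, u ∉ Submodule.span k {v} := by
      by_contra hcon
      push Not at hcon
      have hle : U ≤ Submodule.span k {v} := fun u hu => hcon u hu
      have h1 := Submodule.finrank_mono hle
      rw [finrank_span_singleton hv, hU2] at h1
      omega
    obtain ⟨a, b, μ, τ, hu⟩ := hspan u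
    have hμ : μ = 0 := by
      have h1 := (hUvan U hvU hUf u huU).2
      rw [hu, dd_add', dd_add', dd_add', dd_smul', dd_smul', dd_smul', dd_smul', hk1l, hk2l,
        hℓv] at h1
      have h5 : μ * dd f v v0 = 0 := by linear_combination h1
      exact (mul_eq_zero.mp h5).resolve_right hl0
    subst hμ
    have hwU : a • k1 + b • k2 ∈ U := by
      have h1 : a • k1 + b • k2 = u - τ • v := by rw [hu]; simp
      rw [h1]
      exact U.sub_mem huU (U.smul_mem τ hvU)
    have hab : a ≠ 0 ∨ b ≠ 0 := by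
      by_contra hcon
      push Not at hcon
      apply hunot
      rw [hu, hcon.1, hcon.2]
      simp only [zero_smul, zero_add]
      exact Submodule.smul_mem _ τ (Submodule.mem_span_singleton_self v)
    have hfw := hUf _ hwU
    have hqw := (hUvan U hvU hUf _ hwU).1
    have key : ∀ P : k × k, (∃ z : k, a = z * P.1 ∧ b = z * P.2) → U = L P := by
      rintro P ⟨z, hz1, hz2⟩
      have hz : z ≠ 0 := by
        rintro rfl
        rw [zero_mul] at hz1 hz2
        rcases hab with h | h
        · exact h hz1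
        · exact h hz2
      have hP : P.1 ≠ 0 ∨ P.2 ≠ 0 := by
        rcases hab with h | h
        · left; intro h0; apply h; rw [hz1, h0, mul_zero]
        · right; intro h0; apply h; rw [hz2, h0, mul_zero]
      apply hLU U hvU hU2 P hP
      have h1 : P.1 • k1 + P.2 • k2 = z⁻¹ • (a • k1 + b • k2) := by
        rw [hz1, hz2, smul_add, smul_smul, smul_smul, ← mul_assoc, ← mul_assoc,
          inv_mul_cancel₀ hz, one_mul, one_mul]
      rw [h1]
      exact U.smul_mem _ hwU
    rcases hroots a b hab hfw hqw with h | h | h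
    · exact Or.inl (key P1 h)
    · exact Or.inr (Or.inl (key P2 h))
    · exact Or.inr (Or.inr (key P3 h))
  have hmain : ∃ P1 P2 P3 : k × k, ∀ U : Submodule k (Fin 4 → k), v ∈ U →
      Module.finrank k ↥U = 2 → (∀ u ∈ U, eval u f = 0) →
      U = L P1 ∨ U = L P2 ∨ U = L P3 := by
    obtain ⟨Bq, hBq⟩ := dd_quad f hf v k1 k2
    by_cases hQ : dd f k1 v = 0 ∧ Bq = 0 ∧ dd f k2 v = 0
    · by_cases hC : α = 0 ∧ β = 0 ∧ γ = 0 ∧ δ = 0
      · exfalso
        obtain ⟨Bl, hBl⟩ := dd_quad f hf v0 k1 k2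
        have hF0 : ∀ a b : k, eval (a • k1 + b • k2) f = 0 := by
          intro a b
          rw [hq, hC.1, hC.2.1, hC.2.2.1, hC.2.2.2]; ring
        have hQ0 : ∀ a b : k, dd f (a • k1 + b • k2) v = 0 := by
          intro a b
          rw [hBq, hQ.1, hQ.2.1, hQ.2.2]; ring
        obtain ⟨a, b, hab, hlam⟩ : ∃ a b : k, (a ≠ 0 ∨ b ≠ 0) ∧
            dd f (a • k1 + b • k2) v0 = 0 := by
          by_cases h1 : dd f k1 v0 = 0
          · refine ⟨1, 0, Or.inl one_ne_zero, ?_⟩
            rw [hBl, h1]; ring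
          · obtain ⟨T2, T3, w1, w2⟩ := quadK (dd f k1 v0) Bl (dd f k2 v0) h1
            refine ⟨T2, 1, Or.inr one_ne_zero, ?_⟩
            rw [hBl]
            linear_combination T2 * w1 - w2
        obtain ⟨x, hxdef⟩ : ∃ x : Fin 4 → k, x = a • k1 + b • k2 := ⟨_, rfl⟩
        have hx0 : x ≠ 0 := by
          intro h0
          rw [hxdef] at h0
          obtain ⟨e1, e2⟩ := hk12 a b h0
          rcases hab with h | h
          · exact h e1
          · exact h e2
        have hfx : eval x f = 0 := by rw [hxdef]; exact hF0 a b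
        have hd1 : dd f x k1 = 0 := by
          obtain ⟨c2, c3, hc⟩ := taylor f hf x k1
          have e := cub4 0 (dd f x k1) c2 c3 (by
            intro s _
            have h1 := hc s
            have h2 : x + s • k1 = (a + s) • k1 + b • k2 := by rw [hxdef, add_smul]; abel
            rw [h2, hF0, hfx] at h1
            linear_combination -h1)
          exact e.2.1
        have hd2 : dd f x k2 = 0 := by
          obtain ⟨c2, c3, hc⟩ := taylor f hf x k2
          have e := cub4 0 (dd f x k2) c2 c3 (by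
            intro s _
            have h1 := hc s
            have h2 : x + s • k2 = a • k1 + (b + s) • k2 := by rw [hxdef, add_smul]; abel
            rw [h2, hF0, hfx] at h1
            linear_combination -h1)
          exact e.2.1
        have hd3 : dd f x v0 = 0 := by rw [hxdef]; exact hlam
        have hd4 : dd f x v = 0 := by rw [hxdef]; exact hQ0 a b
        obtain ⟨i, hi⟩ := hsm x hx0 hfx
        apply hi
        obtain ⟨a', b', μ', τ', he⟩ := hspan (Pi.single i 1)
        rw [← dd_single', he, dd_add', dd_add', dd_add', dd_smul', dd_smul', dd_smul', dd_smul',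
          hd1, hd2, hd3, hd4]
        ring
      · obtain ⟨P1, P2, P3, hP⟩ := cubic_roots_le α β γ δ hC
        refine ⟨P1, P2, P3, hred P1 P2 P3 (fun b c _ hfw _ => hP b c ?_)⟩
        rw [← hq]; exact hfw
    · obtain ⟨P1, P2, P3, hP⟩ := cubic_roots_le 0 (dd f k1 v) Bq (dd f k2 v)
        (fun h => hQ ⟨h.2.1, h.2.2.1, h.2.2.2⟩)
      refine ⟨P1, P2, P3, hred P1 P2 P3 (fun b c _ _ hqw => hP b c ?_)⟩
      rw [hBq] at hqw
      linear_combination c * hqw
  obtain ⟨P1, P2, P3, hP⟩ := hmain
  have hsub : {U : Submodule k (Fin 4 → k) | v ∈ U ∧ (Module.finrank k ↥U = 2 ∧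
      ∀ u ∈ U, MvPolynomial.eval u f = 0)} ⊆ {L P1, L P2, L P3} := by
    intro U hU
    simp only [Set.mem_insert_iff, Set.mem_singleton_iff]
    exact hP U hU.1 hU.2.1 hU.2.2
  have hfin3 : ({L P1, L P2, L P3} : Set (Submodule k (Fin 4 → k))).Finite := by
    simp
  refine ⟨hfin3.subset hsub, ?_, ?_⟩
  · have h1 := Set.ncard_insert_le (L P1) ({L P2, L P3} : Set (Submodule k (Fin 4 → k)))
    have h2 := Set.ncard_insert_le (L P2) ({L P3} : Set (Submodule k (Fin 4 → k)))
    rw [Set.ncard_singleton] at h2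
    have h3 := Set.ncard_le_ncard hsub hfin3
    omega
  · refine ⟨LinearMap.ker ℓlin, hker3, fun U hvU hU u hu => ?_⟩
    rw [LinearMap.mem_ker, hℓapp]
    exact (hUvan U hvU hU.2 u hu).2

end aux


/-- Over an algebraically closed field of characteristic zero, through a point s of a smooth cubic
surface S = V_+(f) ⊂ P^3 there pass at most three lines contained in S, and these lines are
coplanar. With s given by a nonzero vector v with f(v) = 0, the lines through s on S are the
2-dimensional subspaces of k^4 containing v on which f vanishes; there are at most three of them and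
one 3-dimensional subspace contains them all. -/
theorem result (k : Type u) [Field k] [IsAlgClosed k] [CharZero k]
    (f : MvPolynomial (Fin 4) k) (hf : f.IsHomogeneous 3) (hf0 : f ≠ 0)
    (hsm : ∀ v : Fin 4 → k, v ≠ 0 → MvPolynomial.eval v f = 0 →
      ∃ i : Fin 4, MvPolynomial.eval v (MvPolynomial.pderiv i f) ≠ 0)
    (v : Fin 4 → k) (hv : v ≠ 0) (hfv : MvPolynomial.eval v f = 0) :
    {U : Submodule k (Fin 4 → k) | v ∈ U ∧ (Module.finrank k ↥U = 2 ∧ ∀ u ∈ U, MvPolynomial.eval u f = 0)}.Finite ∧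
      {U : Submodule k (Fin 4 → k) | v ∈ U ∧ (Module.finrank k ↥U = 2 ∧ ∀ u ∈ U, MvPolynomial.eval u f = 0)}.ncard ≤ 3 ∧
      ∃ H : Submodule k (Fin 4 → k), Module.finrank k ↥H = 3 ∧
        ∀ U : Submodule k (Fin 4 → k), v ∈ U → (Module.finrank k ↥U = 2 ∧ ∀ u ∈ U, MvPolynomial.eval u f = 0) → U ≤ H :=
  main f hf hsm v hv hfv

end Groth.Agent.S10897
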