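import Groth.Statements.S10898
import Mathlib

set_option autoImplicit false
universe u
open Polynomial
open WDiv

namespace Groth.Agent.S10898

/-- Let A be a Noetherian integral domain and P a prime ideal of height 1 of the polynomial ring A[X].
Then either P meets A in 0 only, or its contraction p = P ∩ A is a prime of height 1 of A and P is
the extension p·A[X]. (The published lemma also assumes A regular in codimension 1; that hypothesis
is not used for this assertion.) -/
theorem result (A : Type u) [CommRing A] [IsDomain A]
    [IsNoetherianRing A] (P : Ideal A[X]) [P.IsPrime] (hP : P.height = 1) :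
    P.comap (C : A →+* A[X]) = ⊥ ∨
      ((P.comap (C : A →+* A[X])).height = 1 ∧ P = (P.comap (C : A →+* A[X])).map C) := by
  classical
  by_cases hbot : P.comap (C : A →+* A[X]) = ⊥
  · exact Or.inl hbot
  right
  set p := P.comap (C : A →+* A[X]) with hpdef
  have hpprime : p.IsPrime := Ideal.comap_isPrime C P
  -- general facts about map C
  have hmapprime : ∀ q : Ideal A, q.IsPrime → (q.map (C : A →+* A[X])).IsPrime :=
    fun q hq => (Ideal.isPrime_map_C_iff_isPrime q).2 hq
  have hmapne : ∀ q : Ideal A, q ≠ ⊥ → q.map (C : A →+* A[X]) ≠ ⊥ := by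
    intro q hq h
    apply hq
    rw [eq_bot_iff]
    intro x hx
    have : C x ∈ q.map (C : A →+* A[X]) := Ideal.mem_map_of_mem _ hx
    rw [h, Ideal.mem_bot, C_eq_zero] at this
    rw [Ideal.mem_bot]; exact this
  have hcomapmap : ∀ q : Ideal A, (q.map (C : A →+* A[X])).comap C = q := by
    intro q
    ext x
    rw [Ideal.mem_comap, Ideal.mem_map_C_iff]
    constructor
    · intro h; simpa using h 0
    · intro h n
      rw [coeff_C]
      split_ifs
      · exact h
      · exact q.zero_mem
  have hone : ∀ Q : Ideal A[X], Q.IsPrime → Q ≠ ⊥ → 1 ≤ Q.height := by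
    intro Q hQ hne
    by_contra hlt
    have h0 : Q.height = 0 := by
      have : Q.height < 1 := not_le.1 hlt
      exact Order.lt_one_iff.1 this
    exact hne (Ideal.height_eq_zero_iff_eq_bot.1 h0)
  have hle : p.map (C : A →+* A[X]) ≤ P := Ideal.map_comap_le
  have hmp : (p.map (C : A →+* A[X])).IsPrime := hmapprime p hpprime
  -- no chain ⊥ < Q < P
  have hnochain : ∀ Q : Ideal A[X], Q.IsPrime → Q ≠ ⊥ → Q ≤ P → Q = P := by
    intro Q hQ hne hQP
    by_contra hneq
    have hlt : Q < P := lt_of_le_of_ne hQP hneq
    have h1 := Ideal.height_add_one_le_of_lt_of_isPrime hlt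
    have h2 := hone Q hQ hne
    rw [hP] at h1
    have : (1 : ℕ∞) + 1 ≤ 1 := le_trans (by gcongr) h1
    exact absurd this (by decide)
  have hPeq : p.map (C : A →+* A[X]) = P := hnochain _ hmp (hmapne p hbot) hle
  refine ⟨?_, hPeq.symm⟩
  apply le_antisymm
  · have : p.height ≤ ((1 : ℕ) : ℕ∞) := by
      rw [Ideal.height_le_iff]
      intro q hq hqp
      by_cases hq0 : q = ⊥
      · rw [hq0, Ideal.height_bot]; simp
      · exfalso
        have hqP : q.map (C : A →+* A[X]) ≤ P := (Ideal.map_mono hqp.le).trans hle
        have := hnochain _ (hmapprime q hq) (hmapne q hq0) hqP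
        have h2 : (q.map (C : A →+* A[X])).comap C = P.comap C := by rw [this]
        rw [hcomapmap] at h2
        exact hqp.ne h2
    simpa using this
  · by_contra hlt
    have h0 : p.height = 0 := by
      have : p.height < 1 := not_le.1 hlt
      exact Order.lt_one_iff.1 this
    exact hbot (Ideal.height_eq_zero_iff_eq_bot.1 h0)

end Groth.Agent.S10898
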