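import Groth.Statements.S10899
import Mathlib
import Groth.Agent.Lib.helper4.PolyFrac
import Groth.Agent.S10898

set_option autoImplicit false
universe u
open Polynomial
open WDiv

namespace Groth.Agent.S10899

/-- Let A be a Noetherian integral domain which is regular in codimension 1, i.e. whose localization at
every prime ideal of height 1 is a discrete valuation ring. Then the polynomial ring A[X] is regular
in codimension 1 as well: its localization at every prime ideal of height 1 is a discrete valuation
ring. -/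
theorem result (A : Type u) [CommRing A]
    [IsDomain A] [IsNoetherianRing A]
    (hR1 : ∀ (p : Ideal A) [p.IsPrime], p.height = 1 → IsDiscreteValuationRing (Localization.AtPrime p))
    (P : Ideal A[X]) [P.IsPrime] (hP : P.height = 1) :
    IsDiscreteValuationRing (Localization.AtPrime P) := by
  classical
  let B := Localization.AtPrime P
  have hPle : P.primeCompl ≤ nonZeroDivisors A[X] := P.primeCompl_le_nonZeroDivisors
  have : IsDomain B := IsLocalization.isDomain_localization hPle
  have : IsNoetherianRing B := IsLocalization.isNoetherianRing P.primeCompl B inferInstance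
  have hinj : Function.Injective (algebraMap A[X] B) := IsLocalization.injective B hPle
  have hPne : P ≠ ⊥ := Ideal.ne_bot_of_height_eq_one hP
  have hmax : IsLocalRing.maximalIdeal B = P.map (algebraMap A[X] B) :=
    (Localization.AtPrime.map_eq_maximalIdeal).symm
  have hnf : ¬ IsField B := by
    rw [IsLocalRing.isField_iff_maximalIdeal_eq, hmax]
    intro h
    obtain ⟨x, hx, hx0⟩ := Submodule.exists_mem_ne_zero_of_ne_bot hPne
    have : algebraMap A[X] B x ∈ P.map (algebraMap A[X] B) := Ideal.mem_map_of_mem _ hx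
    rw [h, Ideal.mem_bot] at this
    exact hx0 (hinj (by rw [this, map_zero]))
  suffices hgen : ∃ f0 ∈ P, ∀ f ∈ P, ∃ u : A[X], u ∉ P ∧ ∃ H, f * u = f0 * H by
    obtain ⟨f0, hf0, hall⟩ := hgen
    have hprinc : (IsLocalRing.maximalIdeal B).IsPrincipal := by
      refine ⟨⟨algebraMap A[X] B f0, ?_⟩⟩
      rw [hmax]
      apply le_antisymm
      · rw [Ideal.map_le_iff_le_comap]
        intro f hf
        obtain ⟨u, hu, H, hH⟩ := hall f hf
        rw [Ideal.mem_comap]
        change _ ∈ Ideal.span _
        rw [Ideal.mem_span_singleton]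
        have huu : IsUnit (algebraMap A[X] B u) := IsLocalization.map_units B (⟨u, hu⟩ : P.primeCompl)
        obtain ⟨v, hv⟩ := huu
        refine ⟨algebraMap A[X] B H * ↑v⁻¹, ?_⟩
        rw [← mul_assoc, ← map_mul, ← hH, map_mul, ← hv, mul_assoc, Units.mul_inv, mul_one]
      · change Ideal.span _ ≤ _
        rw [Ideal.span_singleton_le_iff_mem]
        exact Ideal.mem_map_of_mem _ hf0
    exact ((IsDiscreteValuationRing.TFAE B hnf).out 0 4).2 hprinc
  rcases Groth.Agent.S10898.result A P hP with hbot | ⟨hh, hPeq⟩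
  · obtain ⟨f0, hf0, hall⟩ := Groth.Agent.H4.H4_exists_generator_up_to_const A P
    refine ⟨f0, hf0, fun f hf => ?_⟩
    obtain ⟨d, hd, H, hH⟩ := hall f hf
    refine ⟨C d, ?_, H, hH⟩
    intro hmem
    have : d ∈ P.comap (C : A →+* A[X]) := hmem
    rw [hbot, Ideal.mem_bot] at this
    exact hd this
  · set p := P.comap (C : A →+* A[X]) with hpdef
    have : p.IsPrime := Ideal.comap_isPrime C P
    have hdvr := hR1 p hh
    have hple : p.primeCompl ≤ nonZeroDivisors A := p.primeCompl_le_nonZeroDivisors
    have hinjp : Function.Injective (algebraMap A (Localization.AtPrime p)) :=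
      IsLocalization.injective _ hple
    obtain ⟨ϖ, hϖ⟩ := IsDiscreteValuationRing.exists_irreducible (Localization.AtPrime p)
    have hmaxp : IsLocalRing.maximalIdeal (Localization.AtPrime p) = Ideal.span {ϖ} :=
      hϖ.maximalIdeal_eq
    obtain ⟨a, s, rfl⟩ := IsLocalization.exists_mk'_eq p.primeCompl ϖ
    have hap : a ∈ p := by
      have : IsLocalization.mk' (Localization.AtPrime p) a s ∈ IsLocalRing.maximalIdeal _ := by
        rw [hmaxp]; exact Ideal.mem_span_singleton_self _
      exact (IsLocalization.AtPrime.mk'_mem_maximal_iff _ p a s).1 this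
    refine ⟨C a, hap, ?_⟩
    have hgenx : ∀ x ∈ p, ∃ t : A, t ∉ p ∧ ∃ c : A, x * t = a * c := by
      intro x hx
      have : IsLocalization.mk' (Localization.AtPrime p) x (1 : p.primeCompl) ∈
          IsLocalRing.maximalIdeal _ :=
        (IsLocalization.AtPrime.mk'_mem_maximal_iff _ p x 1).2 hx
      rw [hmaxp, Ideal.mem_span_singleton] at this
      obtain ⟨w, hw⟩ := this
      obtain ⟨c, t, rfl⟩ := IsLocalization.exists_mk'_eq p.primeCompl w
      rw [← IsLocalization.mk'_mul, IsLocalization.mk'_eq_iff_eq] at hw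
      have hw' := hinjp hw
      refine ⟨s * t, (s * t).2, c, ?_⟩
      simp only [Submonoid.coe_mul, Submonoid.coe_one, one_mul] at hw' ⊢
      rw [mul_comm x, hw']
    intro f hf
    rw [hPeq] at hf
    unfold Ideal.map at hf
    refine Submodule.span_induction (p := fun f _ => ∃ u : A[X], u ∉ P ∧ ∃ H, f * u = C a * H)
      ?_ ?_ ?_ ?_ hf
    · rintro _ ⟨x, hx, rfl⟩
      obtain ⟨t, ht, c, hc⟩ := hgenx x hx
      refine ⟨C t, ht, C c, ?_⟩
      rw [← C_mul, ← C_mul, hc]
    · exact ⟨1, fun h => (Ideal.IsPrime.ne_top inferInstance) ((Ideal.eq_top_iff_one _).2 h),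
        0, by simp⟩
    · rintro f1 f2 _ _ ⟨u1, hu1, H1, h1⟩ ⟨u2, hu2, H2, h2⟩
      refine ⟨u1 * u2, fun h => ?_, H1 * u2 + H2 * u1, ?_⟩
      · rcases Ideal.IsPrime.mem_or_mem inferInstance h with h | h
        · exact hu1 h
        · exact hu2 h
      · calc (f1 + f2) * (u1 * u2) = (f1 * u1) * u2 + (f2 * u2) * u1 := by ring
          _ = (C a * H1) * u2 + (C a * H2) * u1 := by rw [h1, h2]
          _ = C a * (H1 * u2 + H2 * u1) := by ring
    · rintro r f1 _ ⟨u1, hu1, H1, h1⟩
      refine ⟨u1, hu1, r * H1, ?_⟩
      calc r • f1 * u1 = r * (f1 * u1) := by rw [smul_eq_mul]; ring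
        _ = r * (C a * H1) := by rw [h1]
        _ = C a * (r * H1) := by ring

end Groth.Agent.S10899
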