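import Groth.Statements.S1090
import Groth.Agent.Lib.helper1.FilDCone

set_option autoImplicit false
universe v u
open CategoryTheory CategoryTheory.Limits Opposite
open FilD

namespace Groth.Agent.S1090

/-- Let A be an abelian category with enough injectives, f : X ⟶ Y a morphism of finite filtered
objects, and X[0] ⟶ I, Y[0] ⟶ J filtered quasi-isomorphisms into complexes of filtered injective
objects vanishing in negative degrees. Then there is a morphism of complexes I ⟶ J making the
evident square with f[0] commute. -/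
theorem result {A : Type u} [Category.{v} A] [Abelian A] [EnoughInjectives A] {X Y : FilD.FilF A} (f : X ⟶ Y)
    (I : CochainComplex (FilD.FilF A) ℤ) [I.IsStrictlyGE 0] (hI : ∀ n, FilD.IsFilteredInjective (I.X n))
    (a : (CochainComplex.singleFunctor (FilD.FilF A) 0).obj X ⟶ I) (ha : FilD.IsFilteredQuasiIso a)
    (J : CochainComplex (FilD.FilF A) ℤ) [J.IsStrictlyGE 0] (hJ : ∀ n, FilD.IsFilteredInjective (J.X n))
    (b : (CochainComplex.singleFunctor (FilD.FilF A) 0).obj Y ⟶ J) (hb : FilD.IsFilteredQuasiIso b) :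
    ∃ φ : I ⟶ J, a ≫ φ = (CochainComplex.singleFunctor (FilD.FilF A) 0).map f ≫ b := by
  obtain ⟨β, hβ⟩ := (Groth.Agent.H1.FilDCone.bijective J 0 hJ a ha).2
    ((HomotopyCategory.quotient (FilD.FilF A) (ComplexShape.up ℤ)).map
      ((CochainComplex.singleFunctor (FilD.FilF A) 0).map f ≫ b))
  obtain ⟨φ, rfl⟩ := (HomotopyCategory.quotient (FilD.FilF A) (ComplexShape.up ℤ)).map_surjective β
  dsimp only at hβ
  rw [← Functor.map_comp] at hβ
  have h := HomotopyCategory.homotopyOfEq _ _ hβ
  refine ⟨φ, ?_⟩
  refine HomologicalComplex.hom_ext _ _ (fun n => ?_)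
  by_cases hn : n = 0
  · subst hn
    have hc := h.comm 0
    have e1 : dNext 0 h.hom = 0 := by
      rw [dNext_eq h.hom (show (ComplexShape.up ℤ).Rel 0 1 by simp)]
      have : ((CochainComplex.singleFunctor (FilD.FilF A) 0).obj X).d 0 1 = 0 := by
        apply IsZero.eq_of_tgt
        exact HomologicalComplex.isZero_single_obj_X (ComplexShape.up ℤ) 0 X 1 (by omega)
      rw [this, zero_comp]
    have e2 : prevD 0 h.hom = 0 := by
      rw [prevD_eq h.hom (show (ComplexShape.up ℤ).Rel (-1) 0 by simp)]
      have : h.hom 0 (-1) = 0 := by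
        apply IsZero.eq_of_tgt
        exact J.isZero_of_isStrictlyGE 0 (-1) (by omega)
      rw [this, zero_comp]
    rw [e1, e2, zero_add, zero_add] at hc
    exact hc
  · apply IsZero.eq_of_src
    exact HomologicalComplex.isZero_single_obj_X (ComplexShape.up ℤ) 0 X n hn

end Groth.Agent.S1090
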