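import Groth.Statements.S10956
import Mathlib

set_option autoImplicit false
universe u
open scoped TensorProduct
open CAlg

namespace Groth.Agent.S10956

/-- Let R be a commutative ring, A and B commutative R-algebras and T = A ⊗_R B, an A-algebra through
the left factor. There is a T-linear map r from Ω_{T/R} to T ⊗_A Ω_{A/R} sending d(a ⊗ b) to (1 ⊗ b)
⊗ da for all a in A and b in B, and together with the canonical map Ω_{T/R} → Ω_{T/A} it identifies
Ω_{T/R} with the product (T ⊗_A Ω_{A/R}) × Ω_{T/A}. (The published statement is the isomorphism of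
(Ω_{A/R} ⊗_R B) ⊕ (A ⊗_R Ω_{B/R}) with Ω_{T/R} matching the exterior differentials; it is stated
here through the canonical identifications T ⊗_A Ω_{A/R} = Ω_{A/R} ⊗_R B and Ω_{T/A} = A ⊗_R
Ω_{B/R}.) -/
theorem result (R A B : Type u) [CommRing R] [CommRing A] [CommRing B]
    [Algebra R A] [Algebra R B] :
    ∃ r : Ω[(A ⊗[R] B)⁄R] →ₗ[A ⊗[R] B] ((A ⊗[R] B) ⊗[A] Ω[A⁄R]),
      (∀ (a : A) (b : B), r (KaehlerDifferential.D R (A ⊗[R] B) (a ⊗ₜ[R] b)) =
          ((1 : A) ⊗ₜ[R] b) ⊗ₜ[A] KaehlerDifferential.D R A a) ∧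
        Function.Bijective (fun ω : Ω[(A ⊗[R] B)⁄R] =>
          (r ω, KaehlerDifferential.map R A (A ⊗[R] B) (A ⊗[R] B) ω)) := by
  classical
  letI : Algebra B (A ⊗[R] B) := Algebra.TensorProduct.rightAlgebra
  let e := KaehlerDifferential.tensorKaehlerEquiv R B A (A ⊗[R] B)
  let π : Ω[(A ⊗[R] B)⁄R] →ₗ[A ⊗[R] B] Ω[(A ⊗[R] B)⁄B] :=
    KaehlerDifferential.map R B (A ⊗[R] B) (A ⊗[R] B)
  let r : Ω[(A ⊗[R] B)⁄R] →ₗ[A ⊗[R] B] ((A ⊗[R] B) ⊗[A] Ω[A⁄R]) := e.symm.toLinearMap ∘ₗ π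
  have h3 : ∀ a : A, algebraMap A (A ⊗[R] B) a = a ⊗ₜ[R] (1 : B) := fun a => rfl
  have h4 : ∀ b : B, algebraMap B (A ⊗[R] B) b = (1 : A) ⊗ₜ[R] b := fun b => rfl
  have hr : ∀ (a : A) (b : B), r (KaehlerDifferential.D R (A ⊗[R] B) (a ⊗ₜ[R] b)) =
      ((1 : A) ⊗ₜ[R] b) ⊗ₜ[A] KaehlerDifferential.D R A a := by
    intro a b
    change e.symm (π (KaehlerDifferential.D R (A ⊗[R] B) (a ⊗ₜ[R] b))) = _
    rw [LinearEquiv.symm_apply_eq]
    have h1 : π (KaehlerDifferential.D R (A ⊗[R] B) (a ⊗ₜ[R] b)) =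
        KaehlerDifferential.D B (A ⊗[R] B) (a ⊗ₜ[R] b) :=
      KaehlerDifferential.map_D R B (A ⊗[R] B) (A ⊗[R] B) _
    have h5 : e (((1 : A) ⊗ₜ[R] b) ⊗ₜ[A] KaehlerDifferential.D R A a) =
        ((1 : A) ⊗ₜ[R] b) • KaehlerDifferential.D B (A ⊗[R] B) (algebraMap A (A ⊗[R] B) a) :=
      KaehlerDifferential.tensorKaehlerEquiv_tmul_D R B A (A ⊗[R] B) _ _
    rw [h1, h5, h3]
    have h2 : (a ⊗ₜ[R] b : A ⊗[R] B) = (a ⊗ₜ[R] (1 : B)) * ((1 : A) ⊗ₜ[R] b) := by
      rw [Algebra.TensorProduct.tmul_mul_tmul, mul_one, one_mul]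
    rw [h2, Derivation.leibniz, ← h4, Derivation.map_algebraMap, smul_zero, zero_add]
  refine ⟨r, hr, ?_⟩
  have hrmap : ∀ ω : Ω[A⁄R], r (KaehlerDifferential.map R R A (A ⊗[R] B) ω) =
      (1 : A ⊗[R] B) ⊗ₜ[A] ω := by
    intro ω
    have hω : ω ∈ Submodule.span A (Set.range (KaehlerDifferential.D R A)) := by
      rw [KaehlerDifferential.span_range_derivation]; trivial
    induction hω using Submodule.span_induction with
    | mem x hx =>
      obtain ⟨a, rfl⟩ := hx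
      rw [KaehlerDifferential.map_D, h3, hr a 1]
      rfl
    | zero => rw [map_zero, map_zero, TensorProduct.tmul_zero]
    | add x y _ _ hx hy => rw [map_add, map_add, hx, hy, TensorProduct.tmul_add]
    | smul a x _ hx =>
      rw [map_smul, LinearMap.map_smul_of_tower, hx, TensorProduct.tmul_smul]
  have hrι : ∀ x : (A ⊗[R] B) ⊗[A] Ω[A⁄R],
      r (KaehlerDifferential.mapBaseChange R A (A ⊗[R] B) x) = x := by
    intro x
    induction x using TensorProduct.induction_on with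
    | zero => rw [map_zero, map_zero]
    | add x y hx hy => rw [map_add, map_add, hx, hy]
    | tmul t ω =>
      rw [KaehlerDifferential.mapBaseChange_tmul, map_smul, hrmap, TensorProduct.smul_tmul',
        smul_eq_mul, mul_one]
  have hex := KaehlerDifferential.exact_mapBaseChange_map R A (A ⊗[R] B)
  have hsurj := KaehlerDifferential.map_surjective R A (A ⊗[R] B)
  constructor
  · intro ω₁ ω₂ h
    have h1 : r ω₁ = r ω₂ := congrArg Prod.fst h
    have h2 : KaehlerDifferential.map R A (A ⊗[R] B) (A ⊗[R] B) ω₁ =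
        KaehlerDifferential.map R A (A ⊗[R] B) (A ⊗[R] B) ω₂ := congrArg Prod.snd h
    have h3' : KaehlerDifferential.map R A (A ⊗[R] B) (A ⊗[R] B) (ω₁ - ω₂) = 0 := by
      rw [map_sub, h2, sub_self]
    obtain ⟨x, hx⟩ := (hex (ω₁ - ω₂)).1 h3'
    have h4' : x = 0 := by rw [← hrι x, hx, map_sub, h1, sub_self]
    rw [h4', map_zero] at hx
    exact sub_eq_zero.1 hx.symm
  · rintro ⟨x, y⟩
    obtain ⟨ω₀, hω₀⟩ := hsurj y
    refine ⟨ω₀ + KaehlerDifferential.mapBaseChange R A (A ⊗[R] B) (x - r ω₀), ?_⟩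
    have h5 : KaehlerDifferential.map R A (A ⊗[R] B) (A ⊗[R] B)
        (KaehlerDifferential.mapBaseChange R A (A ⊗[R] B) (x - r ω₀)) = 0 := (hex _).2 ⟨_, rfl⟩
    show (r (ω₀ + _), KaehlerDifferential.map R A (A ⊗[R] B) (A ⊗[R] B) (ω₀ + _)) = (x, y)
    rw [map_add, map_add, hrι, h5, hω₀, add_zero, add_sub_cancel]

end Groth.Agent.S10956
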