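import Groth.Statements.S10957
import Mathlib

set_option autoImplicit false
universe u
open CAlg

namespace Groth.Agent.S10957

/-- Let A be a Noetherian local integral domain that is normal (integrally closed in its field of
fractions). If there is a nonzero element a of A such that the maximal ideal of A is an associated
prime of the A-module A/(a), then A is a discrete valuation ring. (The other conditions listed in
the published result — normal of dimension one, maximal ideal nonzero principal, regular of
dimension one — are the library's standard characterisations; this row records the criterion through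
an associated prime.) -/
theorem result
    (A : Type u) [CommRing A] [IsDomain A] [IsNoetherianRing A] [IsLocalRing A] [IsIntegrallyClosed A]
    (a : A) (ha : a ≠ 0)
    (hass : IsLocalRing.maximalIdeal A ∈ associatedPrimes A (A ⧸ Ideal.span ({a} : Set A))) :
    IsDiscreteValuationRing A := by
  classical
  rw [AssociatedPrimes.mem_iff, isAssociatedPrime_iff] at hass
  obtain ⟨_, x, hx⟩ := hass
  obtain ⟨y, rfl⟩ := Ideal.Quotient.mk_surjective x
  have hmem : ∀ r : A, r ∈ IsLocalRing.maximalIdeal A ↔ a ∣ r * y := by
    intro r
    rw [hx, Submodule.mem_colon_singleton, Submodule.mem_bot]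
    have : r • (Ideal.Quotient.mk (Ideal.span ({a} : Set A))) y =
        (Ideal.Quotient.mk (Ideal.span ({a} : Set A))) (r * y) := by
      rw [map_mul]; rfl
    rw [this, Ideal.Quotient.eq_zero_iff_mem, Ideal.mem_span_singleton]
  have ham : a ∈ IsLocalRing.maximalIdeal A := by
    rw [hmem]; exact dvd_mul_right a y
  have hy : ¬ a ∣ y := by
    intro h
    have : (1 : A) ∈ IsLocalRing.maximalIdeal A := by
      rw [hmem, one_mul]; exact h
    exact (IsLocalRing.maximalIdeal.isMaximal A).ne_top ((Ideal.eq_top_iff_one _).2 this)
  have hnf : ¬ IsField A := by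
    rw [IsLocalRing.isField_iff_maximalIdeal_eq]
    intro h
    rw [h] at ham
    exact ha ham
  suffices hprinc : (IsLocalRing.maximalIdeal A).IsPrincipal from
    ((IsDiscreteValuationRing.TFAE A hnf).out 0 4).2 hprinc
  by_cases hcase : ∀ t ∈ IsLocalRing.maximalIdeal A, ∀ c, t * y = a * c →
      c ∈ IsLocalRing.maximalIdeal A
  · exfalso
    apply hy
    let K := FractionRing A
    let z : K := algebraMap A K y / algebraMap A K a
    have haK : algebraMap A K a ≠ 0 := by
      simpa using ha
    let N : Submodule A K := Submodule.map (Algebra.linearMap A K) (IsLocalRing.maximalIdeal A)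
    have hN : N ≠ ⊥ := by
      intro h
      have : algebraMap A K a ∈ N := ⟨a, ham, rfl⟩
      rw [h, Submodule.mem_bot] at this
      exact haK this
    have hNfg : N.FG := Submodule.FG.map _ (IsNoetherian.noetherian _)
    have hzN : ∀ n ∈ N, z • n ∈ N := by
      rintro _ ⟨t, ht, rfl⟩
      obtain ⟨c, hc⟩ := (hmem t).1 ht
      refine ⟨c, hcase t ht c hc, ?_⟩
      simp only [Algebra.linearMap_apply, smul_eq_mul, z]
      rw [div_mul_eq_mul_div, eq_div_iff haK, ← map_mul, ← map_mul, mul_comm c a, ← hc, mul_comm]
    have hint : IsIntegral A z := isIntegral_of_smul_mem_submodule N hN hNfg z hzN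
    obtain ⟨w, hw⟩ := IsIntegrallyClosed.isIntegral_iff.1 hint
    refine ⟨w, ?_⟩
    apply IsFractionRing.injective A K
    rw [map_mul, hw]
    exact (mul_div_cancel₀ _ haK).symm
  · push Not at hcase
    obtain ⟨t, ht, c, hc, hcm⟩ := hcase
    have hcu : IsUnit c := by
      by_contra h
      exact hcm ((IsLocalRing.mem_maximalIdeal c).2 h)
    obtain ⟨u, rfl⟩ := hcu
    refine ⟨⟨t, ?_⟩⟩
    apply le_antisymm
    · intro s hs
      obtain ⟨c', hc'⟩ := (hmem s).1 hs
      change s ∈ Ideal.span {t}
      rw [Ideal.mem_span_singleton]
      refine ⟨c' * ↑u⁻¹, ?_⟩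
      have h1 : s * (u : A) = t * c' := by
        apply mul_left_cancel₀ ha
        calc a * (s * u) = s * (a * u) := by ring
          _ = s * (t * y) := by rw [hc]
          _ = t * (s * y) := by ring
          _ = t * (a * c') := by rw [hc']
          _ = a * (t * c') := by ring
      calc s = s * u * ↑u⁻¹ := by rw [mul_assoc, Units.mul_inv, mul_one]
        _ = t * c' * ↑u⁻¹ := by rw [h1]
        _ = t * (c' * ↑u⁻¹) := by ring
    · change Ideal.span {t} ≤ _
      rw [Ideal.span_singleton_le_iff_mem]
      exact ht

end Groth.Agent.S10957
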