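import Groth.Statements.S10967
import Mathlib
import Groth.Agent.Lib.helper1.QuasiAffineHom

set_option autoImplicit false
universe u
open CategoryTheory AlgebraicGeometry TopologicalSpace
open MoreMor

namespace Groth.Agent.S10967

/-- Quasi-affine over an affine base: call a morphism f : X → Y quasi-affine when Y has a cover by
affine opens V_i whose preimages f⁻¹(V_i) are quasi-affine schemes (quasi-compact open subschemes of
affine schemes; equivalently quasi-compact with X → Spec Γ(X, O_X) an immersion). If Y is affine and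
f is quasi-affine in this sense, then X is a quasi-affine scheme. -/
theorem result {X Y : Scheme.{u}} [IsAffine Y]
    (f : X ⟶ Y) {ι : Type u} (V : ι → Y.Opens) (hV : iSup V = ⊤) (hVa : ∀ i, IsAffineOpen (V i))
    (hq : ∀ i, Scheme.IsQuasiAffine (↑(f ⁻¹ᵁ V i) : Scheme.{u})) :
    X.IsQuasiAffine := by
  classical
  have hcomp : ∀ i, IsCompact ((f ⁻¹ᵁ V i : X.Opens) : Set X) := fun i =>
    isCompact_iff_compactSpace.mpr (hq i).toCompactSpace
  haveI : CompactSpace X := by
    obtain ⟨t, ht⟩ := (CompactSpace.isCompact_univ (X := Y)).elim_finite_subcover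
      (fun i => (V i : Set Y)) (fun i => (V i).isOpen) (by
        intro y _
        have : y ∈ (⨆ i, V i : Y.Opens) := by rw [hV]; trivial
        obtain ⟨i, hi⟩ := TopologicalSpace.Opens.mem_iSup.mp this
        exact Set.mem_iUnion.mpr ⟨i, hi⟩)
    refine ⟨?_⟩
    have : (Set.univ : Set X) = ⋃ i ∈ t, ((f ⁻¹ᵁ V i : X.Opens) : Set X) := by
      apply subset_antisymm
      · intro x _
        obtain ⟨i, hi, hxi⟩ := Set.mem_iUnion₂.mp (ht (Set.mem_univ (f x)))
        exact Set.mem_iUnion₂.mpr ⟨i, hi, hxi⟩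
      · exact Set.subset_univ _
    rw [this]
    exact t.isCompact_biUnion fun i _ => hcomp i
  refine Groth.Agent.H1.H1_isQuasiAffine_of_cover_basicOpen X fun x => ?_
  have hx : f x ∈ (⨆ i, V i : Y.Opens) := by rw [hV]; trivial
  obtain ⟨i, hi⟩ := TopologicalSpace.Opens.mem_iSup.mp hx
  obtain ⟨b, hbV, hxb⟩ := (isAffineOpen_top Y).exists_basicOpen_le (V := V i) ⟨f x, hi⟩ trivial
  refine ⟨f.appTop b, ?_, ?_⟩
  · rw [← Scheme.preimage_basicOpen_top]; exact hxb
  · have hle : X.basicOpen (f.appTop b) ≤ f ⁻¹ᵁ V i := by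
      rw [← Scheme.preimage_basicOpen_top]; exact f.preimage_mono hbV
    have hc : IsCompact (X.basicOpen (f.appTop b) : Set X) := by
      have := isRetrocompact_basicOpen (X := X) (f.appTop b) (hcomp i) (f ⁻¹ᵁ V i).isOpen
      rwa [Set.inter_eq_left.mpr hle] at this
    exact Groth.Agent.H1.H1_isQuasiAffine_of_le hle (hq i) hc

end Groth.Agent.S10967
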