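import Groth.Statements.S10975
import Mathlib

set_option autoImplicit false
open FunFld

namespace Groth.Agent.S10975

/-- `A(D₁ ⊔ D₂) = A(D₁) + A(D₂)` for divisors of a function field of one variable. -/
theorem result (k K : Type*) [Field k] [Field K] [Algebra k K] (D₁ D₂ : FunFld.Divisor k K) :
    FunFld.AD (D₁ ⊔ D₂) = FunFld.AD D₁ ⊔ FunFld.AD D₂ := by
  classical
  apply le_antisymm
  · intro a ha
    have ha' : ∀ P : FunFld.Place k K, P.1 (a P) ≤ WithZero.exp ((D₁ ⊔ D₂) P) := ha
    rw [Submodule.mem_sup]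
    refine ⟨fun P => if D₂ P ≤ D₁ P then a P else 0, ?_, fun P => if D₂ P ≤ D₁ P then 0 else a P, ?_, ?_⟩
    · intro P
      show P.1 (if D₂ P ≤ D₁ P then a P else 0) ≤ WithZero.exp (D₁ P)
      split_ifs with h
      · have := ha' P
        rwa [Finsupp.sup_apply, sup_eq_left.mpr h] at this
      · simp
    · intro P
      show P.1 (if D₂ P ≤ D₁ P then 0 else a P) ≤ WithZero.exp (D₂ P)
      split_ifs with h
      · simp
      · have := ha' P
        rwa [Finsupp.sup_apply, sup_eq_right.mpr (le_of_not_ge h)] at this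
    · funext P
      show (if D₂ P ≤ D₁ P then a P else 0) + (if D₂ P ≤ D₁ P then 0 else a P) = a P
      split_ifs <;> simp
  · refine sup_le ?_ ?_
    · intro a ha P
      have ha' : P.1 (a P) ≤ WithZero.exp (D₁ P) := ha P
      refine ha'.trans ?_
      rw [Finsupp.sup_apply]
      exact WithZero.exp_le_exp.mpr le_sup_left
    · intro a ha P
      have ha' : P.1 (a P) ≤ WithZero.exp (D₂ P) := ha P
      refine ha'.trans ?_
      rw [Finsupp.sup_apply]
      exact WithZero.exp_le_exp.mpr le_sup_right

end Groth.Agent.S10975
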