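import Groth.Statements.S10986
import Mathlib

set_option autoImplicit false
open FunFld

namespace Groth.Agent.S10986

/-- `L(D) · W(C) ⊆ W(C - D)`: if `x ∈ L(D)` and `ω` vanishes on `A(C) + K` then `xω` vanishes on `A(C -
D) + K`. -/
theorem result (k K : Type*) [Field k] [Field K] [Algebra k K]
    (C D : FunFld.Divisor k K) (x : K) (hxD : x ∈ FunFld.L D)
    (hx : ∀ a ∈ FunFld.adele k K, x • a ∈ FunFld.adele k K)
    (ω : Module.Dual k (FunFld.adele k K)) (hω : ω ∈ FunFld.WD C) :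
    FunFld.mulW x hx ω ∈ FunFld.WD (C - D) := by
  have hω' : ∀ b ∈ FunFld.ADK C, ω b = 0 := (Submodule.mem_dualAnnihilator _).mp hω
  refine (Submodule.mem_dualAnnihilator _).mpr ?_
  intro b hb
  have hmul : FunFld.mulW x hx ω b = ω ⟨x • (b : FunFld.Place k K → K), hx _ b.2⟩ := rfl
  rw [hmul]
  apply hω'
  have hb' : (b : FunFld.Place k K → K) ∈ FunFld.AD (C - D) ⊔ LinearMap.range (FunFld.diag k K) := hb
  show x • (b : FunFld.Place k K → K) ∈ FunFld.AD C ⊔ LinearMap.range (FunFld.diag k K)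
  obtain ⟨a, ha, d, ⟨y, rfl⟩, hab⟩ := Submodule.mem_sup.mp hb'
  rw [← hab, smul_add]
  refine Submodule.add_mem_sup ?_ ?_
  · intro P
    have h1 : P.1 (a P) ≤ WithZero.exp ((C - D) P) := ha P
    have h2 : P.1 x ≤ WithZero.exp (D P) := hxD P
    show P.1 (x • a P) ≤ WithZero.exp (C P)
    rw [smul_eq_mul, map_mul]
    calc P.1 x * P.1 (a P) ≤ WithZero.exp (D P) * WithZero.exp ((C - D) P) := mul_le_mul' h2 h1
      _ = WithZero.exp (C P) := by
        rw [← WithZero.exp_add, Finsupp.sub_apply]; congr 1; ring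
  · refine ⟨x * y, ?_⟩
    funext P
    show x * y = x • y
    rw [smul_eq_mul]

end Groth.Agent.S10986
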