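import Groth.Statements.S11017
import Mathlib

set_option autoImplicit false
open FunFld

namespace Groth.Agent.S11017

/-- For a Weil differential `ω` with divisor `C`, `ord_P [ω] ≥ e` iff `ω` kills every repartition
concentrated at `P` with `P`-component of order at least `-e`. -/
theorem result (k K : Type*) [Field k] [Field K] [Algebra k K] (ω : Module.Dual k (FunFld.adele k K)) (C : FunFld.Divisor k K) (hω : FunFld.IsDivOf ω C)
    (P : FunFld.Place k K) (e : ℤ) :
    e ≤ C P ↔ ∀ (a : FunFld.Place k K → K) (ha : a ∈ FunFld.adele k K),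
      (∀ Q, Q ≠ P → a Q = 0) → P.1 (a P) ≤ WithZero.exp e → ω ⟨a, ha⟩ = 0 := by
  classical
  have hωC : ∀ b ∈ FunFld.ADK C, ω b = 0 :=
    (Submodule.mem_dualAnnihilator _).mp ((hω C).mpr le_rfl)
  constructor
  · intro he a ha hoff hP
    apply hωC
    show a ∈ FunFld.AD C ⊔ LinearMap.range (FunFld.diag k K)
    apply Submodule.mem_sup_left
    intro Q
    by_cases hQ : Q = P
    · subst hQ
      exact hP.trans (WithZero.exp_le_exp.mpr he)
    · rw [hoff Q hQ]; simp
  · intro h
    by_contra hlt
    push Not at hlt
    set E : FunFld.Divisor k K := C.update P e with hE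
    have hEP : E P = e := by simp [hE]
    have hEQ : ∀ Q, Q ≠ P → E Q = C Q := fun Q hQ => by simp [hE, Finsupp.update_apply, hQ]
    have hωE : ω ∈ FunFld.WD E := by
      refine (Submodule.mem_dualAnnihilator _).mpr ?_
      intro b hb
      have hb' : (b : FunFld.Place k K → K) ∈ FunFld.AD E ⊔ LinearMap.range (FunFld.diag k K) := hb
      obtain ⟨a, ha, d, ⟨y, rfl⟩, hab⟩ := Submodule.mem_sup.mp hb'
      have ha' : ∀ Q : FunFld.Place k K, Q.1 (a Q) ≤ WithZero.exp (E Q) := ha
      let a'' : FunFld.Place k K → K := fun Q => if Q = P then a P else 0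
      have ha''mem : a'' ∈ FunFld.adele k K := by
        show ∀ᶠ Q : FunFld.Place k K in Filter.cofinite, Q.1 (a'' Q) ≤ 1
        rw [Filter.eventually_cofinite]
        refine (Set.finite_singleton P).subset ?_
        intro Q hQ
        by_contra hne
        apply hQ
        have hne' : Q ≠ P := hne
        simp [a'', hne']
      have h1 : ω ⟨a'', ha''mem⟩ = 0 := by
        apply h a'' ha''mem
        · intro Q hQ
          simp [a'', hQ]
        · have := ha' P
          rw [hEP] at this
          simpa [a''] using this
      have h2 : b - ⟨a'', ha''mem⟩ ∈ FunFld.ADK C := by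
        show (b : FunFld.Place k K → K) - a'' ∈ FunFld.AD C ⊔ LinearMap.range (FunFld.diag k K)
        rw [← hab]
        have : a + (FunFld.diag k K) y - a'' = (a - a'') + (FunFld.diag k K) y := by abel
        rw [this]
        refine Submodule.add_mem_sup ?_ ⟨y, rfl⟩
        intro Q
        by_cases hQ : Q = P
        · subst hQ
          simp [a'']
        · have := ha' Q
          rw [hEQ Q hQ] at this
          simpa [a'', hQ] using this
      have h3 : ω b = ω (b - ⟨a'', ha''mem⟩) + ω ⟨a'', ha''mem⟩ := by
        rw [← map_add]; congr 1; abel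
      rw [h3, hωC _ h2, h1, add_zero]
    have hle : E ≤ C := (hω E).mp hωE
    have := hle P
    rw [hEP] at this
    exact absurd this (not_le.mpr hlt)

end Groth.Agent.S11017
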