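import Groth.Statements.S11043
import Mathlib
import Groth.Agent.Lib.helper7.RootsProd

set_option autoImplicit false
open FunFld

namespace Groth.Agent.S11043

/-- For positive integers `n`, `d` with `e = gcd(n, d)`, in `ℂ[t]` one has `(1 - t^{nd/e})^e = ∏_{θⁿ =
1} (1 - (θ t)^d)`, the product over the complex `n`-th roots of unity. -/
theorem result (n d : ℕ) (hn : 0 < n) (hd : 0 < d) :
    ((1 : Polynomial ℂ) - Polynomial.X ^ (n * d / Nat.gcd n d)) ^ Nat.gcd n d =
      ∏ θ ∈ Polynomial.nthRootsFinset n (1 : ℂ),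
        (1 - Polynomial.C (θ ^ d) * Polynomial.X ^ d) := by
  classical
  apply Polynomial.funext
  intro z
  set g := Nat.gcd n d with hg
  have hgpos : 0 < g := Nat.gcd_pos_of_pos_left _ hn
  set n' := n / g with hn'
  have hn'g : n' * g = n := Nat.div_mul_cancel (Nat.gcd_dvd_left n d)
  have hn'pos : 0 < n' := Nat.div_pos (Nat.le_of_dvd hn (Nat.gcd_dvd_left n d)) hgpos
  have hexp : n * d / g = d * n' := by
    rw [← hn'g, mul_comm n' g, mul_assoc, Nat.mul_div_cancel_left _ hgpos, mul_comm]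
  set ξ : ℂ := Complex.exp (2 * Real.pi * Complex.I / n) with hξdef
  have hξ : IsPrimitiveRoot ξ n := Complex.isPrimitiveRoot_exp n hn.ne'
  have hρ : IsPrimitiveRoot (ξ ^ d) n' := by
    have h1 : orderOf (ξ ^ d) = n' := by
      rw [orderOf_pow' _ hd.ne', ← hξ.eq_orderOf]
    rw [← h1]
    exact IsPrimitiveRoot.orderOf _
  rw [Polynomial.eval_prod]
  simp only [Polynomial.eval_pow, Polynomial.eval_sub, Polynomial.eval_one, Polynomial.eval_X,
    Polynomial.eval_mul, Polynomial.eval_C]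
  rw [Groth.Agent.Lib.helper7.H7_prod_nthRoots hn hξ (fun θ => 1 - θ ^ d * z ^ d), hexp, ← hn'g]
  have hper : ∀ j, (fun j => 1 - (ξ ^ j) ^ d * z ^ d) (j + n') = (fun j => 1 - (ξ ^ j) ^ d * z ^ d) j := by
    intro j
    show 1 - (ξ ^ (j + n')) ^ d * z ^ d = 1 - (ξ ^ j) ^ d * z ^ d
    have : (ξ ^ (j + n')) ^ d = (ξ ^ j) ^ d := by
      rw [pow_add, mul_pow, ← pow_mul ξ n' d, mul_comm n' d, pow_mul ξ d n', hρ.pow_eq_one, mul_one]
    rw [this]
  rw [Groth.Agent.Lib.helper7.H7_prod_periodic (fun j => 1 - (ξ ^ j) ^ d * z ^ d) n' hper g]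
  congr 1
  have h2 := hρ.pow_sub_pow_eq_prod_sub_mul 1 (z ^ d) hn'pos
  rw [one_pow, Groth.Agent.Lib.helper7.H7_prod_nthRoots hn'pos hρ (fun θ => 1 - θ * z ^ d)] at h2
  rw [pow_mul, h2]
  refine Finset.prod_congr rfl (fun j _ => ?_)
  rw [← pow_mul, ← pow_mul, mul_comm j d]

end Groth.Agent.S11043
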