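import Groth.Statements.S11049
import Mathlib

set_option autoImplicit false
open CAlg

namespace Groth.Agent.S11049

/-- For `k`-algebras `S ⊆ R` with `R` an integral domain and a nonzero `x ∈ S`, if `R/S` and `R/Rx` are
finite-dimensional over `k` then `dim_k R/Rx = dim_k S/Sx`. (The published statement allows `x = 0`;
then `R` is a field finite over `k` and the two sides are `dim_k R` and `dim_k S`, which differ for
`S = k ⊊ R`; the published proof multiplies by `x` as an injection, so `x ≠ 0` is assumed here.) -/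
theorem result
    (k R : Type*) [Field k] [CommRing R]
    [IsDomain R] [Algebra k R] (S : Subalgebra k R) (x : S) (hx : (x : R) ≠ 0)
    [Module.Finite k (R ⧸ Subalgebra.toSubmodule S)]
    [Module.Finite k (R ⧸ Ideal.span {(x : R)})] :
    Module.finrank k (R ⧸ Ideal.span {(x : R)}) = Module.finrank k (S ⧸ Ideal.span {x}) := by
  classical
  set Sm := Subalgebra.toSubmodule S with hSm
  let mx : R →ₗ[k] R := LinearMap.mulLeft k (x : R)
  let N : Submodule k R := Sm.map mx
  let T : Submodule k R := (Ideal.span {(x : R)}).restrictScalars k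
  have hNS : N ≤ Sm := by
    rintro _ ⟨s, hs, rfl⟩
    exact S.mul_mem x.2 hs
  have hNT : N ≤ T := by
    rintro _ ⟨s, hs, rfl⟩
    change (x : R) * s ∈ Ideal.span {(x : R)}
    exact Ideal.mul_mem_right _ _ (Ideal.subset_span rfl)
  let f : R →ₗ[k] (R ⧸ N) := N.mkQ ∘ₗ mx
  let g : S →ₗ[k] (R ⧸ N) := N.mkQ ∘ₗ S.val.toLinearMap
  have hkerf : LinearMap.ker f = Sm := by
    ext r
    simp only [LinearMap.mem_ker, f, LinearMap.comp_apply, Submodule.mkQ_apply,
      Submodule.Quotient.mk_eq_zero]
    constructor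
    · rintro ⟨s, hs, h⟩
      have : s = r := mul_left_cancel₀ hx h
      rw [← this]; exact hs
    · intro hr
      exact ⟨r, hr, rfl⟩
  have hrangef : LinearMap.range f = T.map N.mkQ := by
    ext y
    constructor
    · rintro ⟨r, rfl⟩
      refine ⟨(x : R) * r, ?_, rfl⟩
      change (x : R) * r ∈ Ideal.span {(x : R)}
      exact Ideal.mul_mem_right _ _ (Ideal.subset_span rfl)
    · rintro ⟨t, ht, rfl⟩
      have ht' : t ∈ Ideal.span {(x : R)} := ht
      obtain ⟨a, rfl⟩ := Ideal.mem_span_singleton'.1 ht'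
      exact ⟨a, by simp [f, mx, mul_comm]⟩
  have hrangeg : LinearMap.range g = Sm.map N.mkQ := by
    ext y
    constructor
    · rintro ⟨s, rfl⟩
      exact ⟨(s : R), s.2, rfl⟩
    · rintro ⟨t, ht, rfl⟩
      exact ⟨⟨t, ht⟩, rfl⟩
  have hkerg : LinearMap.ker g = (Ideal.span {x}).restrictScalars k := by
    ext s
    simp only [LinearMap.mem_ker, g, LinearMap.comp_apply, Submodule.mkQ_apply,
      Submodule.Quotient.mk_eq_zero, Submodule.restrictScalars_mem]
    constructor
    · rintro ⟨s', hs', h⟩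
      rw [Ideal.mem_span_singleton']
      refine ⟨⟨s', hs'⟩, ?_⟩
      apply Subtype.ext
      simp only [MulMemClass.coe_mul]
      rw [mul_comm]
      exact h
    · intro h
      obtain ⟨a, rfl⟩ := Ideal.mem_span_singleton'.1 h
      exact ⟨(a : R), a.2, by simp [mx, mul_comm]⟩
  let e1 : (R ⧸ Sm) ≃ₗ[k] LinearMap.range f :=
    (Submodule.quotEquivOfEq _ _ hkerf.symm).trans f.quotKerEquivRange
  let e2 : ((R ⧸ N) ⧸ T.map N.mkQ) ≃ₗ[k] (R ⧸ T) := Submodule.quotientQuotientEquivQuotient N T hNT
  let e3 : (R ⧸ T) ≃ₗ[k] (R ⧸ Ideal.span {(x : R)}) :=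
    Submodule.Quotient.restrictScalarsEquiv k _
  let e4 : ((R ⧸ N) ⧸ Sm.map N.mkQ) ≃ₗ[k] (R ⧸ Sm) := Submodule.quotientQuotientEquivQuotient N Sm hNS
  let e5 : (S ⧸ Ideal.span {x}) ≃ₗ[k] LinearMap.range g :=
    ((Submodule.Quotient.restrictScalarsEquiv k (Ideal.span {x})).symm.trans
      (Submodule.quotEquivOfEq _ _ hkerg.symm)).trans g.quotKerEquivRange
  have hf1 : Module.Finite k (LinearMap.range f) := Module.Finite.equiv e1
  have hf2 : Module.Finite k ((R ⧸ N) ⧸ LinearMap.range f) := by
    rw [hrangef]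
    exact Module.Finite.equiv (e2.trans e3).symm
  have hf3 : Module.Finite k (R ⧸ N) := Module.Finite.of_submodule_quotient (LinearMap.range f)
  have h1 := Submodule.finrank_quotient_add_finrank (LinearMap.range f)
  have h2 := Submodule.finrank_quotient_add_finrank (LinearMap.range g)
  have h3 : Module.finrank k (LinearMap.range f) = Module.finrank k (R ⧸ Sm) := e1.finrank_eq.symm
  have h4 : Module.finrank k ((R ⧸ N) ⧸ LinearMap.range g) = Module.finrank k (R ⧸ Sm) := by
    rw [hrangeg]; exact e4.finrank_eq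
  have h5 : Module.finrank k ((R ⧸ N) ⧸ LinearMap.range f) =
      Module.finrank k (R ⧸ Ideal.span {(x : R)}) := by
    rw [hrangef]; exact (e2.trans e3).finrank_eq
  have h6 : Module.finrank k (S ⧸ Ideal.span {x}) = Module.finrank k (LinearMap.range g) :=
    e5.finrank_eq
  omega

end Groth.Agent.S11049
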