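import Groth.Statements.S11079
import Mathlib
import Groth.Agent.Lib.helper6.Hilbert90GL

set_option autoImplicit false
universe u
open CAlg

namespace Groth.Agent.S11079

/-- Let L/K be a finite Galois extension of fields, n a natural number, and B a map from the Galois
group of L over K to the invertible n × n matrices over L such that B(σ) · σ(B(τ)) = B(στ) for all
σ, τ, where σ acts on matrices entrywise and στ is the automorphism applying τ first. Then there is
an invertible matrix A over L with B(σ) = A⁻¹ · σ(A) for every σ; that is, every 1-cocycle of the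
Galois group with values in GL_n(L) is a coboundary. -/
theorem result (K L : Type u) [Field K] [Field L]
    [Algebra K L] [FiniteDimensional K L] [IsGalois K L] (n : ℕ)
    (B : (L ≃ₐ[K] L) → GL (Fin n) L)
    (hB : ∀ σ τ : L ≃ₐ[K] L,
      (B σ : Matrix (Fin n) (Fin n) L) * (B τ : Matrix (Fin n) (Fin n) L).map σ = (B (σ * τ) : Matrix (Fin n) (Fin n) L)) :
    ∃ A : GL (Fin n) L, ∀ σ : L ≃ₐ[K] L,
      (B σ : Matrix (Fin n) (Fin n) L) = ((A⁻¹ : GL (Fin n) L) : Matrix (Fin n) (Fin n) L) * (A : Matrix (Fin n) (Fin n) L).map σ := by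
  classical
  have hmap1 : ∀ M : Matrix (Fin n) (Fin n) L, M.map (1 : L ≃ₐ[K] L) = M := by
    intro M; ext i j; simp
  have h1 : (B 1 : Matrix (Fin n) (Fin n) L) = 1 := by
    have h := hB 1 1
    rw [hmap1, mul_one] at h
    have h2 : (B 1 * B 1 : GL (Fin n) L) = B 1 := Units.ext (by simpa using h)
    have h3 : B 1 = 1 := by
      have := congrArg (fun g => (B 1)⁻¹ * g) h2
      simpa using this
    rw [h3]; rfl
  obtain ⟨M, hMu, hM⟩ := Groth.Agent.Lib.helper6.H6_hilbert90_matrix
    (fun σ => (B σ : Matrix (Fin n) (Fin n) L)) hB h1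
  obtain ⟨Mu, rfl⟩ := hMu
  refine ⟨Mu⁻¹, fun σ => ?_⟩
  rw [inv_inv]
  have hM' := hM σ
  -- (Mu.map σ) * (Mu⁻¹.map σ) = 1
  have hinv : (Mu : Matrix (Fin n) (Fin n) L).map σ * ((Mu⁻¹ : GL (Fin n) L) : Matrix (Fin n) (Fin n) L).map σ = 1 := by
    have := congrArg (fun X : Matrix (Fin n) (Fin n) L => X.map σ) (Units.mul_inv Mu)
    rw [Matrix.map_mul] at this
    rw [this]
    ext i j
    simp [Matrix.one_apply, apply_ite]
  calc (B σ : Matrix (Fin n) (Fin n) L)
      = (B σ : Matrix (Fin n) (Fin n) L) * ((Mu : Matrix (Fin n) (Fin n) L).map σ * ((Mu⁻¹ : GL (Fin n) L) : Matrix (Fin n) (Fin n) L).map σ) := by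
        rw [hinv, mul_one]
    _ = (Mu : Matrix (Fin n) (Fin n) L) * ((Mu⁻¹ : GL (Fin n) L) : Matrix (Fin n) (Fin n) L).map σ := by
        rw [← mul_assoc, hM']

end Groth.Agent.S11079
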