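import Groth.Statements.S11080
import Mathlib

set_option autoImplicit false
universe u
open CAlg

namespace Groth.Agent.S11080

/-- Valuation rings over a curve: let A be a Dedekind domain with fraction field K. A valuation subring
O of K contains A and is different from K if and only if O is the valuation ring of the v-adic
valuation of K at some nonzero prime v of A (equivalently O is the local ring of A at a maximal
ideal, a discrete valuation ring). (The published statement takes A to be the coordinate ring of a
nonsingular affine curve over an algebraically closed field, which is such a Dedekind domain; its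
proof uses only that the local rings of A at nonzero primes are discrete valuation rings and that
nonzero primes are maximal.) -/
theorem result (A K : Type u) [CommRing A]
    [IsDedekindDomain A] [Field K] [Algebra A K] [IsFractionRing A K] (O : ValuationSubring K) :
    ((algebraMap A K).range ≤ O.toSubring ∧ O ≠ ⊤) ↔
      ∃ v : IsDedekindDomain.HeightOneSpectrum A, O = (v.valuation K).valuationSubring := by
  constructor
  · rintro ⟨hA, hO⟩
    have hmem : ∀ a : A, algebraMap A K a ∈ O := fun a => hA ⟨a, rfl⟩
    let φ : A →+* O := (algebraMap A K).codRestrict O.toSubring hmem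
    have hinv : ∀ s : A, ¬ (φ s ∈ IsLocalRing.maximalIdeal O) → (algebraMap A K s)⁻¹ ∈ O := by
      intro s hs
      have hu : IsUnit (φ s) := by
        by_contra h
        exact hs ((IsLocalRing.mem_maximalIdeal _).2 h)
      obtain ⟨u, hu'⟩ := hu.exists_right_inv
      have h1 : algebraMap A K s * (u : K) = 1 := congrArg Subtype.val hu'
      rw [inv_eq_of_mul_eq_one_right h1]
      exact u.2
    have hprime : ((IsLocalRing.maximalIdeal O).comap φ).IsPrime := inferInstance
    have hne : (IsLocalRing.maximalIdeal O).comap φ ≠ ⊥ := by
      intro hbot
      apply hO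
      rw [eq_top_iff]
      intro x _
      obtain ⟨a, b, hb, rfl⟩ := IsFractionRing.div_surjective (A := A) x
      have hb0 : b ≠ 0 := nonZeroDivisors.ne_zero hb
      have hbn : ¬ (φ b ∈ IsLocalRing.maximalIdeal O) := by
        intro hb'
        have hb2 : b ∈ (IsLocalRing.maximalIdeal O).comap φ := hb'
        rw [hbot] at hb2
        exact hb0 ((Ideal.mem_bot).1 hb2)
      rw [div_eq_mul_inv]
      exact O.mul_mem _ _ (hmem a) (hinv b hbn)
    let v : IsDedekindDomain.HeightOneSpectrum A :=
      ⟨(IsLocalRing.maximalIdeal O).comap φ, hprime, hne⟩
    have hle : IsDedekindDomain.HeightOneSpectrum.valuationSubringAtPrime K v ≤ O := by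
      rintro x ⟨a, s, hs, rfl⟩
      exact O.mul_mem _ _ (hmem a) (hinv s hs)
    have h1 := ValuationSubring.eq_of_le_of_ne_top _ hle hO
    exact ⟨v, h1.symm.trans
      (IsDedekindDomain.HeightOneSpectrum.valuationSubringAtPrime_eq_valuationSubring v)⟩
  · rintro ⟨v, rfl⟩
    refine ⟨?_, ?_⟩
    · rintro _ ⟨a, rfl⟩
      exact (Valuation.mem_valuationSubring_iff _ _).2 (v.valuation_le_one a)
    · simp only [ne_eq, Valuation.valuationSubring_eq_top_iff, not_not]; infer_instance

end Groth.Agent.S11080
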