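import Groth.Statements.S11082
import Mathlib
import Groth.Agent.Lib.helper4.KaehlerField

set_option autoImplicit false
universe u v
open CAlg

namespace Groth.Agent.S11082

/-- Let k be an algebraically closed field, F a field extension of k which is finitely generated as a
field, and x a transcendence basis of F over k indexed by a type ι. Then F is a separable algebraic
extension of the subfield k(x) generated by the family (x is a separating transcendence basis) if
and only if the differentials d(x i) form a basis of the F-vector space of Kähler differentials of F
over k, i.e. they are linearly independent over F and span it. -/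
theorem result (k : Type u) (F : Type v)
    [Field k] [IsAlgClosed k] [Field F] [Algebra k F] (hF : (⊤ : IntermediateField k F).FG)
    {ι : Type v} (x : ι → F) (hx : IsTranscendenceBasis k x) :
    Algebra.IsSeparable (IntermediateField.adjoin k (Set.range x)) F ↔
      (LinearIndependent F (fun i : ι => KaehlerDifferential.D k F (x i)) ∧
        Submodule.span F (Set.range fun i : ι => KaehlerDifferential.D k F (x i)) = ⊤) := by
  classical
  haveI : Algebra.EssFiniteType k F := IntermediateField.fg_top_iff.mp hF
  constructor
  · intro hsep
    obtain ⟨b, hb⟩ := Groth.Agent.H4.H4_kaehler_basis_of_sep x hx.1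
    have hfun : (fun i : ι => KaehlerDifferential.D k F (x i)) = b := funext (fun i => (hb i).symm)
    rw [hfun]
    exact ⟨b.linearIndependent, b.span_eq⟩
  · rintro ⟨-, hspan⟩
    haveI : Algebra.EssFiniteType (IntermediateField.adjoin k (Set.range x)) F :=
      Algebra.EssFiniteType.of_comp k (IntermediateField.adjoin k (Set.range x)) F
    have hφ : ∀ ω : Ω[F⁄k],
        KaehlerDifferential.map k (IntermediateField.adjoin k (Set.range x)) F F ω = 0 := by
      intro ω
      have hω : ω ∈ Submodule.span F (Set.range fun i : ι => KaehlerDifferential.D k F (x i)) := by
        rw [hspan]; trivial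
      induction hω using Submodule.span_induction with
      | mem ω h =>
        obtain ⟨i, rfl⟩ := h
        rw [KaehlerDifferential.map_D]
        have hxi : x i ∈ IntermediateField.adjoin k (Set.range x) :=
          IntermediateField.subset_adjoin k _ ⟨i, rfl⟩
        have : algebraMap F F (x i) = algebraMap (IntermediateField.adjoin k (Set.range x)) F ⟨x i, hxi⟩ := rfl
        rw [this, Derivation.map_algebraMap]
      | zero => rw [map_zero]
      | add a b _ _ iha ihb => rw [map_add, iha, ihb, add_zero]
      | smul c a _ ih => rw [map_smul, ih, smul_zero]
    haveI : Algebra.FormallyUnramified (IntermediateField.adjoin k (Set.range x)) F := by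
      refine ⟨⟨fun a b => ?_⟩⟩
      obtain ⟨a', rfl⟩ := KaehlerDifferential.map_surjective k
        (IntermediateField.adjoin k (Set.range x)) F a
      obtain ⟨b', rfl⟩ := KaehlerDifferential.map_surjective k
        (IntermediateField.adjoin k (Set.range x)) F b
      rw [hφ, hφ]
    exact Algebra.FormallyUnramified.isSeparable (IntermediateField.adjoin k (Set.range x)) F

end Groth.Agent.S11082
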