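import Groth.Statements.S11083
import Mathlib
import Groth.Agent.Lib.helper4.KaehlerField

set_option autoImplicit false
universe u v
open CAlg

namespace Groth.Agent.S11083

/-- Let k be an algebraically closed field, F a field extension of k which is finitely generated as a
field, and x a transcendence basis of F over k indexed by Fin d. Then the F-vector space of Kähler
differentials of F over k has F-rank exactly d: it is finite-dimensional of dimension the
transcendence degree. -/
theorem result (k : Type u) (F : Type v)
    [Field k] [IsAlgClosed k] [Field F] [Algebra k F] (hF : (⊤ : IntermediateField k F).FG)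
    (d : ℕ) (x : Fin d → F) (hx : IsTranscendenceBasis k x) :
    Module.rank F (Ω[F⁄k]) = d := by
  classical
  haveI : Algebra.EssFiniteType k F := IntermediateField.fg_top_iff.mp hF
  obtain ⟨s, hs, hsep⟩ := exists_isTranscendenceBasis_and_isSeparable_of_perfectField k F
  have hr : (s : Set F) = Set.range ((↑) : s → F) := Subtype.range_coe.symm
  rw [hr] at hsep
  obtain ⟨b, -⟩ := Groth.Agent.H4.H4_kaehler_basis_of_sep ((↑) : s → F) hs.1
  rw [← b.mk_eq_rank'']
  have h1 := hs.lift_cardinalMk_eq hx
  simpa using h1

end Groth.Agent.S11083
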