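import Groth.Statements.S11084
import Mathlib
import Groth.Agent.S11080

set_option autoImplicit false
universe u
open CAlg

namespace Groth.Agent.S11084

/-- Let k be a field and O a valuation subring of the field of rational functions k(x). Then O contains
the constants k and is different from k(x) if and only if O is the valuation ring of the P-adic
valuation at a nonzero prime P of the polynomial ring k[x], or O is the valuation ring of the
valuation at infinity (given by the degree). (The published statement has k algebraically closed, so
that these valuation rings correspond to the points of the projective line; the published proof does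
not use that k is algebraically closed. The published statement also asserts that distinct points
give distinct valuation rings, which this row does not state, and counts k(x) itself among the
valuation rings containing k; this row excludes it.) -/
theorem result (k : Type u) [Field k] [DecidableEq (RatFunc k)]
    (O : ValuationSubring (RatFunc k)) :
    ((algebraMap k (RatFunc k)).range ≤ O.toSubring ∧ O ≠ ⊤) ↔
      ((∃ v : IsDedekindDomain.HeightOneSpectrum (Polynomial k), O = (v.valuation (RatFunc k)).valuationSubring) ∨
        O = (RatFunc.inftyValuation k).valuationSubring) := by
  have key := Groth.Agent.S11080.result (Polynomial k) (RatFunc k) O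
  constructor
  · rintro ⟨hk, hO⟩
    have hk' : ∀ a : k, algebraMap k (RatFunc k) a ∈ O := fun a => hk ⟨a, rfl⟩
    by_cases hX : (RatFunc.X : RatFunc k) ∈ O
    · left
      refine key.1 ⟨?_, hO⟩
      rintro _ ⟨p, rfl⟩
      show algebraMap (Polynomial k) (RatFunc k) p ∈ O
      induction p using Polynomial.induction_on with
      | C a =>
        rw [RatFunc.algebraMap_C, ← RatFunc.algebraMap_eq_C]
        exact hk' a
      | add p q hp hq =>
        rw [map_add]
        exact O.add_mem _ _ hp hq
      | monomial n a h =>
        rw [pow_succ, ← mul_assoc, map_mul, RatFunc.algebraMap_X]
        exact O.mul_mem _ _ h hX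
    · right
      haveI : Valuation.IsTrivialOn k O.valuation := ⟨fun a ha => by
        have h1 : O.valuation (algebraMap k (RatFunc k) a) ≤ 1 :=
          (O.valuation_le_one_iff _).2 (hk' a)
        have h2 : O.valuation (algebraMap k (RatFunc k) a⁻¹) ≤ 1 :=
          (O.valuation_le_one_iff _).2 (hk' a⁻¹)
        rw [map_inv₀, map_inv₀] at h2
        have hne : algebraMap k (RatFunc k) a ≠ 0 := by
          rw [Ne, map_eq_zero]; exact ha
        have hpos : 0 < O.valuation (algebraMap k (RatFunc k) a) :=
          zero_lt_iff.2 ((Valuation.ne_zero_iff _).2 hne)
        exact le_antisymm h1 ((inv_le_one₀ hpos).1 h2)⟩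
      have hlt : 1 < O.valuation RatFunc.X := by
        rw [← not_le, ValuationSubring.valuation_le_one_iff]
        exact hX
      have he := RatFunc.valuation_isEquiv_inftyValuation_of_one_lt_valuation_X hlt
      have h3 := (Valuation.isEquiv_iff_valuationSubring _ _).1 he
      rw [ValuationSubring.valuationSubring_valuation] at h3
      exact h3
  · rintro (⟨v, hv⟩ | h)
    · obtain ⟨h1, h2⟩ := key.2 ⟨v, hv⟩
      refine ⟨?_, h2⟩
      rintro _ ⟨a, rfl⟩
      have e : algebraMap k (RatFunc k) a =
          algebraMap (Polynomial k) (RatFunc k) (Polynomial.C a) := by
        rw [RatFunc.algebraMap_C, ← RatFunc.algebraMap_eq_C]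
      rw [e]
      exact h1 ⟨_, rfl⟩
    · subst h
      refine ⟨?_, ?_⟩
      · rintro _ ⟨a, rfl⟩
        show algebraMap k (RatFunc k) a ∈ (RatFunc.inftyValuation k).valuationSubring
        rw [Valuation.mem_valuationSubring_iff]
        by_cases ha : a = 0
        · subst ha
          simp
        · exact (Valuation.IsTrivialOn.eq_one (v := RatFunc.inftyValuation k) a ha).le
      · simp only [ne_eq, Valuation.valuationSubring_eq_top_iff, not_not]; infer_instance

end Groth.Agent.S11084
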