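import Groth.Statements.S11087
import Mathlib
import Groth.Agent.Lib.helper4.FiniteHenselian
import Groth.Agent.S0505

set_option autoImplicit false
universe u
attribute [local instance] FractionRing.liftAlgebra
open CAlg

namespace Groth.Agent.S11087

/-- Let A be a complete discrete valuation ring and K a perfect field contained in A such that K → A →
A/m is bijective. Let B be a Dedekind domain which is a finite torsion-free A-algebra with fraction
field separable over that of A (the integral closure of A in a finite separable extension of its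
fraction field). Then for every maximal ideal M of B and every b in B there is exactly one element c
of B which is algebraic over K and congruent to b modulo M; in other words the algebraic closure of
K in B is a subfield mapping isomorphically onto B/M. -/
theorem result (K A B : Type u) [Field K]
    [PerfectField K] [CommRing A] [IsDomain A] [IsDiscreteValuationRing A]
    [IsAdicComplete (IsLocalRing.maximalIdeal A) A]
    [Algebra K A] (hK : Function.Bijective ((IsLocalRing.residue A).comp (algebraMap K A)))
    [CommRing B] [IsDedekindDomain B] [Algebra A B] [Module.Finite A B] [Module.IsTorsionFree A B]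
    [Algebra.IsSeparable (FractionRing A) (FractionRing B)] [Algebra K B] [IsScalarTower K A B]
    (M : Ideal B) [M.IsMaximal] (b : B) :
    ∃! c : B, IsAlgebraic K c ∧ b - c ∈ M := by
  classical
  haveI : HenselianLocalRing A := Groth.Agent.H4.H4_henselianLocalRing_of_henselianRing A
  haveI : IsLocalRing B := Groth.Agent.H4.H4_isLocalRing_of_finite_of_isDomain A B
  haveI hBh : HenselianLocalRing B := Groth.Agent.S0505.result A B
  have hM : M = IsLocalRing.maximalIdeal B := IsLocalRing.eq_maximalIdeal ‹M.IsMaximal›
  haveI : Algebra.IsIntegral A B := Algebra.IsIntegral.of_finite A B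
  have hcomap : Ideal.comap (algebraMap A B) (IsLocalRing.maximalIdeal B) =
      IsLocalRing.maximalIdeal A :=
    IsLocalRing.eq_maximalIdeal (Ideal.isMaximal_comap_of_isIntegral_of_isMaximal _)
  have hmB : ∀ a ∈ IsLocalRing.maximalIdeal A, algebraMap A B a ∈ IsLocalRing.maximalIdeal B := by
    intro a ha
    rw [← hcomap] at ha
    exact ha
  -- residue of b is algebraic over K
  have halgres : IsAlgebraic K (IsLocalRing.residue B b) := by
    obtain ⟨p, hpm, hpb⟩ := Algebra.IsIntegral.isIntegral (R := A) b
    have hsurj : Function.Surjective ((IsLocalRing.residue A).comp (algebraMap K A)) := hK.2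
    have hlift : p.map (IsLocalRing.residue A) ∈
        Polynomial.lifts ((IsLocalRing.residue A).comp (algebraMap K A)) := by
      rw [Polynomial.lifts_iff_coeff_lifts]
      intro n
      exact hsurj _
    obtain ⟨P₀, hP1, hP2, hP₀m⟩ := Polynomial.lifts_and_natDegree_eq_and_monic hlift (hpm.map _)
    refine ⟨P₀, hP₀m.ne_zero, ?_⟩
    -- aeval (residue b) P₀ = residue (eval₂ (algebraMap K B) b P₀)
    have h1 : Polynomial.aeval (IsLocalRing.residue B b) P₀ =
        IsLocalRing.residue B (Polynomial.eval₂ (algebraMap K B) b P₀) := by
      rw [Polynomial.hom_eval₂]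
      rfl
    rw [h1, IsLocalRing.residue_eq_zero_iff]
    -- compare with p
    have h2 : Polynomial.eval₂ (algebraMap K B) b P₀ - Polynomial.eval₂ (algebraMap A B) b p ∈
        IsLocalRing.maximalIdeal B := by
      rw [Polynomial.eval₂_eq_sum_range' (algebraMap K B) (n := p.natDegree + 1)
        (by rw [hP2, hpm.natDegree_map]; omega),
        Polynomial.eval₂_eq_sum_range' (algebraMap A B) (n := p.natDegree + 1) (by omega),
        ← Finset.sum_sub_distrib]
      refine Ideal.sum_mem _ (fun i _ => ?_)
      rw [← sub_mul]
      refine Ideal.mul_mem_right _ _ ?_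
      rw [IsScalarTower.algebraMap_apply K A B, ← map_sub]
      apply hmB
      rw [← IsLocalRing.residue_eq_zero_iff, map_sub, sub_eq_zero]
      have := congrArg (fun q => Polynomial.coeff q i) hP1
      simp only [Polynomial.coeff_map] at this
      exact this
    rw [hpb, sub_zero] at h2
    exact h2
  have hex : ∃ c : B, IsAlgebraic K c ∧ b - c ∈ M := by
    set P := minpoly K (IsLocalRing.residue B b) with hP
    have hint : IsIntegral K (IsLocalRing.residue B b) := halgres.isIntegral
    have hPirr : Irreducible P := minpoly.irreducible hint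
    have hPsep : P.Separable := PerfectField.separable_of_irreducible hPirr
    have hPm : P.Monic := minpoly.monic hint
    have hP0 : Polynomial.aeval (IsLocalRing.residue B b) P = 0 := minpoly.aeval _ _
    have hres : ∀ Q : Polynomial K, IsLocalRing.residue B ((Q.map (algebraMap K B)).eval b) =
        Polynomial.aeval (IsLocalRing.residue B b) Q := by
      intro Q
      rw [Polynomial.eval_map, Polynomial.hom_eval₂]
      rfl
    have h₁ : (P.map (algebraMap K B)).eval b ∈ IsLocalRing.maximalIdeal B := by
      rw [← IsLocalRing.residue_eq_zero_iff, hres, hP0]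
    have h₂ : IsUnit ((Polynomial.derivative (P.map (algebraMap K B))).eval b) := by
      rw [Polynomial.derivative_map]
      by_contra hnu
      have := (IsLocalRing.mem_maximalIdeal _).mpr hnu
      rw [← IsLocalRing.residue_eq_zero_iff, hres] at this
      exact hPsep.aeval_derivative_ne_zero hP0 this
    obtain ⟨c, hc, hc'⟩ := HenselianLocalRing.is_henselian (P.map (algebraMap K B)) (hPm.map _) b h₁ h₂
    refine ⟨c, ⟨P, hPm.ne_zero, ?_⟩, ?_⟩
    · rw [Polynomial.aeval_def, ← Polynomial.eval_map]
      exact hc
    · rw [hM]
      have : b - c = -(c - b) := by ring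
      rw [this]
      exact (Ideal.neg_mem_iff _).mpr hc'
  have huniq : ∀ c c' : B, IsAlgebraic K c → b - c ∈ M → IsAlgebraic K c' → b - c' ∈ M → c = c' := by
    intro c c' hc hcM hc' hc'M
    by_contra hne
    have ht : IsAlgebraic K (c - c') := hc.sub hc'
    have htM : c - c' ∈ M := by
      have : c - c' = (b - c') - (b - c) := by ring
      rw [this]
      exact Ideal.sub_mem _ hc'M hcM
    have htne : c - c' ≠ 0 := sub_ne_zero.mpr hne
    obtain ⟨q, hq0, hq⟩ := ht.exists_nonzero_coeff_and_aeval_eq_zero
      (mem_nonZeroDivisors_of_ne_zero htne)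
    -- q(t) = 0 ⇒ q.coeff 0 ∈ M
    have hdiv : algebraMap K B (q.coeff 0) ∈ M := by
      have h3 := Polynomial.sub_dvd_eval_sub (c - c') 0 (q.map (algebraMap K B))
      rw [Polynomial.eval_map, ← Polynomial.aeval_def, hq, sub_zero, zero_sub,
        ← Polynomial.coeff_zero_eq_eval_zero, Polynomial.coeff_map] at h3
      have h4 := Ideal.mem_of_dvd M h3 htM
      exact (Ideal.neg_mem_iff _).mp h4
    have hunit : IsUnit (algebraMap K B (q.coeff 0)) := (isUnit_iff_ne_zero.mpr hq0).map _
    exact (Ideal.IsMaximal.ne_top ‹M.IsMaximal›) (Ideal.eq_top_of_isUnit_mem _ hdiv hunit)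
  obtain ⟨c, hc1, hc2⟩ := hex
  exact ⟨c, ⟨hc1, hc2⟩, fun c' hc' => huniq c' c hc'.1 hc'.2 hc1 hc2⟩

end Groth.Agent.S11087
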