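import Groth.Statements.S11092
import Mathlib
import Groth.Agent.Lib.helper4.KaehlerField

set_option autoImplicit false
universe u v
open CAlg

namespace Groth.Agent.S11092

/-- Let k be an algebraically closed field, K a field finitely generated over k admitting a one-element
transcendence basis over k (a function field of dimension one), and L a finite extension field of K
with the compatible k-algebra structure. Then the K-linear map from the Kähler differentials of K
over k to those of L over k induced by the inclusion is either the zero map or injective, and it is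
injective if and only if L is separable over K. (The published statement takes K ⊆ L to be the
function fields of two elliptic curves related by a nonzero homomorphism; its proof uses only that
they are function fields of dimension one over k.) -/
theorem result (k : Type u) (K L : Type v)
    [Field k] [IsAlgClosed k] [Field K] [Field L] [Algebra k K] [Algebra k L] [Algebra K L]
    [IsScalarTower k K L] (hK : (⊤ : IntermediateField k K).FG)
    (hx : ∃ x : K, IsTranscendenceBasis k (fun _ : Unit => x)) [FiniteDimensional K L] :
    (KaehlerDifferential.map k k K L = 0 ∨ Function.Injective (KaehlerDifferential.map k k K L)) ∧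
      (Function.Injective (KaehlerDifferential.map k k K L) ↔ Algebra.IsSeparable K L) := by
  classical
  obtain ⟨x0, hx0⟩ := hx
  haveI : Algebra.EssFiniteType k K := IntermediateField.fg_top_iff.mp hK
  haveI : Algebra.EssFiniteType k L := Algebra.EssFiniteType.comp k K L
  have hK1 : Module.finrank K (Ω[K⁄k]) = 1 := by
    rw [Groth.Agent.H4.H4_finrank_kaehler_eq_card (fun _ : Unit => x0) hx0]
    simp
  have hy0 : IsTranscendenceBasis k (algebraMap K L ∘ (fun _ : Unit => x0)) := hx0.algebraMap_comp
  have hL1 : Module.finrank L (Ω[L⁄k]) = 1 := by
    rw [Groth.Agent.H4.H4_finrank_kaehler_eq_card _ hy0]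
    simp
  -- a generator of Ω[K/k]
  obtain ⟨v, hv0, hvgen⟩ : ∃ v : Ω[K⁄k], v ≠ 0 ∧ ∀ w : Ω[K⁄k], ∃ c : K, c • v = w := by
    obtain ⟨v, hv⟩ := finrank_eq_one_iff'.mp hK1
    exact ⟨v, hv.1, hv.2⟩
  have hsm : ∀ (c : K) (m : Ω[L⁄k]), c • m = (algebraMap K L c) • m := by
    intro c m
    rw [algebraMap_smul]
  have hinj_of_ne : KaehlerDifferential.map k k K L v ≠ 0 →
      Function.Injective (KaehlerDifferential.map k k K L) := by
    intro hfv
    rw [injective_iff_map_eq_zero]
    intro ω hω
    obtain ⟨c, rfl⟩ := hvgen ω
    rw [map_smul, hsm, smul_eq_zero] at hω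
    rcases hω with hc | hc
    · have : c = 0 := (map_eq_zero (algebraMap K L)).mp hc
      rw [this, zero_smul]
    · exact absurd hc hfv
  refine ⟨?_, ?_⟩
  · by_cases hfv : KaehlerDifferential.map k k K L v = 0
    · left
      apply LinearMap.ext
      intro ω
      obtain ⟨c, rfl⟩ := hvgen ω
      rw [map_smul, hfv, smul_zero, LinearMap.zero_apply]
    · right
      exact hinj_of_ne hfv
  · constructor
    · intro hinj
      have hfv : KaehlerDifferential.map k k K L v ≠ 0 := by
        intro h
        apply hv0
        apply hinj
        rw [h, map_zero]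
      have hsurj : Function.Surjective (KaehlerDifferential.mapBaseChange k K L) := by
        intro w
        obtain ⟨c, hc⟩ := (finrank_eq_one_iff_of_nonzero' _ hfv).mp hL1 w
        refine ⟨c ⊗ₜ v, ?_⟩
        rw [KaehlerDifferential.mapBaseChange_tmul, hc]
      haveI : Algebra.FormallyUnramified K L := by
        refine ⟨⟨fun a b => ?_⟩⟩
        obtain ⟨a', rfl⟩ := KaehlerDifferential.map_surjective k K L a
        obtain ⟨b', rfl⟩ := KaehlerDifferential.map_surjective k K L b
        obtain ⟨a'', rfl⟩ := hsurj a'
        obtain ⟨b'', rfl⟩ := hsurj b'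
        rw [(KaehlerDifferential.exact_mapBaseChange_map k K L).apply_apply_eq_zero,
          (KaehlerDifferential.exact_mapBaseChange_map k K L).apply_apply_eq_zero]
      exact Algebra.FormallyUnramified.isSeparable K L
    · intro hsep
      haveI : Algebra.FormallyEtale K L := Algebra.FormallyEtale.of_isSeparable K L
      apply hinj_of_ne
      intro h
      apply hv0
      have h1 : (KaehlerDifferential.tensorKaehlerEquivOfFormallyEtale k K L) ((1 : L) ⊗ₜ[K] v) = 0 := by
        rw [KaehlerDifferential.tensorKaehlerEquivOfFormallyEtale_apply,
          KaehlerDifferential.mapBaseChange_tmul, h, smul_zero]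
      have h2 : (1 : L) ⊗ₜ[K] v = 0 := by
        rw [← map_zero (KaehlerDifferential.tensorKaehlerEquivOfFormallyEtale k K L)] at h1
        exact (KaehlerDifferential.tensorKaehlerEquivOfFormallyEtale k K L).injective h1
      have h3 : Function.Injective (LinearMap.rTensor (Ω[K⁄k]) (Algebra.linearMap K L)) :=
        Module.Flat.rTensor_preserves_injective_linearMap _ (algebraMap K L).injective
      have h4 : (LinearMap.rTensor (Ω[K⁄k]) (Algebra.linearMap K L)) ((1 : K) ⊗ₜ[K] v) = 0 := by
        rw [LinearMap.rTensor_tmul, Algebra.linearMap_apply, map_one]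
        exact h2
      have h5 : (1 : K) ⊗ₜ[K] v = 0 := by
        rw [← map_zero (LinearMap.rTensor (Ω[K⁄k]) (Algebra.linearMap K L))] at h4
        exact h3 h4
      have h6 := congrArg (TensorProduct.lid K (Ω[K⁄k])) h5
      simpa using h6

end Groth.Agent.S11092
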