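import Groth.Statements.S11125
import Mathlib

set_option autoImplicit false
universe v u
open CategoryTheory
open CohDer

namespace Groth.Agent.S11125


open CategoryTheory CategoryTheory.Limits Opposite


open CategoryTheory CategoryTheory.Limits CochainComplex HomComplex

section
variable {A : Type u} [Category.{v} A] [Abelian A]

lemma degreewise (S : ShortComplex (CochainComplex A ℤ)) (hS : S.ShortExact) (n : ℤ) :
    (S.map (HomologicalComplex.eval A (ComplexShape.up ℤ) n)).ShortExact :=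
  (HomologicalComplex.shortExact_iff_degreewise_shortExact S).1 hS n

theorem forward (I : CochainComplex A ℤ) [I.IsKInjective] (hI : ∀ n : ℤ, Injective (I.X n))
    (S : ShortComplex (CochainComplex A ℤ)) (hS : S.ShortExact) (hC : S.X₃.Acyclic)
    (φ : S.X₁ ⟶ I) : ∃ ψ : S.X₂ ⟶ I, S.f ≫ ψ = φ := by
  have hmono : ∀ n, Mono (S.f.f n) := fun n => (degreewise S hS n).mono_f
  have hepi : ∀ n, Epi (S.g.f n) := fun n => (degreewise S hS n).epi_g
  -- step 1: degreewise lift
  let ψ₀f : ∀ n, S.X₂.X n ⟶ I.X n := fun n =>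
    haveI := hI n; haveI := hmono n; Injective.factorThru (φ.f n) (S.f.f n)
  have hψ₀f : ∀ n, S.f.f n ≫ ψ₀f n = φ.f n := fun n => by
    haveI := hI n; haveI := hmono n; exact Injective.comp_factorThru _ _
  let ψ₀ : Cochain S.X₂ I 0 := Cochain.ofHoms ψ₀f
  have h1 : (Cochain.ofHom S.f).comp ψ₀ (zero_add 0) = Cochain.ofHom φ := by
    ext p
    simp [ψ₀, hψ₀f]
  -- step 2
  let θ : Cochain S.X₂ I 1 := δ 0 1 ψ₀
  have h2 : (Cochain.ofHom S.f).comp θ (zero_add 1) = 0 := by
    rw [← δ_ofHom_comp, h1, δ_ofHom]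
  have h2v : ∀ p q (hpq : p + 1 = q), S.f.f p ≫ θ.v p q hpq = 0 := by
    intro p q hpq
    have := Cochain.congr_v h2 p q hpq
    simpa using this
  let γ : Cochain S.X₃ I 1 := Cochain.mk (fun p q hpq =>
    haveI : Epi (S.map (HomologicalComplex.eval A (ComplexShape.up ℤ) p)).g := (degreewise S hS p).epi_g
    (degreewise S hS p).exact.desc (θ.v p q hpq) (h2v p q hpq))
  have hγv : ∀ p q (hpq : p + 1 = q), S.g.f p ≫ γ.v p q hpq = θ.v p q hpq := by
    intro p q hpq
    haveI : Epi (S.map (HomologicalComplex.eval A (ComplexShape.up ℤ) p)).g := (degreewise S hS p).epi_g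
    exact (degreewise S hS p).exact.g_desc _ _
  have h3 : (Cochain.ofHom S.g).comp γ (zero_add 1) = θ := by
    ext p q hpq
    simp [hγv]
  -- step 3: γ is a cocycle
  have h4 : δ 1 2 γ = 0 := by
    have : (Cochain.ofHom S.g).comp (δ 1 2 γ) (zero_add 2) = 0 := by
      rw [← δ_ofHom_comp, h3, δ_δ]
    ext p q hpq
    have hv := Cochain.congr_v this p q hpq
    haveI := hepi p
    rw [← cancel_epi (S.g.f p)]
    simpa using hv
  obtain ⟨η, hη⟩ := IsKInjective.eq_δ_of_cocycle (Cocycle.mk γ 2 (by norm_num) h4) hC 0 (by norm_num)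
  have hη' : δ 0 1 η = γ := hη
  -- step 5
  let ψc : Cochain S.X₂ I 0 := ψ₀ - (Cochain.ofHom S.g).comp η (zero_add 0)
  have h5 : δ 0 1 ψc = 0 := by
    show δ 0 1 (ψ₀ - (Cochain.ofHom S.g).comp η (zero_add 0)) = 0
    rw [δ_sub, δ_ofHom_comp, hη', h3, sub_self]
  refine ⟨Cocycle.homOf (Cocycle.mk ψc 1 (by norm_num) h5), ?_⟩
  ext n
  simp only [HomologicalComplex.comp_f, Cocycle.homOf_f, Cocycle.mk_coe]
  show S.f.f n ≫ (ψ₀ - (Cochain.ofHom S.g).comp η (zero_add 0)).v n n (add_zero n) = φ.f n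
  rw [Cochain.sub_v, Preadditive.comp_sub]
  have e1 : S.f.f n ≫ ψ₀.v n n (add_zero n) = φ.f n := by simp [ψ₀, hψ₀f]
  have e2 : S.f.f n ≫ ((Cochain.ofHom S.g).comp η (zero_add 0)).v n n (add_zero n) = 0 := by
    rw [Cochain.zero_cochain_comp_v, Cochain.ofHom_v, ← Category.assoc, ← HomologicalComplex.comp_f,
      S.zero]
    simp
  rw [e1, e2, sub_zero]

lemma exact_of_contraction (S : ShortComplex A) (r : S.X₂ ⟶ S.X₁) (s : S.X₃ ⟶ S.X₂)
    (h : r ≫ S.f + S.g ≫ s = 𝟙 S.X₂) : S.Exact := by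
  rw [ShortComplex.exact_iff_exact_up_to_refinements]
  intro B x₂ hx₂
  refine ⟨B, 𝟙 B, inferInstance, x₂ ≫ r, ?_⟩
  rw [Category.id_comp, Category.assoc]
  have := congrArg (fun t => x₂ ≫ t) h
  simp only [Preadditive.comp_add, Category.comp_id] at this
  rw [← Category.assoc x₂ S.g s, hx₂, zero_comp, add_zero] at this
  exact this.symm

lemma exactAt_of_contraction (K : CochainComplex A ℤ) (i j k : ℤ)
    (hi : i + 1 = j) (hk : j + 1 = k)
    (r : K.X j ⟶ K.X i) (s : K.X k ⟶ K.X j)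
    (h : r ≫ K.d i j + K.d j k ≫ s = 𝟙 (K.X j)) : K.ExactAt j := by
  rw [HomologicalComplex.exactAt_iff' _ i j k (by simp [← hi]) (by simp [← hk])]
  exact exact_of_contraction _ r s h

lemma cone_id_exactAt (K : CochainComplex A ℤ) (n : ℤ) : (mappingCone (𝟙 K)).ExactAt n := by
  refine exactAt_of_contraction _ (n-1) n (n+1) (by omega) rfl
    ((mappingCone.snd (𝟙 K)).v n n (add_zero n) ≫ (mappingCone.inl (𝟙 K)).v n (n-1) (by omega))
    ((mappingCone.snd (𝟙 K)).v (n+1) (n+1) (add_zero _) ≫ (mappingCone.inl (𝟙 K)).v (n+1) n (by omega)) ?_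
  rw [Category.assoc, mappingCone.inl_v_d (𝟙 K) n (n-1) (n+1) (by omega) (by omega),
    ← Category.assoc, mappingCone.d_snd_v (𝟙 K) n (n+1) rfl]
  simp only [HomologicalComplex.id_f, Category.id_comp, Category.comp_id, Preadditive.comp_sub,
    Preadditive.add_comp, Category.assoc]
  rw [← mappingCone.id_X (𝟙 K) n (n+1) rfl]
  abel

theorem kinj_of_LP (I : CochainComplex A ℤ)
    (LP : ∀ (S : ShortComplex (CochainComplex A ℤ)), S.ShortExact → S.X₃.Acyclic →
        ∀ φ : S.X₁ ⟶ I, ∃ ψ : S.X₂ ⟶ I, S.f ≫ ψ = φ) : I.IsKInjective := by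
  constructor
  intro K f hK
  let S : ShortComplex (CochainComplex A ℤ) :=
    ShortComplex.mk (mappingCone.inr (𝟙 K)) (cokernel.π _) (cokernel.condition _)
  have hmono : Mono (mappingCone.inr (𝟙 K)) := by
    apply HomologicalComplex.mono_of_mono_f
    intro n
    exact mono_of_mono_fac (mappingCone.inr_f_snd_v (𝟙 K) n)
  have hS : S.ShortExact :=
    ShortComplex.ShortExact.mk' (S.exact_of_g_is_cokernel (cokernelIsCokernel _)) hmono
      (inferInstanceAs (Epi (cokernel.π _)))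
  have hX2 : S.X₂.Acyclic := cone_id_exactAt K
  have hX3 : S.X₃.Acyclic := fun n => by
    rw [HomologicalComplex.exactAt_iff_isZero_homology]
    have ex := hS.homology_exact₃ n (n+1) rfl
    apply ex.isZero_of_both_zeros
    · apply IsZero.eq_of_src
      exact (HomologicalComplex.exactAt_iff_isZero_homology _ _).1 (hX2 n)
    · apply IsZero.eq_of_tgt
      exact (HomologicalComplex.exactAt_iff_isZero_homology _ _).1 (hK (n+1))
  obtain ⟨ψ, hψ⟩ := LP S hS hX3 f
  let α : Cochain K I (-1) := (mappingCone.inl (𝟙 K)).comp (Cochain.ofHom ψ) (add_zero _)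
  have hα : δ (-1) 0 α = Cochain.ofHom f := by
    show δ (-1) 0 ((mappingCone.inl (𝟙 K)).comp (Cochain.ofHom ψ) (add_zero _)) = _
    rw [δ_comp_ofHom, mappingCone.δ_inl, Category.id_comp, ← Cochain.ofHom_comp]
    congr 1
  exact ⟨(Cochain.equivHomotopy f 0).symm ⟨α, by rw [hα, Cochain.ofHom_zero, add_zero]⟩⟩

open HomologicalComplex in
lemma double_exactAt (Z : A) (n k : ℤ) :
    (double (𝟙 Z) (show (ComplexShape.up ℤ).Rel n (n+1) from rfl)).ExactAt k := by
  have hne : n ≠ n + 1 := by omega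
  have hrel : (ComplexShape.up ℤ).Rel n (n+1) := rfl
  by_cases h0 : k = n
  · subst h0
    refine exactAt_of_contraction _ (k-1) k (k+1) (by omega) rfl 0
      ((doubleXIso₁ (𝟙 Z) hrel hne).hom ≫ (doubleXIso₀ (𝟙 Z) hrel).inv) ?_
    rw [double_d (𝟙 Z) hrel hne]
    simp
  · by_cases h1 : k = n + 1
    · subst h1
      refine exactAt_of_contraction _ n (n+1) (n+1+1) rfl rfl
        ((doubleXIso₁ (𝟙 Z) hrel hne).hom ≫ (doubleXIso₀ (𝟙 Z) hrel).inv) 0 ?_
      rw [double_d (𝟙 Z) hrel hne]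
      simp
    · exact ShortComplex.exact_of_isZero_X₂ _ (isZero_double_X (𝟙 Z) hrel k h0 h1)

open HomologicalComplex in
theorem injective_of_LP (I : CochainComplex A ℤ)
    (LP : ∀ (S : ShortComplex (CochainComplex A ℤ)), S.ShortExact → S.X₃.Acyclic →
        ∀ φ : S.X₁ ⟶ I, ∃ ψ : S.X₂ ⟶ I, S.f ≫ ψ = φ) (n : ℤ) : Injective (I.X n) := by
  constructor
  intro X Y a u _
  have hne : n ≠ n + 1 := by omega
  have hrel : (ComplexShape.up ℤ).Rel n (n+1) := rfl
  let DX := double (𝟙 X) hrel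
  let DY := double (𝟙 Y) hrel
  let F : DX ⟶ DY := mkHomFromDouble hrel hne (u ≫ (doubleXIso₀ (𝟙 Y) hrel).inv)
    (u ≫ (doubleXIso₀ (𝟙 Y) hrel).inv ≫ DY.d n (n+1)) (by simp) (by simp)
  let Φ : DX ⟶ I := mkHomFromDouble hrel hne a (a ≫ I.d n (n+1)) (by simp) (by simp)
  have hF0 : F.f n = (doubleXIso₀ (𝟙 X) hrel).hom ≫ u ≫ (doubleXIso₀ (𝟙 Y) hrel).inv :=
    mkHomFromDouble_f₀ _ _ _ _ _ _
  have hF1 : F.f (n+1) = (doubleXIso₁ (𝟙 X) hrel hne).hom ≫
      u ≫ (doubleXIso₀ (𝟙 Y) hrel).inv ≫ DY.d n (n+1) :=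
    mkHomFromDouble_f₁ _ _ _ _ _ _
  have hΦ0 : Φ.f n = (doubleXIso₀ (𝟙 X) hrel).hom ≫ a := mkHomFromDouble_f₀ _ _ _ _ _ _
  have hmono : Mono F := by
    apply HomologicalComplex.mono_of_mono_f
    intro k
    by_cases h0 : k = n
    · subst h0
      rw [hF0]
      infer_instance
    · by_cases h1 : k = n + 1
      · subst h1
        rw [hF1, double_d (𝟙 Y) hrel hne]
        infer_instance
      · exact (isZero_double_X (𝟙 X) hrel k h0 h1).mono _
  let S : ShortComplex (CochainComplex A ℤ) := ShortComplex.mk F (cokernel.π F) (cokernel.condition F)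
  have hS : S.ShortExact :=
    ShortComplex.ShortExact.mk' (S.exact_of_g_is_cokernel (cokernelIsCokernel _)) hmono
      (inferInstanceAs (Epi (cokernel.π _)))
  have hX3 : S.X₃.Acyclic := fun k => by
    rw [HomologicalComplex.exactAt_iff_isZero_homology]
    have ex := hS.homology_exact₃ k (k+1) rfl
    apply ex.isZero_of_both_zeros
    · apply IsZero.eq_of_src
      exact (HomologicalComplex.exactAt_iff_isZero_homology _ _).1 (double_exactAt Y n k)
    · apply IsZero.eq_of_tgt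
      exact (HomologicalComplex.exactAt_iff_isZero_homology _ _).1 (double_exactAt X n (k+1))
  obtain ⟨ψ, hψ⟩ := LP S hS hX3 Φ
  refine ⟨(doubleXIso₀ (𝟙 Y) hrel).inv ≫ ψ.f n, ?_⟩
  have h1 : F.f n ≫ ψ.f n = Φ.f n := by
    rw [← HomologicalComplex.comp_f]
    exact congrArg (fun g => g.f n) hψ
  rw [hF0, hΦ0] at h1
  simp only [Category.assoc] at h1
  have := (cancel_epi (doubleXIso₀ (𝟙 X) hrel).hom).1 h1
  exact this

end

theorem main {A : Type u} [Category.{v} A] [Abelian A]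
    (I : CochainComplex A ℤ) :
    (I.IsKInjective ∧ ∀ n : ℤ, Injective (I.X n)) ↔
      ∀ (S : ShortComplex (CochainComplex A ℤ)), S.ShortExact → S.X₃.Acyclic →
        ∀ φ : S.X₁ ⟶ I, ∃ ψ : S.X₂ ⟶ I, S.f ≫ ψ = φ := by
  constructor
  · rintro ⟨h1, h2⟩ S hS hC φ
    exact forward I h2 S hS hC φ
  · intro LP
    exact ⟨kinj_of_LP I LP, injective_of_LP I LP⟩

/-- In an abelian category, a cochain complex I is K-injective with injective terms if and only if for
every short exact sequence 0 → A → B → C → 0 of cochain complexes whose third term C is acyclic,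
every chain map A → I extends to a chain map B → I. -/
theorem result {A : Type u} [Category.{v} A] [Abelian A]
    (I : CochainComplex A ℤ) :
    (I.IsKInjective ∧ ∀ n : ℤ, Injective (I.X n)) ↔
      ∀ (S : ShortComplex (CochainComplex A ℤ)), S.ShortExact → S.X₃.Acyclic →
        ∀ φ : S.X₁ ⟶ I, ∃ ψ : S.X₂ ⟶ I, S.f ≫ ψ = φ := by
  exact main I

end Groth.Agent.S11125
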