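import Groth.Statements.S1113
import Mathlib
import Groth.Agent.Lib.helper2.TStr

set_option autoImplicit false
universe w v u
open CategoryTheory CategoryTheory.Limits
open CohDer

namespace Groth.Agent.S1113

/-- Let K : ℕᵒᵖ ⥤ CochainComplex A ℤ be a sequence of cochain maps … → K₂ → K₁ → K₀ in an abelian
category with Hⁱ(K₀) = 0 for i < 0 and such that for every j < n the map Hʲ(Kⱼ₊₁) → Hʲ(Kⱼ) is zero.
Then in the derived category the composite Kₙ → K₀ factors through the canonical truncation Kₙ →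
τ_{≥ n}Kₙ. -/
theorem result {A : Type u} [Category.{v} A] [Abelian A] [HasDerivedCategory.{w} A]
    (K : ℕᵒᵖ ⥤ CochainComplex A ℤ) (n : ℕ)
    (h0 : ∀ i : ℤ, i < 0 → IsZero ((K.obj (Opposite.op 0)).homology i))
    (hz : ∀ j : ℕ, j < n → HomologicalComplex.homologyMap (K.map (homOfLE (Nat.le_succ j)).op) (j : ℤ) = 0) :
    ∃ φ : DerivedCategory.Q.obj ((K.obj (Opposite.op n)).truncGE (n : ℤ)) ⟶ DerivedCategory.Q.obj (K.obj (Opposite.op 0)),
      DerivedCategory.Q.map ((K.obj (Opposite.op n)).πTruncGE (n : ℤ)) ≫ φ = DerivedCategory.Q.map (K.map (homOfLE (Nat.zero_le n)).op) := by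
  induction n with
  | zero =>
    have hGE : (K.obj (Opposite.op 0)).IsGE ((0 : ℕ) : ℤ) := by
      rw [CochainComplex.isGE_iff]
      intro i hi
      rw [HomologicalComplex.exactAt_iff_isZero_homology]
      exact h0 i (by simpa using hi)
    have hqi : QuasiIso ((K.obj (Opposite.op 0)).πTruncGE ((0 : ℕ) : ℤ)) := inferInstance
    have : IsIso (DerivedCategory.Q.map ((K.obj (Opposite.op 0)).πTruncGE ((0 : ℕ) : ℤ))) := by
      rw [DerivedCategory.isIso_Q_map_iff_quasiIso]
      exact hqi
    refine ⟨inv (DerivedCategory.Q.map ((K.obj (Opposite.op 0)).πTruncGE ((0 : ℕ) : ℤ))), ?_⟩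
    rw [IsIso.hom_inv_id]
    have : (homOfLE (Nat.zero_le 0)).op = 𝟙 (Opposite.op 0) := Subsingleton.elim _ _
    rw [this, CategoryTheory.Functor.map_id, CategoryTheory.Functor.map_id]
  | succ n ih =>
    obtain ⟨φ, hφ⟩ := ih (fun j hj => hz j (Nat.lt_succ_of_lt hj))
    have hzn := hz n (Nat.lt_succ_self n)
    clear hz ih
    have hcomp : K.map (homOfLE (Nat.le_succ n)).op ≫ K.map (homOfLE (Nat.zero_le n)).op =
        K.map (homOfLE (Nat.zero_le (n + 1))).op := by
      rw [← K.map_comp]
      congr 1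
    generalize K.map (homOfLE (Nat.le_succ n)).op = f at hzn hcomp
    generalize K.map (homOfLE (Nat.zero_le n)).op = t at hφ hcomp
    generalize K.map (homOfLE (Nat.zero_le (n + 1))).op = t' at hcomp
    generalize K.obj (Opposite.op n) = Kn at *
    generalize K.obj (Opposite.op (n + 1)) = Kn1 at *
    generalize K.obj (Opposite.op 0) = K0 at *
    subst hcomp
    have hg : HomologicalComplex.homologyMap (CochainComplex.truncGEMap f (n : ℤ)) (n : ℤ) = 0 := by
      have h1 := congrArg (fun x => HomologicalComplex.homologyMap x (n : ℤ))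
        (CochainComplex.πTruncGE_naturality f (n : ℤ))
      simp only [HomologicalComplex.homologyMap_comp] at h1
      rw [hzn, Limits.zero_comp] at h1
      have : IsIso (HomologicalComplex.homologyMap (Kn1.πTruncGE (n : ℤ)) (n : ℤ)) := by
        rw [← quasiIsoAt_iff_isIso_homologyMap]
        infer_instance
      exact (cancel_epi _).1 (h1.trans Limits.comp_zero.symm)
    obtain ⟨δ, hδ⟩ := Groth.Agent.H2.H2_truncTriangle_dist (Kn1.truncGE (n : ℤ)) (n : ℤ)
      ((n + 1 : ℕ) : ℤ) (by push_cast; ring)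
    have hzero : DerivedCategory.Q.map ((Kn1.truncGE (n : ℤ)).ιTruncLE (n : ℤ)) ≫
        DerivedCategory.Q.map (CochainComplex.truncGEMap f (n : ℤ)) = 0 := by
      apply Groth.Agent.H2.H2_Q_hom_eq_zero_of_homology (n : ℤ)
      have h2 := (DerivedCategory.homologyFunctorFactors A (n : ℤ)).hom.naturality
        (CochainComplex.truncGEMap f (n : ℤ))
      dsimp at h2
      have h3 : (DerivedCategory.homologyFunctor A (n : ℤ)).map
          (DerivedCategory.Q.map (CochainComplex.truncGEMap f (n : ℤ))) = 0 := by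
        rw [← cancel_mono ((DerivedCategory.homologyFunctorFactors A (n : ℤ)).hom.app _), h2,
          Limits.zero_comp]
        show _ ≫ HomologicalComplex.homologyMap (CochainComplex.truncGEMap f (n : ℤ)) (n : ℤ) = 0
        rw [hg, Limits.comp_zero]
      rw [Functor.map_comp, h3, Limits.comp_zero]
    obtain ⟨ψ, hψ⟩ : ∃ ψ : DerivedCategory.Q.obj ((Kn1.truncGE (n : ℤ)).truncGE ((n + 1 : ℕ) : ℤ)) ⟶
        DerivedCategory.Q.obj K0,
        DerivedCategory.Q.map (CochainComplex.truncGEMap f (n : ℤ)) ≫ φ =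
          DerivedCategory.Q.map ((Kn1.truncGE (n : ℤ)).πTruncGE ((n + 1 : ℕ) : ℤ)) ≫ ψ :=
      Pretriangulated.Triangle.yoneda_exact₂ _ hδ
        (DerivedCategory.Q.map (CochainComplex.truncGEMap f (n : ℤ)) ≫ φ)
        (by
          show DerivedCategory.Q.map ((Kn1.truncGE (n : ℤ)).ιTruncLE (n : ℤ)) ≫
            DerivedCategory.Q.map (CochainComplex.truncGEMap f (n : ℤ)) ≫ φ = 0
          rw [← Category.assoc, hzero, Limits.zero_comp])
    refine ⟨DerivedCategory.Q.map (CochainComplex.truncGEMap (Kn1.πTruncGE (n : ℤ))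
      ((n + 1 : ℕ) : ℤ)) ≫ ψ, ?_⟩
    rw [← Category.assoc, ← Functor.map_comp, CochainComplex.πTruncGE_naturality,
      Functor.map_comp, Category.assoc, ← hψ, ← Category.assoc, ← Functor.map_comp,
      CochainComplex.πTruncGE_naturality, Functor.map_comp, Category.assoc, hφ,
      ← Functor.map_comp]

end Groth.Agent.S1113
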