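import Groth.Statements.S11131
import Mathlib
import Groth.Agent.Lib.ModSheaf

set_option autoImplicit false
universe u
open CategoryTheory
open ModSite

namespace Groth.Agent.S11131


open CategoryTheory CategoryTheory.Limits Opposite

open Groth.Agent.ModSheaf

variable {C : Type u} [SmallCategory C] {D : Type u} [SmallCategory D]
  (J : GrothendieckTopology C) (K : GrothendieckTopology D) (F : C ⥤ D)
  [F.IsContinuous J K] [F.IsCocontinuous J K]
  {S : Sheaf J RingCat.{u}} {R : Sheaf K RingCat.{u}}
  (φ : S ⟶ (F.sheafPushforwardContinuous RingCat.{u} J K).obj R)

lemma comp_eq :
    SheafOfModules.pushforward.{u} φ ⋙ SheafOfModules.toSheaf.{u} S =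
      SheafOfModules.toSheaf.{u} R ⋙ F.sheafPushforwardContinuous AddCommGrpCat.{u} J K := rfl

theorem main : (SheafOfModules.pushforward.{u} φ).IsLeftAdjoint := by
  haveI : PreservesColimitsOfSize.{u, u} (F.sheafPushforwardContinuous AddCommGrpCat.{u} J K) :=
    (F.sheafAdjunctionCocontinuous AddCommGrpCat.{u} J K).leftAdjoint_preservesColimits
  haveI : PreservesColimitsOfSize.{u, u} (SheafOfModules.pushforward.{u} φ) :=
    ⟨fun {K'} _ => ⟨fun {F'} => by
      haveI : PreservesColimit F' (SheafOfModules.pushforward.{u} φ ⋙ SheafOfModules.toSheaf.{u} S) := by
        rw [comp_eq]; infer_instance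
      haveI : ReflectsColimit (F' ⋙ SheafOfModules.pushforward.{u} φ) (SheafOfModules.toSheaf.{u} S) :=
        reflectsColimit_of_reflectsIsomorphisms _ _
      exact preservesColimit_of_reflects_of_preserves (SheafOfModules.pushforward.{u} φ)
        (SheafOfModules.toSheaf.{u} S)⟩⟩
  haveI : IsGrothendieckAbelian.{u} (SheafOfModules.{u} R) := sheafOfModulesGrothendieck R
  haveI : WellPowered.{u} (SheafOfModules.{u} R) := IsGrothendieckAbelian.wellPowered _
  haveI : WellPowered.{u} (SheafOfModules.{u} R)ᵒᵖ := Abelian.wellPowered_opposite
  exact isLeftAdjoint_of_preservesColimits_of_isSeparating (isSeparating_freeMod R) _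

/-- Let F : C ⥤ D be a functor between small sites which preserves coverings, is continuous
(precomposition with F preserves sheaves) and is cocontinuous (every covering of F y is refined by
the image of a covering of y). For sheaves of rings S on C and R on D and a ring map φ : S ⟶ F_* R,
the restriction functor from sheaves of R-modules to sheaves of S-modules (precompose with F,
restrict scalars along φ) is a left adjoint. (The published statement asks the functor to send
coverings to coverings and to preserve fibre products of members of a covering, takes commutative
structure sheaves, and also asserts that restriction commutes with sheafification of presheaves of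
modules; this row assumes only that restriction along the functor preserves sheaves, that coverings
go to coverings and that the functor is cocontinuous, and states only that the right adjoint
exists.) -/
theorem result
    {C : Type u} [SmallCategory C] {D : Type u} [SmallCategory D]
    (J : GrothendieckTopology C) (K : GrothendieckTopology D) (F : C ⥤ D)
    [F.IsContinuous J K] (hF : CoverPreserving J K F) [F.IsCocontinuous J K]
    {S : Sheaf J RingCat.{u}} {R : Sheaf K RingCat.{u}}
    (φ : S ⟶ (F.sheafPushforwardContinuous RingCat.{u} J K).obj R) :
    (SheafOfModules.pushforward.{u} φ).IsLeftAdjoint := by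
  exact main J K F φ

end Groth.Agent.S11131
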