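import Groth.Statements.S11136
import Mathlib
import Mathlib

set_option autoImplicit false
universe u v
open InvTh

namespace Groth.Agent.S11136

/-- Let a finite group G act on a Noetherian commutative ring R by ring automorphisms, with ring of
invariants A (A → R injective with image the fixed elements). When the prime spectrum of A is
connected, any two connected components of Spec R are exchanged by some element of G: for all points
x, y of Spec R there is g in G whose induced self-map of Spec R carries the connected component of x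
onto the connected component of y. -/
theorem result
    (A : Type u) (R : Type v) [CommRing A] [CommRing R] [Algebra A R] [IsNoetherianRing R]
    (G : Type u) [Group G] [Finite G] [MulSemiringAction G R] [SMulCommClass G A R]
    [Algebra.IsInvariant A R G] [FaithfulSMul A R]
    [ConnectedSpace (PrimeSpectrum A)] (x y : PrimeSpectrum R) :
    ∃ g : G, PrimeSpectrum.comap (MulSemiringAction.toRingHom G R g) '' connectedComponent x =
      connectedComponent y := by
  classical
  haveI : Algebra.IsIntegral A R := Algebra.IsInvariant.isIntegral A R G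
  set π : PrimeSpectrum R → PrimeSpectrum A := PrimeSpectrum.comap (algebraMap A R) with hπ
  set τ : G → PrimeSpectrum R → PrimeSpectrum R :=
    fun g => PrimeSpectrum.comap (MulSemiringAction.toRingHom G R g) with hτ
  have hτcont : ∀ g, Continuous (τ g) := fun g => PrimeSpectrum.continuous_comap _
  have hmem : ∀ (g : G) (P : PrimeSpectrum R) (r : R),
      r ∈ (τ g P).asIdeal ↔ g • r ∈ P.asIdeal := fun g P r => Iff.rfl
  have hcomp : ∀ (g h : G) (P : PrimeSpectrum R), τ g (τ h P) = τ (h * g) P := by
    intro g h P
    apply PrimeSpectrum.ext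
    ext r
    rw [hmem, hmem, hmem, mul_smul]
  have hone : ∀ P, τ 1 P = P := by
    intro P
    apply PrimeSpectrum.ext
    ext r
    rw [hmem, one_smul]
  have hinv : ∀ g P, τ g⁻¹ (τ g P) = P := by
    intro g P
    rw [hcomp, mul_inv_cancel, hone]
  have hinv' : ∀ g P, τ g (τ g⁻¹ P) = P := by
    intro g P
    rw [hcomp, inv_mul_cancel, hone]
  have hπτ : ∀ g P, π (τ g P) = π P := by
    intro g P
    apply PrimeSpectrum.ext
    ext a
    show g • algebraMap A R a ∈ P.asIdeal ↔ algebraMap A R a ∈ P.asIdeal
    rw [smul_algebraMap]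
  have hfiber : ∀ P Q : PrimeSpectrum R, π P = π Q → ∃ g, Q = τ g P := by
    intro P Q hPQ
    open Pointwise in (
      have h1 : P.asIdeal.under A = Q.asIdeal.under A := congrArg PrimeSpectrum.asIdeal hPQ
      obtain ⟨g, hg⟩ := Algebra.IsInvariant.exists_smul_of_under_eq A R G P.asIdeal Q.asIdeal h1
      refine ⟨g⁻¹, PrimeSpectrum.ext ?_⟩
      ext r
      rw [hg, Ideal.mem_pointwise_smul_iff_inv_smul_mem, hmem])
  have hopen : ∀ z : PrimeSpectrum R, IsOpen (connectedComponent z) := by
    intro z
    rw [← isClosed_compl_iff]
    have hfin := TopologicalSpace.NoetherianSpace.finite_irreducibleComponents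
      (α := PrimeSpectrum R)
    have hcompl : (connectedComponent z)ᶜ = ⋃ Z ∈ {Z ∈ irreducibleComponents (PrimeSpectrum R) |
        Disjoint Z (connectedComponent z)}, Z := by
      ext w
      simp only [Set.mem_compl_iff, Set.mem_iUnion₂, Set.mem_setOf_eq]
      constructor
      · intro hw
        refine ⟨irreducibleComponent w,
          ⟨irreducibleComponent_mem_irreducibleComponents w, ?_⟩, mem_irreducibleComponent⟩
        rw [Set.disjoint_left]
        intro v hv hvz
        apply hw
        have hsub := (isIrreducible_irreducibleComponent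
          (x := w)).isPreirreducible.isPreconnected.subset_connectedComponent hv
        rw [← connectedComponent_eq hvz] at hsub
        exact hsub mem_irreducibleComponent
      · rintro ⟨Z, ⟨-, hZ⟩, hwZ⟩ hw
        exact Set.disjoint_left.1 hZ hwZ hw
    rw [hcompl]
    exact (hfin.subset (fun Z hZ => hZ.1)).isClosed_biUnion
      fun Z hZ => isClosed_of_mem_irreducibleComponents Z hZ.1
  set C := connectedComponent x with hC
  have hτC : ∀ g, τ g '' C = connectedComponent (τ g x) := by
    intro g
    apply Set.Subset.antisymm
    · exact (isPreconnected_connectedComponent.image _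
        (hτcont g).continuousOn).subset_connectedComponent ⟨x, mem_connectedComponent, rfl⟩
    · intro w hw
      refine ⟨τ g⁻¹ w, ?_, hinv' g w⟩
      have h2 : τ g⁻¹ '' connectedComponent (τ g x) ⊆ connectedComponent (τ g⁻¹ (τ g x)) :=
        (isPreconnected_connectedComponent.image _
          (hτcont g⁻¹).continuousOn).subset_connectedComponent
            ⟨τ g x, mem_connectedComponent, rfl⟩
      rw [hinv g x] at h2
      exact h2 ⟨w, hw, rfl⟩
  set W : Set (PrimeSpectrum R) := ⋃ g : G, τ g '' C with hW
  have hWstable : ∀ g P, P ∈ W → τ g P ∈ W := by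
    intro g P hP
    rw [hW, Set.mem_iUnion] at hP ⊢
    obtain ⟨h, c, hc, rfl⟩ := hP
    exact ⟨h * g, c, hc, (hcomp g h c).symm⟩
  have hWclopen : IsClopen W := by
    refine ⟨isClosed_iUnion_of_finite fun g => ?_, isOpen_iUnion fun g => ?_⟩
    · rw [hτC]; exact isClosed_connectedComponent
    · rw [hτC]; exact hopen _
  have hclosedmap : IsClosedMap π :=
    PrimeSpectrum.isClosedMap_comap_of_isIntegral _ (algebraMap_isIntegral_iff.2 inferInstance)
  have hsurj : Function.Surjective π := Algebra.IsIntegral.comap_surjective A R
  have himage_compl : π '' Wᶜ = (π '' W)ᶜ := by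
    ext q
    constructor
    · rintro ⟨P, hP, rfl⟩ ⟨P', hP', hPP'⟩
      obtain ⟨g, rfl⟩ := hfiber P' P hPP'
      exact hP (hWstable g P' hP')
    · intro hq
      obtain ⟨P, rfl⟩ := hsurj q
      exact ⟨P, fun hP => hq ⟨P, hP, rfl⟩, rfl⟩
  have hπW : IsClopen (π '' W) := by
    refine ⟨hclosedmap _ hWclopen.1, ?_⟩
    rw [← isClosed_compl_iff, ← himage_compl]
    exact hclosedmap _ hWclopen.2.isClosed_compl
  have hxW : x ∈ W := Set.mem_iUnion.2 ⟨1, x, mem_connectedComponent, hone x⟩
  have hπWuniv : π '' W = Set.univ := hπW.eq_univ ⟨π x, x, hxW, rfl⟩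
  have hy : y ∈ W := by
    have h3 : π y ∈ π '' W := by rw [hπWuniv]; trivial
    obtain ⟨P, hP, hPy⟩ := h3
    obtain ⟨g, rfl⟩ := hfiber P y hPy
    exact hWstable g P hP
  rw [hW, Set.mem_iUnion] at hy
  obtain ⟨g, hg⟩ := hy
  refine ⟨g, ?_⟩
  show τ g '' C = connectedComponent y
  rw [hτC g] at hg ⊢
  exact connectedComponent_eq hg

end Groth.Agent.S11136
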