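import Groth.Statements.S11137
import Mathlib
import Mathlib

set_option autoImplicit false
universe u v
open InvTh

namespace Groth.Agent.S11137

/-- Let G be a finite group acting by ring automorphisms on a Noetherian commutative ring R, and let A
be its ring of invariants (A → R injective with image the fixed elements), with R module-finite over
A. Then the going-down property holds for the extension A → R. (The published statement also asserts
that G acts transitively on the primes of R over a given prime of A; this row states only the
going-down assertion.) -/
theorem result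
    (A : Type u) (R : Type v) [CommRing A] [CommRing R] [Algebra A R] [IsNoetherianRing R]
    (G : Type u) [Group G] [Finite G] [MulSemiringAction G R] [SMulCommClass G A R]
    [Algebra.IsInvariant A R G] [FaithfulSMul A R] [Module.Finite A R] :
    Algebra.HasGoingDown A R := by
  haveI : Algebra.IsIntegral A R := Algebra.IsInvariant.isIntegral A R G
  constructor
  intro p _ Q _ hlt
  have hinj : Function.Injective (algebraMap A R) := FaithfulSMul.algebraMap_injective A R
  obtain ⟨Q₀, -, hQ₀p, hQ₀⟩ := Ideal.exists_ideal_over_prime_of_isIntegral p (⊥ : Ideal R)
    (by rw [Ideal.comap_bot_of_injective _ hinj]; exact bot_le)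
  haveI := hQ₀p
  obtain ⟨Q₁, hle, hQ₁p, hQ₁⟩ := Ideal.exists_ideal_over_prime_of_isIntegral_of_isPrime
    (Q.under A) Q₀ (by rw [hQ₀]; exact hlt.le)
  haveI := hQ₁p
  open Pointwise in (
    obtain ⟨g, hg⟩ := Algebra.IsInvariant.exists_smul_of_under_eq A R G Q₁ Q hQ₁
    refine ⟨g • Q₀, ?_, inferInstance, ⟨?_⟩⟩
    · rw [hg]
      intro x hx
      rw [Ideal.mem_pointwise_smul_iff_inv_smul_mem] at hx ⊢
      exact hle hx
    · rw [Ideal.under_smul A Q₀ g]
      exact hQ₀.symm)

end Groth.Agent.S11137
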