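import Groth.Statements.S11147
import Mathlib
import Mathlib

set_option autoImplicit false
universe u
open FrobAlg

namespace Groth.Agent.S11147

/-- Let p be a prime and k ⊆ K fields of characteristic p such that K is finitely generated over k as a
field. Then the relative Frobenius ring homomorphism K ⊗_{k,Frob} k → K, b ⊗ a ↦ b^p a (the
Radu–André homomorphism of k → K), is bijective exactly when K is algebraic over k and every element
of K is separable over k. -/
theorem result (p : ℕ) [Fact p.Prime] (k K : Type u) [Field k]
    [Field K] [Algebra k K] [CharP k p] [CharP K p] (hfg : (⊤ : IntermediateField k K).FG) :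
    Function.Bijective (FrobAlg.relFrob p k K) ↔ Algebra.IsSeparable k K := by
  haveI : ExpChar k p := ExpChar.prime Fact.out
  have hrel : ∀ (x : K) (a : FrobAlg.Twist p k), FrobAlg.relFrob p k K (x ⊗ₜ[k] a) =
      x ^ p * algebraMap k K ((FrobAlg.toTwist p k).symm a) := by
    intro x a
    rfl
  constructor
  · intro hbij
    haveI : Algebra.EssFiniteType k K := IntermediateField.fg_top_iff.1 hfg
    rw [← Algebra.FormallyUnramified.iff_isSeparable]
    refine ⟨?_⟩
    have hD : ∀ x : K, KaehlerDifferential.D k K x = 0 := by
      intro x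
      obtain ⟨t, rfl⟩ := hbij.2 x
      induction t using TensorProduct.induction_on with
      | zero => rw [map_zero, map_zero]
      | tmul b a =>
        have h1 : KaehlerDifferential.D k K (b ^ p) = 0 := by
          rw [Derivation.leibniz_pow, ← Nat.cast_smul_eq_nsmul K, CharP.cast_eq_zero K p, zero_smul]
        rw [hrel, Derivation.leibniz, Derivation.map_algebraMap, h1, smul_zero, smul_zero, add_zero]
      | add x y hx hy => rw [map_add, map_add, hx, hy, add_zero]
    have htop : (⊤ : Submodule K (Ω[K⁄k])) = ⊥ := by
      rw [← KaehlerDifferential.span_range_derivation k K, Submodule.span_eq_bot]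
      rintro _ ⟨x, rfl⟩
      exact hD x
    exact (Submodule.subsingleton_iff K).1 (subsingleton_of_bot_eq_top htop.symm)
  · intro hsep
    set b := Module.Basis.ofVectorSpace k K with hb
    have hli : LinearIndependent k (fun i => b i ^ p ^ 1) :=
      b.linearIndependent.map_pow_expChar_pow_of_isSeparable p 1
    have hsp : Submodule.span k (Set.range fun i => b i ^ p ^ 1) = ⊤ :=
      Field.span_map_pow_expChar_pow_eq_top_of_isSeparable p 1 b.span_eq
    refine ⟨?_, ?_⟩
    · rw [injective_iff_map_eq_zero]
      intro t ht
      obtain ⟨c, rfl⟩ := TensorProduct.eq_repr_basis_left b t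
      have hc : c.support = ∅ := by
        apply Finset.eq_empty_of_forall_notMem
        intro i hi
        rw [Finsupp.sum, map_sum] at ht
        have hsum : ∑ j ∈ c.support,
            ((FrobAlg.toTwist p k).symm (c j)) • (b j ^ p ^ 1) = 0 := by
          rw [← ht]
          refine Finset.sum_congr rfl fun j _ => ?_
          rw [hrel, pow_one, Algebra.smul_def, mul_comm]
        have h0 := linearIndependent_iff'.1 hli c.support
          (fun j => (FrobAlg.toTwist p k).symm (c j)) hsum i hi
        exact (Finsupp.mem_support_iff.1 hi)
          ((map_eq_zero_iff _ (RingEquiv.injective _)).1 h0)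
      rw [Finsupp.support_eq_empty.1 hc, Finsupp.sum_zero_index]
    · intro x
      have hx : x ∈ Submodule.span k (Set.range fun i => b i ^ p ^ 1) := by rw [hsp]; trivial
      induction hx using Submodule.span_induction with
      | mem y hy =>
        obtain ⟨i, rfl⟩ := hy
        refine ⟨b i ⊗ₜ[k] 1, ?_⟩
        show FrobAlg.relFrob p k K (b i ⊗ₜ[k] (1 : FrobAlg.Twist p k)) = b i ^ p ^ 1
        rw [hrel, pow_one, map_one, map_one, mul_one]
      | zero => exact ⟨0, map_zero _⟩
      | add y z _ _ hy hz =>
        obtain ⟨s, rfl⟩ := hy
        obtain ⟨t, rfl⟩ := hz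
        exact ⟨s + t, map_add _ _ _⟩
      | smul c y _ hy =>
        obtain ⟨s, rfl⟩ := hy
        refine ⟨((1 : K) ⊗ₜ[k] (FrobAlg.toTwist p k c)) * s, ?_⟩
        rw [map_mul, hrel, one_pow, one_mul, RingEquiv.symm_apply_apply, Algebra.smul_def]

end Groth.Agent.S11147
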