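import Groth.Statements.S11179
import Mathlib
import Groth.Agent.Lib.helper2.GorDual

set_option autoImplicit false
universe u
open CategoryTheory
attribute [local instance] HasDerivedCategory.standard
open Goren

namespace Groth.Agent.S11179

/-- A Noetherian local ring A is Gorenstein (A has finite injective dimension as a module over itself)
if and only if the complex A[0] is a dualizing complex for A (finite injective dimension expressed
by vanishing of maps M[0] → A[i] in D(A) outside a bounded range, finite cohomology, A → End(A[0])
bijective and no self-maps of nonzero degree). -/
theorem result (A : Type u) [CommRing A] [IsLocalRing A] [IsNoetherianRing A] : LocCoh.IsGorensteinLocalRing A ↔ Dual.IsDualizing A (Dual.inD A A) := by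
  constructor
  · intro hG
    obtain ⟨n, hn⟩ := hG.exists_hasInjectiveDimensionLT
    refine ⟨inferInstance, ⟨0, (n : ℤ) - 1, ?_⟩, ?_, ?_, ?_⟩
    · intro M _ _ i hi
      exact Groth.Agent.H2.H2_subsingleton_of_injDim (ModuleCat.of A A) n (ModuleCat.of A M) i
        (by rcases hi with h | h
            · exact Or.inl h
            · exact Or.inr (by omega))
    · intro i
      exact Groth.Agent.H2.H2_finite_homology_single_self A i
    · exact Groth.Agent.H2.H2_toEnd_bijective A
    · intro i hi
      haveI : CategoryTheory.Projective (ModuleCat.of A A) :=
        (IsProjective.iff_projective (ModuleCat.of A A)).mp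
          (inferInstance : Module.Projective A A)
      exact Groth.Agent.H2.H2_subsingleton_of_projective' (ModuleCat.of A A) (ModuleCat.of A A) i hi
  · intro hD
    obtain ⟨a, b, hab⟩ := hD.finite_injective_dimension
    have hfid : CategoryTheory.HasInjectiveDimensionLT (ModuleCat.of A A) (b + 1).toNat := by
      apply Groth.Agent.H2.H2_injDim_of_subsingleton
      intro Y i hi
      exact hab Y i (Or.inr (by omega))
    exact { exists_hasInjectiveDimensionLT := ⟨(b + 1).toNat, hfid⟩ }

end Groth.Agent.S11179
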