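import Groth.Statements.S11180
import Groth.Statements.S11180
import Groth.Agent.Lib.helper9.H9_ComplNoeth

set_option autoImplicit false
universe u
open scoped TensorProduct
open CAlg

namespace Groth.Agent.S11180

/-- Let A be a Noetherian ring and M an A-module. If an element m of M is such that 1 ⊗ m = 0 in B ⊗_A M
for every A-algebra B which is a complete Noetherian local ring, flat over A, then m = 0.
(Equivalently the natural map from M to the limit of the modules B ⊗_A M over all such B is
injective.) -/
theorem result (A : Type u) [CommRing A] [IsNoetherianRing A] (M : Type u) [AddCommGroup M] [Module A M] (m : M) (h : ∀ (B : Type u) [CommRing B] [Algebra A B] [IsNoetherianRing B] [IsLocalRing B], IsAdicComplete (IsLocalRing.maximalIdeal B) B → Module.Flat A B → (1 : B) ⊗ₜ[A] m = 0) : m = 0 := by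
  classical
  by_contra hm
  -- the annihilator of `m`
  let φ : A →ₗ[A] M := LinearMap.toSpanSingleton A M m
  have hker : LinearMap.ker φ ≠ ⊤ := by
    intro h
    apply hm
    have : (1 : A) ∈ LinearMap.ker φ := by rw [h]; trivial
    rw [LinearMap.mem_ker, LinearMap.toSpanSingleton_apply, one_smul] at this
    exact this
  obtain ⟨𝔪, h𝔪, hle⟩ := Ideal.exists_le_maximal (LinearMap.ker φ) hker
  haveI := h𝔪
  let L := Localization.AtPrime 𝔪
  let B := AdicCompletion (IsLocalRing.maximalIdeal L) L
  haveI : IsNoetherianRing B :=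
    Groth.Agent.H9.ComplNoeth.isNoetherianRing_adicCompletion L (IsLocalRing.maximalIdeal L)
  haveI : IsScalarTower A L B := IsScalarTower.of_algebraMap_eq (fun _ => rfl)
  haveI : Module.Flat A B := Module.Flat.trans A L B
  have h1 := h B inferInstance inferInstance
  -- the induced injection A/ker → M
  let ψ : (A ⧸ LinearMap.ker φ) →ₗ[A] M := (LinearMap.ker φ).liftQ φ le_rfl
  have hψ : Function.Injective ψ := by
    rw [← LinearMap.ker_eq_bot]
    exact Submodule.ker_liftQ_eq_bot _ _ _ le_rfl
  have h2 := Module.Flat.lTensor_preserves_injective_linearMap (M := B) ψ hψ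
  have h3 : (1 : B) ⊗ₜ[A] (Ideal.Quotient.mk (LinearMap.ker φ) (1 : A)) = 0 := by
    apply h2
    rw [LinearMap.lTensor_tmul, map_zero]
    show (1 : B) ⊗ₜ[A] φ 1 = 0
    rw [LinearMap.toSpanSingleton_apply, one_smul]
    exact h1
  have h4 := congrArg (TensorProduct.tensorQuotEquivQuotSMul B (LinearMap.ker φ)) h3
  rw [TensorProduct.tensorQuotEquivQuotSMul_tmul_mk, one_smul, map_zero,
    Submodule.Quotient.mk_eq_zero, Ideal.smul_top_eq_map, Submodule.restrictScalars_mem] at h4
  have h5 : Ideal.map (algebraMap A B) (LinearMap.ker φ) ≤ IsLocalRing.maximalIdeal B := by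
    rw [Ideal.map_le_iff_le_comap]
    intro a ha
    rw [Ideal.mem_comap, IsScalarTower.algebraMap_apply A L B]
    have h6 : algebraMap A L a ∈ IsLocalRing.maximalIdeal L := by
      rw [← Localization.AtPrime.map_eq_maximalIdeal]
      exact Ideal.mem_map_of_mem _ (hle ha)
    by_contra h7
    have h8 : IsUnit (algebraMap L B (algebraMap A L a)) := by
      by_contra h9
      exact h7 ((IsLocalRing.mem_maximalIdeal _).2 h9)
    exact (IsLocalRing.mem_maximalIdeal _).1 h6 (isUnit_of_map_unit (algebraMap L B) _ h8)
  exact (IsLocalRing.mem_maximalIdeal _).1 (h5 h4) isUnit_one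

end Groth.Agent.S11180
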