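import Groth.Statements.S11217
import Mathlib

set_option autoImplicit false
universe u
open CategoryTheory MonoidalCategory CartesianMonoidalCategory MonObj GrpObj AlgebraicGeometry
open scoped TensorProduct
open AGF

namespace Groth.Agent.S11217

/-- Let k be a field of characteristic zero and m ≥ 2; in the polynomial ring k[x, y, z, s, t, u, v]
(variables 0, …, 6) let δ be the k-derivation with δ(x) = δ(y) = δ(z) = 0, δ(s) = x^(m+1), δ(t) =
y^(m+1), δ(u) = z^(m+1), δ(v) = (xyz)^m, and grade by total degree in s, t, u, v. If f is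
homogeneous of degree n ≥ 1 for this grading and δ(f) = 0, then every coefficient of f, as a
polynomial in s, t, u, v over k[x, y, z], lies in the ideal (x, y, z): every monomial of f has
positive degree in x, y, z. (The published statement allows n = 0, where the constant 1 is a
counterexample; this row assumes n ≥ 1. The published definition of the derivation gives δ(v) =
(xyz)^(m+1), for which the assertion fails: v − (yz)^(m+1)·s is killed by δ and has the monomial v
with coefficient 1; this row uses δ(v) = (xyz)^m, the exponent of the published action formula and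
of the published examples of invariants.) -/
theorem result (k : Type u) [Field k] [CharZero k] (m : ℕ) (hm : 2 ≤ m) (n : ℕ) (hn : 1 ≤ n)
    (f : MvPolynomial (Fin 7) k)
    (hf : MvPolynomial.IsWeightedHomogeneous (![0, 0, 0, 1, 1, 1, 1] : Fin 7 → ℕ) f n)
    (hδ : MvPolynomial.mkDerivation k
      (![0, 0, 0, MvPolynomial.X 0 ^ (m + 1), MvPolynomial.X 1 ^ (m + 1), MvPolynomial.X 2 ^ (m + 1),
        (MvPolynomial.X 0 * MvPolynomial.X 1 * MvPolynomial.X 2) ^ m] : Fin 7 → MvPolynomial (Fin 7) k) f = 0) :
    ∀ d ∈ f.support, 0 < d 0 + d 1 + d 2 := by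
  classical
  intro d hd
  by_contra hpos
  have hd0 : d 0 = 0 := by omega
  have hd1 : d 1 = 0 := by omega
  have hd2 : d 2 = 0 := by omega
  have hcd : MvPolynomial.coeff d f ≠ 0 := MvPolynomial.mem_support_iff.mp hd
  have hw : d 3 + d 4 + d 5 + d 6 = n := by
    have := hf hcd
    rw [Finsupp.weight_apply, Finsupp.sum_fintype _ _ (fun i => by simp)] at this
    simp [Fin.sum_univ_succ] at this
    omega
  have hD : MvPolynomial.mkDerivation k
      (![0, 0, 0, MvPolynomial.X 0 ^ (m + 1), MvPolynomial.X 1 ^ (m + 1), MvPolynomial.X 2 ^ (m + 1),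
        (MvPolynomial.X 0 * MvPolynomial.X 1 * MvPolynomial.X 2) ^ m] : Fin 7 → MvPolynomial (Fin 7) k) =
      (MvPolynomial.X 0 ^ (m + 1) : MvPolynomial (Fin 7) k) • MvPolynomial.pderiv 3 +
      (MvPolynomial.X 1 ^ (m + 1) : MvPolynomial (Fin 7) k) • MvPolynomial.pderiv 4 +
      (MvPolynomial.X 2 ^ (m + 1) : MvPolynomial (Fin 7) k) • MvPolynomial.pderiv 5 +
      ((MvPolynomial.X 0 * MvPolynomial.X 1 * MvPolynomial.X 2) ^ m : MvPolynomial (Fin 7) k) •
        MvPolynomial.pderiv 6 := by
    apply MvPolynomial.derivation_ext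
    intro i
    fin_cases i <;> simp [MvPolynomial.pderiv_X, Pi.single_apply]
  rw [hD] at hδ
  simp only [Derivation.add_apply, Derivation.smul_apply, smul_eq_mul] at hδ
  have hX3 : (MvPolynomial.X 0 * MvPolynomial.X 1 * MvPolynomial.X 2 : MvPolynomial (Fin 7) k) ^ m =
      MvPolynomial.monomial (Finsupp.single 0 m + Finsupp.single 1 m + Finsupp.single 2 m) 1 := by
    rw [mul_pow, mul_pow, MvPolynomial.X_pow_eq_monomial, MvPolynomial.X_pow_eq_monomial,
      MvPolynomial.X_pow_eq_monomial, MvPolynomial.monomial_mul, MvPolynomial.monomial_mul, _root_.one_mul,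
      _root_.one_mul]
  rw [hX3, MvPolynomial.X_pow_eq_monomial, MvPolynomial.X_pow_eq_monomial,
    MvPolynomial.X_pow_eq_monomial] at hδ
  have h3 : d 3 = 0 := by
    by_contra h3
    have hle : Finsupp.single (3 : Fin 7) 1 ≤ d := Finsupp.single_le_iff.mpr (by omega)
    obtain ⟨D, hDdef⟩ : ∃ D, D = d - Finsupp.single (3 : Fin 7) 1 +
      Finsupp.single (0 : Fin 7) (m + 1) := ⟨_, rfl⟩
    have hDE : Finsupp.single (0 : Fin 7) (m + 1) ≤ D := by rw [hDdef]; exact le_add_self
    have hDsub : D - Finsupp.single (0 : Fin 7) (m + 1) = d - Finsupp.single (3 : Fin 7) 1 := by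
      rw [hDdef, add_tsub_cancel_right]
    have hD1 : D 1 = 0 := by rw [hDdef]; simp [hd1]
    have hD2 : D 2 = 0 := by rw [hDdef]; simp [hd2]
    have c1 : ¬ Finsupp.single (1 : Fin 7) (m + 1) ≤ D := fun h => by
      have := Finsupp.single_le_iff.mp h
      omega
    have c2 : ¬ Finsupp.single (2 : Fin 7) (m + 1) ≤ D := fun h => by
      have := Finsupp.single_le_iff.mp h
      omega
    have c3 : ¬ (Finsupp.single (0 : Fin 7) m + Finsupp.single 1 m + Finsupp.single 2 m) ≤ D :=
      fun h => by
        have := h 1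
        simp [hD1] at this
        omega
    have h := congrArg (MvPolynomial.coeff D) hδ
    simp only [MvPolynomial.coeff_add, MvPolynomial.coeff_monomial_mul', _root_.one_mul,
      MvPolynomial.coeff_pderiv, MvPolynomial.coeff_zero] at h
    rw [if_pos hDE, if_neg c1, if_neg c2, if_neg c3, hDsub, tsub_add_cancel_of_le hle] at h
    simp only [add_zero] at h
    exact (mul_ne_zero hcd (Nat.cast_add_one_ne_zero _)) h
  have h4 : d 4 = 0 := by
    by_contra h4
    have hle : Finsupp.single (4 : Fin 7) 1 ≤ d := Finsupp.single_le_iff.mpr (by omega)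
    obtain ⟨D, hDdef⟩ : ∃ D, D = d - Finsupp.single (4 : Fin 7) 1 +
      Finsupp.single (1 : Fin 7) (m + 1) := ⟨_, rfl⟩
    have hDE : Finsupp.single (1 : Fin 7) (m + 1) ≤ D := by rw [hDdef]; exact le_add_self
    have hDsub : D - Finsupp.single (1 : Fin 7) (m + 1) = d - Finsupp.single (4 : Fin 7) 1 := by
      rw [hDdef, add_tsub_cancel_right]
    have hD0 : D 0 = 0 := by rw [hDdef]; simp [hd0]
    have hD2 : D 2 = 0 := by rw [hDdef]; simp [hd2]
    have c0 : ¬ Finsupp.single (0 : Fin 7) (m + 1) ≤ D := fun h => by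
      have := Finsupp.single_le_iff.mp h
      omega
    have c2 : ¬ Finsupp.single (2 : Fin 7) (m + 1) ≤ D := fun h => by
      have := Finsupp.single_le_iff.mp h
      omega
    have c3 : ¬ (Finsupp.single (0 : Fin 7) m + Finsupp.single 1 m + Finsupp.single 2 m) ≤ D :=
      fun h => by
        have := h 0
        simp [hD0] at this
        omega
    have h := congrArg (MvPolynomial.coeff D) hδ
    simp only [MvPolynomial.coeff_add, MvPolynomial.coeff_monomial_mul', _root_.one_mul,
      MvPolynomial.coeff_pderiv, MvPolynomial.coeff_zero] at h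
    rw [if_neg c0, if_pos hDE, if_neg c2, if_neg c3, hDsub, tsub_add_cancel_of_le hle] at h
    simp only [add_zero, zero_add] at h
    exact (mul_ne_zero hcd (Nat.cast_add_one_ne_zero _)) h
  have h5 : d 5 = 0 := by
    by_contra h5
    have hle : Finsupp.single (5 : Fin 7) 1 ≤ d := Finsupp.single_le_iff.mpr (by omega)
    obtain ⟨D, hDdef⟩ : ∃ D, D = d - Finsupp.single (5 : Fin 7) 1 +
      Finsupp.single (2 : Fin 7) (m + 1) := ⟨_, rfl⟩
    have hDE : Finsupp.single (2 : Fin 7) (m + 1) ≤ D := by rw [hDdef]; exact le_add_self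
    have hDsub : D - Finsupp.single (2 : Fin 7) (m + 1) = d - Finsupp.single (5 : Fin 7) 1 := by
      rw [hDdef, add_tsub_cancel_right]
    have hD0 : D 0 = 0 := by rw [hDdef]; simp [hd0]
    have hD1 : D 1 = 0 := by rw [hDdef]; simp [hd1]
    have c0 : ¬ Finsupp.single (0 : Fin 7) (m + 1) ≤ D := fun h => by
      have := Finsupp.single_le_iff.mp h
      omega
    have c1 : ¬ Finsupp.single (1 : Fin 7) (m + 1) ≤ D := fun h => by
      have := Finsupp.single_le_iff.mp h
      omega
    have c3 : ¬ (Finsupp.single (0 : Fin 7) m + Finsupp.single 1 m + Finsupp.single 2 m) ≤ D :=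
      fun h => by
        have := h 0
        simp [hD0] at this
        omega
    have h := congrArg (MvPolynomial.coeff D) hδ
    simp only [MvPolynomial.coeff_add, MvPolynomial.coeff_monomial_mul', _root_.one_mul,
      MvPolynomial.coeff_pderiv, MvPolynomial.coeff_zero] at h
    rw [if_neg c0, if_neg c1, if_pos hDE, if_neg c3, hDsub, tsub_add_cancel_of_le hle] at h
    simp only [add_zero, zero_add] at h
    exact (mul_ne_zero hcd (Nat.cast_add_one_ne_zero _)) h
  have hle : Finsupp.single (6 : Fin 7) 1 ≤ d := Finsupp.single_le_iff.mpr (by omega)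
  obtain ⟨D, hDdef⟩ : ∃ D, D = d - Finsupp.single (6 : Fin 7) 1 +
    (Finsupp.single (0 : Fin 7) m + Finsupp.single 1 m + Finsupp.single 2 m) := ⟨_, rfl⟩
  have hDE : (Finsupp.single (0 : Fin 7) m + Finsupp.single 1 m + Finsupp.single 2 m) ≤ D := by
    rw [hDdef]; exact le_add_self
  have hDsub : D - (Finsupp.single (0 : Fin 7) m + Finsupp.single 1 m + Finsupp.single 2 m) =
      d - Finsupp.single (6 : Fin 7) 1 := by
    rw [hDdef, add_tsub_cancel_right]
  have hD0 : D 0 = m := by rw [hDdef]; simp [hd0]
  have hD1 : D 1 = m := by rw [hDdef]; simp [hd1]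
  have hD2 : D 2 = m := by rw [hDdef]; simp [hd2]
  have c0 : ¬ Finsupp.single (0 : Fin 7) (m + 1) ≤ D := fun h => by
    have := Finsupp.single_le_iff.mp h
    omega
  have c1 : ¬ Finsupp.single (1 : Fin 7) (m + 1) ≤ D := fun h => by
    have := Finsupp.single_le_iff.mp h
    omega
  have c2 : ¬ Finsupp.single (2 : Fin 7) (m + 1) ≤ D := fun h => by
    have := Finsupp.single_le_iff.mp h
    omega
  have h := congrArg (MvPolynomial.coeff D) hδ
  simp only [MvPolynomial.coeff_add, MvPolynomial.coeff_monomial_mul', _root_.one_mul,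
    MvPolynomial.coeff_pderiv, MvPolynomial.coeff_zero] at h
  rw [if_neg c0, if_neg c1, if_neg c2, if_pos hDE, hDsub, tsub_add_cancel_of_le hle] at h
  simp only [add_zero, zero_add] at h
  exact (mul_ne_zero hcd (Nat.cast_add_one_ne_zero _)) h

end Groth.Agent.S11217
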