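import Groth.Statements.S11221
import Mathlib
import Groth.Agent.Lib.helper4.AssNormal

set_option autoImplicit false
universe u
open CategoryTheory MonoidalCategory CartesianMonoidalCategory MonObj GrpObj AlgebraicGeometry
open scoped TensorProduct
open AGF

namespace Groth.Agent.S11221

/-- Let R be a Noetherian integrally closed domain with fraction field K and let p be a prime ideal of R
of height one. Then there is f ∈ K which is not in R but lies in the local ring R_q ⊆ K of every
height-one prime q ≠ p (f = a/b with b ∉ q): a rational function on Spec R with a pole along V(p)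
only. (The published statement is for the coordinate ring of a normal affine variety; this row is
for any Noetherian integrally closed domain, which is all the argument uses.) -/
theorem result (R : Type u) [CommRing R] [IsDomain R] [IsNoetherianRing R] [IsIntegrallyClosed R]
    (p : Ideal R) [p.IsPrime] (hp : p.height = 1) :
    ∃ f : FractionRing R, f ∉ Set.range ⇑(algebraMap R (FractionRing R)) ∧
      ∀ q : Ideal R, q.IsPrime → q.height = 1 → q ≠ p →
        ∃ a b : R, b ∉ q ∧ f * algebraMap R (FractionRing R) b = algebraMap R (FractionRing R) a := by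
  classical
  have hpne : p ≠ ⊥ := Ideal.ne_bot_of_height_eq_one hp
  obtain ⟨b, hbp, hb0⟩ := Submodule.exists_mem_ne_zero_of_ne_bot hpne
  -- p is minimal over (b)
  have hmin : p ∈ (Ideal.span ({b} : Set R)).minimalPrimes := by
    have hle : Ideal.span ({b} : Set R) ≤ p := (Ideal.span_singleton_le_iff_mem _).2 hbp
    obtain ⟨q, hq, hqp⟩ := Ideal.exists_minimalPrimes_le hle
    have hqprime : q.IsPrime := hq.1.1
    have hqne : q ≠ ⊥ := by
      intro h
      have : b ∈ q := hq.1.2 (Ideal.mem_span_singleton_self b)
      rw [h, Ideal.mem_bot] at this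
      exact hb0 this
    have : q = p := by
      by_contra hne
      have hlt : q < p := lt_of_le_of_ne hqp hne
      have h1 := Ideal.height_add_one_le_of_lt_of_isPrime hlt
      rw [hp] at h1
      have h0 : q.height = 0 := by
        have : q.height + 1 ≤ 0 + 1 := by simpa using h1
        have := (ENat.add_le_add_iff_right (by simp : (1 : ℕ∞) ≠ ⊤)).1 this
        exact le_antisymm this zero_le
      exact hqne (Ideal.height_eq_zero_iff_eq_bot.1 h0)
    rw [← this]; exact hq
  have hass : p ∈ associatedPrimes R (R ⧸ Ideal.span ({b} : Set R)) := by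
    apply Module.associatedPrimes.minimalPrimes_annihilator_subset_associatedPrimes
    rw [Ideal.annihilator_quotient]
    exact hmin
  rw [AssociatedPrimes.mem_iff, isAssociatedPrime_iff] at hass
  obtain ⟨_, x, hx⟩ := hass
  obtain ⟨y, rfl⟩ := Ideal.Quotient.mk_surjective x
  have hmem : ∀ r : R, r ∈ p ↔ b ∣ r * y := by
    intro r
    rw [hx]
    exact Groth.Agent.H4.H4_mem_colon_quot_iff R b y r
  have hbK : algebraMap R (FractionRing R) b ≠ 0 := by simpa using hb0
  refine ⟨algebraMap R (FractionRing R) y / algebraMap R (FractionRing R) b, ?_, ?_⟩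
  · rintro ⟨w, hw⟩
    have h1 : (1 : R) ∈ p := by
      rw [hmem, _root_.one_mul]
      refine ⟨w, ?_⟩
      apply IsFractionRing.injective R (FractionRing R)
      rw [map_mul, hw, mul_div_cancel₀ _ hbK]
    exact (Ideal.IsPrime.ne_top inferInstance) ((Ideal.eq_top_iff_one _).2 h1)
  · intro q hq hqh hqp
    have hnot : ¬ p ≤ q := by
      intro hle
      have hlt : p < q := lt_of_le_of_ne hle (Ne.symm hqp)
      have h1 := Ideal.height_add_one_le_of_lt_of_isPrime hlt
      rw [hp, hqh] at h1
      exact absurd h1 (by decide)
    obtain ⟨s, hsp, hsq⟩ := Set.not_subset.1 hnot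
    obtain ⟨c, hc⟩ := (hmem s).1 hsp
    refine ⟨c, s, hsq, ?_⟩
    rw [div_mul_eq_mul_div, div_eq_iff hbK, ← map_mul, ← map_mul, mul_comm y s, hc, mul_comm]

end Groth.Agent.S11221
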