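import Groth.Statements.S11223
import Mathlib
import Groth.Agent.Lib.helper5.GradedNak

set_option autoImplicit false
universe u
open CAlg

namespace Groth.Agent.S11223

/-- Let k be a field, let z_1, ..., z_m be homogeneous polynomials of positive degree in the polynomial
ring k[x_1, ..., x_n], and suppose the radical of the ideal (z_1, ..., z_m) is the ideal (x_1, ...,
x_n) generated by the variables. Then the polynomial ring is integral over the subalgebra generated
by z_1, ..., z_m. (The published statement is over an algebraically closed field; this row takes any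
field, which its proof allows.) -/
theorem result (k : Type u) [Field k] (n m : ℕ)
    (z : Fin m → MvPolynomial (Fin n) k) (d : Fin m → ℕ) (hd : ∀ i, 0 < d i)
    (hz : ∀ i, (z i).IsHomogeneous (d i))
    (hrad : (Ideal.span (Set.range z)).radical =
      Ideal.span (Set.range (MvPolynomial.X : Fin n → MvPolynomial (Fin n) k))) :
    Algebra.IsIntegral (Algebra.adjoin k (Set.range z)) (MvPolynomial (Fin n) k) := by
  classical
  letI algQP : Algebra (MvPolynomial (Fin m) k) (MvPolynomial (Fin n) k) :=
    (MvPolynomial.aeval z : MvPolynomial (Fin m) k →ₐ[k] MvPolynomial (Fin n) k).toRingHom.toAlgebra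
  haveI tower : IsScalarTower k (MvPolynomial (Fin m) k) (MvPolynomial (Fin n) k) :=
    IsScalarTower.of_algebraMap_eq (fun c =>
      ((MvPolynomial.aeval z : MvPolynomial (Fin m) k →ₐ[k] MvPolynomial (Fin n) k).commutes c).symm)
  letI gQ : GradedAlgebra (MvPolynomial.weightedHomogeneousSubmodule k d) :=
    MvPolynomial.weightedGradedAlgebra k d
  letI dP : DirectSum.Decomposition (MvPolynomial.homogeneousSubmodule (Fin n) k) :=
    MvPolynomial.decomposition
  have hA : ∀ (a : MvPolynomial (Fin m) k) (e : ℕ), MvPolynomial.IsWeightedHomogeneous d a e →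
      (MvPolynomial.aeval z a).IsHomogeneous e := by
    intro a e ha
    rw [MvPolynomial.aeval_def, MvPolynomial.eval₂_eq]
    refine MvPolynomial.IsHomogeneous.sum _ _ _ (fun s hs => ?_)
    have hw : Finsupp.weight d s = e := ha (MvPolynomial.mem_support_iff.1 hs)
    have h1 : (∏ i ∈ s.support, z i ^ s i).IsHomogeneous (∑ i ∈ s.support, d i * s i) :=
      MvPolynomial.IsHomogeneous.prod _ _ _ (fun i _ => (hz i).pow (s i))
    have h2 := (MvPolynomial.isHomogeneous_C (Fin n) (MvPolynomial.coeff s a)).mul h1
    have h3 : 0 + ∑ i ∈ s.support, d i * s i = e := by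
      rw [← hw, Finsupp.weight_apply, Finsupp.sum, zero_add]
      exact Finset.sum_congr rfl (fun i _ => by rw [smul_eq_mul, mul_comm])
    rw [h3] at h2
    exact h2
  haveI gsmul : SetLike.GradedSMul (MvPolynomial.weightedHomogeneousSubmodule k d)
      (MvPolynomial.homogeneousSubmodule (Fin n) k) :=
    ⟨fun {i j} {a p} ha hp => by
      show (MvPolynomial.aeval z a * p).IsHomogeneous (i + j)
      exact (hA a i ha).mul hp⟩
  obtain ⟨N, hN⟩ := Ideal.exists_pow_le_of_le_radical_of_fg
    (I := Ideal.span (Set.range (MvPolynomial.X : Fin n → MvPolynomial (Fin n) k)))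
    (J := Ideal.span (Set.range z)) hrad.ge (Submodule.fg_span (Set.finite_range _))
  let x : {s : Fin n →₀ ℕ // s.degree < N} → MvPolynomial (Fin n) k :=
    fun s => MvPolynomial.monomial s.1 1
  have hx : ∀ i, SetLike.IsHomogeneousElem (MvPolynomial.homogeneousSubmodule (Fin n) k) (x i) :=
    fun s => ⟨s.1.degree, MvPolynomial.isHomogeneous_monomial 1 rfl⟩
  have hmem : ∀ f : MvPolynomial (Fin n) k, f ∈ Ideal.span (Set.range z) →
      f ∈ (HomogeneousIdeal.irrelevant (MvPolynomial.weightedHomogeneousSubmodule k d)).toIdeal •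
        (⊤ : Submodule (MvPolynomial (Fin m) k) (MvPolynomial (Fin n) k)) := by
    intro f hf
    obtain ⟨c, rfl⟩ := (Ideal.mem_span_range_iff_exists_fun).1 hf
    refine Submodule.sum_mem _ (fun i _ => ?_)
    have hXi : (MvPolynomial.X i : MvPolynomial (Fin m) k) ∈
        (HomogeneousIdeal.irrelevant (MvPolynomial.weightedHomogeneousSubmodule k d)).toIdeal := by
      refine (HomogeneousIdeal.mem_irrelevant_iff _ _).2 ?_
      rw [GradedRing.proj_apply, DirectSum.decompose_of_mem_ne _
        (MvPolynomial.isWeightedHomogeneous_X (R := k) d i) (hd i).ne']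
    have h1 := Submodule.smul_mem_smul hXi (Submodule.mem_top :
      c i ∈ (⊤ : Submodule (MvPolynomial (Fin m) k) (MvPolynomial (Fin n) k)))
    have he : (MvPolynomial.X i : MvPolynomial (Fin m) k) • c i = c i * z i := by
      show MvPolynomial.aeval z (MvPolynomial.X i) * c i = c i * z i
      rw [MvPolynomial.aeval_X, mul_comm]
    rwa [he] at h1
  have h : Submodule.span (MvPolynomial (Fin m) k) (Set.range x) ⊔
      (HomogeneousIdeal.irrelevant (MvPolynomial.weightedHomogeneousSubmodule k d)).toIdeal •
        (⊤ : Submodule (MvPolynomial (Fin m) k) (MvPolynomial (Fin n) k)) = ⊤ := by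
    rw [eq_top_iff]
    intro p _
    have hp := MvPolynomial.support_sum_monomial_coeff p
    rw [← hp]
    refine Submodule.sum_mem _ (fun s _ => ?_)
    by_cases hs : s.degree < N
    · apply Submodule.mem_sup_left
      have he : MvPolynomial.monomial s (MvPolynomial.coeff s p) =
          (MvPolynomial.C (MvPolynomial.coeff s p) : MvPolynomial (Fin m) k) • x ⟨s, hs⟩ := by
        show _ = MvPolynomial.aeval z (MvPolynomial.C (MvPolynomial.coeff s p)) *
          MvPolynomial.monomial s 1
        rw [MvPolynomial.aeval_C, MvPolynomial.algebraMap_eq, MvPolynomial.C_mul_monomial, mul_one]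
      rw [he]
      exact Submodule.smul_mem _ _ (Submodule.subset_span ⟨⟨s, hs⟩, rfl⟩)
    · apply Submodule.mem_sup_right
      apply hmem
      apply hN
      rw [MvPolynomial.mem_pow_idealOfVars_iff]
      intro t ht
      have h1 := MvPolynomial.support_monomial_subset ht
      rw [Finset.mem_singleton] at h1
      rw [h1]; exact not_lt.1 hs
  have hspan := H5_graded_nakayama (MvPolynomial.weightedHomogeneousSubmodule k d)
    (MvPolynomial.homogeneousSubmodule (Fin n) k) x hx h
  haveI : Finite {s : Fin n →₀ ℕ // s.degree < N} := (Finsupp.finite_of_degree_lt N).to_subtype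
  haveI hfin : Module.Finite (MvPolynomial (Fin m) k) (MvPolynomial (Fin n) k) :=
    ⟨hspan ▸ Submodule.fg_span (Set.finite_range x)⟩
  haveI : Algebra.IsIntegral (MvPolynomial (Fin m) k) (MvPolynomial (Fin n) k) :=
    Algebra.IsIntegral.of_finite _ _
  refine ⟨fun p => ?_⟩
  obtain ⟨f, hmonic, hf⟩ := Algebra.IsIntegral.isIntegral (R := MvPolynomial (Fin m) k) p
  have hmemB : ∀ a : MvPolynomial (Fin m) k, MvPolynomial.aeval z a ∈ Algebra.adjoin k (Set.range z) := by
    intro a
    rw [Algebra.adjoin_range_eq_range_aeval]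
    exact ⟨a, rfl⟩
  let φ : MvPolynomial (Fin m) k →ₐ[k] Algebra.adjoin k (Set.range z) :=
    (MvPolynomial.aeval z).codRestrict _ hmemB
  refine ⟨f.map φ.toRingHom, hmonic.map _, ?_⟩
  rw [Polynomial.eval₂_map]
  have hcomp : (algebraMap (Algebra.adjoin k (Set.range z)) (MvPolynomial (Fin n) k)).comp
      φ.toRingHom = algebraMap (MvPolynomial (Fin m) k) (MvPolynomial (Fin n) k) :=
    RingHom.ext (fun a => rfl)
  rw [hcomp]; exact hf

end Groth.Agent.S11223
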