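import Groth.Statements.S1123
import Mathlib
import Groth.Agent.Lib.RightRes

set_option autoImplicit false
universe v u
open CategoryTheory CategoryTheory.Limits
open CohDer

namespace Groth.Agent.S1123


open CategoryTheory CategoryTheory.Limits Opposite

open ZeroObject

section
variable {A : Type u} [Category.{v} A] [Abelian A]

open HomologicalComplex HomologySequence ComposableArrows Abelian in
lemma quasiIso_τ₂ {S₁ S₂ : ShortComplex (CochainComplex A ℤ)} (φ : S₁ ⟶ S₂)
    (hS₁ : S₁.ShortExact) (hS₂ : S₂.ShortExact) (h₁ : QuasiIso φ.τ₁) (h₃ : QuasiIso φ.τ₃) :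
    QuasiIso φ.τ₂ := by
  rw [quasiIso_iff]
  intro j
  rw [quasiIsoAt_iff_isIso_homologyMap]
  have hm : Mono (homologyMap φ.τ₂ j) := by
    have hr : (ComplexShape.up ℤ).Rel (j-1) j := by simp
    apply mono_of_epi_of_mono_of_mono
      ((δ₀Functor ⋙ δ₀Functor).map (mapComposableArrows₅ φ hS₁ hS₂ (j-1) j hr))
    · exact (composableArrows₅_exact hS₁ (j-1) j hr).δ₀.δ₀
    · exact (composableArrows₅_exact hS₂ (j-1) j hr).δ₀.δ₀
    · show Epi (homologyMap φ.τ₃ (j-1))
      infer_instance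
    · show Mono (homologyMap φ.τ₁ j)
      infer_instance
    · show Mono (homologyMap φ.τ₃ j)
      infer_instance
  have he : Epi (homologyMap φ.τ₂ j) := by
    have hr : (ComplexShape.up ℤ).Rel j (j+1) := by simp
    apply epi_of_epi_of_epi_of_mono
      ((δlastFunctor ⋙ δlastFunctor).map (mapComposableArrows₅ φ hS₁ hS₂ j (j+1) hr))
    · exact (composableArrows₅_exact hS₁ j (j+1) hr).δlast.δlast
    · exact (composableArrows₅_exact hS₂ j (j+1) hr).δlast.δlast
    · show Epi (homologyMap φ.τ₁ j)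
      infer_instance
    · show Epi (homologyMap φ.τ₃ j)
      infer_instance
    · show Mono (homologyMap φ.τ₁ (j+1))
      infer_instance
  exact isIso_of_mono_of_epi _

/-- pushout short exact sequence -/
lemma pushout_shortExact {C : Type*} [Category C] [Abelian C] (S : ShortComplex C) (hS : S.ShortExact)
    {I : C} (α : S.X₁ ⟶ I) :
    ∃ (P : C) (i : I ⟶ P) (p : P ⟶ S.X₃) (l : S.X₂ ⟶ P) (w : i ≫ p = 0),
      (ShortComplex.mk i p w).ShortExact ∧ α ≫ i = S.f ≫ l ∧ l ≫ p = S.g := by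
  haveI := hS.mono_f
  haveI := hS.epi_g
  let p : pushout S.f α ⟶ S.X₃ := pushout.desc S.g 0 (by simp)
  have w : pushout.inr S.f α ≫ p = 0 := pushout.inr_desc _ _ _
  have hp : pushout.inl S.f α ≫ p = S.g := pushout.inl_desc _ _ _
  haveI : Epi p := epi_of_epi_fac hp
  let S' : ShortComplex C := ShortComplex.mk (pushout.inr S.f α) p w
  have hcok : IsColimit (CokernelCofork.ofπ S'.g S'.zero) :=
    CokernelCofork.IsColimit.ofπ _ _
      (fun {W} t ht => hS.exact.desc (pushout.inl S.f α ≫ t)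
        (by rw [← Category.assoc, pushout.condition, Category.assoc, ht, comp_zero]))
      (fun {W} t ht => by
        apply pushout.hom_ext
        · rw [← Category.assoc]
          show (pushout.inl S.f α ≫ p) ≫ _ = _
          rw [hp, ShortComplex.Exact.g_desc]
        · rw [← Category.assoc]
          show (pushout.inr S.f α ≫ p) ≫ _ = _
          rw [w, zero_comp, ht])
      (fun {W} t ht m hm => by
        rw [← cancel_epi S.g, ShortComplex.Exact.g_desc]
        have : pushout.inl S.f α ≫ t = (pushout.inl S.f α ≫ p) ≫ m := by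
          rw [Category.assoc]; exact congrArg _ hm.symm
        rw [this, hp])
  have hS' : S'.ShortExact :=
    { exact := ShortComplex.exact_of_g_is_cokernel S' hcok
      mono_f := by show Mono (pushout.inr S.f α); infer_instance
      epi_g := by show Epi p; infer_instance }
  exact ⟨pushout S.f α, pushout.inr S.f α, p, pushout.inl S.f α, w, hS', pushout.condition.symm, hp⟩

lemma injective_of_shortExact {S : ShortComplex A} (hS : S.ShortExact) (h1 : Injective S.X₁)
    (h2 : Injective S.X₂) : Injective S.X₃ := by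
  haveI := hS.mono_f
  haveI := hS.epi_g
  let r : S.X₂ ⟶ S.X₁ := Injective.factorThru (𝟙 _) S.f
  have hr : S.f ≫ r = 𝟙 _ := Injective.comp_factorThru _ _
  let s : S.X₃ ⟶ S.X₂ := hS.exact.desc (𝟙 _ - r ≫ S.f) (by
    rw [Preadditive.comp_sub, Category.comp_id, ← Category.assoc, hr, Category.id_comp, sub_self])
  have hs : S.g ≫ s = 𝟙 _ - r ≫ S.f := ShortComplex.Exact.g_desc _ _ _
  have hs' : s ≫ S.g = 𝟙 _ := by
    rw [← cancel_epi S.g, ← Category.assoc, hs, Preadditive.sub_comp, Category.assoc, S.zero,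
      comp_zero, sub_zero, Category.id_comp, Category.comp_id]
  exact ⟨fun {X Y} g f _ => ⟨Injective.factorThru (g ≫ s) f ≫ S.g, by
    rw [← Category.assoc, Injective.comp_factorThru, Category.assoc, hs', Category.comp_id]⟩⟩

theorem main [EnoughInjectives A] (S : ShortComplex (CochainComplex A ℤ)) (hS : S.ShortExact) (n : ℤ)
    [S.X₁.IsStrictlyGE n] [S.X₂.IsStrictlyGE n] [S.X₃.IsStrictlyGE n] :
    ∃ (T : ShortComplex (CochainComplex A ℤ)) (φ : S ⟶ T), T.ShortExact ∧
      T.X₁.IsStrictlyGE n ∧ T.X₂.IsStrictlyGE n ∧ T.X₃.IsStrictlyGE n ∧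
      (∀ k : ℤ, Injective (T.X₁.X k) ∧ Injective (T.X₂.X k) ∧ Injective (T.X₃.X k)) ∧
      QuasiIso φ.τ₁ ∧ QuasiIso φ.τ₂ ∧ QuasiIso φ.τ₃ := by
  have hI0 : ∃ Z : A, IsZero Z ∧ Injective Z := ⟨0, isZero_zero A, inferInstance⟩
  have hI : ∀ X : A, ∃ (Y : A) (ι : X ⟶ Y), Injective Y ∧ Mono ι :=
    fun X => ⟨Injective.under X, Injective.ι X, inferInstance, inferInstance⟩
  obtain ⟨I₁, α₁, hI₁ge, hI₁inj, hα₁mono, hα₁q⟩ :=
    RightRes.exists_rightRes (fun X => Injective X) hI0 hI S.X₁ n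
  obtain ⟨P, i, p, l, w, hS', hl1, hl2⟩ := pushout_shortExact S hS α₁
  haveI : P.IsStrictlyGE n := by
    rw [CochainComplex.isStrictlyGE_iff]
    intro k hk
    have h := hS'.map_of_exact (HomologicalComplex.eval A (ComplexShape.up ℤ) k)
    exact h.exact.isZero_X₂ ((I₁.isZero_of_isStrictlyGE n k hk).eq_of_src _ _)
      ((S.X₃.isZero_of_isStrictlyGE n k hk).eq_of_tgt _ _)
  obtain ⟨I₂, β, hI₂ge, hI₂inj, hβmono, hβq⟩ :=
    RightRes.exists_rightRes (fun X => Injective X) hI0 hI P n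
  let S' := ShortComplex.mk i p w
  let ψ : S ⟶ S' := ⟨α₁, l, 𝟙 _, hl1, by show l ≫ p = S.g ≫ 𝟙 _; rw [hl2, Category.comp_id]⟩
  have hlq : QuasiIso l := quasiIso_τ₂ ψ hS hS' hα₁q (by show QuasiIso (𝟙 _); infer_instance)
  haveI : Mono i := hS'.mono_f
  haveI : Mono β := HomologicalComplex.mono_of_mono_f _ hβmono
  let T : ShortComplex (CochainComplex A ℤ) :=
    ShortComplex.mk (i ≫ β) (cokernel.π (i ≫ β)) (cokernel.condition _)
  have hT : T.ShortExact :=
    { exact := ShortComplex.exact_cokernel _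
      mono_f := by show Mono (i ≫ β); infer_instance
      epi_g := by show Epi (cokernel.π (i ≫ β)); infer_instance }
  haveI := hS'.epi_g
  let γ : S.X₃ ⟶ cokernel (i ≫ β) := hS'.exact.desc (β ≫ cokernel.π (i ≫ β)) (by
    show i ≫ β ≫ cokernel.π (i ≫ β) = 0
    rw [← Category.assoc]; exact cokernel.condition _)
  have hγ : p ≫ γ = β ≫ cokernel.π (i ≫ β) := by
    show S'.g ≫ _ = _
    exact hS'.exact.g_desc _ _
  let ψ' : S' ⟶ T := ⟨𝟙 _, β, γ, by show 𝟙 _ ≫ i ≫ β = i ≫ β; rw [Category.id_comp], hγ.symm⟩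
  have hγq : QuasiIso γ := HomologicalComplex.HomologySequence.quasiIso_τ₃ ψ' hS' hT
    (by show QuasiIso (𝟙 _); infer_instance) hβq
  have hTk : ∀ k, (T.map (HomologicalComplex.eval A (ComplexShape.up ℤ) k)).ShortExact :=
    fun k => hT.map_of_exact _
  refine ⟨T, ψ ≫ ψ', hT, hI₁ge, hI₂ge, ?_, ?_, ?_, ?_, ?_⟩
  · rw [CochainComplex.isStrictlyGE_iff]
    intro k hk
    exact @IsZero.of_epi _ _ _ _ _ ((T.map (HomologicalComplex.eval A (ComplexShape.up ℤ) k)).g)
      (hTk k).epi_g (I₂.isZero_of_isStrictlyGE n k hk)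
  · intro k
    exact ⟨hI₁inj k, hI₂inj k, injective_of_shortExact (hTk k) (hI₁inj k) (hI₂inj k)⟩
  · show QuasiIso (α₁ ≫ 𝟙 _)
    infer_instance
  · show QuasiIso (l ≫ β)
    infer_instance
  · show QuasiIso (𝟙 _ ≫ γ)
    infer_instance

end

/-- Let A be an abelian category with enough injectives and S : 0 → A• → B• → C• → 0 a short exact
sequence of cochain complexes all vanishing below degree n. Then there are a short exact sequence T
: 0 → I₁ → I₂ → I₃ → 0 of complexes of injective objects vanishing below degree n and a morphism of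
short exact sequences S ⟶ T whose three components are quasi-isomorphisms. -/
theorem result {A : Type u} [Category.{v} A] [Abelian A] [EnoughInjectives A]
    (S : ShortComplex (CochainComplex A ℤ)) (hS : S.ShortExact) (n : ℤ)
    [S.X₁.IsStrictlyGE n] [S.X₂.IsStrictlyGE n] [S.X₃.IsStrictlyGE n] :
    ∃ (T : ShortComplex (CochainComplex A ℤ)) (φ : S ⟶ T), T.ShortExact ∧
      T.X₁.IsStrictlyGE n ∧ T.X₂.IsStrictlyGE n ∧ T.X₃.IsStrictlyGE n ∧
      (∀ k : ℤ, Injective (T.X₁.X k) ∧ Injective (T.X₂.X k) ∧ Injective (T.X₃.X k)) ∧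
      QuasiIso φ.τ₁ ∧ QuasiIso φ.τ₂ ∧ QuasiIso φ.τ₃ := by
  exact main S hS n

end Groth.Agent.S1123
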