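import Groth.Statements.S11233
import Mathlib
import Mathlib.Algebra.MvPolynomial.Funext
import Mathlib.LinearAlgebra.Matrix.NonsingularInverse
import Mathlib.FieldTheory.IsAlgClosed.Basic

set_option autoImplicit false
universe u
open CAlg

namespace Groth.Agent.S11233

/-- Let k be an algebraically closed field, A an integral domain which is a k-algebra, T an m by m
matrix over A with invertible determinant, and let the additive group k^m act on the polynomial ring
A[y_1, ..., y_m] by the A-algebra maps y_s ↦ y_s + Σ_r h_r T_rs. Then the only invariant polynomials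
are the constants: a polynomial fixed by all these substitutions lies in A. -/
theorem result (k : Type u) [Field k] [IsAlgClosed k]
    (A : Type u) [CommRing A] [IsDomain A] [Algebra k A] (m : ℕ) (T : Matrix (Fin m) (Fin m) A)
    (hT : IsUnit T.det) (f : MvPolynomial (Fin m) A)
    (hf : ∀ h : Fin m → k, MvPolynomial.aeval
      (fun s : Fin m => MvPolynomial.X s + MvPolynomial.C (∑ r : Fin m, algebraMap k A (h r) * T r s)) f = f) :
    ∃ a : A, f = MvPolynomial.C a := by
  classical
  let g : Fin m → MvPolynomial (Fin m) (MvPolynomial (Fin m) A) := fun s =>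
    MvPolynomial.C (MvPolynomial.X s) + ∑ r : Fin m, MvPolynomial.X r * MvPolynomial.C (MvPolynomial.C (T r s))
  have hev : ∀ x : Fin m → MvPolynomial (Fin m) A,
      MvPolynomial.eval x (MvPolynomial.aeval g f) =
        MvPolynomial.aeval (fun s => MvPolynomial.X s + ∑ r : Fin m, x r * MvPolynomial.C (T r s)) f := by
    intro x
    have h1 := DFunLike.congr_fun (MvPolynomial.comp_aeval (R := A) (f := g)
      ((MvPolynomial.aeval x : MvPolynomial (Fin m) (MvPolynomial (Fin m) A) →ₐ[MvPolynomial (Fin m) A]
        MvPolynomial (Fin m) A).restrictScalars A)) f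
    have h2 : (fun i => ((MvPolynomial.aeval x : MvPolynomial (Fin m) (MvPolynomial (Fin m) A)
        →ₐ[MvPolynomial (Fin m) A] MvPolynomial (Fin m) A).restrictScalars A) (g i)) =
        fun s => MvPolynomial.X s + ∑ r : Fin m, x r * MvPolynomial.C (T r s) := by
      funext s
      simp [g]
    rw [h2] at h1
    rw [← h1]
    simp
  have hPQ : MvPolynomial.aeval g f = MvPolynomial.C f := by
    refine MvPolynomial.funext_set (fun _ => Set.range (algebraMap k (MvPolynomial (Fin m) A)))
      (fun _ => Set.infinite_range_of_injective (algebraMap k (MvPolynomial (Fin m) A)).injective)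
      (fun x hx => ?_)
    choose h hh using fun i => hx i (Set.mem_univ i)
    obtain rfl : x = fun i => algebraMap k (MvPolynomial (Fin m) A) (h i) :=
      funext (fun i => (hh i).symm)
    rw [hev, MvPolynomial.eval_C]
    have h3 : (fun s : Fin m => (MvPolynomial.X s : MvPolynomial (Fin m) A) +
        ∑ r : Fin m, algebraMap k (MvPolynomial (Fin m) A) (h r) * MvPolynomial.C (T r s)) =
        fun s => MvPolynomial.X s + MvPolynomial.C (∑ r : Fin m, algebraMap k A (h r) * T r s) := by
      funext s
      simp [map_sum, map_mul]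
    rw [h3]
    exact hf h
  let x₀ : Fin m → MvPolynomial (Fin m) A := fun r =>
    - ∑ t : Fin m, MvPolynomial.X t * MvPolynomial.C (T⁻¹ t r)
  have hfun : ∀ s, (MvPolynomial.X s : MvPolynomial (Fin m) A) +
      ∑ r : Fin m, x₀ r * MvPolynomial.C (T r s) = 0 := by
    intro s
    have h1 : ∑ r : Fin m, x₀ r * MvPolynomial.C (T r s) =
        - ∑ t : Fin m, MvPolynomial.X t * MvPolynomial.C ((T⁻¹ * T) t s) := by
      simp only [x₀, neg_mul, Finset.sum_neg_distrib, Finset.sum_mul, Matrix.mul_apply, map_sum,
        Finset.mul_sum]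
      rw [Finset.sum_comm]
      refine congrArg Neg.neg (Finset.sum_congr rfl (fun t _ => Finset.sum_congr rfl (fun r _ => ?_)))
      rw [mul_assoc, ← MvPolynomial.C_mul]
    have h2 : ∑ t : Fin m, (MvPolynomial.X t : MvPolynomial (Fin m) A) *
        MvPolynomial.C ((1 : Matrix (Fin m) (Fin m) A) t s) = MvPolynomial.X s := by
      rw [Finset.sum_eq_single s]
      · rw [Matrix.one_apply_eq, MvPolynomial.C_1, mul_one]
      · intro t _ hts
        rw [Matrix.one_apply_ne hts, MvPolynomial.C_0, mul_zero]
      · intro h; exact absurd (Finset.mem_univ s) h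
    rw [h1, Matrix.nonsing_inv_mul T hT, h2, add_neg_cancel]
  have hfin := hev x₀
  rw [hPQ, MvPolynomial.eval_C, (funext hfun : (fun s => (MvPolynomial.X s : MvPolynomial (Fin m) A) +
      ∑ r : Fin m, x₀ r * MvPolynomial.C (T r s)) = fun _ => 0), MvPolynomial.aeval_zero'] at hfin
  exact ⟨MvPolynomial.constantCoeff f, hfin⟩

end Groth.Agent.S11233
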