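import Groth.Statements.S11235
import Mathlib
import Mathlib.FieldTheory.IsAlgClosed.Basic
import Mathlib.Algebra.Polynomial.Roots
import Mathlib.RingTheory.Ideal.Quotient.Operations

set_option autoImplicit false
universe u
open CAlg

namespace Groth.Agent.S11235

/-- Let k be an algebraically closed field, A a commutative k-algebra, α ∈ k, and M a maximal ideal of
the polynomial ring A[x] containing x - α. Let I ⊆ M be an ideal whose zero set in Spec A[x] is
invariant under the automorphisms x ↦ c·x, c ∈ k nonzero (equivalently: the image of I under each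
such A-algebra automorphism has the same radical as I). Then there is a maximal ideal of A[x]
containing I and x. -/
theorem result (k : Type u) [Field k] [IsAlgClosed k]
    (A : Type u) [CommRing A] [Algebra k A] (α : k)
    (M : Ideal (Polynomial A)) (hM : M.IsMaximal)
    (hα : Polynomial.X - Polynomial.C (algebraMap k A α) ∈ M)
    (I : Ideal (Polynomial A)) (hIM : I ≤ M)
    (hI : ∀ c : kˣ, (I.map (Polynomial.aeval (R := A)
      (algebraMap k A (c : k) • (Polynomial.X : Polynomial A)))).radical = I.radical) :
    ∃ N : Ideal (Polynomial A), N.IsMaximal ∧ I ≤ N ∧ Polynomial.X ∈ N := by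
  classical
  haveI := hM
  by_cases hα0 : α = 0
  · refine ⟨M, hM, hIM, ?_⟩
    have hX : (Polynomial.X : Polynomial A) - Polynomial.C (algebraMap k A α) = Polynomial.X := by
      rw [hα0, map_zero, map_zero, sub_zero]
    rwa [hX] at hα
  letI : Field (Polynomial A ⧸ M) := Ideal.Quotient.field M
  obtain ⟨a, ha⟩ : ∃ a : A, a = algebraMap k A α := ⟨_, rfl⟩
  rw [← ha] at hα
  let ι : A →+* (Polynomial A ⧸ M) := (Ideal.Quotient.mk M).comp Polynomial.C
  have key0 : ∀ q : Polynomial A, q - Polynomial.C (q.eval a) ∈ M := by
    intro q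
    obtain ⟨r, hr⟩ := Polynomial.X_sub_C_dvd_sub_C_eval (a := a) (p := q)
    rw [hr]
    exact M.mul_mem_right r hα
  have hsurj : Function.Surjective (ι.comp (Polynomial.evalRingHom (0 : A))) := by
    intro y
    obtain ⟨q, rfl⟩ := Ideal.Quotient.mk_surjective y
    refine ⟨Polynomial.C (q.eval a), ?_⟩
    rw [Ideal.Quotient.eq.2 (key0 q)]
    simp [ι]
  refine ⟨RingHom.ker (ι.comp (Polynomial.evalRingHom (0 : A))),
    RingHom.ker_isMaximal_of_surjective _ hsurj, ?_, ?_⟩
  swap
  · rw [RingHom.mem_ker]; simp
  intro p hp
  rw [RingHom.mem_ker]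
  show ι (p.eval 0) = 0
  have hroot : ∀ c : k, c ≠ 0 → ι (p.eval (algebraMap k A c * a)) = 0 := by
    intro c hc
    have h1 : Polynomial.aeval (R := A) (algebraMap k A c • (Polynomial.X : Polynomial A)) p ∈
        I.map (Polynomial.aeval (R := A)
          (algebraMap k A ((Units.mk0 c hc : kˣ) : k) • (Polynomial.X : Polynomial A))) :=
      Ideal.mem_map_of_mem _ hp
    have h2 := Ideal.le_radical h1
    rw [hI (Units.mk0 c hc)] at h2
    have h3 : Polynomial.aeval (R := A) (algebraMap k A c • (Polynomial.X : Polynomial A)) p ∈ M :=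
      (hM.isPrime.radical_le_iff.2 hIM) h2
    have h4 : Polynomial.C ((Polynomial.aeval (R := A)
        (algebraMap k A c • (Polynomial.X : Polynomial A)) p).eval a) ∈ M := by
      have h := M.sub_mem h3 (key0 (Polynomial.aeval (R := A)
        (algebraMap k A c • (Polynomial.X : Polynomial A)) p))
      rwa [sub_sub_cancel] at h
    have h5 : (Polynomial.aeval (R := A) (algebraMap k A c • (Polynomial.X : Polynomial A)) p).eval a
        = p.eval (algebraMap k A c * a) := by
      rw [← Polynomial.comp_eq_aeval, Polynomial.eval_comp, Polynomial.eval_smul,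
        Polynomial.eval_X, smul_eq_mul]
    rw [h5] at h4
    exact Ideal.Quotient.eq_zero_iff_mem.2 h4
  have hP : p.map ι = 0 := by
    apply Polynomial.eq_zero_of_infinite_isRoot
    have hinj : Function.Injective (fun c : k => ι (algebraMap k A c * a)) := by
      intro c c' hcc
      have hj : Function.Injective (ι.comp (algebraMap k A)) := RingHom.injective _
      have hcc' : (ι.comp (algebraMap k A)) (c * α) = (ι.comp (algebraMap k A)) (c' * α) := by
        simpa [ha, map_mul] using hcc
      exact mul_right_cancel₀ hα0 (hj hcc')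
    refine Set.Infinite.mono ?_ (((Set.finite_singleton (0 : k)).infinite_compl).image hinj.injOn)
    rintro _ ⟨c, hc, rfl⟩
    show Polynomial.IsRoot _ _
    rw [Polynomial.IsRoot.def, Polynomial.eval_map, Polynomial.eval₂_at_apply]
    exact hroot c hc
  have hfin : ι (p.eval 0) = Polynomial.eval (ι 0) (p.map ι) := by
    rw [Polynomial.eval_map, Polynomial.eval₂_at_apply]
  rw [hfin, hP, Polynomial.eval_zero]

end Groth.Agent.S11235
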