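import Groth.Statements.S11239
import Mathlib

set_option autoImplicit false
universe u
open AGF

namespace Groth.Agent.S11239

/-- Let X be an m × n matrix over a commutative ring, u an upper triangular n × n matrix with ones on
the diagonal, t a diagonal n × n matrix and p ≤ n. For any choice of p rows, the minor of X·t·u
formed with these rows and the first p columns equals (t_11 ⋯ t_pp) times the corresponding minor of
X: the minors on the first p columns are semi-invariant of weight ω_p under right multiplication by
the upper triangular group. (The published statement is for the generic matrix over an algebraically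
closed field; this row states the identity over any commutative ring.) -/
theorem result (R : Type u) [CommRing R] (m n p : ℕ) (hp : p ≤ n)
    (X : Matrix (Fin m) (Fin n) R) (d : Fin n → R) (u : Matrix (Fin n) (Fin n) R)
    (hu1 : ∀ i, u i i = 1) (hu0 : ∀ i j, j < i → u i j = 0) (I : Fin p → Fin m) :
    ((X * Matrix.diagonal d * u).submatrix I (Fin.castLE hp)).det =
      (∏ i : Fin p, d (Fin.castLE hp i)) * (X.submatrix I (Fin.castLE hp)).det := by
  classical
  have h1 : (X * Matrix.diagonal d * u).submatrix I (Fin.castLE hp)
      = (X.submatrix I (Fin.castLE hp)) * Matrix.diagonal (fun i => d (Fin.castLE hp i))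
        * (u.submatrix (Fin.castLE hp) (Fin.castLE hp)) := by
    ext a b
    rw [Matrix.submatrix_apply, Matrix.mul_apply, Matrix.mul_apply]
    symm
    refine Finset.sum_of_injOn (Fin.castLE hp) (Fin.castLE_injective hp).injOn
      (fun _ _ => Finset.mem_univ _) ?_ ?_
    · intro j _ hj
      have hjb : Fin.castLE hp b < j := by
        by_contra hlt
        push Not at hlt
        apply hj
        refine ⟨⟨j.1, ?_⟩, Finset.mem_coe.2 (Finset.mem_univ _), ?_⟩
        · have : j.1 ≤ b.1 := hlt
          omega
        · ext; rfl
      rw [hu0 j _ hjb, mul_zero]
    · intro j _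
      rw [Matrix.mul_diagonal, Matrix.mul_diagonal]
      rfl
  rw [h1, Matrix.det_mul, Matrix.det_mul, Matrix.det_diagonal]
  have h2 : (u.submatrix (Fin.castLE hp) (Fin.castLE hp)).det = 1 := by
    rw [Matrix.det_of_isUpperTriangular]
    · simp [hu1]
    · intro i j hij
      exact hu0 _ _ hij
  rw [h2, mul_one, mul_comm]

end Groth.Agent.S11239
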