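import Groth.Statements.S11240
import Mathlib

set_option autoImplicit false
universe u
open AGF

namespace Groth.Agent.S11240

/-- For a single root subgroup: let k be an algebraically closed field and X = (x_ab) the generic n × m
matrix over the polynomial ring k[x_ab]. Let i ≠ j be row indices and let I (rows) and J (columns)
be strictly increasing sequences of length p. The minor of X with rows I and columns J is invariant
under replacing X by (1 + b·E_ij)·X for every b ∈ k (the one-parameter unipotent group adding b
times row j to row i) if and only if j occurs in I whenever i does. (The published statement gives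
the criterion for the group generated by several such root subgroups, which is the conjunction of
these.) -/
theorem result (k : Type u) [Field k] [IsAlgClosed k] (n m p : ℕ)
    (i j : Fin n) (hij : i ≠ j) (I : Fin p ↪o Fin n) (J : Fin p ↪o Fin m) :
    (∀ b : k, ((Matrix.transvection i j (MvPolynomial.C b) *
        (Matrix.of fun a c => (MvPolynomial.X (a, c) : MvPolynomial (Fin n × Fin m) k))).submatrix I J).det =
        ((Matrix.of fun a c => (MvPolynomial.X (a, c) : MvPolynomial (Fin n × Fin m) k)).submatrix I J).det) ↔
      (i ∈ Set.range I → j ∈ Set.range I) := by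
  classical
  obtain ⟨Xm, hXm⟩ : ∃ Xm : Matrix (Fin n) (Fin m) (MvPolynomial (Fin n × Fin m) k),
      Xm = Matrix.of fun a c => (MvPolynomial.X (a, c) : MvPolynomial (Fin n × Fin m) k) :=
    ⟨_, rfl⟩
  rw [← hXm]
  have hXa : ∀ a c, Xm a c = MvPolynomial.X (a, c) := by
    intro a c
    rw [hXm]
    rfl
  have hent : ∀ (b : k),
      (Matrix.transvection i j (MvPolynomial.C b) * Xm).submatrix I J =
      (@HMul.hMul _ _ _ Matrix.instHMulOfFintypeOfMulOfAddCommMonoid
        (Matrix.transvection i j (MvPolynomial.C b)) Xm).submatrix I J := fun _ => rfl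
  constructor
  · intro hall
    rintro ⟨r0, hr0⟩
    by_contra hj
    have h1 := hall 1
    have hmat : (Matrix.transvection i j (MvPolynomial.C (1 : k)) * Xm).submatrix I J =
        Matrix.updateRow (Xm.submatrix I J) r0
          ((Xm.submatrix I J) r0 + (fun c => Xm j (J c))) := by
      rw [hent]
      refine Matrix.ext fun r c => ?_
      rw [Matrix.submatrix_apply]
      by_cases hr : r = r0
      · subst hr
        rw [Matrix.updateRow_self, hr0,
          Matrix.transvection_mul_apply_same i j (J c) (MvPolynomial.C 1) Xm, map_one, one_mul]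
        simp only [Pi.add_apply, Matrix.submatrix_apply, hr0]
      · rw [Matrix.updateRow_ne hr,
          Matrix.transvection_mul_apply_of_ne i j (I r) (J c) ?_ (MvPolynomial.C 1) Xm,
          Matrix.submatrix_apply]
        intro h
        apply hr
        apply I.injective
        rw [h, hr0]
    rw [hmat, Matrix.det_updateRow_add, Matrix.updateRow_eq_self] at h1
    have hdet0 : (Matrix.updateRow (Xm.submatrix I J) r0 (fun c => Xm j (J c))).det = 0 := by
      linear_combination h1
    obtain ⟨ρ, hρ⟩ : ∃ ρ : Fin p → Fin n, ∀ r, ρ r = if r = r0 then j else I r :=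
      ⟨_, fun _ => rfl⟩
    have hρinj : Function.Injective ρ := by
      intro r r' h
      rw [hρ r, hρ r'] at h
      by_cases h1 : r = r0 <;> by_cases h2 : r' = r0
      · rw [h1, h2]
      · rw [if_pos h1, if_neg h2] at h
        exact absurd ⟨r', h.symm⟩ hj
      · rw [if_neg h1, if_pos h2] at h
        exact absurd ⟨r, h⟩ hj
      · rw [if_neg h1, if_neg h2] at h
        exact I.injective h
    have hN : ∀ r c, Matrix.updateRow (Xm.submatrix I J) r0 (fun c => Xm j (J c)) r c =
        MvPolynomial.X (ρ r, J c) := by
      intro r c
      by_cases hr : r = r0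
      · subst hr
        rw [Matrix.updateRow_self, hρ, if_pos rfl, hXa]
      · rw [Matrix.updateRow_ne hr, hρ, if_neg hr, Matrix.submatrix_apply, hXa]
    obtain ⟨φ, hφ⟩ : ∃ φ : MvPolynomial (Fin n × Fin m) k →+* k,
        ∀ ac, φ (MvPolynomial.X ac) = if ∃ r, ac = (ρ r, J r) then (1 : k) else 0 :=
      ⟨MvPolynomial.eval (fun ac => if ∃ r, ac = (ρ r, J r) then (1 : k) else 0),
        fun ac => MvPolynomial.eval_X _⟩
    have hmap : φ.mapMatrix
        (Matrix.updateRow (Xm.submatrix I J) r0 (fun c => Xm j (J c))) = 1 := by
      refine Matrix.ext fun r c => ?_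
      rw [RingHom.mapMatrix_apply, Matrix.map_apply, hN, hφ, Matrix.one_apply]
      by_cases hrc : r = c
      · rw [if_pos hrc, if_pos ⟨r, by rw [hrc]⟩]
      · rw [if_neg hrc, if_neg]
        rintro ⟨r', hr'⟩
        have h1 : ρ r = ρ r' := congrArg Prod.fst hr'
        have h2 : J c = J r' := congrArg Prod.snd hr'
        exact hrc ((hρinj h1).trans (J.injective h2).symm)
    have h3 := RingHom.map_det φ
      (Matrix.updateRow (Xm.submatrix I J) r0 (fun c => Xm j (J c)))
    rw [hdet0, map_zero, hmap, Matrix.det_one] at h3
    exact zero_ne_one h3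
  · intro h b
    by_cases hi : i ∈ Set.range I
    · obtain ⟨r0, hr0⟩ := hi
      obtain ⟨r1, hr1⟩ := h ⟨r0, hr0⟩
      have hne : r0 ≠ r1 := by
        intro he
        apply hij
        rw [← hr0, ← hr1, he]
      have hmat : (Matrix.transvection i j (MvPolynomial.C b) * Xm).submatrix I J =
          Matrix.updateRow (Xm.submatrix I J) r0
            ((Xm.submatrix I J) r0 + (MvPolynomial.C b : MvPolynomial (Fin n × Fin m) k) • (Xm.submatrix I J) r1) := by
        rw [hent]
        refine Matrix.ext fun r c => ?_
        rw [Matrix.submatrix_apply]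
        by_cases hr : r = r0
        · subst hr
          rw [Matrix.updateRow_self, hr0,
            Matrix.transvection_mul_apply_same i j (J c) (MvPolynomial.C b) Xm]
          simp only [Pi.add_apply, Pi.smul_apply, Matrix.submatrix_apply, hr0, hr1, smul_eq_mul]
        · rw [Matrix.updateRow_ne hr,
            Matrix.transvection_mul_apply_of_ne i j (I r) (J c) ?_ (MvPolynomial.C b) Xm,
            Matrix.submatrix_apply]
          intro h'
          apply hr
          apply I.injective
          rw [h', hr0]
      rw [hmat, Matrix.det_updateRow_add_smul_self _ hne]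
    · have hmat : (Matrix.transvection i j (MvPolynomial.C b) * Xm).submatrix I J =
          Xm.submatrix I J := by
        rw [hent]
        refine Matrix.ext fun r c => ?_
        rw [Matrix.submatrix_apply,
          Matrix.transvection_mul_apply_of_ne i j (I r) (J c) ?_ (MvPolynomial.C b) Xm,
          Matrix.submatrix_apply]
        intro h'
        exact hi ⟨r, h'⟩
      rw [hmat]

end Groth.Agent.S11240
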