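import Groth.Statements.S11257
import Mathlib
import Groth.Agent.Lib.helper5.SesRegular

set_option autoImplicit false
universe u
open W4bk4grassmannian

namespace Groth.Agent.S11257

/-- Let A be a Noetherian local integral domain with maximal ideal m, I and J ideals of A, d ≥ 1, and
f_1, …, f_d ∈ m. Assume depth A/(I+J) ≥ d - 1, depth A/I ≥ d and depth A/J ≥ d (depths of the
quotients as A-modules), that f_1, …, f_d is a regular sequence on A/I and on A/J, and that f_1, …,
f_{d-1} is a regular sequence on A/(I+J). Then f_1, …, f_d is a regular sequence on A/(I ∩ J). -/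
theorem result (A : Type u) [CommRing A] [IsDomain A]
    [IsNoetherianRing A] [IsLocalRing A] (I J : Ideal A) (d : ℕ) (hd : 0 < d) (f : Fin d → A)
    (hf : ∀ k, f k ∈ IsLocalRing.maximalIdeal A)
    (hIJd : ((d - 1 : ℕ) : ℕ∞) ≤ LocCoh.depth A (A ⧸ (I ⊔ J)))
    (hId : (d : ℕ∞) ≤ LocCoh.depth A (A ⧸ I)) (hJd : (d : ℕ∞) ≤ LocCoh.depth A (A ⧸ J))
    (hI : RingTheory.Sequence.IsRegular (A ⧸ I) (List.ofFn f))
    (hJ : RingTheory.Sequence.IsRegular (A ⧸ J) (List.ofFn f))
    (hIJ : RingTheory.Sequence.IsRegular (A ⧸ (I ⊔ J)) ((List.ofFn f).take (d - 1))) :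
    RingTheory.Sequence.IsRegular (A ⧸ (I ⊓ J)) (List.ofFn f) := by
  classical
  have h1 : I ≤ LinearMap.ker (Submodule.mkQ (I ⊔ J)) := by
    rw [Submodule.ker_mkQ]; exact le_sup_left
  have h2 : J ≤ LinearMap.ker (Submodule.mkQ (I ⊔ J)) := by
    rw [Submodule.ker_mkQ]; exact le_sup_right
  have h3 : I ⊓ J ≤ LinearMap.ker (LinearMap.prod (Submodule.mkQ I) (Submodule.mkQ J)) := by
    intro x hx
    rw [LinearMap.mem_ker]
    refine Prod.ext ?_ ?_
    · exact (Submodule.Quotient.mk_eq_zero _).mpr hx.1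
    · exact (Submodule.Quotient.mk_eq_zero _).mpr hx.2
  let i : (A ⧸ (I ⊓ J)) →ₗ[A] (A ⧸ I) × (A ⧸ J) :=
    Submodule.liftQ (I ⊓ J) (LinearMap.prod (Submodule.mkQ I) (Submodule.mkQ J)) h3
  let p : (A ⧸ I) × (A ⧸ J) →ₗ[A] (A ⧸ (I ⊔ J)) :=
    (Submodule.liftQ I (Submodule.mkQ (I ⊔ J)) h1).comp (LinearMap.fst A _ _) -
      (Submodule.liftQ J (Submodule.mkQ (I ⊔ J)) h2).comp (LinearMap.snd A _ _)
  have hi_apply : ∀ a : A, i (Submodule.Quotient.mk a) =
      (Submodule.Quotient.mk a, Submodule.Quotient.mk a) := fun a => rfl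
  have hp_apply : ∀ a b : A, p (Submodule.Quotient.mk a, Submodule.Quotient.mk b) =
      Submodule.Quotient.mk a - Submodule.Quotient.mk b := fun a b => rfl
  have hi : Function.Injective i := by
    refine (injective_iff_map_eq_zero _).mpr fun x hx => ?_
    obtain ⟨a, rfl⟩ := Submodule.Quotient.mk_surjective _ x
    rw [hi_apply, Prod.mk_eq_zero, Submodule.Quotient.mk_eq_zero,
      Submodule.Quotient.mk_eq_zero] at hx
    rw [Submodule.Quotient.mk_eq_zero]
    exact ⟨hx.1, hx.2⟩
  have hp : Function.Surjective p := by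
    intro c
    obtain ⟨a, rfl⟩ := Submodule.Quotient.mk_surjective _ c
    refine ⟨(Submodule.Quotient.mk a, Submodule.Quotient.mk 0), ?_⟩
    rw [hp_apply, Submodule.Quotient.mk_zero, sub_zero]
  have hip : Function.Exact i p := by
    rintro ⟨x, y⟩
    obtain ⟨a, rfl⟩ := Submodule.Quotient.mk_surjective _ x
    obtain ⟨b, rfl⟩ := Submodule.Quotient.mk_surjective _ y
    constructor
    · intro h
      rw [hp_apply, ← Submodule.Quotient.mk_sub, Submodule.Quotient.mk_eq_zero] at h
      obtain ⟨u, hu, v, hv, huv⟩ := Submodule.mem_sup.mp h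
      refine ⟨Submodule.Quotient.mk (a - u), ?_⟩
      rw [hi_apply]
      refine Prod.ext ?_ ?_
      · show (Submodule.Quotient.mk (a - u) : A ⧸ I) = Submodule.Quotient.mk a
        rw [Submodule.Quotient.eq]
        have : a - u - a = -u := by ring
        rw [this]
        exact I.neg_mem hu
      · show (Submodule.Quotient.mk (a - u) : A ⧸ J) = Submodule.Quotient.mk b
        rw [Submodule.Quotient.eq]
        have : a - u - b = v := by linear_combination (-1 : A) * huv
        rw [this]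
        exact hv
    · rintro ⟨z, hz⟩
      obtain ⟨c, rfl⟩ := Submodule.Quotient.mk_surjective _ z
      rw [hi_apply] at hz
      rw [← hz, hp_apply, sub_self]
  have hN : RingTheory.Sequence.IsWeaklyRegular ((A ⧸ I) × (A ⧸ J)) (List.ofFn f) :=
    H5SR.H5_isWeaklyRegular_mid _ (LinearMap.inl A (A ⧸ I) (A ⧸ J))
      (LinearMap.snd A (A ⧸ I) (A ⧸ J)) LinearMap.inl_injective Function.Exact.inl_snd
      LinearMap.snd_surjective hI.toIsWeaklyRegular hJ.toIsWeaklyRegular
  have hC : RingTheory.Sequence.IsWeaklyRegular (A ⧸ (I ⊔ J)) (List.ofFn f).dropLast := by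
    rw [List.dropLast_eq_take, List.length_ofFn]
    exact hIJ.toIsWeaklyRegular
  have hM := H5SR.H5_isWeaklyRegular_left _ i p hi hip hp hN hC
  haveI : Nontrivial (A ⧸ (I ⊓ J)) := by
    haveI := hI.nontrivial
    have hI' : I ≠ ⊤ := Ideal.Quotient.nontrivial_iff.mp this
    refine Ideal.Quotient.nontrivial_iff.mpr fun h => hI' ?_
    exact top_le_iff.mp (h ▸ inf_le_left)
  refine RingTheory.Sequence.IsRegular.of_isWeaklyRegular_of_mem_maximalIdeal (A ⧸ (I ⊓ J))
    (fun r hr => ?_) hM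
  obtain ⟨k, rfl⟩ := List.mem_ofFn.mp hr
  exact hf k

end Groth.Agent.S11257
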