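import Groth.Statements.S11268
import Mathlib

set_option autoImplicit false
open W4bk4grassmannian

namespace Groth.Agent.S11268

open W4bk4grassmannian in
/-- Let τ < w in I(d,n), the strictly increasing maps Fin d → Fin n ordered entrywise. Then there is a
Schubert divisor φ of w, i.e. φ < w with Σ_t (φ_t - t) + 1 = Σ_t (w_t - t), such that τ ≤ φ: every
proper Schubert subvariety of X(w) lies in a Schubert divisor of X(w). -/
theorem result (d n : ℕ) (τ w : Idx d n) (h : τ < w) :
    ∃ φ ∈ divisors w, τ ≤ φ := by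
  classical
  obtain ⟨hle0, hnle0⟩ := lt_iff_le_not_ge.mp h
  have hle : ∀ t, τ.1 t ≤ w.1 t := hle0
  have hnle : ¬ ∀ t, w.1 t ≤ τ.1 t := hnle0
  obtain ⟨t, ht⟩ := not_forall.mp hnle
  have ht' : τ.1 t < w.1 t := lt_of_not_ge ht
  have hSne : (Finset.univ.filter (fun t : Fin d => τ.1 t < w.1 t)).Nonempty :=
    ⟨t, by simp [ht']⟩
  obtain ⟨t₀, ht₀def⟩ : ∃ t₀, t₀ = (Finset.univ.filter (fun t : Fin d => τ.1 t < w.1 t)).min' hSne :=
    ⟨_, rfl⟩
  have ht₀ : τ.1 t₀ < w.1 t₀ := by
    have := (Finset.univ.filter (fun t : Fin d => τ.1 t < w.1 t)).min'_mem hSne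
    rw [← ht₀def] at this
    simpa using this
  have hmin : ∀ s, s < t₀ → τ.1 s = w.1 s := by
    intro s hs
    by_contra hne
    have hlt : τ.1 s < w.1 s := lt_of_le_of_ne (hle s) hne
    have : t₀ ≤ s := by
      rw [ht₀def]
      exact Finset.min'_le _ s (by simp [hlt])
    exact absurd hs (not_lt.mpr this)
  have hge : ∀ (a : Idx d n) (k : ℕ) (hk : k < d), k ≤ (a.1 ⟨k, hk⟩).val := by
    intro a k
    induction k with
    | zero => intro _; exact Nat.zero_le _
    | succ k ih =>
      intro hk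
      have h1 := ih (Nat.lt_of_succ_lt hk)
      have h2 : a.1 ⟨k, Nat.lt_of_succ_lt hk⟩ < a.1 ⟨k + 1, hk⟩ :=
        a.2 (by simp [Fin.lt_def])
      have h3 : (a.1 ⟨k, Nat.lt_of_succ_lt hk⟩).val < (a.1 ⟨k + 1, hk⟩).val := h2
      omega
  have hτt₀ : t₀.val ≤ (τ.1 t₀).val := hge τ t₀.val t₀.2
  have hv1 : (τ.1 t₀).val < (w.1 t₀).val := ht₀
  have hpv : (w.1 t₀).val - 1 < n := lt_of_le_of_lt (Nat.sub_le _ _) (w.1 t₀).2
  have hφmono : StrictMono (fun s : Fin d =>
      if s = t₀ then (⟨(w.1 t₀).val - 1, hpv⟩ : Fin n) else w.1 s) := by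
    intro a b hab
    by_cases ha : a = t₀
    · have hb : b ≠ t₀ := by rintro rfl; rw [ha] at hab; exact lt_irrefl _ hab
      simp only [ha, hb, if_true, if_false]
      have h1 : w.1 t₀ < w.1 b := w.2 (ha ▸ hab)
      have h2 : (w.1 t₀).val < (w.1 b).val := h1
      show (w.1 t₀).val - 1 < (w.1 b).val
      omega
    · by_cases hb : b = t₀
      · simp only [ha, hb, if_true, if_false]
        have hat : a < t₀ := hb ▸ hab
        have h1 : τ.1 a < τ.1 t₀ := τ.2 hat
        have h2 : (τ.1 a).val < (τ.1 t₀).val := h1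
        have h3 : (τ.1 a).val = (w.1 a).val := by rw [hmin a hat]
        show (w.1 a).val < (w.1 t₀).val - 1
        omega
      · simp only [ha, hb, if_false]
        exact w.2 hab
  refine ⟨⟨_, hφmono⟩, ⟨?_, ?_⟩, ?_⟩
  · rw [lt_iff_le_not_ge]
    constructor
    · intro s
      show (if s = t₀ then (⟨(w.1 t₀).val - 1, hpv⟩ : Fin n) else w.1 s) ≤ w.1 s
      by_cases hs : s = t₀
      · subst hs
        simp only [if_true]
        show (w.1 s).val - 1 ≤ (w.1 s).val
        omega
      · simp only [hs, if_false]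
        exact le_refl _
    · intro hcon
      have h1 : w.1 t₀ ≤ (if t₀ = t₀ then (⟨(w.1 t₀).val - 1, hpv⟩ : Fin n) else w.1 t₀) :=
        hcon t₀
      simp only [if_true] at h1
      have h2 : (w.1 t₀).val ≤ (w.1 t₀).val - 1 := h1
      omega
  · unfold codeg
    rw [← Finset.add_sum_erase Finset.univ _ (Finset.mem_univ t₀),
      ← Finset.add_sum_erase Finset.univ (fun t : Fin d => (w.1 t).val - t.val)
        (Finset.mem_univ t₀)]
    have hrest : ∑ x ∈ Finset.univ.erase t₀,
        (((if x = t₀ then (⟨(w.1 t₀).val - 1, hpv⟩ : Fin n) else w.1 x) : Fin n).val - x.val) =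
        ∑ x ∈ Finset.univ.erase t₀, ((w.1 x).val - x.val) := by
      apply Finset.sum_congr rfl
      intro x hx
      have hx' : x ≠ t₀ := Finset.ne_of_mem_erase hx
      simp only [hx', if_false]
    simp only [if_true]
    rw [hrest]
    show (w.1 t₀).val - 1 - t₀.val + _ + 1 = (w.1 t₀).val - t₀.val + _
    omega
  · intro s
    show τ.1 s ≤ (if s = t₀ then (⟨(w.1 t₀).val - 1, hpv⟩ : Fin n) else w.1 s)
    by_cases hs : s = t₀
    · subst hs
      simp only [if_true]
      show (τ.1 s).val ≤ (w.1 s).val - 1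
      omega
    · simp only [hs, if_false]
      exact hle s

end Groth.Agent.S11268
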