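import Groth.Statements.S11271
import Mathlib

set_option autoImplicit false
universe u
open W4bk4grassmannian

namespace Groth.Agent.S11271

open W4bk4grassmannian in
/-- Semistable matrices are the matrices of full rank: let K be an algebraically closed field, 0 < d <
n, and let SL_d(K) act on n × d matrices by right multiplication; a matrix A is semistable when the
zero matrix is not in the Zariski closure of its orbit, i.e. when some polynomial in the entries
vanishes at A g for every g ∈ SL_d(K) but not at 0. Then A is semistable if and only if its columns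
are linearly independent. -/
theorem result (K : Type u) [Field K]
    [IsAlgClosed K] (d n : ℕ) (hd : 0 < d) (hdn : d < n) (A : Matrix (Fin n) (Fin d) K) :
    LinearIndependent K A.transpose ↔
      ∃ f : MatRing K d n, (∀ g : Matrix.SpecialLinearGroup (Fin d) K,
        MvPolynomial.eval (fun p : Fin n × Fin d => (A * (g : Matrix (Fin d) (Fin d) K)) p.1 p.2) f = 0) ∧
        MvPolynomial.eval (fun _ : Fin n × Fin d => (0 : K)) f ≠ 0 := by
  haveI : Nonempty (Fin d) := ⟨⟨0, hd⟩⟩
  constructor
  · intro hLI
    have hinj : Function.Injective A.mulVec := Matrix.mulVec_injective_iff.2 hLI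
    have hker : LinearMap.ker (Matrix.toLin' A) = ⊥ := LinearMap.ker_eq_bot.2 hinj
    obtain ⟨g, hg⟩ := LinearMap.exists_leftInverse_of_injective (Matrix.toLin' A) hker
    set B : Matrix (Fin d) (Fin n) K := LinearMap.toMatrix' g with hB
    have hBA : B * A = 1 := by
      have h1 : LinearMap.toMatrix' (g.comp (Matrix.toLin' A)) = B * A := by
        rw [LinearMap.toMatrix'_comp, LinearMap.toMatrix'_toLin']
      rw [← h1, hg, LinearMap.toMatrix'_id]
    set Mx : Matrix (Fin d) (Fin d) (MatRing K d n) :=
      Matrix.of fun (s t : Fin d) => ∑ i : Fin n, MvPolynomial.C (B s i) * MvPolynomial.X (i, t) with hMx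
    have heval : ∀ N : Matrix (Fin n) (Fin d) K,
        MvPolynomial.eval (fun p : Fin n × Fin d => N p.1 p.2) (1 - Mx.det) = 1 - (B * N).det := by
      intro N
      have h2 : (MvPolynomial.eval (fun p : Fin n × Fin d => N p.1 p.2)).mapMatrix Mx = B * N := by
        ext s t
        simp [hMx, Matrix.mul_apply, map_sum]
      rw [map_sub, map_one, RingHom.map_det, h2]
    refine ⟨1 - Mx.det, fun g => ?_, ?_⟩
    · rw [heval (A * (g : Matrix (Fin d) (Fin d) K)), ← Matrix.mul_assoc, hBA, Matrix.one_mul,
        g.det_coe, sub_self]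
    · have h0 := heval 0
      rw [Matrix.mul_zero, Matrix.det_zero, sub_zero] at h0
      have h1 : (fun _ : Fin n × Fin d => (0 : K)) =
          fun p : Fin n × Fin d => (0 : Matrix (Fin n) (Fin d) K) p.1 p.2 := rfl
      rw [h1, h0]
      exact one_ne_zero
  · rintro ⟨f, hf, hf0⟩
    by_contra hLI
    have hninj : ¬ Function.Injective A.mulVec := fun h => hLI (Matrix.mulVec_injective_iff.1 h)
    have hex : ∃ v : Fin d → K, v ≠ 0 ∧ A.mulVec v = 0 := by
      by_contra hcon
      push_neg at hcon
      apply hninj
      intro v w hvw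
      by_contra hne
      exact hcon (v - w) (sub_ne_zero.2 hne) (by rw [Matrix.mulVec_sub, hvw, sub_self])
    obtain ⟨v, hv0, hAv⟩ := hex
    obtain ⟨i₀, hi₀⟩ : ∃ i, v i ≠ 0 := by
      by_contra hcon
      push_neg at hcon
      exact hv0 (funext hcon)
    set φ : Fin d → K := Pi.single i₀ (v i₀)⁻¹ with hφ
    have hφv : φ ⬝ᵥ v = 1 := by
      rw [hφ, single_dotProduct, inv_mul_cancel₀ hi₀]
    have hdet : ∀ t : K, t ≠ 0 →
        (t • (1 + Matrix.vecMulVec ((t⁻¹ ^ d - 1) • v) φ) : Matrix (Fin d) (Fin d) K).det = 1 := by
      intro t ht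
      rw [Matrix.det_smul, Fintype.card_fin, Matrix.vecMulVec_eq Unit,
        Matrix.det_one_add_replicateCol_mul_replicateRow, dotProduct_smul, hφv, smul_eq_mul, mul_one,
        add_sub_cancel, ← mul_pow, mul_inv_cancel₀ ht, one_pow]
    have hAG : ∀ t : K, A * (t • (1 + Matrix.vecMulVec ((t⁻¹ ^ d - 1) • v) φ)) = t • A := by
      intro t
      rw [Matrix.mul_smul, Matrix.mul_add, Matrix.mul_one, Matrix.mul_vecMulVec, Matrix.mulVec_smul,
        hAv, smul_zero, Matrix.zero_vecMulVec, add_zero]
    have hroot : ∀ t : K, t ≠ 0 →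
        MvPolynomial.eval (fun p : Fin n × Fin d => t * A p.1 p.2) f = 0 := by
      intro t ht
      have h2 : (fun p : Fin n × Fin d => t * A p.1 p.2) =
          (fun p : Fin n × Fin d =>
            ((A * (t • (1 + Matrix.vecMulVec ((t⁻¹ ^ d - 1) • v) φ)) :
              Matrix (Fin n) (Fin d) K)) p.1 p.2) := by
        funext p
        rw [hAG t]
        rfl
      rw [h2]
      exact hf ⟨_, hdet t ht⟩
    set P : Polynomial K := MvPolynomial.aeval
      (fun p : Fin n × Fin d => Polynomial.X * Polynomial.C (A p.1 p.2)) f with hP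
    have hPeval : ∀ t : K,
        P.eval t = MvPolynomial.eval (fun p : Fin n × Fin d => t * A p.1 p.2) f := by
      intro t
      have hcomp : ((Polynomial.aeval t : Polynomial K →ₐ[K] K).comp (MvPolynomial.aeval
          (fun p : Fin n × Fin d => Polynomial.X * Polynomial.C (A p.1 p.2)))) =
          MvPolynomial.aeval (fun p : Fin n × Fin d => t * A p.1 p.2) := by
        apply MvPolynomial.algHom_ext
        intro p
        simp
        exact mul_comm _ _
      exact AlgHom.congr_fun hcomp f
    have hP0 : P = 0 := by
      apply Polynomial.eq_zero_of_infinite_isRoot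
      apply Set.Infinite.mono (s := ({0} : Set K)ᶜ)
      · intro t ht
        show P.IsRoot t
        rw [Polynomial.IsRoot.def, hPeval]
        exact hroot t ht
      · exact (Set.finite_singleton (0 : K)).infinite_compl
    apply hf0
    have h0 : (fun _ : Fin n × Fin d => (0 : K)) = fun p : Fin n × Fin d => 0 * A p.1 p.2 := by
      funext p
      rw [zero_mul]
    rw [h0, ← hPeval 0, hP0, Polynomial.eval_zero]

end Groth.Agent.S11271
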