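import Groth.Statements.S11277
import Mathlib

set_option autoImplicit false
universe u v
open W4bk4grassmannian

namespace Groth.Agent.S11277

/-- Let K be a field, R = ⊕_{i ≥ 0} R_i an ℕ-graded commutative K-algebra which is an integral domain,
and s ∈ R_e a homogeneous element of degree e > 0. Let R_(s) ⊆ R[1/s] be the homogeneous
localization (fractions f / s^k with f homogeneous of degree k e). Then the image of s in R[1/s] is
transcendental over R_(s). -/
theorem result (K : Type u) [Field K] (R : Type v) [CommRing R]
    [IsDomain R] [Algebra K R] (𝒜 : ℕ → Submodule K R) [GradedAlgebra 𝒜] (e : ℕ) (he : 0 < e) (s : R)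
    (hs : s ∈ 𝒜 e) :
    Transcendental (HomogeneousLocalization.Away 𝒜 s) (algebraMap R (Localization.Away s) s) := by
  classical
  rintro ⟨p, hp0, hp⟩
  by_cases hs0 : s = 0
  · haveI : Subsingleton (HomogeneousLocalization.Away 𝒜 s) :=
      HomogeneousLocalization.subsingleton 𝒜 ⟨1, by simp [hs0]⟩
    exact hp0 (Subsingleton.elim _ _)
  have hev : ∀ᶠ n in Filter.atTop, ∀ i ∈ p.support, s ^ n • (p.coeff i).val ∈
      algebraMap R (Localization.Away s) '' (𝒜 (n • e) : Set R) :=
    (Filter.eventually_all_finset _).2
      (fun i _ => HomogeneousLocalization.Away.eventually_smul_mem hs (p.coeff i))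
  obtain ⟨N, hN⟩ := hev.exists
  choose! g hg using hN
  have hsum : ∑ i ∈ p.support, g i * s ^ i = 0 := by
    apply IsLocalization.injective (Localization.Away s)
      (powers_le_nonZeroDivisors_of_noZeroDivisors hs0)
    rw [map_zero, map_sum]
    have h1 : ∀ i ∈ p.support, algebraMap R (Localization.Away s) (g i * s ^ i) =
        s ^ N • ((p.coeff i).val * (algebraMap R (Localization.Away s) s) ^ i) := by
      intro i hi
      rw [map_mul, (hg i hi).2, map_pow, smul_mul_assoc]
    rw [Finset.sum_congr rfl h1, ← Finset.smul_sum]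
    have h2 : ∑ i ∈ p.support, (p.coeff i).val * (algebraMap R (Localization.Away s) s) ^ i = 0 := by
      rw [Polynomial.aeval_def, Polynomial.eval₂_eq_sum, Polynomial.sum_def] at hp
      exact hp
    rw [h2, smul_zero]
  have hcoeff : ∀ j ∈ p.support, g j * s ^ j = 0 := by
    intro j hj
    have h3 := congrArg (GradedRing.proj 𝒜 (N • e + j • e)) hsum
    rw [map_sum, map_zero, Finset.sum_eq_single j] at h3
    · rwa [GradedRing.proj_apply, DirectSum.decompose_of_mem_same] at h3
      exact SetLike.mul_mem_graded (hg j hj).1 (SetLike.pow_mem_graded j hs)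
    · intro i hi hij
      rw [GradedRing.proj_apply, DirectSum.decompose_of_mem_ne 𝒜
        (SetLike.mul_mem_graded (hg i hi).1 (SetLike.pow_mem_graded i hs))]
      intro h
      apply hij
      have h4 : i • e = j • e := Nat.add_left_cancel h
      exact Nat.eq_of_mul_eq_mul_right he (by simpa [smul_eq_mul] using h4)
    · intro h; exact absurd hj h
  obtain ⟨j, hj⟩ : p.support.Nonempty := Polynomial.support_nonempty.2 hp0
  have hgj : g j = 0 := by
    rcases mul_eq_zero.1 (hcoeff j hj) with h | h
    · exact h
    · exact absurd h (pow_ne_zero j hs0)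
  have h5 := (hg j hj).2
  rw [hgj, map_zero, Algebra.smul_def] at h5
  have hu : IsUnit (algebraMap R (Localization.Away s) (s ^ N)) :=
    IsLocalization.map_units (Localization.Away s) (⟨s ^ N, N, rfl⟩ : Submonoid.powers s)
  have h6 : (p.coeff j).val = 0 := (hu.mul_right_eq_zero).1 h5.symm
  have h7 : p.coeff j = 0 := HomogeneousLocalization.val_injective _ (by rw [h6, HomogeneousLocalization.val_zero])
  exact (Polynomial.mem_support_iff.1 hj) h7

end Groth.Agent.S11277
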