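import Groth.Statements.S1128
import Mathlib

set_option autoImplicit false
open CategoryTheory CategoryTheory.Limits AlgebraicGeometry Opposite
universe u
open Desc

namespace Groth.Agent.S1128

open TensorProduct in
/-- Flatness descends along a faithfully flat second map. -/
theorem flat_of_comp_faithfullyFlat (R S T : Type u) [CommRing R] [CommRing S] [CommRing T]
    [Algebra R S] [Algebra S T] [Algebra R T] [IsScalarTower R S T]
    [Module.Flat R T] [Module.FaithfullyFlat S T] : Module.Flat R S := by
  rw [Module.Flat.iff_lTensor_preserves_injective_linearMap]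
  intro N P _ _ _ _ f hf
  have h1 : Function.Injective (LinearMap.lTensor T f) :=
    Module.Flat.lTensor_preserves_injective_linearMap f hf
  have key : ∀ x : T ⊗[S] (S ⊗[R] N),
      AlgebraTensorModule.cancelBaseChange R S S T P (LinearMap.lTensor T (f.baseChange S) x) =
        LinearMap.lTensor T f (AlgebraTensorModule.cancelBaseChange R S S T N x) := by
    intro x
    induction x using TensorProduct.induction_on with
    | zero => simp
    | add x y hx hy => simp only [map_add, hx, hy]
    | tmul t y =>
      induction y using TensorProduct.induction_on with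
      | zero => simp
      | add x y hx hy => simp only [tmul_add, map_add, hx, hy]
      | tmul s n => simp
  have h2 : Function.Injective (LinearMap.lTensor T (f.baseChange S)) := by
    intro x y hxy
    have := congrArg (AlgebraTensorModule.cancelBaseChange R S S T P) hxy
    rw [key, key] at this
    exact (AlgebraTensorModule.cancelBaseChange R S S T N).injective (h1 this)
  exact (Module.FaithfullyFlat.lTensor_injective_iff_injective S T (f.baseChange S)).mp h2

theorem result {X' X Y : Scheme.{u}} (f : X' ⟶ X) (g : X ⟶ Y) [Flat f]
    [Surjective f] [Flat (f ≫ g)] : Flat g := by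
  rw [Flat.iff_flat_stalkMap]
  intro x
  obtain ⟨x', rfl⟩ := f.surjective x
  have h1 : (f.stalkMap x').hom.Flat := Flat.stalkMap f x'
  have h2 : ((f ≫ g).stalkMap x').hom.Flat := Flat.stalkMap (f ≫ g) x'
  rw [Scheme.Hom.stalkMap_comp] at h2
  have hloc : IsLocalHom (f.stalkMap x').hom := f.toLRSHom.prop x'
  algebraize [(g.stalkMap (f x')).hom, (f.stalkMap x').hom,
    ((g.stalkMap (f x')) ≫ (f.stalkMap x')).hom]
  have : IsScalarTower (Y.presheaf.stalk (g (f x'))) (X.presheaf.stalk (f x'))
      (X'.presheaf.stalk x') := IsScalarTower.of_algebraMap_eq' rfl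
  have : Module.Flat (X.presheaf.stalk (f x')) (X'.presheaf.stalk x') := h1
  have : Module.Flat (Y.presheaf.stalk (g (f x'))) (X'.presheaf.stalk x') := h2
  have : Module.FaithfullyFlat (X.presheaf.stalk (f x')) (X'.presheaf.stalk x') :=
    Module.FaithfullyFlat.of_flat_of_isLocalHom
  exact flat_of_comp_faithfullyFlat (Y.presheaf.stalk (g (f x'))) (X.presheaf.stalk (f x'))
    (X'.presheaf.stalk x')

end Groth.Agent.S1128
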