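import Groth.Statements.S11288
import Mathlib

set_option autoImplicit false
universe u
open Deform

namespace Groth.Agent.S11288

/-- Let K be a field, R' a local Artinian K-algebra with residue field K, and t a nonzero element of the
maximal ideal m' of R' with m' t = 0, so that R' → R = R'/(t) is a small extension of R. Then the
extension is trivial, i.e. the projection admits a section which is a K-algebra map, if and only if
t is not in m'^2; equivalently, iff the surjection m'/m'^2 → m_R/m_R^2 induced on cotangent spaces,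
whose kernel is spanned by the class of t, is not bijective. For instance K[t]/(t^(n+1)) →
K[t]/(t^n) is a non-trivial small extension for n ≥ 2. (The published example allows any local
K-algebra with residue field K; the row takes R' Artinian, the case in which the subalgebra
generated by lifts of a basis of the cotangent space maps onto R.) -/
theorem result
    {K : Type u} [Field K]
    {R' : Type u} [CommRing R'] [Algebra K R'] [IsLocalRing R'] [IsArtinianRing R']
    (hres : ∀ a : R', ∃ c : K, a - algebraMap K R' c ∈ IsLocalRing.maximalIdeal R')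
    (t : R') (ht : t ∈ IsLocalRing.maximalIdeal R') (ht0 : t ≠ 0)
    (htm : ∀ a ∈ IsLocalRing.maximalIdeal R', a * t = 0) :
    (∃ s : (R' ⧸ Ideal.span {t}) →ₐ[K] R', ∀ x, Ideal.Quotient.mk (Ideal.span {t}) (s x) = x) ↔
      t ∉ IsLocalRing.maximalIdeal R' ^ 2 := by
  classical
  have F1 : ∀ (y : R') (c : K), y - algebraMap K R' c ∈ IsLocalRing.maximalIdeal R' →
      y * t = algebraMap K R' c * t := by
    intro y c h
    have := htm _ h
    rw [sub_mul, sub_eq_zero] at this
    exact this
  have F2 : ∀ c : K, algebraMap K R' c ∈ IsLocalRing.maximalIdeal R' → c = 0 := by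
    intro c hc
    by_contra h0
    have hu : IsUnit (algebraMap K R' c) := (IsUnit.mk0 c h0).map _
    exact (IsLocalRing.mem_maximalIdeal _).1 hc hu
  constructor
  · rintro ⟨s, hs⟩ htsq
    have hdecomp : ∀ a ∈ IsLocalRing.maximalIdeal R',
        ∃ r : R', a = s (Ideal.Quotient.mk _ a) + r * t ∧
          s (Ideal.Quotient.mk (Ideal.span {t}) a) * t = 0 := by
      intro a ha
      have h1 : a - s (Ideal.Quotient.mk _ a) ∈ Ideal.span {t} := by
        rw [← Ideal.Quotient.eq_zero_iff_mem, map_sub, hs, sub_self]
      obtain ⟨r, hr⟩ := Ideal.mem_span_singleton'.1 h1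
      refine ⟨r, by rw [hr]; ring, ?_⟩
      apply htm
      have : s (Ideal.Quotient.mk (Ideal.span {t}) a) = a - r * t := by rw [hr]; ring
      rw [this]
      exact Ideal.sub_mem _ ha (Ideal.mul_mem_left _ _ ht)
    have hsq : ∀ x ∈ IsLocalRing.maximalIdeal R' ^ 2,
        s (Ideal.Quotient.mk (Ideal.span {t}) x) = x := by
      intro x hx
      rw [pow_two] at hx
      refine Submodule.mul_induction_on hx ?_ ?_
      · intro a ha b hb
        obtain ⟨r, hr, hr0⟩ := hdecomp a ha
        obtain ⟨r', hr', hr0'⟩ := hdecomp b hb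
        have htt : t * t = 0 := htm t ht
        rw [map_mul, map_mul]
        conv_rhs => rw [hr, hr']
        have e : (s (Ideal.Quotient.mk (Ideal.span {t}) a) + r * t) *
            (s (Ideal.Quotient.mk (Ideal.span {t}) b) + r' * t) =
            s (Ideal.Quotient.mk (Ideal.span {t}) a) * s (Ideal.Quotient.mk (Ideal.span {t}) b)
            + r' * (s (Ideal.Quotient.mk (Ideal.span {t}) a) * t)
            + r * (s (Ideal.Quotient.mk (Ideal.span {t}) b) * t) + r * r' * (t * t) := by ring
        rw [e, hr0, hr0', htt]
        simp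
      · intro a b ha hb
        rw [map_add, map_add, ha, hb]
    apply ht0
    rw [← hsq t htsq]
    have : Ideal.Quotient.mk (Ideal.span {t}) t = 0 :=
      Ideal.Quotient.eq_zero_iff_mem.2 (Ideal.mem_span_singleton_self t)
    rw [this, map_zero]
  · intro htsq
    set W : Submodule K R' := Submodule.span K {(1 : R')} ⊔
      (IsLocalRing.maximalIdeal R' ^ 2).restrictScalars K with hW
    have htW : t ∉ W := by
      intro h
      obtain ⟨y, hy, x, hx, hyx⟩ := Submodule.mem_sup.1 h
      obtain ⟨c, rfl⟩ := Submodule.mem_span_singleton.1 hy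
      have hx' : x ∈ IsLocalRing.maximalIdeal R' ^ 2 := hx
      have hxm : x ∈ IsLocalRing.maximalIdeal R' := Ideal.pow_le_self (by norm_num) hx'
      have hc : algebraMap K R' c ∈ IsLocalRing.maximalIdeal R' := by
        have : algebraMap K R' c = t - x := by
          rw [← hyx, Algebra.smul_def, mul_one]; ring
        rw [this]
        exact Ideal.sub_mem _ ht hxm
      have := F2 c hc
      subst this
      rw [zero_smul, zero_add] at hyx
      exact htsq (hyx ▸ hx')
    obtain ⟨φ, hφt, hφW⟩ := Submodule.exists_dual_map_eq_bot_of_notMem htW inferInstance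
    have hφ0 : ∀ x ∈ W, φ x = 0 := by
      intro x hx
      have : φ x ∈ W.map φ := Submodule.mem_map_of_mem hx
      rw [hφW] at this
      exact (Submodule.mem_bot K).1 this
    set ψ : R' →ₗ[K] K := (φ t)⁻¹ • φ with hψ
    have hψt : ψ t = 1 := by
      simp [hψ, hφt]
    have hψ1 : ψ 1 = 0 := by
      have : φ 1 = 0 := hφ0 1 (Submodule.mem_sup_left (Submodule.mem_span_singleton_self _))
      simp [hψ, this]
    have hψsq : ∀ a ∈ IsLocalRing.maximalIdeal R', ∀ b ∈ IsLocalRing.maximalIdeal R',
        ψ (a * b) = 0 := by
      intro a ha b hb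
      have : φ (a * b) = 0 := hφ0 _ (Submodule.mem_sup_right (by
        show a * b ∈ IsLocalRing.maximalIdeal R' ^ 2
        rw [pow_two]; exact Ideal.mul_mem_mul ha hb))
      simp [hψ, this]
    have hψmul : ∀ (x y : R') (cx cy : K), x - algebraMap K R' cx ∈ IsLocalRing.maximalIdeal R' →
        y - algebraMap K R' cy ∈ IsLocalRing.maximalIdeal R' →
        ψ (x * y) = cx * ψ y + cy * ψ x := by
      intro x y cx cy hx hy
      have e : x * y = (x - algebraMap K R' cx) * (y - algebraMap K R' cy) + cx • y + cy • x
          - (cx * cy) • (1 : R') := by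
        simp only [Algebra.smul_def, map_mul]; ring
      rw [e, map_sub, map_add, map_add, hψsq _ hx _ hy, map_smul, map_smul, map_smul, hψ1]
      simp
    let pl : R' →ₗ[K] R' := LinearMap.id - ψ.smulRight t
    have hpl : ∀ x, pl x = x - ψ x • t := fun x => rfl
    let p : R' →ₐ[K] R' := AlgHom.ofLinearMap pl (by rw [hpl, hψ1, zero_smul, sub_zero]) (by
      intro x y
      obtain ⟨cx, hx⟩ := hres x
      obtain ⟨cy, hy⟩ := hres y
      rw [hpl, hpl, hpl, hψmul x y cx cy hx hy]
      have h1 := F1 x cx hx
      have h2 := F1 y cy hy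
      have htt : t * t = 0 := htm t ht
      simp only [Algebra.smul_def, map_add, map_mul]
      have e : (x - algebraMap K R' (ψ x) * t) * (y - algebraMap K R' (ψ y) * t) =
          x * y - algebraMap K R' (ψ y) * (x * t) - algebraMap K R' (ψ x) * (y * t)
          + algebraMap K R' (ψ x) * algebraMap K R' (ψ y) * (t * t) := by ring
      rw [e, h1, h2, htt]
      ring)
    have hp : ∀ x, p x = x - ψ x • t := fun x => rfl
    have hpt : p t = 0 := by rw [hp, hψt, one_smul, sub_self]
    have hker : ∀ a ∈ Ideal.span {t}, p a = 0 := by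
      intro a ha
      obtain ⟨r, rfl⟩ := Ideal.mem_span_singleton'.1 ha
      rw [map_mul, hpt, mul_zero]
    refine ⟨Ideal.Quotient.liftₐ (Ideal.span {t}) p hker, ?_⟩
    intro x
    obtain ⟨y, rfl⟩ := Ideal.Quotient.mk_surjective x
    have : Ideal.Quotient.liftₐ (Ideal.span {t}) p hker (Ideal.Quotient.mk (Ideal.span {t}) y) = p y :=
      Ideal.Quotient.lift_mk _ _ _
    rw [this, hp, map_sub, sub_eq_self, Algebra.smul_def, map_mul]
    have : Ideal.Quotient.mk (Ideal.span {t}) t = 0 :=
      Ideal.Quotient.eq_zero_iff_mem.2 (Ideal.mem_span_singleton_self t)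
    rw [this, mul_zero]

end Groth.Agent.S11288
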