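import Groth.Statements.S11298
import Mathlib
import Groth.Agent.Lib.helper5.HomDepth

set_option autoImplicit false
universe u v
open LocCoh

namespace Groth.Agent.S11298

/-- Let X = Spec B be an affine Noetherian scheme, Z = V(I) a closed subscheme and G a coherent sheaf,
i.e. a finitely generated B-module M, with dual G^v = Hom_B(M, B). If depth_Z(O_X) ≥ 2 then
depth_Z(G^v) ≥ 2. Here the depth along I of a module N is the supremum of the lengths of N-regular
sequences contained in I (and is infinite when I N = N). (The published statement adds that sections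
of the dual over X and over X minus Z agree; this row omits that clause.) -/
theorem result (B : Type u) [CommRing B] [IsNoetherianRing B]
    (I : Ideal B) (M : Type v) [AddCommGroup M] [Module B M] [Module.Finite B M]
    (h : 2 ≤ LocCoh.idealDepth I B) : 2 ≤ LocCoh.idealDepth I (M →ₗ[B] B) := by
  have hdeg : I • (⊤ : Submodule B B) = ⊤ → I • (⊤ : Submodule B (M →ₗ[B] B)) = ⊤ := by
    intro h'
    have hI : I = ⊤ := by
      refine top_le_iff.mp (h'.symm.le.trans ?_)
      exact Submodule.smul_le.mpr fun r hr n _ => by
        rw [smul_eq_mul]; exact I.mul_mem_right n hr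
    rw [hI, Submodule.top_smul]
  have h2 : ((2 : ℕ) : ℕ∞) ≤ LocCoh.idealDepth I B := by exact_mod_cast h
  have := H5HD.H5_le_idealDepth_hom I M B 2 le_rfl hdeg h2
  exact_mod_cast this

end Groth.Agent.S11298
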