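import Groth.Statements.S11306
import Mathlib

set_option autoImplicit false
universe u
open TensorProduct
open CAlg

namespace Groth.Agent.S11306

/-- Take a Noetherian local domain A, with residue field k and fraction field K, and let M be a finitely
generated A-module. If k ⊗_A M and K ⊗_A M have the same dimension r (over k and over K
respectively), then M is a free A-module of rank r. -/
theorem result (A : Type u) [CommRing A] [IsDomain A]
    [IsNoetherianRing A] [IsLocalRing A] (M : Type u) [AddCommGroup M] [Module A M] [Module.Finite A M] (r : ℕ)
    (hk : Module.finrank (IsLocalRing.ResidueField A) (IsLocalRing.ResidueField A ⊗[A] M) = r)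
    (hK : Module.finrank (FractionRing A) (FractionRing A ⊗[A] M) = r) :
    Module.Free A M ∧ Module.finrank A M = r := by
  classical
  -- basis of the fibre
  let b : Module.Basis (Fin r) (IsLocalRing.ResidueField A) (IsLocalRing.ResidueField A ⊗[A] M) :=
    Module.finBasisOfFinrankEq _ _ hk
  have hsurj : Function.Surjective (TensorProduct.mk A (IsLocalRing.ResidueField A) M 1) :=
    TensorProduct.mk_surjective A M (IsLocalRing.ResidueField A) Ideal.Quotient.mk_surjective
  choose v hv using fun i => hsurj (b i)
  have hspan : Submodule.span A (Set.range v) = ⊤ :=
    IsLocalRing.span_eq_top_of_tmul_eq_basis v b hv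
  -- images in K ⊗ M
  let w : Fin r → FractionRing A ⊗[A] M := fun i => (1 : FractionRing A) ⊗ₜ[A] v i
  have hwspan : ⊤ ≤ Submodule.span (FractionRing A) (Set.range w) := by
    intro x hx0
    clear hx0
    induction x using TensorProduct.induction_on with
    | zero => exact Submodule.zero_mem _
    | add x y hx hy => exact Submodule.add_mem _ hx hy
    | tmul c m =>
      have h1 : (1 : FractionRing A) ⊗ₜ[A] m ∈ Submodule.span (FractionRing A) (Set.range w) := by
        have hm : m ∈ Submodule.span A (Set.range v) := by rw [hspan]; trivial
        refine Submodule.span_induction (p := fun m _ => (1 : FractionRing A) ⊗ₜ[A] m ∈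
          Submodule.span (FractionRing A) (Set.range w)) ?_ ?_ ?_ ?_ hm
        · rintro _ ⟨i, rfl⟩
          exact Submodule.subset_span ⟨i, rfl⟩
        · rw [TensorProduct.tmul_zero]; exact Submodule.zero_mem _
        · intro x y _ _ hx hy
          rw [TensorProduct.tmul_add]; exact Submodule.add_mem _ hx hy
        · intro a x _ hx
          rw [TensorProduct.tmul_smul, ← algebraMap_smul (FractionRing A) a]
          exact Submodule.smul_mem _ _ hx
      have h2 : c ⊗ₜ[A] m = c • ((1 : FractionRing A) ⊗ₜ[A] m) := by
        rw [TensorProduct.smul_tmul', smul_eq_mul, mul_one]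
      rw [h2]
      exact Submodule.smul_mem _ _ h1
  have hwli : LinearIndependent (FractionRing A) w :=
    linearIndependent_of_top_le_span_of_card_eq_finrank hwspan (by simp [hK])
  have hwliA : LinearIndependent A w := by
    refine hwli.restrict_scalars ?_
    intro a a' h
    simp only [Algebra.smul_def, mul_one] at h
    exact IsFractionRing.injective A (FractionRing A) h
  have hvli : LinearIndependent A v :=
    LinearIndependent.of_comp (TensorProduct.mk A (FractionRing A) M 1) hwliA
  let B : Module.Basis (Fin r) A M := Module.Basis.mk hvli (by rw [hspan])
  exact ⟨Module.Free.of_basis B, by rw [Module.finrank_eq_card_basis B, Fintype.card_fin]⟩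

end Groth.Agent.S11306
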