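import Groth.Statements.S1131
import Mathlib

set_option autoImplicit false
open CategoryTheory CategoryTheory.Limits AlgebraicGeometry Opposite
universe u
open Desc

namespace Groth.Agent.S1131

/-- If p : X ⟶ S is surjective, flat and quasi-compact, then the functor sending a scheme over S to its
canonical descent datum relative to p is full. (Faithfulness, which needs no quasi-compactness, is a
companion statement.) (Descent data are taken in functor-of-points form, equivalent by the Yoneda
lemma to the usual form of an isomorphism over X ×_S X satisfying the cocycle condition.) -/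
theorem result {X S : Scheme.{u}} (p : X ⟶ S) [Surjective p] [Flat p] [QuasiCompact p] :
    (Desc.toDD p).Full := by
  constructor
  intro U₁ U₂ F
  let q : pullback p U₁.hom ⟶ U₁.left := pullback.snd p U₁.hom
  have hqc : QuasiCompact q := inferInstance
  have hsurj : Surjective q := inferInstance
  have hflat : Flat q := inferInstance
  let Fl : pullback p U₁.hom ⟶ pullback p U₂.hom := F.hom.left
  have hFw : Fl ≫ pullback.fst p U₂.hom = pullback.fst p U₁.hom := Over.w F.hom
  let a : pullback p U₁.hom ⟶ U₂.left := Fl ≫ pullback.snd p U₂.hom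
  have ha : ∀ {Z : Scheme.{u}} (g₁ g₂ : Z ⟶ pullback p U₁.hom), g₁ ≫ q = g₂ ≫ q → g₁ ≫ a = g₂ ≫ a := by
    intro Z g₁ g₂ hg
    have hx : (g₁ ≫ pullback.fst p U₁.hom) ≫ p = (g₂ ≫ pullback.fst p U₁.hom) ≫ p := by
      rw [Category.assoc, Category.assoc, pullback.condition, ← Category.assoc, ← Category.assoc]
      exact congr($hg ≫ U₁.hom)
    have hcomm := F.comm (g₁ ≫ pullback.fst p U₁.hom) (g₂ ≫ pullback.fst p U₁.hom) hx
      ⟨g₁, rfl⟩ ⟨g₁ ≫ Fl, by
        change (g₁ ≫ Fl) ≫ pullback.fst p U₂.hom = _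
        rw [Category.assoc, hFw]⟩ rfl
    have h2 : (((Desc.toDD p).obj U₁).φ (g₁ ≫ pullback.fst p U₁.hom) (g₂ ≫ pullback.fst p U₁.hom) hx
        ⟨g₁, rfl⟩).1 = g₂ := by
      apply pullback.hom_ext
      · simp [Desc.toDD, Desc.canonicalDD]
      · simp only [Desc.toDD, Desc.canonicalDD, Equiv.coe_fn_mk, Desc.canMap_val]
        erw [pullback.lift_snd]
        exact hg
    rw [h2] at hcomm
    have h3 := congr($hcomm ≫ pullback.snd p U₂.hom)
    simp only [Desc.toDD, Desc.canonicalDD, Equiv.coe_fn_mk, Desc.canMap_val] at h3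
    erw [pullback.lift_snd] at h3
    change g₁ ≫ Fl ≫ pullback.snd p U₂.hom = g₂ ≫ Fl ≫ pullback.snd p U₂.hom
    rw [← Category.assoc, ← Category.assoc]
    exact h3
  let φ : U₁.left ⟶ U₂.left := EffectiveEpi.desc q a ha
  have hφ : q ≫ φ = a := EffectiveEpi.fac q a ha
  have hepi : Epi q := Flat.epi_of_flat_of_surjective q
  have hφw : φ ≫ U₂.hom = U₁.hom := by
    rw [← cancel_epi q, ← Category.assoc, hφ]
    change (Fl ≫ pullback.snd p U₂.hom) ≫ U₂.hom = pullback.snd p U₁.hom ≫ U₁.hom
    rw [Category.assoc, ← pullback.condition, ← Category.assoc, hFw, pullback.condition]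
  refine ⟨Over.homMk φ hφw, ?_⟩
  apply Desc.SchDD.hom_ext
  apply Over.OverMorphism.ext
  change pullback.map p U₁.hom p U₂.hom (𝟙 X) φ (𝟙 S) (by simp) (by simp [hφw]) = Fl
  apply pullback.hom_ext
  · erw [pullback.lift_fst]
    rw [hFw]; simp
  · erw [pullback.lift_snd]
    exact hφ

end Groth.Agent.S1131
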