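import Groth.Statements.S11318
import Mathlib

set_option autoImplicit false
universe u
open CategoryTheory AlgebraicGeometry
open ProjDual

namespace Groth.Agent.S11318

/-- Let k be a field, X a proper k-scheme of dimension n, and (ω, t), (ω', t') two dualizing sheaves for
X: each is a coherent O_X-module with a k-linear map on its n-th cohomology to k such that for every
coherent F and every k-linear form ψ on H^n(X, F) there is exactly one morphism from F into it
through which ψ factors. Then there is exactly one morphism φ : ω → ω' with t = t' ∘ H^n(φ), and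
this φ is an isomorphism. -/
theorem result (k : Type u) [Field k] (X : Scheme.{u}) [X.Over (Spec (CommRingCat.of k))]
    [IsProper (X ↘ Spec (CommRingCat.of k))] (n : ℕ) (hn : topologicalKrullDim ↥X = n)
    (ω ω' : X.Modules) (hω : Coh.IsCoh ω) (hω' : Coh.IsCoh ω')
    (t : Coh.HH X ω n →ₗ[k] k) (t' : Coh.HH X ω' n →ₗ[k] k)
    (hd : ∀ F : X.Modules, Coh.IsCoh F → ∀ ψ : Coh.HH X F n →ₗ[k] k,
        ∃! φ : F ⟶ ω, ∀ x : Coh.HH X F n,
          ψ x = t (Sheaf.H.map ((SheafOfModules.toSheaf X.ringCatSheaf).map φ) n x))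
    (hd' : ∀ F : X.Modules, Coh.IsCoh F → ∀ ψ : Coh.HH X F n →ₗ[k] k,
        ∃! φ : F ⟶ ω', ∀ x : Coh.HH X F n,
          ψ x = t' (Sheaf.H.map ((SheafOfModules.toSheaf X.ringCatSheaf).map φ) n x)) :
    ∃ φ : ω ⟶ ω', IsIso φ ∧
      (∀ x : Coh.HH X ω n, t x = t' (Sheaf.H.map ((SheafOfModules.toSheaf X.ringCatSheaf).map φ) n x)) ∧
      ∀ ψ : ω ⟶ ω', (∀ x : Coh.HH X ω n, t x = t' (Sheaf.H.map ((SheafOfModules.toSheaf X.ringCatSheaf).map ψ) n x)) → ψ = φ := by
  obtain ⟨φ, hφ, hφu⟩ := hd' ω hω t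
  obtain ⟨φ', hφ', hφ'u⟩ := hd ω' hω' t'
  obtain ⟨i, hi, hiu⟩ := hd ω hω t
  obtain ⟨i', hi', hi'u⟩ := hd' ω' hω' t'
  have c1 : ∀ x, CategoryTheory.Sheaf.H.map ((SheafOfModules.toSheaf X.ringCatSheaf).map φ') n
      (CategoryTheory.Sheaf.H.map ((SheafOfModules.toSheaf X.ringCatSheaf).map φ) n x) =
      CategoryTheory.Sheaf.H.map ((SheafOfModules.toSheaf X.ringCatSheaf).map (φ ≫ φ')) n x := by
    intro x
    rw [← CategoryTheory.Sheaf.H.map_comp_apply]
    rfl
  have c2 : ∀ x, CategoryTheory.Sheaf.H.map ((SheafOfModules.toSheaf X.ringCatSheaf).map φ) n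
      (CategoryTheory.Sheaf.H.map ((SheafOfModules.toSheaf X.ringCatSheaf).map φ') n x) =
      CategoryTheory.Sheaf.H.map ((SheafOfModules.toSheaf X.ringCatSheaf).map (φ' ≫ φ)) n x := by
    intro x
    rw [← CategoryTheory.Sheaf.H.map_comp_apply]
    rfl
  have c3 : ∀ x, CategoryTheory.Sheaf.H.map ((SheafOfModules.toSheaf X.ringCatSheaf).map (𝟙 ω)) n x
      = x := by
    intro x
    exact CategoryTheory.Sheaf.H.map_id_apply x
  have c4 : ∀ x, CategoryTheory.Sheaf.H.map ((SheafOfModules.toSheaf X.ringCatSheaf).map (𝟙 ω')) n x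
      = x := by
    intro x
    exact CategoryTheory.Sheaf.H.map_id_apply x
  have h1 : φ ≫ φ' = 𝟙 ω := by
    have a := hiu (φ ≫ φ') (fun x => (hφ x).trans ((hφ' _).trans (congrArg t (c1 x))))
    have b := hiu (𝟙 ω) (fun x => congrArg t (c3 x).symm)
    rw [a, b]
  have h2 : φ' ≫ φ = 𝟙 ω' := by
    have a := hi'u (φ' ≫ φ) (fun x => (hφ' x).trans ((hφ _).trans (congrArg t' (c2 x))))
    have b := hi'u (𝟙 ω') (fun x => congrArg t' (c4 x).symm)
    rw [a, b]
  exact ⟨φ, ⟨⟨φ', h1, h2⟩⟩, hφ, fun ψ hψ => hφu ψ hψ⟩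

end Groth.Agent.S11318
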