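import Groth.Statements.S14621
import Mathlib

set_option autoImplicit false
open CategoryTheory CategoryTheory.Limits
universe u
open CohSite

namespace Groth.Agent.S14621


open CategoryTheory CategoryTheory.Limits Opposite


lemma exists_common {I : Type*} [Category I] [IsFiltered I] {κ : Type*} [Finite κ] (p : κ → I → Prop)
    (hup : ∀ k ⦃i j : I⦄ (_ : i ⟶ j), p k i → p k j) (hne : ∀ k, ∃ i, p k i) :
    ∃ i, ∀ k, p k i := by
  classical
  cases nonempty_fintype κ
  choose i hi using hne
  obtain ⟨S, hS⟩ := IsFiltered.sup_objs_exists (Finset.univ.image i)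
  refine ⟨S, fun k => ?_⟩
  obtain ⟨f⟩ := hS (Finset.mem_image_of_mem i (Finset.mem_univ k))
  exact hup k f (hi k)

section core
variable {C : Type u} [SmallCategory C] [HasPullbacks C] {J : GrothendieckTopology C}
variable {I : Type u} [SmallCategory I] [IsFiltered I]
variable (F : I ⥤ Sheaf J (Type u)) (c : Cocone (F ⋙ sheafToPresheaf J (Type u))) (hc : IsColimit c)

/-- evaluation cocone is colimit -/
noncomputable def hcU (U : C) :
    IsColimit (((evaluation Cᵒᵖ (Type u)).obj (op U)).mapCocone c) :=
  isColimitOfPreserves _ hc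

lemma ι_nat (i : I) {U V : C} (g : V ⟶ U) (y : (F.obj i).obj.obj (op U)) :
    c.pt.map g.op ((c.ι.app i).app (op U) y) =
      (c.ι.app i).app (op V) ((F.obj i).obj.map g.op y) := by
  have := ConcreteCategory.congr_hom ((c.ι.app i).naturality g.op) y
  exact this.symm

lemma ι_w {i j : I} (f : i ⟶ j) (U : C) (y : (F.obj i).obj.obj (op U)) :
    (c.ι.app j).app (op U) ((F.map f).hom.app (op U) y) = (c.ι.app i).app (op U) y := by
  have := ConcreteCategory.congr_hom (congr_app (c.w f) (op U)) y
  exact this

lemma map_nat {i j : I} (f : i ⟶ j) {U V : C} (g : V ⟶ U) (y : (F.obj i).obj.obj (op U)) :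
    (F.obj j).obj.map g.op ((F.map f).hom.app (op U) y) =
      (F.map f).hom.app (op V) ((F.obj i).obj.map g.op y) := by
  have := ConcreteCategory.congr_hom ((F.map f).hom.naturality g.op) y
  exact this.symm

include hc in
lemma exists_rep (U : C) (x : c.pt.obj (op U)) :
    ∃ (i : I) (y : (F.obj i).obj.obj (op U)), (c.ι.app i).app (op U) y = x :=
  Types.jointly_surjective_of_isColimit (hcU F c hc U) x

include hc in
lemma eq_iff' (U : C) {i : I} (y y' : (F.obj i).obj.obj (op U)) :
    (c.ι.app i).app (op U) y = (c.ι.app i).app (op U) y' ↔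
      ∃ (j : I) (f : i ⟶ j), (F.map f).hom.app (op U) y = (F.map f).hom.app (op U) y' :=
  Types.FilteredColimit.isColimit_eq_iff' (hcU F c hc U) y y'


include hc in
lemma sep_fin {X : C} {n : ℕ} (V : Fin n → C) (g : ∀ k, V k ⟶ X)
    (hg : Sieve.ofArrows V g ∈ J X) {m : I} (a b : (F.obj m).obj.obj (op X))
    (hab : ∀ k, (c.ι.app m).app (op (V k)) ((F.obj m).obj.map (g k).op a) =
      (c.ι.app m).app (op (V k)) ((F.obj m).obj.map (g k).op b)) :
    (c.ι.app m).app (op X) a = (c.ι.app m).app (op X) b := by
  obtain ⟨j, hj⟩ := exists_common (I := Under m) (κ := Fin n)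
    (fun k (j : Under m) => (F.map j.hom).hom.app _ ((F.obj m).obj.map (g k).op a) =
      (F.map j.hom).hom.app _ ((F.obj m).obj.map (g k).op b))
    (fun k j j' f h => by
      have e : j'.hom = j.hom ≫ f.right := (Under.w f).symm
      rw [e, F.map_comp]
      show (F.map f.right).hom.app _ ((F.map j.hom).hom.app _ _) =
        (F.map f.right).hom.app _ ((F.map j.hom).hom.app _ _)
      rw [h])
    (fun k => by
      obtain ⟨j, f, hf⟩ := (eq_iff' F c hc _ _ _).1 (hab k)
      exact ⟨Under.mk f, hf⟩)
  have hsh : (Presieve.ofArrows V g).IsSheafFor (F.obj j.right).obj :=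
    ((isSheaf_iff_isSheaf_of_type _ _).1 (F.obj j.right).property).isSheafFor _ hg
  have hEq : (F.map j.hom).hom.app (op X) a = (F.map j.hom).hom.app (op X) b := by
    apply hsh.isSeparatedFor.ext
    rintro _ _ ⟨k⟩
    rw [map_nat, map_nat]
    exact hj k
  rw [← ι_w F c j.hom X a, ← ι_w F c j.hom X b, hEq]

include hc in
theorem isSheafFor_fin {X : C} {n : ℕ} (V : Fin n → C) (g : ∀ k, V k ⟶ X)
    (hg : Sieve.ofArrows V g ∈ J X) : (Presieve.ofArrows V g).IsSheafFor c.pt := by
  rw [Presieve.isSheafFor_arrows_iff_pullbacks]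
  intro x hx
  obtain ⟨i₀, hi₀⟩ := exists_common
    (fun (k : Fin n) (i : I) => ∃ y : (F.obj i).obj.obj (op (V k)),
      (c.ι.app i).app (op (V k)) y = x k)
    (fun k i j f ⟨y, hy⟩ => ⟨(F.map f).hom.app _ y, by rw [ι_w, hy]⟩)
    (fun k => exists_rep F c hc (V k) (x k))
  choose y hy using hi₀
  obtain ⟨j, hj⟩ := exists_common (I := Under i₀) (κ := Fin n × Fin n)
    (fun kl (j : Under i₀) => (F.map j.hom).hom.app _
        ((F.obj i₀).obj.map (pullback.fst (g kl.1) (g kl.2)).op (y kl.1)) =
      (F.map j.hom).hom.app _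
        ((F.obj i₀).obj.map (pullback.snd (g kl.1) (g kl.2)).op (y kl.2)))
    (fun kl j j' f h => by
      have e : j'.hom = j.hom ≫ f.right := (Under.w f).symm
      rw [e, F.map_comp]
      show (F.map f.right).hom.app _ ((F.map j.hom).hom.app _ _) =
        (F.map f.right).hom.app _ ((F.map j.hom).hom.app _ _)
      rw [h])
    (fun kl => by
      have h0 : (c.ι.app i₀).app (op (pullback (g kl.1) (g kl.2)))
          ((F.obj i₀).obj.map (pullback.fst (g kl.1) (g kl.2)).op (y kl.1)) =
          (c.ι.app i₀).app (op (pullback (g kl.1) (g kl.2)))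
          ((F.obj i₀).obj.map (pullback.snd (g kl.1) (g kl.2)).op (y kl.2)) := by
        rw [← ι_nat, ← ι_nat, hy, hy]; exact hx kl.1 kl.2
      obtain ⟨j, f, hf⟩ := (eq_iff' F c hc _ _ _).1 h0
      exact ⟨Under.mk f, hf⟩)
  let y' : ∀ k, (F.obj j.right).obj.obj (op (V k)) := fun k => (F.map j.hom).hom.app _ (y k)
  have hy' : Presieve.Arrows.PullbackCompatible (F.obj j.right).obj g y' := by
    intro k l
    show (F.obj j.right).obj.map _ ((F.map j.hom).hom.app _ (y k)) =
      (F.obj j.right).obj.map _ ((F.map j.hom).hom.app _ (y l))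
    rw [map_nat, map_nat]
    exact hj (k, l)
  have hsh : (Presieve.ofArrows V g).IsSheafFor (F.obj j.right).obj :=
    ((isSheaf_iff_isSheaf_of_type _ _).1 (F.obj j.right).property).isSheafFor _ hg
  rw [Presieve.isSheafFor_arrows_iff_pullbacks] at hsh
  obtain ⟨t₁, ht₁, _⟩ := hsh y' hy'
  have key : ∀ k, c.pt.map (g k).op ((c.ι.app j.right).app (op X) t₁) = x k := by
    intro k
    rw [ι_nat, ht₁ k]
    show (c.ι.app j.right).app _ ((F.map j.hom).hom.app _ (y k)) = x k
    rw [ι_w, hy]
  refine ⟨(c.ι.app j.right).app (op X) t₁, key, ?_⟩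
  intro t' ht'
  obtain ⟨i₂, y₂, rfl⟩ := exists_rep F c hc X t'
  let m := IsFiltered.max j.right i₂
  rw [← ι_w F c (IsFiltered.leftToMax j.right i₂) X t₁, ← ι_w F c (IsFiltered.rightToMax j.right i₂) X y₂]
  apply sep_fin F c hc V g hg
  intro k
  rw [← ι_nat, ← ι_nat, ι_w, ι_w, ht' k, key k]

end core


section main
variable {C : Type u} [SmallCategory C] [HasPullbacks C] (J : GrothendieckTopology C)
    (hJ : ∀ U : C, ToposFin.IsQCSite J U)
    {I : Type u} [SmallCategory I] [IsFiltered I]

include hJ in
lemma isSheaf_pt (F : I ⥤ Sheaf J (Type u)) (c : Cocone (F ⋙ sheafToPresheaf J (Type u)))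
    (hc : IsColimit c) : Presieve.IsSheaf J c.pt := by
  intro X S hS
  obtain ⟨n, V, g, hgS, hg⟩ := hJ X S hS
  have hle' : Sieve.ofArrows V g ≤ S := by
    rw [Sieve.ofArrows, Sieve.generate_le_iff]
    rintro _ _ ⟨k⟩
    exact hgS k
  have hle : (Sieve.ofArrows V g : Presieve X) ≤ S := hle'
  apply Presieve.isSheafFor_subsieve c.pt hle
  intro Y f
  have e : (Sieve.ofArrows V g).pullback f =
      Sieve.ofArrows (fun k => pullback (g k) f) (fun k => pullback.snd (g k) f) := by
    rw [Sieve.ofArrows, Sieve.ofArrows, Presieve.ofArrows_pullback, Sieve.pullbackArrows_comm]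
  have hcov : Sieve.ofArrows (fun k => pullback (g k) f) (fun k => pullback.snd (g k) f) ∈ J Y := by
    rw [← e]; exact J.pullback_stable f hg
  rw [e, Sieve.ofArrows, ← Presieve.isSheafFor_iff_generate]
  exact isSheafFor_fin F c hc _ _ hcov

include hJ in
theorem main : PreservesColimitsOfShape I (sheafToPresheaf J (Type u)) := by
  constructor
  intro F
  let c := colimit.cocone (F ⋙ sheafToPresheaf J (Type u))
  have hc : IsColimit c := colimit.isColimit _
  have hP : Presheaf.IsSheaf J c.pt :=
    (isSheaf_iff_isSheaf_of_type _ _).2 (isSheaf_pt J hJ F c hc)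
  let c' : Cocone F :=
    { pt := ⟨c.pt, hP⟩
      ι :=
        { app := fun i => ObjectProperty.homMk (c.ι.app i)
          naturality := fun i j f => by
            apply (sheafToPresheaf J (Type u)).map_injective
            exact c.ι.naturality f } }
  have hc' : IsColimit ((sheafToPresheaf J (Type u)).mapCocone c') :=
    IsColimit.ofIsoColimit hc (Cocone.ext (Iso.refl _) (fun i => by
      apply Category.comp_id))
  exact preservesColimit_of_preserves_colimit_cocone
    (isColimitOfReflects (sheafToPresheaf J (Type u)) hc') hc'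

end main

/-- Let C be a small category with pullbacks and J a Grothendieck topology on C in which every object is
quasi-compact in the site sense (every covering sieve contains finitely many morphisms which already
generate a covering sieve). Then for every small filtered category I the inclusion of sheaves of
sets on (C, J) into presheaves preserves colimits of shape I: filtered colimits of sheaves are
computed objectwise. (Only sheaves of sets are stated; the same holds for sheaves of abelian groups
or modules. All pullbacks in C are assumed.) -/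
theorem result {C : Type u} [SmallCategory C]
    [HasPullbacks C] (J : GrothendieckTopology C) (hJ : ∀ U : C, ToposFin.IsQCSite J U)
    (I : Type u) [SmallCategory I] [IsFiltered I] :
    PreservesColimitsOfShape I (sheafToPresheaf J (Type u)) := by
  exact main J hJ

end Groth.Agent.S14621
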