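import Groth.Statements.S11320
import Mathlib
import Groth.Agent.S14621

set_option autoImplicit false
universe u
open CategoryTheory CategoryTheory.Limits
open CohTop

namespace Groth.Agent.S11320


open CategoryTheory CategoryTheory.Limits Opposite

open TopologicalSpace

lemma isQCSite_of_noetherian {X : TopCat.{u}} [NoetherianSpace X] (U : Opens X) :
    ToposFin.IsQCSite (Opens.grothendieckTopology X) U := by
  intro S hS
  rw [Opens.mem_grothendieckTopology] at hS
  -- cover of U by opens in S
  have hc : IsCompact (U : Set X) := NoetherianSpace.isCompact _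
  let T := {V : Opens X // ∃ f : V ⟶ U, S f}
  have hcov : (U : Set X) ⊆ ⋃ V : T, (V.1 : Set X) := by
    intro x hx
    obtain ⟨V, f, hf, hxV⟩ := hS x hx
    exact Set.mem_iUnion.2 ⟨⟨V, f, hf⟩, hxV⟩
  obtain ⟨t, ht⟩ := hc.elim_finite_subcover (fun V : T => (V.1 : Set X)) (fun V => V.1.2) hcov
  let e := t.equivFin
  refine ⟨t.card, fun k => (e.symm k).1.1, fun k => (e.symm k).1.2.choose, fun k => (e.symm k).1.2.choose_spec, ?_⟩
  rw [Opens.mem_grothendieckTopology]
  intro x hx
  obtain ⟨V, hV, hxV⟩ := Set.mem_iUnion₂.1 (ht hx)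
  obtain ⟨k, hk⟩ : ∃ k, e.symm k = ⟨V, hV⟩ := ⟨e ⟨V, hV⟩, by simp⟩
  have hxk : x ∈ (e.symm k).1.1 := by rw [hk]; exact hxV
  exact ⟨(e.symm k).1.1, (e.symm k).1.2.choose,
    Sieve.ofArrows_mk (fun k => (e.symm k).1.1) (fun k => (e.symm k).1.2.choose) k, hxk⟩


theorem main {X : TopCat.{u}} [NoetherianSpace X]
    (ι : Type u) [Preorder ι] [IsDirected ι (· ≤ ·)] [Nonempty ι]
    (D : ι ⥤ CohTop.Ab X) (hD : ∀ i : ι, TopCat.Sheaf.IsFlasque (D.obj i)) :
    TopCat.Sheaf.IsFlasque (colimit D : CohTop.Ab X) := by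
  let J := Opens.grothendieckTopology X
  let Dp := D ⋙ sheafToPresheaf J AddCommGrpCat.{u}
  let cP := colimit.cocone Dp
  have hcP : IsColimit cP := colimit.isColimit Dp
  let F' : ι ⥤ Sheaf J (Type u) := D ⋙ sheafCompose J (forget AddCommGrpCat.{u})
  let W := (Functor.whiskeringRight (Opens X)ᵒᵖ AddCommGrpCat.{u} (Type u)).obj
    (forget AddCommGrpCat.{u})
  let c' : Cocone (F' ⋙ sheafToPresheaf J (Type u)) := W.mapCocone cP
  have hc' : IsColimit c' := isColimitOfPreserves W hcP
  have hS : Presieve.IsSheaf J (cP.pt ⋙ forget AddCommGrpCat.{u}) :=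
    S14621.isSheaf_pt J (fun U => isQCSite_of_noetherian U) F' c' hc'
  have hP : Presheaf.IsSheaf J cP.pt := by
    rw [Presheaf.isSheaf_iff_isSheaf_forget J cP.pt (forget AddCommGrpCat.{u}),
      isSheaf_iff_isSheaf_of_type]
    exact hS
  let c'' : Cocone D :=
    { pt := ⟨cP.pt, hP⟩
      ι :=
        { app := fun i => ObjectProperty.homMk (cP.ι.app i)
          naturality := fun i j f => by
            apply (sheafToPresheaf J AddCommGrpCat.{u}).map_injective
            exact cP.ι.naturality f } }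
  have hc'' : IsColimit ((sheafToPresheaf J AddCommGrpCat.{u}).mapCocone c'') :=
    IsColimit.ofIsoColimit hcP (Cocone.ext (Iso.refl _) (fun i => by
      apply Category.comp_id))
  have hcol : IsColimit c'' := isColimitOfReflects (sheafToPresheaf J AddCommGrpCat.{u}) hc''
  let e : colimit D ≅ c''.pt := (colimit.isColimit D).coconePointUniqueUpToIso hcol
  let eP : (colimit D).obj ≅ cP.pt := (sheafToPresheaf J AddCommGrpCat.{u}).mapIso e
  have hPf : ∀ {U V : (Opens X)ᵒᵖ} (i : U ⟶ V), Epi (cP.pt.map i) := by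
    intro U V i
    rw [AddCommGrpCat.epi_iff_surjective]
    intro x
    have hV := isColimitOfPreserves ((evaluation (Opens X)ᵒᵖ AddCommGrpCat.{u}).obj V) hcP
    obtain ⟨j, y, rfl⟩ := Concrete.isColimit_exists_rep _ hV x
    obtain ⟨z, rfl⟩ := (AddCommGrpCat.epi_iff_surjective _).1 ((hD j).epi i) y
    refine ⟨(cP.ι.app j).app U z, ?_⟩
    exact (ConcreteCategory.congr_hom ((cP.ι.app j).naturality i) z).symm
  constructor
  intro U V i
  have hnat := eP.hom.naturality i
  haveI := hPf i
  have h : (colimit D).obj.map i = (eP.hom.app U ≫ cP.pt.map i) ≫ inv (eP.hom.app V) := by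
    rw [← hnat, Category.assoc, IsIso.hom_inv_id, Category.comp_id]
  rw [h]
  infer_instance

/-- On a Noetherian topological space X, the direct limit, in the category of abelian sheaves, of a
directed system (F_i) of flasque abelian sheaves indexed by a nonempty directed preorder is flasque
(all its restriction maps are surjective). -/
theorem result {X : TopCat.{u}} [TopologicalSpace.NoetherianSpace X]
    (ι : Type u) [Preorder ι] [IsDirected ι (· ≤ ·)] [Nonempty ι]
    (D : ι ⥤ CohTop.Ab X) (hD : ∀ i : ι, TopCat.Sheaf.IsFlasque (D.obj i)) :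
    TopCat.Sheaf.IsFlasque (colimit D : CohTop.Ab X) := by
  exact main ι D hD

end Groth.Agent.S11320
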