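import Groth.Statements.S11450
import Groth.Statements.S11450
import Mathlib
import Groth.Agent.Lib.helper9.H9_TorBal

set_option autoImplicit false
universe u
open CategoryTheory
open DefT

namespace Groth.Agent.S11450

/-- A module M over a Noetherian commutative ring A is flat if and only if Tor_1^A(M, A/p) vanishes for
every prime ideal p of A. -/
theorem result (A : Type u) [CommRing A]
    [IsNoetherianRing A] (M : Type u) [AddCommGroup M] [Module A M] :
    Module.Flat A M ↔ ∀ p : Ideal A, p.IsPrime →
      Limits.IsZero (((CategoryTheory.Tor (ModuleCat.{u} A) 1).obj (ModuleCat.of A M)).obj (ModuleCat.of A (A ⧸ p))) := by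
  constructor
  · intro hM p _
    haveI : Module.Flat A (ModuleCat.of A M) := hM
    exact Groth.Agent.H9TorFlat.tor_left_flat (ModuleCat.of A M) (ModuleCat.of A (A ⧸ p)) 1
      Nat.one_pos
  · intro h
    exact Groth.Agent.H9TorBal.flat_of_tor1_primes A M h

end Groth.Agent.S11450
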