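import Groth.Statements.S11499
import Mathlib
import Groth.Agent.Lib.helper4.TorsionFreeEmb

set_option autoImplicit false
universe u
open TensorProduct
open VBPn

namespace Groth.Agent.S11499

/-- Let A be an integral domain with fraction field K and M a finitely generated torsion-free A-module
of rank r (K ⊗_A M is r-dimensional over K). Then there is an injective A-linear map M → A^r. The
published statement is for torsion-free coherent sheaves on a complex manifold, locally near a
point; this row is its statement for one stalk, over any domain. -/
theorem result (A : Type u) [CommRing A] [IsDomain A]
    (M : Type u) [AddCommGroup M] [Module A M] [Module.Finite A M] [NoZeroSMulDivisors A M] (r : ℕ)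
    (hr : Module.finrank (FractionRing A) (FractionRing A ⊗[A] M) = r) :
    ∃ f : M →ₗ[A] (Fin r → A), Function.Injective f := by
  classical
  haveI : Module.IsTorsionFree A M := inferInstance
  have e : FractionRing A ⊗[A] M ≃ₗ[FractionRing A] LocalizedModule (nonZeroDivisors A) M :=
    (IsLocalizedModule.isBaseChange (nonZeroDivisors A) (FractionRing A)
      (LocalizedModule.mkLinearMap (nonZeroDivisors A) M)).equiv
  have hrank : Module.finrank (FractionRing A) (LocalizedModule (nonZeroDivisors A) M) = r := by
    rw [← e.finrank_eq, hr]
  have := Groth.Agent.H4.H4_exists_injective_of_torsionFree_rank A M
  rw [hrank] at this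
  exact this

end Groth.Agent.S11499
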