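import Groth.Statements.S11523
import Mathlib
import Groth.Agent.Lib.helper1.FinLenInd

set_option autoImplicit false
universe v u v' u'
open CategoryTheory CategoryTheory.Limits
open PervT

namespace Groth.Agent.S11523

/-- Let `u : A ⥤ B` be a fully faithful exact functor of abelian categories admitting a left adjoint and
a right adjoint `uStar`. Suppose every object of `A` has finite length (it is both an artinian and a
noetherian object) and that `u` sends simple objects to simple objects. Then for every object `Y` of
`B` the counit `u (uStar Y) ⟶ Y` of the adjunction `u ⊣ uStar` is a monomorphism. (The published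
statement also lists two further conditions equivalent to this one: that for every object `Y` of `B`
the unit `Y ⟶ u (L Y)` of the adjunction `L ⊣ u` of the left adjoint `L` is an epimorphism, and that
the essential image of `u` is stable under subobjects and quotients; this row states only the counit
condition.) -/
theorem result {A : Type u} [Category.{v} A] [Abelian A] {B : Type u'} [Category.{v'} B] [Abelian B]
    (u : A ⥤ B) [u.Full] [u.Faithful] [PreservesFiniteLimits u] [PreservesFiniteColimits u] [u.IsRightAdjoint]
    (uStar : B ⥤ A) (adj : u ⊣ uStar)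
    (hlen : ∀ X : A, IsArtinianObject X ∧ IsNoetherianObject X)
    (hsimple : ∀ X : A, Simple X → Simple (u.obj X)) (Y : B) :
    Mono (adj.counit.app Y) := by
  -- the key property, proved by induction on the length
  have key : ∀ Z : A, ∀ (K : B) (k : K ⟶ u.obj Z), Mono k →
      (∀ (S : A) (g : u.obj S ⟶ K), g = 0) → IsZero K := by
    intro Z
    haveI := (hlen Z).1
    haveI := (hlen Z).2
    refine Groth.Agent.H1.FinLenInd.finiteLength_induction
      (fun Z => ∀ (K : B) (k : K ⟶ u.obj Z), Mono k →
        (∀ (S : A) (g : u.obj S ⟶ K), g = 0) → IsZero K) ?_ ?_ ?_ ?_ Z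
    · intro X Y e hX K k hk hK
      exact hX K (k ≫ u.map e.inv) (mono_comp _ _) hK
    · intro X hX K k hk hK
      have h0 : IsZero (u.obj X) := u.map_isZero hX
      rw [IsZero.iff_id_eq_zero, ← cancel_mono k]
      exact h0.eq_of_tgt _ _
    · intro X hX K k hk hK
      haveI : Simple (u.obj X) := hsimple X hX
      by_contra hne
      have hk0 : k ≠ 0 := by
        intro h0
        apply hne
        rw [IsZero.iff_id_eq_zero, ← cancel_mono k, h0, comp_zero, comp_zero]
      haveI : IsIso k := isIso_of_mono_of_nonzero hk0
      have h1 := hK X (inv k)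
      apply hne
      rw [IsZero.iff_id_eq_zero, ← IsIso.hom_inv_id k, h1, comp_zero]
    · intro S hS h1 h3 K k hk hK
      have hSu : (S.map u).ShortExact := hS.map_of_exact u
      haveI := hSu.mono_f
      -- the part of K inside u S.X₁
      have hK' : IsZero (kernel (k ≫ u.map S.g)) := by
        have hfac : (kernel.ι (k ≫ u.map S.g) ≫ k) ≫ (S.map u).g = 0 := by
          rw [Category.assoc]; exact kernel.condition _
        let k' := hSu.exact.lift (kernel.ι (k ≫ u.map S.g) ≫ k) hfac
        have hk' : k' ≫ u.map S.f = kernel.ι (k ≫ u.map S.g) ≫ k :=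
          hSu.exact.lift_f _ hfac
        haveI : Mono (k' ≫ u.map S.f) := by rw [hk']; exact mono_comp _ _
        have hmk' : Mono k' := mono_of_mono k' (u.map S.f)
        apply h1 _ k' hmk'
        intro S₀ g
        rw [← cancel_mono (kernel.ι (k ≫ u.map S.g)), hK S₀ (g ≫ kernel.ι _), zero_comp]
      haveI : Mono (k ≫ u.map S.g) := Preadditive.mono_of_isZero_kernel _ hK'
      exact h3 K (k ≫ u.map S.g) inferInstance hK
  -- apply to the kernel of the counit
  apply Preadditive.mono_of_isZero_kernel
  apply key (uStar.obj Y) _ (kernel.ι (adj.counit.app Y)) inferInstance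
  intro S g
  obtain ⟨h, hh⟩ : ∃ h : S ⟶ uStar.obj Y, u.map h = g ≫ kernel.ι (adj.counit.app Y) :=
    ⟨u.preimage _, u.map_preimage _⟩
  have h1 : u.map h ≫ adj.counit.app Y = 0 := by
    rw [hh, Category.assoc, kernel.condition, comp_zero]
  have h2 : h = 0 := by
    have h3 : (adj.homEquiv S Y).symm h = (adj.homEquiv S Y).symm 0 := by
      rw [Adjunction.homEquiv_counit, Adjunction.homEquiv_counit, h1, u.map_zero, zero_comp]
    exact (adj.homEquiv S Y).symm.injective h3
  rw [← cancel_mono (kernel.ι (adj.counit.app Y)), ← hh, h2, u.map_zero, zero_comp]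

end Groth.Agent.S11523
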