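import Groth.Statements.S1156
import Mathlib

set_option autoImplicit false
universe u
open scoped TensorProduct
open Desc

namespace Groth.Agent.S1156

/-- Exactness of the extended Amitsur complex in degree 0 (injectivity in degree −1 being standard). Let
R → A be faithfully flat and M an R-module. An element x of A ⊗_R M with 1 ⊗ x = (a ⊗ m ↦ a ⊗ 1 ⊗
m)(x) in A ⊗_R A ⊗_R M lies in the image of m ↦ 1 ⊗ m. -/
theorem result (R A : Type u) [CommRing R] [CommRing A] [Algebra R A] [Module.FaithfullyFlat R A]
    (M : Type u) [AddCommGroup M] [Module R M] (x : A ⊗[R] M)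
    (hx : TensorProduct.mk R A (A ⊗[R] M) 1 x = LinearMap.lTensor A (TensorProduct.mk R A M 1) x) :
    x ∈ LinearMap.range (TensorProduct.mk R A M 1) := by
  let d0 : M →ₗ[R] A ⊗[R] M := TensorProduct.mk R A M 1
  let d1 : A ⊗[R] M →ₗ[R] A ⊗[R] (A ⊗[R] M) :=
    TensorProduct.mk R A (A ⊗[R] M) 1 - LinearMap.lTensor A d0
  suffices h : Function.Exact d0 d1 by
    apply (h x).mp
    simp only [d1, LinearMap.sub_apply, d0]
    rw [hx, sub_self]
  rw [← Module.FaithfullyFlat.lTensor_exact_iff_exact R A]
  let s : A ⊗[R] (A ⊗[R] M) →ₗ[R] A ⊗[R] M :=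
    (LinearMap.rTensor M (LinearMap.mul' R A)) ∘ₗ (TensorProduct.assoc R A A M).symm.toLinearMap
  let s' : A ⊗[R] (A ⊗[R] (A ⊗[R] M)) →ₗ[R] A ⊗[R] (A ⊗[R] M) :=
    (LinearMap.rTensor (A ⊗[R] M) (LinearMap.mul' R A)) ∘ₗ
      (TensorProduct.assoc R A A (A ⊗[R] M)).symm.toLinearMap
  have key : ∀ y, s' (d1.lTensor A y) = y - d0.lTensor A (s y) := by
    intro y
    induction y using TensorProduct.induction_on with
    | zero => simp
    | add y z hy hz => simp only [map_add, hy, hz]; abel
    | tmul a w =>
      induction w using TensorProduct.induction_on with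
      | zero => simp
      | add y z hy hz => simp only [TensorProduct.tmul_add, map_add, hy, hz]; abel
      | tmul b m => simp [s, s', d0, d1, TensorProduct.tmul_sub]
  intro y
  constructor
  · intro hy
    refine ⟨s y, ?_⟩
    have := key y
    rw [hy, map_zero] at this
    exact (sub_eq_zero.mp this.symm).symm
  · rintro ⟨z, rfl⟩
    rw [← LinearMap.comp_apply, ← LinearMap.lTensor_comp]
    have : d1 ∘ₗ d0 = 0 := by
      ext m
      simp [d0, d1]
    rw [this, LinearMap.lTensor_zero, LinearMap.zero_apply]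

end Groth.Agent.S1156
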