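import Groth.Statements.S1163
import Groth.Agent.Lib.helper1.FlatFactor

set_option autoImplicit false
open CategoryTheory CategoryTheory.Limits AlgebraicGeometry Opposite
universe u
open Desc

namespace Groth.Agent.S1163

/-- The case P = flat, single fppf cover: Let f : X ⟶ Y and q : Y ⟶ Z be morphisms of schemes, and
suppose there is a flat, surjective morphism g : Y' ⟶ Y locally of finite presentation which factors
through f. If f ≫ q is flat, then q is flat. -/
theorem result {X Y Z Y' : Scheme.{u}} (f : X ⟶ Y) (q : Y ⟶ Z) (g : Y' ⟶ Y) [Flat g] [Surjective g]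
    [LocallyOfFinitePresentation g] (l : Y' ⟶ X) (hl : l ≫ f = g) [Flat (f ≫ q)] : Flat q := by
  subst hl
  apply Flat.of_stalkMap
  intro y
  obtain ⟨y', rfl⟩ := (l ≫ f).surjective y
  have h1 := Flat.stalkMap (f ≫ q) (l y')
  rw [Scheme.Hom.stalkMap_comp] at h1
  have h2 := Flat.stalkMap (l ≫ f) y'
  rw [Scheme.Hom.stalkMap_comp] at h2
  haveI : IsLocalHom ((l.stalkMap y').hom.comp (f.stalkMap (l y')).hom) := by
    have : IsLocalHom ((f.stalkMap (l y')) ≫ (l.stalkMap y')).hom := inferInstance
    exact this
  exact Groth.Agent.H1.H1_ringHom_flat_of_factor (q.stalkMap (f (l y'))).hom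
    (f.stalkMap (l y')).hom (l.stalkMap y').hom h1 h2

end Groth.Agent.S1163
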