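import Groth.Statements.S14505
import Mathlib

set_option autoImplicit false
universe u
open IntTh

namespace Groth.Agent.S14505

section H8

variable {R : Type*} [CommRing R]

noncomputable def G (a : R) : PowerSeries R := PowerSeries.mk (fun m => (-a) ^ m)

theorem G_mul (a : R) : (1 + PowerSeries.C a * PowerSeries.X) * G a = 1 := by
  ext n
  rw [add_mul, one_mul, mul_assoc, map_add, PowerSeries.coeff_C_mul]
  cases n with
  | zero =>
    rw [PowerSeries.coeff_zero_X_mul, mul_zero, add_zero, PowerSeries.coeff_one, if_pos rfl]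
    simp [G]
  | succ n =>
    rw [PowerSeries.coeff_succ_X_mul, PowerSeries.coeff_one, if_neg (Nat.succ_ne_zero n)]
    simp only [G, PowerSeries.coeff_mk]
    ring

theorem coeff_succ_mul_lin (Q : PowerSeries R) (a : R) (n : ℕ) :
    PowerSeries.coeff (n + 1) (Q * (1 + PowerSeries.C a * PowerSeries.X)) =
      PowerSeries.coeff (n + 1) Q + a * PowerSeries.coeff n Q := by
  rw [mul_add, mul_one, map_add, ← mul_assoc, PowerSeries.coeff_succ_mul_X,
    PowerSeries.coeff_mul_C, mul_comm a]

theorem coeff_zero_mul_lin (Q : PowerSeries R) (a : R) :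
    PowerSeries.coeff 0 (Q * (1 + PowerSeries.C a * PowerSeries.X)) = PowerSeries.coeff 0 Q := by
  rw [mul_add, mul_one, map_add, ← mul_assoc, PowerSeries.coeff_zero_mul_X, add_zero]

noncomputable def bpoly {e : ℕ} (β : Fin e → R) : PowerSeries R :=
  ∏ j : Fin e, (1 + PowerSeries.C (β j) * PowerSeries.X)

theorem bpoly_succ {e : ℕ} (β : Fin (e + 1) → R) :
    bpoly β = bpoly (fun j : Fin e => β j.castSucc) *
      (1 + PowerSeries.C (β (Fin.last e)) * PowerSeries.X) := by
  unfold bpoly
  rw [Fin.prod_univ_castSucc]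

theorem bpoly_coeff_high : ∀ (e : ℕ) (β : Fin e → R) (m : ℕ), e < m →
    PowerSeries.coeff m (bpoly β) = 0 := by
  intro e
  induction e with
  | zero =>
    intro β m hm
    have : bpoly β = 1 := by unfold bpoly; simp
    rw [this, PowerSeries.coeff_one, if_neg (by omega)]
  | succ e ih =>
    intro β m hm
    obtain ⟨m', rfl⟩ : ∃ m', m = m' + 1 := ⟨m - 1, by omega⟩
    rw [bpoly_succ, coeff_succ_mul_lin, ih _ _ (by omega), ih _ _ (by omega)]
    ring

theorem bpoly_G_coeff (a : R) : ∀ (e : ℕ) (β : Fin e → R) (m : ℕ), e ≤ m →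
    PowerSeries.coeff m (bpoly β * G a) = (-a) ^ (m - e) * ∏ j : Fin e, (β j - a) := by
  intro e
  induction e with
  | zero =>
    intro β m _
    have : bpoly β = 1 := by unfold bpoly; simp
    rw [this, one_mul]
    simp [G]
  | succ e ih =>
    intro β m hm
    obtain ⟨m', rfl⟩ : ∃ m', m = m' + 1 := ⟨m - 1, by omega⟩
    rw [bpoly_succ, mul_right_comm, coeff_succ_mul_lin, ih _ _ (by omega), ih _ _ (by omega),
      Fin.prod_univ_castSucc]
    have h1 : m' + 1 - e = (m' - e) + 1 := by omega
    have h2 : m' + 1 - (e + 1) = m' - e := by omega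
    rw [h1, h2, pow_succ]
    ring

noncomputable def Pser {e d : ℕ} (β : Fin e → R) (α : Fin d → R) (i : Fin d) : PowerSeries R :=
  bpoly β * ∏ l : Fin d, if l ≤ i then G (α l) else 1

theorem Pser_zero {e d : ℕ} (β : Fin e → R) (α : Fin (d + 1) → R) :
    Pser β α 0 = bpoly β * G (α 0) := by
  unfold Pser
  congr 1
  rw [Fin.prod_univ_succ, if_pos le_rfl, Finset.prod_eq_one, mul_one]
  intro l _
  rw [if_neg]
  exact not_le.2 (Fin.succ_pos l)

theorem Pser_succ {e d : ℕ} (β : Fin e → R) (α : Fin (d + 1) → R) (i : Fin d) :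
    Pser β α i.succ = G (α 0) * Pser β (fun l => α l.succ) i := by
  unfold Pser
  rw [Fin.prod_univ_succ, if_pos (Fin.zero_le _)]
  simp only [Fin.succ_le_succ_iff]
  ring

theorem Pser_succ_mul {e d : ℕ} (β : Fin e → R) (α : Fin (d + 1) → R) (i : Fin d) :
    Pser β α i.succ * (1 + PowerSeries.C (α 0) * PowerSeries.X) =
      Pser β (fun l => α l.succ) i := by
  rw [Pser_succ, mul_comm (G _), mul_assoc, mul_comm (G _), G_mul, mul_one]

theorem Pser_zero_mul {e d : ℕ} (β : Fin e → R) (α : Fin (d + 1) → R) :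
    Pser β α 0 * (1 + PowerSeries.C (α 0) * PowerSeries.X) = bpoly β := by
  rw [Pser_zero, mul_assoc, mul_comm (G _), G_mul, mul_one]

noncomputable def Mmat {e d : ℕ} (β : Fin e → R) (α : Fin d → R) : Matrix (Fin d) (Fin d) R :=
  Matrix.of fun i j : Fin d =>
    if (i : ℕ) ≤ e + (j : ℕ) then PowerSeries.coeff (e + (j : ℕ) - (i : ℕ)) (Pser β α i) else 0

theorem Mmat_det {e : ℕ} (β : Fin e → R) : ∀ (d : ℕ) (α : Fin d → R),
    (Mmat β α).det = ∏ i : Fin d, ∏ j : Fin e, (β j - α i) := by
  intro d
  induction d with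
  | zero =>
    intro α
    simp
  | succ d ih =>
    intro α
    set M := Mmat β α with hM
    let B : Matrix (Fin (d + 1)) (Fin (d + 1)) R := Matrix.of fun i j =>
      Fin.cases (M i 0) (fun j' => M i j'.succ + α 0 * M i j'.castSucc) j
    have hMB : M.det = B.det := by
      refine Matrix.det_eq_of_forall_col_eq_smul_add_pred (fun _ => -α 0) ?_ ?_
      · intro i
        rfl
      · intro i j
        show M i j.succ = (M i j.succ + α 0 * M i j.castSucc) + -α 0 * M i j.castSucc
        ring
    have hB0 : ∀ j : Fin d, B 0 j.succ = 0 := by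
      intro j
      show M 0 j.succ + α 0 * M 0 j.castSucc = 0
      have e1 : M 0 j.succ = PowerSeries.coeff (e + (j : ℕ) + 1) (Pser β α 0) := by
        rw [hM]
        unfold Mmat
        rw [Matrix.of_apply, if_pos (by simp)]
        congr 1
      have e2 : M 0 j.castSucc = PowerSeries.coeff (e + (j : ℕ)) (Pser β α 0) := by
        rw [hM]
        unfold Mmat
        rw [Matrix.of_apply, if_pos (by simp)]
        congr 1
      rw [e1, e2, ← coeff_succ_mul_lin, Pser_zero_mul]
      exact bpoly_coeff_high e β _ (by omega)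
    have hB00 : B 0 0 = ∏ j : Fin e, (β j - α 0) := by
      show M 0 0 = _
      have e1 : M 0 0 = PowerSeries.coeff e (Pser β α 0) := by
        rw [hM]
        unfold Mmat
        rw [Matrix.of_apply, if_pos (by simp)]
        congr 1
      rw [e1, Pser_zero, bpoly_G_coeff (α 0) e β e le_rfl, Nat.sub_self, pow_zero, one_mul]
    have hBsucc : B.submatrix Fin.succ Fin.succ = Mmat β (fun l => α l.succ) := by
      ext i j
      show M i.succ j.succ + α 0 * M i.succ j.castSucc = Mmat β (fun l => α l.succ) i j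
      have e1 : M i.succ j.succ = if (i : ℕ) + 1 ≤ e + ((j : ℕ) + 1) then
          PowerSeries.coeff (e + ((j : ℕ) + 1) - ((i : ℕ) + 1)) (Pser β α i.succ) else 0 := by
        rw [hM]
        unfold Mmat
        rw [Matrix.of_apply]
        rfl
      have e2 : M i.succ j.castSucc = if (i : ℕ) + 1 ≤ e + (j : ℕ) then
          PowerSeries.coeff (e + (j : ℕ) - ((i : ℕ) + 1)) (Pser β α i.succ) else 0 := by
        rw [hM]
        unfold Mmat
        rw [Matrix.of_apply]
        rfl
      have e3 : Mmat β (fun l => α l.succ) i j = if (i : ℕ) ≤ e + (j : ℕ) then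
          PowerSeries.coeff (e + (j : ℕ) - (i : ℕ)) (Pser β (fun l => α l.succ) i) else 0 := by
        unfold Mmat
        rw [Matrix.of_apply]
      rw [e1, e2, e3, ← Pser_succ_mul β α i]
      by_cases h1 : (i : ℕ) + 1 ≤ e + (j : ℕ)
      · rw [if_pos (by omega), if_pos h1, if_pos (by omega)]
        obtain ⟨n, hn⟩ : ∃ n, e + (j : ℕ) - ((i : ℕ) + 1) = n := ⟨_, rfl⟩
        have h2 : e + ((j : ℕ) + 1) - ((i : ℕ) + 1) = n + 1 := by omega
        have h3 : e + (j : ℕ) - (i : ℕ) = n + 1 := by omega
        rw [hn, h2, h3, coeff_succ_mul_lin]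
      · by_cases h2 : (i : ℕ) = e + (j : ℕ)
        · rw [if_pos (by omega), if_neg h1, if_pos (by omega)]
          have h3 : e + ((j : ℕ) + 1) - ((i : ℕ) + 1) = 0 := by omega
          have h4 : e + (j : ℕ) - (i : ℕ) = 0 := by omega
          rw [h3, h4, coeff_zero_mul_lin, mul_zero, add_zero]
        · rw [if_neg (by omega), if_neg h1, if_neg (by omega), mul_zero, add_zero]
    rw [hMB, Matrix.det_succ_row_zero, Fin.sum_univ_succ,
      Finset.sum_eq_zero (fun j _ => by rw [hB0 j]; ring), add_zero]
    simp only [Fin.val_zero, pow_zero, one_mul, Fin.succAbove_zero]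
    rw [hB00, hBsucc, ih, Fin.prod_univ_succ]

end H8


/-- Let R be a commutative ring, α₁, …, α_d, β₁, …, β_e ∈ R, b(t) = ∏ (1 + β_j t), and for k = 1, …, d
let P_k(t) = b(t)/∏_{i ≤ k} (1 + α_i t) ∈ R⟦t⟧, each factor 1 + α_i t being inverted by its
geometric series; write (P_k)_m for the coefficient of t^m, with (P_k)_m = 0 for m < 0. Then ∏_{i,j}
(β_j − α_i) = det((P_i)_{e+j−i})_{1 ≤ i,j ≤ d}, the d × d determinant whose i-th row is built from
the coefficients of the i-th partial quotient. (Rows and columns are 0-based in the formal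
statement, which does not change j − i; the row of index i inverts the factors of index at most i.
The companion form with every row built from the full quotient b/a is stated separately.) -/
theorem result (R : Type u) [CommRing R] (d e : ℕ)
    (α : Fin d → R) (β : Fin e → R) :
    ∏ i : Fin d, ∏ j : Fin e, (β j - α i) =
      (Matrix.of fun i j : Fin d =>
        if (i : ℕ) ≤ e + (j : ℕ) then
          PowerSeries.coeff (e + (j : ℕ) - (i : ℕ))
            ((∏ j : Fin e, (1 + PowerSeries.C (β j) * PowerSeries.X)) *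
              ∏ l : Fin d, if l ≤ i then PowerSeries.mk (fun m => (-α l) ^ m) else 1)
        else 0).det := by
  exact (Mmat_det β d α).symm

end Groth.Agent.S14505
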