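import Groth.Statements.S1190
import Groth.Agent.Lib.helper1.GalTop
import Groth.Agent.Lib.helper1.GalOS
import Groth.Agent.Lib.helper1.GalDesc
import Groth.Agent.S1189

set_option autoImplicit false
universe u v w
open CategoryTheory PreGaloisCategory
open Pi1

namespace Groth.Agent.S1190

/-- Let H : C ⥤ C' and H' : C' ⥤ C'' be exact functors between Galois categories, F'' a fibre functor on
C'' with F'' ∘ H' and F'' ∘ H' ∘ H fibre functors, and h', h the induced homomorphisms of
fundamental groups. Then: h is surjective, h ∘ h' is trivial and the kernel of h is the closed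
normal subgroup generated by the image of h', if and only if H is fully faithful and its essential
image consists exactly of those X' in C' for which H'(X') is a finite coproduct of copies of the
final object. -/
theorem result {C C' C'' : Type u} [Category.{v} C] [Category.{v} C'] [Category.{v} C'']
    [GaloisCategory C] [GaloisCategory C'] [GaloisCategory C'']
    (H : C ⥤ C') [Limits.PreservesFiniteLimits H] [Limits.PreservesFiniteColimits H]
    (H' : C' ⥤ C'') [Limits.PreservesFiniteLimits H'] [Limits.PreservesFiniteColimits H']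
    (F'' : C'' ⥤ FintypeCat.{w}) [FiberFunctor F''] [FiberFunctor (H' ⋙ F'')] [FiberFunctor (H ⋙ (H' ⋙ F''))] :
    (Function.Surjective (Pi1X.autWhisker H (H' ⋙ F'')) ∧
      (∀ σ : Aut F'', Pi1X.autWhisker H (H' ⋙ F'') (Pi1X.autWhisker H' F'' σ) = 1) ∧
      (Pi1X.autWhisker H (H' ⋙ F'')).ker = (Subgroup.normalClosure (Set.range (Pi1X.autWhisker H' F''))).topologicalClosure) ↔
    ((H.Full ∧ H.Faithful) ∧
      ∀ X' : C', (∃ X : C, Nonempty (H.obj X ≅ X')) ↔ ∃ n : ℕ, Nonempty (H'.obj X' ≅ ∐ fun _ : Fin n => ⊤_ C'')) := by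
  constructor
  · rintro ⟨hsurj, htriv, hker⟩
    refine ⟨⟨Groth.Agent.H1.GalFun.full_of_surjective_autWhisker H (H' ⋙ F'') hsurj,
      Groth.Agent.H1.GalFun.faithful_of_fiberFunctor_comp H (H' ⋙ F'')⟩, ?_⟩
    intro X'
    constructor
    · rintro ⟨X, ⟨e⟩⟩
      obtain ⟨n, ⟨e'⟩⟩ := (Groth.Agent.S1189.result H H' F'').1 htriv X
      exact ⟨n, ⟨H'.mapIso e.symm ≪≫ e'⟩⟩
    · rintro ⟨n, ⟨e⟩⟩
      apply Groth.Agent.H1.GalDesc.exists_iso_of_ker_le H (H' ⋙ F'') hsurj X'
      intro σ hσ y
      let N : Subgroup (Aut (H' ⋙ F'')) :=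
        (MulAction.toPermHom (Aut (H' ⋙ F'')) ((H' ⋙ F'').obj X')).ker
      have hNclosed : IsClosed (N : Set (Aut (H' ⋙ F''))) := by
        have hN : (N : Set (Aut (H' ⋙ F''))) = ⋂ y : (H' ⋙ F'').obj X',
            (MulAction.stabilizer (Aut (H' ⋙ F'')) y : Set (Aut (H' ⋙ F''))) := by
          ext τ
          simp only [Set.mem_iInter, SetLike.mem_coe, MulAction.mem_stabilizer_iff]
          constructor
          · intro h y
            exact congrArg (fun p => p y)
              (show MulAction.toPermHom (Aut (H' ⋙ F'')) ((H' ⋙ F'').obj X') τ = 1 from h)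
          · intro h
            change MulAction.toPermHom (Aut (H' ⋙ F'')) ((H' ⋙ F'').obj X') τ = 1
            ext y
            exact h y
        rw [hN]
        exact isClosed_iInter (fun y => (Subgroup.isClosed_of_isOpen _ (stabilizer_isOpen _ y)))
      have hrange : Set.range (Pi1X.autWhisker H' F'') ⊆ N := by
        rintro _ ⟨τ, rfl⟩
        change MulAction.toPermHom (Aut (H' ⋙ F'')) ((H' ⋙ F'').obj X')
          (Pi1X.autWhisker H' F'' τ) = 1
        ext y
        change (Pi1X.autWhisker H' F'' τ) • y = y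
        rw [Groth.Agent.H1.GalFun.autWhisker_smul]
        exact Groth.Agent.H1.GalFun.forall_fixed_of_iso_coprod_terminal F'' e _ τ
      have hle : (Subgroup.normalClosure (Set.range (Pi1X.autWhisker H' F''))).topologicalClosure
          ≤ N :=
        Subgroup.topologicalClosure_minimal _ (Subgroup.normalClosure_le_normal hrange) hNclosed
      rw [hker] at hσ
      have hσN := hle hσ
      exact congrArg (fun p => p y)
        (show MulAction.toPermHom (Aut (H' ⋙ F'')) ((H' ⋙ F'').obj X') σ = 1 from hσN)
  · rintro ⟨⟨hfull, hfaith⟩, hess⟩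
    have hsurj : Function.Surjective (Pi1X.autWhisker H (H' ⋙ F'')) :=
      Groth.Agent.H1.GalFun.surjective_autWhisker_of_preservesConnected H (H' ⋙ F'')
        (fun X hX => Groth.Agent.H1.GalFun.preservesConnected_of_full H (H' ⋙ F'') X)
    have htriv : ∀ σ : Aut F'',
        Pi1X.autWhisker H (H' ⋙ F'') (Pi1X.autWhisker H' F'' σ) = 1 := by
      apply (Groth.Agent.S1189.result H H' F'').2
      intro X
      exact (hess (H.obj X)).1 ⟨X, ⟨Iso.refl _⟩⟩
    refine ⟨hsurj, htriv, ?_⟩
    have hkerclosed : IsClosed ((Pi1X.autWhisker H (H' ⋙ F'')).ker :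
        Set (Aut (H' ⋙ F''))) := by
      have hk : ((Pi1X.autWhisker H (H' ⋙ F'')).ker : Set (Aut (H' ⋙ F''))) =
          (Pi1X.autWhisker H (H' ⋙ F'')) ⁻¹' {1} := by
        ext τ
        simp [MonoidHom.mem_ker]
      rw [hk]
      exact isClosed_singleton.preimage
        (Groth.Agent.H1.GalTop.continuous_autWhisker H (H' ⋙ F''))
    apply le_antisymm
    · intro σ hσ
      by_contra hcon
      have hNcl : IsClosed
          ((Subgroup.normalClosure (Set.range (Pi1X.autWhisker H' F''))).topologicalClosure :
            Set (Aut (H' ⋙ F''))) :=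
        Subgroup.isClosed_topologicalClosure _
      haveI hNn : ((Subgroup.normalClosure
          (Set.range (Pi1X.autWhisker H' F''))).topologicalClosure).Normal :=
        Subgroup.is_normal_topologicalClosure _
      obtain ⟨X', a', hX', hNle, hnot⟩ :=
        Groth.Agent.H1.GalOS.exists_connected_stabilizer_separating (H' ⋙ F'') _ hNcl σ hcon
      have hNtriv : ∀ τ ∈ (Subgroup.normalClosure
          (Set.range (Pi1X.autWhisker H' F''))).topologicalClosure,
          ∀ y : (H' ⋙ F'').obj X', τ • y = y := by
        intro τ hτ y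
        obtain ⟨ρ, rfl⟩ := MulAction.exists_smul_eq (Aut (H' ⋙ F'')) a' y
        have hmem : ρ⁻¹ * τ * ρ ∈ (Subgroup.normalClosure
            (Set.range (Pi1X.autWhisker H' F''))).topologicalClosure := by
          have := hNn.conj_mem τ hτ ρ⁻¹
          simpa using this
        have h2 := hNle hmem
        rw [MulAction.mem_stabilizer_iff, mul_smul, mul_smul] at h2
        have h3 := congrArg (fun z => ρ • z) h2
        simp only [smul_inv_smul] at h3
        exact h3
      have hfix : ∀ (y : F''.obj (H'.obj X')) (τ : Aut F''), τ • y = y := by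
        intro y τ
        have hmem : Pi1X.autWhisker H' F'' τ ∈ (Subgroup.normalClosure
            (Set.range (Pi1X.autWhisker H' F''))).topologicalClosure :=
          Subgroup.le_topologicalClosure _ (Subgroup.subset_normalClosure ⟨τ, rfl⟩)
        have := hNtriv _ hmem y
        rw [Groth.Agent.H1.GalFun.autWhisker_smul] at this
        exact this
      obtain ⟨n, hn⟩ :=
        Groth.Agent.H1.GalFun.exists_iso_coprod_terminal_of_forall_fixed F'' (H'.obj X') hfix
      obtain ⟨X, ⟨e⟩⟩ := (hess X').2 ⟨n, hn⟩
      apply hnot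
      rw [MulAction.mem_stabilizer_iff]
      have hx : (H' ⋙ F'').map e.hom ((H' ⋙ F'').map e.inv a') = a' := by
        have h1 : (H' ⋙ F'').map e.inv ≫ (H' ⋙ F'').map e.hom = 𝟙 _ := by
          rw [← (H' ⋙ F'').map_comp, e.inv_hom_id, (H' ⋙ F'').map_id]
        exact congrArg (fun m => m a') h1
      rw [← hx, mulAction_naturality]
      congr 1
      exact Groth.Agent.H1.GalTop.ker_smul_eq_of_mono H (H' ⋙ F'') (𝟙 (H.obj X)) σ hσ _
    · exact Subgroup.topologicalClosure_minimal _
        (Subgroup.normalClosure_le_normal (by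
          rintro _ ⟨τ, rfl⟩
          exact htriv τ)) hkerclosed

end Groth.Agent.S1190
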