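import Groth.Statements.S1199

set_option autoImplicit false
universe u
open FlatMor

namespace Groth.Agent.S1199

open TensorProduct in
/-- Let R → S be a map of Noetherian rings, I an ideal of R and N a finite S-module. Assume that for
every finite R-module Q and every associated prime q of the S-module N ⊗_R Q the ideal IS + q is
proper. Then the canonical map from N to its I-adic completion is universally injective as a map of
R-modules. -/
theorem result {R S : Type u} [CommRing R] [CommRing S] [Algebra R S] [IsNoetherianRing R] [IsNoetherianRing S] (I : Ideal R)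
    (N : Type u) [AddCommGroup N] [Module S N] [Module R N] [IsScalarTower R S N] [Module.Finite S N]
    (h : ∀ (Q : Type u) [AddCommGroup Q] [Module R Q], Module.Finite R Q →
      ∀ q ∈ associatedPrimes S (N ⊗[R] Q), I.map (algebraMap R S) ⊔ q ≠ ⊤) :
    FlatCA.UnivInj R (AdicCompletion.of I N) := by
  classical
  have key : ∀ (Q : Type u) [AddCommGroup Q] [Module R Q], Module.Finite R Q →
      Function.Injective ((AdicCompletion.of I N).lTensor Q) := by
    intro Q _ _ hQ
    haveI := hQ
    haveI : Module.Finite S (N ⊗[R] Q) :=
      Module.Finite.equiv (TensorProduct.AlgebraTensorModule.cancelBaseChange R S S N Q)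
    rw [injective_iff_map_eq_zero]
    intro x hx
    by_contra hx0
    let y : N ⊗[R] Q := TensorProduct.comm R Q N x
    have hy0 : y ≠ 0 := by
      intro h0
      apply hx0
      have := congrArg (TensorProduct.comm R Q N).symm h0
      simpa [y] using this
    -- y lies in all powers
    have hmem : ∀ n : ℕ, y ∈ ((I.map (algebraMap R S)) ^ n • (⊤ : Submodule S (N ⊗[R] Q))) := by
      intro n
      have h1 : ((I ^ n • ⊤ : Submodule R N).mkQ.lTensor Q) x = 0 := by
        have e : (I ^ n • ⊤ : Submodule R N).mkQ =
            (AdicCompletion.eval I N n).comp (AdicCompletion.of I N) := rfl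
        rw [e, LinearMap.lTensor_comp, LinearMap.comp_apply, hx, map_zero]
      have h2 : x ∈ LinearMap.range ((I ^ n • ⊤ : Submodule R N).subtype.lTensor Q) := by
        have hex := lTensor_exact Q (LinearMap.exact_subtype_mkQ (I ^ n • ⊤ : Submodule R N))
          (Submodule.mkQ_surjective _)
        exact (hex x).1 h1
      obtain ⟨w, rfl⟩ := h2
      have h3 : ∀ w : Q ⊗[R] (I ^ n • ⊤ : Submodule R N),
          TensorProduct.comm R Q N ((I ^ n • ⊤ : Submodule R N).subtype.lTensor Q w) ∈
            ((I.map (algebraMap R S)) ^ n • (⊤ : Submodule S (N ⊗[R] Q))) := by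
        intro w
        induction w using TensorProduct.induction_on with
        | zero => simp
        | tmul q m =>
          obtain ⟨m, hm⟩ := m
          rw [LinearMap.lTensor_tmul, TensorProduct.comm_tmul]
          change m ⊗ₜ[R] q ∈ _
          refine Submodule.smul_induction_on hm ?_ ?_
          · intro r hr n' _
            have e : (r • n') ⊗ₜ[R] q = (algebraMap R S r) • (n' ⊗ₜ[R] q) := by
              rw [TensorProduct.smul_tmul', algebraMap_smul]
            rw [e]
            have hr' : algebraMap R S r ∈ (I.map (algebraMap R S)) ^ n := by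
              rw [← Ideal.map_pow]
              exact Ideal.mem_map_of_mem _ hr
            exact Submodule.smul_mem_smul hr' (Submodule.mem_top)
          · intro a b ha hb
            rw [TensorProduct.add_tmul]
            exact Submodule.add_mem _ ha hb
        | add a b ha hb =>
          rw [map_add, map_add]
          exact Submodule.add_mem _ ha hb
      exact h3 w
    have hmem' : y ∈ (⨅ i : ℕ, (I.map (algebraMap R S)) ^ i • ⊤ : Submodule S (N ⊗[R] Q)) := by
      rw [Submodule.mem_iInf]
      exact hmem
    obtain ⟨r, hr⟩ := (Ideal.mem_iInf_smul_pow_eq_bot_iff (I.map (algebraMap R S)) y).1 hmem'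
    obtain ⟨P, hP, hle⟩ := exists_le_isAssociatedPrime_of_isNoetherianRing (R := S) y hy0
    have h4 : (1 - (r : S)) ∈ P := by
      apply hle
      rw [Submodule.mem_colon_singleton, sub_smul, one_smul, hr, sub_self]
      exact Submodule.zero_mem _
    apply h Q hQ P hP
    rw [Ideal.eq_top_iff_one]
    have : (1 : S) = (r : S) + (1 - (r : S)) := by ring
    rw [this]
    exact Submodule.add_mem_sup r.2 h4
  intro Q _ _
  rw [injective_iff_map_eq_zero]
  intro x hx
  obtain ⟨Q', hQ', x', rfl⟩ := Submodule.exists_fg_le_eq_rTensor_subtype x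
  have h1 : Q'.subtype.rTensor (AdicCompletion I N) ((AdicCompletion.of I N).lTensor Q' x') =
      Q'.subtype.rTensor (AdicCompletion I N) 0 := by
    rw [map_zero, ← hx, ← LinearMap.comp_apply, ← LinearMap.comp_apply,
      LinearMap.rTensor_comp_lTensor, LinearMap.lTensor_comp_rTensor]
  obtain ⟨Q'', hQ'', hle, h2⟩ := hQ'.exists_rTensor_fg_inclusion_eq h1
  have h3 : (AdicCompletion.of I N).lTensor Q'' ((Q'.inclusion hle).rTensor N x') = 0 := by
    rw [map_zero] at h2
    rw [← h2, ← LinearMap.comp_apply, ← LinearMap.comp_apply,
      LinearMap.rTensor_comp_lTensor, LinearMap.lTensor_comp_rTensor]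
  have h4 : (Q'.inclusion hle).rTensor N x' = 0 :=
    (injective_iff_map_eq_zero _).1 (key Q'' (Module.Finite.iff_fg.2 hQ'')) _ h3
  have h5 : Q'.subtype = Q''.subtype ∘ₗ Q'.inclusion hle :=
    (Submodule.subtype_comp_inclusion _ _ hle).symm
  rw [h5, LinearMap.rTensor_comp, LinearMap.comp_apply, h4, map_zero]

end Groth.Agent.S1199
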