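import Groth.Statements.S12056
import Mathlib

set_option autoImplicit false
open Red

namespace Groth.Agent.S12056

section aux
variable {R : Type} [CommRing R]

/-- exponent vector (n, m) -/
noncomputable def E (n m : ℕ) : Fin 2 →₀ ℕ := Finsupp.single 0 n + Finsupp.single 1 m

theorem E_zero (n m : ℕ) : E n m 0 = n := by simp [E]
theorem E_one (n m : ℕ) : E n m 1 = m := by simp [E]

theorem E_ext (e : Fin 2 →₀ ℕ) (n m : ℕ) (h0 : e 0 = n) (h1 : e 1 = m) : e = E n m := by
  ext i
  fin_cases i
  · simpa [E] using h0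
  · simpa [E] using h1

theorem coeff_G (F : PowerSeries R) (n m : ℕ) :
    MvPowerSeries.coeff (E n m) (PowerSeries.subst (MvPowerSeries.X (0 : Fin 2) : MvPowerSeries (Fin 2) R) F)
      = if m = 0 then PowerSeries.coeff n F else 0 := by
  rw [PowerSeries.coeff_subst_single, E_zero]
  by_cases hm : m = 0
  · subst hm
    rw [if_pos rfl, if_pos]
    exact (E_ext (Finsupp.single 0 n) n 0 (by simp) (by simp)).symm
  · rw [if_neg hm, if_neg]
    intro h
    have := DFunLike.congr_fun h 1
    rw [E_one] at this
    simp at this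
    exact hm this

/-- coefficient of `x^i * y^j * G` -/
theorem coeff_mono_mul (F : PowerSeries R) (n m i j : ℕ) :
    MvPowerSeries.coeff (E n m)
      ((MvPowerSeries.X (0 : Fin 2) : MvPowerSeries (Fin 2) R) ^ i * MvPowerSeries.X 1 ^ j *
        PowerSeries.subst (MvPowerSeries.X (0 : Fin 2) : MvPowerSeries (Fin 2) R) F)
      = if i ≤ n ∧ j = m then PowerSeries.coeff (n - i) F else 0 := by
  rw [MvPowerSeries.X_pow_eq, MvPowerSeries.X_pow_eq, MvPowerSeries.monomial_mul_monomial,
    MvPowerSeries.coeff_monomial_mul]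
  have hE : Finsupp.single (0 : Fin 2) i + Finsupp.single 1 j = E i j := rfl
  rw [hE]
  by_cases h : i ≤ n ∧ j ≤ m
  · have hle : E i j ≤ E n m := by
      rw [Finsupp.le_def]
      intro k
      fin_cases k
      · simpa [E] using h.1
      · simpa [E] using h.2
    have hsub : E n m - E i j = E (n - i) (m - j) := by
      apply E_ext
      · rw [Finsupp.tsub_apply, E_zero, E_zero]
      · rw [Finsupp.tsub_apply, E_one, E_one]
    rw [if_pos hle, hsub, coeff_G, one_mul, one_mul]
    by_cases hjm : j = m
    · subst hjm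
      rw [if_pos (Nat.sub_self j), if_pos ⟨h.1, rfl⟩]
    · have : m - j ≠ 0 := by omega
      rw [if_neg this, if_neg (fun h' => hjm h'.2)]
  · have hle : ¬ E i j ≤ E n m := by
      intro hle
      rw [Finsupp.le_def] at hle
      have h0 := hle 0
      have h1 := hle 1
      rw [E_zero, E_zero] at h0
      rw [E_one, E_one] at h1
      exact h ⟨h0, h1⟩
    rw [if_neg hle, if_neg]
    intro h'
    exact h ⟨h'.1, h'.2.le⟩

theorem coeff_rem_y (n m : ℕ) (hm : m < 2) (r : MvPowerSeries (Fin 2) R) :
    MvPowerSeries.coeff (E n m) ((MvPowerSeries.X 1 : MvPowerSeries (Fin 2) R) ^ 2 * r) = 0 := by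
  rw [MvPowerSeries.X_pow_eq, MvPowerSeries.coeff_monomial_mul, if_neg]
  intro hle
  rw [Finsupp.le_def] at hle
  have h1 := hle 1
  rw [E_one] at h1
  simp at h1
  omega

theorem coeff_rem_x (n m : ℕ) (hn : n < 2) (r : MvPowerSeries (Fin 2) R) :
    MvPowerSeries.coeff (E n m) ((MvPowerSeries.X 0 : MvPowerSeries (Fin 2) R) ^ 2 * r) = 0 := by
  rw [MvPowerSeries.X_pow_eq, MvPowerSeries.coeff_monomial_mul, if_neg]
  intro hle
  rw [Finsupp.le_def] at hle
  have h1 := hle 0
  rw [E_zero] at h1
  simp at h1
  omega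

theorem pow_expand_y (G : MvPowerSeries (Fin 2) R) (d : ℕ) :
    ∃ r : MvPowerSeries (Fin 2) R,
      ((MvPowerSeries.X 0 : MvPowerSeries (Fin 2) R) + MvPowerSeries.X 1 * G) ^ (d + 1) =
        MvPowerSeries.X 0 ^ (d + 1) + ((d + 1 : ℕ) : MvPowerSeries (Fin 2) R) *
          (MvPowerSeries.X 0 ^ d * MvPowerSeries.X 1 ^ 1 * G) + MvPowerSeries.X 1 ^ 2 * r := by
  induction d with
  | zero => exact ⟨0, by push_cast; ring⟩
  | succ d ih =>
    obtain ⟨r, hr⟩ := ih
    refine ⟨((d + 1 : ℕ) : MvPowerSeries (Fin 2) R) * MvPowerSeries.X 0 ^ d * G ^ 2 +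
      r * (MvPowerSeries.X 0 + MvPowerSeries.X 1 * G), ?_⟩
    rw [pow_succ, hr]
    push_cast
    ring

theorem pow_expand_x (a₁ : R) (s : MvPowerSeries (Fin 2) R) (d : ℕ) :
    ∃ r : MvPowerSeries (Fin 2) R,
      ((MvPowerSeries.X 0 : MvPowerSeries (Fin 2) R) + MvPowerSeries.X 1 *
          (1 + MvPowerSeries.C a₁ * MvPowerSeries.X 0 + MvPowerSeries.X 0 ^ 2 * s)) ^ (d + 1) =
        MvPowerSeries.X 1 ^ (d + 1) + ((d + 1 : ℕ) : MvPowerSeries (Fin 2) R) *
          (MvPowerSeries.X 1 ^ d * MvPowerSeries.X 0 * (1 + MvPowerSeries.C a₁ * MvPowerSeries.X 1)) +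
          MvPowerSeries.X 0 ^ 2 * r := by
  induction d with
  | zero => exact ⟨MvPowerSeries.X 1 * s, by push_cast; ring⟩
  | succ d ih =>
    obtain ⟨r, hr⟩ := ih
    refine ⟨MvPowerSeries.X 1 ^ (d + 2) * s +
      ((d + 1 : ℕ) : MvPowerSeries (Fin 2) R) * MvPowerSeries.X 1 ^ d *
        (1 + MvPowerSeries.C a₁ * MvPowerSeries.X 1) ^ 2 +
      ((d + 1 : ℕ) : MvPowerSeries (Fin 2) R) * MvPowerSeries.X 1 ^ (d + 1) * MvPowerSeries.X 0 *
        (1 + MvPowerSeries.C a₁ * MvPowerSeries.X 1) * s +
      r * (MvPowerSeries.X 0 + MvPowerSeries.X 1 *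
          (1 + MvPowerSeries.C a₁ * MvPowerSeries.X 0 + MvPowerSeries.X 0 ^ 2 * s)), ?_⟩
    rw [pow_succ, hr]
    push_cast
    ring

theorem coefA1 (F : PowerSeries R) (n d : ℕ) :
    MvPowerSeries.coeff (E n 1) (((MvPowerSeries.X 0 : MvPowerSeries (Fin 2) R) + MvPowerSeries.X 1 *
        PowerSeries.subst (MvPowerSeries.X (0 : Fin 2) : MvPowerSeries (Fin 2) R) F) ^ d)
      = if d = 0 then 0 else (d : R) *
          (if d ≤ n + 1 then PowerSeries.coeff (n + 1 - d) F else 0) := by
  classical
  cases d with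
  | zero =>
    rw [if_pos rfl, pow_zero, MvPowerSeries.coeff_one, if_neg]
    intro h
    have := DFunLike.congr_fun h 1
    rw [E_one] at this
    simp at this
  | succ d =>
    rw [if_neg (Nat.succ_ne_zero d)]
    obtain ⟨r, hr⟩ := pow_expand_y
      (PowerSeries.subst (MvPowerSeries.X (0 : Fin 2) : MvPowerSeries (Fin 2) R) F) d
    rw [hr, map_add, map_add, coeff_rem_y n 1 (by norm_num) r, add_zero]
    have h1 : MvPowerSeries.coeff (E n 1)
        ((MvPowerSeries.X 0 : MvPowerSeries (Fin 2) R) ^ (d + 1)) = 0 := by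
      rw [MvPowerSeries.coeff_X_pow, if_neg]
      intro h
      have := DFunLike.congr_fun h 1
      rw [E_one] at this
      simp at this
    rw [h1, zero_add, ← nsmul_eq_mul, map_nsmul, coeff_mono_mul, nsmul_eq_mul]
    congr 1
    by_cases h : d ≤ n
    · rw [if_pos ⟨h, rfl⟩, if_pos (by omega), Nat.add_sub_add_right]
    · rw [if_neg (fun h' => h h'.1), if_neg (by omega)]

theorem coeff_ypow_x (m k : ℕ) :
    MvPowerSeries.coeff (E 1 m) ((MvPowerSeries.X 1 : MvPowerSeries (Fin 2) R) ^ k * MvPowerSeries.X 0)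
      = if k = m then 1 else 0 := by
  classical
  rw [MvPowerSeries.X_pow_eq, MvPowerSeries.X_def, MvPowerSeries.monomial_mul_monomial,
    MvPowerSeries.coeff_monomial, one_mul]
  by_cases hk : k = m
  · subst hk
    rw [if_pos rfl, if_pos]
    exact (E_ext (Finsupp.single 1 k + Finsupp.single 0 1) 1 k (by simp) (by simp)).symm
  · rw [if_neg hk, if_neg]
    intro h
    have := DFunLike.congr_fun h 1
    rw [E_one] at this
    simp at this
    exact hk this.symm

theorem coefA2 (a₁ : R) (s : MvPowerSeries (Fin 2) R) (m d : ℕ) :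
    MvPowerSeries.coeff (E 1 m) (((MvPowerSeries.X 0 : MvPowerSeries (Fin 2) R) + MvPowerSeries.X 1 *
          (1 + MvPowerSeries.C a₁ * MvPowerSeries.X 0 + MvPowerSeries.X 0 ^ 2 * s)) ^ d)
      = if d = 0 then 0 else (d : R) *
          ((if d = m + 1 then 1 else 0) + (if d = m then a₁ else 0)) := by
  classical
  cases d with
  | zero =>
    rw [if_pos rfl, pow_zero, MvPowerSeries.coeff_one, if_neg]
    intro h
    have := DFunLike.congr_fun h 0
    rw [E_zero] at this
    simp at this
  | succ d =>
    rw [if_neg (Nat.succ_ne_zero d)]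
    obtain ⟨r, hr⟩ := pow_expand_x a₁ s d
    rw [hr, map_add, map_add, coeff_rem_x 1 m (by norm_num) r, add_zero]
    have h1 : MvPowerSeries.coeff (E 1 m)
        ((MvPowerSeries.X 1 : MvPowerSeries (Fin 2) R) ^ (d + 1)) = 0 := by
      rw [MvPowerSeries.coeff_X_pow, if_neg]
      intro h
      have := DFunLike.congr_fun h 0
      rw [E_zero] at this
      simp at this
    rw [h1, zero_add, ← nsmul_eq_mul, map_nsmul, nsmul_eq_mul]
    congr 1
    have h3 : (MvPowerSeries.X 1 : MvPowerSeries (Fin 2) R) ^ d * MvPowerSeries.X 0 *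
          (1 + MvPowerSeries.C a₁ * MvPowerSeries.X 1) =
        MvPowerSeries.X 1 ^ d * MvPowerSeries.X 0 +
          MvPowerSeries.C a₁ * (MvPowerSeries.X 1 ^ (d + 1) * MvPowerSeries.X 0) := by ring
    rw [h3, map_add, MvPowerSeries.coeff_C_mul, coeff_ypow_x, coeff_ypow_x]
    have e1 : (d + 1 = m + 1) ↔ d = m := by omega
    simp only [e1]
    split_ifs <;> simp

end aux


/-- In formal-power-series form, let R be a commutative ring and F ∈ R⟦X⟧ with constant term 1 whose
linear coefficient a is a unit of R. Suppose that in R⟦X₀, X₁⟧ one has F(X₀ + X₁ · F(X₀)) = F(X₀) ·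
F(X₁) (the functional equation F(x + y F(x)) = F(x) F(y)). Then F = 1 + a X. (The published
statement concerns a morphism to the multiplicative group from an open neighbourhood of the zero
section in the additive group over a base scheme, the identity holding on an open neighbourhood of
the origin of the plane on which all terms are defined, with a the derivative at 0; this row states
it for formal power series over a ring.) -/
theorem result (R : Type) [CommRing R] (F : PowerSeries R)
    (h0 : PowerSeries.constantCoeff F = 1) (ha : IsUnit (PowerSeries.coeff 1 F))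
    (hFE : PowerSeries.subst
        (MvPowerSeries.X (0 : Fin 2) + MvPowerSeries.X 1 * PowerSeries.subst (MvPowerSeries.X (0 : Fin 2)) F :
          MvPowerSeries (Fin 2) R) F =
      PowerSeries.subst (MvPowerSeries.X (0 : Fin 2)) F * PowerSeries.subst (MvPowerSeries.X (1 : Fin 2)) F) :
    F = 1 + PowerSeries.C (PowerSeries.coeff 1 F) * PowerSeries.X := by
  classical
  have hc0 : PowerSeries.coeff 0 F = 1 := by
    rw [PowerSeries.coeff_zero_eq_constantCoeff_apply]; exact h0
  have hx : PowerSeries.HasSubst (MvPowerSeries.X (0 : Fin 2) : MvPowerSeries (Fin 2) R) :=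
    PowerSeries.HasSubst.X 0
  have ha' : PowerSeries.HasSubst ((MvPowerSeries.X (0 : Fin 2) : MvPowerSeries (Fin 2) R) +
      MvPowerSeries.X 1 * PowerSeries.subst (MvPowerSeries.X (0 : Fin 2)) F) := by
    apply PowerSeries.HasSubst.of_constantCoeff_zero
    simp
  have hcoef : ∀ e : Fin 2 →₀ ℕ,
      (∑ᶠ d : ℕ, PowerSeries.coeff d F • MvPowerSeries.coeff e
        (((MvPowerSeries.X (0 : Fin 2) : MvPowerSeries (Fin 2) R) +
          MvPowerSeries.X 1 * PowerSeries.subst (MvPowerSeries.X (0 : Fin 2)) F) ^ d)) =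
        PowerSeries.coeff (e 0) F * PowerSeries.coeff (e 1) F := by
    intro e
    rw [← PowerSeries.coeff_subst ha' F e, hFE, PowerSeries.coeff_subst_X_zero_subst_mul_X_one]
  -- identity (1)
  have h1 : ∀ n : ℕ, ∑ d ∈ Finset.range (n + 2), PowerSeries.coeff d F *
      (if d = 0 then 0 else (d : R) *
        (if d ≤ n + 1 then PowerSeries.coeff (n + 1 - d) F else 0)) =
      PowerSeries.coeff n F * PowerSeries.coeff 1 F := by
    intro n
    have := hcoef (E n 1)
    rw [E_zero, E_one] at this
    rw [← this]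
    symm
    rw [finsum_eq_sum_of_support_subset]
    · apply Finset.sum_congr rfl
      intro d _
      rw [coefA1, smul_eq_mul]
    · intro d hd
      rw [Function.mem_support] at hd
      rw [Finset.coe_range, Set.mem_Iio]
      by_contra hlt
      apply hd
      rw [coefA1, if_neg (by omega), if_neg (by omega), mul_zero, smul_zero]
  have hdc : ∀ d : ℕ, 2 ≤ d → (d : R) * PowerSeries.coeff d F = 0 := by
    intro d
    induction d using Nat.strong_induction_on with
    | _ d ih =>
      intro hd
      obtain ⟨n, rfl⟩ : ∃ n, d = n + 1 := ⟨d - 1, by omega⟩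
      have hn1 : 1 ≤ n := by omega
      have key := h1 n
      have hsum : ∑ d ∈ Finset.range (n + 2), PowerSeries.coeff d F *
          (if d = 0 then 0 else (d : R) *
            (if d ≤ n + 1 then PowerSeries.coeff (n + 1 - d) F else 0)) =
          PowerSeries.coeff 1 F * (((1 : ℕ) : R) * PowerSeries.coeff n F) +
            PowerSeries.coeff (n + 1) F * (((n + 1 : ℕ) : R) * PowerSeries.coeff 0 F) := by
        rw [Finset.sum_eq_add 1 (n + 1) (by omega)]
        · rw [if_neg one_ne_zero, if_pos (by omega), if_neg (Nat.succ_ne_zero n), if_pos le_rfl,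
            Nat.add_sub_cancel, Nat.sub_self]
        · intro k hk hk'
          by_cases hk0 : k = 0
          · rw [if_pos hk0, mul_zero]
          · have hk2 : 2 ≤ k := by omega
            have hkn : k < n + 1 := by have := Finset.mem_range.mp hk; omega
            have hz := ih k hkn hk2
            rw [if_neg hk0, ← mul_assoc, mul_comm (PowerSeries.coeff k F) (k : R), hz, zero_mul]
        · intro h; exact absurd (Finset.mem_range.mpr (by omega)) h
        · intro h; exact absurd (Finset.mem_range.mpr (by omega)) h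
      rw [hsum, hc0] at key
      push_cast at key ⊢
      linear_combination key
  -- the second identity
  set a₁ := PowerSeries.coeff 1 F with ha₁
  have hF2 : F = 1 + PowerSeries.C a₁ * PowerSeries.X +
      PowerSeries.X ^ 2 * PowerSeries.mk (fun n => PowerSeries.coeff (n + 2) F) := by
    ext n
    rw [map_add, map_add, PowerSeries.coeff_one, PowerSeries.coeff_C_mul, PowerSeries.coeff_X,
      PowerSeries.coeff_X_pow_mul']
    rcases n with _ | _ | n
    · simp [hc0]
    · simp [ha₁]
    · have e2 : n + 1 + 1 - 2 = n := by omega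
      have e3 : (2 : ℕ) ≤ n + 1 + 1 := by omega
      simp [e2, e3, PowerSeries.coeff_mk]
  have hG2 : PowerSeries.subst (MvPowerSeries.X (0 : Fin 2) : MvPowerSeries (Fin 2) R) F =
      1 + MvPowerSeries.C a₁ * MvPowerSeries.X 0 + MvPowerSeries.X 0 ^ 2 *
        PowerSeries.subst (MvPowerSeries.X (0 : Fin 2) : MvPowerSeries (Fin 2) R)
          (PowerSeries.mk (fun n => PowerSeries.coeff (n + 2) F)) := by
    have e1 : PowerSeries.subst (MvPowerSeries.X (0 : Fin 2) : MvPowerSeries (Fin 2) R) F =
        PowerSeries.substAlgHom hx F := by rw [PowerSeries.coe_substAlgHom]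
    rw [e1]
    conv_lhs => rw [hF2]
    rw [map_add, map_add, map_mul, map_mul, map_pow, map_one, PowerSeries.substAlgHom_X,
      PowerSeries.coe_substAlgHom, PowerSeries.subst_C]
  have h2 : ∀ m : ℕ, ∑ d ∈ Finset.range (m + 2), PowerSeries.coeff d F *
      (if d = 0 then 0 else (d : R) *
        ((if d = m + 1 then 1 else 0) + (if d = m then a₁ else 0))) =
      a₁ * PowerSeries.coeff m F := by
    intro m
    have := hcoef (E 1 m)
    rw [E_zero, E_one] at this
    rw [← this]
    symm
    rw [finsum_eq_sum_of_support_subset]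
    · apply Finset.sum_congr rfl
      intro d _
      rw [hG2, coefA2, smul_eq_mul]
    · intro d hd
      rw [Function.mem_support] at hd
      rw [Finset.coe_range, Set.mem_Iio]
      by_contra hlt
      apply hd
      rw [hG2, coefA2, if_neg (by omega), if_neg (by omega), if_neg (by omega), add_zero, mul_zero,
        smul_zero]
  have hcm : ∀ m : ℕ, 2 ≤ m → PowerSeries.coeff m F = 0 := by
    intro m hm
    have key := h2 m
    have hsum : ∑ d ∈ Finset.range (m + 2), PowerSeries.coeff d F *
        (if d = 0 then 0 else (d : R) *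
          ((if d = m + 1 then 1 else 0) + (if d = m then a₁ else 0))) =
        PowerSeries.coeff m F * ((m : R) * (0 + a₁)) +
          PowerSeries.coeff (m + 1) F * (((m + 1 : ℕ) : R) * (1 + 0)) := by
      rw [Finset.sum_eq_add m (m + 1) (by omega)]
      · rw [if_neg (by omega), if_neg (by omega), if_pos rfl, if_neg (Nat.succ_ne_zero m),
          if_pos rfl, if_neg (by omega)]
      · intro k hk hk'
        by_cases hk0 : k = 0
        · rw [if_pos hk0, mul_zero]
        · rw [if_neg hk0, if_neg (fun h => hk'.2 h), if_neg (fun h => hk'.1 h), add_zero, mul_zero,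
            mul_zero]
      · intro h; exact absurd (Finset.mem_range.mpr (by omega)) h
      · intro h; exact absurd (Finset.mem_range.mpr (by omega)) h
    rw [hsum] at key
    have hz1 := hdc m hm
    have hz2 := hdc (m + 1) (by omega)
    have hzero : a₁ * PowerSeries.coeff m F = 0 := by
      linear_combination (-1 : R) * key + a₁ * hz1 + hz2
    exact (IsUnit.mul_right_eq_zero ha).mp hzero
  ext n
  rw [map_add, PowerSeries.coeff_one, PowerSeries.coeff_C_mul, PowerSeries.coeff_X]
  rcases n with _ | _ | n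
  · simp [hc0]
  · simp [ha₁]
  · rw [hcm (n + 1 + 1) (by omega)]
    simp

end Groth.Agent.S12056
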