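import Groth.Statements.S1206
import Mathlib.RingTheory.LocalRing.MaximalIdeal.Basic
import Mathlib.RingTheory.LocalRing.Basic
import Mathlib.RingTheory.Finiteness.Basic
import Mathlib.Order.CompactlyGenerated.Basic
import Mathlib.Order.Zorn
import Mathlib.RingTheory.Ideal.Maximal

set_option autoImplicit false
universe u
open FlatMor

namespace Groth.Agent.S1206

/-- Let A be a local domain which is not a field and 𝒮 a set of finitely generated ideals of A, closed
under products, such that the union of the closed sets V(I), I ∈ 𝒮, is exactly the set of nonzero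
primes (every nonzero prime contains a member of 𝒮 and no member is zero). Then the intersection of
all members of 𝒮 is zero. -/
theorem result (A : Type u) [CommRing A] [IsDomain A] [IsLocalRing A] (hA : ¬ IsField A)
    (𝒮 : Set (Ideal A)) (hfg : ∀ I ∈ 𝒮, I.FG) (hmul : ∀ I ∈ 𝒮, ∀ J ∈ 𝒮, I * J ∈ 𝒮)
    (hne : ∀ I ∈ 𝒮, I ≠ ⊥) (hcov : ∀ (p : Ideal A), p.IsPrime → p ≠ ⊥ → ∃ I ∈ 𝒮, I ≤ p) :
    sInf 𝒮 = ⊥ := by
  -- the maximal ideal is a nonzero prime
  have hm : IsLocalRing.maximalIdeal A ≠ ⊥ := by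
    intro h
    exact hA (IsLocalRing.isField_iff_maximalIdeal_eq.mpr h)
  obtain ⟨I0, hI0, hI0m⟩ := hcov _ (IsLocalRing.maximalIdeal.isMaximal A).isPrime hm
  -- claim: for every nonzero x there is I ∈ 𝒮 with I ≤ (x)
  have claim : ∀ x : A, x ≠ 0 → ∃ I ∈ 𝒮, I ≤ Ideal.span {x} := by
    intro x hx
    by_contra hcon
    push Not at hcon
    let Sg : Set (Ideal A) := {J | ∀ I ∈ 𝒮, ¬ I ≤ J}
    have hchain : ∀ c ⊆ Sg, IsChain (· ≤ ·) c → ∀ y ∈ c, ∃ ub ∈ Sg, ∀ z ∈ c, z ≤ ub := by
      intro c hc hchain y hy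
      refine ⟨sSup c, ?_, fun z hz => le_sSup hz⟩
      intro I hI hle
      have hcomp : IsCompactElement I := (Submodule.fg_iff_compact I).mp (hfg I hI)
      rw [CompleteLattice.isCompactElement_iff_le_of_directed_sSup_le] at hcomp
      obtain ⟨J, hJc, hIJ⟩ := hcomp c ⟨y, hy⟩ hchain.directedOn hle
      exact hc hJc I hI hIJ
    obtain ⟨P, hxP, hPmax⟩ := zorn_le_nonempty₀ Sg hchain (Ideal.span {x}) hcon
    have hPS : P ∈ Sg := hPmax.prop
    have hPne : P ≠ ⊤ := by
      intro h
      exact hPS I0 hI0 (h ▸ le_top)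
    have hPprime : P.IsPrime := by
      refine ⟨hPne, ?_⟩
      intro a b hab
      by_contra hcon2
      push Not at hcon2
      obtain ⟨ha, hb⟩ := hcon2
      have h1 : P ⊔ Ideal.span {a} ∉ Sg := by
        intro hmem
        have := hPmax.le_of_ge hmem le_sup_left
        exact ha (this (Ideal.mem_sup_right (Ideal.mem_span_singleton_self a)))
      have h2 : P ⊔ Ideal.span {b} ∉ Sg := by
        intro hmem
        have := hPmax.le_of_ge hmem le_sup_left
        exact hb (this (Ideal.mem_sup_right (Ideal.mem_span_singleton_self b)))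
      simp only [Sg, Set.mem_ofPred_eq, not_forall, not_not] at h1 h2
      obtain ⟨I1, hI1, hI1le⟩ := h1
      obtain ⟨I2, hI2, hI2le⟩ := h2
      apply hPS (I1 * I2) (hmul I1 hI1 I2 hI2)
      calc I1 * I2 ≤ (P ⊔ Ideal.span {a}) * (P ⊔ Ideal.span {b}) := Ideal.mul_mono hI1le hI2le
        _ ≤ P := by
          rw [Ideal.sup_mul, Ideal.mul_sup, Ideal.mul_sup]
          refine sup_le (sup_le (by first | exact Ideal.mul_le_left | exact Ideal.mul_le_right) (by first | exact Ideal.mul_le_left | exact Ideal.mul_le_right)) (sup_le (by first | exact Ideal.mul_le_left | exact Ideal.mul_le_right) ?_)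
          rw [Ideal.span_singleton_mul_span_singleton, Ideal.span_singleton_le_iff_mem]
          exact hab
    have hPbot : P ≠ ⊥ := by
      intro h
      apply hx
      have : x ∈ P := hxP (Ideal.mem_span_singleton_self x)
      rw [h] at this
      exact this
    obtain ⟨I, hI, hIP⟩ := hcov P hPprime hPbot
    exact hPS I hI hIP
  rw [eq_bot_iff]
  intro x hx
  rw [Ideal.mem_bot]
  by_contra hx0
  obtain ⟨I, hI, hIx⟩ := claim x hx0
  have hII : I * I ∈ 𝒮 := hmul I hI I hI
  have h1 : x ∈ I * I := (sInf_le hII) hx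
  have h2 : I * I ≤ Ideal.span {x * x} := by
    rw [← Ideal.span_singleton_mul_span_singleton]
    exact Ideal.mul_mono hIx hIx
  obtain ⟨g, hg⟩ := Ideal.mem_span_singleton'.mp (h2 h1)
  -- g * (x*x) = x
  have h3 : x * (g * x - 1) = 0 := by
    have : x * (g * x - 1) = g * (x * x) - x := by ring
    rw [this, hg, sub_self]
  have h4 : g * x = 1 := by
    rcases mul_eq_zero.mp h3 with h | h
    · exact absurd h hx0
    · exact sub_eq_zero.mp h
  have hxm : x ∈ IsLocalRing.maximalIdeal A := hI0m ((sInf_le hI0) hx)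
  exact (IsLocalRing.mem_maximalIdeal x).mp hxm (IsUnit.of_mul_eq_one g (by rw [mul_comm]; exact h4))

end Groth.Agent.S1206
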