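import Groth.Statements.S12067
import Mathlib
import Groth.Agent.Lib.helper4.Comod

set_option autoImplicit false
universe u
open TensorProduct
open SGA3t2b

namespace Groth.Agent.S12067

/-- In Hopf-algebra form, let k be a field and A a finitely generated commutative Hopf algebra over k
(an affine algebraic group G) which is unipotent: every nonzero finite-dimensional comodule has a
nonzero fixed vector. Then every finite-dimensional comodule V (a finite-dimensional representation
of G), of dimension n, has a flag of subcomodules 0 = V_0 ⊂ V_1 ⊂ ⋯ ⊂ V_n = V with one-dimensional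
successive quotients on which G acts trivially: for v ∈ V_(i+1) the coaction of v is congruent to v
⊗ 1 modulo V_i ⊗ A. -/
theorem result (k : Type u) [Field k] (A : Type u) [CommRing A]
    [HopfAlgebra k A] [Algebra.FiniteType k A] (hU : HopfRep.IsUnipotent k A)
    (V : Type u) [AddCommGroup V] [Module k V] [HopfRep.Comod k A V] [Module.Finite k V] :
    ∃ F : Fin (Module.finrank k V + 1) → Submodule k V,
      F 0 = ⊥ ∧ F (Fin.last _) = ⊤ ∧
      (∀ i : Fin (Module.finrank k V + 1), HopfRep.IsSubcomod (k := k) (A := A) (F i)) ∧
      ∀ i : Fin (Module.finrank k V), F i.castSucc ≤ F i.succ ∧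
        Module.finrank k ↥(F i.succ) = Module.finrank k ↥(F i.castSucc) + 1 ∧
        ∀ v ∈ F i.succ, HopfRep.Comod.coact (k := k) (A := A) v - v ⊗ₜ[k] (1 : A) ∈
          LinearMap.range ((F i.castSucc).subtype.rTensor A) := by
  classical
  have main : ∀ n : ℕ, ∀ (V : Type u) [AddCommGroup V] [Module k V] [HopfRep.Comod k A V],
      Module.Finite k V → Module.finrank k V = n →
      ∃ F : ℕ → Submodule k V, F 0 = ⊥ ∧ F n = ⊤ ∧
        (∀ i, HopfRep.IsSubcomod (k := k) (A := A) (F i)) ∧
        ∀ i, i < n → F i ≤ F (i + 1) ∧
          Module.finrank k ↥(F (i + 1)) = Module.finrank k ↥(F i) + 1 ∧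
          ∀ v ∈ F (i + 1),
            HopfRep.Comod.coact (k := k) (A := A) v - v ⊗ₜ[k] (1 : A) ∈
              LinearMap.range ((F i).subtype.rTensor A) := by
    intro n
    induction n with
    | zero =>
      intro V _ _ _ hfin hn
      haveI := hfin
      haveI : Subsingleton V := Module.finrank_zero_iff.1 hn
      refine ⟨fun _ => ⊥, rfl, Subsingleton.elim _ _, fun _ => Groth.Agent.H4.H4_isSubcomod_bot, ?_⟩
      intro i hi
      exact absurd hi (Nat.not_lt_zero _)
    | succ n ih =>
      intro V _ _ _ hfin hn
      haveI := hfin
      have hV : Nontrivial V := Module.nontrivial_of_finrank_pos (R := k) (by omega)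
      have hfix := hU V hfin hV
      obtain ⟨v0, hv0m, hv0⟩ := (Submodule.ne_bot_iff _).1 hfix
      set W₁ : Submodule k V := Submodule.span k {v0} with hW₁def
      have hW₁fix : ∀ w ∈ W₁, HopfRep.Comod.coact (k := k) (A := A) w = w ⊗ₜ[k] (1 : A) := by
        intro w hw
        obtain ⟨c, rfl⟩ := Submodule.mem_span_singleton.1 hw
        have h0 : HopfRep.Comod.coact (k := k) (A := A) v0 = v0 ⊗ₜ[k] (1 : A) := hv0m
        rw [map_smul, h0, TensorProduct.smul_tmul']
      have hW₁ : HopfRep.IsSubcomod (k := k) (A := A) W₁ := by
        intro w hw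
        rw [hW₁fix w hw]
        exact ⟨(⟨w, hw⟩ : W₁) ⊗ₜ[k] (1 : A), by simp⟩
      have hW₁rank : Module.finrank k W₁ = 1 := finrank_span_singleton hv0
      letI := Groth.Agent.H4.H4_quotComod W₁ hW₁
      have hq : Module.finrank k (V ⧸ W₁) = n := by
        have h1 := Submodule.finrank_quotient_add_finrank W₁
        omega
      obtain ⟨F', h0, hm, hsub, hstep⟩ := ih (V ⧸ W₁) inferInstance hq
      let F : ℕ → Submodule k V := fun i => if i = 0 then ⊥ else (F' (i - 1)).comap W₁.mkQ
      have hF0 : F 0 = ⊥ := by simp [F]
      have hFs : ∀ i, F (i + 1) = (F' i).comap W₁.mkQ := by intro i; simp [F]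
      have hrank : ∀ U : Submodule k (V ⧸ W₁),
          Module.finrank k ↥(U.comap W₁.mkQ) = Module.finrank k ↥U + 1 := by
        intro U
        let f : ↥(U.comap W₁.mkQ) →ₗ[k] ↥U :=
          (W₁.mkQ.domRestrict (U.comap W₁.mkQ)).codRestrict U (fun x => x.2)
        have hf : Function.Surjective f := by
          rintro ⟨y, hy⟩
          obtain ⟨x, rfl⟩ := W₁.mkQ_surjective y
          exact ⟨⟨x, hy⟩, rfl⟩
        have hker : Module.finrank k ↥(LinearMap.ker f) = 1 := by
          rw [← hW₁rank]
          have hle : W₁ ≤ U.comap W₁.mkQ := by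
            intro w hw
            rw [Submodule.mem_comap, Submodule.mkQ_apply, (Submodule.Quotient.mk_eq_zero W₁).2 hw]
            exact U.zero_mem
          have : LinearMap.ker f = W₁.comap (U.comap W₁.mkQ).subtype := by
            ext x
            rw [LinearMap.mem_ker, Submodule.mem_comap]
            constructor
            · intro hx
              have := congrArg Subtype.val hx
              exact (Submodule.Quotient.mk_eq_zero W₁).1 this
            · intro hx
              apply Subtype.ext
              exact (Submodule.Quotient.mk_eq_zero W₁).2 hx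
          rw [this]
          exact (Submodule.comapSubtypeEquivOfLe hle).finrank_eq
        have h1 := LinearMap.finrank_range_add_finrank_ker f
        rw [LinearMap.range_eq_top.2 hf, finrank_top, hker] at h1
        omega
      refine ⟨F, hF0, ?_, ?_, ?_⟩
      · rw [hFs, hm, Submodule.comap_top]
      · intro i
        rcases i with _ | i
        · rw [hF0]; exact Groth.Agent.H4.H4_isSubcomod_bot
        · rw [hFs]
          exact Groth.Agent.H4.H4_isSubcomod_comap_mkQ W₁ hW₁ _ (hsub i)
      · intro i hi
        rcases i with _ | i
        · rw [hFs, hF0, h0]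
          refine ⟨bot_le, ?_, ?_⟩
          · rw [hrank, finrank_bot, finrank_bot]
          · intro v hv
            have hv' : v ∈ W₁ := by
              rw [Submodule.mem_comap, Submodule.mem_bot, Submodule.mkQ_apply,
                Submodule.Quotient.mk_eq_zero] at hv
              exact hv
            rw [hW₁fix v hv', sub_self]
            exact Submodule.zero_mem _
        · obtain ⟨hle, hrk, hst⟩ := hstep i (by omega)
          rw [hFs, hFs]
          refine ⟨Submodule.comap_mono hle, ?_, ?_⟩
          · rw [hrank, hrank, hrk]
          · intro v hv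
            rw [Submodule.mem_comap] at hv
            have h1 := hst _ hv
            rw [Groth.Agent.H4.H4_mem_range_rTensor_iff] at h1 ⊢
            intro j
            rw [Submodule.mem_comap, ← Groth.Agent.H4.H4_coef_nat]
            have h2 : W₁.mkQ.rTensor A (HopfRep.Comod.coact (k := k) (A := A) v - v ⊗ₜ[k] (1 : A))
                = HopfRep.Comod.coact (k := k) (A := A) (W₁.mkQ v) - (W₁.mkQ v) ⊗ₜ[k] (1 : A) := by
              rw [map_sub, LinearMap.rTensor_tmul]
              rfl
            rw [h2]
            exact h1 j
  obtain ⟨F, h0, hm, hsub, hstep⟩ := main _ V inferInstance rfl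
  refine ⟨fun i => F i.val, h0, ?_, fun i => hsub _, ?_⟩
  · show F (Fin.last (Module.finrank k V)).val = ⊤
    rw [Fin.val_last]
    exact hm
  · intro i
    have := hstep i.val i.isLt
    simpa using this

end Groth.Agent.S12067
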