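import Groth.Statements.S1207
import Groth.Agent.S1206
import Mathlib.RingTheory.Ideal.Quotient.Operations
import Mathlib.RingTheory.LocalRing.RingHom.Basic

set_option autoImplicit false
universe u
open FlatMor

namespace Groth.Agent.S1207

/-- Let A be a local ring and I, J ideals of A with J finitely generated, J ≠ A, and I ⊆ J^n for all n ≥
1. Then every prime p not containing J which is maximal among the primes not containing J (a closed
point of Spec A ∖ V(J)) contains I. (The published statement leaves the hypothesis J ≠ A implicit;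
for J = A the assertion fails.) -/
theorem result (A : Type u) [CommRing A] [IsLocalRing A] (I J : Ideal A) (hJ : J.FG) (hJ1 : J ≠ ⊤)
    (hI : ∀ n : ℕ, 1 ≤ n → I ≤ J ^ n) (p : Ideal A) [p.IsPrime] (hp : ¬ J ≤ p)
    (hmax : ∀ (p' : Ideal A), p'.IsPrime → p ≤ p' → ¬ J ≤ p' → p' = p) : I ≤ p := by
  have hDloc : IsLocalRing (A ⧸ p) :=
    .of_surjective' (Ideal.Quotient.mk p) Ideal.Quotient.mk_surjective
  have hJ'ne : J.map (Ideal.Quotient.mk p) ≠ ⊥ := by
    intro h
    apply hp
    have := (Ideal.map_eq_bot_iff_le_ker _).mp h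
    rwa [Ideal.mk_ker] at this
  have hJm : J ≤ IsLocalRing.maximalIdeal A := IsLocalRing.le_maximalIdeal hJ1
  have hpm : p ≤ IsLocalRing.maximalIdeal A := IsLocalRing.le_maximalIdeal (Ideal.IsPrime.ne_top ‹_›)
  have hJ'top : J.map (Ideal.Quotient.mk p) ≠ ⊤ := by
    intro h
    have h1 : (J.map (Ideal.Quotient.mk p)).comap (Ideal.Quotient.mk p) = ⊤ := by rw [h]; rfl
    rw [Ideal.comap_map_of_surjective _ Ideal.Quotient.mk_surjective, ← RingHom.ker_eq_comap_bot,
      Ideal.mk_ker] at h1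
    have : (⊤ : Ideal A) ≤ IsLocalRing.maximalIdeal A := h1 ▸ sup_le hJm hpm
    exact (IsLocalRing.maximalIdeal.isMaximal A).ne_top (top_le_iff.mp this)
  have hA : ¬ IsField (A ⧸ p) := by
    intro hF
    let _ := hF.toField
    rcases Ideal.eq_bot_or_top (J.map (Ideal.Quotient.mk p)) with h | h
    · exact hJ'ne h
    · exact hJ'top h
  let 𝒮 : Set (Ideal (A ⧸ p)) := {K | ∃ n : ℕ, 1 ≤ n ∧ K = (J.map (Ideal.Quotient.mk p)) ^ n}
  have key := Groth.Agent.S1206.result (A ⧸ p) hA 𝒮 ?_ ?_ ?_ ?_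
  · intro x hx
    have h1 : Ideal.Quotient.mk p x ∈ sInf 𝒮 := by
      rw [Ideal.mem_sInf]
      rintro K ⟨n, hn, rfl⟩
      rw [← Ideal.map_pow]
      exact Ideal.mem_map_of_mem _ (hI n hn hx)
    rw [key, Ideal.mem_bot, Ideal.Quotient.eq_zero_iff_mem] at h1
    exact h1
  · rintro K ⟨n, -, rfl⟩
    exact (hJ.map _).pow
  · rintro K ⟨n, hn, rfl⟩ K' ⟨n', hn', rfl⟩
    exact ⟨n + n', by omega, (pow_add _ _ _).symm⟩
  · rintro K ⟨n, -, rfl⟩
    exact pow_ne_zero n hJ'ne
  · intro p' hp' hp'ne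
    refine ⟨J.map (Ideal.Quotient.mk p), ⟨1, le_refl 1, (pow_one _).symm⟩, ?_⟩
    rw [Ideal.map_le_iff_le_comap]
    by_contra hcon
    have hq : (p'.comap (Ideal.Quotient.mk p)).IsPrime := Ideal.comap_isPrime _ _
    have hle : p ≤ p'.comap (Ideal.Quotient.mk p) := by
      intro x hx
      rw [Ideal.mem_comap, Ideal.Quotient.eq_zero_iff_mem.mpr hx]
      exact zero_mem _
    have heq := hmax _ hq hle hcon
    apply hp'ne
    rw [eq_bot_iff]
    intro y hy
    obtain ⟨x, rfl⟩ := Ideal.Quotient.mk_surjective y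
    have : x ∈ p'.comap (Ideal.Quotient.mk p) := hy
    rw [heq] at this
    rw [Ideal.mem_bot, Ideal.Quotient.eq_zero_iff_mem]
    exact this

end Groth.Agent.S1207
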