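import Groth.Statements.S12071
import Mathlib
import Groth.Agent.Lib.helper3.ClosestPt

set_option autoImplicit false
open RootD

namespace Groth.Agent.S12071

/-- Let G be the group generated by two elements x, y subject to x² = y² = 1 (the infinite dihedral
group; here Mathlib's DihedralGroup 0 with x = sr 0 and y = sr 1, so that x y = r 1). Then every
normal subgroup of G containing neither x nor y is generated by an element (x y)^n with n > 0; such
a subgroup is cyclic, generated by r n. (The published statement does not exclude the trivial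
subgroup, for which no n > 0 works; this row assumes the subgroup nontrivial.) -/
theorem result (N : Subgroup (DihedralGroup 0)) [N.Normal]
    (hN : N ≠ ⊥) (hx : DihedralGroup.sr (0 : ZMod 0) ∉ N) (hy : DihedralGroup.sr (1 : ZMod 0) ∉ N) :
    ∃ n : ℕ, 0 < n ∧ N = Subgroup.zpowers (DihedralGroup.r (n : ZMod 0)) := by
  open Groth.Agent.H3RootD RootPairing in
  have hsurj := ZMod.intCast_surjective (n := 0)
  have hsr : ∀ i : ℤ, (DihedralGroup.sr (Int.cast i : ZMod 0)) ∉ N := by
    intro i hi
    have hconj : ∀ k : ℤ, DihedralGroup.sr (Int.cast (i - 2 * k) : ZMod 0) ∈ N := by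
      intro k
      have h := Subgroup.Normal.conj_mem ‹N.Normal› _ hi (DihedralGroup.r (Int.cast k : ZMod 0))
      rw [DihedralGroup.inv_r, DihedralGroup.r_mul_sr, DihedralGroup.sr_mul_r] at h
      have e : ((Int.cast i : ZMod 0) - Int.cast k + -Int.cast k) = Int.cast (i - 2 * k) := by
        push_cast
        ring
      rw [e] at h
      exact h
    rcases Int.emod_two_eq_zero_or_one i with h | h
    · have := hconj (i / 2)
      have e : i - 2 * (i / 2) = 0 := by omega
      rw [e, Int.cast_zero] at this
      exact hx this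
    · have := hconj (i / 2)
      have e : i - 2 * (i / 2) = 1 := by omega
      rw [e, Int.cast_one] at this
      exact hy this
  let A : AddSubgroup ℤ :=
    { carrier := {i | DihedralGroup.r (Int.cast i : ZMod 0) ∈ N}
      zero_mem' := by
        change DihedralGroup.r (Int.cast (0 : ℤ) : ZMod 0) ∈ N
        rw [Int.cast_zero, ← DihedralGroup.one_def]
        exact one_mem N
      add_mem' := by
        intro a b ha hb
        change DihedralGroup.r (Int.cast (a + b) : ZMod 0) ∈ N
        have := N.mul_mem ha hb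
        rw [DihedralGroup.r_mul_r] at this
        rw [Int.cast_add]
        exact this
      neg_mem' := by
        intro a ha
        change DihedralGroup.r (Int.cast (-a) : ZMod 0) ∈ N
        have := N.inv_mem ha
        rw [DihedralGroup.inv_r] at this
        rw [Int.cast_neg]
        exact this }
  have hA : ∀ i : ℤ, i ∈ A ↔ DihedralGroup.r (Int.cast i : ZMod 0) ∈ N := fun i => Iff.rfl
  obtain ⟨a, ha⟩ := Int.subgroup_cyclic A
  have hmemA : ∀ i : ℤ, i ∈ A ↔ a ∣ i := by
    intro i
    rw [ha, ← AddSubgroup.zmultiples_eq_closure, Int.mem_zmultiples_iff]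
  have hNr : ∀ g ∈ N, ∃ i : ℤ, g = DihedralGroup.r (Int.cast i : ZMod 0) ∧ a ∣ i := by
    intro g hg
    cases g with
    | r z =>
      obtain ⟨i, rfl⟩ := hsurj z
      exact ⟨i, rfl, (hmemA i).1 hg⟩
    | sr z =>
      obtain ⟨i, rfl⟩ := hsurj z
      exact absurd hg (hsr i)
  have ha0 : a ≠ 0 := by
    intro h0
    apply hN
    rw [Subgroup.eq_bot_iff_forall]
    intro g hg
    obtain ⟨i, rfl, hi⟩ := hNr g hg
    rw [h0, zero_dvd_iff] at hi
    rw [hi, Int.cast_zero, DihedralGroup.one_def]
  refine ⟨a.natAbs, Int.natAbs_pos.2 ha0, ?_⟩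
  ext g
  rw [Subgroup.mem_zpowers_iff]
  constructor
  · intro hg
    obtain ⟨i, rfl, hi⟩ := hNr g hg
    have hi' : (a.natAbs : ℤ) ∣ i := Int.natAbs_dvd.2 hi
    obtain ⟨k, rfl⟩ := hi'
    refine ⟨k, ?_⟩
    rw [DihedralGroup.r_zpow, Int.cast_mul, Int.cast_natCast]
  · rintro ⟨k, rfl⟩
    rw [DihedralGroup.r_zpow]
    have : ((a.natAbs : ℕ) : ZMod 0) * (Int.cast k : ZMod 0) = Int.cast ((a.natAbs : ℤ) * k) := by
      rw [Int.cast_mul, Int.cast_natCast]
    rw [this, ← hA, hmemA]
    exact Dvd.dvd.mul_right (Int.dvd_natAbs_self) k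

end Groth.Agent.S12071
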