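import Groth.Statements.S12078
import Mathlib

set_option autoImplicit false
universe u
open CAlg

namespace Groth.Agent.S12078

/-- An elementary divisor domain is Bézout. Here `R` is a domain such that for all `n, m ≥ 1` and every
`n × m` matrix `A` there are invertible matrices `U` (`n × n`) and `V` (`m × m`) with `U * A * V`
zero off the diagonal and with diagonal entries `f 0 ∣ f 1 ∣ f 2 ∣ …`; the conclusion is that every
finitely generated ideal of `R` is principal. -/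
theorem result (R : Type u) [CommRing R] [IsDomain R]
    (hR : ∀ n m : ℕ, 1 ≤ n → 1 ≤ m → ∀ A : Matrix (Fin n) (Fin m) R,
      ∃ (U : (Matrix (Fin n) (Fin n) R)ˣ) (V : (Matrix (Fin m) (Fin m) R)ˣ) (f : ℕ → R),
        (∀ k : ℕ, f k ∣ f (k + 1)) ∧
        ∀ (i : Fin n) (j : Fin m), ((U : Matrix (Fin n) (Fin n) R) * A * (V : Matrix (Fin m) (Fin m) R)) i j =
          if (i : ℕ) = (j : ℕ) then f i else 0) :
    IsBezout R := by
  rw [IsBezout.iff_span_pair_isPrincipal]
  intro a b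
  obtain ⟨U, V, f, -, hUV⟩ := hR 1 2 le_rfl (by norm_num) !![a, b]
  set A : Matrix (Fin 1) (Fin 2) R := !![a, b] with hA
  set W : Matrix (Fin 1) (Fin 2) R := A * (V : Matrix (Fin 2) (Fin 2) R) with hW
  have hUinv : (↑U⁻¹ : Matrix (Fin 1) (Fin 1) R) * (U : Matrix (Fin 1) (Fin 1) R) = 1 :=
    U.inv_mul
  have hVinv : (V : Matrix (Fin 2) (Fin 2) R) * (↑V⁻¹ : Matrix (Fin 2) (Fin 2) R) = 1 :=
    V.mul_inv
  -- W = U⁻¹ * (U * A * V)
  have hW2 : W = (↑U⁻¹ : Matrix (Fin 1) (Fin 1) R) * ((U : Matrix (Fin 1) (Fin 1) R) * A *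
      (V : Matrix (Fin 2) (Fin 2) R)) := by
    rw [Matrix.mul_assoc, ← Matrix.mul_assoc, hUinv, Matrix.one_mul]
  have hW01 : W 0 1 = 0 := by
    rw [hW2, Matrix.mul_apply]
    simp only [Fin.sum_univ_one]
    rw [hUV 0 1]
    simp
  have hAW : A = W * (↑V⁻¹ : Matrix (Fin 2) (Fin 2) R) := by
    rw [hW, Matrix.mul_assoc, hVinv, Matrix.mul_one]
  have ha : a = W 0 0 * (↑V⁻¹ : Matrix (Fin 2) (Fin 2) R) 0 0 := by
    have : A 0 0 = a := by simp [hA]
    rw [← this, hAW, Matrix.mul_apply, Fin.sum_univ_two, hW01, zero_mul, add_zero]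
  have hb : b = W 0 0 * (↑V⁻¹ : Matrix (Fin 2) (Fin 2) R) 0 1 := by
    have : A 0 1 = b := by simp [hA]
    rw [← this, hAW, Matrix.mul_apply, Fin.sum_univ_two, hW01, zero_mul, add_zero]
  have hg : W 0 0 = a * (V : Matrix (Fin 2) (Fin 2) R) 0 0 + b * (V : Matrix (Fin 2) (Fin 2) R) 1 0 := by
    rw [hW, Matrix.mul_apply, Fin.sum_univ_two]
    simp [hA]
  refine ⟨⟨W 0 0, ?_⟩⟩
  apply le_antisymm
  · rw [Ideal.span_le]
    intro x hx
    rcases hx with rfl | hx
    · rw [SetLike.mem_coe, Ideal.submodule_span_eq, Ideal.mem_span_singleton]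
      exact ⟨_, ha⟩
    · rw [Set.mem_singleton_iff] at hx
      rw [hx, SetLike.mem_coe, Ideal.submodule_span_eq, Ideal.mem_span_singleton]
      exact ⟨_, hb⟩
  · rw [Ideal.submodule_span_eq, Ideal.span_le, Set.singleton_subset_iff, SetLike.mem_coe, hg]
    exact Ideal.add_mem _ (Ideal.mul_mem_right _ _ (Ideal.subset_span (Set.mem_insert _ _)))
      (Ideal.mul_mem_right _ _ (Ideal.subset_span (Set.mem_insert_of_mem _ rfl)))

end Groth.Agent.S12078
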