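import Groth.Statements.S12081
import Mathlib

set_option autoImplicit false
universe u
open TensorProduct
open EtAlg

namespace Groth.Agent.S12081

/-- Let `B' = B ×_A A'` be a fibre square of rings with `A' → A` surjective with kernel `I`, let `J =
Ker(B' → B)`, let `D'` be a `B'`-algebra and `C' = D' ⊗_{B'} A'`. Then the ideal `I C'` is, as a
subset of `C'`, the image of the ideal `J D'` under `D' → C'`; that is, the map `J D' → I C'` is
surjective. -/
theorem result (B' B A' A : Type u) [CommRing B'] [CommRing B] [CommRing A'] [CommRing A]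
    [Algebra B' B] [Algebra B' A'] [Algebra B A] [Algebra A' A] [Algebra B' A] [IsScalarTower B' B A] [IsScalarTower B' A' A]
    (hsq : EtMil.IsFibreSquare B' B A' A)
    (D' C' : Type u) [CommRing D'] [CommRing C'] [Algebra B' D'] [Algebra A' C']
    [Algebra D' C'] [Algebra B' C'] [IsScalarTower B' A' C'] [IsScalarTower B' D' C'] [Algebra.IsPushout B' A' D' C'] :
    (algebraMap D' C') '' ((RingHom.ker (algebraMap B' B)).map (algebraMap B' D') : Set D') =
      ((RingHom.ker (algebraMap A' A)).map (algebraMap A' C') : Set C') := by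
  classical
  have hJI : ∀ j ∈ RingHom.ker (algebraMap B' B),
      algebraMap B' A' j ∈ RingHom.ker (algebraMap A' A) := by
    intro j hj
    rw [RingHom.mem_ker] at hj ⊢
    rw [← IsScalarTower.algebraMap_apply B' A' A j, IsScalarTower.algebraMap_apply B' B A j, hj,
      map_zero]
  have hIJ : ∀ a ∈ RingHom.ker (algebraMap A' A),
      ∃ j ∈ RingHom.ker (algebraMap B' B), algebraMap B' A' j = a := by
    intro a ha
    obtain ⟨b', ⟨hb1, hb2⟩, -⟩ := hsq.2 0 a (by rw [map_zero]; exact (RingHom.mem_ker.mp ha).symm)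
    exact ⟨b', RingHom.mem_ker.mpr hb1, hb2⟩
  have hF3 : ∀ j : B', algebraMap D' C' (algebraMap B' D' j) =
      algebraMap A' C' (algebraMap B' A' j) := by
    intro j
    rw [← IsScalarTower.algebraMap_apply B' D' C' j, ← IsScalarTower.algebraMap_apply B' A' C' j]
  -- scalar closure
  have hL : ∀ (s : A') (y : D'), y ∈ (RingHom.ker (algebraMap B' B)).map (algebraMap B' D') →
      ∃ y'' ∈ (RingHom.ker (algebraMap B' B)).map (algebraMap B' D'),
        algebraMap D' C' y'' = algebraMap A' C' s * algebraMap D' C' y := by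
    intro s y hy
    have hy' : y ∈ Submodule.span D'
        ((algebraMap B' D') '' (RingHom.ker (algebraMap B' B) : Set B')) := hy
    clear hy
    induction hy' using Submodule.span_induction with
    | mem x hx =>
      obtain ⟨j, hj, rfl⟩ := hx
      obtain ⟨j', hj', hj'a⟩ := hIJ (s * algebraMap B' A' j)
        (Ideal.mul_mem_left _ s (hJI j hj))
      refine ⟨algebraMap B' D' j', Ideal.mem_map_of_mem _ hj', ?_⟩
      rw [hF3, hj'a, map_mul, hF3]
    | zero => exact ⟨0, zero_mem _, by simp⟩
    | add x y _ _ ihx ihy =>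
      obtain ⟨x'', hx'', ex⟩ := ihx
      obtain ⟨y'', hy'', ey⟩ := ihy
      exact ⟨x'' + y'', add_mem hx'' hy'', by rw [map_add, ex, ey, map_add, mul_add]⟩
    | smul d y _ ihy =>
      obtain ⟨y'', hy'', ey⟩ := ihy
      refine ⟨d * y'', Ideal.mul_mem_left _ d hy'', ?_⟩
      rw [smul_eq_mul, map_mul, map_mul, ey]
      ring
  have hM : ∀ (c : C') (y : D'), y ∈ (RingHom.ker (algebraMap B' B)).map (algebraMap B' D') →
      ∃ y'' ∈ (RingHom.ker (algebraMap B' B)).map (algebraMap B' D'),
        algebraMap D' C' y'' = c * algebraMap D' C' y := by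
    intro c
    refine (Algebra.IsPushout.out (R := B') (S := A') (R' := D') (S' := C')).inductionOn c
      (fun c => ∀ (y : D'), y ∈ (RingHom.ker (algebraMap B' B)).map (algebraMap B' D') →
      ∃ y'' ∈ (RingHom.ker (algebraMap B' B)).map (algebraMap B' D'),
        algebraMap D' C' y'' = c * algebraMap D' C' y) ?_ ?_ ?_ ?_
    · intro y hy
      exact ⟨0, zero_mem _, by rw [map_zero, zero_mul]⟩
    · intro d y hy
      refine ⟨d * y, Ideal.mul_mem_left _ d hy, ?_⟩
      rw [map_mul]
      rfl
    · intro s n ih y hy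
      obtain ⟨y1, hy1, e1⟩ := ih y hy
      obtain ⟨y2, hy2, e2⟩ := hL s y1 hy1
      exact ⟨y2, hy2, by rw [e2, e1, Algebra.smul_def, mul_assoc]⟩
    · intro n₁ n₂ ih1 ih2 y hy
      obtain ⟨y1, hy1, e1⟩ := ih1 y hy
      obtain ⟨y2, hy2, e2⟩ := ih2 y hy
      exact ⟨y1 + y2, add_mem hy1 hy2, by rw [map_add, e1, e2, add_mul]⟩
  refine Set.Subset.antisymm ?_ ?_
  · rintro _ ⟨y, hy, rfl⟩
    have hle : (RingHom.ker (algebraMap B' B)).map (algebraMap B' D') ≤
        Ideal.comap (algebraMap D' C')
          ((RingHom.ker (algebraMap A' A)).map (algebraMap A' C')) := by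
      refine Ideal.map_le_iff_le_comap.mpr fun j hj => ?_
      rw [Ideal.mem_comap, Ideal.mem_comap, hF3]
      exact Ideal.mem_map_of_mem _ (hJI j hj)
    exact hle hy
  · intro z hz
    have hz' : z ∈ Submodule.span C'
        ((algebraMap A' C') '' (RingHom.ker (algebraMap A' A) : Set A')) := hz
    clear hz
    induction hz' using Submodule.span_induction with
    | mem x hx =>
      obtain ⟨a, ha, rfl⟩ := hx
      obtain ⟨j, hj, rfl⟩ := hIJ a ha
      exact ⟨algebraMap B' D' j, Ideal.mem_map_of_mem _ hj, hF3 j⟩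
    | zero => exact ⟨0, zero_mem _, map_zero _⟩
    | add x y _ _ ihx ihy =>
      obtain ⟨y1, hy1, e1⟩ := ihx
      obtain ⟨y2, hy2, e2⟩ := ihy
      exact ⟨y1 + y2, add_mem hy1 hy2, by rw [map_add, e1, e2]⟩
    | smul c z _ ihz =>
      obtain ⟨y, hy, rfl⟩ := ihz
      obtain ⟨y'', hy'', e⟩ := hM c y hy
      exact ⟨y'', hy'', by rw [e, smul_eq_mul]⟩

end Groth.Agent.S12081
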