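import Groth.Statements.S12105
import Groth.Agent.Lib.GSS.PshSS

set_option autoImplicit false
universe u
open CategoryTheory
open CohSite

namespace Groth.Agent.S12105

open CategoryTheory.Limits in
/-- On a small site (C, J), for a presheaf of sets R on C and an abelian sheaf M there is a bounded E_2
spectral sequence of abelian groups with E_2^{p,q} isomorphic to H^p(R, H^q(M)) — the cohomology, in
the topos of presheaves (sheaves for the trivial topology), of the presheaf V ↦ H^q(V, M) with
respect to R, i.e. the p-th Ext out of the free abelian presheaf on R — for p, q ≥ 0 and zero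
otherwise, with abutment data whose filtrations are finite on H^n(aR, M), the cohomology of M with
respect to the sheaf of sets associated to R (n ≥ 0; zero for n < 0). The E_2 identifications and
abutment isomorphisms are asserted to exist only, not pinned to the canonical maps, so edge maps and
functoriality in R and M are not part of this statement. -/
theorem result {C : Type u} [SmallCategory C]
    (J : GrothendieckTopology C) (R : Cᵒᵖ ⥤ Type u) (M : Sheaf J AddCommGrpCat.{u}) :
    ∃ (E : E₂CohomologicalSpectralSequence AddCommGrpCat.{u})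
      (a : SpSeq.Abutment E (fun n : ℤ =>
        if 0 ≤ n then AddCommGrpCat.of (CohCx.HK ((presheafToSheaf J (Type u)).obj R) M n.toNat)
        else AddCommGrpCat.of PUnit.{u + 1})),
      (∀ n, a.IsFinite n) ∧ SpSeq.IsBounded E ∧
      ∀ p q : ℤ, Nonempty ((E.page 2 le_rfl).X (p, q) ≅
        (if 0 ≤ p ∧ 0 ≤ q then
          AddCommGrpCat.of (CohCx.HK (J := (⊥ : GrothendieckTopology C)) ⟨R, Presheaf.isSheaf_bot _⟩
            ⟨M.cohomologyPresheaf q.toNat, Presheaf.isSheaf_bot _⟩ p.toNat)
         else AddCommGrpCat.of PUnit.{u + 1})) := by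
  let T := Groth.Agent.PshExt.Ψ J
  let S := Groth.Agent.GSS.homFree (C := C) R
  let P : Sheaf J AddCommGrpCat.{u} :=
    (presheafToSheaf J AddCommGrpCat.{u}).obj (R ⋙ AddCommGrpCat.free.{u})
  let P' : Sheaf J AddCommGrpCat.{u} :=
    (presheafToSheaf J AddCommGrpCat.{u}).obj
      (((presheafToSheaf J (Type u)).obj R).obj ⋙ AddCommGrpCat.free.{u})
  haveI : IsIso ((presheafToSheaf J AddCommGrpCat.{u}).map
      (Functor.whiskerRight (toSheafify J R) AddCommGrpCat.free.{u})) :=
    (J.W_iff _).mp (Groth.Agent.CohCxBasics.W_whiskerRight_free J _ (J.W_toSheafify _))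
  let i : P ≅ P' := asIso ((presheafToSheaf J AddCommGrpCat.{u}).map
      (Functor.whiskerRight (toSheafify J R) AddCommGrpCat.free.{u}))
  let e : ∀ F : Sheaf J AddCommGrpCat.{u}, (P ⟶ F) ≃+ (T ⋙ S).obj F := fun F =>
    ((sheafificationAdjunction J AddCommGrpCat.{u}).homAddEquiv (R ⋙ AddCommGrpCat.free.{u}) F).trans
      ((sheafificationAdjunction (⊥ : GrothendieckTopology C) AddCommGrpCat.{u}).homAddEquiv
        (R ⋙ AddCommGrpCat.free.{u}) (T.obj F)).symm
  have he : ∀ {F G : Sheaf J AddCommGrpCat.{u}} (a : P ⟶ F) (φ : F ⟶ G),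
      e G (a ≫ φ) = (T ⋙ S).map φ (e F a) := by
    intro F G a φ
    show ((sheafificationAdjunction (⊥ : GrothendieckTopology C) AddCommGrpCat.{u}).homEquiv
        (R ⋙ AddCommGrpCat.free.{u}) (T.obj G)).symm
        ((sheafificationAdjunction J AddCommGrpCat.{u}).homEquiv _ _ (a ≫ φ)) =
      ((sheafificationAdjunction (⊥ : GrothendieckTopology C) AddCommGrpCat.{u}).homEquiv
        (R ⋙ AddCommGrpCat.free.{u}) (T.obj F)).symm
        ((sheafificationAdjunction J AddCommGrpCat.{u}).homEquiv _ _ a) ≫ T.map φ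
    rw [Adjunction.homEquiv_naturality_right]
    have := Adjunction.homEquiv_naturality_right_symm
      (sheafificationAdjunction (⊥ : GrothendieckTopology C) AddCommGrpCat.{u})
      (X := R ⋙ AddCommGrpCat.free.{u}) (Y := T.obj F) (Y' := T.obj G)
      ((sheafificationAdjunction J AddCommGrpCat.{u}).homEquiv _ _ a) (T.map φ)
    refine Eq.trans ?_ this
    congr 1
  have hTSder : ∀ (n : ℕ), Nonempty (((T ⋙ S).rightDerived n).obj M ≅
      AddCommGrpCat.of (CohCx.HK ((presheafToSheaf J (Type u)).obj R) M n)) := fun n => by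
    obtain ⟨e1⟩ := Groth.Agent.GSS.nonempty_rightDerived_iso_ext (T ⋙ S) P e he n M
    exact ⟨e1 ≪≫ (((Abelian.extFunctor n).mapIso i.op).app M).symm⟩
  have hT : ∀ Q : Sheaf J AddCommGrpCat.{u}, Injective Q → ∀ q : ℕ, 0 < q →
      IsZero ((S.rightDerived q).obj (T.obj Q)) := fun Q hQ q hq =>
    Groth.Agent.GSS.isZero_homFree_Ψ_injective J R Q q hq
  have hP : IsZero (AddCommGrpCat.of PUnit.{u + 1}) := AddCommGrpCat.isZero_of_subsingleton _
  refine Groth.Agent.GSS.grothendieck T S hT M _ (fun n => ?_) (fun n hn => ?_) _ (fun p q => ?_) (fun p q h => ?_)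
  · simp only [Int.natCast_nonneg, if_true, Int.toNat_natCast]
    obtain ⟨e⟩ := hTSder n
    exact ⟨e.symm⟩
  · rw [if_neg (by omega)]
    exact hP
  · simp only [Int.natCast_nonneg, and_self, if_true, Int.toNat_natCast]
    obtain ⟨e1⟩ := Groth.Agent.GSS.nonempty_Ψ_rightDerived_iso J M q
    obtain ⟨e2⟩ := Groth.Agent.GSS.nonempty_homFree_rightDerived_iso (C := C) R
      ⟨M.cohomologyPresheaf q, Presheaf.isSheaf_bot _⟩ p
    exact ⟨e2.symm ≪≫ ((S.rightDerived p).mapIso e1).symm⟩
  · rw [if_neg (by omega)]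
    exact hP

end Groth.Agent.S12105
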