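import Groth.Statements.S12107
import Mathlib
import Groth.Agent.Lib.helper1.SheafOpen

set_option autoImplicit false
universe u
open CategoryTheory
open SGA4

open Groth.Agent.H1.ShOpen CategoryTheory CategoryTheory.Limits in
theorem H1_12107 {C : Type u} [SmallCategory C] (J : GrothendieckTopology C)
    (U : Sheaf J (Type u)) (hU : Mono (terminal.from U)) {X X' : Sheaf J (Type u)} (m : X ⟶ X')
    (k : pushout (prod.fst : U ⨯ X ⟶ U) (prod.snd : U ⨯ X ⟶ X) ⟶
      pushout (prod.fst : U ⨯ X' ⟶ U) (prod.snd : U ⨯ X' ⟶ X'))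
    (hk₁ : pushout.inl (prod.fst : U ⨯ X ⟶ U) (prod.snd : U ⨯ X ⟶ X) ≫ k =
      pushout.inl (prod.fst : U ⨯ X' ⟶ U) (prod.snd : U ⨯ X' ⟶ X'))
    (hk₂ : pushout.inr (prod.fst : U ⨯ X ⟶ U) (prod.snd : U ⨯ X ⟶ X) ≫ k =
      m ≫ pushout.inr (prod.fst : U ⨯ X' ⟶ U) (prod.snd : U ⨯ X' ⟶ X')) :
    IsPullback m (pushout.inr (prod.fst : U ⨯ X ⟶ U) (prod.snd : U ⨯ X ⟶ X))
        (pushout.inr (prod.fst : U ⨯ X' ⟶ U) (prod.snd : U ⨯ X' ⟶ X')) k ↔
      IsIso (prod.map (𝟙 U) m) := by
  haveI hmono : Mono (prod.snd : U ⨯ X' ⟶ X') := by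
    constructor
    intro T a b hab
    apply Limits.prod.hom_ext
    · exact subterminal_ext hU _ _
    · exact hab
  constructor
  · intro hpb
    let l : U ⨯ X' ⟶ X := hpb.lift (prod.snd : U ⨯ X' ⟶ X')
      ((prod.fst : U ⨯ X' ⟶ U) ≫ pushout.inl (prod.fst : U ⨯ X ⟶ U) (prod.snd : U ⨯ X ⟶ X))
      (by rw [Category.assoc, hk₁, pushout.condition])
    have hl1 : l ≫ m = prod.snd := hpb.lift_fst _ _ _
    have hl2 : l ≫ pushout.inr _ _ = prod.fst ≫ pushout.inl _ _ := hpb.lift_snd _ _ _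
    refine ⟨prod.lift prod.fst l, ?_, ?_⟩
    · apply Limits.prod.hom_ext
      · rw [Category.assoc, prod.lift_fst, prod.map_fst, Category.comp_id, Category.id_comp]
      · rw [Category.assoc, prod.lift_snd, Category.id_comp]
        apply hpb.hom_ext
        · rw [Category.assoc, hl1, prod.map_snd]
        · rw [Category.assoc, hl2, ← Category.assoc, prod.map_fst, Category.comp_id,
            pushout.condition]
    · apply Limits.prod.hom_ext
      · rw [Category.assoc, prod.map_fst, Category.comp_id, prod.lift_fst, Category.id_comp]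
      · rw [Category.assoc, prod.map_snd, ← Category.assoc, prod.lift_snd, hl1, Category.id_comp]
  · intro hiso
    have hpo : IsPushout (prod.snd : U ⨯ X' ⟶ X') (prod.fst : U ⨯ X' ⟶ U)
        (pushout.inr _ _) (pushout.inl _ _) := (IsPushout.of_hasPushout _ _).flip
    have hvk := Adhesive.van_kampen hpo
    have hb1 : IsPullback (prod.snd : U ⨯ X ⟶ X) (prod.map (𝟙 U) m) m
        (prod.snd : U ⨯ X' ⟶ X') := by
      refine ⟨⟨by rw [prod.map_snd]⟩,
        ⟨PullbackCone.IsLimit.mk _ (fun s => prod.lift (s.snd ≫ prod.fst) s.fst) ?_ ?_ ?_⟩⟩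
      · intro s; rw [prod.lift_snd]
      · intro s
        apply Limits.prod.hom_ext
        · rw [Category.assoc, prod.map_fst, Category.comp_id, prod.lift_fst]
        · rw [Category.assoc, prod.map_snd, ← Category.assoc, prod.lift_snd, s.condition]
      · intro s t h1 h2
        apply Limits.prod.hom_ext
        · rw [prod.lift_fst, ← h2, Category.assoc, prod.map_fst, Category.comp_id]
        · rw [prod.lift_snd, ← h1]
    have hb2 : IsPullback (prod.fst : U ⨯ X ⟶ U) (prod.map (𝟙 U) m) (𝟙 U)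
        (prod.fst : U ⨯ X' ⟶ U) :=
      IsPullback.of_vert_isIso ⟨by rw [prod.map_fst, Category.comp_id]⟩
    have h := (hvk (prod.snd : U ⨯ X ⟶ X) (prod.fst : U ⨯ X ⟶ U) (pushout.inr _ _)
      (pushout.inl _ _) (prod.map (𝟙 U) m) m (𝟙 U) k hb1 hb2 ⟨hk₂⟩
      ⟨by rw [hk₁, Category.id_comp]⟩ ⟨pushout.condition.symm⟩).1
      (IsPushout.of_hasPushout _ _).flip
    exact h.1.flip

namespace Groth.Agent.S12107

open CategoryTheory.Limits in
/-- In the topos of sheaves of sets on a small site, let U be an open (a subobject of the final object)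
and, for an object X, let X_CU be the pushout of U ← U × X → X along the two projections. For a
morphism m : X ⟶ X' let k : X_CU ⟶ X'_CU be the induced morphism (compatible with the maps from U
and with m). Then the square with sides m, k and the canonical maps X ⟶ X_CU, X' ⟶ X'_CU is
cartesian if and only if id_U × m : U × X ⟶ U × X' is an isomorphism (that is, m restricts to an
isomorphism over U). -/
theorem result {C : Type u} [SmallCategory C] (J : GrothendieckTopology C)
    (U : Sheaf J (Type u)) (hU : SGA4.IsOpen U) {X X' : Sheaf J (Type u)} (m : X ⟶ X')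
    (k : pushout (prod.fst : U ⨯ X ⟶ U) (prod.snd : U ⨯ X ⟶ X) ⟶
      pushout (prod.fst : U ⨯ X' ⟶ U) (prod.snd : U ⨯ X' ⟶ X'))
    (hk₁ : pushout.inl (prod.fst : U ⨯ X ⟶ U) (prod.snd : U ⨯ X ⟶ X) ≫ k =
      pushout.inl (prod.fst : U ⨯ X' ⟶ U) (prod.snd : U ⨯ X' ⟶ X'))
    (hk₂ : pushout.inr (prod.fst : U ⨯ X ⟶ U) (prod.snd : U ⨯ X ⟶ X) ≫ k =
      m ≫ pushout.inr (prod.fst : U ⨯ X' ⟶ U) (prod.snd : U ⨯ X' ⟶ X')) :
    IsPullback m (pushout.inr (prod.fst : U ⨯ X ⟶ U) (prod.snd : U ⨯ X ⟶ X))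
        (pushout.inr (prod.fst : U ⨯ X' ⟶ U) (prod.snd : U ⨯ X' ⟶ X')) k ↔
      IsIso (prod.map (𝟙 U) m) := by
  exact H1_12107 J U hU m k hk₁ hk₂

end Groth.Agent.S12107
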