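import Groth.Statements.S12118

set_option autoImplicit false
universe u v
open EGA41

namespace Groth.Agent.S12118

/-- Let A be a commutative ring, M an A-module, (M_k)_{k ≥ 0} a decreasing filtration of M by submodules
with M_0 = M and ⋂_k M_k = 0, and f an element of A which is a non-zero-divisor on every graded
piece M_k/M_{k+1} (equivalently on the associated graded module). Then (i) f is a non-zero-divisor
on M, and (ii) M_k ∩ fM = fM_k for every k ≥ 0. -/
theorem result {A : Type u} [CommRing A] {M : Type v} [AddCommGroup M] [Module A M]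
    (F : ℕ → Submodule A M) (hanti : Antitone F) (h0 : F 0 = ⊤) (hsep : ⨅ k, F k = ⊥) (f : A)
    (hreg : ∀ k : ℕ, IsSMulRegular (↥(F k) ⧸ Submodule.comap (F k).subtype (F (k + 1))) f) :
    IsSMulRegular M f ∧ ∀ k : ℕ, F k ⊓ (Ideal.span {f} • (⊤ : Submodule A M)) = Ideal.span {f} • F k := by
  have key : ∀ k : ℕ, ∀ m ∈ F k, f • m ∈ F (k + 1) → m ∈ F (k + 1) := by
    intro k m hm hfm
    have h1 : f • (Submodule.Quotient.mk (p := Submodule.comap (F k).subtype (F (k + 1))) ⟨m, hm⟩) =
        f • (0 : ↥(F k) ⧸ Submodule.comap (F k).subtype (F (k + 1))) := by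
      rw [smul_zero, ← Submodule.Quotient.mk_smul, Submodule.Quotient.mk_eq_zero]
      exact hfm
    have h2 := hreg k h1
    rw [Submodule.Quotient.mk_eq_zero] at h2
    exact h2
  have hreg' : IsSMulRegular M f := by
    intro m₁ m₂ h
    have h' : f • (m₁ - m₂) = 0 := by
      have h'' : f • m₁ = f • m₂ := h
      rw [smul_sub, h'', sub_self]
    have hall : ∀ k, m₁ - m₂ ∈ F k := by
      intro k
      induction k with
      | zero => rw [h0]; trivial
      | succ k ih =>
        apply key k _ ih
        rw [h']; exact Submodule.zero_mem _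
    have : m₁ - m₂ ∈ ⨅ k, F k := by
      rw [Submodule.mem_iInf]; exact hall
    rw [hsep, Submodule.mem_bot] at this
    exact sub_eq_zero.mp this
  refine ⟨hreg', fun k => ?_⟩
  rw [Submodule.ideal_span_singleton_smul, Submodule.ideal_span_singleton_smul]
  apply le_antisymm
  · rintro x ⟨hxk, hxf⟩
    rw [SetLike.mem_coe, Submodule.mem_smul_pointwise_iff_exists] at hxf
    obtain ⟨m, -, rfl⟩ := hxf
    rw [Submodule.mem_smul_pointwise_iff_exists]
    refine ⟨m, ?_, rfl⟩
    have hj : ∀ j, j ≤ k → m ∈ F j := by
      intro j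
      induction j with
      | zero => intro _; rw [h0]; trivial
      | succ j ih =>
        intro hjk
        apply key j m (ih (Nat.le_of_succ_le hjk))
        exact hanti hjk hxk
    exact hj k le_rfl
  · intro x hx
    rw [Submodule.mem_smul_pointwise_iff_exists] at hx
    obtain ⟨m, hm, rfl⟩ := hx
    refine ⟨Submodule.smul_mem _ _ hm, ?_⟩
    rw [SetLike.mem_coe, Submodule.mem_smul_pointwise_iff_exists]
    exact ⟨m, trivial, rfl⟩

end Groth.Agent.S12118
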