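import Groth.Statements.S3402
import Mathlib
import Groth.Agent.Lib.helper4.Spectral

set_option autoImplicit false
open CategoryTheory AlgebraicGeometry
universe u
open EGA41

namespace Groth.Agent.S3402

/-- A subset E of a scheme X is locally constructible if and only if it is both ind-constructible and
pro-constructible. -/
theorem result (X : Scheme.{u}) (E : Set X) :
    Topology.IsLocallyConstructible E ↔ ProCons.IsIndConstructible E ∧ ProCons.IsProConstructible E := by
  constructor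
  · intro hE
    have key : Topology.IsLocallyConstructible
        (Subtype.val ⁻¹' E : Set ↥(Set.univ : Set X)) :=
      hE.preimage_of_isOpenEmbedding isOpen_univ.isOpenEmbedding_subtypeVal
    refine ⟨fun x => ⟨Set.univ, isOpen_univ, trivial, {Subtype.val ⁻¹' E}, ?_, by simp⟩,
      fun x => ⟨Set.univ, isOpen_univ, trivial, {Subtype.val ⁻¹' E}, ?_, by simp⟩⟩
    all_goals
      intro T hT
      rw [Set.mem_singleton_iff] at hT
      subst hT
      exact key
  · rintro ⟨hind, hpro⟩ x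
    obtain ⟨U₁, hU₁, hx₁, S₁, hS₁, hE₁⟩ := hind x
    obtain ⟨U₂, hU₂, hx₂, S₂, hS₂, hE₂⟩ := hpro x
    obtain ⟨W, hW, hxW, hWU⟩ := TopologicalSpace.Opens.isBasis_iff_nbhd.1 X.isBasis_affineOpens
      (U := ⟨U₁ ∩ U₂, hU₁.inter hU₂⟩) (x := x) ⟨hx₁, hx₂⟩
    refine ⟨W, W.isOpen.mem_nhds hxW, W.isOpen, ?_⟩
    haveI : CompactSpace ↥W := isCompact_iff_compactSpace.1 hW.isCompact
    have e : ↥W ≃ₜ PrimeSpectrum Γ(X, W) := Scheme.homeoOfIso hW.isoSpec
    haveI : SpectralSpace ↥W := e.isOpenEmbedding.spectralSpace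
    have hW₁ : (W : Set X) ⊆ U₁ := fun w hw => (hWU hw).1
    have hW₂ : (W : Set X) ⊆ U₂ := fun w hw => (hWU hw).2
    have hι₁ : Topology.IsOpenEmbedding (Set.inclusion hW₁) :=
      Topology.IsOpenEmbedding.inclusion hW₁ (W.isOpen.preimage continuous_subtype_val)
    have hι₂ : Topology.IsOpenEmbedding (Set.inclusion hW₂) :=
      Topology.IsOpenEmbedding.inclusion hW₂ (W.isOpen.preimage continuous_subtype_val)
    have hc₁ : ∀ T ∈ S₁, @IsClopen ↥W (constructibleTopology ↥W) (Set.inclusion hW₁ ⁻¹' T) :=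
      fun T hT => H4.H4_isClopen_constr_of_isConstructible
        ((hS₁ T hT).preimage_of_isOpenEmbedding hι₁).isConstructible
    have hc₂ : ∀ T ∈ S₂, @IsClopen ↥W (constructibleTopology ↥W) (Set.inclusion hW₂ ⁻¹' T) :=
      fun T hT => H4.H4_isClopen_constr_of_isConstructible
        ((hS₂ T hT).preimage_of_isOpenEmbedding hι₂).isConstructible
    have h1 : (Subtype.val ⁻¹' E : Set ↥(W : Set X)) = ⋃ T ∈ S₁, Set.inclusion hW₁ ⁻¹' T := by
      have : (Subtype.val ⁻¹' E : Set ↥(W : Set X)) = Set.inclusion hW₁ ⁻¹' (Subtype.val ⁻¹' E) := rfl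
      rw [this, hE₁, Set.sUnion_eq_biUnion, Set.preimage_iUnion₂]
    have h2 : (Subtype.val ⁻¹' E : Set ↥(W : Set X)) = ⋂ T ∈ S₂, Set.inclusion hW₂ ⁻¹' T := by
      have : (Subtype.val ⁻¹' E : Set ↥(W : Set X)) = Set.inclusion hW₂ ⁻¹' (Subtype.val ⁻¹' E) := rfl
      rw [this, hE₂, Set.sInter_eq_biInter, Set.preimage_iInter₂]
    apply H4.H4_isConstructible_of_isClopen_constr
    refine ⟨?_, ?_⟩
    · rw [h2]
      exact @isClosed_biInter ↥W _ (constructibleTopology ↥W) _ _ fun T hT => (hc₂ T hT).1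
    · rw [h1]
      exact @isOpen_biUnion ↥W _ (constructibleTopology ↥W) _ _ fun T hT => (hc₁ T hT).2

end Groth.Agent.S3402
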