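import Groth.Statements.S12123
import Mathlib
import Groth.Agent.Lib.helper4.ProConsScheme

set_option autoImplicit false
universe u
open EGA41

namespace Groth.Agent.S12123

open AlgebraicGeometry Topology in
/-- Let X be a quasi-separated scheme and X^cons its underlying set with the constructible topology,
generated by the quasi-compact open subsets and their complements (for X quasi-separated this is the
topology whose open sets are the ind-constructible subsets). Then X^cons is a Hausdorff, locally
compact, totally disconnected space. (The published statement also asserts that X^cons is Hausdorff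
only if X is quasi-separated; for the topology used here that converse fails when X is not
quasi-separated, where the two constructible topologies differ, so it is not part of this row.) -/
theorem result (X : Scheme.{u}) [QuasiSeparatedSpace X] :
    T2Space (WithConstructibleTopology X) ∧ LocallyCompactSpace (WithConstructibleTopology X) ∧
      TotallyDisconnectedSpace (WithConstructibleTopology X) := by
  have hX : ∀ x : X, ∃ W : Set X, IsOpen W ∧ x ∈ W ∧ SpectralSpace ↥W := by
    intro x
    obtain ⟨W, hW, hxW, -⟩ := Groth.Agent.H4.H4_exists_affine_nhd X ⊤ x trivial
    exact ⟨W, W.isOpen, hxW, Groth.Agent.H4.H4_spectral_affineOpen X W hW⟩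
  haveI hT2 : T2Space (WithConstructibleTopology X) := _root_.H4.H4_t2Space_withConstr
  refine ⟨hT2, ?_, ?_⟩
  · haveI : WeaklyLocallyCompactSpace (WithConstructibleTopology X) := by
      refine ⟨fun x => ?_⟩
      obtain ⟨W, hW, hxW, hsp⟩ := hX x.ofTopology
      haveI := hsp
      have hWc : IsCompact W := isCompact_iff_compactSpace.2 inferInstance
      have h1 : @IsCompact X (constructibleTopology X) W := by
        have h2 : @IsCompact ↥W (constructibleTopology ↥W) Set.univ :=
          @isCompact_univ ↥W (constructibleTopology ↥W) _root_.H4.H4_compactSpace_constr
        have h3 := @IsCompact.image ↥W X (constructibleTopology ↥W) (constructibleTopology X)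
          Set.univ Subtype.val h2
          (_root_.H4.H4_continuous_constr_of_isSpectralMap
            (Groth.Agent.H4.H4_isSpectralMap_val hW hWc))
        rwa [Set.image_univ, Subtype.range_coe] at h3
      refine ⟨WithTopology.ofTopology ⁻¹' W, ?_, ?_⟩
      · rw [WithTopology.preimage_ofTopology]
        exact @IsCompact.image X (WithConstructibleTopology X) (constructibleTopology X) _ W
          (WithTopology.toTopology _) h1 (WithTopology.continuous_toTopology _)
      · have hWo' : IsOpen (WithTopology.ofTopology (t := constructibleTopology X) ⁻¹' W) :=
          (WithTopology.isOpen_iff _).2 (_root_.H4.H4_isOpen_constr_of_isOpen hW)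
        exact hWo'.mem_nhds hxW
    infer_instance
  · haveI : TotallySeparatedSpace (WithConstructibleTopology X) := by
      refine ⟨fun x _ y _ hxy => ?_⟩
      have hne : x.ofTopology ≠ y.ofTopology :=
        fun h => hxy (WithTopology.ofTopology_injective _ h)
      obtain ⟨U, hUo, hUc, h⟩ := _root_.H4.H4_exists_compact_open_sep hne
      have h1 : IsOpen (WithTopology.ofTopology (t := constructibleTopology X) ⁻¹' U) :=
        (WithTopology.isOpen_iff _).2 (hUc.isOpen_constructibleTopology_of_isOpen hUo)
      have h2 : IsOpen (WithTopology.ofTopology (t := constructibleTopology X) ⁻¹' Uᶜ) :=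
        (WithTopology.isOpen_iff _).2
          (_root_.H4.H4_isClosed_constr_of_isCompact_isOpen hUc hUo).isOpen_compl
      rcases h with ⟨hx, hy⟩ | ⟨hy, hx⟩
      · exact ⟨_, _, h1, h2, hx, hy, by rw [Set.preimage_compl, Set.union_compl_self],
          by rw [Set.preimage_compl]; exact disjoint_compl_right⟩
      · exact ⟨_, _, h2, h1, hx, hy, by rw [Set.preimage_compl, Set.compl_union_self],
          by rw [Set.preimage_compl]; exact disjoint_compl_left⟩
    infer_instance

end Groth.Agent.S12123
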