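import Groth.Statements.S1213

set_option autoImplicit false
universe u
open scoped Classical
open FlatMor

namespace Groth.Agent.S1213

open TensorProduct IsLocalRing in
/-- Let R be a local ring, S an R-algebra and N an S-module which, as an R-module, is an internal direct
sum of finite R-submodules. Then for every R-module M and every prime q of S which is the
annihilator of an element of the S-module N ⊗_R M we have q + 𝔪_R S ≠ S. -/
theorem result {R S : Type u} [CommRing R] [IsLocalRing R] [CommRing S] [Algebra R S]
    (N : Type u) [AddCommGroup N] [Module S N] [Module R N] [IsScalarTower R S N]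
    (ι : Type u) (F : ι → Submodule R N) (hF : DirectSum.IsInternal F) (hfin : ∀ i, Module.Finite R (F i))
    (M : Type u) [AddCommGroup M] [Module R M]
    (q : Ideal S) [q.IsPrime] (hq : q ∈ FlatCA.ass S (N ⊗[R] M)) :
    q ⊔ (maximalIdeal R).map (algebraMap R S) ≠ ⊤ := by
  intro htop
  obtain ⟨hqp, z, hz⟩ := hq
  have h1 : (1 : S) ∈ q ⊔ (maximalIdeal R).map (algebraMap R S) := by rw [htop]; trivial
  obtain ⟨a, ha, b, hb, hab⟩ := Submodule.mem_sup.1 h1
  have haz : a • z = 0 := by
    have : a ∈ (Submodule.span S {z}).annihilator := hz ▸ ha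
    exact (Submodule.mem_annihilator_span_singleton _ _).1 this
  have hab' : a = 1 - b := by rw [← hab]; ring
  -- b • n ∈ m N
  have hbN : ∀ n : N, b • n ∈ (maximalIdeal R) • (⊤ : Submodule R N) := by
    have hb' : b ∈ Ideal.span ((algebraMap R S) '' ((maximalIdeal R : Ideal R) : Set R)) := hb
    refine Submodule.span_induction (p := fun b _ => ∀ n : N, b • n ∈
      (maximalIdeal R) • (⊤ : Submodule R N)) ?_ ?_ ?_ ?_ hb'
    · rintro _ ⟨r, hr, rfl⟩ n
      rw [algebraMap_smul]
      exact Submodule.smul_mem_smul hr trivial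
    · intro n
      rw [zero_smul]
      exact Submodule.zero_mem _
    · intro b₁ b₂ _ _ h₁ h₂ n
      rw [add_smul]
      exact Submodule.add_mem _ (h₁ n) (h₂ n)
    · intro s b₁ _ h₁ n
      rw [smul_eq_mul, mul_comm, mul_smul]
      exact h₁ _
  -- finite sub-sums
  have hsup : ⨆ i, F i = ⊤ := hF.submodule_iSup_eq_top
  have hind : iSupIndep F := hF.submodule_iSupIndep
  let P : Finset ι → Submodule R N := fun s => ⨆ i ∈ s, F i
  have hPmono : ∀ {s s' : Finset ι}, s ⊆ s' → P s ≤ P s' := by
    intro s s' h
    exact biSup_mono (fun i hi => h hi)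
  have hrange : ∀ {s s' : Finset ι}, s ⊆ s' →
      LinearMap.range (LinearMap.rTensor M (P s).subtype) ≤
        LinearMap.range (LinearMap.rTensor M (P s').subtype) := by
    intro s s' h
    have e : (P s).subtype = (P s').subtype ∘ₗ Submodule.inclusion (hPmono h) :=
      (Submodule.subtype_comp_inclusion _ _ (hPmono h)).symm
    rw [e, LinearMap.rTensor_comp]
    exact LinearMap.range_comp_le_range _ _
  have hz' : ∀ w : N ⊗[R] M, ∃ s : Finset ι, w ∈ LinearMap.range (LinearMap.rTensor M (P s).subtype) := by
    intro w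
    induction w using TensorProduct.induction_on with
    | zero => exact ⟨∅, Submodule.zero_mem _⟩
    | tmul n m =>
      have hn : n ∈ ⨆ i, F i := by rw [hsup]; trivial
      obtain ⟨s, hs⟩ := Submodule.exists_finset_of_mem_iSup F hn
      exact ⟨s, ⟨(⟨n, hs⟩ : P s) ⊗ₜ[R] m, by simp⟩⟩
    | add x y hx hy =>
      obtain ⟨s, hs⟩ := hx
      obtain ⟨s', hs'⟩ := hy
      exact ⟨s ∪ s', Submodule.add_mem _ (hrange Finset.subset_union_left hs)
        (hrange Finset.subset_union_right hs')⟩
  obtain ⟨s, z', hz'⟩ := hz' z
  let N' : Submodule R N := P s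
  let N'' : Submodule R N := ⨆ i ∈ ((s : Set ι)ᶜ), F i
  have hcompl : IsCompl N' N'' := by
    constructor
    · have : Disjoint (⨆ i ∈ (s : Set ι), F i) (⨆ i ∈ ((s : Set ι)ᶜ), F i) :=
        hind.disjoint_biSup_biSup disjoint_compl_right
      exact this
    · rw [codisjoint_iff, eq_top_iff, ← hsup]
      apply iSup_le
      intro i
      by_cases hi : i ∈ s
      · exact le_trans (le_biSup F hi) le_sup_left
      · have hi' : i ∈ ((s : Set ι)ᶜ) := hi
        exact le_trans (le_biSup F hi') le_sup_right
  haveI : Module.Finite R N' := by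
    have : N' = ⨆ i ∈ s, F i := rfl
    rw [Module.Finite.iff_fg, this]
    apply Submodule.fg_biSup
    intro i _
    exact Module.Finite.iff_fg.1 (hfin i)
  let pr : N →ₗ[R] N' := N'.projectionOnto N'' hcompl
  let ma : N →ₗ[R] N := DistribSMul.toLinearMap R N a
  let ψ : N' →ₗ[R] N' := pr ∘ₗ ma ∘ₗ N'.subtype
  have hψsurj : Function.Surjective ψ := by
    rw [← LinearMap.range_eq_top, eq_top_iff]
    apply Submodule.le_of_le_smul_of_le_jacobson_bot (I := maximalIdeal R)
      (Module.finite_def.1 inferInstance)
      (IsLocalRing.maximalIdeal_le_jacobson _)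
    intro n' _
    have e1 : n' = ψ n' + pr (b • (n' : N)) := by
      have : ψ n' = pr (a • (n' : N)) := rfl
      rw [this, ← map_add, hab', ← add_smul, sub_add_cancel, one_smul]
      exact (Submodule.projectionOnto_apply_left hcompl n').symm
    rw [e1]
    refine Submodule.add_mem_sup ⟨n', rfl⟩ ?_
    have h2 : ∀ x ∈ (maximalIdeal R) • (⊤ : Submodule R N), pr x ∈ (maximalIdeal R) • (⊤ : Submodule R N') := by
      intro x hx
      refine Submodule.smul_induction_on hx ?_ ?_
      · intro r hr n _
        rw [map_smul]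
        exact Submodule.smul_mem_smul hr trivial
      · intro x y hx hy
        rw [map_add]
        exact Submodule.add_mem _ hx hy
    exact h2 _ (hbN _)
  have hψinj : Function.Injective ψ := OrzechProperty.injective_of_surjective_endomorphism ψ hψsurj
  let e : N' ≃ₗ[R] N' := LinearEquiv.ofBijective ψ ⟨hψinj, hψsurj⟩
  have he : ∀ w : N' ⊗[R] M, (LinearEquiv.rTensor M e) w =
      (LinearMap.rTensor M pr) (a • (LinearMap.rTensor M N'.subtype) w) := by
    intro w
    induction w using TensorProduct.induction_on with
    | zero => simp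
    | tmul n m =>
      rw [LinearEquiv.rTensor_tmul, LinearMap.rTensor_tmul, TensorProduct.smul_tmul',
        LinearMap.rTensor_tmul]
      rfl
    | add x y hx hy => rw [map_add, hx, hy, map_add, smul_add, map_add]
  have hz0 : z' = 0 := by
    apply (LinearEquiv.rTensor M e).injective
    rw [he, hz', haz, map_zero, map_zero]
  apply hqp.ne_top
  rw [hz, ← hz', hz0, map_zero]
  simp [Submodule.annihilator_bot]

end Groth.Agent.S1213
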