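import Groth.Statements.S1214

set_option autoImplicit false
universe u
open FlatMor

namespace Groth.Agent.S1214

open TensorProduct in
/-- Let R → S be a ring map, I an ideal of R and N an S-module which is I-adically complete. Then for
every R-module M and every prime q of S which is the annihilator of an element of the S-module N ⊗_R
M we have q + IS ≠ S. -/
theorem result {R S : Type u} [CommRing R] [CommRing S] [Algebra R S] (I : Ideal R)
    (N : Type u) [AddCommGroup N] [Module S N] [Module R N] [IsScalarTower R S N] [IsAdicComplete I N]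
    (M : Type u) [AddCommGroup M] [Module R M]
    (q : Ideal S) [q.IsPrime] (hq : q ∈ FlatCA.ass S (N ⊗[R] M)) :
    q ⊔ I.map (algebraMap R S) ≠ ⊤ := by
  classical
  intro htop
  obtain ⟨hqp, z, hz⟩ := hq
  have h1 : (1 : S) ∈ q ⊔ I.map (algebraMap R S) := by rw [htop]; trivial
  obtain ⟨a, ha, b, hb, hab⟩ := Submodule.mem_sup.1 h1
  have haz : a • z = 0 := by
    have : a ∈ (Submodule.span S {z}).annihilator := hz ▸ ha
    exact (Submodule.mem_annihilator_span_singleton _ _).1 this
  have hab' : a = 1 - b := by rw [← hab]; ring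
  -- S-stability of I^k N
  have hstab : ∀ (k : ℕ) (s : S) (x : N), x ∈ (I ^ k • (⊤ : Submodule R N)) →
      s • x ∈ (I ^ k • (⊤ : Submodule R N)) := by
    intro k s x hx
    refine Submodule.smul_induction_on hx ?_ ?_
    · intro r hr n _
      rw [smul_comm]
      exact Submodule.smul_mem_smul hr trivial
    · intro x y hx hy
      rw [smul_add]
      exact Submodule.add_mem _ hx hy
  have hA : ∀ (k : ℕ) (x : N), x ∈ (I ^ k • (⊤ : Submodule R N)) →
      b • x ∈ (I ^ (k + 1) • (⊤ : Submodule R N)) := by
    intro k
    have hb' : b ∈ Ideal.span ((algebraMap R S) '' (I : Set R)) := hb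
    refine Submodule.span_induction (p := fun b _ => ∀ x : N, x ∈ (I ^ k • (⊤ : Submodule R N)) →
      b • x ∈ (I ^ (k + 1) • (⊤ : Submodule R N))) ?_ ?_ ?_ ?_ hb'
    · rintro _ ⟨r, hr, rfl⟩ x hx
      rw [algebraMap_smul, pow_succ', Submodule.mul_smul]
      exact Submodule.smul_mem_smul hr hx
    · intro x _
      rw [zero_smul]
      exact Submodule.zero_mem _
    · intro b₁ b₂ _ _ h₁ h₂ x hx
      rw [add_smul]
      exact Submodule.add_mem _ (h₁ x hx) (h₂ x hx)
    · intro s b₁ _ h₁ x hx
      rw [smul_eq_mul, mul_smul]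
      exact hstab _ s _ (h₁ x hx)
  have hpow : ∀ (k : ℕ) (n : N), b ^ k • n ∈ (I ^ k • (⊤ : Submodule R N)) := by
    intro k
    induction k with
    | zero => intro n; simp
    | succ k ih =>
      intro n
      have e0 : b ^ (k + 1) • n = b • b ^ k • n := by rw [pow_succ', mul_smul]
      rw [e0]
      exact hA k _ (ih n)
  have hmono : ∀ {m k : ℕ}, m ≤ k → (I ^ k • (⊤ : Submodule R N)) ≤ (I ^ m • (⊤ : Submodule R N)) :=
    fun h => Submodule.smul_mono_left (Ideal.pow_le_pow_right h)
  have hinj : ∀ n : N, a • n = 0 → n = 0 := by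
    intro n hn
    have e1 : n = b • n := by
      rw [hab', sub_smul, one_smul, sub_eq_zero] at hn
      exact hn
    have e2 : ∀ k : ℕ, n = b ^ k • n := by
      intro k
      induction k with
      | zero => simp
      | succ k ih => rw [pow_succ', mul_smul, ← ih, ← e1]
    apply IsHausdorff.haus' (I := I)
    intro k
    rw [SModEq.zero]
    rw [e2 k]
    exact hpow k n
  have hsurj : ∀ n : N, ∃ L : N, a • L = n := by
    intro n
    let s : ℕ → N := fun k => (∑ j ∈ Finset.range k, b ^ j) • n
    have hs : ∀ {m k : ℕ}, m ≤ k → s m ≡ s k [SMOD (I ^ m • ⊤ : Submodule R N)] := by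
      intro m k hmk
      rw [SModEq.sub_mem]
      have : s m - s k = -((∑ j ∈ Finset.Ico m k, b ^ j) • n) := by
        simp only [s]
        rw [← sub_smul, ← neg_smul]
        congr 1
        rw [Finset.sum_Ico_eq_sub _ hmk]
        ring
      rw [this]
      apply Submodule.neg_mem
      rw [Finset.sum_smul]
      apply Submodule.sum_mem
      intro j hj
      exact hmono (Finset.mem_Ico.1 hj).1 (hpow j n)
    obtain ⟨L, hL⟩ := IsPrecomplete.prec' (I := I) s hs
    refine ⟨L, ?_⟩
    rw [← sub_eq_zero]
    apply IsHausdorff.haus' (I := I)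
    intro k
    rw [SModEq.zero]
    have h2 : s k - L ∈ (I ^ k • ⊤ : Submodule R N) := (SModEq.sub_mem).1 (hL k)
    have h3 : a • s k = n - b ^ k • n := by
      simp only [s]
      rw [← mul_smul, hab', mul_neg_geom_sum, sub_smul, one_smul]
    have h4 : a • L - n = -(a • (s k - L)) - b ^ k • n := by
      rw [smul_sub, h3]
      abel
    rw [h4]
    exact Submodule.sub_mem _ (Submodule.neg_mem _ (hstab k a _ h2)) (hpow k n)
  let f : N →ₗ[R] N := DistribSMul.toLinearMap R N a
  have hf : Function.Bijective f := by
    constructor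
    · rw [← LinearMap.ker_eq_bot, LinearMap.ker_eq_bot']
      intro n hn
      exact hinj n hn
    · intro n
      exact hsurj n
  let e : N ≃ₗ[R] N := LinearEquiv.ofBijective f hf
  have he : ∀ w : N ⊗[R] M, (LinearEquiv.rTensor M e) w = a • w := by
    intro w
    induction w using TensorProduct.induction_on with
    | zero => simp
    | tmul n m =>
      rw [LinearEquiv.rTensor_tmul, TensorProduct.smul_tmul']
      rfl
    | add x y hx hy => rw [map_add, hx, hy, smul_add]
  have hz0 : z = 0 := by
    apply (LinearEquiv.rTensor M e).injective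
    rw [he, haz, map_zero]
  apply hqp.ne_top
  rw [hz, hz0]
  simp [Submodule.annihilator_bot]

end Groth.Agent.S1214
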