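import Groth.Statements.S12163
import Mathlib

set_option autoImplicit false
universe u
open CategoryTheory CategoryTheory.Limits AlgebraicGeometry TopologicalSpace Opposite
open scoped HomogeneousIdeal
noncomputable section
open EGA2

namespace Groth.Agent.S12163

/-- Let φ : 𝒜 → ℬ be a graded homomorphism of quasi-coherent positively graded O_Y-algebras and PB =
Proj(ℬ) with its charts. If every point of Y has an affine neighbourhood U over which the irrelevant
ideal of ℬ(U) is contained in the ideal generated by φ(𝒜(U)_+), then the open of definition G(φ) of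
Proj(φ) is all of PB. (The published condition asks 𝒮_+ to be generated by the image as a module
over the functions on U; generation as an ideal, used here, is implied by it.) -/
theorem result {Y PB : Scheme.{u}} (𝒜 ℬ : RelProj.QCGrAlg Y)
    (φ : 𝒜.toQCAlg ⟶ ℬ.toQCAlg) (hφ : RelProj.IsGradedHom φ)
    (pB : PB ⟶ Y) (chartB : ∀ (U : Y.Opens) (hU : IsAffineOpen U), (((pB ⁻¹ᵁ U : PB.Opens) : Scheme.{u}) ≅ Proj (ℬ.deg U hU)))
    (hB : RelProj.IsRelProj ℬ pB chartB)
    (hcov : ∀ y : Y, ∃ (U : Y.Opens) (hU : IsAffineOpen U), y ∈ U ∧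
      (ℬ.deg U hU)₊ ≤ ((𝒜.deg U hU)₊).map (RelProj.gradedHomAt φ hφ U hU)) :
    RelProj.domQ (RelProj.QGrHom.ofHom φ hφ) pB chartB = ⊤ := by
  classical
  refine eq_top_iff.mpr (fun x _ => ?_)
  obtain ⟨U, hU, hyU, hirr⟩ := hcov (pB.base x)
  have hle : U ≤ (𝟙 Y) ⁻¹ᵁ U := fun z hz => hz
  unfold RelProj.domQ
  refine TopologicalSpace.Opens.mem_iSup.mpr ⟨⟨(⟨U, hU⟩, ⟨U, hU⟩), hle⟩, ?_⟩
  have hx' : ((chartB U hU).hom ≫ RelProj.emb pB chartB U hU).base ⟨x, hyU⟩ = x := by
    unfold RelProj.emb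
    rw [Iso.hom_inv_id_assoc]
    rfl
  refine ⟨(chartB U hU).hom.base ⟨x, hyU⟩, ?_, hx'⟩
  have e : ∀ b, (ℬ.presheaf.map (homOfLE hle).op).hom b = b := by
    intro b
    have h1 := congrArg (fun m => m.hom b) (ℬ.presheaf.map_id (op U))
    exact h1
  have hψ : ∀ f, ((RelProj.QGrHom.ofHom φ hφ).gradedAt U hU U hU hle) f =
      (φ.hom.app (op U)).hom f := by
    intro f
    exact e _
  refine (RelCone.mem_domOpen _ _).mpr ?_
  by_contra hcon
  push Not at hcon
  apply ((chartB U hU).hom.base ⟨x, hyU⟩).not_irrelevant_le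
  refine le_trans hirr ?_
  intro b hb
  have hb' : b ∈ Ideal.map (RelProj.gradedHomAt φ hφ U hU) ((𝒜.deg U hU)₊).toIdeal := hb
  have hle2 : Ideal.map (RelProj.gradedHomAt φ hφ U hU) ((𝒜.deg U hU)₊).toIdeal ≤
      ((chartB U hU).hom.base ⟨x, hyU⟩).asHomogeneousIdeal.toIdeal := by
    rw [Ideal.map_le_iff_le_comap]
    intro f hf
    rw [Ideal.mem_comap]
    have h2 := hcon f hf
    rw [hψ f] at h2
    exact h2
  exact hle2 hb'

end Groth.Agent.S12163
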