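import Groth.Statements.S12207
import Mathlib

set_option autoImplicit false
universe u
open CAlg

namespace Groth.Agent.S12207

/-- Let φ : N → M be a linear map between coherent R-modules (finitely generated, every finitely
generated submodule finitely presented). Then the kernel of φ and the cokernel M/φ(N) are coherent
R-modules. -/
theorem result (R : Type u) [CommRing R] {N M : Type u}
    [AddCommGroup N] [Module R N] [AddCommGroup M] [Module R M]
    (hN : Module.Finite R N ∧ ∀ P : Submodule R N, P.FG → Module.FinitePresentation R P)
    (hM : Module.Finite R M ∧ ∀ P : Submodule R M, P.FG → Module.FinitePresentation R P)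
    (φ : N →ₗ[R] M) :
    (Module.Finite R (LinearMap.ker φ) ∧
      ∀ P : Submodule R (LinearMap.ker φ), P.FG → Module.FinitePresentation R P) ∧
    (Module.Finite R (M ⧸ LinearMap.range φ) ∧
      ∀ P : Submodule R (M ⧸ LinearMap.range φ), P.FG → Module.FinitePresentation R P) := by
  obtain ⟨hNf, hNc⟩ := hN
  obtain ⟨hMf, hMc⟩ := hM
  have hrfg : (LinearMap.range φ).FG := by
    rw [LinearMap.range_eq_map]
    exact Module.Finite.fg_top.map φ
  haveI hrfp : Module.FinitePresentation R (LinearMap.range φ) := hMc _ hrfg
  haveI hrfin : Module.Finite R (LinearMap.range φ) := Module.Finite.iff_fg.mpr hrfg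
  refine ⟨⟨?_, ?_⟩, ⟨?_, ?_⟩⟩
  · have h3 : (LinearMap.ker φ.rangeRestrict).FG :=
      Module.FinitePresentation.fg_ker φ.rangeRestrict φ.surjective_rangeRestrict
    rw [LinearMap.ker_rangeRestrict] at h3
    exact Module.Finite.iff_fg.mpr h3
  · intro P hP
    have hP' : (P.map (LinearMap.ker φ).subtype).FG := hP.map _
    haveI := hNc _ hP'
    exact Module.FinitePresentation.of_equiv
      (Submodule.equivMapOfInjective (LinearMap.ker φ).subtype
        (Submodule.injective_subtype _) P).symm
  · infer_instance
  · intro P hP
    set Q : Submodule R M := P.comap (LinearMap.range φ).mkQ with hQ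
    have hle : LinearMap.range φ ≤ Q := by
      intro x hx
      change (LinearMap.range φ).mkQ x ∈ P
      rw [(Submodule.Quotient.mk_eq_zero _).mpr hx |> fun h => (by simpa using h : (LinearMap.range φ).mkQ x = 0)]
      exact P.zero_mem
    have hQfg : Q.FG := by
      apply Submodule.fg_of_fg_map_of_fg_inf_ker (LinearMap.range φ).mkQ
      · rw [hQ, Submodule.map_comap_eq_of_surjective (Submodule.mkQ_surjective _)]
        exact hP
      · rw [Submodule.ker_mkQ, inf_eq_right.mpr hle]
        exact hrfg
    haveI hQfp : Module.FinitePresentation R Q := hMc _ hQfg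
    let l : Q →ₗ[R] P :=
      ((LinearMap.range φ).mkQ.comp Q.subtype).codRestrict P (fun x => x.2)
    have hl : Function.Surjective l := by
      rintro ⟨y, hy⟩
      obtain ⟨x, rfl⟩ := Submodule.mkQ_surjective _ y
      exact ⟨⟨x, hy⟩, rfl⟩
    refine Module.finitePresentation_of_surjective l hl ?_
    have hk : LinearMap.ker l = LinearMap.range (Submodule.inclusion hle) := by
      ext ⟨x, hx⟩
      simp only [LinearMap.mem_ker, LinearMap.mem_range]
      constructor
      · intro h
        have h' : (LinearMap.range φ).mkQ x = 0 := congrArg Subtype.val h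
        rw [Submodule.mkQ_apply, Submodule.Quotient.mk_eq_zero] at h'
        exact ⟨⟨x, h'⟩, rfl⟩
      · rintro ⟨⟨y, hy⟩, hxy⟩
        have : y = x := congrArg Subtype.val hxy
        subst this
        apply Subtype.ext
        change (LinearMap.range φ).mkQ y = 0
        rw [Submodule.mkQ_apply, Submodule.Quotient.mk_eq_zero]
        exact hy
    rw [hk]
    exact Submodule.fg_range _

end Groth.Agent.S12207
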