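import Groth.Statements.S12216
import Mathlib
import Groth.Agent.S0190
import Groth.Agent.Lib.helper6.CSADescent

set_option autoImplicit false
universe u v w
open scoped TensorProduct
open Curves

namespace Groth.Agent.S12216

/-- (1) ⇔ (3): a K-algebra A is finite central simple over the field K (finite-dimensional, with centre
K and no non-trivial two-sided ideals) if and only if, for an algebraic closure K̄ of K, the
K̄-algebra K̄ ⊗_K A is isomorphic to a matrix algebra Mat(d × d, K̄) for some d ≥ 1. -/
theorem result (K : Type u) [Field K] (A : Type v) [Ring A] [Algebra K A] :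
    (Algebra.IsCentral K A ∧ IsSimpleRing A ∧ FiniteDimensional K A) ↔
      Curves.Splits K A (AlgebraicClosure K) := by
  classical
  constructor
  · rintro ⟨hc, hs, hf⟩
    haveI : IsSimpleRing (TensorProduct K (AlgebraicClosure K) A) :=
      Groth.Agent.S0190.result K (AlgebraicClosure K) A
    haveI : FiniteDimensional (AlgebraicClosure K) (TensorProduct K (AlgebraicClosure K) A) :=
      Module.Finite.base_change K (AlgebraicClosure K) A
    obtain ⟨n, hn, ⟨e⟩⟩ := IsSimpleRing.exists_algEquiv_matrix_of_isAlgClosed
      (AlgebraicClosure K) (TensorProduct K (AlgebraicClosure K) A)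
    exact ⟨n, hn.ne, ⟨e⟩⟩
  · rintro ⟨n, hn, ⟨e⟩⟩
    haveI : NeZero n := ⟨hn⟩
    haveI hs' : IsSimpleRing (TensorProduct K (AlgebraicClosure K) A) :=
      IsSimpleRing.of_ringEquiv e.symm.toRingEquiv inferInstance
    haveI hc' : Algebra.IsCentral (AlgebraicClosure K)
        (TensorProduct K (AlgebraicClosure K) A) := by
      refine ⟨fun x hx => ?_⟩
      have hex : e x ∈ Subalgebra.center (AlgebraicClosure K)
          (Matrix (Fin n) (Fin n) (AlgebraicClosure K)) := by
        rw [Subalgebra.mem_center_iff] at hx ⊢
        intro b
        have := hx (e.symm b)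
        have h2 := congrArg e this
        rw [map_mul, map_mul, AlgEquiv.apply_symm_apply] at h2
        exact h2
      have hbot := Algebra.IsCentral.out (K := AlgebraicClosure K) hex
      rw [Algebra.mem_bot] at hbot ⊢
      obtain ⟨c, hc⟩ := hbot
      refine ⟨c, ?_⟩
      apply e.injective
      rw [AlgEquiv.commutes, hc]
    haveI hf' : FiniteDimensional (AlgebraicClosure K) (TensorProduct K (AlgebraicClosure K) A) :=
      Module.Finite.equiv e.symm.toLinearEquiv
    haveI hnt : Nontrivial A := by
      by_contra h
      rw [not_nontrivial_iff_subsingleton] at h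
      haveI : Subsingleton (TensorProduct K (AlgebraicClosure K) A) := by
        refine ⟨fun x y => ?_⟩
        have h0 : ∀ z : TensorProduct K (AlgebraicClosure K) A, z = 0 := by
          intro z
          induction z using TensorProduct.induction_on with
          | zero => rfl
          | tmul a b => rw [Subsingleton.elim b 0, TensorProduct.tmul_zero]
          | add x y hx hy => rw [hx, hy, add_zero]
        rw [h0 x, h0 y]
      exact not_subsingleton (TensorProduct K (AlgebraicClosure K) A) this
    refine ⟨Groth.Agent.Lib.helper6.H6_isCentral_of_baseChange (k := K) (K := AlgebraicClosure K),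
      Groth.Agent.Lib.helper6.H6_isSimpleRing_of_baseChange (k := K) (K := AlgebraicClosure K), ?_⟩
    rw [FiniteDimensional, ← Module.rank_lt_aleph0_iff]
    have h1 := Module.rank_baseChange (R := AlgebraicClosure K) (S := K) (M' := A)
    have h2 : Module.rank (AlgebraicClosure K) (TensorProduct K (AlgebraicClosure K) A) <
        Cardinal.aleph0 := Module.rank_lt_aleph0 _ _
    rw [h1, Cardinal.lift_lt_aleph0] at h2
    exact h2

end Groth.Agent.S12216
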