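import Groth.Statements.S12229
import Mathlib
import Groth.Agent.Lib.helper2.RDerTri

set_option autoImplicit false
universe w w' v v' u u'
open CategoryTheory CategoryTheory.Limits
open CohDer

namespace Groth.Agent.S12229

/-- Let F : C → D be a left exact functor between abelian categories with C having enough injectives,
and let 0 → X₁ → X₂ → X₃ → 0 be a short exact sequence of bounded below complexes of C (maps f, g
with f a monomorphism, g an epimorphism and ker g = im f, degreewise). Then there is a long exact
cohomology sequence … → H^i(RF X₁) → H^i(RF X₂) → H^i(RF X₃) → H^{i+1}(RF X₁) → …: for every i the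
induced sequence is exact at H^i(RF X₂), and there is a connecting morphism H^i(RF X₃) → H^{i+1}(RF
X₁) with exactness at H^i(RF X₃) and at H^{i+1}(RF X₁). Here RF is the right derived functor on the
bounded below derived category and H^i is computed in D(D); exactness is expressed as equality of
kernel and image subobjects. Existence of such a connecting morphism only; the canonical one coming
from the distinguished triangle of the short exact sequence is not named. -/
theorem result {C : Type u} [Category.{v} C] [Abelian C] [HasDerivedCategory.{w} C]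
    [EnoughInjectives C] {D : Type u'} [Category.{v'} D] [Abelian D] [HasDerivedCategory.{w'} D]
    (F : C ⥤ D) [F.Additive] [PreservesFiniteLimits F]
    {X₁ X₂ X₃ : CochainComplex.Plus C} (f : X₁ ⟶ X₂) (g : X₂ ⟶ X₃)
    (hf : Mono ((CochainComplex.Plus.ι C).map f)) (hg : Epi ((CochainComplex.Plus.ι C).map g))
    (hex : kernelSubobject ((CochainComplex.Plus.ι C).map g) = imageSubobject ((CochainComplex.Plus.ι C).map f))
    (i : ℤ) :
    let Φ := HomotopyCategory.Plus.quotient C ⋙ DerivedCategory.Plus.Qh ⋙ F.rightDerivedFunctorPlus ⋙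
      DerivedCategory.Plus.ι ⋙ DerivedCategory.homologyFunctor D i
    let Ψ := HomotopyCategory.Plus.quotient C ⋙ DerivedCategory.Plus.Qh ⋙ F.rightDerivedFunctorPlus ⋙
      DerivedCategory.Plus.ι ⋙ DerivedCategory.homologyFunctor D (i + 1)
    kernelSubobject (Φ.map g) = imageSubobject (Φ.map f) ∧
      ∃ δ : Φ.obj X₃ ⟶ Ψ.obj X₁,
        kernelSubobject δ = imageSubobject (Φ.map g) ∧ kernelSubobject (Ψ.map f) = imageSubobject δ := by
  intro Φ Ψ
  have hfm : Mono f.hom := hf
  have hge : Epi g.hom := hg
  have hex' : kernelSubobject g.hom = imageSubobject f.hom := hex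
  have w : f.hom ≫ g.hom = 0 := by
    have h1 : f.hom = factorThruImageSubobject f.hom ≫ (imageSubobject f.hom).arrow :=
      (imageSubobject_arrow_comp f.hom).symm
    have h2 : (imageSubobject f.hom).arrow =
        Subobject.ofLE _ _ (le_of_eq hex'.symm) ≫ (kernelSubobject g.hom).arrow :=
      (Subobject.ofLE_arrow _).symm
    rw [h1, h2, Category.assoc, Category.assoc, kernelSubobject_arrow_comp, Limits.comp_zero,
      Limits.comp_zero]
  have hS : (ShortComplex.mk f.hom g.hom w).ShortExact :=
    { exact := (ShortComplex.mk f.hom g.hom w).exact_iff_image_eq_kernel.2 hex'.symm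
      mono_f := hfm
      epi_g := hge }
  obtain ⟨T, hT, e₁, e₂, e₃, c₁, c₂⟩ :=
    Groth.Agent.H2.H2_RF_SES_triangle F X₁ X₂ X₃ f g w hS
  have cΦ₁ : Φ.map f ≫ ((DerivedCategory.homologyFunctor D i).mapIso e₂).hom =
      ((DerivedCategory.homologyFunctor D i).mapIso e₁).hom ≫
        (DerivedCategory.homologyFunctor D i).map T.mor₁ := by
    show (DerivedCategory.homologyFunctor D i).map _ ≫ (DerivedCategory.homologyFunctor D i).map _
      = (DerivedCategory.homologyFunctor D i).map _ ≫ (DerivedCategory.homologyFunctor D i).map _
    rw [← Functor.map_comp, ← Functor.map_comp]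
    exact congrArg _ c₁
  have cΦ₂ : Φ.map g ≫ ((DerivedCategory.homologyFunctor D i).mapIso e₃).hom =
      ((DerivedCategory.homologyFunctor D i).mapIso e₂).hom ≫
        (DerivedCategory.homologyFunctor D i).map T.mor₂ := by
    show (DerivedCategory.homologyFunctor D i).map _ ≫ (DerivedCategory.homologyFunctor D i).map _
      = (DerivedCategory.homologyFunctor D i).map _ ≫ (DerivedCategory.homologyFunctor D i).map _
    rw [← Functor.map_comp, ← Functor.map_comp]
    exact congrArg _ c₂
  have cΨ₁ : Ψ.map f ≫ ((DerivedCategory.homologyFunctor D (i + 1)).mapIso e₂).hom =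
      ((DerivedCategory.homologyFunctor D (i + 1)).mapIso e₁).hom ≫
        (DerivedCategory.homologyFunctor D (i + 1)).map T.mor₁ := by
    show (DerivedCategory.homologyFunctor D (i + 1)).map _ ≫
      (DerivedCategory.homologyFunctor D (i + 1)).map _
      = (DerivedCategory.homologyFunctor D (i + 1)).map _ ≫
      (DerivedCategory.homologyFunctor D (i + 1)).map _
    rw [← Functor.map_comp, ← Functor.map_comp]
    exact congrArg _ c₁
  refine ⟨?_, ?_⟩
  · exact Groth.Agent.H2.H2_kernel_eq_image_transport (Φ.map f) (Φ.map g) _ _ _ _ _ cΦ₁ cΦ₂ _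
      (DerivedCategory.HomologySequence.exact₂ T hT i)
  · have cδ : (((DerivedCategory.homologyFunctor D i).mapIso e₃).hom ≫
        DerivedCategory.HomologySequence.δ T i (i + 1) rfl ≫
        ((DerivedCategory.homologyFunctor D (i + 1)).mapIso e₁).inv) ≫
        ((DerivedCategory.homologyFunctor D (i + 1)).mapIso e₁).hom =
        ((DerivedCategory.homologyFunctor D i).mapIso e₃).hom ≫
          DerivedCategory.HomologySequence.δ T i (i + 1) rfl := by
      rw [Category.assoc, Category.assoc, Iso.inv_hom_id, Category.comp_id]
    refine ⟨((DerivedCategory.homologyFunctor D i).mapIso e₃).hom ≫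
      DerivedCategory.HomologySequence.δ T i (i + 1) rfl ≫
      ((DerivedCategory.homologyFunctor D (i + 1)).mapIso e₁).inv, ?_, ?_⟩
    · exact Groth.Agent.H2.H2_kernel_eq_image_transport (Φ.map g) _ _ _
        ((DerivedCategory.homologyFunctor D i).mapIso e₂)
        ((DerivedCategory.homologyFunctor D i).mapIso e₃)
        ((DerivedCategory.homologyFunctor D (i + 1)).mapIso e₁) cΦ₂ cδ _
        (DerivedCategory.HomologySequence.exact₃ T hT i (i + 1) rfl)
    · exact Groth.Agent.H2.H2_kernel_eq_image_transport _ (Ψ.map f) _ _
        ((DerivedCategory.homologyFunctor D i).mapIso e₃)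
        ((DerivedCategory.homologyFunctor D (i + 1)).mapIso e₁)
        ((DerivedCategory.homologyFunctor D (i + 1)).mapIso e₂) cδ cΨ₁ _
        (DerivedCategory.HomologySequence.exact₁ T hT i (i + 1) rfl)

end Groth.Agent.S12229
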