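import Groth.Statements.S12248
import Mathlib
import Groth.Agent.Lib.helper6.SchlessMain

set_option autoImplicit false
universe u v
open CategoryTheory
open Deform

namespace Groth.Agent.S12248

/-- Let k be an algebraically closed field, Λ a complete local Noetherian k-algebra with residue field
k, and F a set-valued functor on local Artinian Λ-algebras with residue field k such that F(k) is a
single point, with its k-vector-space structure on F(k[ε]) given as data compatible with ε ↦ cε and
(ε₁, ε₂) ↦ (ε, ε). Then F is prorepresentable (by a complete local Noetherian Λ-algebra with residue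
field k) if and only if: the comparison map F(A' ×_A A'') → F(A') ×_{F(A)} F(A'') is surjective
whenever A'' → A is a small extension; it is bijective whenever A = k and A'' = k[ε]; F(k[ε]) is
finite-dimensional; and the comparison map F(A' ×_A A') → F(A') ×_{F(A)} F(A') is bijective for
every small extension A' → A. -/
theorem result
    {k Λ : Type u} [Field k] [IsAlgClosed k] [CommRing Λ] [IsLocalRing Λ] [IsNoetherianRing Λ]
    [IsAdicComplete (IsLocalRing.maximalIdeal Λ) Λ] [Algebra k Λ] [Algebra Λ k] [IsScalarTower k Λ k]
    (F : ArtFun.Art Λ k ⥤ Type v) [ArtFun.TangentStr F] (h0 : ArtFun.H0 F) :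
    ArtFun.IsProrepresentable F ↔
      (ArtFun.Hbar F ∧ ArtFun.Heps F ∧ ArtFun.Hfin F ∧ ArtFun.HSq F) := by
  classical
  have hsurj : Function.Surjective (algebraMap Λ k) := by
    intro c
    refine ⟨algebraMap k Λ c, ?_⟩
    rw [← IsScalarTower.algebraMap_apply k Λ k]
    rfl
  haveI : Module.Finite Λ k := Module.Finite.of_surjective (Algebra.linearMap Λ k) hsurj
  have hk : Subsingleton (Derivation Λ k k) := by
    refine ⟨fun D₁ D₂ => ?_⟩
    ext c
    obtain ⟨l, rfl⟩ := hsurj c
    rw [Derivation.map_algebraMap, Derivation.map_algebraMap]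
  constructor
  · intro h
    obtain ⟨hle, hfin⟩ := Groth.Agent.Lib.helper6.H6_conditions_of_isProrepresentable F h0 h
    exact ⟨fun B A A' A'' p' p'' f' f'' hsq _ => (hle p' p'' f' f'' hsq).2,
      fun B A' p' p'' hsq => hle p' p'' _ _ hsq, hfin,
      fun B A A' p₁ p₂ f hsq _ => hle p₁ p₂ f f hsq⟩
  · rintro ⟨h1, h2, h3, h4⟩
    exact Groth.Agent.Lib.helper6.H6_isProrepresentable hk F h0 h1 h2 h3 h4

end Groth.Agent.S12248
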