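import Groth.Statements.S12249
import Mathlib
import Groth.Agent.Lib.helper6.ArtTan
import Groth.Prelude.Def_ArtFun5

set_option autoImplicit false
universe u v
open CategoryTheory
open Deform

namespace Groth.Agent.S12249

/-- Let k be an algebraically closed field and F a set-valued functor on local Artinian k-algebras with
residue field k such that F(k) is a single point. If F has a semiuniversal formal element and its
tangent space F(k[ε]) is reduced to one element, then F(A) consists of exactly one element for every
A: F is the constant one-point functor h_k. -/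
theorem result
    {k : Type u} [Field k] [IsAlgClosed k]
    (F : ArtFun.Art k k ⥤ Type v) (h0 : ArtFun.H0 F) (hF : ArtFun.HasHull F)
    (ht : Subsingleton (ArtFun.TangentSpace F)) (A : ArtFun.Art k k) :
    Nonempty (F.obj A) ∧ Subsingleton (F.obj A) := by
  classical
  obtain ⟨⟨R, ξ, hvers, hbij⟩⟩ := hF
  have hresι : ∀ c : k, R.res (algebraMap k R.carrier c) = c := fun c => by
    rw [AlgHom.commutes]; rfl
  have hsurj := Groth.Agent.Lib.helper6.H6_versal_surjective ξ hvers h0.2
  -- the tangent space of h_R is a subsingleton
  have hsub : ∀ φ ψ : ArtFun.HomSet R.carrier R.res (ArtFun.Art.dual k k), φ = ψ := by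
    intro φ ψ
    apply hbij.1
    exact ht.elim _ _
  -- the maximal ideal of R vanishes
  have hm : IsLocalRing.maximalIdeal R.carrier = ⊥ := by
    by_contra hne
    have hnle : ¬ (IsLocalRing.maximalIdeal R.carrier ≤
        IsLocalRing.maximalIdeal R.carrier • IsLocalRing.maximalIdeal R.carrier) := by
      intro hle
      apply hne
      exact Submodule.eq_bot_of_le_smul_of_le_jacobson_bot (IsLocalRing.maximalIdeal R.carrier)
        (IsLocalRing.maximalIdeal R.carrier) (IsNoetherian.noetherian _) hle
        (IsLocalRing.maximalIdeal_le_jacobson _)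
    obtain ⟨x, hx, hx2⟩ := SetLike.not_le_iff_exists.mp hnle
    let W : Submodule k R.carrier :=
      (IsLocalRing.maximalIdeal R.carrier • IsLocalRing.maximalIdeal R.carrier).restrictScalars k
    have hxW : x ∉ W := hx2
    obtain ⟨f, hfx, hfW⟩ := Submodule.exists_dual_map_eq_bot_of_notMem hxW inferInstance
    have hfW' : ∀ w ∈ IsLocalRing.maximalIdeal R.carrier • IsLocalRing.maximalIdeal R.carrier, f w = 0 := by
      intro w hw
      have : f w ∈ W.map f := Submodule.mem_map_of_mem hw
      rw [hfW] at this
      exact this
    let ι : k → R.carrier := algebraMap k R.carrier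
    let D : R.carrier → k := fun r => f (r - ι (R.res r))
    have hmem : ∀ r : R.carrier, r - ι (R.res r) ∈ IsLocalRing.maximalIdeal R.carrier := by
      intro r
      rw [ArtFun.CRing.mem_maximalIdeal_iff, map_sub, hresι, sub_self]
    have hDadd : ∀ r s, D (r + s) = D r + D s := by
      intro r s
      show f (r + s - ι (R.res (r + s))) = f (r - ι (R.res r)) + f (s - ι (R.res s))
      rw [← map_add]
      congr 1
      rw [map_add]
      show r + s - algebraMap k R.carrier (R.res r + R.res s) = _
      rw [map_add]; ring
    have hDmul : ∀ r s, D (r * s) = R.res r * D s + R.res s * D r := by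
      intro r s
      have e : r * s - ι (R.res (r * s)) = (r - ι (R.res r)) * (s - ι (R.res s)) +
          (R.res r • (s - ι (R.res s)) + R.res s • (r - ι (R.res r))) := by
        rw [map_mul, Algebra.smul_def, Algebra.smul_def]
        show r * s - algebraMap k R.carrier (R.res r * R.res s) = _
        rw [map_mul]
        ring
      have hprod : (r - ι (R.res r)) * (s - ι (R.res s)) ∈
          IsLocalRing.maximalIdeal R.carrier • IsLocalRing.maximalIdeal R.carrier := by
        rw [← smul_eq_mul]
        exact Submodule.smul_mem_smul (hmem r) (hmem s)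
      show f (r * s - ι (R.res (r * s))) = _
      rw [e, map_add, map_add, map_smul, map_smul, hfW' _ hprod, zero_add]
      rfl
    have hDι : ∀ c : k, D (algebraMap k R.carrier c) = 0 := by
      intro c
      show f (ι c - ι (R.res (ι c))) = 0
      rw [hresι, sub_self, map_zero]
    obtain ⟨φ, hφ⟩ := Groth.Agent.Lib.helper6.H6_homSet_of_derivation R.res D hDadd hDmul hDι
    let ψ : ArtFun.HomSet R.carrier R.res (ArtFun.Art.dual k k) :=
      ArtFun.HomSet.map ArtFun.Art.baseToDual ⟨R.res, AlgHom.id_comp _⟩
    have hφψ := hsub φ ψ
    have h1 := congrArg (fun χ : ArtFun.HomSet R.carrier R.res (ArtFun.Art.dual k k) =>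
      Groth.Agent.Lib.helper6.H6_sn (χ.1 x)) hφψ
    have h2 : Groth.Agent.Lib.helper6.H6_sn (φ.1 x) = D x := by
      rw [hφ, Groth.Agent.Lib.helper6.H6_sn_dn]
    have h3 : Groth.Agent.Lib.helper6.H6_sn (ψ.1 x) = 0 := by
      show (algebraMap k (DualNumber k) (R.res x)).snd = 0
      rw [TrivSqZeroExt.algebraMap_eq_inl, TrivSqZeroExt.snd_inl]
    have h4 : D x = 0 := by
      rw [← h2, ← h3]; exact h1
    apply hfx
    have hresx : R.res x = 0 := (ArtFun.CRing.mem_maximalIdeal_iff R x).1 hx
    have : D x = f x := by
      show f (x - ι (R.res x)) = f x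
      rw [hresx]
      show f (x - algebraMap k R.carrier 0) = f x
      rw [map_zero, sub_zero]
    rw [← this, h4]
  constructor
  · exact ⟨ξ.app A ⟨(Algebra.ofId k A).comp R.res, by
      apply AlgHom.ext
      intro r
      show A.res (algebraMap k A (R.res r)) = R.res r
      rw [AlgHom.commutes]; rfl⟩⟩
  · constructor
    intro a b
    obtain ⟨φ, rfl⟩ := hsurj A a
    obtain ⟨ψ, rfl⟩ := hsurj A b
    congr 1
    apply Subtype.ext
    apply AlgHom.ext
    intro r
    have hr : r = algebraMap k R.carrier (R.res r) := by
      have : r - algebraMap k R.carrier (R.res r) ∈ IsLocalRing.maximalIdeal R.carrier := by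
        rw [ArtFun.CRing.mem_maximalIdeal_iff, map_sub, hresι, sub_self]
      rw [hm, Ideal.mem_bot] at this
      exact sub_eq_zero.mp this
    rw [hr, AlgHom.commutes, AlgHom.commutes]

end Groth.Agent.S12249
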