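import Groth.Statements.S12252
import Mathlib
import Groth.Agent.Lib.helper6.ArtProRep

set_option autoImplicit false
universe u v
open CategoryTheory
open Deform

namespace Groth.Agent.S12252

/-- Let k be an algebraically closed field, Λ a complete local Noetherian k-algebra with residue field k
and F a set-valued functor on local Artinian Λ-algebras with residue field k. If (R, u) and (S, v)
both prorepresent F (complete local Noetherian Λ-algebras with residue field k carrying universal
families), then there is a unique isomorphism of Λ-algebras R ≅ S, compatible with the augmentations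
to k, along which the universal family of R is transported to that of S. -/
theorem result
    {k Λ : Type u} [Field k] [IsAlgClosed k] [CommRing Λ] [IsLocalRing Λ] [IsNoetherianRing Λ]
    [IsAdicComplete (IsLocalRing.maximalIdeal Λ) Λ] [Algebra k Λ] [Algebra Λ k] [IsScalarTower k Λ k]
    {F : ArtFun.Art Λ k ⥤ Type v} (P Q : ArtFun.ProRep F) :
    ∃! e : P.ring.carrier ≃ₐ[Λ] Q.ring.carrier,
      ∃ he : Q.ring.res.comp e.toAlgHom = P.ring.res, P.family.along e.toAlgHom he = Q.family := by
  classical
  have hk : Function.Surjective (algebraMap Λ k) := by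
    intro c
    refine ⟨algebraMap k Λ c, ?_⟩
    rw [← IsScalarTower.algebraMap_apply k Λ k c]
    rfl
  haveI : Module.Finite Λ k := Module.Finite.of_surjective (Algebra.linearMap Λ k) hk
  obtain ⟨g, hg, hgf⟩ := Groth.Agent.Lib.helper6.H6_proRep_exists_map P Q.ring Q.family
  obtain ⟨g', hg', hgf'⟩ := Groth.Agent.Lib.helper6.H6_proRep_exists_map Q P.ring P.family
  have h1 : g'.comp g = AlgHom.id Λ P.ring.carrier := by
    apply Groth.Agent.Lib.helper6.H6_proRep_map_unique P P.ring _ _
      (by rw [← AlgHom.comp_assoc, hg', hg]) (AlgHom.comp_id _)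
    rw [← Groth.Agent.Lib.helper6.H6_along_along P.family g hg g' hg', hgf, hgf',
      Groth.Agent.Lib.helper6.H6_along_id]
  have h2 : g.comp g' = AlgHom.id Λ Q.ring.carrier := by
    apply Groth.Agent.Lib.helper6.H6_proRep_map_unique Q Q.ring _ _
      (by rw [← AlgHom.comp_assoc, hg, hg']) (AlgHom.comp_id _)
    rw [← Groth.Agent.Lib.helper6.H6_along_along Q.family g' hg' g hg, hgf', hgf,
      Groth.Agent.Lib.helper6.H6_along_id]
  refine ⟨AlgEquiv.ofAlgHom g g' h2 h1, ⟨hg, hgf⟩, ?_⟩
  rintro e' ⟨he', hef'⟩
  have : e'.toAlgHom = g :=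
    Groth.Agent.Lib.helper6.H6_proRep_map_unique P Q.ring _ _ he' hg (hef'.trans hgf.symm)
  apply AlgEquiv.ext
  intro x
  exact congrArg (fun ψ : P.ring.carrier →ₐ[Λ] Q.ring.carrier => ψ x) this

end Groth.Agent.S12252
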