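import Groth.Statements.S12257
import Mathlib

set_option autoImplicit false
universe u v
open CategoryTheory CategoryTheory.Limits
open Deform

namespace Groth.Agent.S12257

/-- Let k be an algebraically closed field, Λ a complete local Noetherian k-algebra with residue field
k, and F, G, H set-valued functors on local Artinian Λ-algebras with residue field k, each with
one-point value at k. If F → G is a smooth morphism of functors and H → G is any morphism, then the
second projection F ×_G H → H of the fibre product of functors is smooth. -/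
theorem result
    {k Λ : Type u} [Field k] [IsAlgClosed k] [CommRing Λ] [IsLocalRing Λ] [IsNoetherianRing Λ]
    [IsAdicComplete (IsLocalRing.maximalIdeal Λ) Λ] [Algebra k Λ] [Algebra Λ k] [IsScalarTower k Λ k]
    {F G H : ArtFun.Art Λ k ⥤ Type v} (η : F ⟶ G) (θ : H ⟶ G)
    (hF : ArtFun.H0 F) (hG : ArtFun.H0 G) (hH : ArtFun.H0 H) (hη : ArtFun.IsSmooth η) :
    ArtFun.IsSmooth (pullback.snd η θ) := by
  intro B A μ hμ ⟨⟨t, w⟩, htw⟩
  have htw' : (pullback.snd η θ).app A t = H.map μ w := htw
  have hpb : ∀ X : ArtFun.Art Λ k, IsPullback ((pullback.fst η θ).app X) ((pullback.snd η θ).app X)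
      (η.app X) (θ.app X) := fun X =>
    (IsPullback.of_hasPullback η θ).map ((evaluation _ _).obj X)
  have hw : η.app A ((pullback.fst η θ).app A t) = G.map μ (θ.app B w) := by
    have h1 := NatTrans.naturality_apply θ μ w
    rw [← h1, ← htw']
    exact congrArg (fun f => f t) (congrArg (fun f => (ConcreteCategory.hom f : _ → _)) (hpb A).w)
  obtain ⟨z, hz⟩ := hη μ hμ ⟨((pullback.fst η θ).app A t, θ.app B w), hw⟩
  have hz1 : F.map μ z = (pullback.fst η θ).app A t := congrArg (fun t => t.1.1) hz
  have hz2 : η.app B z = θ.app B w := congrArg (fun t => t.1.2) hz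
  obtain ⟨s, hs1, hs2⟩ := Types.exists_of_isPullback (hpb B) z w hz2
  refine ⟨s, Subtype.ext (Prod.ext ?_ hs2)⟩
  show (pullback η θ).map μ s = t
  apply Types.ext_of_isPullback (hpb A)
  · have := NatTrans.naturality_apply (pullback.fst η θ) μ s
    rw [this, hs1, hz1]
  · have := NatTrans.naturality_apply (pullback.snd η θ) μ s
    rw [this, hs2, htw']

end Groth.Agent.S12257
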