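import Groth.Statements.S12258
import Mathlib

set_option autoImplicit false
universe u v
open CategoryTheory CategoryTheory.Limits
open Deform

namespace Groth.Agent.S12258

/-- Let k be an algebraically closed field, Λ a complete local Noetherian k-algebra with residue field
k, and F, G set-valued functors on local Artinian Λ-algebras with residue field k, each with
one-point value at k. If F and G are smooth functors, i.e. F(B) → F(A) and G(B) → G(A) are
surjective for every surjection B → A, then the product functor F × G is smooth. -/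
theorem result
    {k Λ : Type u} [Field k] [IsAlgClosed k] [CommRing Λ] [IsLocalRing Λ] [IsNoetherianRing Λ]
    [IsAdicComplete (IsLocalRing.maximalIdeal Λ) Λ] [Algebra k Λ] [Algebra Λ k] [IsScalarTower k Λ k]
    {F G : ArtFun.Art Λ k ⥤ Type v}
    (hF : ArtFun.H0 F) (hG : ArtFun.H0 G) (sF : ArtFun.IsSmoothFunctor F) (sG : ArtFun.IsSmoothFunctor G) :
    ArtFun.IsSmoothFunctor (F ⨯ G) := by
  intro B A μ hμ t
  let e := CategoryTheory.FunctorToTypes.binaryProductIso F G
  obtain ⟨x', hx'⟩ := sF μ hμ (e.hom.app A t).1
  obtain ⟨y', hy'⟩ := sG μ hμ (e.hom.app A t).2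
  let z : (CategoryTheory.FunctorToTypes.prod F G).obj B := (x', y')
  refine ⟨e.inv.app B z, ?_⟩
  have h1 := NatTrans.naturality_apply e.inv μ z
  rw [← h1]
  have h2 : (CategoryTheory.FunctorToTypes.prod F G).map μ z = e.hom.app A t :=
    Prod.ext hx' hy'
  rw [h2]
  have h3 := congrArg (fun η => η.app A t) e.hom_inv_id
  exact h3

end Groth.Agent.S12258
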