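import Groth.Statements.S12299
import Mathlib
import Groth.Agent.S12644

set_option autoImplicit false
universe u v
open CategoryTheory
open ArtFun

namespace Groth.Agent.S12299

/-- Let k be an algebraically closed field, F a set-valued functor on local Artinian k-algebras with
residue field k, and (R, ξ) a miniversal family for F, with R a complete local Noetherian k-algebra
with residue field k: the morphism h_R → F has the lifting property along surjections and is
bijective on the dual numbers. Let S be a complete local Noetherian k-algebra with residue field k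
and g₁, g₂ : R → S two k-algebra maps compatible with the augmentations along which ξ induces the
same formal family over S (the same compatible sequence in the F(S/m^(n+1))). Then g₁ and g₂ induce
the same map R → S/m_S², so the map R/m_R² → S/m_S² attached to a formal family over S is well
defined. (Coefficient rings are taken Noetherian here.) -/
theorem result
    {k : Type u} [Field k] [IsAlgClosed k] {F : ArtFun.Art k k ⥤ Type v}
    (R : ArtFun.CRing k k) (ξ : ArtFun.Family R.carrier R.res F) (hξ : ArtFun.IsMiniversal ξ)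
    (S : ArtFun.CRing k k) (g₁ g₂ : R.carrier →ₐ[k] S.carrier)
    (hg₁ : S.res.comp g₁ = R.res) (hg₂ : S.res.comp g₂ = R.res)
    (h : (ξ.along g₁ hg₁).toFormalElt = (ξ.along g₂ hg₂).toFormalElt) :
    (S.truncHom 1).1.comp g₁ = (S.truncHom 1).1.comp g₂ := by
  classical
  let T := S.trunc 1
  let u₁ : ArtFun.HomSet R.carrier R.res T :=
    ⟨(S.truncHom 1).1.comp g₁, by rw [← AlgHom.comp_assoc, (S.truncHom 1).2, hg₁]⟩
  let u₂ : ArtFun.HomSet R.carrier R.res T :=
    ⟨(S.truncHom 1).1.comp g₂, by rw [← AlgHom.comp_assoc, (S.truncHom 1).2, hg₂]⟩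
  have hu : ξ.app T u₁ = ξ.app T u₂ := congrArg (fun u => u.elt 1) h
  -- all maps to the dual numbers agree
  have hdual : ∀ (lam : T ⟶ ArtFun.Art.dual k k) (r : R.carrier), lam (u₁.1 r) = lam (u₂.1 r) := by
    intro lam r
    have h1 : ArtFun.HomSet.map lam u₁ = ArtFun.HomSet.map lam u₂ := by
      apply hξ.2.1
      rw [ξ.natural, ξ.natural, hu]
    exact congrArg (fun ψ : ArtFun.HomSet R.carrier R.res (ArtFun.Art.dual k k) => ψ.1 r) h1
  -- residue field of T is k
  have hTres_alg : ∀ c : k, T.res (algebraMap k T c) = c := fun c => by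
    rw [AlgHom.commutes]; rfl
  have hres_eq : ∀ a : T, IsLocalRing.residue T a =
      algebraMap k (IsLocalRing.ResidueField T) (T.res a) := by
    intro a
    have hmem : a - algebraMap k T (T.res a) ∈ IsLocalRing.maximalIdeal T := by
      rw [ArtFun.Art.mem_maximalIdeal_iff, map_sub, hTres_alg, sub_self]
    have := (IsLocalRing.residue_eq_zero_iff _).mpr hmem
    rw [map_sub, sub_eq_zero] at this
    rw [this, IsScalarTower.algebraMap_apply k T (IsLocalRing.ResidueField T),
      IsLocalRing.ResidueField.algebraMap_eq]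
  have hres : Function.Surjective (algebraMap k (IsLocalRing.ResidueField T)) := by
    intro y
    obtain ⟨a, rfl⟩ := IsLocalRing.residue_surjective y
    exact ⟨T.res a, (hres_eq a).symm⟩
  have hinj : Function.Injective (algebraMap k (IsLocalRing.ResidueField T)) :=
    (algebraMap k (IsLocalRing.ResidueField T)).injective
  -- the square of the maximal ideal of T vanishes
  have hsq : IsLocalRing.maximalIdeal T ^ 2 = ⊥ := by
    rw [← le_bot_iff]
    calc IsLocalRing.maximalIdeal T ^ 2
        ≤ ((IsLocalRing.maximalIdeal S.carrier).map (Ideal.Quotient.mk (S.mpow 1))) ^ 2 :=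
          Ideal.pow_right_mono (S.maximalIdeal_quot_le 1) _
      _ = (S.mpow 1).map (Ideal.Quotient.mk (S.mpow 1)) := by rw [← Ideal.map_pow]
      _ = ⊥ := Ideal.map_quotient_self _
      _ ≤ ⊥ := le_rfl
  ext r
  show u₁.1 r = u₂.1 r
  by_contra hne
  set x : T := u₁.1 r - u₂.1 r with hx
  have hx0 : x ≠ 0 := sub_ne_zero.mpr hne
  have hxm : x ∈ IsLocalRing.maximalIdeal T := by
    rw [ArtFun.Art.mem_maximalIdeal_iff, hx, map_sub]
    have e1 : T.res (u₁.1 r) = R.res r := congrArg (fun ψ : R.carrier →ₐ[k] k => ψ r) u₁.2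
    have e2 : T.res (u₂.1 r) = R.res r := congrArg (fun ψ : R.carrier →ₐ[k] k => ψ r) u₂.2
    rw [e1, e2, sub_self]
  have hcot : (IsLocalRing.maximalIdeal T).toCotangent ⟨x, hxm⟩ ≠ 0 := by
    rw [Ne, Ideal.toCotangent_eq_zero, hsq]
    exact hx0
  obtain ⟨ℓ, hℓ⟩ : ∃ ℓ : Module.Dual k (IsLocalRing.CotangentSpace T),
      ℓ ((IsLocalRing.maximalIdeal T).toCotangent ⟨x, hxm⟩) ≠ 0 := by
    by_contra hcon
    push_neg at hcon
    exact hcot ((Module.forall_dual_apply_eq_zero_iff k _).mp hcon)
  obtain ⟨φ, ⟨hφ1, hφ2⟩, -⟩ := Groth.Agent.S12644.result k T hres ℓ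
  have hφres : (ArtFun.Art.dual k k).res.comp φ = T.res := by
    ext a
    apply hinj
    show algebraMap k _ (TrivSqZeroExt.fst (φ a)) = _
    rw [hφ1, hres_eq]
  let lam : T ⟶ ArtFun.Art.dual k k := ⟨φ, hφres⟩
  have h2 := hdual lam r
  have h3 : φ x = 0 := by
    rw [hx, map_sub]
    exact sub_eq_zero.mpr h2
  have h4 := hφ2 ⟨x, hxm⟩
  rw [show ((⟨x, hxm⟩ : IsLocalRing.maximalIdeal T) : T) = x from rfl, h3] at h4
  exact hℓ h4.symm

end Groth.Agent.S12299
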