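import Groth.Statements.S12316
import Mathlib
import Groth.Agent.Lib.helper6.ArtTan

set_option autoImplicit false
universe u v
open CategoryTheory
open SGA7

namespace Groth.Agent.S12316

/-- Suppose Λ is a Noetherian local ring, complete for its maximal ideal, whose residue field is k (so Λ
→ k is surjective), and work with functors defined on the category of local Artinian Λ-algebras
having residue field k. Take morphisms φ : F → G and ψ : G → H of such functors. Assume that each of
F(k), G(k), H(k) consists of a single point; that for G the comparison map on fibre products A₁ ×_A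
A₂ is surjective as soon as A₂ → A is surjective, and is bijective for products of the form A' ×_k
k[ε]; that for H the comparison map is bijective on every fibre product A₁ ×_A A₂ with A₂ → A
surjective; and that the induced map on tangent spaces G(k[ε]) → H(k[ε]) coming from ψ is injective.
Under these assumptions, φ ≫ ψ is smooth if and only if both φ and ψ are smooth. (The published
statement is for functors of cofibred groupoids with G semi-homogeneous and H homogeneous; this row
is the case of set-valued functors.) -/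
theorem result (Λ k : Type u) [CommRing Λ] [IsLocalRing Λ] [IsNoetherianRing Λ]
    [IsAdicComplete (IsLocalRing.maximalIdeal Λ) Λ] [Field k] [Algebra Λ k]
    (hk : Function.Surjective (algebraMap Λ k))
    {F G H : ArtFun.Art Λ k ⥤ Type v} (φ : F ⟶ G) (ψ : G ⟶ H)
    (hF : ArtFun.H0 F) (hG : ArtFun.H0 G ∧ ArtFun.S1 G ∧ ArtFun.Heps G) (hH0 : ArtFun.H0 H)
    (hH : ∀ ⦃B A A' A'' : ArtFun.Art Λ k⦄ (p' : B ⟶ A') (p'' : B ⟶ A'') (f' : A' ⟶ A) (f'' : A'' ⟶ A)
      (h : ArtFun.Art.IsFibreProd p' p'' f' f''), Function.Surjective f'' → Function.Bijective (ArtFun.cmp H h))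
    (hψ : Function.Injective (ArtFun.TangentSpace.map ψ)) :
    ArtFun.IsSmooth (φ ≫ ψ) ↔ (ArtFun.IsSmooth φ ∧ ArtFun.IsSmooth ψ) := by
  classical
  haveI : Module.Finite Λ k := Module.Finite.of_surjective (Algebra.linearMap Λ k) hk
  have hsurjBase : ∀ E : ArtFun.Art Λ k, Function.Surjective (ArtFun.Art.toBase E) := fun E => E.res_surjective
  obtain ⟨hG0, hG1, hG2⟩ := hG
  constructor
  · intro hs
    -- φ is smooth
    have hφ : ArtFun.IsSmooth φ := by
      apply Groth.Agent.Lib.helper6.H6_isSmooth_of_small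
      intro A A' μ hμ
      rintro ⟨⟨x, g'⟩, hxg⟩
      have hxg' : φ.app A x = G.map μ g' := hxg
      obtain ⟨z, hz⟩ := hs μ hμ.1 ⟨(x, ψ.app A' g'), by
        show (φ ≫ ψ).app A x = H.map μ (ψ.app A' g')
        rw [← FunctorToTypes.naturality, ← hxg']
        rfl⟩
      have hz1 : F.map μ z = x := congrArg (fun t => t.1.1) hz
      have hz2 : ψ.app A' (φ.app A' z) = ψ.app A' g' := congrArg (fun t => t.1.2) hz
      obtain ⟨C, π₁, π₂, α, δ, hC, hsq, hδ1, hδα, hδ2⟩ :=
        Groth.Agent.Lib.helper6.H6_smallExt_tangent μ hμ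
      have hcompat : G.map μ (φ.app A' z) = G.map μ g' := by
        rw [← FunctorToTypes.naturality, hz1, hxg']
      obtain ⟨w, hw⟩ := hG1 π₁ α μ μ hsq hμ.1 ⟨(φ.app A' z, g'), hcompat⟩
      have hw1 : G.map π₁ w = φ.app A' z := congrArg (fun t => t.1.1) hw
      have hw2 : G.map α w = g' := congrArg (fun t => t.1.2) hw
      -- ψ w is the diagonal element
      have hψw : ψ.app C w = H.map δ (ψ.app A' (φ.app A' z)) := by
        apply (hH π₁ α μ μ hsq hμ.1).1
        apply ArtFun.FibProd.ext
        · show H.map π₁ (ψ.app C w) = H.map π₁ (H.map δ (ψ.app A' (φ.app A' z)))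
          rw [← FunctorToTypes.map_comp_apply, hδ1, FunctorToTypes.map_id_apply,
            ← FunctorToTypes.naturality, hw1]
        · show H.map α (ψ.app C w) = H.map α (H.map δ (ψ.app A' (φ.app A' z)))
          rw [← FunctorToTypes.map_comp_apply, hδα, FunctorToTypes.map_id_apply,
            ← FunctorToTypes.naturality, hw2, hz2]
      have hww : w = G.map δ (φ.app A' z) := by
        apply (hG2 π₁ π₂ hC).1
        apply ArtFun.FibProd.ext
        · show G.map π₁ w = G.map π₁ (G.map δ (φ.app A' z))
          rw [← FunctorToTypes.map_comp_apply, hδ1, FunctorToTypes.map_id_apply, hw1]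
        · show G.map π₂ w = G.map π₂ (G.map δ (φ.app A' z))
          apply hψ
          show ψ.app _ (G.map π₂ w) = ψ.app _ (G.map π₂ (G.map δ (φ.app A' z)))
          rw [FunctorToTypes.naturality, FunctorToTypes.naturality, FunctorToTypes.naturality, hψw]
      refine ⟨z, ?_⟩
      apply Subtype.ext
      apply Prod.ext
      · exact hz1
      · show φ.app A' z = g'
        rw [← hw2, hww, ← FunctorToTypes.map_comp_apply, hδα, FunctorToTypes.map_id_apply]
    refine ⟨hφ, ?_⟩
    -- ψ is smooth
    have hφsurj : ∀ A, Function.Surjective (φ.app A) := by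
      apply Groth.Agent.Lib.helper6.H6_smooth_surjective φ hφ
      intro y
      obtain ⟨x₀⟩ := hF.1
      exact ⟨x₀, hG0.2.elim _ _⟩
    intro B A μ hμ
    rintro ⟨⟨g, h'⟩, hgh⟩
    have hgh' : ψ.app A g = H.map μ h' := hgh
    obtain ⟨x, hx⟩ := hφsurj A g
    obtain ⟨z, hz⟩ := hs μ hμ ⟨(x, h'), by
      show (φ ≫ ψ).app A x = H.map μ h'
      rw [← hgh', ← hx]
      rfl⟩
    have hz1 : F.map μ z = x := congrArg (fun t => t.1.1) hz
    have hz2 : ψ.app B (φ.app B z) = h' := congrArg (fun t => t.1.2) hz
    refine ⟨φ.app B z, ?_⟩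
    apply Subtype.ext
    apply Prod.ext
    · show G.map μ (φ.app B z) = g
      rw [← FunctorToTypes.naturality, hz1, hx]
    · exact hz2
  · rintro ⟨hφ, hψs⟩
    intro B A μ hμ
    rintro ⟨⟨x, h'⟩, hxh⟩
    have hxh' : ψ.app A (φ.app A x) = H.map μ h' := hxh
    obtain ⟨g, hg⟩ := hψs μ hμ ⟨(φ.app A x, h'), hxh'⟩
    have hg1 : G.map μ g = φ.app A x := congrArg (fun t => t.1.1) hg
    have hg2 : ψ.app B g = h' := congrArg (fun t => t.1.2) hg
    obtain ⟨z, hz⟩ := hφ μ hμ ⟨(x, g), hg1.symm⟩
    have hz1 : F.map μ z = x := congrArg (fun t => t.1.1) hz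
    have hz2 : φ.app B z = g := congrArg (fun t => t.1.2) hz
    refine ⟨z, ?_⟩
    apply Subtype.ext
    apply Prod.ext
    · exact hz1
    · show ψ.app B (φ.app B z) = h'
      rw [hz2, hg2]

end Groth.Agent.S12316
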