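import Groth.Statements.S12418

set_option autoImplicit false
universe u
open CAlg

namespace Groth.Agent.S12418

/-- Let R be a Noetherian ring and b ∈ R; for x outside the ideal (b) put I_x = ((b) : x), the ideal of
r with r x ∈ (b). If s ∉ (b) and I_s is maximal among the I_x (x ∉ (b)), then I_s is prime. -/
theorem result {R : Type u} [CommRing R] [IsNoetherianRing R]
    (b s : R) (hs : s ∉ Ideal.span {b})
    (hmax : ∀ x : R, x ∉ Ideal.span {b} →
      Submodule.colon (Ideal.span {b}) (Ideal.span {s}) ≤ Submodule.colon (Ideal.span {b}) (Ideal.span {x}) →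
      Submodule.colon (Ideal.span {b}) (Ideal.span {x}) = Submodule.colon (Ideal.span {b}) (Ideal.span {s})) :
    (Submodule.colon (Ideal.span {b}) (Ideal.span ({s} : Set R))).IsPrime := by
  have key : ∀ x r : R, r ∈ Submodule.colon (Ideal.span {b}) ((Ideal.span ({x} : Set R) : Ideal R) : Set R) ↔
      r * x ∈ Ideal.span {b} := fun x r => Ideal.mem_colon_span_singleton
  rw [Ideal.isPrime_iff]
  constructor
  · intro htop
    have h1 : (1 : R) ∈ Submodule.colon (Ideal.span {b}) ((Ideal.span ({s} : Set R) : Ideal R) : Set R) := by
      rw [htop]; trivial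
    rw [key] at h1
    simp only [one_mul] at h1
    exact hs h1
  · intro x y hxy
    by_contra hcon
    push Not at hcon
    obtain ⟨hx, hy⟩ := hcon
    rw [key] at hxy hx hy
    have h2 := hmax (x * s) hx (by
      intro r hr
      rw [key] at hr ⊢
      have : r * (x * s) = x * (r * s) := by ring
      rw [this]
      exact Ideal.mul_mem_left _ _ hr)
    have h3 : y ∈ Submodule.colon (Ideal.span {b}) ((Ideal.span ({x * s} : Set R) : Ideal R) : Set R) := by
      rw [key]
      have : y * (x * s) = x * y * s := by ring
      rw [this]; exact hxy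
    rw [h2, key] at h3
    exact hy h3

end Groth.Agent.S12418
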