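import Groth.Statements.S12442

set_option autoImplicit false
universe u
open Mor

namespace Groth.Agent.S12442

open AlgebraicGeometry CategoryTheory in
/-- Let f : X → Y and g : Y → S be morphisms of schemes. If the composite X → S is locally of finite
presentation and g is locally of finite type, then f is locally of finite presentation. -/
theorem result {X Y S : Scheme.{u}} (f : X ⟶ Y) (g : Y ⟶ S)
    [LocallyOfFinitePresentation (f ≫ g)] [LocallyOfFiniteType g] :
    LocallyOfFinitePresentation f := by
  have key : ∀ {X Y Z : Scheme.{u}} (f : X ⟶ Y) (g : Y ⟶ Z),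
      LocallyOfFinitePresentation (f ≫ g) → LocallyOfFiniteType g →
      LocallyOfFinitePresentation f := by
    intro X Y Z f g h hg
    wlog hZ : IsAffine Z generalizing X Y Z
    · rw [IsZariskiLocalAtTarget.iff_of_iSup_eq_top (P := @LocallyOfFinitePresentation.{u}) _
        (g.iSup_preimage_eq_top (iSup_affineOpens_eq_top Z))]
      intro U
      have H := IsZariskiLocalAtTarget.restrict h U.1
      rw [morphismRestrict_comp] at H
      exact this _ _ H inferInstance inferInstance
    wlog hY : IsAffine Y generalizing X Y
    · rw [IsZariskiLocalAtTarget.iff_of_iSup_eq_top (P := @LocallyOfFinitePresentation.{u}) _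
        (iSup_affineOpens_eq_top Y)]
      intro U
      have H := HasRingHomProperty.comp_of_isOpenImmersion @LocallyOfFinitePresentation.{u}
        (f ⁻¹ᵁ U.1).ι (f ≫ g) h
      rw [← morphismRestrict_ι_assoc] at H
      exact this _ _ H inferInstance inferInstance
    wlog hX : IsAffine X generalizing X
    · rw [IsZariskiLocalAtSource.iff_of_iSup_eq_top (P := @LocallyOfFinitePresentation.{u}) _
        (iSup_affineOpens_eq_top X)]
      intro U
      have H := HasRingHomProperty.comp_of_isOpenImmersion @LocallyOfFinitePresentation.{u}
        U.1.ι (f ≫ g) h
      rw [← Category.assoc] at H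
      exact this _ H inferInstance
    rw [HasRingHomProperty.iff_of_isAffine (P := @LocallyOfFinitePresentation.{u})] at h ⊢
    rw [HasRingHomProperty.iff_of_isAffine (P := @LocallyOfFiniteType.{u})] at hg
    have : (f ≫ g).appTop.hom = (f.appTop.hom).comp (g.appTop.hom) := by
      simp
    rw [this] at h
    exact RingHom.FinitePresentation.of_comp_finiteType _ h hg
  exact key f g inferInstance inferInstance

end Groth.Agent.S12442
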