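import Groth.Statements.S12443
import Mathlib

set_option autoImplicit false
universe u
open CategoryTheory TopologicalSpace
open ShSp

namespace Groth.Agent.S12443


open CategoryTheory CategoryTheory.Limits Opposite


open CategoryTheory CategoryTheory.Limits Opposite TopologicalSpace

noncomputable section

/-- pushforward of sheaves of sets along a map `j` such that `Opens.map j` is a localization
is fully faithful. -/
def pushFF {U X : TopCat.{u}} (j : U ⟶ X) (W : MorphismProperty (Opens X))
    [(Opens.map j).IsLocalization W] :
    (TopCat.Sheaf.pushforward (Type u) j).FullyFaithful := by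
  haveI : (Opens.map j).op.IsLocalization W.op := inferInstance
  let ff := Localization.fullyFaithfulWhiskeringLeft (Opens.map j).op W.op (Type u)
  exact
    { preimage := fun ψ => ⟨ff.preimage ψ.hom⟩
      map_preimage := fun ψ => by
        apply Sheaf.hom_ext
        exact ff.map_preimage ψ.hom
      preimage_map := fun φ => by
        apply Sheaf.hom_ext
        exact ff.preimage_map φ.hom }

theorem main {U X : TopCat.{u}} (j : U ⟶ X) (hj : Topology.IsOpenEmbedding j)
    (F : U.Sheaf (Type u)) :
    IsIso ((TopCat.Sheaf.pullbackPushforwardAdjunction (Type u) j).counit.app F) := by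
  haveI : Mono j := (TopCat.mono_iff_injective j).2 hj.injective
  haveI : (Opens.map j).IsLocalization
      ((MorphismProperty.isomorphisms (Opens U)).inverseImage (Opens.map j)) :=
    hj.isOpenMap.adjunction.isLocalization'
  let FF := pushFF j ((MorphismProperty.isomorphisms (Opens U)).inverseImage (Opens.map j))
  haveI := FF.full
  haveI := FF.faithful
  infer_instance

end

/-- Let j : U → X be the inclusion of an open subset (an open embedding) and F a sheaf of sets on U.
Then the counit j⁻¹ j_* F → F is an isomorphism, i.e. j⁻¹ j_* is the identity on sheaves on U. -/
theorem result {U X : TopCat.{u}} (j : U ⟶ X) (hj : Topology.IsOpenEmbedding j)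
    (F : U.Sheaf (Type u)) :
    IsIso ((TopCat.Sheaf.pullbackPushforwardAdjunction (Type u) j).counit.app F) := by
  exact main j hj F

end Groth.Agent.S12443
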