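import Groth.Statements.S12445
import Mathlib
import Groth.Agent.Lib.helper4.CatScheme

set_option autoImplicit false
universe u
open CategoryTheory AlgebraicGeometry
open Props

namespace Groth.Agent.S12445

/-- (1) ⇔ (3) ⇔ (4): for a scheme S, the underlying topological space of S is catenary if and only if
the coordinate ring of every affine open of S is a catenary ring, if and only if S is covered by
affine opens with catenary coordinate rings. (Clause (2), openness of catenarity, and the final
assertion on locally closed subschemes are the topological statement for open coverings and locally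
closed subspaces.) -/
theorem result (S : Scheme.{u}) :
    (PtTop.IsCatenarySpace S ↔ ∀ U : S.affineOpens, CAlg.IsCatenary Γ(S, U)) ∧
    (PtTop.IsCatenarySpace S ↔
      ∀ s : S, ∃ U : S.affineOpens, s ∈ (U : S.Opens) ∧ CAlg.IsCatenary Γ(S, U)) := by
  have hcov : (∀ s : S, ∃ U : S.affineOpens, s ∈ (U : S.Opens) ∧ CAlg.IsCatenary Γ(S, U)) →
      PtTop.IsCatenarySpace S := by
    intro h
    apply Groth.Agent.H4.H4_catSpace_of_open_cover
    intro s
    obtain ⟨U, hsU, hU⟩ := h s
    exact ⟨U, hsU, (Groth.Agent.H4.H4_affine_catSpace_iff S U).2 hU⟩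
  have hall : PtTop.IsCatenarySpace S → ∀ U : S.affineOpens, CAlg.IsCatenary Γ(S, U) := by
    intro hS U
    apply (Groth.Agent.H4.H4_affine_catSpace_iff S U).1
    exact Groth.Agent.H4.H4_catSpace_of_locallyClosed hS ((U : S.Opens) : Set S)
      (U : S.Opens).isOpen.isLocallyClosed
  have hex : ∀ s : S, ∃ U : S.affineOpens, s ∈ (U : S.Opens) := by
    intro s
    obtain ⟨U, hU, hsU, -⟩ := TopologicalSpace.Opens.isBasis_iff_nbhd.1 S.isBasis_affineOpens
      (U := ⊤) (x := s) trivial
    exact ⟨⟨U, hU⟩, hsU⟩
  refine ⟨⟨hall, fun h => hcov fun s => ?_⟩, ⟨fun hS s => ?_, hcov⟩⟩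
  · obtain ⟨U, hsU⟩ := hex s
    exact ⟨U, hsU, h U⟩
  · obtain ⟨U, hsU⟩ := hex s
    exact ⟨U, hsU, hall hS U⟩

end Groth.Agent.S12445
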