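import Groth.Statements.S12446
import Mathlib
import Groth.Agent.Lib.helper4.CatScheme
import Groth.Agent.S12445

set_option autoImplicit false
universe u
open CategoryTheory AlgebraicGeometry
open Props

namespace Groth.Agent.S12446

/-- For a scheme X, the underlying topological space of X is catenary if and only if for every point x
the local ring O_{X,x} is a catenary ring. -/
theorem result (X : Scheme.{u}) :
    PtTop.IsCatenarySpace X ↔ ∀ x : X, CAlg.IsCatenary (X.presheaf.stalk x) := by
  rw [(Groth.Agent.S12445.result X).1]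
  constructor
  · intro h x
    obtain ⟨U, hU, hxU, -⟩ := TopologicalSpace.Opens.isBasis_iff_nbhd.1 X.isBasis_affineOpens
      (U := ⊤) (x := x) trivial
    letI := X.presheaf.algebra_section_stalk ⟨x, hxU⟩
    haveI := IsAffineOpen.isLocalization_stalk hU ⟨x, hxU⟩
    exact Groth.Agent.H4.H4_isCatenary_localization Γ(X, U)
      (hU.primeIdealOf ⟨x, hxU⟩).asIdeal.primeCompl (X.presheaf.stalk x) (h ⟨U, hU⟩)
  · intro h U
    obtain ⟨U, hU⟩ := U
    apply Groth.Agent.H4.H4_isCatenary_of_localization_atPrime
    intro p
    have hy : hU.fromSpec p ∈ U := (hU.isoSpec.inv p).2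
    letI := X.presheaf.algebra_section_stalk ⟨hU.fromSpec p, hy⟩
    haveI : IsLocalization.AtPrime (X.presheaf.stalk (hU.fromSpec p)) p.asIdeal :=
      hU.isLocalization_stalk' p hy
    exact Groth.Agent.H4.H4_isCatenary_of_ringEquiv
      (IsLocalization.algEquiv p.asIdeal.primeCompl (Localization.AtPrime p.asIdeal)
        (X.presheaf.stalk (hU.fromSpec p))).toRingEquiv (h _)

end Groth.Agent.S12446
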