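import Groth.Statements.S12447
import Mathlib
import Groth.Agent.Lib.helper4.DimFun3
import Groth.Agent.Lib.helper4.CatScheme
import Groth.Agent.S12445

set_option autoImplicit false
universe u
open CategoryTheory AlgebraicGeometry
open Props

namespace Groth.Agent.S12447

/-- Let S be a locally Noetherian scheme. Then the underlying topological space of S is catenary if and
only if locally in the Zariski topology there is a dimension function, i.e. every point has an open
neighbourhood U carrying a function δ : U → ℤ which strictly decreases along nontrivial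
specializations and drops by exactly one along immediate specializations. -/
theorem result (S : Scheme.{u}) [IsLocallyNoetherian S] :
    PtTop.IsCatenarySpace S ↔
      ∀ s : S, ∃ U : S.Opens, s ∈ U ∧ ∃ δ : U → ℤ, PtTop.IsDimensionFunction δ := by
  constructor
  · intro hS s
    obtain ⟨V, hV, hsV, -⟩ := TopologicalSpace.Opens.isBasis_iff_nbhd.1 S.isBasis_affineOpens
      (U := ⊤) (x := s) trivial
    haveI : IsNoetherianRing Γ(S, V) := IsLocallyNoetherian.component_noetherian ⟨V, hV⟩
    have hcat : CAlg.IsCatenary Γ(S, V) := ((Groth.Agent.S12445.result S).1.1 hS) ⟨V, hV⟩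
    let e : ↥V ≃ₜ PrimeSpectrum Γ(S, V) := Scheme.homeoOfIso hV.isoSpec
    obtain ⟨U', hpU', δ', hδ'⟩ := Groth.Agent.H4.H4_exists_dimFun_nhd Γ(S, V) hcat (e ⟨s, hsV⟩)
    let g : U' → S := fun y => ((e.symm y.1 : V) : S)
    have hg : Topology.IsOpenEmbedding g :=
      (V.isOpen.isOpenEmbedding_subtypeVal.comp e.symm.isOpenEmbedding).comp
        U'.isOpen.isOpenEmbedding_subtypeVal
    refine ⟨⟨Set.range g, hg.isOpen_range⟩, ⟨⟨e ⟨s, hsV⟩, hpU'⟩, ?_⟩, ?_⟩
    · show ((e.symm (e ⟨s, hsV⟩) : V) : S) = s
      rw [e.symm_apply_apply]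
    · exact ⟨δ' ∘ (hg.isEmbedding.toHomeomorph).symm,
        Groth.Agent.H4.H4_dimFun_of_homeomorph hg.isEmbedding.toHomeomorph δ' hδ'⟩
  · intro h
    apply Groth.Agent.H4.H4_catSpace_of_open_cover
    intro s
    obtain ⟨U, hsU, δ, hδ⟩ := h s
    haveI : QuasiSober ↥U := U.isOpen.isOpenEmbedding_subtypeVal.quasiSober
    exact ⟨U, hsU, Groth.Agent.H4.H4_catSpace_of_dimFun δ hδ⟩

end Groth.Agent.S12447
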