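import Groth.Statements.S12450

set_option autoImplicit false
universe u
open CategoryTheory CategoryTheory.Limits
open ModSite

namespace Groth.Agent.S12450

/-- For a small ringed site (C, O) the forgetful functor Mod(O) → Ab(C) commutes with colimits, i.e.
preserves all small colimits. (Existence of limits and colimits in Mod(O) and commutation of the
forgetful functor with limits hold by construction; exactness of filtered colimits is a separate
statement.) -/
theorem result {C : Type u} [SmallCategory C] {J : GrothendieckTopology C}
    (O : Sheaf J CommRingCat.{u}) :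
    PreservesColimitsOfSize.{u, u} (SheafOfModules.toSheaf.{u} (ModSite.ringSh O) : ModSite.Mod O ⥤ Sheaf J AddCommGrpCat.{u}) := by
  let R := ModSite.ringSh O
  let L := PresheafOfModules.sheafification.{u} (𝟙 R.obj)
  have hL : PreservesColimitsOfSize.{u, u} (L ⋙ SheafOfModules.toSheaf.{u} R) := by
    change PreservesColimitsOfSize.{u, u}
      (PresheafOfModules.toPresheaf _ ⋙ presheafToSheaf J AddCommGrpCat.{u})
    infer_instance
  constructor
  intro K _
  constructor
  intro F
  let e : F ≅ (F ⋙ SheafOfModules.forget R) ⋙ L :=
    Functor.isoWhiskerLeft F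
      (asIso (PresheafOfModules.sheafificationAdjunction (𝟙 R.obj)).counit).symm
  let d := colimit.cocone (F ⋙ SheafOfModules.forget R)
  let c : Cocone F := (Cocone.precompose e.hom).obj (L.mapCocone d)
  have hc : IsColimit c :=
    (IsColimit.precomposeHomEquiv e _).symm (isColimitOfPreserves L (colimit.isColimit _))
  apply preservesColimit_of_preserves_colimit_cocone hc
  let e' : F ⋙ SheafOfModules.toSheaf.{u} R ≅
      (F ⋙ SheafOfModules.forget R) ⋙ (L ⋙ SheafOfModules.toSheaf.{u} R) :=
    Functor.isoWhiskerRight e (SheafOfModules.toSheaf.{u} R) ≪≫ Functor.associator _ _ _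
  have h2 : IsColimit ((L ⋙ SheafOfModules.toSheaf.{u} R).mapCocone d) :=
    isColimitOfPreserves _ (colimit.isColimit _)
  refine IsColimit.ofIsoColimit ((IsColimit.precomposeHomEquiv e' _).symm h2)
    (Cocone.ext (Iso.refl _) ?_)
  intro j
  simp [c, e']
  rfl

end Groth.Agent.S12450
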