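import Groth.Statements.S12459
import Mathlib
import Groth.Agent.Lib.helper4.UnivCat
import Groth.Agent.S12445

set_option autoImplicit false
universe u
open CategoryTheory AlgebraicGeometry
open Props

namespace Groth.Agent.S12459

/-- For a locally Noetherian scheme S, the scheme S is universally catenary — every scheme X locally of
finite type over S has catenary underlying topological space — if and only if all local rings
O_{S,s} are universally catenary rings. (Schemes X over S are taken in the universe of S.) -/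
theorem result (S : Scheme.{u}) [IsLocallyNoetherian S] :
    (∀ (X : Scheme.{u}) (f : X ⟶ S), LocallyOfFiniteType f → PtTop.IsCatenarySpace X) ↔
      ∀ s : S, CAlg.IsUniversallyCatenary (S.presheaf.stalk s) := by
  constructor
  · intro h s
    obtain ⟨V, hV, hsV, -⟩ := TopologicalSpace.Opens.isBasis_iff_nbhd.1 S.isBasis_affineOpens
      (U := ⊤) (x := s) trivial
    haveI : IsNoetherianRing Γ(S, V) := IsLocallyNoetherian.component_noetherian ⟨V, hV⟩
    have hΓ : CAlg.IsUniversallyCatenary Γ(S, V) := by
      refine ⟨inferInstance, ?_⟩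
      intro B _ _ hB
      let φ : Γ(S, V) ⟶ CommRingCat.of B := CommRingCat.ofHom (algebraMap Γ(S, V) B)
      haveI hφ : LocallyOfFiniteType (Spec.map φ) := by
        rw [HasRingHomProperty.Spec_iff (P := @LocallyOfFiniteType)]
        exact RingHom.finiteType_algebraMap.2 hB
      have h1 := h (Spec (CommRingCat.of B)) (Spec.map φ ≫ hV.fromSpec) inferInstance
      exact (Groth.Agent.H4.H4_isCatenary_iff_spec B).2 h1
    letI := S.presheaf.algebra_section_stalk ⟨s, hsV⟩
    haveI := IsAffineOpen.isLocalization_stalk hV ⟨s, hsV⟩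
    exact Groth.Agent.H4.H4_univCat_localization Γ(S, V)
      (hV.primeIdealOf ⟨s, hsV⟩).asIdeal.primeCompl _ hΓ
  · intro h X f hf
    have hΓ : ∀ V : S.affineOpens, CAlg.IsUniversallyCatenary Γ(S, V) := by
      rintro ⟨V, hV⟩
      haveI : IsNoetherianRing Γ(S, V) := IsLocallyNoetherian.component_noetherian ⟨V, hV⟩
      apply Groth.Agent.H4.H4_univCat_of_local
      intro p
      refine ⟨p, le_rfl, ?_⟩
      have hy : hV.fromSpec p ∈ V := (hV.isoSpec.inv p).2
      letI := S.presheaf.algebra_section_stalk ⟨hV.fromSpec p, hy⟩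
      haveI : IsLocalization.AtPrime (S.presheaf.stalk (hV.fromSpec p)) p.asIdeal :=
        hV.isLocalization_stalk' p hy
      exact Groth.Agent.H4.H4_univCat_of_ringEquiv
        (IsLocalization.algEquiv p.asIdeal.primeCompl (S.presheaf.stalk (hV.fromSpec p))
          (Localization.AtPrime p.asIdeal)).toRingEquiv (h _)
    rw [(Groth.Agent.S12445.result X).2]
    intro x
    obtain ⟨V, hV, hfxV, -⟩ := TopologicalSpace.Opens.isBasis_iff_nbhd.1 S.isBasis_affineOpens
      (U := ⊤) (x := f x) trivial
    obtain ⟨W, hW, hxW, hWV⟩ := TopologicalSpace.Opens.isBasis_iff_nbhd.1 X.isBasis_affineOpens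
      (U := f ⁻¹ᵁ V) (x := x) hfxV
    refine ⟨⟨W, hW⟩, hxW, ?_⟩
    have hft : (f.appLE V W hWV).hom.FiniteType :=
      HasRingHomProperty.appLE @LocallyOfFiniteType f hf ⟨V, hV⟩ ⟨W, hW⟩ hWV
    letI : Algebra Γ(S, V) Γ(X, W) := (f.appLE V W hWV).hom.toAlgebra
    exact (hΓ ⟨V, hV⟩).2 Γ(X, W) hft

end Groth.Agent.S12459
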