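import Groth.Statements.S12482
import Mathlib
import Groth.Agent.Lib.helper6.RegSeqCotangent

set_option autoImplicit false
universe u
open Dual Groth.Agent.Lib.helper6
set_option linter.style.haveILetI false

namespace Groth.Agent.S12482

/-- Let `A` be a commutative ring, `x_1, …, x_p` a sequence of elements of `A` such that each `x_i` is a
non-zero-divisor on `A/(x_1, …, x_{i-1})`, and `J` the ideal generated by the `x_i`. Then `J/J²` is
a free `(A/J)`-module with basis the classes of the `x_i`: there is a basis of `J/J²` over `A/J`,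
indexed by `1, …, p`, whose `i`-th vector is the class of `x_i`. (The other assertions of the
published statement, on the Koszul complex and on Ext and Tor against `A/J`, are stated separately.) -/
theorem result (A : Type u) [CommRing A] (p : ℕ) (x : Fin p → A)
    (hreg : RingTheory.Sequence.IsWeaklyRegular A (List.ofFn x)) :
    ∃ b : Module.Basis (Fin p) (A ⧸ Ideal.span (Set.range x)) (Ideal.span (Set.range x)).Cotangent,
      ∀ i, b i = (Ideal.span (Set.range x)).toCotangent ⟨x i, Ideal.subset_span (Set.mem_range_self i)⟩ := by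
  classical
  obtain ⟨J, hJ⟩ : ∃ J : Ideal A, J = Ideal.span (Set.range x) := ⟨_, rfl⟩
  have hxJ : ∀ i, x i ∈ J := fun i => by rw [hJ]; exact Ideal.subset_span (Set.mem_range_self i)
  have key : ∀ a : Fin p → A, ∑ i, a i * x i ∈ J ^ 2 → ∀ i, a i ∈ J := by
    intro a h
    rw [hJ] at h ⊢
    exact H6_regseq_rel_sq A p x hreg a h
  have hsmul : ∀ (a : A) (z : J.Cotangent), (Ideal.Quotient.mk J a) • z = a • z := by
    intro a z
    exact algebraMap_smul (A ⧸ J) a z
  have hli : LinearIndependent (A ⧸ J) (fun i => J.toCotangent ⟨x i, hxJ i⟩) := by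
    rw [Fintype.linearIndependent_iff]
    intro g hg i
    choose a ha using fun i => Ideal.Quotient.mk_surjective (g i)
    have h1 : ∑ i, g i • J.toCotangent ⟨x i, hxJ i⟩ =
        J.toCotangent (∑ i, a i • (⟨x i, hxJ i⟩ : J)) := by
      rw [map_sum]
      refine Finset.sum_congr rfl (fun i _ => ?_)
      rw [← ha i, hsmul, map_smul]
    rw [h1, Ideal.toCotangent_eq_zero] at hg
    have h2 : ((∑ i, a i • (⟨x i, hxJ i⟩ : J) : J) : A) = ∑ i, a i * x i := by
      rw [Submodule.coe_sum]
      rfl
    rw [h2] at hg
    have := key a hg i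
    rw [← ha i]
    exact Ideal.Quotient.eq_zero_iff_mem.2 this
  have hsp : ⊤ ≤ Submodule.span (A ⧸ J) (Set.range (fun i => J.toCotangent ⟨x i, hxJ i⟩)) := by
    intro z _
    obtain ⟨y, rfl⟩ := Ideal.toCotangent_surjective J z
    have hy : (y : A) ∈ Ideal.span (Set.range x) := by rw [← hJ]; exact y.2
    obtain ⟨c, hc⟩ := (Ideal.mem_span_range_iff_exists_fun).1 hy
    have h1 : y = ∑ i, c i • (⟨x i, hxJ i⟩ : J) := by
      apply Subtype.ext
      rw [Submodule.coe_sum, ← hc]
      rfl
    rw [h1, map_sum]
    apply Submodule.sum_mem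
    intro i _
    rw [map_smul, ← hsmul]
    exact Submodule.smul_mem _ _ (Submodule.subset_span ⟨i, rfl⟩)
  subst hJ
  exact ⟨Module.Basis.mk hli hsp, fun i => by rw [Module.Basis.mk_apply]⟩

end Groth.Agent.S12482
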