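import Groth.Statements.S12550
import Mathlib

set_option autoImplicit false
universe u
open GIT

namespace Groth.Agent.S12550

/-- Let V be a finite-dimensional vector space over a field K and x_0, …, x_m non-zero vectors, a
configuration of m + 1 points of the projective space P(V). If for every subspace L with 0 ≠ L ≠ V
the number of indices i with x_i ∈ L, multiplied by dim V, is less than dim L · (m + 1) (the
configuration is stable), then no two proper subspaces L', L'' with L' ∩ L'' = 0 contain between
them all the x_i. -/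
theorem result (K : Type u) [Field K]
    (V : Type u) [AddCommGroup V] [Module K V] [FiniteDimensional K V]
    (m : ℕ) (x : Fin (m + 1) → V) (hx : ∀ i, x i ≠ 0)
    (hst : ∀ L : Submodule K V, L ≠ ⊥ → L ≠ ⊤ →
      Set.ncard {i : Fin (m + 1) | x i ∈ L} * Module.finrank K V < Module.finrank K L * (m + 1)) :
    ¬ ∃ L' L'' : Submodule K V, L' ≠ ⊤ ∧ L'' ≠ ⊤ ∧ Disjoint L' L'' ∧ ∀ i, x i ∈ L' ∨ x i ∈ L'' := by
  rintro ⟨L', L'', hL', hL'', hdisj, hcov⟩
  have hunion : {i : Fin (m + 1) | x i ∈ L'} ∪ {i : Fin (m + 1) | x i ∈ L''} = Set.univ := by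
    ext i
    simp only [Set.mem_union, Set.mem_setOf_eq, Set.mem_univ, iff_true]
    exact hcov i
  have hab : m + 1 ≤ Set.ncard {i : Fin (m + 1) | x i ∈ L'} + Set.ncard {i : Fin (m + 1) | x i ∈ L''} := by
    have := Set.ncard_union_le {i : Fin (m + 1) | x i ∈ L'} {i : Fin (m + 1) | x i ∈ L''}
    rw [hunion, Set.ncard_univ, Nat.card_fin] at this
    exact this
  have hdim := Submodule.finrank_add_finrank_le_of_disjoint hdisj
  have hall : ∀ (L M : Submodule K V), L = ⊥ → M ≠ ⊤ → (∀ i, x i ∈ L ∨ x i ∈ M) → False := by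
    intro L M hL hM hc
    have hallM : ∀ i, x i ∈ M := by
      intro i
      rcases hc i with h | h
      · rw [hL, Submodule.mem_bot] at h
        exact absurd h (hx i)
      · exact h
    have hMbot : M ≠ ⊥ := by
      intro h
      have := hallM 0
      rw [h, Submodule.mem_bot] at this
      exact hx 0 this
    have h1 := hst M hMbot hM
    have h2 : {i : Fin (m + 1) | x i ∈ M} = Set.univ := by
      ext i; simp [hallM i]
    rw [h2, Set.ncard_univ, Nat.card_fin] at h1
    have h3 := Submodule.finrank_le M
    have : Module.finrank K M * (m + 1) ≤ (m + 1) * Module.finrank K V := by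
      rw [mul_comm]; exact Nat.mul_le_mul_left _ h3
    omega
  by_cases h1 : L' = ⊥
  · exact hall L' L'' h1 hL'' hcov
  by_cases h2 : L'' = ⊥
  · exact hall L'' L' h2 hL' (fun i => (hcov i).symm)
  have e1 := hst L' h1 hL'
  have e2 := hst L'' h2 hL''
  have e3 : (Set.ncard {i : Fin (m + 1) | x i ∈ L'} + Set.ncard {i : Fin (m + 1) | x i ∈ L''}) * Module.finrank K V
      < (Module.finrank K L' + Module.finrank K L'') * (m + 1) := by
    rw [add_mul, add_mul]; exact add_lt_add e1 e2
  have e4 : (m + 1) * Module.finrank K V ≤ (Set.ncard {i : Fin (m + 1) | x i ∈ L'} + Set.ncard {i : Fin (m + 1) | x i ∈ L''}) * Module.finrank K V :=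
    Nat.mul_le_mul_right _ hab
  have e5 : (Module.finrank K L' + Module.finrank K L'') * (m + 1) ≤ Module.finrank K V * (m + 1) :=
    Nat.mul_le_mul_right _ hdim
  have e6 : (m + 1) * Module.finrank K V = Module.finrank K V * (m + 1) := mul_comm _ _
  omega

end Groth.Agent.S12550
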