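import Groth.Statements.S12557
import Mathlib
import Groth.Agent.Lib.helper9.H9_Reynolds

set_option autoImplicit false
universe u
open TensorProduct
open GIT

namespace Groth.Agent.S12557

/-- Let k be a field, G = Spec A a linearly reductive affine group (A a commutative Hopf algebra whose
finite-dimensional comodules are all semisimple) acting on the affine scheme Spec R, R_0 ⊆ R the
ring of invariants, and (𝔄_i) a family of ideals of R each stable under the coaction. Then the sum
of the 𝔄_i meets R_0 in the sum of the intersections 𝔄_i ∩ R_0. -/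
theorem result (k : Type u) [Field k] (A : Type u) [CommRing A] [HopfAlgebra k A]
    (hG : HopfRep.IsLinearlyReductive k A)
    (R : Type u) [CommRing R] [Algebra k R] [HopfRep.Comod k A R] [GLin.IsCoactAlg k A R]
    (ι : Type u) (𝔄 : ι → Ideal R) (h𝔄 : ∀ i, HopfRep.IsSubcomod (k := k) (A := A) ((𝔄 i).restrictScalars k)) :
    (⨆ i, (𝔄 i).restrictScalars k) ⊓ Subalgebra.toSubmodule (GLin.invariants k A R) =
      ⨆ i, ((𝔄 i).restrictScalars k ⊓ Subalgebra.toSubmodule (GLin.invariants k A R)) := by
  classical
  have hss : HopfRep.IsSemisimpleComod k A R := H9_LinRed.isSemisimpleComod hG R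
  obtain ⟨E, hE₁, hE₂, hE₃⟩ := H9_LinRed.exists_reynolds (k := k) (A := A) (V := R) hss
  have hEmem : ∀ x : R, E x ∈ GLin.invariants k A R := fun x =>
    (hE₃ (E x)).mp (LinearMap.congr_fun hE₂ x)
  apply le_antisymm
  · rintro x ⟨hx1, hx2⟩
    have hx2' : E x = x := (hE₃ x).mpr hx2
    -- E maps the sum into the sum of the intersections
    have key : ∀ y ∈ (⨆ i, (𝔄 i).restrictScalars k),
        E y ∈ ⨆ i, ((𝔄 i).restrictScalars k ⊓ Subalgebra.toSubmodule (GLin.invariants k A R)) := by
      intro y hy
      refine Submodule.iSup_induction _ (motive := fun y => E y ∈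
        ⨆ i, ((𝔄 i).restrictScalars k ⊓ Subalgebra.toSubmodule (GLin.invariants k A R))) hy ?_ ?_ ?_
      · intro i z hz
        apply Submodule.mem_iSup_of_mem i
        exact ⟨H9_Reynolds.reynolds_mem hG E hE₁ hE₂ hE₃ _ (h𝔄 i) z hz, hEmem z⟩
      · rw [map_zero]; exact Submodule.zero_mem _
      · intro y z hy hz
        rw [map_add]; exact Submodule.add_mem _ hy hz
    have := key x hx1
    rwa [hx2'] at this
  · apply iSup_le
    intro i
    exact le_inf (inf_le_left.trans (le_iSup (fun i => (𝔄 i).restrictScalars k) i)) inf_le_right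

end Groth.Agent.S12557
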