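import Groth.Statements.S12595
import Mathlib

set_option autoImplicit false
open FunFld

namespace Groth.Agent.S12595

/-- Over an algebraically closed constant field, let `φ` be a birational projective map of the function
field `K` (the ratios `φ i / φ 0` generate `K`), `τ` a `k`-endomorphism of `K` and `H` a total Hasse
derivative. Then the first `τ`-order of `φ` is positive — the column `φ` of `0`-th Hasse derivatives
lies in the `K`-span of the leading column `τ(φ)` — exactly when `τ` is the identity. -/
theorem result
    (k K : Type*) [Field k] [IsAlgClosed k] [Field K] [Algebra k K]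
    (hK : FunFld.IsFunctionField k K) {n : ℕ} (φ : Fin (n + 1) → K) (h0 : φ 0 ≠ 0)
    (hbir : IntermediateField.adjoin k (Set.range fun i => φ i / φ 0) = ⊤)
    (τ : K →ₐ[k] K) (s : K) (H : K →ₐ[k] PowerSeries K) (hH : LocRes.IsHasseFamily s H) :
    ¬ FunFld.IsJump K (FunFld.hcol τ H φ) 1 ↔ τ = AlgHom.id k K := by
  have hc1 : FunFld.hcol τ H φ 1 = φ := by
    funext i
    simp only [FunFld.hcol, LocRes.hasseD_apply, PowerSeries.coeff_zero_eq_constantCoeff_apply, hH.2]
  have hc0 : FunFld.hcol τ H φ 0 = fun i => τ (φ i) := rfl
  have hI : (Set.Iio 1 : Set ℕ) = {0} := by ext m; simp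
  unfold FunFld.IsJump
  rw [not_not, hI, Set.image_singleton, hc1, hc0, Submodule.mem_span_singleton]
  constructor
  · rintro ⟨c, hc⟩
    have hci : ∀ i, c * τ (φ i) = φ i := fun i => by
      have := congrFun hc i
      simpa using this
    have hc0' : c ≠ 0 := by
      rintro rfl
      exact h0 (by rw [← hci 0, zero_mul])
    have hfix : ∀ i, τ (φ i / φ 0) = φ i / φ 0 := by
      intro i
      calc τ (φ i / φ 0) = τ (φ i) / τ (φ 0) := map_div₀ _ _ _
        _ = (c * τ (φ i)) / (c * τ (φ 0)) := (mul_div_mul_left _ _ hc0').symm
        _ = φ i / φ 0 := by rw [hci i, hci 0]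
    let E : IntermediateField k K :=
      { carrier := {x | τ x = x}
        mul_mem' := fun {a b} ha hb => by
          simp only [Set.mem_setOf_eq] at ha hb ⊢
          rw [map_mul, ha, hb]
        add_mem' := fun {a b} ha hb => by
          simp only [Set.mem_setOf_eq] at ha hb ⊢
          rw [map_add, ha, hb]
        algebraMap_mem' := fun r => by
          simp only [Set.mem_setOf_eq]
          exact τ.commutes r
        inv_mem' := fun a ha => by
          simp only [Set.mem_setOf_eq] at ha ⊢
          rw [map_inv₀, ha] }
    have hle : IntermediateField.adjoin k (Set.range fun i => φ i / φ 0) ≤ E := by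
      rw [IntermediateField.adjoin_le_iff]
      rintro _ ⟨i, rfl⟩
      exact hfix i
    rw [hbir] at hle
    ext x
    exact hle (IntermediateField.mem_top (x := x))
  · rintro rfl
    exact ⟨1, by simp⟩

end Groth.Agent.S12595
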