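import Groth.Statements.S12596
import Mathlib

set_option autoImplicit false
open FunFld

namespace Groth.Agent.S12596

/-- Over an algebraically closed constant field, replacing a projective map `φ` by `Aφ` for an
invertible matrix `A` over `k` does not change the `τ`-order sequence, and multiplies every
generalized Wronskian determinant `det [τ(φ) | D^(I₁) φ | ⋯ | D^(Iₙ) φ]` (Hasse derivatives taken
with `H`) by `det A`. -/
theorem result
    (k K : Type*) [Field k] [IsAlgClosed k] [Field K] [Algebra k K]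
    (hK : FunFld.IsFunctionField k K) {n : ℕ} (φ : Fin (n + 1) → K) (hφ : LinearIndependent k φ)
    (τ : K →ₐ[k] K) (s : K) (H : K →ₐ[k] PowerSeries K) (hH : LocRes.IsHasseFamily s H)
    (A : Matrix (Fin (n + 1)) (Fin (n + 1)) k) (hA : A.det ≠ 0)
    (φ' : Fin (n + 1) → K) (hφ' : ∀ i, φ' i = ∑ j, A i j • φ j) :
    (∀ J : Fin n → ℕ, FunFld.IsOrders K (FunFld.hcol τ H φ') J ↔ FunFld.IsOrders K (FunFld.hcol τ H φ) J) ∧
    ∀ I : Fin n → ℕ, (FunFld.wrMat τ H φ' I).det = algebraMap k K A.det * (FunFld.wrMat τ H φ I).det := by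
  classical
  obtain ⟨M, hM⟩ : ∃ M : Matrix (Fin (n + 1)) (Fin (n + 1)) K, M = A.map (algebraMap k K) := ⟨_, rfl⟩
  have hdet : M.det = algebraMap k K A.det := by
    rw [hM, RingHom.map_det, RingHom.mapMatrix_apply]
  have hdet0 : M.det ≠ 0 := by
    rw [hdet]; exact (map_ne_zero_iff _ (algebraMap k K).injective).2 hA
  have lin1 : ∀ i, τ (φ' i) = ∑ l, M i l * τ (φ l) := by
    intro i
    rw [hφ' i, map_sum]
    refine Finset.sum_congr rfl (fun l _ => ?_)
    rw [map_smul, Algebra.smul_def, hM, Matrix.map_apply]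
  have lin2 : ∀ j i, LocRes.hasseD H j (φ' i) = ∑ l, M i l * LocRes.hasseD H j (φ l) := by
    intro j i
    rw [LocRes.hasseD_apply, hφ' i, map_sum, map_sum]
    refine Finset.sum_congr rfl (fun l _ => ?_)
    rw [map_smul, ← algebraMap_smul K (A i l) (H (φ l)), map_smul, smul_eq_mul, hM, Matrix.map_apply,
      LocRes.hasseD_apply]
  have hcolM : ∀ j, FunFld.hcol τ H φ' j = M.mulVec (FunFld.hcol τ H φ j) := by
    intro j
    cases j with
    | zero =>
      funext i
      show τ (φ' i) = _
      rw [lin1 i]; rfl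
    | succ j =>
      funext i
      show LocRes.hasseD H j (φ' i) = _
      rw [lin2 j i]; rfl
  have hinj : Function.Injective M.mulVec := Matrix.mulVec_injective_iff_isUnit.2
    ((Matrix.isUnit_iff_isUnit_det M).2 (isUnit_iff_ne_zero.2 hdet0))
  have hjump : ∀ j, FunFld.IsJump K (FunFld.hcol τ H φ') j ↔ FunFld.IsJump K (FunFld.hcol τ H φ) j := by
    intro j
    unfold FunFld.IsJump
    have himg : (FunFld.hcol τ H φ') '' Set.Iio j =
        (Matrix.mulVecLin M) '' ((FunFld.hcol τ H φ) '' Set.Iio j) := by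
      rw [Set.image_image]
      refine Set.image_congr (fun i _ => ?_)
      rw [hcolM i]; rfl
    rw [himg, ← Submodule.map_span, hcolM j]
    constructor
    · intro h h'
      exact h (Submodule.mem_map_of_mem (f := Matrix.mulVecLin M) h')
    · intro h h'
      obtain ⟨y, hy, hyx⟩ := h'
      have : y = FunFld.hcol τ H φ j := hinj hyx
      exact h (this ▸ hy)
  refine ⟨fun J => ?_, fun I => ?_⟩
  · unfold FunFld.IsOrders
    simp only [hjump]
  · have hW : FunFld.wrMat τ H φ' I = M * FunFld.wrMat τ H φ I := by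
      ext i c
      rw [Matrix.mul_apply]
      refine Fin.cases ?_ (fun l => ?_) c
      · show τ (φ' i) = _
        rw [lin1 i]; rfl
      · show LocRes.hasseD H (I l) (φ' i) = _
        rw [lin2 (I l) i]
        refine Finset.sum_congr rfl (fun m _ => ?_)
        simp [FunFld.wrMat]
    rw [hW, Matrix.det_mul, hdet]

end Groth.Agent.S12596
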