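import Groth.Statements.S12612
import Mathlib

set_option autoImplicit false
open FunFld

namespace Groth.Agent.S12612

section H8

open MvPolynomial in
theorem chain_rule {k B M σ : Type*} [Fintype σ] [DecidableEq σ] [CommRing k] [CommRing B]
    [Algebra k B] [AddCommGroup M] [Module B M] [Module k M] [IsScalarTower k B M]
    (d : Derivation k B M) (p : σ → B) (f : MvPolynomial σ k) :
    d (aeval p f) = ∑ i, aeval p (pderiv i f) • d (p i) := by
  induction f using MvPolynomial.induction_on with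
  | C c => simp
  | add q r hq hr => simp only [map_add, hq, hr, add_smul, Finset.sum_add_distrib]
  | mul_X q j ih =>
    rw [map_mul, aeval_X, Derivation.leibniz, ih, Finset.smul_sum]
    have h1 : ∀ i, aeval p (pderiv i (q * X j)) • d (p i) =
        (if j = i then aeval p q • d (p i) else 0) + p j • (aeval p (pderiv i q) • d (p i)) := by
      intro i
      simp only [Derivation.leibniz, pderiv_X, Pi.single_apply, smul_eq_mul, map_add, map_mul,
        aeval_X, add_smul, mul_smul]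
      by_cases h : j = i <;> simp [h]
    simp_rw [h1]
    rw [Finset.sum_add_distrib, Finset.sum_ite_eq, if_pos (Finset.mem_univ _)]

theorem aeval_scale {σ : Type*} [Fintype σ] {k K : Type*} [Field k] [Field K] [Algebra k K]
    (g : MvPolynomial σ k) (r : ℕ) (hg : g.IsHomogeneous r) (c : K) (v : σ → K) :
    MvPolynomial.aeval (fun i => c * v i) g = c ^ r * MvPolynomial.aeval v g := by
  rw [MvPolynomial.aeval_def, MvPolynomial.aeval_def, MvPolynomial.eval₂_eq',
    MvPolynomial.eval₂_eq', Finset.mul_sum]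
  refine Finset.sum_congr rfl (fun d hd => ?_)
  have hd' : MvPolynomial.coeff d g ≠ 0 := MvPolynomial.mem_support_iff.1 hd
  have h1 : d.degree = r := by rw [Finsupp.degree_eq_weight_one]; exact hg hd'
  rw [Finsupp.degree_eq_sum] at h1
  simp_rw [mul_pow]
  rw [Finset.prod_mul_distrib, Finset.prod_pow_eq_pow_sum, h1]
  ring

theorem main_identity {K M : Type*} [Field K] [AddCommGroup M] [Module K M]
    (a : Fin 3 → Fin 3 → K) (u F : Fin 3 → K) (x y : K) (du : Fin 3 → M) (dx dy : M)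
    (E0 : a 0 0 * u 0 + a 0 1 * u 1 + a 0 2 * u 2 = 1)
    (E1 : a 1 0 * u 0 + a 1 1 * u 1 + a 1 2 * u 2 = x)
    (E2 : a 2 0 * u 0 + a 2 1 * u 1 + a 2 2 * u 2 = y)
    (T0 : a 0 0 • du 0 + a 0 1 • du 1 + a 0 2 • du 2 = 0)
    (T1 : a 1 0 • du 0 + a 1 1 • du 1 + a 1 2 • du 2 = dx)
    (T2 : a 2 0 • du 0 + a 2 1 • du 1 + a 2 2 • du 2 = dy)
    (R1 : F 1 • dx + F 2 • dy = 0)
    (R2 : F 0 + x * F 1 + y * F 2 = 0) :
    (F 0 * a 0 2 + F 1 * a 1 2 + F 2 * a 2 2) • dx =
      ((a 0 0 * a 1 1 * a 2 2 - a 0 0 * a 1 2 * a 2 1 - a 0 1 * a 1 0 * a 2 2 +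
        a 0 1 * a 1 2 * a 2 0 + a 0 2 * a 1 0 * a 2 1 - a 0 2 * a 1 1 * a 2 0) * F 2) •
        (u 0 • du 1 - u 1 • du 0) := by
  have hcross : (a 0 0 * a 1 1 * a 2 2 - a 0 0 * a 1 2 * a 2 1 - a 0 1 * a 1 0 * a 2 2 +
        a 0 1 * a 1 2 * a 2 0 + a 0 2 * a 1 0 * a 2 1 - a 0 2 * a 1 1 * a 2 0) •
        (u 0 • du 1 - u 1 • du 0) =
      a 0 2 • ((a 1 0 * u 0 + a 1 1 * u 1 + a 1 2 * u 2) • (a 2 0 • du 0 + a 2 1 • du 1 + a 2 2 • du 2)
        - (a 2 0 * u 0 + a 2 1 * u 1 + a 2 2 * u 2) • (a 1 0 • du 0 + a 1 1 • du 1 + a 1 2 • du 2))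
      + a 1 2 • ((a 2 0 * u 0 + a 2 1 * u 1 + a 2 2 * u 2) • (a 0 0 • du 0 + a 0 1 • du 1 + a 0 2 • du 2)
        - (a 0 0 * u 0 + a 0 1 * u 1 + a 0 2 * u 2) • (a 2 0 • du 0 + a 2 1 • du 1 + a 2 2 • du 2))
      + a 2 2 • ((a 0 0 * u 0 + a 0 1 * u 1 + a 0 2 * u 2) • (a 1 0 • du 0 + a 1 1 • du 1 + a 1 2 • du 2)
        - (a 1 0 * u 0 + a 1 1 * u 1 + a 1 2 * u 2) • (a 0 0 • du 0 + a 0 1 • du 1 + a 0 2 • du 2)) := by
    module
  rw [E0, E1, E2, T0, T1, T2] at hcross
  have hDy : F 2 • dy = -(F 1 • dx) := eq_neg_of_add_eq_zero_right R1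
  symm
  calc ((a 0 0 * a 1 1 * a 2 2 - a 0 0 * a 1 2 * a 2 1 - a 0 1 * a 1 0 * a 2 2 +
        a 0 1 * a 1 2 * a 2 0 + a 0 2 * a 1 0 * a 2 1 - a 0 2 * a 1 1 * a 2 0) * F 2) •
        (u 0 • du 1 - u 1 • du 0)
      = F 2 • ((a 0 0 * a 1 1 * a 2 2 - a 0 0 * a 1 2 * a 2 1 - a 0 1 * a 1 0 * a 2 2 +
        a 0 1 * a 1 2 * a 2 0 + a 0 2 * a 1 0 * a 2 1 - a 0 2 * a 1 1 * a 2 0) •
        (u 0 • du 1 - u 1 • du 0)) := by rw [mul_comm, mul_smul]
    _ = F 2 • (a 0 2 • (x • dy - y • dx) + a 1 2 • (y • (0 : M) - (1 : K) • dy)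
          + a 2 2 • ((1 : K) • dx - x • (0 : M))) := by rw [hcross]
    _ = (a 0 2 * x) • (F 2 • dy) - (a 0 2 * y * F 2) • dx - a 1 2 • (F 2 • dy)
          + (a 2 2 * F 2) • dx := by module
    _ = (-(a 0 2 * x * F 1) - a 0 2 * y * F 2 + a 1 2 * F 1 + a 2 2 * F 2) • dx := by
        rw [hDy]; module
    _ = (F 0 * a 0 2 + F 1 * a 1 2 + F 2 * a 2 2) • dx := by
        congr 1
        linear_combination (-a 0 2) * R2

theorem scal_lemma {K : Type*} [Field K] (detK t G2 F2 : K) (n : ℕ) (ht : t ≠ 0) (hG : G2 ≠ 0)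
    (hF : F2 ≠ 0) :
    detK * (t ^ n * (t ^ 2)⁻¹) * (t ^ n * G2)⁻¹ * t ^ 2 = F2⁻¹ * G2⁻¹ * (detK * F2) := by
  have := pow_ne_zero n ht
  field_simp

theorem h8_general (k K : Type*) [Field k] [Field K] [Algebra k K]
    (f : MvPolynomial (Fin 3) k) (e : ℕ) (hf : f.IsHomogeneous e) (he1 : 1 ≤ e)
    (x y : K) (hfxy : MvPolynomial.aeval ![(1 : K), x, y] f = 0)
    (A : Matrix (Fin 3) (Fin 3) k)
    (u : Fin 3 → K) (hu : ∀ i, ∑ j, algebraMap k K (A i j) * u j = ![(1 : K), x, y] i)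
    (hu0 : u 0 ≠ 0)
    (hfy : MvPolynomial.aeval ![(1 : K), x, y] (MvPolynomial.pderiv 2 f) ≠ 0)
    (hfy' : MvPolynomial.aeval ![(1 : K), u 1 / u 0, u 2 / u 0]
      (MvPolynomial.pderiv 2
        (MvPolynomial.aeval (fun i : Fin 3 => ∑ j, MvPolynomial.C (A i j) * MvPolynomial.X j) f)) ≠ 0) :
    (MvPolynomial.aeval ![(1 : K), x, y] (MvPolynomial.pderiv 2 f))⁻¹ • KaehlerDifferential.D k K x =
      (algebraMap k K A.det * (u 0)⁻¹ ^ ((e : ℤ) - 3) *
        (MvPolynomial.aeval ![(1 : K), u 1 / u 0, u 2 / u 0]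
          (MvPolynomial.pderiv 2
            (MvPolynomial.aeval (fun i : Fin 3 => ∑ j, MvPolynomial.C (A i j) * MvPolynomial.X j) f)))⁻¹) •
        KaehlerDifferential.D k K (u 1 / u 0) := by
  classical
  have hL : ∀ i, MvPolynomial.aeval u (∑ j, MvPolynomial.C (A i j) * MvPolynomial.X j) =
      ![(1 : K), x, y] i := by
    intro i
    rw [map_sum, ← hu i]
    refine Finset.sum_congr rfl (fun j _ => ?_)
    rw [map_mul, MvPolynomial.aeval_C, MvPolynomial.aeval_X]
  have hcomp : ∀ g : MvPolynomial (Fin 3) k,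
      MvPolynomial.aeval u (MvPolynomial.aeval
        (fun i : Fin 3 => ∑ j, MvPolynomial.C (A i j) * MvPolynomial.X j) g)
        = MvPolynomial.aeval ![(1 : K), x, y] g := by
    intro g
    induction g using MvPolynomial.induction_on with
    | C c => simp
    | add p q hp hq => simp only [map_add, hp, hq]
    | mul_X p j hp => simp only [map_mul, MvPolynomial.aeval_X, hp, hL]
  have hB : MvPolynomial.aeval u (MvPolynomial.pderiv 2 (MvPolynomial.aeval
        (fun i : Fin 3 => ∑ j, MvPolynomial.C (A i j) * MvPolynomial.X j) f)) =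
      MvPolynomial.aeval ![(1 : K), x, y] (MvPolynomial.pderiv 0 f) * algebraMap k K (A 0 2) +
      MvPolynomial.aeval ![(1 : K), x, y] (MvPolynomial.pderiv 1 f) * algebraMap k K (A 1 2) +
      MvPolynomial.aeval ![(1 : K), x, y] (MvPolynomial.pderiv 2 f) * algebraMap k K (A 2 2) := by
    rw [chain_rule (MvPolynomial.pderiv 2)
      (fun i : Fin 3 => ∑ j, MvPolynomial.C (A i j) * MvPolynomial.X j) f, map_sum,
      Fin.sum_univ_three]
    simp only [smul_eq_mul, map_mul, hcomp]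
    have hp : ∀ i : Fin 3, MvPolynomial.aeval u (MvPolynomial.pderiv 2
        (∑ j, MvPolynomial.C (A i j) * MvPolynomial.X j : MvPolynomial (Fin 3) k)) =
        algebraMap k K (A i 2) := by
      intro i
      simp [Fin.sum_univ_three]
    rw [hp 0, hp 1, hp 2]
  have hvec : (![(1 : K), u 1 / u 0, u 2 / u 0] : Fin 3 → K) = fun i => (u 0)⁻¹ * u i := by
    funext i
    fin_cases i
    · simp [hu0]
    · simp [div_eq_inv_mul]
    · simp [div_eq_inv_mul]
  have hLhom : ∀ i : Fin 3, (∑ j, MvPolynomial.C (A i j) * MvPolynomial.X j :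
      MvPolynomial (Fin 3) k).IsHomogeneous 1 :=
    fun i => MvPolynomial.IsHomogeneous.sum _ _ _
      (fun j _ => MvPolynomial.isHomogeneous_C_mul_X _ _)
  have hf' : (MvPolynomial.aeval
      (fun i : Fin 3 => ∑ j, MvPolynomial.C (A i j) * MvPolynomial.X j) f).IsHomogeneous e := by
    have := hf.aeval (fun i : Fin 3 => ∑ j, MvPolynomial.C (A i j) * MvPolynomial.X j) hLhom
    rwa [one_mul] at this
  have hg := hf'.pderiv (i := (2 : Fin 3))
  have hval : MvPolynomial.aeval ![(1 : K), u 1 / u 0, u 2 / u 0]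
      (MvPolynomial.pderiv 2 (MvPolynomial.aeval
        (fun i : Fin 3 => ∑ j, MvPolynomial.C (A i j) * MvPolynomial.X j) f)) =
      (u 0)⁻¹ ^ (e - 1) *
      (MvPolynomial.aeval ![(1 : K), x, y] (MvPolynomial.pderiv 0 f) * algebraMap k K (A 0 2) +
      MvPolynomial.aeval ![(1 : K), x, y] (MvPolynomial.pderiv 1 f) * algebraMap k K (A 1 2) +
      MvPolynomial.aeval ![(1 : K), x, y] (MvPolynomial.pderiv 2 f) * algebraMap k K (A 2 2)) := by
    rw [hvec, aeval_scale _ _ hg, hB]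
  have ht : (u 0)⁻¹ ≠ 0 := inv_ne_zero hu0
  have hG2 : MvPolynomial.aeval ![(1 : K), x, y] (MvPolynomial.pderiv 0 f) * algebraMap k K (A 0 2) +
      MvPolynomial.aeval ![(1 : K), x, y] (MvPolynomial.pderiv 1 f) * algebraMap k K (A 1 2) +
      MvPolynomial.aeval ![(1 : K), x, y] (MvPolynomial.pderiv 2 f) * algebraMap k K (A 2 2) ≠ 0 := by
    rw [hval] at hfy'
    exact right_ne_zero_of_mul hfy'
  have E : ∀ i, algebraMap k K (A i 0) * u 0 + algebraMap k K (A i 1) * u 1 +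
      algebraMap k K (A i 2) * u 2 = ![(1 : K), x, y] i := by
    intro i
    rw [← hu i, Fin.sum_univ_three]
  have T : ∀ i, algebraMap k K (A i 0) • KaehlerDifferential.D k K (u 0) +
      algebraMap k K (A i 1) • KaehlerDifferential.D k K (u 1) +
      algebraMap k K (A i 2) • KaehlerDifferential.D k K (u 2) =
      KaehlerDifferential.D k K (![(1 : K), x, y] i) := by
    intro i
    rw [← hu i, map_sum, Fin.sum_univ_three]
    simp only [Derivation.leibniz, Derivation.map_algebraMap, smul_zero, add_zero]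
  have T0 : algebraMap k K (A 0 0) • KaehlerDifferential.D k K (u 0) +
      algebraMap k K (A 0 1) • KaehlerDifferential.D k K (u 1) +
      algebraMap k K (A 0 2) • KaehlerDifferential.D k K (u 2) = 0 := by
    rw [T 0]
    show KaehlerDifferential.D k K (1 : K) = 0
    exact Derivation.map_one_eq_zero _
  have R1 : MvPolynomial.aeval ![(1 : K), x, y] (MvPolynomial.pderiv 1 f) •
        KaehlerDifferential.D k K x +
      MvPolynomial.aeval ![(1 : K), x, y] (MvPolynomial.pderiv 2 f) •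
        KaehlerDifferential.D k K y = 0 := by
    have h := chain_rule (KaehlerDifferential.D k K) ![(1 : K), x, y] f
    rw [hfxy, map_zero, Fin.sum_univ_three] at h
    simpa using h.symm
  have R2 : MvPolynomial.aeval ![(1 : K), x, y] (MvPolynomial.pderiv 0 f) +
      x * MvPolynomial.aeval ![(1 : K), x, y] (MvPolynomial.pderiv 1 f) +
      y * MvPolynomial.aeval ![(1 : K), x, y] (MvPolynomial.pderiv 2 f) = 0 := by
    have h := congrArg (MvPolynomial.aeval ![(1 : K), x, y]) hf.sum_X_mul_pderiv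
    rw [map_sum, Fin.sum_univ_three, map_nsmul, hfxy, smul_zero] at h
    simpa using h
  have key := main_identity (fun i j => algebraMap k K (A i j)) u
    (fun i => MvPolynomial.aeval ![(1 : K), x, y] (MvPolynomial.pderiv i f)) x y
    (fun j => KaehlerDifferential.D k K (u j)) (KaehlerDifferential.D k K x)
    (KaehlerDifferential.D k K y) (E 0) (E 1) (E 2) T0 (T 1) (T 2) R1 R2
  beta_reduce at key
  have hdet : algebraMap k K A.det =
      algebraMap k K (A 0 0) * algebraMap k K (A 1 1) * algebraMap k K (A 2 2) -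
      algebraMap k K (A 0 0) * algebraMap k K (A 1 2) * algebraMap k K (A 2 1) -
      algebraMap k K (A 0 1) * algebraMap k K (A 1 0) * algebraMap k K (A 2 2) +
      algebraMap k K (A 0 1) * algebraMap k K (A 1 2) * algebraMap k K (A 2 0) +
      algebraMap k K (A 0 2) * algebraMap k K (A 1 0) * algebraMap k K (A 2 1) -
      algebraMap k K (A 0 2) * algebraMap k K (A 1 1) * algebraMap k K (A 2 0) := by
    rw [Matrix.det_fin_three]
    simp only [map_sub, map_add, map_mul]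
  have hz : (u 0)⁻¹ ^ ((e : ℤ) - 3) = (u 0)⁻¹ ^ (e - 1) * ((u 0)⁻¹ ^ 2)⁻¹ := by
    have h3 : ((e : ℤ) - 3) = ((e - 1 : ℕ) : ℤ) - ((2 : ℕ) : ℤ) := by omega
    rw [h3, zpow_sub₀ ht, zpow_natCast, zpow_natCast, div_eq_mul_inv]
  have hdiv : KaehlerDifferential.D k K (u 1 / u 0) = (u 0)⁻¹ ^ 2 •
      (u 0 • KaehlerDifferential.D k K (u 1) - u 1 • KaehlerDifferential.D k K (u 0)) :=
    Derivation.leibniz_div _ _ _
  rw [hval, hdiv, hz, hdet, smul_smul, scal_lemma _ _ _ _ (e - 1) ht hG2 hfy, mul_smul, ← key,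
    smul_smul, mul_assoc, inv_mul_cancel₀ hG2, mul_one]

end H8


/-- For a plane curve given by a homogeneous `f` of degree `e` with `f(1, x, y) = 0` and a change of
projective coordinates `X = AX'` (`A` invertible over `k`), with new affine coordinates `x' =
u₁/u₀`, `y' = u₂/u₀`, `z = 1/u₀ = X₀/X₀'` where `u = A⁻¹(1, x, y)ᵗ`, and `f'(X') = f(AX')`, the
differentials satisfy `dx/f̂_y = det(A) z^(e-3) dx'/f̂'_{y'}`, where `f̂_y = (∂f/∂X₂)(1, x, y)` and
`f̂'_{y'} = (∂f'/∂X₂')(1, x', y')` are assumed nonzero. (Stated for any field `K` over `k`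
containing such `x`, `y`; the published setting is a plane model of a function field over an
algebraically closed field, and the computation uses only the relation `f(1, x, y) = 0`.) -/
theorem result
    (k K : Type*) [Field k] [Field K] [Algebra k K]
    (f : MvPolynomial (Fin 3) k) (e : ℕ) (hf : f.IsHomogeneous e)
    (x y : K) (hfxy : MvPolynomial.aeval ![(1 : K), x, y] f = 0)
    (A : Matrix (Fin 3) (Fin 3) k) (hA : A.det ≠ 0)
    (u : Fin 3 → K) (hu : ∀ i, ∑ j, algebraMap k K (A i j) * u j = ![(1 : K), x, y] i)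
    (hu0 : u 0 ≠ 0)
    (hfy : MvPolynomial.aeval ![(1 : K), x, y] (MvPolynomial.pderiv 2 f) ≠ 0)
    (hfy' : MvPolynomial.aeval ![(1 : K), u 1 / u 0, u 2 / u 0]
      (MvPolynomial.pderiv 2
        (MvPolynomial.aeval (fun i : Fin 3 => ∑ j, MvPolynomial.C (A i j) * MvPolynomial.X j) f)) ≠ 0) :
    (MvPolynomial.aeval ![(1 : K), x, y] (MvPolynomial.pderiv 2 f))⁻¹ • KaehlerDifferential.D k K x =
      (algebraMap k K A.det * (u 0)⁻¹ ^ ((e : ℤ) - 3) *
        (MvPolynomial.aeval ![(1 : K), u 1 / u 0, u 2 / u 0]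
          (MvPolynomial.pderiv 2
            (MvPolynomial.aeval (fun i : Fin 3 => ∑ j, MvPolynomial.C (A i j) * MvPolynomial.X j) f)))⁻¹) •
        KaehlerDifferential.D k K (u 1 / u 0) := by
  have he1 : 1 ≤ e := by
    by_contra hcon
    have he0 : e = 0 := by omega
    subst he0
    rw [← MvPolynomial.totalDegree_zero_iff_isHomogeneous,
      MvPolynomial.totalDegree_eq_zero_iff_eq_C] at hf
    apply hfy
    rw [hf, MvPolynomial.pderiv_C, map_zero]
  exact h8_general k K f e hf he1 x y hfxy A u hu hu0 hfy hfy'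

end Groth.Agent.S12612
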