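import Groth.Statements.S12620
import Mathlib

set_option autoImplicit false
universe u v w
open LocRes

namespace Groth.Agent.S12620

/-- Let `K` be a field with a valuation `w` into `ℤ ∪ {0}` and `φ : K → F((X))` a `k`-algebra expansion
at `w` in a local parameter (valuation-compatible, valuation ring onto the coefficient field `F`,
`w` normalised). Then for every nonzero `f` the residue of the logarithmic differential `f⁻¹ df`
read through `φ` — the `X⁻¹`-coefficient of `φ(f)⁻¹ · (φ f)′` — is the order of `f` at `w` (the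
integer `n` with `w f = exp (-n)`), viewed in `F`. (The published statement is for a complete field
with a perfect coefficient field and its intrinsic residue; read through an expansion neither
completeness nor perfectness plays a role.) -/
theorem result {k : Type u} {K : Type v} {F : Type w} [CommRing k] [Field K] [Field F]
    [Algebra k K] [Algebra k F]
    (w : Valuation K (WithZero (Multiplicative ℤ))) (φ : K →ₐ[k] LaurentSeries F)
    (hφ : LocRes.IsExpansionAt w φ) (f : K) (hf : f ≠ 0) :
    LocRes.resExp φ f⁻¹ f = ((-WithZero.log (w f) : ℤ) : F) := by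
  have hinj : Function.Injective φ := φ.toRingHom.injective
  obtain ⟨G, hG⟩ : ∃ G, G = φ f := ⟨_, rfl⟩
  have hG0 : G ≠ 0 := by rw [hG]; exact (map_ne_zero_iff φ hinj).2 hf
  obtain ⟨a, ha⟩ : ∃ a : ℤ, a = G.order := ⟨_, rfl⟩
  obtain ⟨p, hp⟩ : ∃ p : PowerSeries F, p = G.powerSeriesPart := ⟨_, rfl⟩
  have hGp : HahnSeries.single a (1 : F) * HahnSeries.ofPowerSeries ℤ F p = G := by
    rw [ha, hp]; exact LaurentSeries.single_order_mul_powerSeriesPart G
  have hp0 : PowerSeries.constantCoeff p ≠ 0 := by
    rw [hp, ← PowerSeries.coeff_zero_eq_constantCoeff_apply, LaurentSeries.powerSeriesPart_coeff,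
      Nat.cast_zero, add_zero]
    exact fun h => hG0 (HahnSeries.coeff_order_eq_zero.1 h)
  have hpq : p * p⁻¹ = 1 := PowerSeries.mul_inv_cancel p hp0
  have e1 : HahnSeries.single (-a) (1 : F) * HahnSeries.single a (1 : F) = 1 := by
    rw [HahnSeries.single_mul_single]; simp
  have e2 : HahnSeries.single (-a) (1 : F) * HahnSeries.single (a - 1) (a • (1 : F)) =
      HahnSeries.single (-1 : ℤ) (a • (1 : F)) := by
    rw [HahnSeries.single_mul_single, one_mul]
    have : -a + (a - 1) = -1 := by ring
    rw [this]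
  have e3 : HahnSeries.ofPowerSeries ℤ F p⁻¹ * HahnSeries.ofPowerSeries ℤ F p = 1 := by
    rw [← map_mul, mul_comm, hpq, map_one]
  have hGinv : G⁻¹ = HahnSeries.single (-a) (1 : F) * HahnSeries.ofPowerSeries ℤ F p⁻¹ := by
    apply inv_eq_of_mul_eq_one_right
    rw [← hGp]
    linear_combination (HahnSeries.ofPowerSeries ℤ F p⁻¹ * HahnSeries.ofPowerSeries ℤ F p) * e1 + e3
  have hDG : LocRes.D F G = HahnSeries.single a (1 : F) *
      HahnSeries.ofPowerSeries ℤ F (PowerSeries.derivative F p) +
      HahnSeries.single (a - 1) (a • (1 : F)) * HahnSeries.ofPowerSeries ℤ F p := by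
    rw [← hGp, LocRes.D_apply, LocRes.derivative_single_mul, ← LocRes.D_apply, LocRes.D_coe]
  have hprod : G⁻¹ * LocRes.D F G =
      HahnSeries.ofPowerSeries ℤ F (p⁻¹ * PowerSeries.derivative F p) +
        HahnSeries.single (-1 : ℤ) (a • (1 : F)) := by
    rw [hGinv, hDG, map_mul]
    linear_combination (HahnSeries.ofPowerSeries ℤ F p⁻¹ *
      HahnSeries.ofPowerSeries ℤ F (PowerSeries.derivative F p)) * e1 +
      (HahnSeries.ofPowerSeries ℤ F p⁻¹ * HahnSeries.ofPowerSeries ℤ F p) * e2 +
      HahnSeries.single (-1 : ℤ) (a • (1 : F)) * e3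
  have hval : Valued.v G = WithZero.exp (-a) := by
    have h1 : Valued.v (HahnSeries.ofPowerSeries ℤ F p) ≤ 1 :=
      (LaurentSeries.val_le_one_iff_eq_coe F _).2 ⟨p, rfl⟩
    have h2 : Valued.v (HahnSeries.ofPowerSeries ℤ F p⁻¹) ≤ 1 :=
      (LaurentSeries.val_le_one_iff_eq_coe F _).2 ⟨p⁻¹, rfl⟩
    have h3 : Valued.v (HahnSeries.ofPowerSeries ℤ F p⁻¹) *
        Valued.v (HahnSeries.ofPowerSeries ℤ F p) = 1 := by
      rw [← map_mul, e3, map_one]
    have h4 : Valued.v (HahnSeries.ofPowerSeries ℤ F p) = 1 := by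
      apply le_antisymm h1
      by_contra hlt
      rw [not_le] at hlt
      have : Valued.v (HahnSeries.ofPowerSeries ℤ F p⁻¹) *
          Valued.v (HahnSeries.ofPowerSeries ℤ F p) < 1 := by
        calc _ ≤ 1 * Valued.v (HahnSeries.ofPowerSeries ℤ F p) := mul_le_mul_left h2 _
          _ = Valued.v (HahnSeries.ofPowerSeries ℤ F p) := one_mul _
          _ < 1 := hlt
      rw [h3] at this
      exact lt_irrefl _ this
    rw [← hGp, map_mul, h4, mul_one, LaurentSeries.valuation_single_zpow]
  rw [LocRes.resExp, map_inv₀, ← hG, hprod, LocRes.res_apply, HahnSeries.coeff_add,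
    PowerSeries.coeff_coe, if_pos (by norm_num), zero_add, HahnSeries.coeff_single_same]
  have hwf : w f = WithZero.exp (-a) := by rw [← hφ.1, ← hG, hval]
  rw [hwf, WithZero.log_exp, neg_neg, zsmul_one]

end Groth.Agent.S12620
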