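import Groth.Statements.S12711
import Mathlib

set_option autoImplicit false
universe u v
open CategoryTheory
open ArtFun ArtFun.Art

namespace Groth.Agent.S12711

/-- If B together with p₁ : B → A₁ and p₂ : B → A₂ is the fibre product A₁ ×_A A₂ in the category of
Artinian local Λ-algebras with residue field k, and f₂ : A₂ → A is a small extension, then the
projection p₁ : B → A₁ is a small extension. -/
theorem result {Λ : Type u} {k : Type u} [CommRing Λ] [Field k] [Algebra Λ k]
    [IsNoetherianRing Λ] [Module.Finite Λ k]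
    {B A A₁ A₂ : ArtFun.Art Λ k} {p₁ : B ⟶ A₁} {p₂ : B ⟶ A₂} {f₁ : A₁ ⟶ A} {f₂ : A₂ ⟶ A}
    (h : ArtFun.Art.IsFibreProd p₁ p₂ f₁ f₂) (hf₂ : ArtFun.Art.IsSmallExt f₂) :
    ArtFun.Art.IsSmallExt p₁ := by
  classical
  obtain ⟨hsurj, hne, hprin, hkill⟩ := hf₂
  have hw : ∀ b : B, f₁ (p₁ b) = f₂ (p₂ b) := fun b => h.w_apply b
  -- helper: membership in maximal ideal via res
  have hmax₂ : ∀ {x y : A₂}, A₂.res x = A₂.res y → x - y ∈ IsLocalRing.maximalIdeal A₂ := by
    intro x y hxy
    rw [ArtFun.Art.mem_maximalIdeal_iff, map_sub, hxy, sub_self]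
  have hkill' : ∀ (m : A₂) (t : A₂), m ∈ IsLocalRing.maximalIdeal A₂ → f₂ t = 0 → m * t = 0 := by
    intro m t hm ht
    have : m * t ∈ IsLocalRing.maximalIdeal A₂ * RingHom.ker f₂.toAlgHom :=
      Ideal.mul_mem_mul hm (by rw [RingHom.mem_ker]; exact ht)
    rw [hkill] at this
    exact this
  refine ⟨?_, ?_, ?_, ?_⟩
  · intro a₁
    obtain ⟨a₂, ha₂⟩ := hsurj (f₁ a₁)
    obtain ⟨b, hb, -⟩ := h.surj a₁ a₂ ha₂.symm
    exact ⟨b, hb⟩
  · intro hbot
    apply hne
    rw [eq_bot_iff]
    intro t ht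
    rw [RingHom.mem_ker] at ht
    have ht' : f₂ t = 0 := ht
    obtain ⟨b, hb1, hb2⟩ := h.surj 0 t (by rw [ht']; exact map_zero f₁.toAlgHom)
    have hbk : b ∈ RingHom.ker p₁.toAlgHom := by rw [RingHom.mem_ker]; exact hb1
    rw [hbot] at hbk
    have hb0 : b = 0 := hbk
    rw [hb0] at hb2
    rw [Ideal.mem_bot, ← hb2]
    exact map_zero p₂.toAlgHom
  · obtain ⟨t, ht⟩ := hprin
    have htk : f₂ t = 0 := by
      have : t ∈ RingHom.ker f₂.toAlgHom := by rw [ht]; exact Ideal.mem_span_singleton_self t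
      exact this
    obtain ⟨bt, hbt1, hbt2⟩ := h.surj 0 t (by rw [htk]; exact map_zero f₁.toAlgHom)
    refine ⟨⟨bt, ?_⟩⟩
    apply le_antisymm
    · intro b hb
      have hb1 : p₁ b = 0 := hb
      have hb2 : p₂ b ∈ RingHom.ker f₂.toAlgHom := by
        rw [RingHom.mem_ker]
        show f₂ (p₂ b) = 0
        rw [← hw, hb1]; exact map_zero f₁.toAlgHom
      rw [ht] at hb2
      obtain ⟨c, hc⟩ := Ideal.mem_span_singleton'.mp hb2
      obtain ⟨c', hc'⟩ := B.res_surjective (A₂.res c)
      show b ∈ Ideal.span {bt}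
      rw [Ideal.mem_span_singleton']
      refine ⟨c', ?_⟩
      apply h.inj
      · show p₁ (c' * bt) = p₁ b
        rw [hb1]
        show p₁.toAlgHom (c' * bt) = 0
        rw [map_mul]
        have : p₁.toAlgHom bt = 0 := hbt1
        rw [this, mul_zero]
      · show p₂.toAlgHom (c' * bt) = p₂ b
        rw [map_mul]
        have e1 : p₂.toAlgHom bt = t := hbt2
        rw [e1, ← hc]
        have hres : A₂.res (p₂.toAlgHom c') = A₂.res c := by
          have := ArtFun.Art.res_app p₂ c'
          rw [hc'] at this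
          exact this
        have := hkill' _ t (hmax₂ hres) htk
        rw [sub_mul, sub_eq_zero] at this
        exact this
    · rw [Submodule.span_le] -- span {bt} ≤ ker
      intro x hx
      rw [Set.mem_singleton_iff] at hx
      rw [hx]
      show bt ∈ RingHom.ker p₁.toAlgHom
      rw [RingHom.mem_ker]; exact hbt1
  · rw [eq_bot_iff, Ideal.mul_le]
    intro m hm b hb
    have hb1 : p₁ b = 0 := hb
    rw [Ideal.mem_bot]
    apply h.inj
    · show p₁.toAlgHom (m * b) = p₁.toAlgHom 0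
      rw [map_mul, map_zero]
      have : p₁.toAlgHom b = 0 := hb1
      rw [this, mul_zero]
    · show p₂.toAlgHom (m * b) = p₂.toAlgHom 0
      rw [map_mul, map_zero]
      apply hkill'
      · rw [ArtFun.Art.mem_maximalIdeal_iff]
        have := ArtFun.Art.res_app p₂ m
        rw [this]
        exact (ArtFun.Art.mem_maximalIdeal_iff B m).mp hm
      · show f₂ (p₂ b) = 0
        rw [← hw, hb1]; exact map_zero f₁.toAlgHom

end Groth.Agent.S12711
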