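import Groth.Statements.S12713
import Mathlib

set_option autoImplicit false
universe u v
open CategoryTheory
open ArtFun ArtFun.Art

namespace Groth.Agent.S12713

/-- A small extension f : B → A in the category of Artinian local Λ-algebras with residue field k is not
an essential surjection (some morphism g : C → B is non-surjective although the composite C → A is
surjective) if and only if f has a section A → B in the category. -/
theorem result {Λ : Type u} {k : Type u} [CommRing Λ] [Field k] [Algebra Λ k]
    [IsNoetherianRing Λ] [Module.Finite Λ k]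
    {A B : ArtFun.Art Λ k} (f : B ⟶ A) (hf : ArtFun.Art.IsSmallExt f) :
    (∃ (C : ArtFun.Art Λ k) (g : C ⟶ B), Function.Surjective (g ≫ f) ∧ ¬ Function.Surjective g) ↔
      ∃ s : A ⟶ B, s ≫ f = 𝟙 A := by
  classical
  obtain ⟨hsurj, hne, hprin, hkill⟩ := hf
  constructor
  · rintro ⟨C, g, hgf, hg⟩
    obtain ⟨t, ht⟩ := hprin
    have htk : f t = 0 := by
      have : t ∈ RingHom.ker f.toAlgHom := by rw [ht]; exact Ideal.mem_span_singleton_self t
      exact this
    have hmt : ∀ m ∈ IsLocalRing.maximalIdeal B, m * t = 0 := by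
      intro m hm
      have : m * t ∈ IsLocalRing.maximalIdeal B * RingHom.ker f.toAlgHom :=
        Ideal.mul_mem_mul hm (by rw [RingHom.mem_ker]; exact htk)
      rw [hkill] at this
      exact this
    let B' : Subalgebra Λ B := g.toAlgHom.range
    -- every element of B is in B' + ker f
    have hdecomp : ∀ b : B, ∃ c : C, f (b - g c) = 0 := by
      intro b
      obtain ⟨c, hc⟩ := hgf (f b)
      refine ⟨c, ?_⟩
      show f.toAlgHom (b - g c) = 0
      rw [map_sub, sub_eq_zero]
      exact hc.symm
    -- t ∉ B'
    have htB' : t ∉ B' := by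
      intro htB
      apply hg
      intro b
      obtain ⟨c, hc⟩ := hdecomp b
      have hmem : b - g c ∈ RingHom.ker f.toAlgHom := hc
      rw [ht] at hmem
      obtain ⟨d, hd⟩ := Ideal.mem_span_singleton'.mp hmem
      -- d * t ∈ B'
      obtain ⟨c', hc'⟩ := C.res_surjective (B.res d)
      have hdt : d * t = g c' * t := by
        have : (d - g c') ∈ IsLocalRing.maximalIdeal B := by
          rw [ArtFun.Art.mem_maximalIdeal_iff, map_sub, ArtFun.Art.res_app g c', hc', sub_self]
        have := hmt _ this
        rw [sub_mul, sub_eq_zero] at this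
        exact this
      have hbB' : b ∈ B' := by
        have hb : b = g c + g c' * t := by rw [← hdt, hd]; ring
        rw [hb]
        exact B'.add_mem ⟨c, rfl⟩ (B'.mul_mem ⟨c', rfl⟩ htB)
      obtain ⟨c₀, hc₀⟩ := hbB'
      exact ⟨c₀, hc₀⟩
    -- B' ∩ ker f = 0
    have hinter : ∀ b ∈ B', f b = 0 → b = 0 := by
      intro b hb hfb
      have hmem : b ∈ RingHom.ker f.toAlgHom := hfb
      rw [ht] at hmem
      obtain ⟨d, hd⟩ := Ideal.mem_span_singleton'.mp hmem
      by_cases hdm : d ∈ IsLocalRing.maximalIdeal B
      · rw [← hd, hmt d hdm]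
      · exfalso
        apply htB'
        have hdu : IsUnit d := by
          by_contra hnu
          exact hdm ((IsLocalRing.mem_maximalIdeal d).mpr hnu)
        obtain ⟨u, rfl⟩ := hdu
        obtain ⟨c', hc'⟩ := C.res_surjective (B.res (↑u⁻¹ : B))
        have : (g c' - (↑u⁻¹ : B)) ∈ IsLocalRing.maximalIdeal B := by
          rw [ArtFun.Art.mem_maximalIdeal_iff, map_sub, ArtFun.Art.res_app g c', hc', sub_self]
        have h1 := hmt _ this
        rw [sub_mul, sub_eq_zero] at h1
        -- t = u⁻¹ * (u * t) = ...
        have h2 : g c' * b = t := by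
          rw [← hd, ← mul_assoc]
          have : g c' * (u : B) = 1 + (g c' - (↑u⁻¹ : B)) * u := by
            rw [sub_mul, Units.inv_mul]; ring
          rw [this, add_mul, one_mul, mul_assoc, mul_comm (u : B) t, ← mul_assoc,
            hmt _ ‹_›, zero_mul, add_zero]
        rw [← h2]
        exact B'.mul_mem ⟨c', rfl⟩ hb
    let fB' : B' →ₐ[Λ] A := f.toAlgHom.comp B'.val
    have hbij : Function.Bijective fB' := by
      constructor
      · rw [injective_iff_map_eq_zero]
        intro b hb
        apply Subtype.ext
        exact hinter b.1 b.2 hb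
      · intro a
        obtain ⟨c, hc⟩ := hgf a
        exact ⟨⟨g c, c, rfl⟩, hc⟩
    let e : B' ≃ₐ[Λ] A := AlgEquiv.ofBijective fB' hbij
    have he : ∀ a : A, f ((e.symm a : B') : B) = a := fun a => e.apply_symm_apply a
    let sAlg : A →ₐ[Λ] B := B'.val.comp (e.symm : A →ₐ[Λ] B')
    refine ⟨ArtFun.Art.homMk sAlg ?_, ?_⟩
    · apply AlgHom.ext
      intro a
      show B.res ((e.symm a : B') : B) = A.res a
      rw [← ArtFun.Art.res_app f, he]
    · apply ArtFun.Art.hom_ext
      apply AlgHom.ext
      intro a
      exact he a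
  · rintro ⟨s, hs⟩
    refine ⟨A, s, ?_, ?_⟩
    · rw [hs]
      exact fun a => ⟨a, rfl⟩
    · intro hsur
      apply hne
      rw [eq_bot_iff]
      intro b hb
      obtain ⟨a, rfl⟩ := hsur b
      have hfa : f (s a) = 0 := hb
      have : f (s a) = a := congrArg (fun g : A ⟶ A => g a) hs
      rw [this] at hfa
      rw [Ideal.mem_bot, hfa]
      exact map_zero s.toAlgHom

end Groth.Agent.S12713
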