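import Groth.Statements.S12714
import Mathlib
import Groth.Agent.Lib.helper6.ArtCSurj

set_option autoImplicit false
universe u v
open CategoryTheory
open ArtFun ArtFun.CRing

namespace Groth.Agent.S12714

/-- For a morphism f : R → S of complete local Noetherian Λ-algebras with residue field k (compatible
with the augmentations to k), the following are equivalent: (1) f is surjective; (2) m_R/m_R² →
m_S/m_S² is surjective, written as f(m_R)S + m_S² = m_S; (3) the map of cotangent spaces relative to
Λ is surjective, written as m_Λ S + f(m_R)S + m_S² = m_S with m_Λ the kernel of Λ → k. -/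
theorem result {Λ : Type u} {k : Type u} [CommRing Λ] [Field k] [Algebra Λ k]
    [IsNoetherianRing Λ] [Module.Finite Λ k]
    (R S : ArtFun.CRing Λ k) (f : R.carrier →ₐ[Λ] S.carrier) (hf : S.res.comp f = R.res) :
    List.TFAE [Function.Surjective f,
      Ideal.map f (IsLocalRing.maximalIdeal R.carrier) ⊔ IsLocalRing.maximalIdeal S.carrier ^ 2 =
        IsLocalRing.maximalIdeal S.carrier,
      Ideal.map (algebraMap Λ S.carrier) (RingHom.ker (algebraMap Λ k)) ⊔
        Ideal.map f (IsLocalRing.maximalIdeal R.carrier) ⊔ IsLocalRing.maximalIdeal S.carrier ^ 2 =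
        IsLocalRing.maximalIdeal S.carrier] := by
  classical
  have hmle := Groth.Agent.Lib.helper6.H6_cring_map_maximalIdeal_le R S f hf
  have hsq : IsLocalRing.maximalIdeal S.carrier ^ 2 ≤ IsLocalRing.maximalIdeal S.carrier :=
    Ideal.pow_le_self two_ne_zero
  have hΛ : Ideal.map (algebraMap Λ S.carrier) (RingHom.ker (algebraMap Λ k)) ≤
      Ideal.map f (IsLocalRing.maximalIdeal R.carrier) := by
    rw [Ideal.map_le_iff_le_comap]
    intro l hl
    rw [Ideal.mem_comap, ← f.commutes l]
    apply Ideal.mem_map_of_mem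
    rw [ArtFun.CRing.mem_maximalIdeal_iff, AlgHom.commutes]
    exact hl
  tfae_have 1 → 2 := by
    intro hsurj
    apply le_antisymm (sup_le hmle hsq)
    intro s hs
    obtain ⟨r, rfl⟩ := hsurj s
    apply Ideal.mem_sup_left
    apply Ideal.mem_map_of_mem
    rw [ArtFun.CRing.mem_maximalIdeal_iff, ← ArtFun.CRing.res_comp_apply f hf]
    exact (ArtFun.CRing.mem_maximalIdeal_iff S _).1 hs
  tfae_have 2 → 3 := by
    intro h2
    rw [sup_eq_right.2 hΛ]
    exact h2
  tfae_have 3 → 1 := by
    intro h3
    rw [sup_eq_right.2 hΛ] at h3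
    exact Groth.Agent.Lib.helper6.H6_cring_surjective_of_cotangent R S f hf h3
  tfae_finish

end Groth.Agent.S12714
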