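import Groth.Statements.S12733
import Mathlib
import Groth.Agent.Lib.helper6.ArtTan

set_option autoImplicit false
universe u v
open CategoryTheory
open ArtFun

namespace Groth.Agent.S12733

/-- Let F, G be deformation functors on Artinian local Λ-algebras with residue field k (value at k a
point, and condition (RS): the comparison map for A₁ ×_A A₂ is bijective whenever A₂ → A is
surjective). A smooth morphism φ : F → G inducing a bijection on tangent spaces is an isomorphism:
every φ_A is bijective. -/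
theorem result {Λ : Type u} {k : Type u} [CommRing Λ] [Field k] [Algebra Λ k]
    [IsNoetherianRing Λ] [Module.Finite Λ k]
    {F G : ArtFun.Art Λ k ⥤ Type v}
    (hF0 : ArtFun.H0 F) (hF : (∀ ⦃B A A' A'' : ArtFun.Art Λ k⦄ (p' : B ⟶ A') (p'' : B ⟶ A'') (f' : A' ⟶ A) (f'' : A'' ⟶ A)
        (h : ArtFun.Art.IsFibreProd p' p'' f' f''), Function.Surjective f'' → Function.Bijective (ArtFun.cmp F h)))
    (hG0 : ArtFun.H0 G) (hG : (∀ ⦃B A A' A'' : ArtFun.Art Λ k⦄ (p' : B ⟶ A') (p'' : B ⟶ A'') (f' : A' ⟶ A) (f'' : A'' ⟶ A)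
        (h : ArtFun.Art.IsFibreProd p' p'' f' f''), Function.Surjective f'' → Function.Bijective (ArtFun.cmp G h)))
    (φ : F ⟶ G) (hφ : ArtFun.IsSmooth φ) (hd : Function.Bijective (ArtFun.TangentSpace.map φ))
    (A : ArtFun.Art Λ k) : Function.Bijective (φ.app A) := by
  classical
  have hsurjBase : ∀ E : ArtFun.Art Λ k, Function.Surjective (ArtFun.Art.toBase E) := fun E => E.res_surjective
  constructor
  · -- injectivity
    have key := Groth.Agent.Lib.helper6.H6_surjective_induction (Λ := Λ) (k := k)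
      (fun A B f => ∀ x₁ x₂ : F.obj B, φ.app B x₁ = φ.app B x₂ → F.map f x₁ = F.map f x₂ → x₁ = x₂)
      ?_ ?_ ?_ (ArtFun.Art.toBase A) (hsurjBase A)
    · intro x₁ x₂ hx
      exact key x₁ x₂ hx (hF0.2.elim _ _)
    · intro A B e he x₁ x₂ _ hx
      have := congrArg (F.map (inv e)) hx
      rwa [← FunctorToTypes.map_comp_apply, ← FunctorToTypes.map_comp_apply, IsIso.hom_inv_id,
        FunctorToTypes.map_id_apply, FunctorToTypes.map_id_apply] at this
    · intro A A' μ hμ x₁ x₂ hφx hμx
      obtain ⟨C, π₁, π₂, α, δ, hC, hsq, hδ1, hδα, hδ2⟩ :=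
        Groth.Agent.Lib.helper6.H6_smallExt_tangent μ hμ
      obtain ⟨z, hz⟩ := (hF π₁ α μ μ hsq hμ.1).2 ⟨(x₁, x₂), hμx⟩
      have hz1 : F.map π₁ z = x₁ := congrArg (fun t => t.1.1) hz
      have hz2 : F.map α z = x₂ := congrArg (fun t => t.1.2) hz
      -- compare φ z with G(δ) y
      have hw : φ.app C z = G.map δ (φ.app A' x₁) := by
        apply (hG π₁ α μ μ hsq hμ.1).1
        apply ArtFun.FibProd.ext
        · show G.map π₁ (φ.app C z) = G.map π₁ (G.map δ (φ.app A' x₁))
          rw [← FunctorToTypes.map_comp_apply, hδ1, FunctorToTypes.map_id_apply,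
            ← FunctorToTypes.naturality, hz1]
        · show G.map α (φ.app C z) = G.map α (G.map δ (φ.app A' x₁))
          rw [← FunctorToTypes.map_comp_apply, hδα, FunctorToTypes.map_id_apply,
            ← FunctorToTypes.naturality, hz2, hφx]
      have hzz : z = F.map δ x₁ := by
        apply (hF π₁ π₂ _ _ hC (hsurjBase _)).1
        apply ArtFun.FibProd.ext
        · show F.map π₁ z = F.map π₁ (F.map δ x₁)
          rw [← FunctorToTypes.map_comp_apply, hδ1, FunctorToTypes.map_id_apply, hz1]
        · show F.map π₂ z = F.map π₂ (F.map δ x₁)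
          apply hd.1
          show φ.app _ (F.map π₂ z) = φ.app _ (F.map π₂ (F.map δ x₁))
          rw [FunctorToTypes.naturality, FunctorToTypes.naturality, FunctorToTypes.naturality, hw]
      rw [← hz2, hzz, ← FunctorToTypes.map_comp_apply, hδα, FunctorToTypes.map_id_apply]
    · intro A B C p q hp hq x₁ x₂ hφx hx
      apply hp x₁ x₂ hφx
      apply hq
      · rw [FunctorToTypes.naturality, FunctorToTypes.naturality, hφx]
      · rw [← FunctorToTypes.map_comp_apply, ← FunctorToTypes.map_comp_apply]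
        exact hx
  · -- surjectivity
    intro y
    obtain ⟨x₀⟩ := hF0.1
    obtain ⟨z, hz⟩ := hφ (ArtFun.Art.toBase A) (hsurjBase A)
      ⟨(x₀, y), hG0.2.elim _ _⟩
    exact ⟨z, congrArg (fun t => t.1.2) hz⟩

end Groth.Agent.S12733
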