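import Groth.Statements.S12734
import Mathlib
import Groth.Agent.Lib.helper6.SchlessMain

set_option autoImplicit false
universe u v
open CategoryTheory
open ArtFun

namespace Groth.Agent.S12734

/-- A functor F on Artinian local Λ-algebras with residue field k is prorepresentable if and only if (a)
F(k) is a point and F satisfies (RS): F(A₁ ×_A A₂) → F(A₁) ×_{F(A)} F(A₂) is bijective whenever A₂ →
A is surjective; (b) its tangent space is finite-dimensional; and (c) the map from morphisms k →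
k[ε] of the category (the Λ-derivations of k) to the tangent space, σ ↦ F(σ)(x₀), is injective.
Condition (c) is empty when k is separable over the image of Λ in k. -/
theorem result {Λ : Type u} {k : Type u} [CommRing Λ] [Field k] [Algebra Λ k]
    [IsNoetherianRing Λ] [Module.Finite Λ k]
    (F : ArtFun.Art Λ k ⥤ Type v) [ArtFun.TangentStr F] :
    ArtFun.IsProrepresentable F ↔
      ((ArtFun.H0 F ∧ (∀ ⦃B A A' A'' : ArtFun.Art Λ k⦄ (p' : B ⟶ A') (p'' : B ⟶ A'') (f' : A' ⟶ A) (f'' : A'' ⟶ A)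
        (h : ArtFun.Art.IsFibreProd p' p'' f' f''), Function.Surjective f'' → Function.Bijective (ArtFun.cmp F h))) ∧
        ArtFun.Hfin F ∧
        ∀ x₀ : F.obj (ArtFun.Art.base Λ k),
          Function.Injective (fun σ : ArtFun.Art.base Λ k ⟶ ArtFun.Art.dual Λ k => F.map σ x₀)) := by
  classical
  constructor
  · rintro ⟨⟨R, ξ, huniv⟩⟩
    have h0 := Groth.Agent.Lib.helper6.H6_h0_of_universal ξ huniv
    obtain ⟨hle, hfin⟩ := Groth.Agent.Lib.helper6.H6_conditions_of_isProrepresentable F h0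
      ⟨⟨R, ξ, huniv⟩⟩
    refine ⟨⟨h0, fun B A A' A'' p' p'' f' f'' h _ => hle p' p'' f' f'' h⟩, hfin, ?_⟩
    intro x₀ σ₁ σ₂ hσ
    have hσ' : F.map σ₁ x₀ = F.map σ₂ x₀ := hσ
    let ρ₀ : ArtFun.HomSet R.carrier R.res (ArtFun.Art.base Λ k) := ⟨R.res, AlgHom.id_comp _⟩
    have hx₀ : x₀ = ξ.app _ ρ₀ := h0.2.elim _ _
    rw [hx₀, ← ξ.natural, ← ξ.natural] at hσ'
    have e := (huniv _).1 hσ'
    apply ArtFun.Art.hom_ext
    apply AlgHom.ext
    intro c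
    obtain ⟨r, rfl⟩ := R.res_surjective c
    exact congrArg (fun χ : ArtFun.HomSet R.carrier R.res (ArtFun.Art.dual Λ k) => χ.1 r) e
  · rintro ⟨⟨h0, hRS⟩, h3, hinj⟩
    have hS1 : ArtFun.S1 F := Groth.Agent.Lib.helper6.H6_s1_of_rs hRS
    have h2 : ArtFun.Heps F := Groth.Agent.Lib.helper6.H6_heps_of_rs hRS
    have h4 : ArtFun.HSq F := fun B A A' p₁ p₂ f h hf => hRS p₁ p₂ f f h hf.1
    obtain ⟨⟨R, ξ, hvers⟩⟩ := Groth.Agent.Lib.helper6.H6_hasVersal F h0 hS1 h2 h3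
    have hc : ∀ φ₁ φ₂ : ArtFun.HomSet R.carrier R.res (ArtFun.Art.dual Λ k),
        (∀ x ∈ IsLocalRing.maximalIdeal R.carrier, φ₁.1 x = 0) →
        (∀ x ∈ IsLocalRing.maximalIdeal R.carrier, φ₂.1 x = 0) →
        ξ.app _ φ₁ = ξ.app _ φ₂ → φ₁ = φ₂ := by
      intro φ₁ φ₂ h₁ h₂ hξ
      let ρ₀ : ArtFun.HomSet R.carrier R.res (ArtFun.Art.base Λ k) := ⟨R.res, AlgHom.id_comp _⟩
      have hρ₀ : Function.Surjective ρ₀.1 := R.res_surjective
      have hker : ∀ (φ : ArtFun.HomSet R.carrier R.res (ArtFun.Art.dual Λ k)),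
          (∀ x ∈ IsLocalRing.maximalIdeal R.carrier, φ.1 x = 0) → ∀ r, ρ₀.1 r = 0 → φ.1 r = 0 :=
        fun φ hφ r hr => hφ r ((ArtFun.CRing.mem_maximalIdeal_iff R r).2 hr)
      obtain ⟨σ₁, hσ₁⟩ := Groth.Agent.Lib.helper6.H6_homSet_factor ρ₀ hρ₀ φ₁ (hker φ₁ h₁)
      obtain ⟨σ₂, hσ₂⟩ := Groth.Agent.Lib.helper6.H6_homSet_factor ρ₀ hρ₀ φ₂ (hker φ₂ h₂)
      rw [← hσ₁, ← hσ₂, ξ.natural, ξ.natural] at hξ
      have := hinj (ξ.app _ ρ₀) hξ
      rw [← hσ₁, ← hσ₂, this]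
    obtain ⟨b, hb, hmini⟩ := Groth.Agent.Lib.helper6.H6_exists_miniversal_quot F h0 hS1 h2 R ξ hvers hc
    exact ⟨⟨Groth.Agent.Lib.helper6.H6_cringQuot R b hb, _,
      Groth.Agent.Lib.helper6.H6_universal_of_miniversal F h0 h4 _ hmini⟩⟩

end Groth.Agent.S12734
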