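import Groth.Statements.S12735
import Mathlib
import Groth.Agent.Lib.helper6.ArtSurj
import Groth.Agent.Lib.helper6.ArtProRep

set_option autoImplicit false
universe u v
open CategoryTheory
open ArtFun

namespace Groth.Agent.S12735

/-- Let U be a prorepresentable functor on Artinian local Λ-algebras with residue field k and φ : U → U
an endomorphism of functors which is bijective on the tangent space U(k[ε]). Then φ is an
isomorphism: every component is bijective. -/
theorem result {Λ : Type u} {k : Type u} [CommRing Λ] [Field k] [Algebra Λ k]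
    [IsNoetherianRing Λ] [Module.Finite Λ k]
    {U : ArtFun.Art Λ k ⥤ Type v} (hU : ArtFun.IsProrepresentable U)
    (φ : U ⟶ U) (hd : Function.Bijective (ArtFun.TangentSpace.map φ)) (A : ArtFun.Art Λ k) :
    Function.Bijective (φ.app A) := by
  classical
  obtain ⟨P⟩ := hU
  set R := P.ring with hR
  set ξ := P.family with hξdef
  have huniv : ArtFun.IsUniversal ξ := P.universal
  obtain ⟨g, hg, hgξ⟩ := Groth.Agent.Lib.helper6.H6_proRep_exists_map P R (ξ.push φ)
  have hresg : ∀ r, R.res (g r) = R.res r := fun r => congrArg (fun χ : R.carrier →ₐ[Λ] k => χ r) hg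
  let G : ∀ A : ArtFun.Art Λ k, ArtFun.HomSet R.carrier R.res A → ArtFun.HomSet R.carrier R.res A :=
    fun A ψ => ⟨ψ.1.comp g, by rw [← AlgHom.comp_assoc, ψ.2, hg]⟩
  have key : ∀ (A : ArtFun.Art Λ k) (ψ : ArtFun.HomSet R.carrier R.res A),
      ξ.app A (G A ψ) = φ.app A (ξ.app A ψ) := fun A ψ =>
    congrArg (fun η : ArtFun.Family R.carrier R.res U => η.app A ψ) hgξ
  have hGdual : Function.Injective (G (ArtFun.Art.dual Λ k)) := by
    intro ψ ψ' hψ
    apply (huniv _).1
    apply hd.1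
    show φ.app _ (ξ.app _ ψ) = φ.app _ (ξ.app _ ψ')
    rw [← key, ← key, hψ]
  -- g preserves powers of the maximal ideal
  have hgm : Ideal.map g (IsLocalRing.maximalIdeal R.carrier) ≤ IsLocalRing.maximalIdeal R.carrier := by
    rw [Ideal.map_le_iff_le_comap]
    intro r hr
    rw [Ideal.mem_comap, ArtFun.CRing.mem_maximalIdeal_iff, hresg]
    exact (ArtFun.CRing.mem_maximalIdeal_iff R r).1 hr
  have hgpow : ∀ n (r : R.carrier), r ∈ R.mpow n → g r ∈ R.mpow n := by
    intro n r hr
    have h1 : g r ∈ Ideal.map g (R.mpow n) := Ideal.mem_map_of_mem _ hr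
    rw [Ideal.map_pow] at h1
    exact Ideal.pow_right_mono hgm _ h1
  let gn : ∀ n : ℕ, R.trunc n ⟶ R.trunc n := fun n =>
    Groth.Agent.Lib.helper6.H6_truncLift R (G _ (R.truncHom n)) n (by
      intro r hr
      show Ideal.Quotient.mk (R.mpow n) (g r) = 0
      exact Ideal.Quotient.eq_zero_iff_mem.2 (hgpow n r hr))
  have hgn : ∀ n (r : R.carrier), (gn n) (Ideal.Quotient.mk (R.mpow n) r) =
      Ideal.Quotient.mk (R.mpow n) (g r) := fun n r => rfl
  have hgnsurj : ∀ n, Function.Surjective (gn n) := by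
    intro n
    apply Groth.Agent.Lib.helper6.H6_surjective_of_tangent_injective
    intro χ χ' hχ
    have h1 : G _ (ArtFun.HomSet.map χ (R.truncHom n)) = G _ (ArtFun.HomSet.map χ' (R.truncHom n)) := by
      apply Subtype.ext
      apply AlgHom.ext
      intro r
      show χ (Ideal.Quotient.mk (R.mpow n) (g r)) = χ' (Ideal.Quotient.mk (R.mpow n) (g r))
      rw [← hgn]
      exact congrArg (fun ψ : R.trunc n ⟶ ArtFun.Art.dual Λ k => ψ (Ideal.Quotient.mk (R.mpow n) r)) hχ
    have h2 := hGdual h1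
    apply Groth.Agent.Lib.helper6.H6_art_hom_ext_trunc
    intro a
    exact congrArg (fun ψ : ArtFun.HomSet R.carrier R.res (ArtFun.Art.dual Λ k) => ψ.1 a) h2
  have hgniso : ∀ n, IsIso (gn n) := by
    intro n
    apply Groth.Agent.Lib.helper6.H6_isIso_of_bijective
    refine ⟨?_, hgnsurj n⟩
    haveI : Module.Finite Λ (R.trunc n) := Groth.Agent.Lib.helper6.H6_art_finite (R.trunc n)
    haveI : IsNoetherian Λ (R.trunc n) := isNoetherian_of_isNoetherianRing_of_finite Λ _
    exact IsNoetherian.injective_of_surjective_endomorphism (gn n).toAlgHom.toLinearMap (hgnsurj n)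
  constructor
  · intro x y hxy
    obtain ⟨ψ, rfl⟩ := (huniv A).2 x
    obtain ⟨ψ', rfl⟩ := (huniv A).2 y
    rw [← key, ← key] at hxy
    have hG := (huniv A).1 hxy
    obtain ⟨n₁, hn₁⟩ := Groth.Agent.Lib.helper6.H6_homSet_kills_mpow R ψ
    obtain ⟨n₂, hn₂⟩ := Groth.Agent.Lib.helper6.H6_homSet_kills_mpow R ψ'
    have hk : ∀ x ∈ R.mpow (max n₁ n₂), ψ.1 x = 0 := fun x hx =>
      hn₁ x (Ideal.pow_le_pow_right (Nat.succ_le_succ (le_max_left _ _)) hx)
    have hk' : ∀ x ∈ R.mpow (max n₁ n₂), ψ'.1 x = 0 := fun x hx =>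
      hn₂ x (Ideal.pow_le_pow_right (Nat.succ_le_succ (le_max_right _ _)) hx)
    set n := max n₁ n₂
    have e : Groth.Agent.Lib.helper6.H6_truncLift R ψ n hk =
        Groth.Agent.Lib.helper6.H6_truncLift R ψ' n hk' := by
      apply ArtFun.Art.hom_ext
      apply AlgHom.ext
      intro q
      obtain ⟨q', rfl⟩ := hgnsurj n q
      obtain ⟨r, rfl⟩ := Ideal.Quotient.mk_surjective q'
      rw [hgn]
      exact congrArg (fun χ : ArtFun.HomSet R.carrier R.res A => χ.1 r) hG
    rw [← Groth.Agent.Lib.helper6.H6_map_truncLift R ψ n hk,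
      ← Groth.Agent.Lib.helper6.H6_map_truncLift R ψ' n hk', e]
  · intro y
    obtain ⟨ψ, rfl⟩ := (huniv A).2 y
    obtain ⟨n, hn⟩ := Groth.Agent.Lib.helper6.H6_homSet_kills_mpow R ψ
    haveI := hgniso n
    let ψ' : ArtFun.HomSet R.carrier R.res A :=
      ArtFun.HomSet.map (inv (gn n) ≫ Groth.Agent.Lib.helper6.H6_truncLift R ψ n hn) (R.truncHom n)
    refine ⟨ξ.app A ψ', ?_⟩
    rw [← key]
    congr 1
    apply Subtype.ext
    apply AlgHom.ext
    intro r
    show (Groth.Agent.Lib.helper6.H6_truncLift R ψ n hn)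
      ((inv (gn n)) (Ideal.Quotient.mk (R.mpow n) (g r))) = ψ.1 r
    rw [← hgn]
    have : (inv (gn n)) ((gn n) (Ideal.Quotient.mk (R.mpow n) r)) = Ideal.Quotient.mk (R.mpow n) r :=
      congrArg (fun χ : R.trunc n ⟶ R.trunc n => χ (Ideal.Quotient.mk (R.mpow n) r))
        (IsIso.hom_inv_id (gn n))
    rw [this]
    rfl

end Groth.Agent.S12735
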