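import Groth.Statements.S12740
import Mathlib
import Groth.Agent.Lib.helper6.CRingCoprod

set_option autoImplicit false
universe u v
open CategoryTheory
open ArtFun ArtFun.CRing

namespace Groth.Agent.S12740

/-- The category of complete local Noetherian Λ-algebras with residue field k (Λ Noetherian, Λ → k
finite; morphisms the Λ-algebra maps compatible with the augmentations) admits pushouts: for R → S₁
and R → S₂ there is an object P with morphisms from S₁ and S₂ agreeing on R, through which every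
compatible pair S₁ → T ← S₂ agreeing on R factors by a unique morphism P → T. -/
theorem result {Λ : Type u} {k : Type u} [CommRing Λ] [Field k] [Algebra Λ k]
    [IsNoetherianRing Λ] [Module.Finite Λ k]
    (R S₁ S₂ : ArtFun.CRing Λ k)
    (f₁ : R.carrier →ₐ[Λ] S₁.carrier) (hf₁ : S₁.res.comp f₁ = R.res)
    (f₂ : R.carrier →ₐ[Λ] S₂.carrier) (hf₂ : S₂.res.comp f₂ = R.res) :
    ∃ (P : ArtFun.CRing Λ k) (i₁ : S₁.carrier →ₐ[Λ] P.carrier) (i₂ : S₂.carrier →ₐ[Λ] P.carrier),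
      P.res.comp i₁ = S₁.res ∧ P.res.comp i₂ = S₂.res ∧ i₁.comp f₁ = i₂.comp f₂ ∧
      ∀ (T : ArtFun.CRing Λ k) (g₁ : S₁.carrier →ₐ[Λ] T.carrier) (g₂ : S₂.carrier →ₐ[Λ] T.carrier),
        T.res.comp g₁ = S₁.res → T.res.comp g₂ = S₂.res → g₁.comp f₁ = g₂.comp f₂ →
          ∃! h : P.carrier →ₐ[Λ] T.carrier, T.res.comp h = P.res ∧ h.comp i₁ = g₁ ∧ h.comp i₂ = g₂ := by
  classical
  obtain ⟨C, i₁, i₂, hi₁, hi₂, huniv⟩ := Groth.Agent.Lib.helper6.H6_cring_coprod S₁ S₂
  have hi₁' : ∀ s, C.res (i₁ s) = S₁.res s := fun s =>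
    congrArg (fun f : S₁.carrier →ₐ[Λ] k => f s) hi₁
  have hi₂' : ∀ s, C.res (i₂ s) = S₂.res s := fun s =>
    congrArg (fun f : S₂.carrier →ₐ[Λ] k => f s) hi₂
  have hf₁' : ∀ r, S₁.res (f₁ r) = R.res r := fun r =>
    congrArg (fun f : R.carrier →ₐ[Λ] k => f r) hf₁
  have hf₂' : ∀ r, S₂.res (f₂ r) = R.res r := fun r =>
    congrArg (fun f : R.carrier →ₐ[Λ] k => f r) hf₂
  let K : Ideal C.carrier := Ideal.span (Set.range (fun r : R.carrier => i₁ (f₁ r) - i₂ (f₂ r)))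
  have hK : K ≤ IsLocalRing.maximalIdeal C.carrier := by
    rw [Ideal.span_le]
    rintro _ ⟨r, rfl⟩
    show i₁ (f₁ r) - i₂ (f₂ r) ∈ IsLocalRing.maximalIdeal C.carrier
    rw [ArtFun.CRing.mem_maximalIdeal_iff, map_sub, hi₁', hi₂', hf₁', hf₂', sub_self]
  let P : ArtFun.CRing Λ k := Groth.Agent.Lib.helper6.H6_cringQuot C K hK
  let mk : C.carrier →ₐ[Λ] P.carrier := Groth.Agent.Lib.helper6.H6_cringQuotMk C K hK
  have hmk : ∀ p, P.res (mk p) = C.res p := fun p =>
    congrArg (fun f : C.carrier →ₐ[Λ] k => f p) (Groth.Agent.Lib.helper6.H6_cringQuotMk_res C K hK)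
  have hmks : Function.Surjective mk := Groth.Agent.Lib.helper6.H6_cringQuotMk_surjective C K hK
  refine ⟨P, mk.comp i₁, mk.comp i₂, ?_, ?_, ?_, ?_⟩
  · apply AlgHom.ext
    intro s
    show P.res (mk (i₁ s)) = S₁.res s
    rw [hmk, hi₁']
  · apply AlgHom.ext
    intro s
    show P.res (mk (i₂ s)) = S₂.res s
    rw [hmk, hi₂']
  · apply AlgHom.ext
    intro r
    show mk (i₁ (f₁ r)) = mk (i₂ (f₂ r))
    rw [← sub_eq_zero, ← map_sub]
    exact (Groth.Agent.Lib.helper6.H6_cringQuotMk_eq_zero_iff C K hK _).2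
      (Ideal.subset_span ⟨r, rfl⟩)
  · intro T g₁ g₂ hg₁ hg₂ hgg
    obtain ⟨h0, ⟨hTh0, hh0₁, hh0₂⟩, huniq⟩ := huniv T g₁ g₂ hg₁ hg₂
    have hh0₁' : ∀ s, h0 (i₁ s) = g₁ s := fun s =>
      congrArg (fun f : S₁.carrier →ₐ[Λ] T.carrier => f s) hh0₁
    have hh0₂' : ∀ s, h0 (i₂ s) = g₂ s := fun s =>
      congrArg (fun f : S₂.carrier →ₐ[Λ] T.carrier => f s) hh0₂
    have hgg' : ∀ r, g₁ (f₁ r) = g₂ (f₂ r) := fun r =>
      congrArg (fun f : R.carrier →ₐ[Λ] T.carrier => f r) hgg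
    have hTh0' : ∀ c, T.res (h0 c) = C.res c := fun c =>
      congrArg (fun f : C.carrier →ₐ[Λ] k => f c) hTh0
    have hKker : ∀ p ∈ K, h0 p = 0 := by
      have : K ≤ RingHom.ker h0 := by
        rw [Ideal.span_le]
        rintro _ ⟨r, rfl⟩
        show h0 (i₁ (f₁ r) - i₂ (f₂ r)) = 0
        rw [map_sub, hh0₁', hh0₂', hgg', sub_self]
      exact fun p hp => this hp
    let h : P.carrier →ₐ[Λ] T.carrier := Ideal.Quotient.liftₐ K h0 hKker
    have hhmk : ∀ p, h (mk p) = h0 p := fun p => rfl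
    refine ⟨h, ⟨?_, ?_, ?_⟩, ?_⟩
    · apply AlgHom.ext
      intro x
      obtain ⟨p, rfl⟩ := hmks x
      show T.res (h (mk p)) = P.res (mk p)
      rw [hhmk, hTh0', hmk]
    · apply AlgHom.ext
      intro s
      show h (mk (i₁ s)) = g₁ s
      rw [hhmk, hh0₁']
    · apply AlgHom.ext
      intro s
      show h (mk (i₂ s)) = g₂ s
      rw [hhmk, hh0₂']
    · rintro h' ⟨hTh', hh'₁, hh'₂⟩
      have key : h'.comp mk = h0 := by
        apply huniq
        refine ⟨?_, ?_, ?_⟩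
        · apply AlgHom.ext
          intro c
          show T.res (h' (mk c)) = C.res c
          have := congrArg (fun f : P.carrier →ₐ[Λ] k => f (mk c)) hTh'
          simp only [AlgHom.comp_apply] at this
          rw [this, hmk]
        · rw [AlgHom.comp_assoc]
          exact hh'₁
        · rw [AlgHom.comp_assoc]
          exact hh'₂
      apply AlgHom.ext
      intro x
      obtain ⟨p, rfl⟩ := hmks x
      rw [hhmk]
      exact congrArg (fun f : C.carrier →ₐ[Λ] T.carrier => f p) key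

end Groth.Agent.S12740
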