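import Groth.Statements.S12742
import Mathlib
import Groth.Agent.Lib.helper6.ArtTan

set_option autoImplicit false
universe u v
open CategoryTheory
open ArtFun

namespace Groth.Agent.S12742

/-- For functors, a morphism f : F → G of deformation functors on Artinian local Λ-algebras with residue
field k (values at k a point, condition (RS) for both) is smooth if and only if (1) it is surjective
on tangent spaces and (2) for every small extension A' → A and every x ∈ F(A) whose image in G(A)
lifts to G(A'), x lifts to F(A'). -/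
theorem result {Λ : Type u} {k : Type u} [CommRing Λ] [Field k] [Algebra Λ k]
    [IsNoetherianRing Λ] [Module.Finite Λ k]
    {F G : ArtFun.Art Λ k ⥤ Type v}
    (hF0 : ArtFun.H0 F) (hF : (∀ ⦃B A A' A'' : ArtFun.Art Λ k⦄ (p' : B ⟶ A') (p'' : B ⟶ A'') (f' : A' ⟶ A) (f'' : A'' ⟶ A)
        (h : ArtFun.Art.IsFibreProd p' p'' f' f''), Function.Surjective f'' → Function.Bijective (ArtFun.cmp F h)))
    (hG0 : ArtFun.H0 G) (hG : (∀ ⦃B A A' A'' : ArtFun.Art Λ k⦄ (p' : B ⟶ A') (p'' : B ⟶ A'') (f' : A' ⟶ A) (f'' : A'' ⟶ A)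
        (h : ArtFun.Art.IsFibreProd p' p'' f' f''), Function.Surjective f'' → Function.Bijective (ArtFun.cmp G h)))
    (f : F ⟶ G) :
    ArtFun.IsSmooth f ↔
      (Function.Surjective (ArtFun.TangentSpace.map f) ∧
        ∀ ⦃A' A : ArtFun.Art Λ k⦄ (μ : A' ⟶ A), ArtFun.Art.IsSmallExt μ → ∀ x : F.obj A,
          (∃ y' : G.obj A', G.map μ y' = f.app A x) → ∃ x' : F.obj A', F.map μ x' = x) := by
  classical
  have hsurjBase : ∀ E : ArtFun.Art Λ k, Function.Surjective (ArtFun.Art.toBase E) := fun E => E.res_surjective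
  constructor
  · intro hs
    refine ⟨?_, ?_⟩
    · intro v
      obtain ⟨x₀⟩ := hF0.1
      obtain ⟨z, hz⟩ := hs (ArtFun.Art.toBase (ArtFun.Art.dual Λ k)) (hsurjBase _)
        ⟨(x₀, v), hG0.2.elim _ _⟩
      exact ⟨z, congrArg (fun t => t.1.2) hz⟩
    · intro A' A μ hμ x hy
      obtain ⟨y', hy'⟩ := hy
      obtain ⟨z, hz⟩ := hs μ hμ.1 ⟨(x, y'), hy'.symm⟩
      exact ⟨z, congrArg (fun t => t.1.1) hz⟩
  · rintro ⟨htan, hlift⟩
    intro B A μ hμ
    refine Groth.Agent.Lib.helper6.H6_surjective_induction (Λ := Λ) (k := k)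
      (fun A B μ => Function.Surjective (ArtFun.relCmp f μ)) ?_ ?_ ?_ μ hμ
    · intro A B e he
      rintro ⟨⟨x, y⟩, hxy⟩
      have hxy' : f.app A x = G.map e y := hxy
      refine ⟨F.map (inv e) x, ?_⟩
      apply Subtype.ext
      apply Prod.ext
      · show F.map e (F.map (inv e) x) = x
        rw [← FunctorToTypes.map_comp_apply, IsIso.inv_hom_id, FunctorToTypes.map_id_apply]
      · show f.app B (F.map (inv e) x) = y
        rw [FunctorToTypes.naturality, hxy', ← FunctorToTypes.map_comp_apply, IsIso.hom_inv_id,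
          FunctorToTypes.map_id_apply]
    · intro A A' μ hμ
      rintro ⟨⟨x, y'⟩, hxy⟩
      have hxy' : f.app A x = G.map μ y' := hxy
      obtain ⟨x', hx'⟩ := hlift μ hμ x ⟨y', hxy'.symm⟩
      obtain ⟨C, π₁, π₂, α, δ, hC, hsq, hδ1, hδα, hδ2⟩ :=
        Groth.Agent.Lib.helper6.H6_smallExt_tangent μ hμ
      have hcompat : G.map μ (f.app A' x') = G.map μ y' := by
        rw [← FunctorToTypes.naturality, hx', hxy']
      obtain ⟨w, hw⟩ := (hG π₁ α μ μ hsq hμ.1).2 ⟨(f.app A' x', y'), hcompat⟩
      have hw1 : G.map π₁ w = f.app A' x' := congrArg (fun t => t.1.1) hw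
      have hw2 : G.map α w = y' := congrArg (fun t => t.1.2) hw
      obtain ⟨u, hu⟩ := htan (G.map π₂ w)
      have hu' : f.app (ArtFun.Art.dual Λ k) u = G.map π₂ w := hu
      obtain ⟨z, hz⟩ := (hF π₁ π₂ _ _ hC (hsurjBase _)).2 ⟨(x', u), hF0.2.elim _ _⟩
      have hz1 : F.map π₁ z = x' := congrArg (fun t => t.1.1) hz
      have hz2 : F.map π₂ z = u := congrArg (fun t => t.1.2) hz
      have hfz : f.app C z = w := by
        apply (hG π₁ π₂ _ _ hC (hsurjBase _)).1
        apply ArtFun.FibProd.ext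
        · show G.map π₁ (f.app C z) = G.map π₁ w
          rw [← FunctorToTypes.naturality, hz1, hw1]
        · show G.map π₂ (f.app C z) = G.map π₂ w
          rw [← FunctorToTypes.naturality, hz2, hu']
      refine ⟨F.map α z, ?_⟩
      apply Subtype.ext
      apply Prod.ext
      · show F.map μ (F.map α z) = x
        rw [← FunctorToTypes.map_comp_apply, ← hsq.w, FunctorToTypes.map_comp_apply, hz1, hx']
      · show f.app A' (F.map α z) = y'
        rw [FunctorToTypes.naturality, hfz, hw2]
    · intro A B C p q hp hq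
      rintro ⟨⟨x, y⟩, hxy⟩
      have hxy' : f.app A x = G.map (p ≫ q) y := hxy
      obtain ⟨zB, hzB⟩ := hq ⟨(x, G.map p y), by
        show f.app A x = G.map q (G.map p y)
        rw [← FunctorToTypes.map_comp_apply]; exact hxy'⟩
      have hzB1 : F.map q zB = x := congrArg (fun t => t.1.1) hzB
      have hzB2 : f.app B zB = G.map p y := congrArg (fun t => t.1.2) hzB
      obtain ⟨z, hz⟩ := hp ⟨(zB, y), hzB2⟩
      have hz1 : F.map p z = zB := congrArg (fun t => t.1.1) hz
      have hz2 : f.app C z = y := congrArg (fun t => t.1.2) hz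
      refine ⟨z, ?_⟩
      apply Subtype.ext
      apply Prod.ext
      · show F.map (p ≫ q) z = x
        rw [FunctorToTypes.map_comp_apply, hz1, hzB1]
      · exact hz2

end Groth.Agent.S12742
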