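import Groth.Statements.S12744
import Mathlib
import Groth.Agent.Lib.helper6.ArtTan

set_option autoImplicit false
universe u v
open CategoryTheory
open ArtFun

namespace Groth.Agent.S12744

/-- For functors, if η : F → G is a smooth morphism of functors on Artinian local Λ-algebras with
residue field k and F(k) → G(k) is surjective, then for every complete local Noetherian R with
residue field k the induced map on formal elements over R (compatible systems of elements over the
truncations R/m^(n+1)) is surjective. -/
theorem result {Λ : Type u} {k : Type u} [CommRing Λ] [Field k] [Algebra Λ k]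
    [IsNoetherianRing Λ] [Module.Finite Λ k]
    {F G : ArtFun.Art Λ k ⥤ Type v} (η : F ⟶ G) (hη : ArtFun.IsSmooth η)
    (h0 : Function.Surjective (η.app (ArtFun.Art.base Λ k))) (R : ArtFun.CRing Λ k) :
    Function.Surjective (fun u : ArtFun.FormalElt F R => u.map η) := by
  classical
  intro v
  have hsurj0 : Function.Surjective (η.app (R.trunc 0)) :=
    Groth.Agent.Lib.helper6.H6_smooth_surjective η hη h0 (R.trunc 0)
  have htm : ∀ n, Function.Surjective (R.truncMap n) := by
    intro n x
    obtain ⟨a, rfl⟩ := Ideal.Quotient.mk_surjective x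
    exact ⟨Ideal.Quotient.mk _ a, rfl⟩
  -- recursive construction
  let T : ℕ → Type v := fun n => {u : F.obj (R.trunc n) // η.app _ u = v.elt n}
  have step : ∀ n (u : T n), ∃ u' : T (n + 1), F.map (R.truncMap n) u'.1 = u.1 := by
    intro n u
    obtain ⟨z, hz⟩ := hη (R.truncMap n) (htm n) ⟨(u.1, v.elt (n + 1)), by
      show η.app _ u.1 = G.map (R.truncMap n) (v.elt (n + 1))
      rw [u.2, v.compat]⟩
    exact ⟨⟨z, congrArg (fun t => t.1.2) hz⟩, congrArg (fun t => t.1.1) hz⟩
  choose next hnext using step
  obtain ⟨u0, hu0⟩ := hsurj0 (v.elt 0)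
  let seq : ∀ n, T n := fun n => Nat.rec (motive := T) ⟨u0, hu0⟩ (fun n u => next n u) n
  have hseq : ∀ n, seq (n + 1) = next n (seq n) := fun n => rfl
  refine ⟨⟨fun n => (seq n).1, ?_⟩, ?_⟩
  · intro n
    rw [hseq]
    exact hnext n (seq n)
  · apply ArtFun.FormalElt.ext'
    intro n
    exact (seq n).2

end Groth.Agent.S12744
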