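import Groth.Statements.S12746
import Mathlib
import Groth.Agent.Lib.helper6.FunPB

set_option autoImplicit false
universe u v
open CategoryTheory
open ArtFun

namespace Groth.Agent.S12746

/-- For functors, if F, G, H are functors on Artinian local Λ-algebras with residue field k satisfying
(RS) and f : H → F, g : G → F are morphisms, then the fibre product functor H ×_F G satisfies (RS). -/
theorem result {Λ : Type u} {k : Type u} [CommRing Λ] [Field k] [Algebra Λ k]
    [IsNoetherianRing Λ] [Module.Finite Λ k]
    {F G H : ArtFun.Art Λ k ⥤ Type v} (f : H ⟶ F) (g : G ⟶ F)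
    (hF : (∀ ⦃B A A' A'' : ArtFun.Art Λ k⦄ (p' : B ⟶ A') (p'' : B ⟶ A'') (f' : A' ⟶ A) (f'' : A'' ⟶ A)
        (h : ArtFun.Art.IsFibreProd p' p'' f' f''), Function.Surjective f'' → Function.Bijective (ArtFun.cmp F h))) (hG : (∀ ⦃B A A' A'' : ArtFun.Art Λ k⦄ (p' : B ⟶ A') (p'' : B ⟶ A'') (f' : A' ⟶ A) (f'' : A'' ⟶ A)
        (h : ArtFun.Art.IsFibreProd p' p'' f' f''), Function.Surjective f'' → Function.Bijective (ArtFun.cmp G h))) (hH : (∀ ⦃B A A' A'' : ArtFun.Art Λ k⦄ (p' : B ⟶ A') (p'' : B ⟶ A'') (f' : A' ⟶ A) (f'' : A'' ⟶ A)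
        (h : ArtFun.Art.IsFibreProd p' p'' f' f''), Function.Surjective f'' → Function.Bijective (ArtFun.cmp H h))) :
    (∀ ⦃B A A' A'' : ArtFun.Art Λ k⦄ (p' : B ⟶ A') (p'' : B ⟶ A'') (f' : A' ⟶ A) (f'' : A'' ⟶ A)
        (h : ArtFun.Art.IsFibreProd p' p'' f' f''), Function.Surjective f'' → Function.Bijective (ArtFun.cmp (CategoryTheory.Limits.pullback f g) h)) := by
  classical
  intro B A A' A'' p' p'' f' f'' h hf''
  have hF' := hF p' p'' f' f'' h hf''
  have hG' := hG p' p'' f' f'' h hf''
  have hH' := hH p' p'' f' f'' h hf''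
  have natfst : ∀ {X Y : ArtFun.Art Λ k} (m : X ⟶ Y) (z : (CategoryTheory.Limits.pullback f g).obj X),
      (CategoryTheory.Limits.pullback.fst f g).app Y ((CategoryTheory.Limits.pullback f g).map m z) =
        H.map m ((CategoryTheory.Limits.pullback.fst f g).app X z) := fun m z =>
    FunctorToTypes.naturality (CategoryTheory.Limits.pullback.fst f g) m z
  have natsnd : ∀ {X Y : ArtFun.Art Λ k} (m : X ⟶ Y) (z : (CategoryTheory.Limits.pullback f g).obj X),
      (CategoryTheory.Limits.pullback.snd f g).app Y ((CategoryTheory.Limits.pullback f g).map m z) =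
        G.map m ((CategoryTheory.Limits.pullback.snd f g).app X z) := fun m z =>
    FunctorToTypes.naturality (CategoryTheory.Limits.pullback.snd f g) m z
  constructor
  · intro z z' hzz
    have h1 : (CategoryTheory.Limits.pullback f g).map p' z = (CategoryTheory.Limits.pullback f g).map p' z' :=
      congrArg (fun t => t.1.1) hzz
    have h2 : (CategoryTheory.Limits.pullback f g).map p'' z = (CategoryTheory.Limits.pullback f g).map p'' z' :=
      congrArg (fun t => t.1.2) hzz
    apply Groth.Agent.Lib.helper6.H6_pb_ext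
    · apply hH'.1
      apply ArtFun.FibProd.ext
      · show H.map p' _ = H.map p' _
        rw [← natfst, ← natfst, h1]
      · show H.map p'' _ = H.map p'' _
        rw [← natfst, ← natfst, h2]
    · apply hG'.1
      apply ArtFun.FibProd.ext
      · show G.map p' _ = G.map p' _
        rw [← natsnd, ← natsnd, h1]
      · show G.map p'' _ = G.map p'' _
        rw [← natsnd, ← natsnd, h2]
  · rintro ⟨⟨z', z''⟩, hz⟩
    have hz' : (CategoryTheory.Limits.pullback f g).map f' z' = (CategoryTheory.Limits.pullback f g).map f'' z'' := hz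
    obtain ⟨x, hx⟩ := hH'.2 ⟨((CategoryTheory.Limits.pullback.fst f g).app A' z',
      (CategoryTheory.Limits.pullback.fst f g).app A'' z''), by
        show H.map f' _ = H.map f'' _
        rw [← natfst, ← natfst, hz']⟩
    have hx1 : H.map p' x = (CategoryTheory.Limits.pullback.fst f g).app A' z' := congrArg (fun t => t.1.1) hx
    have hx2 : H.map p'' x = (CategoryTheory.Limits.pullback.fst f g).app A'' z'' := congrArg (fun t => t.1.2) hx
    obtain ⟨y, hy⟩ := hG'.2 ⟨((CategoryTheory.Limits.pullback.snd f g).app A' z',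
      (CategoryTheory.Limits.pullback.snd f g).app A'' z''), by
        show G.map f' _ = G.map f'' _
        rw [← natsnd, ← natsnd, hz']⟩
    have hy1 : G.map p' y = (CategoryTheory.Limits.pullback.snd f g).app A' z' := congrArg (fun t => t.1.1) hy
    have hy2 : G.map p'' y = (CategoryTheory.Limits.pullback.snd f g).app A'' z'' := congrArg (fun t => t.1.2) hy
    have hxy : f.app B x = g.app B y := by
      apply hF'.1
      apply ArtFun.FibProd.ext
      · show F.map p' (f.app B x) = F.map p' (g.app B y)
        rw [← FunctorToTypes.naturality, ← FunctorToTypes.naturality, hx1, hy1]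
        exact Groth.Agent.Lib.helper6.H6_pb_condition f g A' z'
      · show F.map p'' (f.app B x) = F.map p'' (g.app B y)
        rw [← FunctorToTypes.naturality, ← FunctorToTypes.naturality, hx2, hy2]
        exact Groth.Agent.Lib.helper6.H6_pb_condition f g A'' z''
    obtain ⟨z, hz1, hz2⟩ := Groth.Agent.Lib.helper6.H6_pb_exists f g B x y hxy
    refine ⟨z, ?_⟩
    apply ArtFun.FibProd.ext
    · show (CategoryTheory.Limits.pullback f g).map p' z = z'
      apply Groth.Agent.Lib.helper6.H6_pb_ext
      · rw [natfst, hz1, hx1]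
      · rw [natsnd, hz2, hy1]
    · show (CategoryTheory.Limits.pullback f g).map p'' z = z''
      apply Groth.Agent.Lib.helper6.H6_pb_ext
      · rw [natfst, hz1, hx2]
      · rw [natsnd, hz2, hy2]

end Groth.Agent.S12746
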