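import Groth.Statements.S12747
import Mathlib
import Groth.Agent.Lib.helper6.FunPB
import Groth.Agent.Lib.helper6.ArtTan

set_option autoImplicit false
universe u v
open CategoryTheory
open ArtFun

namespace Groth.Agent.S12747

/-- For functors, let H₁ → G, H₂ → G and q : G → F be morphisms of functors on Artinian local Λ-algebras
with residue field k where F and G are deformation functors (value at k a point, condition (RS)) and
q is injective on tangent spaces. Then the induced morphism H₁ ×_G H₂ → H₁ ×_F H₂ is smooth. (The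
published statement also assumes that infinitesimal automorphisms of G map onto those of F; for
functors that condition is empty.) -/
theorem result {Λ : Type u} {k : Type u} [CommRing Λ] [Field k] [Algebra Λ k]
    [IsNoetherianRing Λ] [Module.Finite Λ k]
    {F G H₁ H₂ : ArtFun.Art Λ k ⥤ Type v} (p₁ : H₁ ⟶ G) (p₂ : H₂ ⟶ G) (q : G ⟶ F)
    (hF0 : ArtFun.H0 F) (hF : (∀ ⦃B A A' A'' : ArtFun.Art Λ k⦄ (p' : B ⟶ A') (p'' : B ⟶ A'') (f' : A' ⟶ A) (f'' : A'' ⟶ A)
        (h : ArtFun.Art.IsFibreProd p' p'' f' f''), Function.Surjective f'' → Function.Bijective (ArtFun.cmp F h)))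
    (hG0 : ArtFun.H0 G) (hG : (∀ ⦃B A A' A'' : ArtFun.Art Λ k⦄ (p' : B ⟶ A') (p'' : B ⟶ A'') (f' : A' ⟶ A) (f'' : A'' ⟶ A)
        (h : ArtFun.Art.IsFibreProd p' p'' f' f''), Function.Surjective f'' → Function.Bijective (ArtFun.cmp G h)))
    (hq : Function.Injective (ArtFun.TangentSpace.map q)) :
    ArtFun.IsSmooth (CategoryTheory.Limits.pullback.map p₁ p₂ (p₁ ≫ q) (p₂ ≫ q) (𝟙 H₁) (𝟙 H₂) q
      (CategoryTheory.Category.id_comp _).symm (CategoryTheory.Category.id_comp _).symm) := by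
  classical
  apply Groth.Agent.Lib.helper6.H6_isSmooth_of_small
  intro A A' μ hμ
  set Φ := CategoryTheory.Limits.pullback.map p₁ p₂ (p₁ ≫ q) (p₂ ≫ q) (𝟙 H₁) (𝟙 H₂) q
      (CategoryTheory.Category.id_comp _).symm (CategoryTheory.Category.id_comp _).symm with hΦ
  have hΦ1 : Φ ≫ CategoryTheory.Limits.pullback.fst (p₁ ≫ q) (p₂ ≫ q) =
      CategoryTheory.Limits.pullback.fst p₁ p₂ := by
    rw [hΦ, CategoryTheory.Limits.pullback.lift_fst, Category.comp_id]
  have hΦ2 : Φ ≫ CategoryTheory.Limits.pullback.snd (p₁ ≫ q) (p₂ ≫ q) =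
      CategoryTheory.Limits.pullback.snd p₁ p₂ := by
    rw [hΦ, CategoryTheory.Limits.pullback.lift_snd, Category.comp_id]
  have eΦ1 : ∀ (X : ArtFun.Art Λ k) (z : (CategoryTheory.Limits.pullback p₁ p₂).obj X),
      (CategoryTheory.Limits.pullback.fst (p₁ ≫ q) (p₂ ≫ q)).app X (Φ.app X z) =
        (CategoryTheory.Limits.pullback.fst p₁ p₂).app X z := fun X z =>
    congrArg (fun t : CategoryTheory.Limits.pullback p₁ p₂ ⟶ H₁ => t.app X z) hΦ1
  have eΦ2 : ∀ (X : ArtFun.Art Λ k) (z : (CategoryTheory.Limits.pullback p₁ p₂).obj X),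
      (CategoryTheory.Limits.pullback.snd (p₁ ≫ q) (p₂ ≫ q)).app X (Φ.app X z) =
        (CategoryTheory.Limits.pullback.snd p₁ p₂).app X z := fun X z =>
    congrArg (fun t : CategoryTheory.Limits.pullback p₁ p₂ ⟶ H₂ => t.app X z) hΦ2
  rintro ⟨⟨z, w'⟩, hzw⟩
  have hzw' : Φ.app A z = (CategoryTheory.Limits.pullback (p₁ ≫ q) (p₂ ≫ q)).map μ w' := hzw
  set h₁' := (CategoryTheory.Limits.pullback.fst (p₁ ≫ q) (p₂ ≫ q)).app A' w' with hh₁
  set h₂' := (CategoryTheory.Limits.pullback.snd (p₁ ≫ q) (p₂ ≫ q)).app A' w' with hh₂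
  have hq12 : q.app A' (p₁.app A' h₁') = q.app A' (p₂.app A' h₂') :=
    Groth.Agent.Lib.helper6.H6_pb_condition (p₁ ≫ q) (p₂ ≫ q) A' w'
  have e1 : H₁.map μ h₁' = (CategoryTheory.Limits.pullback.fst p₁ p₂).app A z := by
    rw [← eΦ1, hzw', FunctorToTypes.naturality]
  have e2 : H₂.map μ h₂' = (CategoryTheory.Limits.pullback.snd p₁ p₂).app A z := by
    rw [← eΦ2, hzw', FunctorToTypes.naturality]
  have hμ12 : G.map μ (p₁.app A' h₁') = G.map μ (p₂.app A' h₂') := by
    have n1 : G.map μ (p₁.app A' h₁') = p₁.app A (H₁.map μ h₁') :=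
      (FunctorToTypes.naturality p₁ μ h₁').symm
    have n2 : G.map μ (p₂.app A' h₂') = p₂.app A (H₂.map μ h₂') :=
      (FunctorToTypes.naturality p₂ μ h₂').symm
    rw [n1, n2, e1, e2]
    exact Groth.Agent.Lib.helper6.H6_pb_condition p₁ p₂ A z
  have hg : p₁.app A' h₁' = p₂.app A' h₂' :=
    Groth.Agent.Lib.helper6.H6_eq_of_small_of_tangent_injective q
      (Groth.Agent.Lib.helper6.H6_s1_of_rs hG) (Groth.Agent.Lib.helper6.H6_heps_of_rs hG)
      (fun _ _ _ _ p' p'' f' f'' h hf => (hF p' p'' f' f'' h hf).1) hq μ hμ _ _ hμ12 hq12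
  obtain ⟨z', hz'1, hz'2⟩ := Groth.Agent.Lib.helper6.H6_pb_exists p₁ p₂ A' h₁' h₂' hg
  refine ⟨z', ?_⟩
  apply Subtype.ext
  apply Prod.ext
  · show (CategoryTheory.Limits.pullback p₁ p₂).map μ z' = z
    apply Groth.Agent.Lib.helper6.H6_pb_ext
    · rw [FunctorToTypes.naturality, hz'1, e1]
    · rw [FunctorToTypes.naturality, hz'2, e2]
  · show Φ.app A' z' = w'
    apply Groth.Agent.Lib.helper6.H6_pb_ext
    · rw [eΦ1, hz'1]
    · rw [eΦ2, hz'2]

end Groth.Agent.S12747
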