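import Groth.Statements.S12749
import Mathlib
import Groth.Agent.Lib.helper6.SchlessHull
import Groth.Agent.Lib.helper6.ArtCSurj
import Groth.Agent.S12720

set_option autoImplicit false
universe u v
open CategoryTheory
open ArtFun

namespace Groth.Agent.S12749

/-- For functors, suppose k admits no nonzero Λ-derivation into itself (that is, k is separable over the
image of Λ in k). Let F be a functor on Artinian local Λ-algebras with residue field k with F(k) a
point which satisfies (S2), and let ξ be a minimal versal family of F over a complete local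
Noetherian R with residue field k: ξ is versal, and every morphism of such coefficient rings R' → R
along which some formal element of F over R' pushes forward to the formal element of ξ is
surjective. Then ξ is a hull of F: it is moreover bijective on tangent spaces. (The published
statement, for arbitrary k, concludes that the tangent map of the minimal versal family is bijective
on orbits under the Λ-derivations of k; when k has no nonzero Λ-derivation into itself the orbits
are points and this is plain bijectivity, which is the case stated here.) -/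
theorem result {Λ : Type u} {k : Type u} [CommRing Λ] [Field k] [Algebra Λ k]
    [IsNoetherianRing Λ] [Module.Finite Λ k]
    (hk : Subsingleton (Derivation Λ k k))
    {F : ArtFun.Art Λ k ⥤ Type v} (h0 : ArtFun.H0 F) (h2 : ArtFun.Heps F)
    {R : ArtFun.CRing Λ k} (ξ : ArtFun.Family R.carrier R.res F) (hξ : ξ.IsMinimalVersal) :
    ArtFun.IsMiniversal ξ := by
  classical
  have hsurj := Groth.Agent.Lib.helper6.H6_versal_surjective ξ hξ.1 h0.2
  have hS1 : ArtFun.S1 F := Groth.Agent.Lib.helper6.H6_s1_of_versal ξ hξ.1 hsurj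
  have hc : ∀ φ₁ φ₂ : ArtFun.HomSet R.carrier R.res (ArtFun.Art.dual Λ k),
      (∀ x ∈ IsLocalRing.maximalIdeal R.carrier, φ₁.1 x = 0) →
      (∀ x ∈ IsLocalRing.maximalIdeal R.carrier, φ₂.1 x = 0) →
      ξ.app _ φ₁ = ξ.app _ φ₂ → φ₁ = φ₂ := by
    intro φ₁ φ₂ h₁ h₂ _
    apply Groth.Agent.Lib.helper6.H6_homSet_dual_ext
    intro r
    have e1 := Groth.Agent.Lib.helper6.H6_der_eq_zero_of_subsingleton hk R φ₁ h₁ r
    have e2 := Groth.Agent.Lib.helper6.H6_der_eq_zero_of_subsingleton hk R φ₂ h₂ r
    exact e1.trans e2.symm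
  obtain ⟨b, hb, hmini⟩ := Groth.Agent.Lib.helper6.H6_exists_miniversal_quot F h0 hS1 h2 R ξ hξ.1 hc
  obtain ⟨g, hg, hgη⟩ := Groth.Agent.S12720.result h0 (Groth.Agent.Lib.helper6.H6_cringQuot R b hb) _
    hmini.1 R ξ.toFormalElt
  have hgs : Function.Surjective g := hξ.2 _ _ g hg (by
    rw [← Groth.Agent.Lib.helper6.H6_along_toFormalElt]; exact hgη)
  have hqs := Groth.Agent.Lib.helper6.H6_cringQuotMk_surjective R b hb
  have hinj : Function.Injective (g.comp (Groth.Agent.Lib.helper6.H6_cringQuotMk R b hb)).toRingHom :=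
    Groth.Agent.Lib.helper6.H6_ringEnd_injective_of_surjective _ (hgs.comp hqs)
  have hb0 : ∀ j ∈ b, j = 0 := by
    intro j hj
    apply hinj
    show g (Groth.Agent.Lib.helper6.H6_cringQuotMk R b hb j) = g (Groth.Agent.Lib.helper6.H6_cringQuotMk R b hb 0)
    rw [(Groth.Agent.Lib.helper6.H6_cringQuotMk_eq_zero_iff R b hb j).2 hj, map_zero, map_zero, map_zero]
  refine ⟨hξ.1, ?_, hsurj _⟩
  intro φ₁ φ₂ hφ
  have hk₁ : ∀ j ∈ b, φ₁.1 j = 0 := fun j hj => by rw [hb0 j hj, map_zero]
  have hk₂ : ∀ j ∈ b, φ₂.1 j = 0 := fun j hj => by rw [hb0 j hj, map_zero]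
  have key := hmini.2.1 (a₁ := Groth.Agent.Lib.helper6.H6_cringQuotLift R b hb φ₁ hk₁)
    (a₂ := Groth.Agent.Lib.helper6.H6_cringQuotLift R b hb φ₂ hk₂) (by
      rw [Groth.Agent.Lib.helper6.H6_along_quot_app, Groth.Agent.Lib.helper6.H6_along_quot_app,
        Groth.Agent.Lib.helper6.H6_cringQuotRestr_lift, Groth.Agent.Lib.helper6.H6_cringQuotRestr_lift]
      exact hφ)
  have := congrArg (Groth.Agent.Lib.helper6.H6_cringQuotRestr R b hb) key
  rwa [Groth.Agent.Lib.helper6.H6_cringQuotRestr_lift, Groth.Agent.Lib.helper6.H6_cringQuotRestr_lift] at this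

end Groth.Agent.S12749
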