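import Groth.Statements.S12757
import Mathlib
import Groth.Agent.Lib.helper6.ArtCSurj

set_option autoImplicit false
universe u v
open CategoryTheory
open ArtFun

namespace Groth.Agent.S12757

/-- For functors, let F be a functor on Artinian local Λ-algebras with residue field k with F(k) a
point. A versal family of F over a complete local Noetherian R with residue field k which is
bijective on tangent spaces (a hull; bijectivity implies bijectivity on orbits of the derivations of
k) is minimal: every morphism of coefficient rings R' → R along which some formal element over R'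
pushes forward to the formal element of the family is surjective. -/
theorem result {Λ : Type u} {k : Type u} [CommRing Λ] [Field k] [Algebra Λ k]
    [IsNoetherianRing Λ] [Module.Finite Λ k]
    {F : ArtFun.Art Λ k ⥤ Type v} (h0 : ArtFun.H0 F) (P : ArtFun.Hull F) :
    P.family.IsMinimalVersal := by
  classical
  refine ⟨P.miniversal.1, fun R' u f hf hu => ?_⟩
  obtain ⟨ξ', hξ'⟩ := (Groth.Agent.Lib.helper6.H6_toFormalElt_bijective R' F).2 u
  have hξ'' : ξ'.toFormalElt = u := hξ'
  have halong : ξ'.along f hf = P.family := by
    apply (Groth.Agent.Lib.helper6.H6_toFormalElt_bijective P.ring F).1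
    show (ξ'.along f hf).toFormalElt = P.family.toFormalElt
    rw [Groth.Agent.Lib.helper6.H6_along_toFormalElt, hξ'', hu]
  apply Groth.Agent.Lib.helper6.H6_cring_surjective_of_tangent_injective R' P.ring f hf
  intro χ χ' h
  apply P.miniversal.2.1
  rw [← halong]
  show ξ'.app _ ⟨χ.1.comp f, _⟩ = ξ'.app _ ⟨χ'.1.comp f, _⟩
  congr 1
  exact Subtype.ext h

end Groth.Agent.S12757
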