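import Groth.Statements.S12758
import Mathlib
import Groth.Agent.Lib.helper6.ArtCSurj
import Groth.Agent.S12720

set_option autoImplicit false
universe u v
open CategoryTheory
open ArtFun

namespace Groth.Agent.S12758

/-- For functors, two minimal versal families of a functor F on Artinian local Λ-algebras with residue
field k with F(k) a point — over complete local Noetherian coefficient rings R₁, R₂ with residue
field k — are isomorphic: there is an isomorphism R₁ ≅ R₂ over Λ, compatible with the augmentations,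
along which the formal element of the first family pushes forward to that of the second. -/
theorem result {Λ : Type u} {k : Type u} [CommRing Λ] [Field k] [Algebra Λ k]
    [IsNoetherianRing Λ] [Module.Finite Λ k]
    {F : ArtFun.Art Λ k ⥤ Type v} (h0 : ArtFun.H0 F) {R₁ R₂ : ArtFun.CRing Λ k}
    (ξ₁ : ArtFun.Family R₁.carrier R₁.res F) (ξ₂ : ArtFun.Family R₂.carrier R₂.res F)
    (h₁ : ξ₁.IsMinimalVersal) (h₂ : ξ₂.IsMinimalVersal) :
    ∃ (e : R₁.carrier ≃ₐ[Λ] R₂.carrier) (he : R₂.res.comp (e : R₁.carrier →ₐ[Λ] R₂.carrier) = R₁.res),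
      (ξ₁.along (e : R₁.carrier →ₐ[Λ] R₂.carrier) he).toFormalElt = ξ₂.toFormalElt := by
  classical
  obtain ⟨g, hg, hgη⟩ := Groth.Agent.S12720.result h0 R₁ ξ₁ h₁.1 R₂ ξ₂.toFormalElt
  obtain ⟨g', hg', hg'η⟩ := Groth.Agent.S12720.result h0 R₂ ξ₂ h₂.1 R₁ ξ₁.toFormalElt
  have hgs : Function.Surjective g := h₂.2 R₁ ξ₁.toFormalElt g hg (by
    rw [← Groth.Agent.Lib.helper6.H6_along_toFormalElt]; exact hgη)
  have hg's : Function.Surjective g' := h₁.2 R₂ ξ₂.toFormalElt g' hg' (by
    rw [← Groth.Agent.Lib.helper6.H6_along_toFormalElt]; exact hg'η)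
  have hcomp : Function.Injective (g'.comp g).toRingHom :=
    Groth.Agent.Lib.helper6.H6_ringEnd_injective_of_surjective (g'.comp g).toRingHom
      (hg's.comp hgs)
  have hgi : Function.Injective g := by
    intro x y hxy
    apply hcomp
    show g' (g x) = g' (g y)
    rw [hxy]
  have hcoe : ((AlgEquiv.ofBijective g ⟨hgi, hgs⟩ : R₁.carrier ≃ₐ[Λ] R₂.carrier) :
      R₁.carrier →ₐ[Λ] R₂.carrier) = g := AlgHom.ext fun _ => rfl
  have key : ∀ (e' : R₁.carrier →ₐ[Λ] R₂.carrier), e' = g →
      ∃ (he : R₂.res.comp e' = R₁.res), (ξ₁.along e' he).toFormalElt = ξ₂.toFormalElt := by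
    intro e' he'
    subst he'
    exact ⟨hg, hgη⟩
  obtain ⟨he, h⟩ := key _ hcoe
  exact ⟨_, he, h⟩

end Groth.Agent.S12758
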