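import Groth.Statements.S12800
import Mathlib
import Groth.Agent.Lib.helper1.FibCatFp

set_option autoImplicit false
open CategoryTheory
universe v u
open FibCat

namespace Groth.Agent.S12800

/-- For categories `𝒮`, `𝒯` fibred in groupoids over `C`, a category `ℛ` fibred in setoids over `C`, a
functor `f : 𝒯 ⟶ 𝒮` over `C` with faithful underlying functor and a functor `g : ℛ ⟶ 𝒮` over `C`,
the 2-fibre product `𝒯 ×_𝒮 ℛ` over `C` is fibred in setoids. (The published statement takes stacks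
in groupoids over a site and concludes a stack in setoids; the stack property of the 2-fibre product
is the separate result on 2-fibre products of stacks in groupoids, and the setoid property stated
here needs no topology.) -/
theorem result {C : Type u} [Category.{v} C] {𝒮 𝒯 ℛ : BasedCategory.{v, max u v} C}
    (h𝒮 : FibCat.IsFibGrpd 𝒮.p) (h𝒯 : FibCat.IsFibGrpd 𝒯.p) (hℛ : FibCat.IsFibSetoid ℛ.p) (f : 𝒯 ⥤ᵇ 𝒮) [f.toFunctor.Faithful] (g : ℛ ⥤ᵇ 𝒮) :
    FibCat.IsFibSetoid (FibCat.fp f g).p := by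
  refine ⟨Groth.Agent.H1.FC.H1_isFibGrpd_fp f g h𝒯 hℛ.1 h𝒮, ?_⟩
  intro U a b
  constructor
  intro m m'
  apply Functor.Fiber.hom_ext
  have hm : (FibCat.fp f g).p.IsHomLift (𝟙 U) m.1 := m.2
  have hm' : (FibCat.fp f g).p.IsHomLift (𝟙 U) m'.1 := m'.2
  have h2 : ℛ.p.IsHomLift (𝟙 U) m.1.hom.snd := Groth.Agent.H1.FC.H1_fp_isHomLift_snd f g m.1 (𝟙 U)
  have h2' : ℛ.p.IsHomLift (𝟙 U) m'.1.hom.snd := Groth.Agent.H1.FC.H1_fp_isHomLift_snd f g m'.1 (𝟙 U)
  have ha : ℛ.p.obj a.1.obj.snd = U := IsHomLift.domain_eq ℛ.p (𝟙 U) m.1.hom.snd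
  have hb : ℛ.p.obj b.1.obj.snd = U := IsHomLift.codomain_eq ℛ.p (𝟙 U) m.1.hom.snd
  have hthin := hℛ.2 U
  have e2 : m.1.hom.snd = m'.1.hom.snd := by
    let A : ℛ.p.Fiber U := ⟨a.1.obj.snd, ha⟩
    let B : ℛ.p.Fiber U := ⟨b.1.obj.snd, hb⟩
    let n : A ⟶ B := ⟨m.1.hom.snd, h2⟩
    let n' : A ⟶ B := ⟨m'.1.hom.snd, h2'⟩
    have : n = n' := Subsingleton.elim _ _
    exact congrArg Subtype.val this
  have e1 : m.1.hom.fst = m'.1.hom.fst := by
    apply f.toFunctor.map_injective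
    have w1 := m.1.hom.w
    have w2 := m'.1.hom.w
    rw [← cancel_mono b.1.obj.iso.hom]
    rw [w1, w2, e2]
  apply ObjectProperty.hom_ext
  apply CategoryTheory.Limits.CategoricalPullback.hom_ext
  · exact e1
  · exact e2

end Groth.Agent.S12800
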