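import Groth.Statements.S12816
import Mathlib
import Groth.Agent.Lib.helper1.FibCatYoneda
import Groth.Agent.Lib.helper1.FibCatFiber

set_option autoImplicit false
open CategoryTheory
universe v u
open Stk


open CategoryTheory in
theorem H1_ff_of_equiv_comp {A B D E : Type*} [Category A] [Category B] [Category D] [Category E]
    (EA : A ⥤ B) (EB : D ⥤ E) (P : A ⥤ D) (Φ : B ⥤ E) [EA.IsEquivalence] [EB.IsEquivalence]
    (e : P ⋙ EB = EA ⋙ Φ) : (P.Full ∧ P.Faithful) ↔ (Φ.Full ∧ Φ.Faithful) := by
  constructor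
  · rintro ⟨h1, h2⟩
    have h3 : (EA ⋙ Φ).Full := by rw [← e]; infer_instance
    have h4 : (EA ⋙ Φ).Faithful := by rw [← e]; infer_instance
    have iso : EA.inv ⋙ (EA ⋙ Φ) ≅ Φ :=
      (Functor.associator _ _ _).symm ≪≫ Functor.isoWhiskerRight EA.asEquivalence.counitIso Φ ≪≫ Functor.leftUnitor Φ
    exact ⟨Functor.Full.of_iso iso, Functor.Faithful.of_iso iso⟩
  · rintro ⟨h1, h2⟩
    have h3 : (P ⋙ EB).Full := by rw [e]; infer_instance
    have h4 : (P ⋙ EB).Faithful := by rw [e]; infer_instance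
    exact ⟨Functor.Full.of_comp_faithful P EB, Functor.Faithful.of_comp P EB⟩

namespace Groth.Agent.S12816

/-- Let `𝒳`, `𝒴` be fibred in groupoids over `C` and `F : 𝒳 ⟶ 𝒴` a functor over `C`. Then the underlying
functor of `F` is fully faithful if and only if, for every object `U` of `C`, postcomposition with
`F` is a fully faithful functor from the category of functors `C/U ⟶ 𝒳` over `C` to that of functors
`C/U ⟶ 𝒴` over `C`; under the 2-Yoneda lemma the latter says that `F` induces bijections between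
morphisms of pullbacks `x|_V ⟶ y|_V` and `F(x)|_V ⟶ F(y)|_V` for all objects `x, y` over `U` and all
`V ⟶ U`, that is, isomorphisms of the presheaves of morphisms. (The published statement is for
stacks over a site, not necessarily in groupoids; the stack property plays no role and is not
assumed here, and this row treats categories fibred in groupoids.) -/
theorem result {C : Type u} [Category.{v} C] {𝒳 𝒴 : BasedCategory.{v, max u v} C}
    (h𝒳 : FibCat.IsFibGrpd 𝒳.p) (h𝒴 : FibCat.IsFibGrpd 𝒴.p) (F : 𝒳 ⟶ 𝒴) :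
    (F.toFunctor.Full ∧ F.toFunctor.Faithful) ↔
      ∀ U : C, (Bicategory.postcomp (FibCat.overCat U) F).Full ∧ (Bicategory.postcomp (FibCat.overCat U) F).Faithful := by
  have key : ∀ U : C, ((Bicategory.postcomp (FibCat.overCat U) F).Full ∧ (Bicategory.postcomp (FibCat.overCat U) F).Faithful) ↔
      ((FibCat.fiberFunctor F U).Full ∧ (FibCat.fiberFunctor F U).Faithful) := by
    intro U
    haveI := Groth.Agent.H1.FC.H1_evalAtId_isEquivalence_of_isFibGrpd h𝒳 U
    haveI := Groth.Agent.H1.FC.H1_evalAtId_isEquivalence_of_isFibGrpd h𝒴 U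
    exact H1_ff_of_equiv_comp (FibCat.evalAtId 𝒳 U) (FibCat.evalAtId 𝒴 U) _ _ rfl
  constructor
  · rintro ⟨h1, h2⟩ U
    rw [key]
    exact ⟨Groth.Agent.H1.FC.H1_fiberFunctor_full_of_full F U, Groth.Agent.H1.FC.H1_fiberFunctor_faithful_of_faithful F U⟩
  · intro h
    exact ⟨Groth.Agent.H1.FC.H1_full_of_fiberFunctor F h𝒳 h𝒴 (fun U => ((key U).1 (h U)).1),
      Groth.Agent.H1.FC.H1_faithful_of_fiberFunctor F h𝒳 h𝒴 (fun U => ((key U).1 (h U)).2)⟩

end Groth.Agent.S12816
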