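import Groth.Statements.S12921
import Groth.Statements.S12921
import Mathlib
import Groth.Agent.Lib.helper9.H9_Reyn

set_option autoImplicit false
universe u v w
open HopfRep

namespace Groth.Agent.S12921

/-- Let `k` be a commutative ring, `A` a commutative Hopf algebra over `k`, flat as a `k`-module, `B` a
commutative `k`-algebra with a coaction of `A` that is an algebra map and admits a total integral (a
comodule map `α : A → B` with `α 1 = 1`), and `C = B^A` the subring of invariants. Then for every
ideal `c` of `C` one has `cB ∩ C = c`. (The published statement assumes only that taking invariants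
is exact on `(B, A)`-modules; a total integral, assumed here, gives that exactness.) -/
theorem result
    (k : Type u) [CommRing k] (A : Type v) [CommRing A] [HopfAlgebra k A] [Module.Flat k A]
    (B : Type w) [CommRing B] [Algebra k B] [HopfRep.Comod k A B] [GLin.IsCoactAlg k A B]
    (htame : ∃ α : A →ₗ[k] B, Hoch.IsComodHom A α ∧ α 1 = 1)
    (c : Ideal (GLin.invariants k A B)) :
    (c.map (algebraMap (GLin.invariants k A B) B)).comap (algebraMap (GLin.invariants k A B) B) = c := by
  classical
  obtain ⟨α, hα, hα1⟩ := htame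
  haveI : TameAct.IsHopfMod k A B B := H9_Reyn.isHopfMod_self
  apply le_antisymm _ Ideal.le_comap_map
  intro x hx
  rw [Ideal.mem_comap] at hx
  set E : B →ₗ[k] B := TameAct.reynolds k A B B α with hE
  have hEmem : ∀ b, E b ∈ GLin.invariants k A B := fun b =>
    H9_Reyn.reynolds_mem_fixedPts α hα b
  have key : ∀ y ∈ c.map (algebraMap (GLin.invariants k A B) B),
      ∀ b : B, ∃ c₁ ∈ c, (c₁ : B) = E (b * y) := by
    intro y hy
    unfold Ideal.map at hy
    induction hy using Submodule.span_induction with
    | mem y hy =>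
      obtain ⟨c₀, hc₀, rfl⟩ := hy
      intro b
      refine ⟨c₀ * ⟨E b, hEmem b⟩, c.mul_mem_right _ hc₀, ?_⟩
      show (c₀ : B) * E b = E (b * (c₀ : B))
      rw [mul_comm b, hE, H9_Reyn.reynolds_invariant_mul α (c₀ : B) b c₀.2]
    | zero =>
      intro b
      exact ⟨0, c.zero_mem, by simp⟩
    | add y z _ _ hy hz =>
      intro b
      obtain ⟨c₁, hc₁, h1⟩ := hy b
      obtain ⟨c₂, hc₂, h2⟩ := hz b
      refine ⟨c₁ + c₂, c.add_mem hc₁ hc₂, ?_⟩
      rw [mul_add, map_add, ← h1, ← h2]
      rfl
    | smul b' y _ hy =>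
      intro b
      obtain ⟨c₁, hc₁, h1⟩ := hy (b * b')
      refine ⟨c₁, hc₁, ?_⟩
      rw [h1, smul_eq_mul, mul_assoc]
  obtain ⟨c₁, hc₁, h1⟩ := key _ hx 1
  rw [one_mul] at h1
  have h2 : E (algebraMap (GLin.invariants k A B) B x) = (x : B) :=
    H9_Reyn.reynolds_of_mem_fixedPts α hα1 _ x.2
  have h3 : c₁ = x := Subtype.ext (by rw [h1, h2])
  rw [← h3]
  exact hc₁

end Groth.Agent.S12921
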