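import Groth.Statements.S12923
import Groth.Statements.S12923
import Mathlib
import Groth.Agent.Lib.helper9.H9_Reyn

set_option autoImplicit false
universe u v w
open HopfRep

namespace Groth.Agent.S12923

/-- Let `k` be a commutative ring, `A` a commutative Hopf algebra over `k`, flat as a `k`-module, `B` a
commutative `k`-algebra with a coaction of `A` that is an algebra map and admits a total integral (a
comodule map `α : A → B` with `α 1 = 1`), `C = B^A`, and `b` an ideal of `B` which is a subcomodule
(a closed subscheme of `Spec B` stable under the action). Then the image of `V(b)` under `Spec B →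
Spec C` is the closed set `V(b ∩ C)`. (The published statement assumes only that taking invariants
is exact on `(B, A)`-modules; a total integral, assumed here, gives that exactness.) -/
theorem result
    (k : Type u) [CommRing k] (A : Type v) [CommRing A] [HopfAlgebra k A] [Module.Flat k A]
    (B : Type w) [CommRing B] [Algebra k B] [HopfRep.Comod k A B] [GLin.IsCoactAlg k A B]
    (htame : ∃ α : A →ₗ[k] B, Hoch.IsComodHom A α ∧ α 1 = 1)
    (b : Ideal B) (hb : HopfRep.IsSubcomod (k := k) (A := A) (b.restrictScalars k)) :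
    PrimeSpectrum.comap (algebraMap (GLin.invariants k A B) B) '' PrimeSpectrum.zeroLocus (b : Set B) =
      PrimeSpectrum.zeroLocus ((b.comap (algebraMap (GLin.invariants k A B) B) : Ideal (GLin.invariants k A B)) : Set (GLin.invariants k A B)) := by
  classical
  obtain ⟨α, hα, hα1⟩ := htame
  haveI : TameAct.IsHopfMod k A B B := H9_Reyn.isHopfMod_self
  set C := GLin.invariants k A B with hC
  set E : B →ₗ[k] B := TameAct.reynolds k A B B α with hE
  have hEmem : ∀ y, E y ∈ C := fun y => H9_Reyn.reynolds_mem_fixedPts α hα y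
  have hEfix : ∀ x : C, E (x : B) = (x : B) := fun x =>
    H9_Reyn.reynolds_of_mem_fixedPts α hα1 _ x.2
  -- E maps b into b
  have hEb : ∀ y ∈ b, E y ∈ b := by
    intro y hy
    obtain ⟨z, hz⟩ := hb y hy
    rw [hE, H9_Reyn.reynolds_eq, ← hz]
    generalize z = z
    induction z using TensorProduct.induction_on with
    | zero => simp
    | tmul w a =>
      rw [LinearMap.rTensor_tmul, H9_Reyn.sig_tmul]
      exact b.mul_mem_left _ w.2
    | add z₁ z₂ h1 h2 =>
      rw [map_add, map_add]
      exact b.add_mem h1 h2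
  -- E maps pB into p
  have key : ∀ (p : Ideal C), ∀ y ∈ p.map (algebraMap C B),
      ∀ b' : B, ∃ c₁ ∈ p, (c₁ : B) = E (b' * y) := by
    intro p y hy
    unfold Ideal.map at hy
    induction hy using Submodule.span_induction with
    | mem y hy =>
      obtain ⟨c₀, hc₀, rfl⟩ := hy
      intro b'
      refine ⟨c₀ * ⟨E b', hEmem b'⟩, p.mul_mem_right _ hc₀, ?_⟩
      show (c₀ : B) * E b' = E (b' * (c₀ : B))
      rw [mul_comm b', hE, H9_Reyn.reynolds_invariant_mul α (c₀ : B) b' c₀.2]
    | zero =>
      intro b'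
      exact ⟨0, p.zero_mem, by simp⟩
    | add y z _ _ hy hz =>
      intro b'
      obtain ⟨c₁, hc₁, h1⟩ := hy b'
      obtain ⟨c₂, hc₂, h2⟩ := hz b'
      refine ⟨c₁ + c₂, p.add_mem hc₁ hc₂, ?_⟩
      rw [mul_add, map_add, ← h1, ← h2]
      rfl
    | smul b'' y _ hy =>
      intro b'
      obtain ⟨c₁, hc₁, h1⟩ := hy (b' * b'')
      refine ⟨c₁, hc₁, ?_⟩
      rw [h1, smul_eq_mul, mul_assoc]
  apply Set.Subset.antisymm
  · rintro _ ⟨q, hq, rfl⟩
    rw [PrimeSpectrum.mem_zeroLocus] at hq ⊢
    intro x hx
    exact hq hx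
  · intro p hp
    rw [PrimeSpectrum.mem_zeroLocus] at hp
    -- the ideal b + pB is disjoint from the image of C \ p
    have hdisj : Disjoint ((b ⊔ p.asIdeal.map (algebraMap C B) : Ideal B) : Set B)
        ((p.asIdeal.primeCompl.map (algebraMap C B) : Submonoid B) : Set B) := by
      rw [Set.disjoint_left]
      rintro _ hx ⟨x, hxp, rfl⟩
      apply hxp
      obtain ⟨y, hy, z, hz, hyz⟩ := Submodule.mem_sup.1 hx
      obtain ⟨c₁, hc₁, h1⟩ := key p.asIdeal z hz 1
      rw [one_mul] at h1
      have h2 : (⟨E y, hEmem y⟩ : C) ∈ p.asIdeal := hp (show (⟨E y, hEmem y⟩ : C) ∈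
        (b.comap (algebraMap C B) : Ideal C) from hEb y hy)
      have h3 : x = ⟨E y, hEmem y⟩ + c₁ := by
        apply Subtype.ext
        show (x : B) = E y + (c₁ : B)
        rw [h1, ← map_add, hyz]
        exact (hEfix x).symm
      rw [h3]
      exact p.asIdeal.add_mem h2 hc₁
    obtain ⟨q, hq, hq1, hq2⟩ := Ideal.exists_le_prime_disjoint _ _ hdisj
    refine ⟨⟨q, hq⟩, ?_, ?_⟩
    · rw [PrimeSpectrum.mem_zeroLocus]
      intro x hx
      exact hq1 (Submodule.mem_sup_left hx)
    · apply PrimeSpectrum.ext
      apply le_antisymm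
      · intro x hx
        by_contra hxp
        exact Set.disjoint_left.1 hq2 hx ⟨x, hxp, rfl⟩
      · intro x hx
        exact hq1 (Submodule.mem_sup_right (Ideal.mem_map_of_mem _ hx))

end Groth.Agent.S12923
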