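import Groth.Statements.S12925
import Groth.Statements.S12925
import Mathlib

set_option autoImplicit false
universe u w
open HopfRep

namespace Groth.Agent.S12925

/-- Let `k` be a commutative ring, `M` a commutative group and `B` a commutative `k`-algebra with a
coaction of the group algebra `k[M]` that is an algebra map (an action of the diagonalizable group
scheme `D(M) = Spec k[M]` on `Spec B`). Then the action is tame: there is a comodule map `α : k[M] →
B`, for the regular coaction on `k[M]`, with `α 1 = 1`. -/
theorem result
    (k : Type u) [CommRing k] (M : Type u) [CommGroup M]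
    (B : Type w) [CommRing B] [Algebra k B] [HopfRep.Comod k (MonoidAlgebra k M) B]
    [GLin.IsCoactAlg k (MonoidAlgebra k M) B] :
    ∃ α : MonoidAlgebra k M →ₗ[k] B, Hoch.IsComodHom (MonoidAlgebra k M) α ∧ α 1 = 1 := by
  classical
  let δ : Module.Dual k (MonoidAlgebra k M) :=
    Finsupp.lapply 1 ∘ₗ (MonoidAlgebra.coeffLinearEquiv k).toLinearMap
  have hδ : ∀ (b : M) (c : k), δ (MonoidAlgebra.single b c) = if b = 1 then c else 0 := by
    intro b c
    show (Finsupp.single b c : M →₀ k) 1 = _
    rw [Finsupp.single_apply]
  refine ⟨(Algebra.linearMap k B) ∘ₗ δ, ?_, ?_⟩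
  · unfold Hoch.IsComodHom
    apply MonoidAlgebra.lhom_ext'
    intro g
    apply LinearMap.ext
    intro c
    simp only [LinearMap.comp_apply, MonoidAlgebra.lsingle_apply]
    show HopfRep.Comod.coact (k := k) (A := MonoidAlgebra k M) (algebraMap k B (δ (MonoidAlgebra.single g c))) =
      ((Algebra.linearMap k B) ∘ₗ δ).rTensor (MonoidAlgebra k M)
        (Coalgebra.comul (R := k) (MonoidAlgebra.single g c))
    rw [MonoidAlgebra.comul_single]
    simp only [CommSemiring.comul_apply, TensorProduct.map_tmul, MonoidAlgebra.lsingle_apply,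
      LinearMap.rTensor_tmul, LinearMap.comp_apply, hδ, Algebra.linearMap_apply]
    by_cases hg : g = 1
    · subst hg
      rw [if_pos rfl, if_pos rfl, map_one, Algebra.algebraMap_eq_smul_one, map_smul,
        GLin.IsCoactAlg.coact_one (k := k) (A := MonoidAlgebra k M) (R := B),
        Algebra.TensorProduct.one_def, MonoidAlgebra.one_def, ← TensorProduct.tmul_smul,
        MonoidAlgebra.smul_single, smul_eq_mul, mul_one]
    · rw [if_neg hg, if_neg hg, map_zero, map_zero, TensorProduct.zero_tmul]
  · rw [LinearMap.comp_apply, MonoidAlgebra.one_def, hδ, if_pos rfl, Algebra.linearMap_apply, map_one]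

end Groth.Agent.S12925
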