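import Groth.Statements.S12929
import Groth.Statements.S12929
import Mathlib
open scoped TensorProduct

set_option autoImplicit false
universe u v w w'
open HopfRep

namespace Groth.Agent.S12929

/-- Let `k` be a commutative ring, `A` a commutative Hopf algebra over `k`, `M` a right `A`-comodule and
`N` a `k`-module; give `N ⊗ A` the coaction `id ⊗ Δ`. Then for every `k`-linear map `h : M → N` the
composite `(h ⊗ id_A) ∘ ρ_M : M → N ⊗ A` is a comodule map, and every comodule map `f : M → N ⊗ A`
is of this form for exactly one `h` (which is `(id_N ⊗ ε) ∘ f`): comodule maps `M → N ⊗ A`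
correspond bijectively to linear maps `M → N`. -/
theorem result
    (k : Type u) [CommRing k] (A : Type v) [CommRing A] [HopfAlgebra k A]
    (M : Type w) [AddCommGroup M] [Module k M] [HopfRep.Comod k A M]
    (N : Type w') [AddCommGroup N] [Module k N] :
    (∀ h : M →ₗ[k] N, Hoch.IsComodHom A
        ((Hoch.Ind.equiv k A N).toLinearMap ∘ₗ h.rTensor A ∘ₗ HopfRep.Comod.coact (k := k) (A := A))) ∧
      ∀ f : M →ₗ[k] Hoch.Ind k A N, Hoch.IsComodHom A f →
        ∃! h : M →ₗ[k] N,
          f = (Hoch.Ind.equiv k A N).toLinearMap ∘ₗ h.rTensor A ∘ₗ HopfRep.Comod.coact (k := k) (A := A) := by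
  classical
  set ρ : M →ₗ[k] M ⊗[k] A := HopfRep.Comod.coact (k := k) (A := A) with hρ
  set Δ : A →ₗ[k] A ⊗[k] A := CoalgebraStruct.comul (R := k) (A := A) with hΔ
  have hco : ∀ m, ρ.rTensor A (ρ m) = (TensorProduct.assoc k M A A).symm (Δ.lTensor M (ρ m)) := by
    intro m
    have h := LinearMap.congr_fun (HopfRep.Comod.coassoc (k := k) (A := A) (V := M)) m
    simp only [LinearMap.comp_apply, LinearEquiv.coe_coe] at h
    rw [← h, LinearEquiv.symm_apply_apply]
  have hcu : ∀ m, TensorProduct.rid k M ((CoalgebraStruct.counit (R := k) (A := A)).lTensor M (ρ m)) = m := by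
    intro m
    have h := LinearMap.congr_fun (HopfRep.Comod.counit_comp (k := k) (A := A) (V := M)) m
    simp only [LinearMap.comp_apply] at h
    rw [h]
    simp
  -- coaction of the induced comodule
  have hInd : ∀ z : N ⊗[k] A, HopfRep.Comod.coact (k := k) (A := A) (V := Hoch.Ind k A N) z =
      (TensorProduct.assoc k N A A).symm (Δ.lTensor N z) := fun z => rfl
  have hnat : ∀ (h : M →ₗ[k] N) (x : M ⊗[k] A),
      (TensorProduct.assoc k N A A).symm (Δ.lTensor N (h.rTensor A x)) =
      (h.rTensor A).rTensor A ((TensorProduct.assoc k M A A).symm (Δ.lTensor M x)) := by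
    intro h x
    induction x using TensorProduct.induction_on with
    | zero => simp
    | tmul m a =>
      rw [LinearMap.rTensor_tmul, LinearMap.lTensor_tmul, LinearMap.lTensor_tmul]
      generalize Δ a = y
      induction y using TensorProduct.induction_on with
      | zero => simp
      | tmul p q => simp
      | add y z hy hz => simp only [TensorProduct.tmul_add, map_add, hy, hz]
    | add x y hx hy => simp only [map_add, hx, hy]
  have hcomod : ∀ h : M →ₗ[k] N, Hoch.IsComodHom A
      ((Hoch.Ind.equiv k A N).toLinearMap ∘ₗ h.rTensor A ∘ₗ ρ) := by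
    intro h
    unfold Hoch.IsComodHom
    apply LinearMap.ext
    intro m
    simp only [LinearMap.comp_apply]
    show HopfRep.Comod.coact (k := k) (A := A) (V := Hoch.Ind k A N) (h.rTensor A (ρ m)) =
      ((h.rTensor A) ∘ₗ ρ).rTensor A (ρ m)
    rw [hInd, hnat, LinearMap.rTensor_comp, LinearMap.comp_apply, hco]
  refine ⟨hcomod, ?_⟩
  intro f hf
  -- the counit map N ⊗ A → N
  let ε' : N ⊗[k] A →ₗ[k] N := (TensorProduct.rid k N).toLinearMap ∘ₗ
    (CoalgebraStruct.counit (R := k) (A := A)).lTensor N
  let f' : M →ₗ[k] N ⊗[k] A := f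
  have hf' : ∀ m, (TensorProduct.assoc k N A A).symm (Δ.lTensor N (f' m)) = f'.rTensor A (ρ m) := by
    intro m
    have h := LinearMap.congr_fun hf m
    simp only [LinearMap.comp_apply] at h
    exact h
  have hε1 : ∀ z : N ⊗[k] A, ε'.rTensor A ((TensorProduct.assoc k N A A).symm (Δ.lTensor N z)) = z := by
    intro z
    induction z using TensorProduct.induction_on with
    | zero => simp
    | tmul n a =>
      rw [LinearMap.lTensor_tmul]
      have h1 : ∀ y : A ⊗[k] A, ε'.rTensor A ((TensorProduct.assoc k N A A).symm (n ⊗ₜ[k] y)) =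
          n ⊗ₜ[k] (TensorProduct.lid k A ((CoalgebraStruct.counit (R := k) (A := A)).rTensor A y)) := by
        intro y
        induction y using TensorProduct.induction_on with
        | zero => simp
        | tmul p q => simp [ε', TensorProduct.smul_tmul]
        | add y z hy hz => simp only [TensorProduct.tmul_add, map_add, hy, hz]
      rw [h1, Coalgebra.rTensor_counit_comul, TensorProduct.lid_tmul, one_smul]
    | add x y hx hy => simp only [map_add, hx, hy]
  have hε2 : ∀ (h : M →ₗ[k] N) (x : M ⊗[k] A), ε' (h.rTensor A x) =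
      h (TensorProduct.rid k M ((CoalgebraStruct.counit (R := k) (A := A)).lTensor M x)) := by
    intro h x
    induction x using TensorProduct.induction_on with
    | zero => simp
    | tmul m a => simp [ε']
    | add x y hx hy => simp only [map_add, hx, hy]
  refine ⟨ε' ∘ₗ f', ?_, ?_⟩
  · apply LinearMap.ext
    intro m
    show f' m = (ε' ∘ₗ f').rTensor A (ρ m)
    rw [LinearMap.rTensor_comp, LinearMap.comp_apply, ← hf', hε1]
  · intro h hh
    apply LinearMap.ext
    intro m
    have h1 : f' m = h.rTensor A (ρ m) := by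
      have := LinearMap.congr_fun hh m
      exact this
    show h m = ε' (f' m)
    rw [h1, hε2, hcu]

end Groth.Agent.S12929
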