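import Groth.Statements.S12932
import Mathlib

set_option autoImplicit false
universe u v
open scoped BigOperators
open InvTh

namespace Groth.Agent.S12932

/-- Let `B` be a commutative ring with an action of a finite group `Γ` by ring automorphisms, and call a
prime ideal `P` of `B` tame when the order of its inertia group `{γ | γ • x - x ∈ P for all x}` is
not divisible by the characteristic of `B/P` (its ramification group is trivial). Then every prime
of `B` is tame if and only if the trace `b ↦ Σ_γ γ • b`, which takes values in the invariant ring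
`B^Γ` and is `B^Γ`-linear, is onto `B^Γ` — equivalently, some element of `B` has trace `1`. -/
theorem result
    (B : Type u) [CommRing B] (Γ : Type v) [Group Γ] [Fintype Γ] [MulSemiringAction Γ B] :
    (∃ b : B, ∑ γ : Γ, γ • b = 1) ↔
      ∀ P : Ideal B, P.IsPrime → ((Nat.card (P.inertia Γ) : ℕ) : B ⧸ P) ≠ 0 := by
  classical
  constructor
  · rintro ⟨b, hb⟩ P hP hcard
    obtain ⟨I, hI⟩ : ∃ I : Subgroup Γ, I = P.inertia Γ := ⟨_, rfl⟩
    rw [← hI] at hcard
    have hinv : ∀ ι : Γ, ι ∈ I → ∀ x : B, Ideal.Quotient.mk P (ι • x) = Ideal.Quotient.mk P x := by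
      intro ι hι x
      rw [← sub_eq_zero, ← map_sub, Ideal.Quotient.eq_zero_iff_mem]
      rw [hI] at hι
      exact hι x
    obtain ⟨G, hGdef⟩ : ∃ G : Γ → B ⧸ P, ∀ γ, G γ = Ideal.Quotient.mk P (γ⁻¹ • b) := ⟨_, fun _ => rfl⟩
    have hG : ∀ (γ ι : Γ), ι ∈ I → G (γ * ι) = G γ := by
      intro γ ι hι
      rw [hGdef, hGdef, mul_inv_rev, mul_smul]
      exact hinv ι⁻¹ (I.inv_mem hι) _
    have hG' : ∀ γ, G γ = G ((QuotientGroup.mk γ : Γ ⧸ I).out) := by
      intro γ
      obtain ⟨h, hh⟩ := QuotientGroup.mk_out_eq_mul I γ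
      rw [hh, hG γ h h.2]
    haveI : Fintype (Γ ⧸ I) := Fintype.ofFinite _
    haveI : Fintype ↥I := Fintype.ofFinite _
    have h1 : (1 : B ⧸ P) = ∑ γ : Γ, G γ := by
      rw [← map_one (Ideal.Quotient.mk P), ← hb, map_sum]
      refine Fintype.sum_equiv (Equiv.inv Γ) _ _ (fun γ => ?_)
      rw [hGdef, Equiv.inv_apply, inv_inv]
    have h2 : ∑ γ : Γ, G γ = ∑ x : (Γ ⧸ I) × ↥I, G (x.1.out) := by
      rw [Finset.sum_congr rfl (fun γ _ => hG' γ)]
      exact Fintype.sum_equiv (Subgroup.groupEquivQuotientProdSubgroup (s := I))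
        (fun γ => G ((QuotientGroup.mk γ : Γ ⧸ I).out)) (fun x => G (x.1.out)) (fun γ => rfl)
    have h3 : ∑ x : (Γ ⧸ I) × ↥I, G (x.1.out) = (Nat.card ↥I : B ⧸ P) * ∑ q : Γ ⧸ I, G q.out := by
      rw [Fintype.sum_prod_type, Finset.mul_sum]
      refine Finset.sum_congr rfl (fun q _ => ?_)
      show ∑ _y : ↥I, G q.out = _
      rw [Finset.sum_const, Finset.card_univ, Nat.card_eq_fintype_card, nsmul_eq_mul]
    rw [h2, h3, hcard, zero_mul] at h1
    haveI : Nontrivial (B ⧸ P) := Ideal.Quotient.nontrivial_iff.2 hP.ne_top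
    exact one_ne_zero h1
  · intro htame
    by_contra hno
    push_neg at hno
    obtain ⟨A, hA⟩ : ∃ A : Subring B, ∀ x, x ∈ A ↔ ∀ γ : Γ, γ • x = x :=
      ⟨FixedPoints.subring B Γ, fun x => Iff.rfl⟩
    have hAmem : ∀ a : A, ∀ γ : Γ, γ • (a : B) = a := by
      intro a γ
      exact (hA a).1 a.2 γ
    have htrA : ∀ b : B, ∑ γ : Γ, γ • b ∈ A := by
      intro b
      rw [hA]
      intro g
      rw [Finset.smul_sum]
      refine Fintype.sum_equiv (Equiv.mulLeft g) _ _ (fun γ => ?_)
      rw [Equiv.coe_mulLeft, mul_smul]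
    let J : Ideal A :=
      { carrier := {a | ∃ b : B, ∑ γ : Γ, γ • b = (a : B)}
        add_mem' := by
          rintro a a' ⟨b, hb⟩ ⟨b', hb'⟩
          refine ⟨b + b', ?_⟩
          simp only [smul_add, Finset.sum_add_distrib, hb, hb', Subring.coe_add]
        zero_mem' := ⟨0, by simp⟩
        smul_mem' := by
          rintro c a ⟨b, hb⟩
          refine ⟨(c : B) * b, ?_⟩
          simp only [smul_mul', hAmem c, ← Finset.mul_sum, hb, smul_eq_mul, Subring.coe_mul] }
    have hJ : J ≠ ⊤ := by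
      intro h
      have h1 : (1 : A) ∈ J := by rw [h]; exact Submodule.mem_top
      obtain ⟨b, hb⟩ := h1
      exact hno b hb
    obtain ⟨𝔪, hmax, hJm⟩ := Ideal.exists_le_maximal J hJ
    haveI : Algebra.IsInvariant A B Γ := ⟨fun b hb => ⟨⟨b, (hA b).2 hb⟩, rfl⟩⟩
    haveI : Algebra.IsIntegral A B := Algebra.IsInvariant.isIntegral A B Γ
    have hker : RingHom.ker (algebraMap A B) ≤ 𝔪 := by
      have : RingHom.ker (algebraMap A B) = ⊥ :=
        (RingHom.injective_iff_ker_eq_bot _).1 Subtype.val_injective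
      rw [this]
      exact bot_le
    obtain ⟨Q, hQmax, hQ⟩ := Ideal.exists_ideal_over_maximal_of_isIntegral 𝔪 hker
    have htr : ∀ b : B, ∑ γ : Γ, γ • b ∈ Q := by
      intro b
      have h1 : (⟨∑ γ : Γ, γ • b, htrA b⟩ : A) ∈ 𝔪 := hJm ⟨b, rfl⟩
      rw [← hQ] at h1
      exact h1
    have hQp : Q.IsPrime := hQmax.isPrime
    apply htame Q hQp
    obtain ⟨χ, hχ⟩ : ∃ χ : Γ → (B →* (B ⧸ Q)), ∀ γ b, χ γ b = Ideal.Quotient.mk Q (γ • b) :=
      ⟨fun γ => ((Ideal.Quotient.mk Q).comp (MulSemiringAction.toRingHom Γ B γ)).toMonoidHom,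
        fun γ b => rfl⟩
    have hli := linearIndependent_monoidHom B (B ⧸ Q)
    rw [linearIndependent_iff'] at hli
    have hsum : ∑ f ∈ Finset.univ.image χ,
        (((Finset.univ.filter (fun γ => χ γ = f)).card : B ⧸ Q)) • (f : B → B ⧸ Q) = 0 := by
      funext b
      rw [Finset.sum_apply, Pi.zero_apply]
      have h1 : ∑ f ∈ Finset.univ.image χ, ∑ γ ∈ Finset.univ with χ γ = f, χ γ b =
          ∑ γ : Γ, χ γ b :=
        Finset.sum_fiberwise_of_maps_to (fun γ _ => Finset.mem_image_of_mem χ (Finset.mem_univ γ)) _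
      have h2 : ∑ γ : Γ, χ γ b = 0 := by
        simp only [hχ]
        rw [← map_sum, Ideal.Quotient.eq_zero_iff_mem]
        exact htr b
      rw [← h2, ← h1]
      refine Finset.sum_congr rfl (fun f _ => ?_)
      rw [Pi.smul_apply, smul_eq_mul, ← nsmul_eq_mul, ← Finset.sum_const]
      refine Finset.sum_congr rfl (fun γ hγ => ?_)
      rw [(Finset.mem_filter.1 hγ).2]
    have h0 := hli _ _ hsum (χ 1) (Finset.mem_image_of_mem χ (Finset.mem_univ 1))
    have hcard : Nat.card (Q.inertia Γ) = (Finset.univ.filter (fun γ => χ γ = χ 1)).card := by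
      apply Nat.subtype_card
      intro γ
      rw [Finset.mem_filter]
      constructor
      · rintro ⟨_, h⟩ x
        have := DFunLike.congr_fun h x
        rw [hχ, hχ, one_smul, ← sub_eq_zero, ← map_sub, Ideal.Quotient.eq_zero_iff_mem] at this
        exact this
      · intro h
        refine ⟨Finset.mem_univ _, ?_⟩
        ext x
        rw [hχ, hχ, one_smul, ← sub_eq_zero, ← map_sub, Ideal.Quotient.eq_zero_iff_mem]
        exact h x
    rw [hcard]
    exact h0

end Groth.Agent.S12932
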