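import Groth.Statements.S12936
import Mathlib

set_option autoImplicit false
universe u v
open InvTh

namespace Groth.Agent.S12936

/-- Let `B` be a commutative ring with an action of a finite group `Γ` by ring automorphisms and `P` a
maximal ideal of `B`, with decomposition group `D_P = {γ | γP = P}` and decomposition ring `D =
B^{D_P}`. Then `D = B^Γ + (P ∩ D)`: every element of `B` fixed by `D_P` is congruent modulo `P` to a
`Γ`-invariant element. Hence the residue field of `D` at `P ∩ D` is that of `B^Γ` at `P ∩ B^Γ`; for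
an arbitrary prime `P` the same equality of residue fields follows by localising at `P ∩ B^Γ`. (The
published statement prints this residue field as `k(P)`; the proof establishes the equality with the
residue field of `B^Γ` stated here.) -/
theorem result
    (B : Type u) [CommRing B] (Γ : Type v) [Group Γ] [Finite Γ] [MulSemiringAction Γ B]
    (P : Ideal B) [P.IsMaximal] (x : B)
    (hx : ∀ γ : Γ, (∀ y : B, y ∈ P ↔ γ • y ∈ P) → γ • x = x) :
    ∃ c : B, (∀ γ : Γ, γ • c = c) ∧ x - c ∈ P := by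
  classical
  cases nonempty_fintype Γ
  let H : Subgroup Γ :=
    { carrier := {γ | ∀ y : B, y ∈ P ↔ γ • y ∈ P}
      one_mem' := by intro y; simp
      mul_mem' := by
        intro a b ha hb y
        rw [mul_smul]; exact (hb y).trans (ha _)
      inv_mem' := by
        intro a ha y
        have := ha (a⁻¹ • y)
        rw [smul_inv_smul] at this
        exact this.symm }
  have hH : ∀ γ, γ ∈ H ↔ ∀ y : B, y ∈ P ↔ γ • y ∈ P := fun γ => Iff.rfl
  have ht : ∀ γ : Γ, γ ∉ H → ∃ t : B, γ • t ∈ P ∧ t ∉ P := by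
    intro γ hγ
    by_contra hcon
    push_neg at hcon
    have hQmax : (P.comap (MulSemiringAction.toRingHom Γ B γ)).IsMaximal :=
      Ideal.comap_isMaximal_of_surjective _ (MulAction.surjective γ)
    have hle : P.comap (MulSemiringAction.toRingHom Γ B γ) ≤ P := fun t ht => hcon t ht
    have heq := hQmax.eq_of_le (Ideal.IsMaximal.ne_top ‹_›) hle
    apply hγ
    intro y
    refine ⟨fun hy => ?_, hcon y⟩
    have h2 : y ∈ Ideal.comap (MulSemiringAction.toRingHom Γ B γ) P := by rw [heq]; exact hy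
    exact h2
  choose t ht1 ht2 using ht
  let e₀ : B := ∏ γ : {γ : Γ // γ ∉ H}, t γ.1 γ.2
  have he₀P : e₀ ∉ P := by
    intro h
    obtain ⟨i, _, hi⟩ := (Ideal.IsPrime.prod_mem_iff (hp := (inferInstance : P.IsPrime))).mp h
    exact ht2 _ _ hi
  have he₀γ : ∀ γ : Γ, γ ∉ H → γ • e₀ ∈ P := by
    intro γ hγ
    obtain ⟨r, hr⟩ := Finset.dvd_prod_of_mem (fun γ : {γ : Γ // γ ∉ H} => t γ.1 γ.2)
      (Finset.mem_univ (⟨γ, hγ⟩ : {γ : Γ // γ ∉ H}))
    have : e₀ = t γ hγ * r := hr
    rw [this, smul_mul']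
    exact Ideal.mul_mem_right _ _ (ht1 γ hγ)
  obtain ⟨s, i, hi, hsi⟩ := Ideal.IsMaximal.exists_inv (inferInstance : P.IsMaximal) he₀P
  let e : B := s * e₀
  have he1 : e - 1 ∈ P := by
    have : e - 1 = -i := by rw [← hsi]; ring
    rw [this]; exact neg_mem hi
  have heγ : ∀ γ : Γ, γ ∉ H → γ • e ∈ P := by
    intro γ hγ
    show γ • (s * e₀) ∈ P
    rw [smul_mul']
    exact Ideal.mul_mem_left _ _ (he₀γ γ hγ)
  let e' : B := ∏ δ : H, (δ : Γ) • e
  let z : B := x * e'
  have hzH : ∀ δ' : Γ, δ' ∈ H → δ' • z = z := by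
    intro δ' hδ'
    show δ' • (x * e') = x * e'
    rw [smul_mul', hx δ' ((hH δ').mp hδ')]
    congr 1
    show δ' • (∏ δ : H, (δ : Γ) • e) = ∏ δ : H, (δ : Γ) • e
    have : δ' • (∏ δ : H, (δ : Γ) • e) = ∏ δ : H, δ' • ((δ : Γ) • e) :=
      map_prod (MulSemiringAction.toRingHom Γ B δ') _ _
    rw [this]
    refine Fintype.prod_equiv (Equiv.mulLeft (⟨δ', hδ'⟩ : H)) _ _ (fun δ => ?_)
    simp [mul_smul]
  have he'1 : e' - 1 ∈ P := by
    rw [← Ideal.Quotient.eq, map_one]
    show Ideal.Quotient.mk P (∏ δ : H, (δ : Γ) • e) = 1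
    rw [map_prod]
    refine Finset.prod_eq_one (fun δ _ => ?_)
    rw [← map_one (Ideal.Quotient.mk P), Ideal.Quotient.eq]
    have : (δ : Γ) • e - 1 = (δ : Γ) • (e - 1) := by rw [smul_sub, smul_one]
    rw [this]
    exact ((hH δ).mp δ.2 _).mp he1
  have hγz : ∀ γ : Γ, γ ∉ H → γ • z ∈ P := by
    intro γ hγ
    obtain ⟨r, hr⟩ := Finset.dvd_prod_of_mem (fun δ : H => (δ : Γ) • e) (Finset.mem_univ (1 : H))
    have hr' : e' = e * r := by simpa using hr
    show γ • (x * e') ∈ P
    rw [hr', smul_mul', smul_mul']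
    exact Ideal.mul_mem_left _ _ (Ideal.mul_mem_right _ _ (heγ γ hγ))
  let F : Γ ⧸ H → B := fun q => Quotient.liftOn' q (fun γ => γ • z) (by
    intro a b hab
    rw [QuotientGroup.leftRel_apply] at hab
    have : b = a * (a⁻¹ * b) := by group
    show a • z = b • z
    rw [this, mul_smul, hzH _ hab])
  have hFmk : ∀ γ : Γ, F (γ : Γ ⧸ H) = γ • z := fun γ => rfl
  refine ⟨∑ q, F q, ?_, ?_⟩
  · intro σ
    rw [Finset.smul_sum]
    have h1 : ∀ q : Γ ⧸ H, σ • F q = F (σ • q) := by
      intro q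
      induction q using QuotientGroup.induction_on with
      | H γ => rw [hFmk, ← mul_smul]; rfl
    simp only [h1]
    exact Fintype.sum_equiv (MulAction.toPerm σ) _ _ (fun q => rfl)
  · have hsplit := Finset.add_sum_erase Finset.univ F (Finset.mem_univ ((1 : Γ) : Γ ⧸ H))
    rw [← hsplit, hFmk, one_smul]
    have hrest : ∑ q ∈ Finset.univ.erase ((1 : Γ) : Γ ⧸ H), F q ∈ P := by
      refine Ideal.sum_mem _ (fun q hq => ?_)
      rw [Finset.mem_erase] at hq
      induction q using QuotientGroup.induction_on with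
      | H γ =>
        rw [hFmk]
        apply hγz
        intro hγ
        apply hq.1
        rw [QuotientGroup.eq]
        simpa using hγ
    have : x - (z + ∑ q ∈ Finset.univ.erase ((1 : Γ) : Γ ⧸ H), F q)
        = -(x * (e' - 1)) - ∑ q ∈ Finset.univ.erase ((1 : Γ) : Γ ⧸ H), F q := by
      show x - (x * e' + _) = _
      ring
    rw [this]
    exact sub_mem (neg_mem (Ideal.mul_mem_left _ _ he'1)) hrest

end Groth.Agent.S12936
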