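import Groth.Statements.S13049

set_option autoImplicit false
universe u
open FrobAlg

namespace Groth.Agent.S13049

/-- Let p be a prime and A a commutative ring of characteristic p whose nilradical N satisfies x^(p^e) =
0 for all x ∈ N and some fixed e (for instance A Noetherian). Then the map between the inverse-limit
perfections along the absolute Frobenius, lim (⋯ → A → A) → lim (⋯ → A/N → A/N), induced by the
projection A → A/N, is bijective. (The published argument takes A of finite type over a field, where
the nilradical is finitely generated; this row assumes only that the nilradical is killed by one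
fixed iterate of Frobenius, which is all that argument uses.) -/
theorem result
    (p : ℕ) [Fact p.Prime] (A : Type u) [CommRing A] [CharP A p]
    [CharP (A ⧸ nilradical A) p] (e : ℕ) (he : ∀ x ∈ nilradical A, x ^ p ^ e = 0) :
    Function.Bijective (Perfection.map p (Ideal.Quotient.mk (nilradical A))) := by
  have key : ∀ (f : Perfection A p) (m n : ℕ),
      Perfection.coeff A p (m + n) f ^ p ^ n = Perfection.coeff A p m f := by
    intro f m n
    exact Perfection.coeffMonoidHom_pow_p_pow' f m n
  have keyQ : ∀ (f : Perfection (A ⧸ nilradical A) p) (m n : ℕ),
      Perfection.coeff _ p (m + n) f ^ p ^ n = Perfection.coeff _ p m f := by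
    intro f m n
    exact Perfection.coeffMonoidHom_pow_p_pow' f m n
  constructor
  · intro f g hfg
    ext n
    have h1 : ∀ m, Perfection.coeff A p m f - Perfection.coeff A p m g ∈ nilradical A := by
      intro m
      have := congrArg (Perfection.coeff _ p m) hfg
      rw [Perfection.coeff_map, Perfection.coeff_map] at this
      rw [← Ideal.Quotient.eq]
      exact this
    have h2 := he _ (h1 (n + e))
    rw [sub_pow_char_pow] at h2
    rw [key, key] at h2
    exact sub_eq_zero.mp h2
  · intro b
    choose a ha using fun n => Ideal.Quotient.mk_surjective (Perfection.coeff _ p n b)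
    have hstep : ∀ n, a (n + 1) ^ p - a n ∈ nilradical A := by
      intro n
      rw [← Ideal.Quotient.eq, map_pow, ha, ha]
      exact Perfection.coeff_pow_p' b n
    refine ⟨⟨fun n => a (n + e) ^ p ^ e, ?_⟩, ?_⟩
    · intro n
      have h2 := he _ (hstep (n + e))
      rw [sub_pow_char_pow, sub_eq_zero] at h2
      show (a (n + 1 + e) ^ p ^ e) ^ p = a (n + e) ^ p ^ e
      rw [← h2, ← pow_mul, ← pow_mul, mul_comm, Nat.add_right_comm]
    · ext n
      rw [Perfection.coeff_map]
      show Ideal.Quotient.mk (nilradical A) (a (n + e) ^ p ^ e) = _
      rw [map_pow, ha, keyQ]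

end Groth.Agent.S13049
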