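import Groth.Statements.S13055
import Mathlib
import Groth.Agent.Lib.helper7.ZetaA

set_option autoImplicit false
universe u
open CategoryTheory AlgebraicGeometry
open Zeta

namespace Groth.Agent.S13055

/-- Let X be a scheme of finite type over a finite field k with q elements and P = a_d y^d + ⋯ + a_0 ∈
ℤ[y] with N_m = P(q^m) for every m ≥ 1 (X is of polynomial count). Then Z(X, t) = ∏_{i = 0}^{d} (1 −
q^i t)^{−a_i}; stated cleared of denominators, with the factors of positive exponent moved to the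
left. -/
theorem result {k : Type u} [Field k] [Finite k] {X : Scheme.{u}}
    (f : X ⟶ Spec (CommRingCat.of k)) [LocallyOfFiniteType f] [QuasiCompact f] (P : Polynomial ℤ)
    (hP : ∀ m : ℕ, 1 ≤ m → (Zeta.nPts f m : ℤ) = P.eval ((Nat.card k : ℤ) ^ m)) :
    Zeta.zetaFun f * ∏ i ∈ Finset.range (P.natDegree + 1),
        (1 - PowerSeries.C ((Nat.card k : ℚ) ^ i) * PowerSeries.X) ^ (P.coeff i).toNat =
      ∏ i ∈ Finset.range (P.natDegree + 1),
        (1 - PowerSeries.C ((Nat.card k : ℚ) ^ i) * PowerSeries.X) ^ (-P.coeff i).toNat := by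
  have hZ : Zeta.zetaFun f = Groth.Agent.Lib.helper7.H7_zZ (fun m => (Zeta.nPts f m : ℚ)) := rfl
  rw [hZ]
  apply Groth.Agent.Lib.helper7.H7_zeta_polycount (fun m => (Zeta.nPts f m : ℚ)) (Nat.card k : ℚ)
    P.natDegree (fun i => P.coeff i)
  intro m hm
  have h1 := hP m hm
  rw [Polynomial.eval_eq_sum_range] at h1
  have h2 : ((Zeta.nPts f m : ℤ) : ℚ) = (Zeta.nPts f m : ℚ) := by push_cast; rfl
  show (Zeta.nPts f m : ℚ) = _
  rw [← h2, h1]
  push_cast
  rfl

end Groth.Agent.S13055
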