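import Groth.Statements.S13056
import Groth.Statements.S13056
import Mathlib
import Groth.Agent.Lib.helper9.H9_CharpolyRevLog
import Groth.Agent.Lib.helper9.H9_DlogSeries

set_option autoImplicit false
universe u v
open Zeta

namespace Groth.Agent.S13056

/-- For an endomorphism φ of a finite-dimensional vector space over a field K, det(Id − tφ) = exp(−∑_{m
≥ 1} tr(φ^m) t^m / m) as power series in t. Stated for a square matrix M, with det(1 − tM) Mathlib's
reversed characteristic polynomial, and over a field of characteristic zero (the exponential series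
needs ℚ ⊆ K; this is the case in which the identity is used). -/
theorem result {K : Type u} [Field K] [CharZero K]
    {n : Type v} [Fintype n] [DecidableEq n] (M : Matrix n n K) :
    ((M.charpolyRev : Polynomial K) : PowerSeries K) =
      PowerSeries.subst (PowerSeries.mk fun m : ℕ => -(Matrix.trace (M ^ m)) / (m : K))
        (PowerSeries.exp K) := by
  classical
  open PowerSeries Groth.Agent.H9Dlog in
  set L : K⟦X⟧ := PowerSeries.mk fun m : ℕ => -(Matrix.trace (M ^ m)) / (m : K) with hLdef
  have hL0 : constantCoeff L = 0 := by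
    rw [← coeff_zero_eq_constantCoeff_apply, hLdef, coeff_mk]; simp
  have hmain := Groth.Agent.H9CRL.main M
  have hDL : d⁄dX K L = -(PowerSeries.mk fun v : ℕ => Matrix.trace (M ^ (v + 1))) := by
    ext v
    rw [coeff_derivative, hLdef, coeff_mk, map_neg, coeff_mk]
    have h3 : ((v : K) + 1) ≠ 0 := by
      have : ((v + 1 : ℕ) : K) ≠ 0 := Nat.cast_ne_zero.mpr (Nat.succ_ne_zero v)
      simpa using this
    push_cast
    field_simp
  have hf : (PowerSeries.mk fun n : ℕ => if n = 0 then 0 else Matrix.trace (M ^ n)) =
      X * (PowerSeries.mk fun v : ℕ => Matrix.trace (M ^ (v + 1))) := by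
    ext n
    cases n with
    | zero => simp
    | succ n => rw [coeff_succ_X_mul, coeff_mk, coeff_mk, if_neg (Nat.succ_ne_zero n)]
  have hF : d⁄dX K (M.charpolyRev : K⟦X⟧) = (M.charpolyRev : K⟦X⟧) * d⁄dX K L := by
    rw [derivative_coe, hDL]
    ext k
    have h := congrArg (coeff (k + 1)) hmain
    rw [hf, mul_left_comm, coeff_succ_X_mul, Polynomial.coeff_coe, Polynomial.coeff_neg,
      Polynomial.coeff_X_mul] at h
    rw [mul_neg, map_neg, ← h, neg_neg, Polynomial.coeff_coe]
  refine dlog_unique' hF (dlog_exp_subst' hL0) ?_
  rw [constantCoeff_exp_subst' hL0, Polynomial.constantCoeff_coe,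
    Polynomial.coeff_zero_eq_eval_zero, Matrix.eval_charpolyRev]

end Groth.Agent.S13056
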