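import Groth.Statements.S13057
import Mathlib

set_option autoImplicit false
universe u
open Zeta

namespace Groth.Agent.S13057

/-- A power series f = ∑_{m ≥ 0} a_m t^m over a field L lies in L(t), i.e. f · Q = P for some
polynomials P, Q with Q ≠ 0, if and only if there are natural numbers M, N such that the vectors
(a_i, a_{i+1}, …, a_{i+N}) ∈ L^{N+1}, i ≥ M, span a proper subspace. -/
theorem result {L : Type u} [Field L]
    (f : PowerSeries L) :
    (∃ P Q : Polynomial L, Q ≠ 0 ∧ f * (Q : PowerSeries L) = (P : PowerSeries L)) ↔
      ∃ M N : ℕ, Submodule.span L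
          {v : Fin (N + 1) → L | ∃ i : ℕ, M ≤ i ∧ v = fun j : Fin (N + 1) => PowerSeries.coeff (i + (j : ℕ)) f} ≠ ⊤ := by
  classical
  constructor
  · rintro ⟨P, Q, hQ, hfQ⟩
    refine ⟨P.natDegree + 1, Q.natDegree, ?_⟩
    set N := Q.natDegree with hN
    let φ : (Fin (N + 1) → L) →ₗ[L] L :=
      ∑ k : Fin (N + 1), (Q.coeff k) • LinearMap.proj (Fin.rev k)
    have hker : Submodule.span L
        {v : Fin (N + 1) → L | ∃ i : ℕ, P.natDegree + 1 ≤ i ∧
          v = fun j : Fin (N + 1) => PowerSeries.coeff (i + (j : ℕ)) f} ≤ LinearMap.ker φ := by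
      rw [Submodule.span_le]
      rintro _ ⟨i, hi, rfl⟩
      rw [SetLike.mem_coe, LinearMap.mem_ker]
      have h1 : PowerSeries.coeff (i + N) ((Q : PowerSeries L) * f) = 0 := by
        rw [mul_comm, hfQ, Polynomial.coeff_coe]
        exact Polynomial.coeff_eq_zero_of_natDegree_lt (by omega)
      rw [PowerSeries.coeff_mul,
        Finset.Nat.sum_antidiagonal_eq_sum_range_succ
          (fun a b => PowerSeries.coeff a (Q : PowerSeries L) * PowerSeries.coeff b f),
        show (i + N).succ = (N + 1) + i by omega, Finset.sum_range_add] at h1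
      have h2 : ∑ x ∈ Finset.range i, PowerSeries.coeff (N + 1 + x) (Q : PowerSeries L) *
          PowerSeries.coeff (i + N - (N + 1 + x)) f = 0 := by
        apply Finset.sum_eq_zero
        intro x _
        rw [Polynomial.coeff_coe, Polynomial.coeff_eq_zero_of_natDegree_lt (by omega), zero_mul]
      rw [h2, add_zero, Finset.sum_range] at h1
      rw [← h1]
      simp only [φ, LinearMap.sum_apply, LinearMap.smul_apply, LinearMap.proj_apply, smul_eq_mul,
        Polynomial.coeff_coe]
      apply Finset.sum_congr rfl
      intro k _
      have hk := k.isLt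
      have e : i + ((Fin.rev k : Fin (N + 1)) : ℕ) = i + N - k := by rw [Fin.val_rev]; omega
      rw [e]
    intro htop
    rw [htop, top_le_iff] at hker
    -- φ ≠ 0
    have hq : Q.coeff N ≠ 0 := by
      rw [hN]
      exact Polynomial.leadingCoeff_ne_zero.mpr hQ
    have : φ (Pi.single (Fin.rev (Fin.last N)) 1) = 0 := by
      have : (Pi.single (Fin.rev (Fin.last N)) 1 : Fin (N + 1) → L) ∈ LinearMap.ker φ := by
        rw [hker]; trivial
      exact this
    simp only [φ, LinearMap.sum_apply, LinearMap.smul_apply, LinearMap.proj_apply, smul_eq_mul] at this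
    rw [Finset.sum_eq_single (Fin.last N)] at this
    · simp at this
      exact hq this
    · intro b _ hb
      rw [Pi.single_apply, if_neg, mul_zero]
      intro h
      exact hb (Fin.rev_injective h)
    · intro h
      exact absurd (Finset.mem_univ _) h
  · rintro ⟨M, N, hspan⟩
    obtain ⟨φ, hφ, hle⟩ := Submodule.exists_le_ker_of_lt_top _ (lt_top_iff_ne_top.mpr hspan)
    set c : Fin (N + 1) → L := fun j => φ (Pi.single j 1) with hc
    have hφv : ∀ v : Fin (N + 1) → L, φ v = ∑ j, v j * c j := by
      intro v
      rw [LinearMap.pi_apply_eq_sum_univ φ v]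
      apply Finset.sum_congr rfl
      intro j _
      rw [smul_eq_mul, hc]
      congr 2
      ext k
      simp [Pi.single_apply, eq_comm]
    let Q : Polynomial L := ∑ j : Fin (N + 1), Polynomial.monomial (N - (j : ℕ)) (c j)
    have hQc : (Q : PowerSeries L) =
        ∑ j : Fin (N + 1), PowerSeries.C (c j) * PowerSeries.X ^ (N - (j : ℕ)) := by
      simp only [Q]
      rw [← Polynomial.coeToPowerSeries.ringHom_apply, map_sum]
      apply Finset.sum_congr rfl
      intro j _
      rw [Polynomial.coeToPowerSeries.ringHom_apply, ← Polynomial.C_mul_X_pow_eq_monomial]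
      simp
    have hcoeffQ : ∀ n, PowerSeries.coeff n (f * (Q : PowerSeries L)) =
        ∑ j : Fin (N + 1),
          if N - (j : ℕ) ≤ n then c j * PowerSeries.coeff (n - (N - (j : ℕ))) f else 0 := by
      intro n
      rw [hQc, Finset.mul_sum, map_sum]
      apply Finset.sum_congr rfl
      intro j _
      rw [show f * (PowerSeries.C (c j) * PowerSeries.X ^ (N - (j : ℕ))) =
        (PowerSeries.C (c j) * f) * PowerSeries.X ^ (N - (j : ℕ)) by ring,
        PowerSeries.coeff_mul_X_pow']
      split_ifs <;> simp [PowerSeries.coeff_C_mul]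
    refine ⟨PowerSeries.trunc (M + N) (f * (Q : PowerSeries L)), Q, ?_, ?_⟩
    · -- Q ≠ 0
      have hcne : ∃ j, c j ≠ 0 := by
        by_contra hall
        push Not at hall
        apply hφ
        apply LinearMap.ext
        intro v
        rw [hφv]
        simp [hall]
      obtain ⟨j₀, hj₀⟩ := hcne
      intro hQ0
      have h1 : Q.coeff (N - (j₀ : ℕ)) = c j₀ := by
        simp only [Q, Polynomial.finsetSum_coeff, Polynomial.coeff_monomial]
        rw [Finset.sum_eq_single j₀]
        · simp
        · intro b _ hb
          rw [if_neg]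
          intro h
          apply hb
          apply Fin.ext
          have := b.isLt
          have := j₀.isLt
          omega
        · intro h
          exact absurd (Finset.mem_univ _) h
      rw [hQ0] at h1
      simp at h1
      exact hj₀ h1.symm
    · ext n
      rw [Polynomial.coeff_coe, PowerSeries.coeff_trunc]
      split_ifs with hn
      · rfl
      · rw [hcoeffQ]
        have hmem : (fun j : Fin (N + 1) => PowerSeries.coeff ((n - N) + (j : ℕ)) f) ∈
            LinearMap.ker φ := by
          apply hle
          apply Submodule.subset_span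
          exact ⟨n - N, by omega, rfl⟩
        rw [LinearMap.mem_ker, hφv] at hmem
        rw [← hmem]
        apply Finset.sum_congr rfl
        intro j _
        have := j.isLt
        have e : n - N + (j : ℕ) = n - (N - (j : ℕ)) := by omega
        rw [if_pos (by omega), mul_comm, e]

end Groth.Agent.S13057
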