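import Groth.Statements.S13058
import Mathlib
import Groth.Agent.S13057

set_option autoImplicit false
universe u v
open Zeta

namespace Groth.Agent.S13058

/-- If L'/L is a field extension, a power series f ∈ L⟦t⟧ belongs to L(t) exactly when it belongs to
L'(t); here membership in L(t) means f · Q = P for polynomials P, Q over the field in question with
Q ≠ 0. -/
theorem result {L : Type u} {L' : Type v} [Field L] [Field L']
    [Algebra L L'] (f : PowerSeries L) :
    (∃ P Q : Polynomial L', Q ≠ 0 ∧
        PowerSeries.map (algebraMap L L') f * (Q : PowerSeries L') = (P : PowerSeries L')) ↔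
      ∃ P Q : Polynomial L, Q ≠ 0 ∧ f * (Q : PowerSeries L) = (P : PowerSeries L) := by
  classical
  constructor
  · intro h
    rw [Groth.Agent.S13057.result] at h
    obtain ⟨M, N, hspan⟩ := h
    rw [Groth.Agent.S13057.result]
    refine ⟨M, N, ?_⟩
    intro htop
    apply hspan
    rw [eq_top_iff]
    have key : ∀ v ∈ Submodule.span L {v : Fin (N + 1) → L | ∃ i : ℕ, M ≤ i ∧
          v = fun j : Fin (N + 1) => PowerSeries.coeff (i + (j : ℕ)) f},
        (fun j => algebraMap L L' (v j)) ∈ Submodule.span L'
          {v : Fin (N + 1) → L' | ∃ i : ℕ, M ≤ i ∧ v = fun j : Fin (N + 1) =>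
            PowerSeries.coeff (i + (j : ℕ)) (PowerSeries.map (algebraMap L L') f)} := by
      intro v hv
      induction hv using Submodule.span_induction with
      | mem x hx =>
        obtain ⟨i, hi, rfl⟩ := hx
        apply Submodule.subset_span
        exact ⟨i, hi, by ext j; simp⟩
      | zero =>
        have : (fun j : Fin (N + 1) => algebraMap L L' ((0 : Fin (N + 1) → L) j)) = 0 := by
          ext j; simp
        rw [this]
        exact Submodule.zero_mem _
      | add x y _ _ hx hy =>
        have : (fun j => algebraMap L L' ((x + y) j)) =
            (fun j => algebraMap L L' (x j)) + (fun j => algebraMap L L' (y j)) := by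
          ext j; simp
        rw [this]
        exact Submodule.add_mem _ hx hy
      | smul a x _ hx =>
        have : (fun j => algebraMap L L' ((a • x) j)) =
            algebraMap L L' a • (fun j => algebraMap L L' (x j)) := by
          ext j; simp
        rw [this]
        exact Submodule.smul_mem _ _ hx
    intro w _
    have hw : w = ∑ j, w j • (Pi.single j 1 : Fin (N + 1) → L') := by
      ext k
      simp [Finset.sum_apply, Pi.single_apply]
    rw [hw]
    apply Submodule.sum_mem
    intro j _
    apply Submodule.smul_mem
    have h1 := key (Pi.single j 1) (by rw [htop]; trivial)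
    convert h1 using 1
    ext k
    simp only [Pi.single_apply]
    split_ifs <;> simp
  · rintro ⟨P, Q, hQ, hfQ⟩
    refine ⟨P.map (algebraMap L L'), Q.map (algebraMap L L'), ?_, ?_⟩
    · rw [Ne, Polynomial.map_eq_zero_iff (algebraMap L L').injective]
      exact hQ
    · rw [Polynomial.polynomial_map_coe, Polynomial.polynomial_map_coe, ← map_mul, hfQ]

end Groth.Agent.S13058
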