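import Groth.Statements.S13060
import Mathlib

set_option autoImplicit false
universe u v w x
open TensorProduct
open Zeta

namespace Groth.Agent.S13060

/-- Let k be a field, V and W vector spaces over k and G a group acting on V by k-linear automorphisms;
for the induced action on V ⊗_k W (trivial on W) one has (V ⊗_k W)^G = V^G ⊗_k W, i.e. the
invariants of V ⊗ W are the image of V^G ⊗ W → V ⊗ W. -/
theorem result {k : Type u} [Field k] {G : Type v} [Group G]
    {V : Type w} {W : Type x} [AddCommGroup V] [Module k V] [AddCommGroup W] [Module k W]
    (ρ : Representation k G V) :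
    (ρ.tprod (Representation.trivial k G W)).invariants =
      LinearMap.range (TensorProduct.map ρ.invariants.subtype (LinearMap.id : W →ₗ[k] W)) := by
  classical
  let 𝒞 := Module.Free.chooseBasis k W
  have htriv : ∀ g : G, Representation.trivial k G W g = LinearMap.id := fun g => rfl
  apply le_antisymm
  · intro t ht
    rw [Representation.mem_invariants] at ht
    let E := TensorProduct.equivFinsuppOfBasisRight (R := k) (M := V) 𝒞
    have hE : ∀ (g : G) (t : V ⊗[k] W) (i), E (TensorProduct.map (ρ g) LinearMap.id t) i = ρ g (E t i) := by
      intro g t i
      induction t using TensorProduct.induction_on with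
      | zero => simp
      | tmul m n => simp [E, TensorProduct.equivFinsuppOfBasisRight_apply_tmul_apply]
      | add x y hx hy => simp only [map_add, Finsupp.add_apply, hx, hy]
    have hinv : ∀ i, E t i ∈ ρ.invariants := by
      intro i g
      rw [← hE]
      have := ht g
      rw [Representation.tprod_apply, htriv] at this
      rw [this]
    have : t = E.symm (E t) := (E.symm_apply_apply t).symm
    rw [this, TensorProduct.equivFinsuppOfBasisRight_symm_apply]
    refine Submodule.sum_mem _ (fun i _ => ?_)
    exact ⟨(⟨E t i, hinv i⟩ : ρ.invariants) ⊗ₜ 𝒞 i, by simp⟩
  · rintro _ ⟨s, rfl⟩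
    rw [Representation.mem_invariants]
    intro g
    rw [Representation.tprod_apply, htriv]
    induction s using TensorProduct.induction_on with
    | zero => simp
    | tmul m n =>
      simp only [TensorProduct.map_tmul, Submodule.subtype_apply, LinearMap.id_apply]
      rw [m.2 g]
    | add x y hx hy => simp only [map_add, hx, hy]

end Groth.Agent.S13060
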