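import Groth.Statements.S13061
import Groth.Agent.Lib.helper6.InvPow

set_option autoImplicit false
universe u v w
open Zeta

namespace Groth.Agent.S13061

/-- Let A be a commutative algebra over a field k, G a finite group acting on A by k-algebra
automorphisms and I ⊆ A an ideal preserved by G. If p^n is the largest power of p = char(k) dividing
|G| (with p^n = 1 when char(k) = 0), then for every G-invariant b ∈ A/I the power b^{p^n} lies in
the image of A^G → (A/I)^G. (The published statement takes A finitely generated over k, which the
proof does not use.) -/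
theorem result {k : Type u} [Field k]
    {A : Type v} [CommRing A] [Algebra k A] {G : Type w} [Group G] [Finite G]
    [MulSemiringAction G A] [SMulCommClass G k A] (I : Ideal A)
    (hI : ∀ (g : G) (a : A), a ∈ I → g • a ∈ I) (u : A) (hu : ∀ g : G, g • u - u ∈ I) :
    ∃ a : A, (∀ g : G, g • a = a) ∧
      Ideal.Quotient.mk I a =
        Ideal.Quotient.mk I u ^ (ringChar k ^ (Nat.card G).factorization (ringChar k)) := by
  classical
  cases nonempty_fintype G
  have hcard : Nat.card G = Fintype.card G := Nat.card_eq_fintype_card
  rw [hcard]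
  set N := Fintype.card G with hN
  set p := ringChar k with hp
  have hNpos : N ≠ 0 := Fintype.card_ne_zero
  have key : p ^ N.factorization p ≤ N ∧ ((N.choose (p ^ N.factorization p) : ℕ) : k) ≠ 0 := by
    rcases CharP.char_is_prime_or_zero k p with hpp | hp0
    · haveI := Fact.mk hpp
      refine ⟨Nat.ordProj_le p hNpos, ?_⟩
      rw [Ne, CharP.cast_eq_zero_iff k p]
      have hNqm : p ^ N.factorization p * (N / p ^ N.factorization p) = N :=
        Nat.ordProj_mul_ordCompl_eq_self N p
      have hpm : ¬ p ∣ N / p ^ N.factorization p := Nat.not_dvd_ordCompl hpp hNpos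
      have h1 := Choose.choose_pow_mul_pow_mul_modEq_choose_nat (p := p) (k := N.factorization p)
        (a := N / p ^ N.factorization p) (b := 1)
      rw [mul_one, hNqm, Nat.choose_one_right] at h1
      intro hdvd
      exact hpm ((Nat.modEq_zero_iff_dvd.mp) ((h1.symm.trans (Nat.modEq_zero_iff_dvd.mpr hdvd))))
    · haveI : CharP k 0 := hp0 ▸ (inferInstance : CharP k p)
      haveI : CharZero k := CharP.charP_to_charZero k
      rw [hp0, Nat.factorization_zero_right, pow_zero, Nat.choose_one_right]
      exact ⟨Nat.one_le_iff_ne_zero.mpr hNpos, Nat.cast_ne_zero.mpr hNpos⟩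
  have hunit : IsUnit (((N.choose (p ^ N.factorization p) : ℕ)) : A) := by
    have := (IsUnit.mk0 _ key.2).map (algebraMap k A)
    rwa [map_natCast] at this
  obtain ⟨a, ha, ha'⟩ := Groth.Agent.Lib.helper6.H6_exists_invariant_pow I u hu _ key.1 hunit
  exact ⟨a, ha, by rw [← map_pow]; exact Ideal.Quotient.eq.mpr ha'⟩

end Groth.Agent.S13061
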