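import Groth.Statements.S13075
import Mathlib

set_option autoImplicit false
open Zeta

namespace Groth.Agent.S13075

/-- For the formal power series exp(t) = ∑_{m ≥ 0} t^m / m! and log(1 + t) = ∑_{m ≥ 1} (−1)^{m+1} t^m /
m over ℚ, log(exp(u)) = u and exp(log(1 + u)) = 1 + u for every u ∈ tℚ⟦t⟧; stated for u = t (the
general case is obtained by substitution): substituting exp(t) − 1 into log(1 + ·) gives t, and
substituting log(1 + t) into exp gives 1 + t. -/
theorem result :
    PowerSeries.subst (PowerSeries.exp ℚ - 1)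
        (PowerSeries.mk fun m : ℕ => if m = 0 then (0 : ℚ) else (-1) ^ (m + 1) / (m : ℚ)) =
      PowerSeries.X ∧
    PowerSeries.subst (PowerSeries.mk fun m : ℕ => if m = 0 then (0 : ℚ) else (-1) ^ (m + 1) / (m : ℚ))
        (PowerSeries.exp ℚ) = 1 + PowerSeries.X := by
  have hlog : (PowerSeries.mk fun m : ℕ => if m = 0 then (0 : ℚ) else (-1) ^ (m + 1) / (m : ℚ)) =
      PowerSeries.log ℚ := by
    ext n
    simp [PowerSeries.coeff_log]
  rw [hlog]
  -- geometric series
  have hGd : PowerSeries.derivative ℚ (PowerSeries.log ℚ) =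
      PowerSeries.mk fun n => ((-1 : ℚ) ^ n) := by
    rw [PowerSeries.deriv_log]
    ext n
    simp
  have hG1 : (1 + PowerSeries.X) * (PowerSeries.mk fun n => ((-1 : ℚ) ^ n)) = 1 := by
    ext n
    rw [add_mul, one_mul, map_add]
    cases n with
    | zero => simp
    | succ k =>
      rw [PowerSeries.coeff_succ_X_mul, PowerSeries.coeff_mk, PowerSeries.coeff_mk,
        PowerSeries.coeff_one]
      simp [pow_succ]
  have hE : PowerSeries.HasSubst (PowerSeries.exp ℚ - 1) := PowerSeries.HasSubst.exp_sub_one
  have hL : PowerSeries.HasSubst (PowerSeries.log ℚ) := PowerSeries.HasSubst.log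
  have h1 : PowerSeries.subst (PowerSeries.exp ℚ - 1) (PowerSeries.log ℚ) = PowerSeries.X := by
    apply PowerSeries.derivative.ext
    · rw [PowerSeries.derivative_subst hE, hGd]
      have h2 := congrArg (PowerSeries.subst (PowerSeries.exp ℚ - 1)) hG1
      rw [PowerSeries.subst_mul hE, PowerSeries.subst_add hE, PowerSeries.subst_X hE] at h2
      have h3 : PowerSeries.subst (PowerSeries.exp ℚ - 1) (1 : PowerSeries ℚ) = 1 := by
        rw [← map_one (PowerSeries.C (R := ℚ)), PowerSeries.subst_C]
        rfl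
      rw [h3] at h2
      have h4 : (1 : PowerSeries ℚ) + (PowerSeries.exp ℚ - 1) = PowerSeries.exp ℚ := by ring
      rw [h4] at h2
      have h5 : PowerSeries.derivative ℚ (PowerSeries.exp ℚ - 1) = PowerSeries.exp ℚ := by
        rw [map_sub, PowerSeries.derivative_exp]
        simp
      rw [h5, mul_comm, h2]
      simp
    · have h : MvPowerSeries.constantCoeff (PowerSeries.exp ℚ - 1 : PowerSeries ℚ) = 0 := by
        have : PowerSeries.constantCoeff (PowerSeries.exp ℚ - 1) = 0 := by
          simp [PowerSeries.constantCoeff_exp]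
        exact this
      have h7 := PowerSeries.constantCoeff_subst_eq_zero h _
        (PowerSeries.constantCoeff_log (A := ℚ))
      rw [PowerSeries.constantCoeff_X]
      exact h7
  refine ⟨h1, ?_⟩
  -- compositional inverse
  have hP0 : PowerSeries.constantCoeff (PowerSeries.exp ℚ - 1) = 0 := by
    simp [PowerSeries.constantCoeff_exp]
  have hP1 : IsUnit (PowerSeries.coeff 1 (PowerSeries.exp ℚ - 1)) := by
    simp [PowerSeries.coeff_exp]
  have hR := PowerSeries.subst_substInvOfIsUnit_right (PowerSeries.exp ℚ - 1) hP0 hP1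
  have hRs : PowerSeries.HasSubst ((PowerSeries.exp ℚ - 1).substInvOfIsUnit hP1) :=
    PowerSeries.HasSubst.substInvOfIsUnit _ hP1
  have hLR : PowerSeries.log ℚ = (PowerSeries.exp ℚ - 1).substInvOfIsUnit hP1 := by
    have h6 := congrArg (PowerSeries.subst ((PowerSeries.exp ℚ - 1).substInvOfIsUnit hP1)) h1
    rw [PowerSeries.subst_comp_subst_apply hE hRs, hR, PowerSeries.X_subst,
      PowerSeries.subst_X hRs] at h6
    exact h6
  rw [← hLR] at hR
  rw [PowerSeries.subst_sub hL] at hR
  have h3 : PowerSeries.subst (PowerSeries.log ℚ) (1 : PowerSeries ℚ) = 1 := by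
    rw [← map_one (PowerSeries.C (R := ℚ)), PowerSeries.subst_C]
    rfl
  rw [h3] at hR
  rw [← hR]
  ring

end Groth.Agent.S13075
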