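import Groth.Statements.S13088
import Mathlib
import Groth.Agent.Lib.helper2.Lie3Ideals

set_option autoImplicit false
universe u
open Lie3Mod

namespace Groth.Agent.S13088

/-- Let A be a commutative domain and D = A[a,b,c,d,e,f,g,h,i]. Then the ideal L = (a − i, b + f, d + h)
of D is minimal among the prime ideals of D containing the Jacobi ideal I = (Q1, Q2, Q3), where Q1 =
ah + di − fg − bg, Q2 = ie + bd − fh − ae, Q3 = hc + dc − af − bi. (The published statement is made
with a regular base ring in force, used there as a domain; the printed argument uses only that the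
base ring is a domain, which is the hypothesis taken here.) -/
theorem result (A : Type u) [CommRing A] [IsDomain A] :
    Lie3Mod.idL A ∈ (Lie3Mod.idI A).minimalPrimes := by
  have hker : Lie3Mod.idL A = RingHom.ker (Groth.Agent.H2.H2L3phi A) := by
    ext x
    rw [RingHom.mem_ker]
    exact Groth.Agent.H2.H2L3_mem_iff A
  haveI hprime : (Lie3Mod.idL A).IsPrime := by
    rw [hker]
    exact RingHom.ker_isPrime _
  have hdet : Lie3Mod.detM A ∉ Lie3Mod.idL A := by
    intro h
    have h1 : (1 : Lie3Mod.D A) ∈ Lie3Mod.idL A :=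
      Groth.Agent.H2.H2L3_mem_of_mul_det_mem A (by rwa [one_mul])
    exact hprime.ne_top ((Ideal.eq_top_iff_one _).mpr h1)
  show Minimal (fun q => q.IsPrime ∧ Lie3Mod.idI A ≤ q) _
  refine ⟨⟨hprime, Groth.Agent.H2.H2L3_I_le_L A⟩, ?_⟩
  rintro P ⟨hP, hIP⟩ hPL
  have key : ∀ y : Lie3Mod.D A, Lie3Mod.detM A * y ∈ Lie3Mod.idI A → y ∈ P := by
    intro y hy
    rcases hP.mem_or_mem (hIP hy) with h | h
    · exact absurd (hPL h) hdet
    · exact h
  rw [Lie3Mod.idL, Ideal.span_le]
  intro y hy
  simp only [Set.mem_insert_iff, Set.mem_singleton_iff] at hy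
  rcases hy with rfl | rfl | rfl
  · exact key _ (Groth.Agent.H2.H2L3_det_mul_L1 A)
  · exact key _ (Groth.Agent.H2.H2L3_det_mul_L2 A)
  · exact key _ (Groth.Agent.H2.H2L3_det_mul_L3 A)

end Groth.Agent.S13088
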