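import Groth.Statements.S13099
import Mathlib

set_option autoImplicit false
universe u
open GrpSch

namespace Groth.Agent.S13099

open Polynomial in
theorem natCast_isUnit (p : ℕ) [Fact p.Prime] (A : Type*) [CommRing A] [CharP A p] (m : ℕ)
    (hm : ¬ p ∣ m) : IsUnit (m : A) := by
  have h1 : IsUnit ((m : ZMod p)) := by
    rw [isUnit_iff_ne_zero, Ne, ZMod.natCast_eq_zero_iff]
    exact hm
  have h2 := h1.map (ZMod.castHom (dvd_refl p) A)
  rwa [map_natCast] at h2

open Polynomial in
theorem hasseDeriv_map' {A B : Type*} [CommRing A] [CommRing B] (f : A →+* B) (k : ℕ) (q : A[X]) :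
    hasseDeriv k (q.map f) = (hasseDeriv k q).map f := by
  ext n
  rw [hasseDeriv_coeff, coeff_map, coeff_map, hasseDeriv_coeff, map_mul, map_natCast]

open Polynomial in
theorem add_core (A : Type*) [CommRing A] (q : A[X])
    (hadd : aeval (C X + X : A[X][X]) q = aeval (C X : A[X][X]) q + aeval (X : A[X][X]) q) :
    q.coeff 0 = 0 ∧ ∀ k n, 1 ≤ k → 1 ≤ n → ((n + k).choose k : A) * q.coeff (n + k) = 0 := by
  have hT : aeval (C X + X : A[X][X]) q = taylor X (q.map (C : A →+* A[X])) := by
    rw [add_comm (C X) X, taylor_apply, Polynomial.comp, eval₂_map]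
    rfl
  have hS : aeval (C X : A[X][X]) q = C q := by
    rw [C_eq_algebraMap, aeval_algebraMap_apply, aeval_X_left_apply]
    rfl
  have hX : aeval (X : A[X][X]) q = q.map (C : A →+* A[X]) := by
    rw [← eval₂_C_X (p := q.map (C : A →+* A[X])), eval₂_map]
    rfl
  rw [hT, hS, hX] at hadd
  constructor
  · have h := congrArg (fun P => Polynomial.coeff P 0) hadd
    simp only [taylor_coeff_zero, coeff_add, coeff_C_zero, coeff_map, eval_map, eval₂_C_X] at h
    have h2 : (C (q.coeff 0) : A[X]) = 0 := by linear_combination -h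
    exact C_eq_zero.mp h2
  · intro k n hk hn
    have h := congrArg (fun P => Polynomial.coeff P k) hadd
    simp only [taylor_coeff, coeff_add, coeff_map] at h
    rw [hasseDeriv_map', eval_map, eval₂_C_X, coeff_C, if_neg (by omega), zero_add] at h
    have h2 := congrArg (fun P => Polynomial.coeff P n) h
    simp only [hasseDeriv_coeff, coeff_C] at h2
    rw [if_neg (by omega)] at h2
    exact h2

open Polynomial in
theorem part1 (p : ℕ) [Fact p.Prime] (A : Type u) [CommRing A] [CharP A p] (q : A[X])
    (hq : q.natDegree < p ^ 2) :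
    (Polynomial.aeval (MvPolynomial.X 0 + MvPolynomial.X 1 : MvPolynomial (Fin 2) A) q -
            Polynomial.aeval (MvPolynomial.X 0 : MvPolynomial (Fin 2) A) q -
            Polynomial.aeval (MvPolynomial.X 1 : MvPolynomial (Fin 2) A) q ∈
          Ideal.span ({MvPolynomial.X 0 ^ p ^ 2, MvPolynomial.X 1 ^ p ^ 2} :
            Set (MvPolynomial (Fin 2) A)) ↔
        ∃ a₁ ap : A, q = Polynomial.C a₁ * X + Polynomial.C ap * X ^ p) := by
  classical
  have hp : p.Prime := Fact.out
  have hp2 : 2 ≤ p := hp.two_le
  haveI : Nontrivial A := CharP.nontrivial_of_char_ne_one (R := A) (v := p) (by omega)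
  constructor
  · intro hmem
    obtain ⟨D, hD⟩ : ∃ D : MvPolynomial (Fin 2) A,
        D = aeval (MvPolynomial.X 0 + MvPolynomial.X 1 : MvPolynomial (Fin 2) A) q -
            aeval (MvPolynomial.X 0 : MvPolynomial (Fin 2) A) q -
            aeval (MvPolynomial.X 1 : MvPolynomial (Fin 2) A) q := ⟨_, rfl⟩
    rw [← hD] at hmem
    have htd : ∀ g : MvPolynomial (Fin 2) A, g.totalDegree ≤ 1 →
        (aeval g q).totalDegree ≤ q.natDegree := by
      intro g hg
      rw [aeval_eq_sum_range]
      apply MvPolynomial.totalDegree_finsetSum_le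
      intro i hi
      have hi' : i ≤ q.natDegree := by have := Finset.mem_range.mp hi; omega
      refine (MvPolynomial.totalDegree_smul_le _ _).trans ?_
      refine (MvPolynomial.totalDegree_pow _ _).trans ?_
      calc i * g.totalDegree ≤ i * 1 := Nat.mul_le_mul_left i hg
        _ = i := mul_one i
        _ ≤ q.natDegree := hi'
    have hDdeg : D.totalDegree < p ^ 2 := by
      refine lt_of_le_of_lt ?_ hq
      rw [hD]
      refine (MvPolynomial.totalDegree_sub _ _).trans
        (max_le ((MvPolynomial.totalDegree_sub _ _).trans (max_le ?_ ?_)) ?_)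
      · apply htd
        refine (MvPolynomial.totalDegree_add _ _).trans (max_le ?_ ?_)
        · rw [MvPolynomial.totalDegree_X]
        · rw [MvPolynomial.totalDegree_X]
      · apply htd; rw [MvPolynomial.totalDegree_X]
      · apply htd; rw [MvPolynomial.totalDegree_X]
    have hI : ({MvPolynomial.X 0 ^ p ^ 2, MvPolynomial.X 1 ^ p ^ 2} :
        Set (MvPolynomial (Fin 2) A)) = (fun s => MvPolynomial.monomial s (1 : A)) ''
          {Finsupp.single 0 (p ^ 2), Finsupp.single 1 (p ^ 2)} := by
      rw [Set.image_pair, MvPolynomial.X_pow_eq_monomial, MvPolynomial.X_pow_eq_monomial]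
    rw [hI, MvPolynomial.mem_ideal_span_monomial_image] at hmem
    have hD0 : D = 0 := by
      rw [← MvPolynomial.support_eq_empty, Finset.eq_empty_iff_forall_notMem]
      intro m hm
      obtain ⟨si, hsi, hle⟩ := hmem m hm
      have h1 : (m.sum fun _ e => e) ≤ D.totalDegree := MvPolynomial.le_totalDegree hm
      have hsum : (m.sum fun _ e => e) = m 0 + m 1 := by
        rw [Finsupp.sum_fintype _ _ (fun _ => rfl), Fin.sum_univ_two]
      rcases hsi with rfl | rfl
      · have := hle 0
        rw [Finsupp.single_eq_same] at this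
        omega
      · have := hle 1
        rw [Finsupp.single_eq_same] at this
        omega
    have hadd : aeval (C X + X : A[X][X]) q
        = aeval (C X : A[X][X]) q + aeval (X : A[X][X]) q := by
      have h := congrArg (MvPolynomial.aeval ![(C X : A[X][X]), X]) (hD.symm.trans hD0)
      rw [map_zero, map_sub, map_sub, ← aeval_algHom_apply, ← aeval_algHom_apply,
        ← aeval_algHom_apply, map_add, MvPolynomial.aeval_X, MvPolynomial.aeval_X] at h
      have h' : aeval (C X + X : A[X][X]) q - aeval (C X : A[X][X]) q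
          - aeval (X : A[X][X]) q = 0 := h
      linear_combination h'
    obtain ⟨hc0, hcoef⟩ := add_core A q hadd
    have hzero : ∀ N, N ≠ 1 → N ≠ p → q.coeff N = 0 := by
      intro N hN1 hNp
      rcases Nat.lt_or_ge N 2 with hN2 | hN2
      · have : N = 0 := by omega
        rw [this]; exact hc0
      by_cases hNlt : N < p ^ 2
      · by_cases hpN : p ∣ N
        · obtain ⟨b, rfl⟩ := hpN
          have hb2 : 2 ≤ b := by
            rcases Nat.lt_or_ge b 2 with hb | hb
            · interval_cases b
              · omega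
              · exact absurd (mul_one p) hNp
            · exact hb
          have hbp : b < p := by
            by_contra hge
            push Not at hge
            have : p ^ 2 ≤ p * b := by rw [pow_two]; exact Nat.mul_le_mul_left p hge
            omega
          have h2b : p * 2 ≤ p * b := Nat.mul_le_mul_left p hb2
          have hk := hcoef p (p * b - p) (by omega) (by omega)
          have hNk : p * b - p + p = p * b := by omega
          rw [hNk] at hk
          have hunit : IsUnit (((p * b).choose p : ℕ) : A) := by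
            apply natCast_isUnit p A
            intro hdvd
            have hl := Choose.choose_modEq_choose_mod_mul_choose_div_nat (n := p * b) (k := p)
              (p := p)
            rw [Nat.mul_mod_right, Nat.mod_self, Nat.choose_self, one_mul,
              Nat.mul_div_cancel_left b hp.pos, Nat.div_self hp.pos, Nat.choose_one_right] at hl
            have : p ∣ b :=
              Nat.modEq_zero_iff_dvd.mp (hl.symm.trans (Nat.modEq_zero_iff_dvd.mpr hdvd))
            exact absurd (Nat.le_of_dvd (by omega) this) (by omega)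
          exact hunit.mul_right_eq_zero.mp hk
        · have hk := hcoef 1 (N - 1) le_rfl (by omega)
          have hN' : N - 1 + 1 = N := by omega
          rw [hN', Nat.choose_one_right] at hk
          exact (natCast_isUnit p A N hpN).mul_right_eq_zero.mp hk
      · exact coeff_eq_zero_of_natDegree_lt (by omega)
    refine ⟨q.coeff 1, q.coeff p, ?_⟩
    ext N
    rw [coeff_add, coeff_C_mul_X, coeff_C_mul_X_pow]
    by_cases h1 : N = 1
    · subst h1
      rw [if_pos rfl, if_neg (by omega), add_zero]
    · rw [if_neg h1]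
      by_cases hp' : N = p
      · subst hp'
        rw [if_pos rfl, zero_add]
      · rw [if_neg hp', add_zero]
        exact hzero N h1 hp'
  · rintro ⟨a₁, ap, rfl⟩
    have key : aeval (MvPolynomial.X 0 + MvPolynomial.X 1 : MvPolynomial (Fin 2) A)
          (C a₁ * X + C ap * X ^ p) -
        aeval (MvPolynomial.X 0 : MvPolynomial (Fin 2) A) (C a₁ * X + C ap * X ^ p) -
        aeval (MvPolynomial.X 1 : MvPolynomial (Fin 2) A) (C a₁ * X + C ap * X ^ p) = 0 := by
      simp only [map_add, map_mul, map_pow, aeval_C, aeval_X]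
      rw [add_pow_char]
      ring
    rw [key]; exact Ideal.zero_mem _

open Polynomial in
theorem part2 (p : ℕ) [Fact p.Prime] (A : Type u) [CommRing A] [CharP A p] (I : Ideal A[X])
    (hI : I = Ideal.span ({X ^ p ^ 2} : Set A[X])) (a₁ ap : A)
    (φ : (A[X] ⧸ I) →ₐ[A] (A[X] ⧸ I))
    (hφ : φ (Ideal.Quotient.mk I X) =
          Ideal.Quotient.mk I (Polynomial.C a₁ * X + Polynomial.C ap * X ^ p)) :
    Function.Bijective φ ↔ IsUnit a₁ := by
  have hp : p.Prime := Fact.out
  have hp2 : 2 ≤ p := hp.two_le
  obtain ⟨G, hG⟩ : ∃ G : A[X], G = C a₁ * X + C ap * X ^ p := ⟨_, rfl⟩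
  rw [← hG] at hφ
  have hφmk : ∀ f : A[X], φ (Ideal.Quotient.mk I f) = Ideal.Quotient.mk I (aeval G f) := by
    intro f
    have h : (φ.comp (Ideal.Quotient.mkₐ A I)) =
        (Ideal.Quotient.mkₐ A I).comp (aeval G : A[X] →ₐ[A] A[X]) := by
      apply Polynomial.algHom_ext
      show φ (Ideal.Quotient.mk I X) = Ideal.Quotient.mk I (aeval G X)
      rw [aeval_X]; exact hφ
    exact DFunLike.congr_fun h f
  constructor
  · intro hbij
    obtain ⟨y, hy⟩ := hbij.2 (Ideal.Quotient.mk I X)
    obtain ⟨f, rfl⟩ := Ideal.Quotient.mk_surjective y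
    rw [hφmk, Ideal.Quotient.eq, hI, Ideal.mem_span_singleton] at hy
    obtain ⟨h, hh⟩ := hy
    have hc1 := congrArg (fun P => Polynomial.coeff P 1) hh
    simp only [coeff_sub, coeff_X_one] at hc1
    have hz : (X ^ p ^ 2 * h).coeff 1 = 0 := by
      rw [coeff_X_pow_mul', if_neg]
      have : 4 ≤ p ^ 2 := by nlinarith
      omega
    have hG0 : G.eval 0 = 0 := by
      rw [hG, eval_add, eval_mul, eval_mul, eval_X, eval_pow, eval_X, mul_zero,
        zero_pow hp.ne_zero, mul_zero, add_zero]
    have hG'0 : (derivative G).eval 0 = a₁ := by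
      rw [hG, derivative_add, derivative_C_mul, derivative_X, mul_one, derivative_C_mul,
        derivative_X_pow, CharP.cast_eq_zero A p, map_zero, zero_mul, mul_zero, add_zero, eval_C]
    have hco : (aeval G f).coeff 1 = a₁ * (derivative f).eval 0 := by
      have e1 : (aeval G f).coeff 1 = (derivative (f.comp G)).eval 0 := by
        rw [← coeff_zero_eq_eval_zero, coeff_derivative, comp_eq_aeval]
        simp
      rw [e1, derivative_comp, eval_mul, eval_comp, hG0, hG'0]
    have hone : a₁ * (derivative f).eval 0 = 1 := by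
      rw [← hco]
      rw [hz] at hc1
      linear_combination hc1
    exact IsUnit.of_mul_eq_one _ hone
  · intro hu
    obtain ⟨u, hu1⟩ := hu.exists_right_inv
    obtain ⟨W, hW⟩ : ∃ W : A[X], W = C u * X - C (u * ap * u ^ p) * X ^ p := ⟨_, rfl⟩
    have hGp : G ^ p = C (a₁ ^ p) * X ^ p + C (ap ^ p) * X ^ p ^ 2 := by
      rw [hG, add_pow_char, mul_pow, mul_pow, ← map_pow, ← map_pow, ← pow_mul, pow_two]
    have hcomp : aeval G W = X - C (u * ap * u ^ p * ap ^ p) * X ^ p ^ 2 := by
      rw [hW, map_sub, map_mul, map_mul, aeval_C, aeval_C, aeval_X, map_pow, aeval_X, hGp, hG]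
      simp only [← C_eq_algebraMap]
      have h1 : (C u * C a₁ : A[X]) = 1 := by rw [← map_mul, mul_comm, hu1, map_one]
      have h2 : (C (u * ap * u ^ p) * C (a₁ ^ p) : A[X]) = C (u * ap) := by
        rw [← map_mul]
        congr 1
        calc u * ap * u ^ p * a₁ ^ p = u * ap * (a₁ * u) ^ p := by ring
          _ = u * ap := by rw [hu1, one_pow, mul_one]
      simp only [map_mul, map_pow] at h2 ⊢
      linear_combination (X : A[X]) * h1 - (X : A[X]) ^ p * h2
    have hφW : φ (Ideal.Quotient.mk I W) = Ideal.Quotient.mk I X := by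
      rw [hφmk, hcomp, map_sub]
      have h0 : Ideal.Quotient.mk I (C (u * ap * u ^ p * ap ^ p) * X ^ p ^ 2) = 0 :=
        Ideal.Quotient.eq_zero_iff_mem.mpr
          (Ideal.mul_mem_left _ _ (by rw [hI]; exact Ideal.subset_span rfl))
      rw [h0, sub_zero]
    have hsurj : Function.Surjective φ := by
      intro y
      obtain ⟨f, rfl⟩ := Ideal.Quotient.mk_surjective y
      refine ⟨aeval (Ideal.Quotient.mk I W) f, ?_⟩
      rw [← aeval_algHom_apply, hφW]
      have h := aeval_algHom_apply (Ideal.Quotient.mkₐ A I) X f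
      rw [aeval_X_left_apply] at h
      exact h
    have hfin : Module.Finite A (A[X] ⧸ I) := by
      rw [hI]; exact (monic_X_pow (p ^ 2)).finite_quotient
    exact OrzechProperty.bijective_of_surjective_endomorphism φ.toLinearMap hsurj

open Polynomial in
/-- Let p be a prime and A a commutative ring of characteristic p, and consider the infinitesimal group
scheme Spec A[X]/(X^{p²}) with the additive group law. In coordinates: (1) a polynomial q ∈ A[X] of
degree less than p² satisfies q(Y + Z) − q(Y) − q(Z) ∈ (Y^{p²}, Z^{p²}) in A[Y, Z] (that is, X ↦ q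
respects the comultiplication) if and only if q = a₁ X + a_p X^p for some a₁, a_p ∈ A; (2) an
A-algebra endomorphism of A[X]/(X^{p²}) that sends the class of X to the class of a₁ X + a_p X^p is
bijective if and only if a₁ is a unit of A. (The printed statement is that the automorphism group
scheme of this group scheme is the semidirect product of the additive group by the multiplicative
group, v acting on u by v^{p−1}u; this row records the two computations it consists of, in
coordinates.) -/
theorem result (p : ℕ) [Fact p.Prime] (A : Type u) [CommRing A] [CharP A p] :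
    (∀ q : A[X], q.natDegree < p ^ 2 →
      (Polynomial.aeval (MvPolynomial.X 0 + MvPolynomial.X 1 : MvPolynomial (Fin 2) A) q -
            Polynomial.aeval (MvPolynomial.X 0 : MvPolynomial (Fin 2) A) q -
            Polynomial.aeval (MvPolynomial.X 1 : MvPolynomial (Fin 2) A) q ∈
          Ideal.span ({MvPolynomial.X 0 ^ p ^ 2, MvPolynomial.X 1 ^ p ^ 2} : Set (MvPolynomial (Fin 2) A)) ↔
        ∃ a₁ ap : A, q = Polynomial.C a₁ * X + Polynomial.C ap * X ^ p)) ∧
    (∀ (a₁ ap : A) (φ : (A[X] ⧸ Ideal.span ({X ^ p ^ 2} : Set A[X])) →ₐ[A] (A[X] ⧸ Ideal.span ({X ^ p ^ 2} : Set A[X]))),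
      φ (Ideal.Quotient.mk (Ideal.span ({X ^ p ^ 2} : Set A[X])) X) =
          Ideal.Quotient.mk (Ideal.span ({X ^ p ^ 2} : Set A[X])) (Polynomial.C a₁ * X + Polynomial.C ap * X ^ p) →
        (Function.Bijective φ ↔ IsUnit a₁)) := by
  exact ⟨fun q hq => part1 p A q hq, fun a₁ ap φ hφ => part2 p A _ rfl a₁ ap φ hφ⟩

end Groth.Agent.S13099
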