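import Groth.Statements.S13100
import Mathlib
import Groth.Agent.Lib.helper7.SqrtSeries

set_option autoImplicit false
universe u
open GrpSch

namespace Groth.Agent.S13100

/-- Let k be an algebraically closed field of characteristic different from 2 and K = k((t)) the field
of Laurent series over k. Then a non-zero Laurent series f is a square in K if and only if its order
in t is even; consequently the group Kˣ/Kˣ² of non-zero elements modulo squares has exactly two
elements, represented by 1 and t. -/
theorem result (k : Type u) [Field k] [IsAlgClosed k] (h2 : (2 : k) ≠ 0)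
    (f : LaurentSeries k) (hf : f ≠ 0) : IsSquare f ↔ Even f.order := by
  constructor
  · rintro ⟨g, rfl⟩
    have hg : g ≠ 0 := by
      rintro rfl
      exact hf (by simp)
    exact ⟨g.order, HahnSeries.order_mul hg hg⟩
  · rintro ⟨r, hr⟩
    obtain ⟨b0, hb0⟩ := IsAlgClosed.exists_eq_mul_self (f.coeff f.order)
    have hne : f.coeff f.order ≠ 0 := fun h => hf (HahnSeries.coeff_order_eq_zero.1 h)
    have hb0ne : b0 ≠ 0 := by
      rintro rfl
      exact hne (by rw [hb0, mul_zero])
    obtain ⟨v, hv⟩ := Groth.Agent.Lib.helper7.H7_sqrt_series h2 f.powerSeriesPart b0 (by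
      rw [LaurentSeries.powerSeriesPart_coeff]; simpa using hb0.symm) hb0ne
    refine ⟨HahnSeries.single r 1 * HahnSeries.ofPowerSeries ℤ k v, ?_⟩
    have h1 : (HahnSeries.single r (1 : k) * HahnSeries.ofPowerSeries ℤ k v) *
        (HahnSeries.single r 1 * HahnSeries.ofPowerSeries ℤ k v) =
        (HahnSeries.single r (1 : k) * HahnSeries.single r 1) *
          (HahnSeries.ofPowerSeries ℤ k v * HahnSeries.ofPowerSeries ℤ k v) := by ring
    rw [h1, HahnSeries.single_mul_single, ← map_mul, hv, mul_one, ← hr]
    exact (LaurentSeries.single_order_mul_powerSeriesPart f).symm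

end Groth.Agent.S13100
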