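import Groth.Statements.S13101
import Mathlib

set_option autoImplicit false
universe u v
open GrpSch

namespace Groth.Agent.S13101

/-- Let A be a commutative ring in which 2 is a unit, and L a Lie algebra over A, free as a module with
basis x = bs 0, y = bs 1, z = bs 2 and brackets [x,y] = y, [x,z] = y + z, [y,z] = 0. Then for every
Lie algebra automorphism φ of L over A there are b, c, h ∈ A and a unit i of A with φ(x) = x + b y +
c z, φ(y) = i y and φ(z) = h y + i z. Only the form of an automorphism is stated, not that every map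
of this form is one. (The published statement identifies the automorphism group scheme with a
semidirect product of two additive groups by the product of the multiplicative and additive group,
for algebras over a field of Laurent series of characteristic not 2, and deduces the vanishing of
its first cohomology; this row records the determination of the automorphisms, over any base ring
with 2 invertible; the cohomological consequence is not restated.) -/
theorem result (A : Type u) [CommRing A] (h2 : IsUnit (2 : A))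
    (L : Type v) [LieRing L] [LieAlgebra A L] (bs : Module.Basis (Fin 3) A L)
    (hxy : ⁅bs 0, bs 1⁆ = bs 1) (hxz : ⁅bs 0, bs 2⁆ = bs 1 + bs 2) (hyz : ⁅bs 1, bs 2⁆ = 0)
    (φ : L ≃ₗ⁅A⁆ L) :
    ∃ b c h i : A, IsUnit i ∧ φ (bs 0) = bs 0 + b • bs 1 + c • bs 2 ∧ φ (bs 1) = i • bs 1 ∧
      φ (bs 2) = h • bs 1 + i • bs 2 := by
  have h10 : (1 : Fin 3) ≠ 0 := by decide
  have h20 : (2 : Fin 3) ≠ 0 := by decide
  have h01 : (0 : Fin 3) ≠ 1 := by decide
  have h21 : (2 : Fin 3) ≠ 1 := by decide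
  have h02 : (0 : Fin 3) ≠ 2 := by decide
  have h12 : (1 : Fin 3) ≠ 2 := by decide
  have hrep0 : ∀ p q r : A, bs.repr (p • bs 0 + q • bs 1 + r • bs 2) 0 = p := by
    intro p q r
    simp [Finsupp.single_apply, h10, h20, h01, h21, h02, h12]
  have hrep1 : ∀ p q r : A, bs.repr (p • bs 0 + q • bs 1 + r • bs 2) 1 = q := by
    intro p q r
    simp [Finsupp.single_apply, h10, h20, h01, h21, h02, h12]
  have hrep2 : ∀ p q r : A, bs.repr (p • bs 0 + q • bs 1 + r • bs 2) 2 = r := by
    intro p q r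
    simp [Finsupp.single_apply, h10, h20, h01, h21, h02, h12]
  have huniq : ∀ p q r p' q' r' : A,
      p • bs 0 + q • bs 1 + r • bs 2 = p' • bs 0 + q' • bs 1 + r' • bs 2 →
      p = p' ∧ q = q' ∧ r = r' := by
    intro p q r p' q' r' hh
    refine ⟨?_, ?_, ?_⟩
    · have h3 := congrArg (fun v => bs.repr v 0) hh
      simp only [hrep0] at h3
      exact h3
    · have h3 := congrArg (fun v => bs.repr v 1) hh
      simp only [hrep1] at h3
      exact h3
    · have h3 := congrArg (fun v => bs.repr v 2) hh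
      simp only [hrep2] at h3
      exact h3
  have hdec : ∀ v : L, ∃ p q r : A, v = p • bs 0 + q • bs 1 + r • bs 2 := by
    intro v
    refine ⟨bs.repr v 0, bs.repr v 1, bs.repr v 2, ?_⟩
    have h3 := bs.sum_repr v
    rw [Fin.sum_univ_three] at h3
    exact h3.symm
  have hyx : ⁅bs 1, bs 0⁆ = -bs 1 := by rw [← lie_skew (bs 1) (bs 0), hxy]
  have hzx : ⁅bs 2, bs 0⁆ = -(bs 1 + bs 2) := by rw [← lie_skew (bs 2) (bs 0), hxz]
  have hzy : ⁅bs 2, bs 1⁆ = 0 := by rw [← lie_skew (bs 2) (bs 1), hyz, neg_zero]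
  have hbr : ∀ p q r p' q' r' : A,
      ⁅p • bs 0 + q • bs 1 + r • bs 2, p' • bs 0 + q' • bs 1 + r' • bs 2⁆ =
      (0 : A) • bs 0 + (p * q' + p * r' - q * p' - r * p') • bs 1 + (p * r' - r * p') • bs 2 := by
    intro p q r p' q' r'
    simp only [add_lie, lie_add, smul_lie, lie_smul, lie_self, hxy, hxz, hyz, hyx, hzx, hzy,
      smul_zero]
    module
  have shape : ∀ (χ : L ≃ₗ⁅A⁆ L) (a b c d e f g h i : A),
      χ (bs 0) = a • bs 0 + b • bs 1 + c • bs 2 →
      χ (bs 1) = d • bs 0 + e • bs 1 + f • bs 2 →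
      χ (bs 2) = g • bs 0 + h • bs 1 + i • bs 2 →
      d = 0 ∧ g = 0 ∧ e = a * e + a * f ∧ f = a * f ∧ e + h = a * h + a * i ∧ f + i = a * i := by
    intro χ a b c d e f g h i k0 k1 k2
    have hml : ∀ u v : L, χ ⁅u, v⁆ = ⁅χ u, χ v⁆ := fun u v => LieHom.map_lie χ.toLieHom u v
    have hadd : ∀ u v : L, χ (u + v) = χ u + χ v := fun u v => map_add χ.toLieHom u v
    have E1 : χ (bs 1) = ⁅χ (bs 0), χ (bs 1)⁆ := by rw [← hml, hxy]
    rw [k0, k1, hbr] at E1
    obtain ⟨e1, e2, e3⟩ := huniq _ _ _ _ _ _ E1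
    have E2 : χ (bs 1) + χ (bs 2) = ⁅χ (bs 0), χ (bs 2)⁆ := by rw [← hml, hxz, hadd]
    rw [k0, k1, k2, hbr] at E2
    have E2' : (d + g) • bs 0 + (e + h) • bs 1 + (f + i) • bs 2 =
        (0 : A) • bs 0 + (a * h + a * i - b * g - c * g) • bs 1 + (a * i - c * g) • bs 2 := by
      rw [← E2]; module
    obtain ⟨e4, e5, e6⟩ := huniq _ _ _ _ _ _ E2'
    have hg : g = 0 := by linear_combination e4 - e1
    refine ⟨e1, hg, ?_, ?_, ?_, ?_⟩
    · linear_combination e2 - (b + c) * e1
    · linear_combination e3 - c * e1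
    · linear_combination e5 - (b + c) * hg
    · linear_combination e6 - c * hg
  obtain ⟨ca, cb, cc, k0⟩ := hdec (φ (bs 0))
  obtain ⟨cd, ce, cf, k1⟩ := hdec (φ (bs 1))
  obtain ⟨cg, ch, ci, k2⟩ := hdec (φ (bs 2))
  obtain ⟨pa, pb, pc, m0⟩ := hdec (φ.symm (bs 0))
  obtain ⟨pd, pe, pf, m1⟩ := hdec (φ.symm (bs 1))
  obtain ⟨pg, ph, pi, m2⟩ := hdec (φ.symm (bs 2))
  obtain ⟨hd, hg, s2, s3, s4, s5⟩ := shape φ ca cb cc cd ce cf cg ch ci k0 k1 k2
  obtain ⟨-, hpg, -, -, -, -⟩ := shape φ.symm pa pb pc pd pe pf pg ph pi m0 m1 m2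
  have hadd : ∀ u v : L, φ (u + v) = φ u + φ v := fun u v => map_add φ.toLieHom u v
  have hsmul : ∀ (r : A) (v : L), φ (r • v) = r • φ v := fun r v => map_smul φ.toLieHom r v
  have I1raw : bs 0 = pa • φ (bs 0) + pb • φ (bs 1) + pc • φ (bs 2) := by
    have h3 := LieEquiv.apply_symm_apply φ (bs 0)
    rw [m0, hadd, hadd, hsmul, hsmul, hsmul] at h3
    exact h3.symm
  have I3raw : bs 2 = pg • φ (bs 0) + ph • φ (bs 1) + pi • φ (bs 2) := by
    have h3 := LieEquiv.apply_symm_apply φ (bs 2)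
    rw [m2, hadd, hadd, hsmul, hsmul, hsmul] at h3
    exact h3.symm
  have I1' : (1 : A) • bs 0 + (0 : A) • bs 1 + (0 : A) • bs 2 =
      (pa * ca + pb * cd + pc * cg) • bs 0 + (pa * cb + pb * ce + pc * ch) • bs 1 +
        (pa * cc + pb * cf + pc * ci) • bs 2 := by
    calc (1 : A) • bs 0 + (0 : A) • bs 1 + (0 : A) • bs 2 = bs 0 := by module
      _ = pa • φ (bs 0) + pb • φ (bs 1) + pc • φ (bs 2) := I1raw
      _ = pa • (ca • bs 0 + cb • bs 1 + cc • bs 2) + pb • (cd • bs 0 + ce • bs 1 + cf • bs 2) +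
            pc • (cg • bs 0 + ch • bs 1 + ci • bs 2) := by rw [← k0, ← k1, ← k2]
      _ = _ := by module
  have I3' : (0 : A) • bs 0 + (0 : A) • bs 1 + (1 : A) • bs 2 =
      (pg * ca + ph * cd + pi * cg) • bs 0 + (pg * cb + ph * ce + pi * ch) • bs 1 +
        (pg * cc + ph * cf + pi * ci) • bs 2 := by
    calc (0 : A) • bs 0 + (0 : A) • bs 1 + (1 : A) • bs 2 = bs 2 := by module
      _ = pg • φ (bs 0) + ph • φ (bs 1) + pi • φ (bs 2) := I3raw
      _ = pg • (ca • bs 0 + cb • bs 1 + cc • bs 2) + ph • (cd • bs 0 + ce • bs 1 + cf • bs 2) +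
            pi • (cg • bs 0 + ch • bs 1 + ci • bs 2) := by rw [← k0, ← k1, ← k2]
      _ = _ := by module
  obtain ⟨I1x, -, -⟩ := huniq _ _ _ _ _ _ I1'
  obtain ⟨-, -, I3x⟩ := huniq _ _ _ _ _ _ I3'
  have I1 : pa * ca = 1 := by linear_combination (-1 : A) * I1x - pb * hd - pc * hg
  have I3 : ph * cf + pi * ci = 1 := by linear_combination (-1 : A) * I3x - cc * hpg
  obtain ⟨u2, hu2⟩ := h2.exists_right_inv
  have hA : (1 - ca) * (1 - ca) = 0 := by
    linear_combination (-((1 - ca) * (1 - ca))) * I3 + ((1 - ca) * ph - pi) * s3 +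
      ((1 - ca) * pi) * s5
  have hB0 : 2 * ca * ((1 - ca) * ci) = 0 := by
    linear_combination ch * hA + s2 + ca * s5 - (1 - ca) * s4
  have hB : (1 - ca) * ci = 0 := by
    linear_combination (pa * u2) * hB0 - ((1 - ca) * ci * (2 * u2)) * I1 - ((1 - ca) * ci) * hu2
  have hf : cf = 0 := by linear_combination s5 - hB
  have ha1 : ca = 1 := by
    linear_combination (-((1 - ca) * ph)) * hf - pi * hB + (1 - ca) * I3
  have he : ce = ci := by linear_combination s4 + (ch + ci) * ha1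
  have hii : ci * pi = 1 := by linear_combination I3 - ph * hf
  have hiu : IsUnit ci := ⟨⟨ci, pi, hii, by rw [mul_comm]; exact hii⟩, rfl⟩
  refine ⟨cb, cc, ch, ci, hiu, ?_, ?_, ?_⟩
  · rw [k0, ha1, one_smul]
  · rw [k1, hd, he, hf, zero_smul, zero_smul, zero_add, add_zero]
  · rw [k2, hg, zero_smul, zero_add]

end Groth.Agent.S13101
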