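import Groth.Statements.S13102
import Mathlib

set_option autoImplicit false
universe u v w
open GrpSch

namespace Groth.Agent.S13102

/-- Let K be a field, α ∈ K, A a commutative K-algebra and L a Lie algebra over A which is free as an
A-module with basis x = bs 0, y = bs 1, z = bs 2 and brackets [x,y] = y, [x,z] = α z, [y,z] = 0. If
α² ≠ 1 then every Lie algebra automorphism φ of L over A satisfies φ(x) = x + b y + c z, φ(y) = e y,
φ(z) = i z for some b, c ∈ A and units e, i of A. If α = 1 then every such φ satisfies φ(x) = x + b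
y + c z, φ(y) = e y + f z, φ(z) = h y + i z with e i − f h a unit of A. (The printed statement
identifies the automorphism group schemes with the corresponding semidirect products, treats also α
= −1 in characteristic not 2, and computes first cohomology over a field of Laurent series; those
clauses are not restated here.) -/
theorem result (K : Type u) [Field K] (α : K) (A : Type v) [CommRing A] [Algebra K A]
    (L : Type w) [LieRing L] [LieAlgebra A L] (bs : Module.Basis (Fin 3) A L)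
    (hxy : ⁅bs 0, bs 1⁆ = bs 1) (hxz : ⁅bs 0, bs 2⁆ = algebraMap K A α • bs 2) (hyz : ⁅bs 1, bs 2⁆ = 0)
    (φ : L ≃ₗ⁅A⁆ L) :
    (α ^ 2 ≠ 1 → ∃ b c e i : A, IsUnit e ∧ IsUnit i ∧ φ (bs 0) = bs 0 + b • bs 1 + c • bs 2 ∧
        φ (bs 1) = e • bs 1 ∧ φ (bs 2) = i • bs 2) ∧
    (α = 1 → ∃ b c e f h i : A, IsUnit (e * i - f * h) ∧ φ (bs 0) = bs 0 + b • bs 1 + c • bs 2 ∧
        φ (bs 1) = e • bs 1 + f • bs 2 ∧ φ (bs 2) = h • bs 1 + i • bs 2) := by
  obtain ⟨al, hal⟩ : ∃ al : A, al = algebraMap K A α := ⟨_, rfl⟩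
  rw [← hal] at hxz
  have h10 : (1 : Fin 3) ≠ 0 := by decide
  have h20 : (2 : Fin 3) ≠ 0 := by decide
  have h01 : (0 : Fin 3) ≠ 1 := by decide
  have h21 : (2 : Fin 3) ≠ 1 := by decide
  have h02 : (0 : Fin 3) ≠ 2 := by decide
  have h12 : (1 : Fin 3) ≠ 2 := by decide
  have hrep0 : ∀ p q r : A, bs.repr (p • bs 0 + q • bs 1 + r • bs 2) 0 = p := by
    intro p q r
    simp [Finsupp.single_apply, h10, h20, h01, h21, h02, h12]
  have hrep1 : ∀ p q r : A, bs.repr (p • bs 0 + q • bs 1 + r • bs 2) 1 = q := by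
    intro p q r
    simp [Finsupp.single_apply, h10, h20, h01, h21, h02, h12]
  have hrep2 : ∀ p q r : A, bs.repr (p • bs 0 + q • bs 1 + r • bs 2) 2 = r := by
    intro p q r
    simp [Finsupp.single_apply, h10, h20, h01, h21, h02, h12]
  have huniq : ∀ p q r p' q' r' : A,
      p • bs 0 + q • bs 1 + r • bs 2 = p' • bs 0 + q' • bs 1 + r' • bs 2 →
      p = p' ∧ q = q' ∧ r = r' := by
    intro p q r p' q' r' hh
    refine ⟨?_, ?_, ?_⟩
    · have h3 := congrArg (fun v => bs.repr v 0) hh
      simp only [hrep0] at h3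
      exact h3
    · have h3 := congrArg (fun v => bs.repr v 1) hh
      simp only [hrep1] at h3
      exact h3
    · have h3 := congrArg (fun v => bs.repr v 2) hh
      simp only [hrep2] at h3
      exact h3
  have hdec : ∀ v : L, ∃ p q r : A, v = p • bs 0 + q • bs 1 + r • bs 2 := by
    intro v
    refine ⟨bs.repr v 0, bs.repr v 1, bs.repr v 2, ?_⟩
    have h3 := bs.sum_repr v
    rw [Fin.sum_univ_three] at h3
    exact h3.symm
  have hyx : ⁅bs 1, bs 0⁆ = -bs 1 := by rw [← lie_skew (bs 1) (bs 0), hxy]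
  have hzx : ⁅bs 2, bs 0⁆ = -(al • bs 2) := by rw [← lie_skew (bs 2) (bs 0), hxz]
  have hzy : ⁅bs 2, bs 1⁆ = 0 := by rw [← lie_skew (bs 2) (bs 1), hyz, neg_zero]
  have hbr : ∀ p q r p' q' r' : A,
      ⁅p • bs 0 + q • bs 1 + r • bs 2, p' • bs 0 + q' • bs 1 + r' • bs 2⁆ =
      (0 : A) • bs 0 + (p * q' - q * p') • bs 1 + (al * (p * r' - r * p')) • bs 2 := by
    intro p q r p' q' r'
    simp only [add_lie, lie_add, smul_lie, lie_smul, lie_self, hxy, hxz, hyz, hyx, hzx, hzy,
      smul_zero]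
    module
  have comp : ∀ (χ : L ≃ₗ⁅A⁆ L) (a b c d e f g h i p q r : A),
      χ (bs 0) = a • bs 0 + b • bs 1 + c • bs 2 →
      χ (bs 1) = d • bs 0 + e • bs 1 + f • bs 2 →
      χ (bs 2) = g • bs 0 + h • bs 1 + i • bs 2 →
      χ (p • bs 0 + q • bs 1 + r • bs 2) =
        (p * a + q * d + r * g) • bs 0 + (p * b + q * e + r * h) • bs 1 +
          (p * c + q * f + r * i) • bs 2 := by
    intro χ a b c d e f g h i p q r k0 k1 k2
    have hadd : ∀ u v : L, χ (u + v) = χ u + χ v := fun u v => map_add χ.toLieHom u v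
    have hsmul : ∀ (s : A) (v : L), χ (s • v) = s • χ v := fun s v => map_smul χ.toLieHom s v
    rw [hadd, hadd, hsmul, hsmul, hsmul, k0, k1, k2]
    module
  have shape : ∀ (χ : L ≃ₗ⁅A⁆ L) (a b c d e f g h i : A),
      χ (bs 0) = a • bs 0 + b • bs 1 + c • bs 2 →
      χ (bs 1) = d • bs 0 + e • bs 1 + f • bs 2 →
      χ (bs 2) = g • bs 0 + h • bs 1 + i • bs 2 →
      d = 0 ∧ e = a * e ∧ f = al * a * f ∧ al * h = a * h - b * g ∧
        al * i = al * (a * i - c * g) ∧ e * g = 0 := by
    intro χ a b c d e f g h i k0 k1 k2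
    have hml : ∀ u v : L, χ ⁅u, v⁆ = ⁅χ u, χ v⁆ := fun u v => LieHom.map_lie χ.toLieHom u v
    have hsmul : ∀ (s : A) (v : L), χ (s • v) = s • χ v := fun s v => map_smul χ.toLieHom s v
    have E1 : χ (bs 1) = ⁅χ (bs 0), χ (bs 1)⁆ := by rw [← hml, hxy]
    rw [k0, k1, hbr] at E1
    obtain ⟨e1, e2, e3⟩ := huniq _ _ _ _ _ _ E1
    have E2 : al • χ (bs 2) = ⁅χ (bs 0), χ (bs 2)⁆ := by rw [← hml, hxz, hsmul]
    rw [k0, k2, hbr] at E2
    have E2' : (al * g) • bs 0 + (al * h) • bs 1 + (al * i) • bs 2 =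
        (0 : A) • bs 0 + (a * h - b * g) • bs 1 + (al * (a * i - c * g)) • bs 2 := by
      rw [← E2]; module
    obtain ⟨e4, e5, e6⟩ := huniq _ _ _ _ _ _ E2'
    have E3 : (0 : L) = ⁅χ (bs 1), χ (bs 2)⁆ := by
      rw [← hml, hyz]; exact (map_zero χ.toLieHom).symm
    rw [k1, k2, hbr] at E3
    have E3' : (0 : A) • bs 0 + (0 : A) • bs 1 + (0 : A) • bs 2 =
        (0 : A) • bs 0 + (d * h - e * g) • bs 1 + (al * (d * i - f * g)) • bs 2 := by
      rw [← E3]; module
    obtain ⟨e7, e8, e9⟩ := huniq _ _ _ _ _ _ E3'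
    refine ⟨e1, ?_, ?_, e5, e6, ?_⟩
    · linear_combination e2 - b * e1
    · linear_combination e3 - (al * c) * e1
    · linear_combination e8 + h * e1
  obtain ⟨ca, cb, cc, k0⟩ := hdec (φ (bs 0))
  obtain ⟨cd, ce, cf, k1⟩ := hdec (φ (bs 1))
  obtain ⟨cg, ch, ci, k2⟩ := hdec (φ (bs 2))
  obtain ⟨pa, pb, pc, m0⟩ := hdec (φ.symm (bs 0))
  obtain ⟨pd, pe, pf, m1⟩ := hdec (φ.symm (bs 1))
  obtain ⟨pg, ph, pi, m2⟩ := hdec (φ.symm (bs 2))
  obtain ⟨hd, se, sf, sh, si, seg⟩ := shape φ ca cb cc cd ce cf cg ch ci k0 k1 k2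
  obtain ⟨hpd, -, -, -, -, pseg⟩ := shape φ.symm pa pb pc pd pe pf pg ph pi m0 m1 m2
  have hb0 : bs 0 = (1 : A) • bs 0 + (0 : A) • bs 1 + (0 : A) • bs 2 := by module
  have hb1 : bs 1 = (0 : A) • bs 0 + (1 : A) • bs 1 + (0 : A) • bs 2 := by module
  have hb2 : bs 2 = (0 : A) • bs 0 + (0 : A) • bs 1 + (1 : A) • bs 2 := by module
  have I1t := LieEquiv.apply_symm_apply φ (bs 0)
  rw [m0, comp φ ca cb cc cd ce cf cg ch ci pa pb pc k0 k1 k2] at I1t
  obtain ⟨I1x, -, -⟩ := huniq _ _ _ _ _ _ (I1t.trans hb0)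
  have I2t := LieEquiv.apply_symm_apply φ (bs 1)
  rw [m1, comp φ ca cb cc cd ce cf cg ch ci pd pe pf k0 k1 k2] at I2t
  obtain ⟨I2x, I2y, I2z⟩ := huniq _ _ _ _ _ _ (I2t.trans hb1)
  have I3t := LieEquiv.apply_symm_apply φ (bs 2)
  rw [m2, comp φ ca cb cc cd ce cf cg ch ci pg ph pi k0 k1 k2] at I3t
  obtain ⟨-, I3y, I3z⟩ := huniq _ _ _ _ _ _ (I3t.trans hb2)
  have J2t := LieEquiv.symm_apply_apply φ (bs 1)
  rw [k1, comp φ.symm pa pb pc pd pe pf pg ph pi cd ce cf m0 m1 m2] at J2t
  obtain ⟨J2x, J2y, -⟩ := huniq _ _ _ _ _ _ (J2t.trans hb1)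
  have hg : cg = 0 := by
    linear_combination (-cg) * I2y + pe * seg + ch * I2x + (cg * cb - ch * ca) * hpd -
      (ch * pe) * hd
  have hpg : pg = 0 := by
    linear_combination (-pg) * J2y + ce * pseg + ph * J2x + (pg * pb - ph * pa) * hd -
      (ph * ce) * hpd
  have I1 : pa * ca = 1 := by linear_combination I1x - pb * hd - pc * hg
  have R1 : pe * ce + pf * ch = 1 := by linear_combination I2y - cb * hpd
  have R2 : pe * cf + pf * ci = 0 := by linear_combination I2z - cc * hpd
  have R3 : ph * ce + pi * ch = 0 := by linear_combination I3y - cb * hpg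
  have R4 : ph * cf + pi * ci = 1 := by linear_combination I3z - cc * hpg
  have sh' : al * ch = ca * ch := by linear_combination sh - cb * hg
  have si' : al * ci = al * ca * ci := by linear_combination si - (al * cc) * hg
  refine ⟨fun hα2 => ?_, fun hα1 => ?_⟩
  · have hmain : ca = 1 ∧ cf = 0 ∧ ch = 0 := by
      by_cases hα0 : α = 0
      · have hal0 : al = 0 := by rw [hal, hα0, map_zero]
        have hf : cf = 0 := by linear_combination sf + (ca * cf) * hal0
        have hh : ch = 0 := by linear_combination (pa * ch) * hal0 - pa * sh' - ch * I1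
        have hee : ce * pe = 1 := by linear_combination R1 - pf * hh
        have ha1 : ca = 1 := by linear_combination (-pe) * se + (1 - ca) * hee
        exact ⟨ha1, hf, hh⟩
      · have hK1 : α * α⁻¹ = 1 := mul_inv_cancel₀ hα0
        have hv := congrArg (algebraMap K A) hK1
        rw [map_mul, map_one, ← hal] at hv
        obtain ⟨v, hv_def⟩ : ∃ v : A, v = algebraMap K A α⁻¹ := ⟨_, rfl⟩
        rw [← hv_def] at hv
        have hne : α * α - 1 ≠ 0 := by
          intro h0; apply hα2; linear_combination h0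
        have hK2 : (α * α - 1) * (α * α - 1)⁻¹ = 1 := mul_inv_cancel₀ hne
        have hw := congrArg (algebraMap K A) hK2
        rw [map_mul, map_sub, map_mul, map_one, ← hal] at hw
        obtain ⟨w, hw_def⟩ : ∃ w : A, w = algebraMap K A (α * α - 1)⁻¹ := ⟨_, rfl⟩
        rw [← hw_def] at hw
        have h_tce : (1 - ca) * ce = 0 := by linear_combination se
        have h_tci : (1 - ca) * ci = 0 := by
          linear_combination v * si' - ((1 - ca) * ci) * hv
        have h_tch : (1 - ca) * ch = (1 - al) * ch := by linear_combination sh'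
        have h_t1 : (1 - ca) = (1 - al) * pf * ch := by
          linear_combination pe * h_tce + pf * h_tch - (1 - ca) * R1
        have hAeq : (1 - ca) * (1 - ca) = (1 - al) * (1 - ca) := by
          linear_combination ((1 - ca) - (1 - al)) * h_t1 + ((1 - al) * pf) * h_tch
        have h_altcf : al * ((1 - ca) * cf) = (al - 1) * cf := by linear_combination sf
        have h_t2 : al * (1 - ca) = (al - 1) * ph * cf := by
          linear_combination ph * h_altcf + (pi * al) * h_tci - (al * (1 - ca)) * R4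
        have hBeq : al * al * ((1 - ca) * (1 - ca)) = (al - 1) * al * (1 - ca) := by
          linear_combination (al * (1 - ca) - (al - 1)) * h_t2 + ((al - 1) * ph) * h_altcf
        have hfin : al * (al * al - 1) * (1 - ca) = 0 := by
          linear_combination (al * al) * hAeq - hBeq
        have ha1 : ca = 1 := by
          linear_combination (-(v * w)) * hfin + ((1 - ca) * ((al * al - 1) * w)) * hv +
            (1 - ca) * hw
        have hh : ch = 0 := by
          linear_combination ((al + 1) * w) * sh' + ((al + 1) * w * ch) * ha1 - ch * hw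
        have hf : cf = 0 := by
          linear_combination (-((al + 1) * w)) * sf - ((al + 1) * w * al * cf) * ha1 - cf * hw
        exact ⟨ha1, hf, hh⟩
    obtain ⟨ha1, hf, hh⟩ := hmain
    have hee : ce * pe = 1 := by linear_combination R1 - pf * hh
    have hii : ci * pi = 1 := by linear_combination R4 - ph * hf
    refine ⟨cb, cc, ce, ci, ⟨⟨ce, pe, hee, by rw [mul_comm]; exact hee⟩, rfl⟩,
      ⟨⟨ci, pi, hii, by rw [mul_comm]; exact hii⟩, rfl⟩, ?_, ?_, ?_⟩
    · rw [k0, ha1, one_smul]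
    · rw [k1, hd, hf, zero_smul, zero_smul, zero_add, add_zero]
    · rw [k2, hg, hh, zero_smul, zero_smul, zero_add, zero_add]
  · have hal1 : al = 1 := by rw [hal, hα1, map_one]
    have ha1 : ca = 1 := by
      linear_combination (-pe) * se - pf * sh' + (pf * ch) * hal1 + (1 - ca) * R1
    have hdet : (ce * ci - cf * ch) * (pe * pi - pf * ph) = 1 := by
      linear_combination (ph * cf + pi * ci) * R1 + R4 - (ph * ce + pi * ch) * R2
    refine ⟨cb, cc, ce, cf, ch, ci,
      ⟨⟨ce * ci - cf * ch, pe * pi - pf * ph, hdet, by rw [mul_comm]; exact hdet⟩, rfl⟩,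
      ?_, ?_, ?_⟩
    · rw [k0, ha1, one_smul]
    · rw [k1, hd, zero_smul, zero_add]
    · rw [k2, hg, zero_smul, zero_add]

end Groth.Agent.S13102
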