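import Groth.Statements.S13107
import Mathlib

set_option autoImplicit false
universe u v w
open GrpSch

namespace Groth.Agent.S13107

/-- Let k be a field, K = k((t)) the field of Laurent series over k, F a Lie algebra over K with a basis
x' = bF 0, y' = bF 1, z' = bF 2 and brackets [x',y'] = z', [x',z'] = t y', [y',z'] = 0, and L a Lie
algebra over K with a basis x = bL 0, y = bL 1, z = bL 2 and brackets [x,y] = y, [x,z] = −z, [y,z] =
0. Then there is no K-linear isomorphism of Lie algebras between L and F: F is a non-trivial form of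
L over K. (The published result is the classification of three-dimensional Lie algebras over k((t))
for k algebraically closed of characteristic not 2, with F its only non-split entry; this row states
the non-isomorphism of F and L over k((t)) for every field k.) -/
theorem result (k : Type u) [Field k]
    (F : Type v) [LieRing F] [LieAlgebra (LaurentSeries k) F] (bF : Module.Basis (Fin 3) (LaurentSeries k) F)
    (hF01 : ⁅bF 0, bF 1⁆ = bF 2) (hF02 : ⁅bF 0, bF 2⁆ = (HahnSeries.single 1 (1 : k) : LaurentSeries k) • bF 1)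
    (hF12 : ⁅bF 1, bF 2⁆ = 0)
    (L : Type w) [LieRing L] [LieAlgebra (LaurentSeries k) L] (bL : Module.Basis (Fin 3) (LaurentSeries k) L)
    (hL01 : ⁅bL 0, bL 1⁆ = bL 1) (hL02 : ⁅bL 0, bL 2⁆ = -bL 2) (hL12 : ⁅bL 1, bL 2⁆ = 0) :
    IsEmpty (L ≃ₗ⁅LaurentSeries k⁆ F) := by
  have key : ∀ (K : Type u) [CommRing K] [IsDomain K] (T : K) (F' : Type v) [LieRing F']
      [LieAlgebra K F'] (bF : Module.Basis (Fin 3) K F') (hF01 : ⁅bF 0, bF 1⁆ = bF 2)
      (hF02 : ⁅bF 0, bF 2⁆ = T • bF 1) (hF12 : ⁅bF 1, bF 2⁆ = 0) (L' : Type w) [LieRing L']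
      [LieAlgebra K L'] (bL : Module.Basis (Fin 3) K L') (hL01 : ⁅bL 0, bL 1⁆ = bL 1)
      (φ : L' ≃ₗ⁅K⁆ F'), ∃ a : K, T * a * a = 1 := by
    intro K _ _ T F' _ _ bF hF01 hF02 hF12 L' _ _ bL hL01 φ
    have h10 : (1 : Fin 3) ≠ 0 := by decide
    have h20 : (2 : Fin 3) ≠ 0 := by decide
    have h01 : (0 : Fin 3) ≠ 1 := by decide
    have h21 : (2 : Fin 3) ≠ 1 := by decide
    have h02 : (0 : Fin 3) ≠ 2 := by decide
    have h12 : (1 : Fin 3) ≠ 2 := by decide
    have hrep0 : ∀ p q r : K, bF.repr (p • bF 0 + q • bF 1 + r • bF 2) 0 = p := by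
      intro p q r
      simp [Finsupp.single_apply, h10, h20, h01, h21, h02, h12]
    have hrep1 : ∀ p q r : K, bF.repr (p • bF 0 + q • bF 1 + r • bF 2) 1 = q := by
      intro p q r
      simp [Finsupp.single_apply, h10, h20, h01, h21, h02, h12]
    have hrep2 : ∀ p q r : K, bF.repr (p • bF 0 + q • bF 1 + r • bF 2) 2 = r := by
      intro p q r
      simp [Finsupp.single_apply, h10, h20, h01, h21, h02, h12]
    have huniq : ∀ p q r p' q' r' : K,
        p • bF 0 + q • bF 1 + r • bF 2 = p' • bF 0 + q' • bF 1 + r' • bF 2 →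
        p = p' ∧ q = q' ∧ r = r' := by
      intro p q r p' q' r' hh
      refine ⟨?_, ?_, ?_⟩
      · have h3 := congrArg (fun v => bF.repr v 0) hh
        simp only [hrep0] at h3
        exact h3
      · have h3 := congrArg (fun v => bF.repr v 1) hh
        simp only [hrep1] at h3
        exact h3
      · have h3 := congrArg (fun v => bF.repr v 2) hh
        simp only [hrep2] at h3
        exact h3
    have hdec : ∀ v : F', ∃ p q r : K, v = p • bF 0 + q • bF 1 + r • bF 2 := by
      intro v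
      refine ⟨bF.repr v 0, bF.repr v 1, bF.repr v 2, ?_⟩
      have h3 := bF.sum_repr v
      rw [Fin.sum_univ_three] at h3
      exact h3.symm
    have hF10 : ⁅bF 1, bF 0⁆ = -bF 2 := by rw [← lie_skew (bF 1) (bF 0), hF01]
    have hF20 : ⁅bF 2, bF 0⁆ = -(T • bF 1) := by rw [← lie_skew (bF 2) (bF 0), hF02]
    have hF21 : ⁅bF 2, bF 1⁆ = 0 := by rw [← lie_skew (bF 2) (bF 1), hF12, neg_zero]
    have hbr : ∀ p q r p' q' r' : K,
        ⁅p • bF 0 + q • bF 1 + r • bF 2, p' • bF 0 + q' • bF 1 + r' • bF 2⁆ =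
        (0 : K) • bF 0 + (T * (p * r' - r * p')) • bF 1 + (p * q' - q * p') • bF 2 := by
      intro p q r p' q' r'
      simp only [add_lie, lie_add, smul_lie, lie_smul, lie_self, hF01, hF02, hF12, hF10, hF20,
        hF21, smul_zero]
      module
    have hml : ∀ u v : L', φ ⁅u, v⁆ = ⁅φ u, φ v⁆ := fun u v => LieHom.map_lie φ.toLieHom u v
    obtain ⟨a, b, c, k0⟩ := hdec (φ (bL 0))
    obtain ⟨d, e, f, k1⟩ := hdec (φ (bL 1))
    have E1 : φ (bL 1) = ⁅φ (bL 0), φ (bL 1)⁆ := by rw [← hml, hL01]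
    rw [k0, k1, hbr] at E1
    obtain ⟨e1, e2, e3⟩ := huniq _ _ _ _ _ _ E1
    have hφ0 : φ 0 = 0 := map_zero φ.toLieHom
    have hne : φ (bL 1) ≠ 0 := by
      intro h0
      have h4 : bL 1 = 0 := φ.injective (h0.trans hφ0.symm)
      exact bL.ne_zero 1 h4
    refine ⟨a, ?_⟩
    by_contra hne1
    have hu : (1 - T * a * a) ≠ 0 := sub_ne_zero.2 (Ne.symm hne1)
    have he0 : (1 - T * a * a) * e = 0 := by
      linear_combination e2 + (T * a) * e3 - (T * a * b + T * c) * e1
    have hf0 : (1 - T * a * a) * f = 0 := by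
      linear_combination e3 + a * e2 - (a * T * c + b) * e1
    have he : e = 0 := (mul_eq_zero.1 he0).resolve_left hu
    have hf : f = 0 := (mul_eq_zero.1 hf0).resolve_left hu
    apply hne
    rw [k1, e1, he, hf, zero_smul, zero_smul, zero_smul, add_zero, add_zero]
  refine ⟨fun φ => ?_⟩
  obtain ⟨a, hs⟩ := key (LaurentSeries k) (HahnSeries.single 1 (1 : k)) F bF hF01 hF02 hF12 L bL
    hL01 φ
  obtain ⟨T, hT⟩ : ∃ T : LaurentSeries k, T = HahnSeries.single 1 (1 : k) := ⟨_, rfl⟩
  rw [← hT] at hs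
  have hT0 : T ≠ 0 := by rw [hT]; exact HahnSeries.single_ne_zero one_ne_zero
  have hTord : T.order = 1 := by rw [hT]; exact HahnSeries.order_single one_ne_zero
  have ha0 : a ≠ 0 := by
    intro h0
    rw [h0, mul_zero] at hs
    exact zero_ne_one hs
  have hord := congrArg HahnSeries.order hs
  rw [HahnSeries.order_mul (mul_ne_zero hT0 ha0) ha0, HahnSeries.order_mul hT0 ha0, hTord,
    HahnSeries.order_one] at hord
  omega

end Groth.Agent.S13107
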