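import Groth.Statements.S13108
import Mathlib

set_option autoImplicit false
universe u v w
open GrpSch

namespace Groth.Agent.S13108

/-- Let k be a field and t, t' ∈ k both non-zero; let L be a Lie algebra over k with a basis x = b 0, y
= b 1, z = b 2 and brackets [x,y] = y, [x,z] = t z, [y,z] = 0, and L' a Lie algebra over k with a
basis x' = b' 0, y' = b' 1, z' = b' 2 and brackets [x',y'] = y', [x',z'] = t' z', [y',z'] = 0. Then
L and L' are isomorphic Lie algebras over k if and only if t' = t or t' = t⁻¹. -/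
theorem result (k : Type u) [Field k] (t t' : k) (ht : t ≠ 0) (ht' : t' ≠ 0)
    (L : Type v) [LieRing L] [LieAlgebra k L] (b : Module.Basis (Fin 3) k L)
    (h01 : ⁅b 0, b 1⁆ = b 1) (h02 : ⁅b 0, b 2⁆ = t • b 2) (h12 : ⁅b 1, b 2⁆ = 0)
    (L' : Type w) [LieRing L'] [LieAlgebra k L'] (b' : Module.Basis (Fin 3) k L')
    (h01' : ⁅b' 0, b' 1⁆ = b' 1) (h02' : ⁅b' 0, b' 2⁆ = t' • b' 2) (h12' : ⁅b' 1, b' 2⁆ = 0) :
    Nonempty (L ≃ₗ⁅k⁆ L') ↔ (t' = t ∨ t' = t⁻¹) := by
  have n10 : (1 : Fin 3) ≠ 0 := by decide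
  have n20 : (2 : Fin 3) ≠ 0 := by decide
  have n01 : (0 : Fin 3) ≠ 1 := by decide
  have n21 : (2 : Fin 3) ≠ 1 := by decide
  have n02 : (0 : Fin 3) ≠ 2 := by decide
  have n12 : (1 : Fin 3) ≠ 2 := by decide
  have hfin : ∀ i : Fin 3, i = 0 ∨ i = 1 ∨ i = 2 := by decide
  have HBR : ∀ (c : Module.Basis (Fin 3) k L') (s : k), ⁅c 0, c 1⁆ = c 1 → ⁅c 0, c 2⁆ = s • c 2 →
      ⁅c 1, c 2⁆ = 0 → ∀ p q r p' q' r' : k,
      ⁅p • c 0 + q • c 1 + r • c 2, p' • c 0 + q' • c 1 + r' • c 2⁆ =
        (0 : k) • c 0 + (p * q' - q * p') • c 1 + (s * (p * r' - r * p')) • c 2 := by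
    intro c s g01 g02 g12 p q r p' q' r'
    have g10 : ⁅c 1, c 0⁆ = -c 1 := by rw [← lie_skew (c 1) (c 0), g01]
    have g20 : ⁅c 2, c 0⁆ = -(s • c 2) := by rw [← lie_skew (c 2) (c 0), g02]
    have g21 : ⁅c 2, c 1⁆ = 0 := by rw [← lie_skew (c 2) (c 1), g12, neg_zero]
    simp only [add_lie, lie_add, smul_lie, lie_smul, lie_self, g01, g02, g12, g10, g20, g21,
      smul_zero]
    module
  have hbrL : ∀ p q r p' q' r' : k,
      ⁅p • b 0 + q • b 1 + r • b 2, p' • b 0 + q' • b 1 + r' • b 2⁆ =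
        (0 : k) • b 0 + (p * q' - q * p') • b 1 + (t * (p * r' - r * p')) • b 2 := by
    intro p q r p' q' r'
    have g10 : ⁅b 1, b 0⁆ = -b 1 := by rw [← lie_skew (b 1) (b 0), h01]
    have g20 : ⁅b 2, b 0⁆ = -(t • b 2) := by rw [← lie_skew (b 2) (b 0), h02]
    have g21 : ⁅b 2, b 1⁆ = 0 := by rw [← lie_skew (b 2) (b 1), h12, neg_zero]
    simp only [add_lie, lie_add, smul_lie, lie_smul, lie_self, h01, h02, h12, g10, g20, g21,
      smul_zero]
    module
  have hdecL : ∀ v : L, ∃ p q r : k, v = p • b 0 + q • b 1 + r • b 2 := by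
    intro v
    refine ⟨b.repr v 0, b.repr v 1, b.repr v 2, ?_⟩
    have h3 := b.sum_repr v
    rw [Fin.sum_univ_three] at h3
    exact h3.symm
  have G : ∀ (c : Module.Basis (Fin 3) k L'), ⁅c 0, c 1⁆ = c 1 → ⁅c 0, c 2⁆ = t • c 2 →
      ⁅c 1, c 2⁆ = 0 → Nonempty (L ≃ₗ⁅k⁆ L') := by
    intro c g01 g02 g12
    obtain ⟨e, he⟩ : ∃ e : L ≃ₗ[k] L', ∀ j, e (b j) = c j :=
      ⟨b.equiv c (Equiv.refl _), fun j => by rw [Module.Basis.equiv_apply]; rfl⟩
    have hcomb : ∀ p q r : k, e (p • b 0 + q • b 1 + r • b 2) = p • c 0 + q • c 1 + r • c 2 := by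
      intro p q r
      rw [map_add, map_add, map_smul, map_smul, map_smul, he, he, he]
    have hlie : ∀ u v : L, e ⁅u, v⁆ = ⁅e u, e v⁆ := by
      intro u v
      obtain ⟨p, q, r, hu⟩ := hdecL u
      obtain ⟨p', q', r', hv⟩ := hdecL v
      rw [hu, hv, hbrL, hcomb, hcomb, hcomb, HBR c t g01 g02 g12]
    exact ⟨{ toFun := e
             map_add' := e.map_add
             map_smul' := e.map_smul
             map_lie' := fun {u v} => hlie u v
             invFun := e.symm
             left_inv := e.symm_apply_apply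
             right_inv := e.apply_symm_apply }⟩
  constructor
  · rintro ⟨φ⟩
    have hbr' := HBR b' t' h01' h02' h12'
    have hrep0 : ∀ p q r : k, b'.repr (p • b' 0 + q • b' 1 + r • b' 2) 0 = p := by
      intro p q r
      simp [Finsupp.single_apply, n10, n20, n01, n21, n02, n12]
    have hrep1 : ∀ p q r : k, b'.repr (p • b' 0 + q • b' 1 + r • b' 2) 1 = q := by
      intro p q r
      simp [Finsupp.single_apply, n10, n20, n01, n21, n02, n12]
    have hrep2 : ∀ p q r : k, b'.repr (p • b' 0 + q • b' 1 + r • b' 2) 2 = r := by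
      intro p q r
      simp [Finsupp.single_apply, n10, n20, n01, n21, n02, n12]
    have huniq : ∀ p q r p' q' r' : k,
        p • b' 0 + q • b' 1 + r • b' 2 = p' • b' 0 + q' • b' 1 + r' • b' 2 →
        p = p' ∧ q = q' ∧ r = r' := by
      intro p q r p' q' r' hh
      refine ⟨?_, ?_, ?_⟩
      · have h3 := congrArg (fun v => b'.repr v 0) hh
        simp only [hrep0] at h3
        exact h3
      · have h3 := congrArg (fun v => b'.repr v 1) hh
        simp only [hrep1] at h3
        exact h3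
      · have h3 := congrArg (fun v => b'.repr v 2) hh
        simp only [hrep2] at h3
        exact h3
    have hdec : ∀ v : L', ∃ p q r : k, v = p • b' 0 + q • b' 1 + r • b' 2 := by
      intro v
      refine ⟨b'.repr v 0, b'.repr v 1, b'.repr v 2, ?_⟩
      have h3 := b'.sum_repr v
      rw [Fin.sum_univ_three] at h3
      exact h3.symm
    have hind : ∀ q r : k, q • b 1 + r • b 2 = 0 → q = 0 ∧ r = 0 := by
      intro q r h0
      have h3 := congrArg (fun v => b.repr v 1) h0
      have h4 := congrArg (fun v => b.repr v 2) h0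
      simp [Finsupp.single_apply, n12, n21] at h3 h4
      exact ⟨h3, h4⟩
    have hml : ∀ u v : L, φ ⁅u, v⁆ = ⁅φ u, φ v⁆ := fun u v => LieHom.map_lie φ.toLieHom u v
    have hadd : ∀ u v : L, φ (u + v) = φ u + φ v := fun u v => map_add φ.toLieHom u v
    have hsmul : ∀ (s : k) (v : L), φ (s • v) = s • φ v := fun s v => map_smul φ.toLieHom s v
    have hφ0 : φ 0 = 0 := map_zero φ.toLieHom
    obtain ⟨a1, a2, a3, k0⟩ := hdec (φ (b 0))
    obtain ⟨d1, d2, d3, k1⟩ := hdec (φ (b 1))
    obtain ⟨g1, g2, g3, k2⟩ := hdec (φ (b 2))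
    have E1 : φ (b 1) = ⁅φ (b 0), φ (b 1)⁆ := by rw [← hml, h01]
    rw [k0, k1, hbr'] at E1
    obtain ⟨e1, e2, e3⟩ := huniq _ _ _ _ _ _ E1
    have E2 : t • φ (b 2) = ⁅φ (b 0), φ (b 2)⁆ := by rw [← hml, h02, hsmul]
    rw [k0, k2, hbr'] at E2
    have E2' : (t * g1) • b' 0 + (t * g2) • b' 1 + (t * g3) • b' 2 =
        (0 : k) • b' 0 + (a1 * g2 - a2 * g1) • b' 1 + (t' * (a1 * g3 - a3 * g1)) • b' 2 := by
      rw [← E2]; module
    obtain ⟨e4, e5, e6⟩ := huniq _ _ _ _ _ _ E2'
    have hg1 : g1 = 0 := (mul_eq_zero.1 e4).resolve_left ht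
    have s2 : (1 - a1) * d2 = 0 := by linear_combination e2 - a2 * e1
    have s3 : (1 - t' * a1) * d3 = 0 := by linear_combination e3 - (t' * a3) * e1
    have s5 : (t - a1) * g2 = 0 := by linear_combination e5 - a2 * hg1
    have s6 : (t - t' * a1) * g3 = 0 := by linear_combination e6 - (t' * a3) * hg1
    have hφlin : ∀ q r : k, φ (q • b 1 + r • b 2) =
        (q * d1 + r * g1) • b' 0 + (q * d2 + r * g2) • b' 1 + (q * d3 + r * g3) • b' 2 := by
      intro q r
      rw [hadd, hsmul, hsmul, k1, k2]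
      module
    have hdet : d2 * g3 - d3 * g2 ≠ 0 := by
      intro h0
      have hu1 : g3 • b 1 + (-d3) • b 2 = 0 := by
        apply φ.injective
        have c1 : g3 * d1 + -d3 * g1 = 0 := by rw [e1, hg1]; ring
        have c2 : g3 * d2 + -d3 * g2 = 0 := by linear_combination h0
        have c3 : g3 * d3 + -d3 * g3 = 0 := by ring
        refine (hφlin _ _).trans ?_
        rw [c1, c2, c3, zero_smul, zero_smul, zero_smul, add_zero, add_zero]
        exact hφ0.symm
      have hu2 : g2 • b 1 + (-d2) • b 2 = 0 := by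
        apply φ.injective
        have c1 : g2 * d1 + -d2 * g1 = 0 := by rw [e1, hg1]; ring
        have c2 : g2 * d2 + -d2 * g2 = 0 := by ring
        have c3 : g2 * d3 + -d2 * g3 = 0 := by linear_combination (-1 : k) * h0
        refine (hφlin _ _).trans ?_
        rw [c1, c2, c3, zero_smul, zero_smul, zero_smul, add_zero, add_zero]
        exact hφ0.symm
      obtain ⟨-, hd3⟩ := hind _ _ hu1
      obtain ⟨-, hd2⟩ := hind _ _ hu2
      have hb1 : b 1 = 0 := by
        apply φ.injective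
        refine Eq.trans ?_ hφ0.symm
        show φ (b 1) = 0
        rw [k1, e1, neg_eq_zero.1 hd2, neg_eq_zero.1 hd3, zero_smul, zero_smul, zero_smul,
          add_zero, add_zero]
      exact b.ne_zero 1 hb1
    by_cases hd2 : d2 = 0
    · have hd3 : d3 ≠ 0 := fun h => hdet (by rw [hd2, h]; ring)
      have hg2 : g2 ≠ 0 := fun h => hdet (by rw [hd2, h]; ring)
      have h1 : 1 - t' * a1 = 0 := (mul_eq_zero.1 s3).resolve_right hd3
      have h2 : t - a1 = 0 := (mul_eq_zero.1 s5).resolve_right hg2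
      right
      have h3 : t' * t = 1 := by linear_combination (-1 : k) * h1 + t' * h2
      exact eq_inv_of_mul_eq_one_left h3
    · by_cases hg3 : g3 = 0
      · have hd3 : d3 ≠ 0 := fun h => hdet (by rw [hg3, h]; ring)
        have hg2 : g2 ≠ 0 := fun h => hdet (by rw [hg3, h]; ring)
        have h1 : 1 - t' * a1 = 0 := (mul_eq_zero.1 s3).resolve_right hd3
        have h2 : t - a1 = 0 := (mul_eq_zero.1 s5).resolve_right hg2
        right
        have h3 : t' * t = 1 := by linear_combination (-1 : k) * h1 + t' * h2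
        exact eq_inv_of_mul_eq_one_left h3
      · have h1 : 1 - a1 = 0 := (mul_eq_zero.1 s2).resolve_right hd2
        have h2 : t - t' * a1 = 0 := (mul_eq_zero.1 s6).resolve_right hg3
        left
        linear_combination t' * h1 - h2
  · rintro (rfl | rfl)
    · exact G b' h01' h02' h12'
    · obtain ⟨w, hw0, hw1, hw2⟩ : ∃ w : Fin 3 → k, w 0 = t ∧ w 1 = 1 ∧ w 2 = 1 :=
        ⟨fun i => if i = 0 then t else 1, if_pos rfl, if_neg n10, if_neg n20⟩
      have hw : ∀ i, IsUnit (w i) := by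
        intro i
        rcases hfin i with rfl | rfl | rfl
        · rw [hw0]; exact isUnit_iff_ne_zero.2 ht
        · rw [hw1]; exact isUnit_one
        · rw [hw2]; exact isUnit_one
      obtain ⟨c, hc0, hc1, hc2⟩ : ∃ c : Module.Basis (Fin 3) k L',
          c 0 = t • b' 0 ∧ c 1 = b' 2 ∧ c 2 = b' 1 := by
        refine ⟨(b'.reindex (Equiv.swap 1 2)).isUnitSMul hw, ?_, ?_, ?_⟩
        · rw [Module.Basis.isUnitSMul_apply, Module.Basis.reindex_apply, Equiv.symm_swap,
            Equiv.swap_apply_of_ne_of_ne n01 n02, hw0]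
        · rw [Module.Basis.isUnitSMul_apply, Module.Basis.reindex_apply, Equiv.symm_swap,
            Equiv.swap_apply_left, hw1, one_smul]
        · rw [Module.Basis.isUnitSMul_apply, Module.Basis.reindex_apply, Equiv.symm_swap,
            Equiv.swap_apply_right, hw2, one_smul]
      refine G c ?_ ?_ ?_
      · rw [hc0, hc1, smul_lie, h02', smul_smul, mul_inv_cancel₀ ht, one_smul]
      · rw [hc0, hc2, smul_lie, h01']
      · rw [hc1, hc2, ← lie_skew (b' 2) (b' 1), h12', neg_zero]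

end Groth.Agent.S13108
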