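import Groth.Statements.S13114
import Mathlib

set_option autoImplicit false
universe u
open HilbChow

namespace Groth.Agent.S13114

/-- Let k be an algebraically closed field, A a commutative local k-algebra of finite dimension n over k
and u a unit of A. Then the determinant of multiplication by u on the k-vector space A, mapped to
the residue field of A, equals the n-th power of the residue class of u. -/
theorem result
    (k A : Type u) [Field k] [IsAlgClosed k] [CommRing A] [Algebra k A] [IsLocalRing A]
    [Module.Finite k A] (u : Aˣ) :
    algebraMap k (IsLocalRing.ResidueField A) (Algebra.norm k (u : A)) =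
      IsLocalRing.residue A (u : A) ^ Module.finrank k A := by
  have hfin : Module.Finite k (IsLocalRing.ResidueField A) :=
    Module.Finite.of_surjective (IsScalarTower.toAlgHom k A (IsLocalRing.ResidueField A)).toLinearMap
      (IsLocalRing.residue_surjective)
  have hsurj : Function.Surjective (algebraMap k (IsLocalRing.ResidueField A)) :=
    IsAlgClosed.algebraMap_bijective_of_isIntegral.2
  obtain ⟨c, hc⟩ := hsurj (IsLocalRing.residue A (u : A))
  have hres : IsLocalRing.residue A (algebraMap k A c) = algebraMap k (IsLocalRing.ResidueField A) c := by
    rw [IsScalarTower.algebraMap_apply k A (IsLocalRing.ResidueField A)]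
    rfl
  set n : A := (u : A) - algebraMap k A c with hn
  have hnm : n ∈ IsLocalRing.maximalIdeal A := by
    rw [← IsLocalRing.residue_eq_zero_iff, hn, map_sub, hres, hc, sub_self]
  have _ : IsArtinianRing A := IsArtinianRing.of_finite k A
  have hnil : IsNilpotent n := by
    obtain ⟨m, hm⟩ := IsArtinianRing.isNilpotent_jacobson_bot (R := A)
    rw [IsLocalRing.jacobson_eq_maximalIdeal ⊥ bot_ne_top] at hm
    refine ⟨m, ?_⟩
    have := Ideal.pow_mem_pow hnm m
    rw [hm] at this
    exact this
  have hnil2 : IsNilpotent (-(Algebra.lmul k A n)) := (hnil.map (Algebra.lmul k A)).neg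
  have hcp := hnil2.charpoly_eq_X_pow_finrank
  have hev := LinearMap.eval_charpoly (-(Algebra.lmul k A n)) c
  rw [hcp, Polynomial.eval_pow, Polynomial.eval_X] at hev
  have hu : Algebra.lmul k A (u : A) = algebraMap k (Module.End k A) c - -(Algebra.lmul k A n) := by
    rw [sub_neg_eq_add, hn, map_sub, AlgHom.commutes]; abel
  rw [Algebra.norm_apply, hu, ← hev, map_pow, hc]

end Groth.Agent.S13114
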