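import Groth.Statements.S13123
import Mathlib.Tactic.LinearCombination
import Mathlib.Algebra.CharP.Two

set_option autoImplicit false
universe u
open KumFam

namespace Groth.Agent.S13123

open Polynomial in
/-- Let R be a commutative ring of characteristic 2 and p q r m ρ s t ∈ R with m³ + p m + q = 0, (m² +
p)²(ρ² + ρ) = r, m²(s² + s) = (m² + p) ρ and m²(t² + t) = (m² + p)(ρ + 1). Then X⁴ + p X² + q X + r
= (X − m s)(X − m (s + 1))(X − m t)(X − m (t + 1)) in R[X]. (The published statement assumes q is a
unit, which makes m and m² + p units, writes ρ, s, t as roots of Artin–Schreier equations X² + X + γ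
with γ the corresponding quotients, and gives m through cube roots of Lagrange resolvents; here the
defining equations of ρ, s, t are written with denominators cleared and m is any root of the
resolvent cubic, so no unit hypothesis is needed.) -/
theorem result (R : Type u) [CommRing R] [CharP R 2]
    (p q r m ρ s t : R) (hm : m ^ 3 + p * m + q = 0) (hρ : (m ^ 2 + p) ^ 2 * (ρ ^ 2 + ρ) = r)
    (hs : m ^ 2 * (s ^ 2 + s) = (m ^ 2 + p) * ρ) (ht : m ^ 2 * (t ^ 2 + t) = (m ^ 2 + p) * (ρ + 1)) :
    (X ^ 4 + C p * X ^ 2 + C q * X + C r : R[X]) =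
      (X - C (m * s)) * (X - C (m * (s + 1))) * (X - C (m * t)) * (X - C (m * (t + 1))) := by
  have h2 : (2 : R[X]) = 0 := by
    have : (2 : R) = 0 := CharTwo.two_eq_zero
    have h := congrArg (C : R → R[X]) this
    rw [map_ofNat, map_zero] at h
    exact h
  have hm' : C m ^ 3 + C p * C m + C q = (0 : R[X]) := by
    have h := congrArg (C : R → R[X]) hm
    simpa using h
  have hρ' : (C m ^ 2 + C p) ^ 2 * (C ρ ^ 2 + C ρ) = (C r : R[X]) := by
    have h := congrArg (C : R → R[X]) hρ
    simpa using h
  have hs' : C m ^ 2 * (C s ^ 2 + C s) = (C m ^ 2 + C p) * (C ρ : R[X]) := by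
    have h := congrArg (C : R → R[X]) hs
    simpa using h
  have ht' : C m ^ 2 * (C t ^ 2 + C t) = (C m ^ 2 + C p) * ((C ρ : R[X]) + 1) := by
    have h := congrArg (C : R → R[X]) ht
    simpa using h
  have e1 : (X - C (m * s)) * (X - C (m * (s + 1))) = X ^ 2 + C m * X + (C m ^ 2 + C p) * (C ρ : R[X]) := by
    rw [← hs']
    simp only [map_mul, map_add, map_one]
    linear_combination (-(C m * C s + C m) * X) * h2
  have e2 : (X - C (m * t)) * (X - C (m * (t + 1))) = X ^ 2 + C m * X + (C m ^ 2 + C p) * ((C ρ : R[X]) + 1) := by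
    rw [← ht']
    simp only [map_mul, map_add, map_one]
    linear_combination (-(C m * C t + C m) * X) * h2
  rw [mul_assoc, e1, e2]
  linear_combination X * hm' - hρ' + (-(C m) * X ^ 3 - (C m ^ 2 + (C m ^ 2 + C p) * C ρ) * X ^ 2
    - (C m ^ 3 + C p * C m) * X - C m * (C m ^ 2 + C p) * C ρ * X) * h2

end Groth.Agent.S13123
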