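import Groth.Statements.S13124
import Mathlib

set_option autoImplicit false
universe u v w
open KumFam

namespace Groth.Agent.S13124

/-- Let k be a commutative ring, A a commutative k-bialgebra that is flat over k, and R a commutative
k-algebra which is an integrally closed domain, with a coaction R → R ⊗ A that is an algebra
homomorphism. Then the ring of invariants (the elements f with coaction f ⊗ 1) is an integrally
closed domain. (The published statement is for a finite group scheme acting on a normal scheme whose
quotient is, locally, the spectrum of the ring of invariants; this row is the affine integral case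
and allows any commutative bialgebra flat over k, flatness being automatic over a field.) -/
theorem result (k : Type u) [CommRing k]
    (A : Type v) [CommRing A] [Bialgebra k A] [Module.Flat k A]
    (R : Type w) [CommRing R] [Algebra k R] [IsDomain R] [IsIntegrallyClosed R]
    [HopfRep.Comod k A R] [GLin.IsCoactAlg k A R] :
    IsIntegrallyClosed (GLin.invariants k A R) := by
  classical
  let S := GLin.invariants k A R
  let K := FractionRing S
  let L := FractionRing R
  have hinjSL : Function.Injective (algebraMap S L) := by
    intro s s' h
    apply Subtype.ext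
    exact IsFractionRing.injective R L h
  -- key injectivity
  have hkey : ∀ b : R, b ≠ 0 → ∀ t : TensorProduct k R A,
      (b ⊗ₜ[k] (1 : A)) * t = 0 → t = 0 := by
    intro b hb t ht
    have hinj : Function.Injective (LinearMap.mulLeft k b) := by
      intro r r' h
      exact mul_left_cancel₀ hb h
    have hinj' := Module.Flat.rTensor_preserves_injective_linearMap (M := A)
      (LinearMap.mulLeft k b) hinj
    have hform : ∀ t : TensorProduct k R A,
        (LinearMap.mulLeft k b).rTensor A t = (b ⊗ₜ[k] (1 : A)) * t := by
      intro t
      induction t using TensorProduct.induction_on with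
      | zero => simp
      | tmul r a =>
        rw [LinearMap.rTensor_tmul, Algebra.TensorProduct.tmul_mul_tmul, one_mul]
        rfl
      | add x y hx hy => rw [map_add, hx, hy, mul_add]
    apply hinj'
    rw [hform, ht, map_zero]
  rw [isIntegrallyClosed_iff K]
  intro x hx
  obtain ⟨a, b, hb, rfl⟩ := IsFractionRing.div_surjective (A := S) x
  have hb0 : b ≠ 0 := nonZeroDivisors.ne_zero hb
  let φ : K →ₐ[S] L := IsFractionRing.liftAlgHom (g := Algebra.ofId S L) hinjSL
  have hφx : IsIntegral S (φ (algebraMap S K a / algebraMap S K b)) := hx.map φ
  have hφx' : IsIntegral R (φ (algebraMap S K a / algebraMap S K b)) := hφx.tower_top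
  obtain ⟨r, hr⟩ := (isIntegrallyClosed_iff L).1 inferInstance hφx'
  have hφa : φ (algebraMap S K a) = algebraMap R L a.1 := by
    rw [AlgHom.commutes]
    rfl
  have hφb : φ (algebraMap S K b) = algebraMap R L b.1 := by
    rw [AlgHom.commutes]
    rfl
  have hb1 : (b.1 : R) ≠ 0 := fun h => hb0 (Subtype.ext h)
  have hbL : algebraMap R L b.1 ≠ 0 := by
    intro h
    exact hb1 (IsFractionRing.injective R L (h.trans (map_zero _).symm))
  have hrb : r * b.1 = a.1 := by
    apply IsFractionRing.injective R L
    rw [map_mul, hr, map_div₀, hφa, hφb, div_mul_cancel₀ _ hbL]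
  have hrS : r ∈ S := by
    rw [GLin.mem_invariants_iff]
    have h1 := congrArg (HopfRep.Comod.coact (k := k) (A := A)) hrb
    rw [GLin.IsCoactAlg.coact_mul, (GLin.mem_invariants_iff k A R _).1 b.2,
      (GLin.mem_invariants_iff k A R _).1 a.2, ← hrb] at h1
    have h2 : (b.1 ⊗ₜ[k] (1 : A)) *
        (HopfRep.Comod.coact (k := k) (A := A) r - r ⊗ₜ[k] (1 : A)) = 0 := by
      rw [mul_sub, mul_comm, h1, Algebra.TensorProduct.tmul_mul_tmul, one_mul, mul_comm b.1 r,
        sub_self]
    exact sub_eq_zero.1 (hkey b.1 hb1 _ h2)
  refine ⟨⟨r, hrS⟩, ?_⟩
  have hbK : algebraMap S K b ≠ 0 := by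
    intro h
    exact hb0 (IsFractionRing.injective S K (h.trans (map_zero _).symm))
  rw [eq_div_iff hbK, ← map_mul]
  congr 1
  exact Subtype.ext hrb

end Groth.Agent.S13124
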