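import Groth.Statements.S13125
import Mathlib
import Groth.Agent.Lib.helper6.GradedQuot

set_option autoImplicit false
universe u v
open KumFam

namespace Groth.Agent.S13125

/-- Let A be a commutative ring graded by an additive monoid ι (an abelian group in the published
statement) through additive subgroups 𝒜 i, and I an ideal of A. Then I is a homogeneous ideal if and
only if A/I carries a structure of ι-graded ring ℬ for which the quotient map sends 𝒜 i into ℬ i for
all i. -/
theorem result (ι : Type u) [DecidableEq ι] [AddMonoid ι]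
    (A : Type v) [CommRing A] (𝒜 : ι → AddSubgroup A) [GradedRing 𝒜] (I : Ideal A) :
    I.IsHomogeneous 𝒜 ↔
      ∃ ℬ : ι → AddSubgroup (A ⧸ I), Nonempty (GradedRing ℬ) ∧
        ∀ i : ι, (𝒜 i).map (Ideal.Quotient.mk I : A →+ A ⧸ I) ≤ ℬ i := by
  constructor
  · intro hI
    exact ⟨Groth.Agent.Lib.helper6.H6GradedQuot.B 𝒜 I,
      ⟨Groth.Agent.Lib.helper6.H6GradedQuot.gradedRing 𝒜 I hI⟩, fun _ => le_rfl⟩
  · rintro ⟨ℬ, ⟨hB⟩, h⟩
    exact Groth.Agent.Lib.helper6.H6GradedQuot.homog_of_graded 𝒜 I ℬ h

end Groth.Agent.S13125
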