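import Groth.Statements.S13126
import Mathlib

set_option autoImplicit false
universe u
open KumFam

namespace Groth.Agent.S13126

open Polynomial in
/-- Let R be a commutative ring, n a natural number which is a unit in R, and ζ ∈ R with ζ^n = 1 and 1 −
ζ^i a unit for 0 < i < n (a primitive n-th root of unity in the fibrewise sense: the powers ζ^0, …,
ζ^(n−1) are roots of X^n − 1 with pairwise unit differences; over an integral domain in which n is a
unit this is the same as ζ having multiplicative order n). Then the R-algebra homomorphism R[X] →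
(Fin n → R) sending a polynomial to its values at ζ^0, …, ζ^(n−1) is surjective and its kernel is
the ideal generated by X^n − 1; hence R[X]/(X^n − 1) ≅ R^n as R-algebras, i.e. the scheme of n-th
roots of unity over Spec R is the disjoint union of n copies of Spec R. (The published statement
asks that R contain a primitive n-th root of unity without defining the term; its Chinese-remainder
argument uses that the ideals (X − ζ^i), i < n, are pairwise comaximal, which is the unit-difference
condition taken as the hypothesis here, whereas under the reading 'ζ has multiplicative order n'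
alone the surjectivity fails over a product of two fields. The published statement also asserts that
the isomorphism respects the group-scheme structures of the n-th roots of unity and of the constant
group ℤ/n; this row does not state that.) -/
theorem result (R : Type u) [CommRing R]
    (n : ℕ) (hn : IsUnit (n : R)) (ζ : R) (hζ : ζ ^ n = 1)
    (hprim : ∀ i : ℕ, 0 < i → i < n → IsUnit (1 - ζ ^ i)) :
    Function.Surjective (AlgHom.pi (fun i : Fin n => Polynomial.aeval (R := R) (ζ ^ (i : ℕ)))) ∧
      RingHom.ker (AlgHom.pi (fun i : Fin n => Polynomial.aeval (R := R) (ζ ^ (i : ℕ)))) =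
        Ideal.span {(X ^ n - 1 : R[X])} := by
  classical
  rcases subsingleton_or_nontrivial R with hR | hR
  · refine ⟨fun c => ⟨0, Subsingleton.elim _ _⟩, ?_⟩
    ext P
    simp [Subsingleton.elim P 0]
  have hn0 : n ≠ 0 := by
    rintro rfl
    simp at hn
  set a : Fin n → R := fun i => ζ ^ (i : ℕ) with ha
  have hunit : ∀ i j : ℕ, i < j → j < n → IsUnit (ζ ^ i - ζ ^ j) := by
    intro i j hij hj
    have hζu : IsUnit ζ := IsUnit.of_pow_eq_one hζ (by omega)
    have : ζ ^ i - ζ ^ j = ζ ^ i * (1 - ζ ^ (j - i)) := by
      rw [mul_sub, mul_one, ← pow_add, Nat.add_sub_cancel' hij.le]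
    rw [this]
    exact (hζu.pow i).mul (hprim _ (by omega) (by omega))
  have hunit' : ∀ i j : Fin n, i ≠ j → IsUnit (a i - a j) := by
    intro i j hij
    rcases lt_or_gt_of_ne (Fin.val_ne_of_ne hij) with h | h
    · exact hunit _ _ h j.2
    · have := hunit _ _ h i.2
      rw [← neg_sub]; exact this.neg
  have hcop : ∀ i j : Fin n, i ≠ j → IsCoprime (X - C (a i)) (X - C (a j)) := fun i j hij =>
    Polynomial.isCoprime_X_sub_C_of_isUnit_sub (hunit' i j hij)
  have hmem : ∀ (P : R[X]) (i : Fin n), P ∈ Ideal.span {X - C (a i)} ↔ P.eval (a i) = 0 := by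
    intro P i
    rw [Ideal.mem_span_singleton, Polynomial.dvd_iff_isRoot]; rfl
  have hprod : (∏ i : Fin n, (X - C (a i))) = X ^ n - 1 := by
    have h1 : (X ^ n - 1 : R[X]) ∈ ⨅ i : Fin n, Ideal.span {X - C (a i)} := by
      rw [Ideal.mem_iInf]
      intro i
      rw [hmem]
      simp only [Polynomial.eval_sub, Polynomial.eval_pow, Polynomial.eval_X, Polynomial.eval_one, ha]
      rw [← pow_mul, mul_comm, pow_mul, hζ, one_pow, sub_self]
    rw [Ideal.iInf_span_singleton hcop, Ideal.mem_span_singleton] at h1
    have hm : (∏ i : Fin n, (X - C (a i))).Monic :=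
      Polynomial.monic_prod_of_monic _ _ (fun i _ => Polynomial.monic_X_sub_C _)
    have hd : (∏ i : Fin n, (X - C (a i))).natDegree = n := by
      rw [Polynomial.natDegree_prod_of_monic _ _ (fun i _ => Polynomial.monic_X_sub_C _)]
      simp
    have hm2 : (X ^ n - 1 : R[X]).Monic := by
      simpa using Polynomial.monic_X_pow_sub_C (1 : R) hn0
    symm
    refine Polynomial.eq_of_monic_of_dvd_of_natDegree_le hm hm2 h1 ?_
    rw [hd]
    have := Polynomial.natDegree_X_pow_sub_C (R := R) (n := n) (r := 1)
    simp only [map_one] at this
    rw [this]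
  constructor
  · intro c
    obtain ⟨P, hP⟩ := Ideal.exists_forall_sub_mem_ideal
      (I := fun i : Fin n => Ideal.span {X - C (a i)})
      (fun i j hij => (Ideal.isCoprime_span_singleton_iff _ _).mpr (hcop i j hij))
      (fun i => C (c i))
    refine ⟨P, funext fun i => ?_⟩
    have := (hmem _ i).mp (hP i)
    simp only [Polynomial.eval_sub, Polynomial.eval_C, sub_eq_zero] at this
    simpa [Polynomial.aeval_def, Polynomial.eval₂_eq_eval_map] using this
  · ext P
    rw [RingHom.mem_ker, ← hprod, ← Ideal.iInf_span_singleton hcop, Ideal.mem_iInf]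
    simp only [hmem]
    rw [funext_iff]
    simp [Polynomial.aeval_def, ha]

end Groth.Agent.S13126
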