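import Groth.Statements.S13130
import Mathlib

set_option autoImplicit false
universe u v
open KumFam

namespace Groth.Agent.S13130

/-- Let R be a nontrivial commutative ring and M a commutative group, with group algebra R[M], the
coordinate ring of the diagonalizable group scheme D(M) over Spec R. Then D(M) is integral over Spec
R, i.e. R[M] is an integral R-algebra, if and only if M is a torsion group. (The published statement
is over an arbitrary base scheme; the question is local and this row is the affine form, with R
nontrivial so that the elements of M are R-linearly independent.) -/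
theorem result (R : Type u) [CommRing R] [Nontrivial R]
    (M : Type v) [CommGroup M] :
    Algebra.IsIntegral R (MonoidAlgebra R M) ↔ IsMulTorsion M := by
  constructor
  · intro h g
    by_contra hg
    have hinj : Function.Injective (fun n : ℕ => g ^ n) :=
      injective_pow_iff_not_isOfFinOrder.mpr hg
    obtain ⟨P, hP, hP0⟩ := h.isIntegral (MonoidAlgebra.of R M g)
    rw [Polynomial.eval₂_eq_sum_range] at hP0
    have hterm : ∀ i : ℕ, algebraMap R (MonoidAlgebra R M) (P.coeff i) * (MonoidAlgebra.of R M g) ^ i
        = MonoidAlgebra.single (g ^ i) (P.coeff i) := by
      intro i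
      rw [MonoidAlgebra.of_apply, MonoidAlgebra.single_pow, one_pow, MonoidAlgebra.coe_algebraMap]
      simp [MonoidAlgebra.single_mul_single]
    simp only [hterm] at hP0
    have h2 := congrArg (fun f : MonoidAlgebra R M => f.coeff (g ^ P.natDegree)) hP0
    simp only [MonoidAlgebra.coeff_sum, Finsupp.finset_sum_apply] at h2
    have h3 : ∀ i ∈ Finset.range (P.natDegree + 1),
        (MonoidAlgebra.single (g ^ i) (P.coeff i) : MonoidAlgebra R M).coeff (g ^ P.natDegree)
          = if i = P.natDegree then P.coeff i else 0 := by
      intro i _
      classical
      rw [MonoidAlgebra.coeff_single_apply]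
      by_cases hi : i = P.natDegree
      · simp [hi]
      · rw [if_neg hi, if_neg]
        intro hh
        exact hi (hinj hh)
    rw [Finset.sum_congr rfl h3] at h2
    simp at h2
    exact hP.ne_zero h2
  · intro hM
    refine ⟨fun x => ?_⟩
    induction x using MonoidAlgebra.induction_on with
    | of g =>
      obtain ⟨n, hn, hgn⟩ := (hM g).exists_pow_eq_one
      refine ⟨Polynomial.X ^ n - 1, Polynomial.monic_X_pow_sub_C 1 hn.ne', ?_⟩
      simp only [Polynomial.eval₂_sub, Polynomial.eval₂_pow, Polynomial.eval₂_X, Polynomial.eval₂_one]
      rw [← map_pow, hgn, map_one, sub_self]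
    | add x y hx hy => exact hx.add hy
    | smul r f hf => exact hf.smul r

end Groth.Agent.S13130
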