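import Groth.Statements.S13132
import Mathlib
import Groth.Agent.Lib.helper7.ArtReg

set_option autoImplicit false
universe u v
open CAlg

namespace Groth.Agent.S13132

/-- Let A' be an Artinian local ring, I a proper ideal of A' and S' a flat A'-algebra. An element f' of
S' is a non-zero-divisor exactly when its image in S'/IS' is one; and when f' is a non-zero-divisor,
the quotient S'/(f') is flat over A'. (The published statement is for local Artinian algebras with a
fixed residue field over a ring of Witt vectors and a surjection between two of them; the argument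
uses only that A' is Artinian local and I is a proper ideal, which is the form taken here.) -/
theorem result
    {A' : Type u} [CommRing A'] [IsArtinianRing A'] [IsLocalRing A'] (I : Ideal A') (hI : I ≠ ⊤)
    {S' : Type v} [CommRing S'] [Algebra A' S'] [Module.Flat A' S'] (f' : S') :
    (f' ∈ nonZeroDivisors S' ↔
      Ideal.Quotient.mk (I.map (algebraMap A' S')) f' ∈ nonZeroDivisors (S' ⧸ I.map (algebraMap A' S'))) ∧
    (f' ∈ nonZeroDivisors S' → Module.Flat A' (S' ⧸ Ideal.span {f'})) := by
  classical
  obtain ⟨h1, h2⟩ := Groth.Agent.Lib.helper7.H7_artloc_smulreg A' I hI S' S' f'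
  have hnzd : f' ∈ nonZeroDivisors S' ↔ IsSMulRegular S' f' := by
    rw [mem_nonZeroDivisors_iff_left, isSMulRegular_iff_right_eq_zero_of_smul]
    rfl
  have hJ : (I.map (algebraMap A' S') • (⊤ : Submodule S' S')) = I.map (algebraMap A' S') := by
    rw [smul_eq_mul, Ideal.mul_top]
  have hnzd2 : Ideal.Quotient.mk (I.map (algebraMap A' S')) f' ∈
      nonZeroDivisors (S' ⧸ I.map (algebraMap A' S')) ↔
      IsSMulRegular (S' ⧸ (I.map (algebraMap A' S') • (⊤ : Submodule S' S'))) f' := by
    rw [Groth.Agent.Lib.helper7.H7_quot_smulreg_iff, mem_nonZeroDivisors_iff_left, hJ]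
    constructor
    · intro h x hx
      have := h (Ideal.Quotient.mk _ x) (by
        rw [← map_mul, Ideal.Quotient.eq_zero_iff_mem]; exact hx)
      exact Ideal.Quotient.eq_zero_iff_mem.1 this
    · intro h y hy
      obtain ⟨x, rfl⟩ := Ideal.Quotient.mk_surjective y
      rw [← map_mul, Ideal.Quotient.eq_zero_iff_mem] at hy
      exact Ideal.Quotient.eq_zero_iff_mem.2 (h x hy)
  refine ⟨by rw [hnzd, hnzd2]; exact h1, fun hf => ?_⟩
  have hfl := h2 (hnzd.1 hf)
  open Pointwise in
  have hspan : (f' • (⊤ : Submodule S' S')) = Ideal.span {f'} := by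
    ext x
    rw [Submodule.mem_smul_pointwise_iff_exists, Ideal.mem_span_singleton']
    constructor
    · rintro ⟨y, _, rfl⟩; exact ⟨y, by rw [smul_eq_mul, mul_comm]⟩
    · rintro ⟨y, rfl⟩; exact ⟨y, trivial, by rw [smul_eq_mul, mul_comm]⟩
  let e : QuotSMulTop f' S' ≃ₗ[A'] (S' ⧸ Ideal.span {f'}) :=
    (Submodule.quotEquivOfEq _ _ hspan).restrictScalars A'
  exact Module.Flat.of_linearEquiv e.symm

end Groth.Agent.S13132
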