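import Groth.Statements.S13134
import Mathlib
import Groth.Agent.Lib.helper7.ArtReg

set_option autoImplicit false
universe u v
open CAlg

namespace Groth.Agent.S13134

/-- Let A' be an Artinian local ring, I a proper ideal, A = A'/I and f_1, …, f_m ∈ A[x_1, …, x_n]. Every
flat A'-algebra B' equipped with a surjection π onto A[x]/(f_1, …, f_m) with kernel I·B', compatible
with A' → A, is a quotient of A'[x_1, …, x_n] by the ideal generated by some lifts f'_1, …, f'_m of
the f_i, compatibly with π and with reduction of polynomials modulo I. (The published statement is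
for a surjection of local Artinian algebras with a fixed residue field over a ring of Witt vectors;
only the Artinian local base and the proper ideal are used, which is the form taken here.) -/
theorem result
    {A' : Type u} [CommRing A'] [IsArtinianRing A'] [IsLocalRing A'] (I : Ideal A') (hI : I ≠ ⊤)
    {n m : ℕ} (f : Fin m → MvPolynomial (Fin n) (A' ⧸ I))
    {B' : Type v} [CommRing B'] [Algebra A' B'] [Module.Flat A' B']
    (π : B' →+* MvPolynomial (Fin n) (A' ⧸ I) ⧸ Ideal.span (Set.range f))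
    (hπ : Function.Surjective π) (hker : RingHom.ker π = I.map (algebraMap A' B'))
    (hcomp : π.comp (algebraMap A' B') =
      ((Ideal.Quotient.mk (Ideal.span (Set.range f))).comp MvPolynomial.C).comp (Ideal.Quotient.mk I)) :
    ∃ (f' : Fin m → MvPolynomial (Fin n) A') (ψ : MvPolynomial (Fin n) A' →ₐ[A'] B'),
      (∀ i, MvPolynomial.map (Ideal.Quotient.mk I) (f' i) = f i) ∧
      Function.Surjective ψ ∧ RingHom.ker ψ.toRingHom = Ideal.span (Set.range f') ∧
      ∀ q, π (ψ q) = Ideal.Quotient.mk (Ideal.span (Set.range f)) (MvPolynomial.map (Ideal.Quotient.mk I) q) := by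
  classical
  have hnil : IsNilpotent I := Groth.Agent.Lib.helper7.H7_artloc_ideal_nilp A' I hI
  have hρsurj : Function.Surjective (MvPolynomial.map (σ := Fin n) (Ideal.Quotient.mk I)) :=
    MvPolynomial.map_surjective _ Ideal.Quotient.mk_surjective
  -- membership in I • ⊤ for P
  have hIP : ∀ p : MvPolynomial (Fin n) A', MvPolynomial.map (Ideal.Quotient.mk I) p = 0 ↔
      p ∈ I • (⊤ : Submodule A' (MvPolynomial (Fin n) A')) := by
    intro p
    rw [Ideal.smul_top_eq_map, Submodule.restrictScalars_mem, MvPolynomial.algebraMap_eq,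
      ← RingHom.mem_ker, MvPolynomial.ker_map, Ideal.mk_ker]
  have hIB : ∀ y : B', π y = 0 ↔ y ∈ I • (⊤ : Submodule A' B') := by
    intro y
    rw [Ideal.smul_top_eq_map, Submodule.restrictScalars_mem, ← hker, RingHom.mem_ker]
  choose b hb using fun i : Fin n => hπ (Ideal.Quotient.mk _ (MvPolynomial.X i))
  let ψ : MvPolynomial (Fin n) A' →ₐ[A'] B' := MvPolynomial.aeval b
  have hπψ : ∀ q, π (ψ q) = Ideal.Quotient.mk (Ideal.span (Set.range f))
      (MvPolynomial.map (Ideal.Quotient.mk I) q) := by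
    have : π.comp ψ.toRingHom = (Ideal.Quotient.mk (Ideal.span (Set.range f))).comp
        (MvPolynomial.map (Ideal.Quotient.mk I)) := by
      apply MvPolynomial.ringHom_ext
      · intro a
        have h1 := RingHom.congr_fun hcomp a
        simp only [RingHom.comp_apply] at h1
        simp only [RingHom.comp_apply, AlgHom.toRingHom_eq_coe, RingHom.coe_coe, MvPolynomial.map_C]
        rw [← h1]
        congr 1
        exact MvPolynomial.aeval_C b a
      · intro i
        simp only [RingHom.comp_apply, AlgHom.toRingHom_eq_coe, RingHom.coe_coe, MvPolynomial.map_X]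
        rw [← hb i]
        congr 1
        exact MvPolynomial.aeval_X b i
    intro q
    exact RingHom.congr_fun this q
  have hψsurj : Function.Surjective ψ := by
    have h1 : LinearMap.range ψ.toLinearMap ⊔ I • (⊤ : Submodule A' B') = ⊤ := by
      rw [eq_top_iff]
      intro y _
      obtain ⟨pbar, hp⟩ := Ideal.Quotient.mk_surjective (π y)
      obtain ⟨q, rfl⟩ := hρsurj pbar
      have h2 : π (y - ψ q) = 0 := by rw [map_sub, hπψ, hp, sub_self]
      have h3 : y = ψ q + (y - ψ q) := by ring
      rw [h3]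
      exact Submodule.add_mem_sup ⟨q, rfl⟩ ((hIB _).1 h2)
    have h2 := Groth.Agent.Lib.helper7.H7_nak_nilp I hnil _ h1
    intro y
    have : y ∈ LinearMap.range ψ.toLinearMap := by rw [h2]; trivial
    obtain ⟨q, hq⟩ := this
    exact ⟨q, hq⟩
  -- construct f'
  have hex : ∀ i : Fin m, ∃ p : MvPolynomial (Fin n) A',
      MvPolynomial.map (Ideal.Quotient.mk I) p = f i ∧ ψ p = 0 := by
    intro i
    obtain ⟨g, hg⟩ := hρsurj (f i)
    have h1 : π (ψ g) = 0 := by
      rw [hπψ, hg, Ideal.Quotient.eq_zero_iff_mem]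
      exact Ideal.subset_span ⟨i, rfl⟩
    have h2 : ψ g ∈ I • (⊤ : Submodule A' B') := (hIB _).1 h1
    have h3 : (I • (⊤ : Submodule A' (MvPolynomial (Fin n) A'))).map ψ.toLinearMap =
        I • (⊤ : Submodule A' B') := by
      rw [Submodule.map_smul'', Submodule.map_top, LinearMap.range_eq_top.2 hψsurj]
    rw [← h3] at h2
    obtain ⟨c, hc, hcg⟩ := h2
    refine ⟨g - c, ?_, ?_⟩
    · rw [map_sub, hg, (hIP c).2 hc, sub_zero]
    · rw [map_sub]
      have : ψ c = ψ g := hcg
      rw [this, sub_self]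
  choose f' hf'1 hf'2 using hex
  refine ⟨f', ψ, hf'1, hψsurj, ?_, hπψ⟩
  have hle : Ideal.span (Set.range f') ≤ RingHom.ker ψ.toRingHom := by
    rw [Ideal.span_le]
    rintro _ ⟨i, rfl⟩
    exact hf'2 i
  refine le_antisymm ?_ hle
  -- the hard inclusion
  set Kl : Submodule A' (MvPolynomial (Fin n) A') := LinearMap.ker ψ.toLinearMap with hKl
  have hinj : Function.Injective (Kl.subtype.lTensor (A' ⧸ I)) :=
    LinearMap.lTensor_injective_of_exact_of_flat ψ.toLinearMap hψsurj Kl.subtype
      Kl.injective_subtype (LinearMap.exact_subtype_ker_map ψ.toLinearMap) (A' ⧸ I)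
  have hKI : ∀ x : Kl, (x : MvPolynomial (Fin n) A') ∈
      I • (⊤ : Submodule A' (MvPolynomial (Fin n) A')) → x ∈ I • (⊤ : Submodule A' Kl) := by
    intro x hx
    rw [Groth.Agent.Lib.helper7.H7_mem_smul_top_iff] at hx ⊢
    apply hinj
    rw [LinearMap.lTensor_tmul, map_zero]
    exact hx
  have hdecomp : ∀ p : MvPolynomial (Fin n) A', ψ p = 0 →
      ∃ y ∈ Ideal.span (Set.range f'), p - y ∈ I • (⊤ : Submodule A' (MvPolynomial (Fin n) A')) := by
    intro p hp
    have h1 : MvPolynomial.map (Ideal.Quotient.mk I) p ∈ Ideal.span (Set.range f) := by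
      rw [← Ideal.Quotient.eq_zero_iff_mem, ← hπψ, hp, map_zero]
    obtain ⟨cbar, hc⟩ := (Ideal.mem_span_range_iff_exists_fun).1 h1
    choose c hcc using fun i => hρsurj (cbar i)
    refine ⟨∑ i, c i * f' i, ?_, ?_⟩
    · exact Ideal.sum_mem _ (fun i _ => Ideal.mul_mem_left _ _ (Ideal.subset_span ⟨i, rfl⟩))
    · rw [← hIP, map_sub, map_sum, ← hc, sub_eq_zero]
      refine Finset.sum_congr rfl (fun i _ => ?_)
      rw [map_mul, hcc, hf'1]
  let N : Submodule A' Kl := Submodule.comap Kl.subtype ((Ideal.span (Set.range f')).restrictScalars A')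
  have hN : N ⊔ I • (⊤ : Submodule A' Kl) = ⊤ := by
    rw [eq_top_iff]
    rintro ⟨x, hx⟩ _
    have hx0 : ψ x = 0 := hx
    obtain ⟨y, hy, hz⟩ := hdecomp x hx0
    have hyK : y ∈ Kl := hle hy
    have hzK : x - y ∈ Kl := Kl.sub_mem hx hyK
    have e : (⟨x, hx⟩ : Kl) = ⟨y, hyK⟩ + ⟨x - y, hzK⟩ := by
      apply Subtype.ext
      simp
    rw [e]
    exact Submodule.add_mem_sup (show (⟨y, hyK⟩ : Kl) ∈ N from hy) (hKI ⟨x - y, hzK⟩ hz)
  have hNtop := Groth.Agent.Lib.helper7.H7_nak_nilp I hnil N hN
  intro x hx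
  have hxK : x ∈ Kl := hx
  have : (⟨x, hxK⟩ : Kl) ∈ N := by rw [hNtop]; trivial
  exact this

end Groth.Agent.S13134
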