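import Groth.Statements.S13135
import Mathlib
import Groth.Agent.Lib.helper7.ArtReg

set_option autoImplicit false
universe u
open CAlg

namespace Groth.Agent.S13135

/-- Let A' be an Artinian local ring, I a proper ideal, A = A'/I and f_1, …, f_m a regular sequence in
A[x_1, …, x_n]. For every choice of lifts f'_1, …, f'_m in A'[x_1, …, x_n] the quotient A'[x]/(f'_1,
…, f'_m) is flat over A' (so it is a flat lifting of A[x]/(f_1, …, f_m)). (The published statement
is for a surjection of local Artinian algebras with a fixed residue field over a ring of Witt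
vectors; only the Artinian local base and the proper ideal are used, which is the form taken here.) -/
theorem result
    {A' : Type u} [CommRing A'] [IsArtinianRing A'] [IsLocalRing A'] (I : Ideal A') (hI : I ≠ ⊤)
    {n m : ℕ} (f : Fin m → MvPolynomial (Fin n) (A' ⧸ I))
    (hreg : RingTheory.Sequence.IsRegular (MvPolynomial (Fin n) (A' ⧸ I)) (List.ofFn f))
    (f' : Fin m → MvPolynomial (Fin n) A') (hf' : ∀ i, MvPolynomial.map (Ideal.Quotient.mk I) (f' i) = f i) :
    Module.Flat A' (MvPolynomial (Fin n) A' ⧸ Ideal.span (Set.range f')) := by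
  classical
  obtain ⟨h1, h2⟩ := Groth.Agent.Lib.helper7.H7_artloc_regseq A' I hI (MvPolynomial (Fin n) A')
    (List.ofFn f') (MvPolynomial (Fin n) A')
  have hsurj : Function.Surjective (MvPolynomial.map (σ := Fin n) (Ideal.Quotient.mk I)) :=
    MvPolynomial.map_surjective _ Ideal.Quotient.mk_surjective
  have hJ : (I.map (algebraMap A' (MvPolynomial (Fin n) A')) •
      (⊤ : Submodule (MvPolynomial (Fin n) A') (MvPolynomial (Fin n) A'))) =
      RingHom.ker (MvPolynomial.map (σ := Fin n) (Ideal.Quotient.mk I)) := by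
    rw [smul_eq_mul, Ideal.mul_top, MvPolynomial.algebraMap_eq, MvPolynomial.ker_map,
      Ideal.mk_ker]
  let φ := RingHom.quotientKerEquivOfSurjective hsurj
  have hφ : ∀ p : MvPolynomial (Fin n) A', φ (Ideal.Quotient.mk _ p) =
      MvPolynomial.map (Ideal.Quotient.mk I) p :=
    fun p => RingHom.quotientKerEquivOfSurjective_apply_mk hsurj p
  let e : (MvPolynomial (Fin n) A' ⧸ (I.map (algebraMap A' (MvPolynomial (Fin n) A')) •
      (⊤ : Submodule (MvPolynomial (Fin n) A') (MvPolynomial (Fin n) A')))) ≃+
      MvPolynomial (Fin n) (A' ⧸ I) :=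
    (Submodule.quotEquivOfEq _ _ hJ).toAddEquiv.trans φ.toAddEquiv
  have hw : RingTheory.Sequence.IsWeaklyRegular (MvPolynomial (Fin n) A' ⧸
      (I.map (algebraMap A' (MvPolynomial (Fin n) A')) •
      (⊤ : Submodule (MvPolynomial (Fin n) A') (MvPolynomial (Fin n) A')))) (List.ofFn f') := by
    refine (e.isWeaklyRegular_congr (bs := List.ofFn f) ?_).2 hreg.toIsWeaklyRegular
    have hl : List.ofFn f = (List.ofFn f').map (MvPolynomial.map (Ideal.Quotient.mk I)) := by
      rw [List.map_ofFn]
      congr 1
      funext i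
      exact (hf' i).symm
    rw [hl, List.forall₂_map_right_iff, List.forall₂_same]
    intro r _ x
    obtain ⟨y, rfl⟩ := Submodule.Quotient.mk_surjective _ x
    rw [← Submodule.Quotient.mk_smul]
    show φ (Ideal.Quotient.mk _ (r • y)) = _ • φ (Ideal.Quotient.mk _ y)
    rw [hφ, hφ, smul_eq_mul, map_mul, smul_eq_mul]
  have hfl := h2 (h1.2 hw)
  have hspan : (Ideal.ofList (List.ofFn f') •
      (⊤ : Submodule (MvPolynomial (Fin n) A') (MvPolynomial (Fin n) A'))) =
      Ideal.span (Set.range f') := by
    rw [smul_eq_mul, Ideal.mul_top]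
    have hset : {r | r ∈ List.ofFn f'} = Set.range f' := by
      ext x
      exact List.mem_ofFn' f' x
    show Ideal.span {r | r ∈ List.ofFn f'} = Ideal.span (Set.range f')
    rw [hset]
  let e2 : (MvPolynomial (Fin n) A' ⧸ (Ideal.ofList (List.ofFn f') •
      (⊤ : Submodule (MvPolynomial (Fin n) A') (MvPolynomial (Fin n) A')))) ≃ₗ[A']
      (MvPolynomial (Fin n) A' ⧸ Ideal.span (Set.range f')) :=
    (Submodule.quotEquivOfEq _ _ hspan).restrictScalars A'
  exact Module.Flat.of_linearEquiv e2.symm

end Groth.Agent.S13135
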