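import Groth.Statements.S13141
import Mathlib
import Groth.Agent.Lib.helper6.Reynolds

set_option autoImplicit false
universe u v w w'
open scoped TensorProduct
open GrpAlg Groth.Agent.Lib.helper6
set_option linter.style.haveILetI false

namespace Groth.Agent.S13141

/-- Let G be a finite group, R a commutative ring with |G| invertible in R, M a projective R-module with
an R-linear G-action and S an R-algebra. The natural map M^G ⊗_R S → M ⊗_R S is injective and its
image is the submodule of G-invariants of M ⊗_R S (G acting on the first factor); that is, M^G ⊗_R S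
→ (M ⊗_R S)^G is bijective. -/
theorem result
    (R : Type u) [CommRing R] (G : Type v) [Group G] [Finite G] (hG : IsUnit ((Nat.card G : ℕ) : R))
    (M : Type w) [AddCommGroup M] [Module R M] [Module.Projective R M] (ρ : Representation R G M)
    (S : Type w') [CommRing S] [Algebra R S] :
    Function.Injective (TensorProduct.map ρ.invariants.subtype (LinearMap.id : S →ₗ[R] S)) ∧
    LinearMap.range (TensorProduct.map ρ.invariants.subtype (LinearMap.id : S →ₗ[R] S)) =
      ⨅ g : G, LinearMap.eqLocus (LinearMap.rTensor S (ρ g)) LinearMap.id := by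
  classical
  haveI : Fintype G := Fintype.ofFinite G
  obtain ⟨u, hu⟩ := hG.exists_left_inv
  rw [Nat.card_eq_fintype_card] at hu
  have hmul : ∀ g h : G, (fun g : G => ρ g) (g * h) =
      ((fun g : G => ρ g) g).comp ((fun g : G => ρ g) h) := by
    intro g h
    show ρ (g * h) = _
    rw [map_mul]
    rfl
  obtain ⟨e, he⟩ : ∃ e : M →ₗ[R] M, e = H6_reynolds (fun g : G => ρ g) u := ⟨_, rfl⟩
  have hmem : ∀ m, e m ∈ ρ.invariants := by
    intro m g
    rw [he]
    exact H6_reynolds_fixed (fun g : G => ρ g) hmul u g m
  obtain ⟨r, hr⟩ : ∃ r : M →ₗ[R] ρ.invariants, ∀ m, (r m : M) = e m :=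
    ⟨e.codRestrict _ hmem, fun m => rfl⟩
  have hr1 : r.comp ρ.invariants.subtype = LinearMap.id := by
    ext ⟨m, hm⟩
    simp only [LinearMap.comp_apply, Submodule.subtype_apply, LinearMap.id_apply]
    rw [hr, he]
    exact H6_reynolds_of_fixed (fun g : G => ρ g) u hu m hm
  have hr2 : ρ.invariants.subtype.comp r = e := by
    ext m
    simp only [LinearMap.comp_apply, Submodule.subtype_apply]
    exact hr m
  have hcomp : (TensorProduct.map r (LinearMap.id : S →ₗ[R] S)).comp
      (TensorProduct.map ρ.invariants.subtype (LinearMap.id : S →ₗ[R] S)) = LinearMap.id := by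
    rw [← TensorProduct.map_comp, hr1, LinearMap.id_comp, TensorProduct.map_id]
  refine ⟨?_, ?_⟩
  · intro x y hxy
    have := congrArg (TensorProduct.map r (LinearMap.id : S →ₗ[R] S)) hxy
    rwa [← LinearMap.comp_apply, ← LinearMap.comp_apply, hcomp] at this
  · apply le_antisymm
    · rintro _ ⟨x, rfl⟩
      rw [Submodule.mem_iInf]
      intro g
      rw [LinearMap.mem_eqLocus, LinearMap.id_apply, LinearMap.rTensor, ← LinearMap.comp_apply,
        ← TensorProduct.map_comp, LinearMap.id_comp]
      congr 2
      ext ⟨m, hm⟩
      exact hm g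
    · intro y hy
      rw [Submodule.mem_iInf] at hy
      have hy' : ∀ g : G, LinearMap.rTensor S (ρ g) y = y := fun g => LinearMap.mem_eqLocus.1 (hy g)
      have h1 : LinearMap.rTensor S e y = y := by
        have : LinearMap.rTensor S e = u • ∑ g : G, LinearMap.rTensor S (ρ g) := by
          rw [he, H6_reynolds]
          have h0 : ∀ f : M →ₗ[R] M, LinearMap.rTensor S f = LinearMap.rTensorHom S f := fun f => rfl
          rw [h0, map_smul, map_sum]
          rfl
        rw [this, LinearMap.smul_apply, LinearMap.sum_apply]
        simp only [hy']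
        rw [Finset.sum_const, Finset.card_univ, ← Nat.cast_smul_eq_nsmul R, smul_smul, hu, one_smul]
      refine ⟨TensorProduct.map r (LinearMap.id : S →ₗ[R] S) y, ?_⟩
      rw [← LinearMap.comp_apply, ← TensorProduct.map_comp, hr2, LinearMap.id_comp]
      exact h1

end Groth.Agent.S13141
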