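import Groth.Statements.S13142
import Mathlib
import Groth.Agent.Lib.helper6.Reynolds

set_option autoImplicit false
universe u v
open GrpAlg Groth.Agent.Lib.helper6
set_option linter.style.haveILetI false

namespace Groth.Agent.S13142

/-- Let G be a finite group and R a commutative ring with |G| invertible in R, acting on R[x_1, …, x_n]
by R-algebra automorphisms. The invariant subring R[x_1, …, x_n]^G is a flat R-module (so the
quotient of affine n-space over R by G is flat over R). -/
theorem result
    (R : Type u) [CommRing R] (G : Type v) [Group G] [Finite G] (hG : IsUnit ((Nat.card G : ℕ) : R))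
    (n : ℕ) (ρ : G →* (MvPolynomial (Fin n) R ≃ₐ[R] MvPolynomial (Fin n) R)) :
    Module.Flat R ↥(⨅ g : G, LinearMap.eqLocus (ρ g).toLinearMap (LinearMap.id : MvPolynomial (Fin n) R →ₗ[R] MvPolynomial (Fin n) R)) := by
  classical
  haveI : Fintype G := Fintype.ofFinite G
  obtain ⟨u, hu⟩ := hG.exists_left_inv
  rw [Nat.card_eq_fintype_card] at hu
  have hmul : ∀ g h : G, (fun g : G => (ρ g).toLinearMap) (g * h) =
      ((fun g : G => (ρ g).toLinearMap) g).comp ((fun g : G => (ρ g).toLinearMap) h) := by
    intro g h
    show (ρ (g * h)).toLinearMap = _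
    rw [map_mul]
    rfl
  obtain ⟨r, hr, _⟩ := H6_invariants_retract (fun g : G => (ρ g).toLinearMap) hmul u hu
  exact Module.Flat.of_retract _ r hr

end Groth.Agent.S13142
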