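import Groth.Statements.S13149
import Mathlib

set_option autoImplicit false
universe u
open CAlg

namespace Groth.Agent.S13149

open Matrix

section gen
variable {R : Type u} [CommRing R]

def cr (a b : Fin 3 → R) : Fin 3 → R :=
  ![a 1 * b 2 - a 2 * b 1, a 2 * b 0 - a 0 * b 2, a 0 * b 1 - a 1 * b 0]

def dt (a b : Fin 3 → R) : R := a 0 * b 0 + a 1 * b 1 + a 2 * b 2

def D3 (a b c : Fin 3 → R) : R :=
  a 0 * b 1 * c 2 - a 0 * b 2 * c 1 - a 1 * b 0 * c 2 + a 1 * b 2 * c 0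
    + a 2 * b 0 * c 1 - a 2 * b 1 * c 0

theorem crv (a b c d e f : R) :
    cr ![a, b, c] ![d, e, f] = ![b * f - c * e, c * d - a * f, a * e - b * d] := rfl

theorem cr0 (a b : Fin 3 → R) : cr a b 0 = a 1 * b 2 - a 2 * b 1 := rfl
theorem cr1 (a b : Fin 3 → R) : cr a b 1 = a 2 * b 0 - a 0 * b 2 := rfl
theorem cr2 (a b : Fin 3 → R) : cr a b 2 = a 0 * b 1 - a 1 * b 0 := rfl

theorem dot3 (a b : Fin 3 → R) : dotProduct a b = dt a b := by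
  simp [dotProduct, dt, Fin.sum_univ_three]

theorem det_of3 (a b c : Fin 3 → R) : Matrix.det (Matrix.of ![a, b, c]) = D3 a b c := by
  rw [Matrix.det_fin_three]
  rfl

theorem det_lit (a b c d e f g h i : R) :
    Matrix.det (Matrix.of ![![a, b, c], ![d, e, f], ![g, h, i]]) =
      a * e * i - a * f * h - b * d * i + b * f * g + c * d * h - c * e * g := by
  rw [Matrix.det_fin_three]
  rfl

theorem vec3_ext {a b c a' b' c' : R} (h1 : a = a') (h2 : b = b') (h3 : c = c') :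
    ![a, b, c] = ![a', b', c'] := by
  subst h1 h2 h3
  rfl

theorem cr_prop (a b n : Fin 3 → R) (ha : dt a n = 0) (hb : dt b n = 0) :
    ∀ i j, n i * cr a b j = n j * cr a b i := by
  unfold dt at ha hb
  have h01 : n 0 * cr a b 1 = n 1 * cr a b 0 := by
    rw [cr0, cr1]; linear_combination (a 2) * hb - (b 2) * ha
  have h02 : n 0 * cr a b 2 = n 2 * cr a b 0 := by
    rw [cr0, cr2]; linear_combination (b 1) * ha - (a 1) * hb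
  have h12 : n 1 * cr a b 2 = n 2 * cr a b 1 := by
    rw [cr1, cr2]; linear_combination (a 0) * hb - (b 0) * ha
  intro i j
  fin_cases i <;> fin_cases j
  · exact rfl
  · exact h01
  · exact h02
  · exact h01.symm
  · exact rfl
  · exact h12
  · exact h02.symm
  · exact h12.symm
  · exact rfl

theorem lemJ (n X : Fin 3 → R) (h : ∀ i j, n i * X j = n j * X i)
    (hn : ∃ i, IsUnit (n i)) (hX : ∃ j, IsUnit (X j)) :
    ∃ l : R, IsUnit l ∧ n = l • X := by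
  obtain ⟨i0, hi0⟩ := hn
  obtain ⟨j0, hj0⟩ := hX
  obtain ⟨c, hc⟩ := hj0.exists_left_inv
  have key : ∀ i, n i = (n j0 * c) * X i := by
    intro i
    have := h i j0
    linear_combination (-(n i)) * hc + c * this
  refine ⟨n j0 * c, ?_, ?_⟩
  · have h1 : IsUnit (n j0 * c * X i0) := by rw [← key i0]; exact hi0
    exact isUnit_of_mul_isUnit_left h1
  · funext i
    rw [Pi.smul_apply, smul_eq_mul]
    exact key i

theorem mulVec3 (M : Matrix (Fin 3) (Fin 3) R) (v : Fin 3 → R) (i : Fin 3) :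
    (M *ᵥ v) i = M i 0 * v 0 + M i 1 * v 1 + M i 2 * v 2 := by
  simp [Matrix.mulVec, dotProduct, Fin.sum_univ_three]

def TT (l0 l1 l2 : R) (P0 P1 P2 : Fin 3 → R) : Matrix (Fin 3) (Fin 3) R :=
  Matrix.of ![![l0 * P0 0, l1 * P1 0, l2 * P2 0], ![l0 * P0 1, l1 * P1 1, l2 * P2 1],
    ![l0 * P0 2, l1 * P1 2, l2 * P2 2]]

theorem detTT (l0 l1 l2 : R) (P0 P1 P2 : Fin 3 → R) :
    (TT l0 l1 l2 P0 P1 P2).det = l0 * l1 * l2 * D3 P0 P1 P2 := by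
  unfold TT
  rw [det_lit]
  unfold D3
  ring

theorem TT_mulVec (l0 l1 l2 : R) (P0 P1 P2 : Fin 3 → R) (x y z : R) :
    TT l0 l1 l2 P0 P1 P2 *ᵥ ![x, y, z] = (x * l0) • P0 + (y * l1) • P1 + (z * l2) • P2 := by
  funext i
  rw [mulVec3]
  fin_cases i
  · show l0 * P0 0 * x + l1 * P1 0 * y + l2 * P2 0 * z
      = (x * l0) * P0 0 + (y * l1) * P1 0 + (z * l2) * P2 0
    ring
  · show l0 * P0 1 * x + l1 * P1 1 * y + l2 * P2 1 * z
      = (x * l0) * P0 1 + (y * l1) * P1 1 + (z * l2) * P2 1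
    ring
  · show l0 * P0 2 * x + l1 * P1 2 * y + l2 * P2 2 * z
      = (x * l0) * P0 2 + (y * l1) * P1 2 + (z * l2) * P2 2
    ring

theorem cramer (P0 P1 P2 U : Fin 3 → R) :
    (D3 P1 P2 U) • P0 + (-D3 P0 P2 U) • P1 + (D3 P0 P1 U) • P2 = (D3 P0 P1 P2) • U := by
  funext i
  fin_cases i
  · show D3 P1 P2 U * P0 0 + (-D3 P0 P2 U) * P1 0 + D3 P0 P1 U * P2 0 = D3 P0 P1 P2 * U 0
    unfold D3; ring
  · show D3 P1 P2 U * P0 1 + (-D3 P0 P2 U) * P1 1 + D3 P0 P1 U * P2 1 = D3 P0 P1 P2 * U 1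
    unfold D3; ring
  · show D3 P1 P2 U * P0 2 + (-D3 P0 P2 U) * P1 2 + D3 P0 P1 U * P2 2 = D3 P0 P1 P2 * U 2
    unfold D3; ring

theorem inv_smul_of (T : Matrix (Fin 3) (Fin 3) R) (hT : IsUnit T.det) (l : R) (hl : IsUnit l)
    (P w : Fin 3 → R) (h : T *ᵥ w = l • P) : ∃ a : R, IsUnit a ∧ T⁻¹ *ᵥ P = a • w := by
  obtain ⟨a, ha⟩ := hl.exists_left_inv
  refine ⟨a, IsUnit.of_mul_eq_one l ha, ?_⟩
  have h1 : T⁻¹ *ᵥ (T *ᵥ w) = w := by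
    rw [Matrix.mulVec_mulVec, Matrix.nonsing_inv_mul T hT, Matrix.one_mulVec]
  rw [h, Matrix.mulVec_smul] at h1
  rw [← h1, smul_smul, ha, one_smul]

theorem dot_inv (T : Matrix (Fin 3) (Fin 3) R) (hT : IsUnit T.det) (x n : Fin 3 → R) :
    dotProduct (T⁻¹ *ᵥ x) (T.transpose *ᵥ n) = dotProduct x n := by
  rw [Matrix.dotProduct_mulVec, Matrix.vecMul_transpose, Matrix.mulVec_mulVec,
    Matrix.mul_nonsing_inv T hT, Matrix.one_mulVec]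

theorem normalize (P0 P1 P2 U : Fin 3 → R)
    (g0 : IsUnit (D3 P0 P1 P2)) (g1 : IsUnit (D3 P0 P1 U)) (g2 : IsUnit (D3 P0 P2 U))
    (g3 : IsUnit (D3 P1 P2 U)) :
    ∃ T : Matrix (Fin 3) (Fin 3) R, IsUnit T.det ∧ ∃ a0 a1 a2 a3 : R,
      IsUnit a0 ∧ IsUnit a1 ∧ IsUnit a2 ∧ IsUnit a3 ∧
      T⁻¹ *ᵥ P0 = a0 • ![1, 0, 0] ∧ T⁻¹ *ᵥ P1 = a1 • ![0, 1, 0] ∧
      T⁻¹ *ᵥ P2 = a2 • ![0, 0, 1] ∧ T⁻¹ *ᵥ U = a3 • ![1, 1, 1] := by
  have g2' : IsUnit (-D3 P0 P2 U) := g2.neg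
  have hT : IsUnit (TT (D3 P1 P2 U) (-D3 P0 P2 U) (D3 P0 P1 U) P0 P1 P2).det := by
    rw [detTT]
    exact ((g3.mul g2').mul g1).mul g0
  obtain ⟨a0, h0, f0⟩ := inv_smul_of _ hT (D3 P1 P2 U) g3 P0 ![1, 0, 0]
    (by rw [TT_mulVec]; simp)
  obtain ⟨a1, h1, f1⟩ := inv_smul_of _ hT (-D3 P0 P2 U) g2' P1 ![0, 1, 0]
    (by rw [TT_mulVec]; simp)
  obtain ⟨a2, h2, f2⟩ := inv_smul_of _ hT (D3 P0 P1 U) g1 P2 ![0, 0, 1]
    (by rw [TT_mulVec]; simp)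
  obtain ⟨a3, h3, f3⟩ := inv_smul_of _ hT (D3 P0 P1 P2) g0 U ![1, 1, 1]
    (by rw [TT_mulVec, one_mul, one_mul, one_mul]; exact cramer P0 P1 P2 U)
  exact ⟨_, hT, a0, a1, a2, a3, h0, h1, h2, h3, f0, f1, f2, f3⟩

end gen

theorem unit_coord_mulVec {A : Type u} [CommRing A] [IsLocalRing A]
    (M : Matrix (Fin 3) (Fin 3) A) (hM : IsUnit M.det) (v : Fin 3 → A)
    (hv : ∃ i, IsUnit (v i)) : ∃ i, IsUnit ((M *ᵥ v) i) := by
  by_contra hcon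
  push Not at hcon
  obtain ⟨i, hi⟩ := hv
  have h1 : M⁻¹ *ᵥ (M *ᵥ v) = v := by
    rw [Matrix.mulVec_mulVec, Matrix.nonsing_inv_mul M hM, Matrix.one_mulVec]
  have h2 : (M⁻¹ *ᵥ (M *ᵥ v)) i ∈ IsLocalRing.maximalIdeal A := by
    show (∑ j, M⁻¹ i j * (M *ᵥ v) j) ∈ _
    apply Ideal.sum_mem
    intro j _
    apply Ideal.mul_mem_left
    rw [IsLocalRing.mem_maximalIdeal, mem_nonunits_iff]
    exact hcon j
  rw [h1, IsLocalRing.mem_maximalIdeal, mem_nonunits_iff] at h2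
  exact h2 hi

theorem ne0 {p : ℕ} (v : Fin 3 → ZMod p) (i : Fin 3) (h : v i ≠ 0) : v ≠ 0 :=
  fun h0 => h (by rw [h0]; rfl)

theorem step (p : ℕ) [Fact p.Prime] {A : Type u} [CommRing A]
    (σ : (Fin 3 → ZMod p) → (Fin 3 → A))
    (hpt : ∀ v : Fin 3 → ZMod p, v ≠ 0 → ∃ i, IsUnit (σ v i))
    (hcol : ∀ u v w : Fin 3 → ZMod p, u ≠ 0 → v ≠ 0 → w ≠ 0 →
      Matrix.det (Matrix.of ![u, v, w]) = 0 →
      ∃ n : Fin 3 → A, (∃ i, IsUnit (n i)) ∧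
        dt (σ u) n = 0 ∧ dt (σ v) n = 0 ∧ dt (σ w) n = 0)
    (x1 x2 y1 y2 z : Fin 3 → ZMod p) (X1 X2 Y1 Y2 W : Fin 3 → A) (m1 m2 m3 m4 : A)
    (hx1 : x1 ≠ 0) (hx2 : x2 ≠ 0) (hy1 : y1 ≠ 0) (hy2 : y2 ≠ 0) (hz : z ≠ 0)
    (hm1 : IsUnit m1) (hm2 : IsUnit m2) (hm3 : IsUnit m3) (hm4 : IsUnit m4)
    (e1 : σ x1 = m1 • X1) (e2 : σ x2 = m2 • X2) (e3 : σ y1 = m3 • Y1) (e4 : σ y2 = m4 • Y2)
    (d1 : Matrix.det (Matrix.of ![x1, x2, z]) = 0)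
    (d2 : Matrix.det (Matrix.of ![y1, y2, z]) = 0)
    (hW : cr (cr X1 X2) (cr Y1 Y2) = W) (hWu : ∃ j, IsUnit (W j)) :
    ∃ ν : A, IsUnit ν ∧ σ z = ν • W := by
  have smul_dt : ∀ (m : A) (X n : Fin 3 → A), dt (m • X) n = m * dt X n := by
    intro m X n
    show m * X 0 * n 0 + m * X 1 * n 1 + m * X 2 * n 2
      = m * (X 0 * n 0 + X 1 * n 1 + X 2 * n 2)
    ring
  have perp : ∀ (a b : Fin 3 → ZMod p) (Xa Xb : Fin 3 → A) (ma mb : A), a ≠ 0 → b ≠ 0 →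
      IsUnit ma → IsUnit mb → σ a = ma • Xa → σ b = mb • Xb →
      Matrix.det (Matrix.of ![a, b, z]) = 0 → dt (σ z) (cr Xa Xb) = 0 := by
    intro a b Xa Xb ma mb ha hb hma hmb ea eb hd
    obtain ⟨n, ⟨i, hi⟩, h1, h2, h3⟩ := hcol a b z ha hb hz hd
    rw [ea, smul_dt] at h1
    rw [eb, smul_dt] at h2
    have h1' : dt Xa n = 0 := (hma.mul_right_eq_zero).mp h1
    have h2' : dt Xb n = 0 := (hmb.mul_right_eq_zero).mp h2
    have hc := cr_prop Xa Xb n h1' h2'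
    have key : n i * dt (σ z) (cr Xa Xb) = cr Xa Xb i * dt (σ z) n := by
      unfold dt
      linear_combination (σ z 0) * hc i 0 + (σ z 1) * hc i 1 + (σ z 2) * hc i 2
    rw [h3, mul_zero] at key
    exact (hi.mul_right_eq_zero).mp key
  have p1 := perp x1 x2 X1 X2 m1 m2 hx1 hx2 hm1 hm2 e1 e2 d1
  have p2 := perp y1 y2 Y1 Y2 m3 m4 hy1 hy2 hm3 hm4 e3 e4 d2
  have p1' : dt (cr X1 X2) (σ z) = 0 := by
    rw [← p1]; unfold dt; ring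
  have p2' : dt (cr Y1 Y2) (σ z) = 0 := by
    rw [← p2]; unfold dt; ring
  have hc := cr_prop (cr X1 X2) (cr Y1 Y2) (σ z) p1' p2'
  rw [hW] at hc
  exact lemJ (σ z) W hc (hpt z hz) hWu

theorem core (p : ℕ) [Fact p.Prime] {A : Type u} [CommRing A]
    (σ : (Fin 3 → ZMod p) → (Fin 3 → A))
    (hpt : ∀ v : Fin 3 → ZMod p, v ≠ 0 → ∃ i, IsUnit (σ v i))
    (hcol : ∀ u v w : Fin 3 → ZMod p, u ≠ 0 → v ≠ 0 → w ≠ 0 →
      Matrix.det (Matrix.of ![u, v, w]) = 0 →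
      ∃ n : Fin 3 → A, (∃ i, IsUnit (n i)) ∧
        dt (σ u) n = 0 ∧ dt (σ v) n = 0 ∧ dt (σ w) n = 0)
    (a0 a1 a2 a3 : A) (h0 : IsUnit a0) (h1 : IsUnit a1) (h2 : IsUnit a2) (h3 : IsUnit a3)
    (f0 : σ ![1, 0, 0] = a0 • ![1, 0, 0]) (f1 : σ ![0, 1, 0] = a1 • ![0, 1, 0])
    (f2 : σ ![0, 0, 1] = a2 • ![0, 0, 1]) (f3 : σ ![1, 1, 1] = a3 • ![1, 1, 1]) :
    (p : A) = 0 := by
  have one_ne : (1 : ZMod p) ≠ 0 := one_ne_zero
  have nE0 : (![1, 0, 0] : Fin 3 → ZMod p) ≠ 0 := ne0 _ 0 one_ne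
  have nE1 : (![0, 1, 0] : Fin 3 → ZMod p) ≠ 0 := ne0 _ 1 one_ne
  have nE2 : (![0, 0, 1] : Fin 3 → ZMod p) ≠ 0 := ne0 _ 2 one_ne
  have nU : (![1, 1, 1] : Fin 3 → ZMod p) ≠ 0 := ne0 _ 0 one_ne
  have stepQ : ∀ (t : ZMod p) (s μ : A), IsUnit μ → σ ![1, t, 0] = μ • ![1, s, 0] →
      ∃ ν : A, IsUnit ν ∧ σ ![1, t, 1] = ν • ![1, s, 1] := by
    intro t s μ hμ e
    refine step p σ hpt hcol ![1, t, 0] ![0, 0, 1] ![0, 1, 0] ![1, 1, 1] ![1, t, 1]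
      ![1, s, 0] ![0, 0, 1] ![0, 1, 0] ![1, 1, 1] ![1, s, 1] μ a2 a1 a3
      (ne0 _ 0 one_ne) nE2 nE1 nU (ne0 _ 0 one_ne) hμ h2 h1 h3 e f2 f1 f3 ?_ ?_ ?_
      ⟨0, isUnit_one⟩
    · rw [det_lit]; ring
    · rw [det_lit]; ring
    · simp only [crv]; exact vec3_ext (by ring) (by ring) (by ring)
  have stepP : ∀ (t : ZMod p) (s ν δ : A), IsUnit ν → IsUnit δ →
      σ ![1, t, 1] = ν • ![1, s, 1] → σ ![0, 1, -1] = δ • ![0, 1, -1] →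
      ∃ μ : A, IsUnit μ ∧ σ ![1, t + 1, 0] = μ • ![1, s + 1, 0] := by
    intro t s ν δ hν hδ e eD
    refine step p σ hpt hcol ![1, t, 1] ![0, 1, -1] ![1, 0, 0] ![0, 1, 0] ![1, t + 1, 0]
      ![1, s, 1] ![0, 1, -1] ![1, 0, 0] ![0, 1, 0] ![1, s + 1, 0] ν δ a0 a1
      (ne0 _ 0 one_ne) (ne0 _ 1 one_ne) nE0 nE1 (ne0 _ 0 one_ne) hν hδ h0 h1 e eD f0 f1
      ?_ ?_ ?_ ⟨0, isUnit_one⟩
    · rw [det_lit]; ring
    · rw [det_lit]; ring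
    · simp only [crv]; exact vec3_ext (by ring) (by ring) (by ring)
  obtain ⟨ν0, hν0, eQ0⟩ := stepQ 0 0 a0 h0 f0
  obtain ⟨γ, hγ, eC⟩ : ∃ γ : A, IsUnit γ ∧ σ ![1, 1, 0] = γ • ![1, 1, 0] := by
    refine step p σ hpt hcol ![0, 0, 1] ![1, 1, 1] ![1, 0, 0] ![0, 1, 0] ![1, 1, 0]
      ![0, 0, 1] ![1, 1, 1] ![1, 0, 0] ![0, 1, 0] ![1, 1, 0] a2 a3 a0 a1
      nE2 nU nE0 nE1 (ne0 _ 0 one_ne) h2 h3 h0 h1 f2 f3 f0 f1 ?_ ?_ ?_ ⟨0, isUnit_one⟩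
    · rw [det_lit]; ring
    · rw [det_lit]; ring
    · simp only [crv]; exact vec3_ext (by ring) (by ring) (by ring)
  obtain ⟨δ, hδ, eD⟩ : ∃ δ : A, IsUnit δ ∧ σ ![0, 1, -1] = δ • ![0, 1, -1] := by
    refine step p σ hpt hcol ![1, 0, 1] ![1, 1, 0] ![0, 1, 0] ![0, 0, 1] ![0, 1, -1]
      ![1, 0, 1] ![1, 1, 0] ![0, 1, 0] ![0, 0, 1] ![0, 1, -1] ν0 γ a1 a2
      (ne0 _ 0 one_ne) (ne0 _ 0 one_ne) nE1 nE2 (ne0 _ 1 one_ne) hν0 hγ h1 h2 eQ0 eC f1 f2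
      ?_ ?_ ?_ ⟨1, isUnit_one⟩
    · rw [det_lit]; ring
    · rw [det_lit]; ring
    · simp only [crv]; exact vec3_ext (by ring) (by ring) (by ring)
  have ind : ∀ k : ℕ, ∃ μ : A, IsUnit μ ∧ σ ![1, (k : ZMod p), 0] = μ • ![1, (k : A), 0] := by
    intro k
    induction k with
    | zero =>
      refine ⟨a0, h0, ?_⟩
      rw [Nat.cast_zero, Nat.cast_zero]
      exact f0
    | succ k ih =>
      obtain ⟨μ, hμ, e⟩ := ih
      obtain ⟨ν, hν, eQ⟩ := stepQ _ _ μ hμ e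
      obtain ⟨μ', hμ', eP⟩ := stepP _ _ ν δ hν hδ eQ eD
      refine ⟨μ', hμ', ?_⟩
      rw [Nat.cast_succ, Nat.cast_succ]
      exact eP
  obtain ⟨μ, hμ, e⟩ := ind p
  rw [ZMod.natCast_self, f0] at e
  have e' := congrFun e 1
  have h' : a0 * 0 = μ * (p : A) := e'
  rw [mul_zero] at h'
  exact (hμ.mul_right_eq_zero).mp h'.symm

/-- Let A be a local ring and ρ a map from the points of the projective plane over F_p to the points of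
the projective plane over A (vectors with a unit coordinate, up to units) taking collinear triples
to collinear triples (three points are collinear when a vector with a unit coordinate is orthogonal
to all three). If ρ sends the standard frame (1:0:0), (0:1:0), (0:0:1), (1:1:1) to four points in
general position, then p = 0 in A. (The published statement asks only that ρ preserve collinearity;
a constant map does so over any ring, and the published argument begins by moving the images of the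
standard frame to the standard frame, which needs them in general position — that condition is made
a hypothesis here.) -/
theorem result
    (p : ℕ) [Fact p.Prime] (A : Type u) [CommRing A] [IsLocalRing A]
    (ρ : (Fin 3 → ZMod p) → (Fin 3 → A))
    (hpt : ∀ v : Fin 3 → ZMod p, v ≠ 0 → ∃ i, IsUnit (ρ v i))
    (hcol : ∀ u v w : Fin 3 → ZMod p, u ≠ 0 → v ≠ 0 → w ≠ 0 →
      Matrix.det (Matrix.of ![u, v, w]) = 0 →
      ∃ n : Fin 3 → A, (∃ i, IsUnit (n i)) ∧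
        dotProduct (ρ u) n = 0 ∧ dotProduct (ρ v) n = 0 ∧ dotProduct (ρ w) n = 0)
    (hgen : IsUnit (Matrix.det (Matrix.of ![ρ (Pi.single 0 1), ρ (Pi.single 1 1), ρ (Pi.single 2 1)])) ∧
      IsUnit (Matrix.det (Matrix.of ![ρ (Pi.single 0 1), ρ (Pi.single 1 1), ρ (fun _ => 1)])) ∧
      IsUnit (Matrix.det (Matrix.of ![ρ (Pi.single 0 1), ρ (Pi.single 2 1), ρ (fun _ => 1)])) ∧
      IsUnit (Matrix.det (Matrix.of ![ρ (Pi.single 1 1), ρ (Pi.single 2 1), ρ (fun _ => 1)]))) :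
    (p : A) = 0 := by
  obtain ⟨g0, g1, g2, g3⟩ := hgen
  have eE0 : (Pi.single 0 1 : Fin 3 → ZMod p) = ![1, 0, 0] := by
    ext i; fin_cases i <;> simp
  have eE1 : (Pi.single 1 1 : Fin 3 → ZMod p) = ![0, 1, 0] := by
    ext i; fin_cases i <;> simp
  have eE2 : (Pi.single 2 1 : Fin 3 → ZMod p) = ![0, 0, 1] := by
    ext i; fin_cases i <;> simp
  have eU : ((fun _ => 1) : Fin 3 → ZMod p) = ![1, 1, 1] := by
    ext i; fin_cases i <;> rfl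
  rw [det_of3] at g0 g1 g2 g3
  obtain ⟨T, hT, a0, a1, a2, a3, h0, h1, h2, h3, t0, t1, t2, t3⟩ :=
    normalize _ _ _ _ g0 g1 g2 g3
  have f0 : T⁻¹ *ᵥ ρ ![1, 0, 0] = a0 • ![1, 0, 0] := by rw [← eE0]; exact t0
  have f1 : T⁻¹ *ᵥ ρ ![0, 1, 0] = a1 • ![0, 1, 0] := by rw [← eE1]; exact t1
  have f2 : T⁻¹ *ᵥ ρ ![0, 0, 1] = a2 • ![0, 0, 1] := by rw [← eE2]; exact t2
  have f3 : T⁻¹ *ᵥ ρ ![1, 1, 1] = a3 • ![1, 1, 1] := by rw [← eU]; exact t3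
  have hpt' : ∀ v : Fin 3 → ZMod p, v ≠ 0 → ∃ i, IsUnit ((T⁻¹ *ᵥ ρ v) i) :=
    fun v hv => unit_coord_mulVec T⁻¹ (Matrix.isUnit_nonsing_inv_det T hT) (ρ v) (hpt v hv)
  have hcol' : ∀ u v w : Fin 3 → ZMod p, u ≠ 0 → v ≠ 0 → w ≠ 0 →
      Matrix.det (Matrix.of ![u, v, w]) = 0 →
      ∃ n : Fin 3 → A, (∃ i, IsUnit (n i)) ∧
        dt (T⁻¹ *ᵥ ρ u) n = 0 ∧ dt (T⁻¹ *ᵥ ρ v) n = 0 ∧ dt (T⁻¹ *ᵥ ρ w) n = 0 := by
    intro u v w hu hv hw hd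
    obtain ⟨n, hn, e1, e2, e3⟩ := hcol u v w hu hv hw hd
    refine ⟨T.transpose *ᵥ n,
      unit_coord_mulVec _ (by rw [Matrix.det_transpose]; exact hT) n hn, ?_, ?_, ?_⟩
    · rw [← dot3, dot_inv T hT, e1]
    · rw [← dot3, dot_inv T hT, e2]
    · rw [← dot3, dot_inv T hT, e3]
  exact core p (fun v => T⁻¹ *ᵥ ρ v) hpt' hcol' a0 a1 a2 a3 h0 h1 h2 h3 f0 f1 f2 f3

end Groth.Agent.S13149
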