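import Groth.Statements.S13151
import Mathlib.RingTheory.Localization.FractionRing
import Mathlib.RingTheory.IntegralClosure.IsIntegralClosure.Basic

set_option autoImplicit false
universe u
open CAlg

namespace Groth.Agent.S13151

/-- Let A → B be an injective ring homomorphism of integral domains which is integral, with A integrally
closed, and let π be an element of A. Then the contraction to A of the ideal πB is πA, i.e. an
element of A which is a multiple of π in B is already a multiple of π in A; in particular if B/πB is
an integral domain then A/πA is an integral domain. (The published statement is for an integral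
dominant morphism of integral schemes flat over a discrete valuation ring, with normal target and π
a uniformizer; flatness and the valuation ring play no role, so π is an arbitrary element here.) -/
theorem result {A B : Type u} [CommRing A] [CommRing B]
    [IsDomain A] [IsDomain B] [IsIntegrallyClosed A] [Algebra A B] [Algebra.IsIntegral A B]
    (hinj : Function.Injective (algebraMap A B)) (π : A) :
    (Ideal.span {algebraMap A B π}).comap (algebraMap A B) = Ideal.span {π} ∧
      (IsDomain (B ⧸ Ideal.span {algebraMap A B π}) → IsDomain (A ⧸ Ideal.span {π})) := by
  have part1 : (Ideal.span {algebraMap A B π}).comap (algebraMap A B) = Ideal.span {π} := by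
    apply le_antisymm
    · intro a ha
      rw [Ideal.mem_comap, Ideal.mem_span_singleton'] at ha
      obtain ⟨b, hb⟩ := ha
      by_cases hπ : π = 0
      · subst hπ
        rw [map_zero, mul_zero] at hb
        have : a = 0 := hinj (by rw [← hb, map_zero])
        rw [this]; exact Ideal.zero_mem _
      let K := FractionRing A
      let L := FractionRing B
      have hinjL : Function.Injective (algebraMap A L) := by
        rw [IsScalarTower.algebraMap_eq A B L]
        exact (IsFractionRing.injective B L).comp hinj
      letI : Algebra K L := (IsFractionRing.lift hinjL).toAlgebra
      haveI : IsScalarTower A K L :=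
        IsScalarTower.of_algebraMap_eq (fun x => (IsFractionRing.lift_algebraMap hinjL x).symm)
      have hπK : algebraMap A K π ≠ 0 := by
        intro h0
        exact hπ (IsFractionRing.injective A K (by rw [h0, map_zero]))
      set x : K := algebraMap A K a / algebraMap A K π with hx
      have hxL : algebraMap K L x = algebraMap B L b := by
        have hπL : algebraMap A L π ≠ 0 := by
          intro h0
          exact hπ (hinjL (by rw [h0, map_zero]))
        rw [hx, map_div₀, ← IsScalarTower.algebraMap_apply, ← IsScalarTower.algebraMap_apply,
          div_eq_iff hπL, IsScalarTower.algebraMap_apply A B L a, ← hb, map_mul,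
          ← IsScalarTower.algebraMap_apply A B L π]
      have hint : IsIntegral A (algebraMap K L x) := by
        rw [hxL]
        exact (Algebra.IsIntegral.isIntegral b).algebraMap
      rw [isIntegral_algebraMap_iff (algebraMap K L).injective] at hint
      obtain ⟨y, hy⟩ := IsIntegrallyClosed.isIntegral_iff.mp hint
      rw [Ideal.mem_span_singleton']
      refine ⟨y, IsFractionRing.injective A K ?_⟩
      rw [map_mul, hy, hx, div_mul_cancel₀ _ hπK]
    · rw [Ideal.span_singleton_le_iff_mem, Ideal.mem_comap]
      exact Ideal.subset_span (Set.mem_singleton _)
  refine ⟨part1, fun hdom => ?_⟩
  rw [Ideal.Quotient.isDomain_iff_prime] at hdom ⊢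
  rw [← part1]
  exact Ideal.comap_isPrime _ _

end Groth.Agent.S13151
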