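import Groth.Statements.S13156
import Mathlib

set_option autoImplicit false
universe u
open scoped Polynomial
open CAlg

namespace Groth.Agent.S13156

open Polynomial in
theorem ode_rec {R : Type*} [CommRing R] (a μ : R) (H : R[X])
    (hode : (1 + C μ * X) * derivative H = C a * H) (j : ℕ) :
    ((j + 1 : ℕ) : R) * H.coeff (j + 1) = (a - μ * (j : R)) * H.coeff j := by
  rcases j with _ | j
  · have h1 : ((1 + C μ * X) * derivative H).coeff 0 = (C a * H).coeff 0 := by rw [hode]
    rw [add_mul, one_mul, coeff_add, mul_assoc, coeff_C_mul, coeff_X_mul_zero, mul_zero, add_zero,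
      coeff_derivative, coeff_C_mul] at h1
    push_cast at h1 ⊢
    linear_combination h1
  · have h1 : ((1 + C μ * X) * derivative H).coeff (j + 1) = (C a * H).coeff (j + 1) := by
      rw [hode]
    rw [add_mul, one_mul, coeff_add, mul_assoc, coeff_C_mul, coeff_X_mul, coeff_derivative,
      coeff_derivative, coeff_C_mul] at h1
    push_cast at h1 ⊢
    linear_combination h1

open Polynomial in
theorem unit_of_lt {R : Type*} [CommRing R] (p : ℕ)
    (hu : IsUnit ((Nat.factorial (p - 1) : ℕ) : R)) (j : ℕ) (hj : j + 1 < p) :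
    IsUnit ((j + 1 : ℕ) : R) := by
  apply isUnit_of_dvd_unit _ hu
  have : (j + 1) ∣ Nat.factorial (p - 1) := Nat.dvd_factorial (Nat.succ_pos j) (by omega)
  exact Nat.cast_dvd_cast this

open Polynomial in
theorem ode_zero {R : Type*} [CommRing R] (p : ℕ)
    (hu : IsUnit ((Nat.factorial (p - 1) : ℕ) : R)) (a μ : R)
    (H : R[X]) (hdeg : H.natDegree < p) (h0 : H.coeff 0 = 0)
    (hode : (1 + C μ * X) * derivative H = C a * H) : H = 0 := by
  have hall : ∀ j, H.coeff j = 0 := by
    intro j
    induction j with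
    | zero => exact h0
    | succ j ih =>
      by_cases hj : j + 1 < p
      · have h1 := ode_rec a μ H hode j
        rw [ih, mul_zero] at h1
        exact (unit_of_lt p hu j hj).mul_right_eq_zero.mp h1
      · exact coeff_eq_zero_of_natDegree_lt (by omega)
  ext j
  rw [hall j, coeff_zero]

open Polynomial in
theorem back (A : Type u) [CommRing A] (p : ℕ)
    (hu : IsUnit ((Nat.factorial (p - 1) : ℕ) : A)) (μ : A) (F : A[X]) (hF : F.natDegree < p)
    (hode : F * C (F.coeff 1) = derivative F * (1 + C μ * X)) :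
    (C F : A[X][X]) * aeval (X : A[X][X]) F
      - aeval (C X + X + C (C μ * X) * X : A[X][X]) F
      - C (C (F.coeff 0 ^ 2 - F.coeff 0)) = 0 := by
  obtain ⟨a0, ha0⟩ : ∃ a0, a0 = F.coeff 0 := ⟨_, rfl⟩
  obtain ⟨a1, ha1⟩ : ∃ a1, a1 = F.coeff 1 := ⟨_, rfl⟩
  rw [← ha0]
  rw [← ha1] at hode
  have hode' : (1 + C μ * X) * derivative F = C a1 * F := by linear_combination -hode
  have hrecF := ode_rec a1 μ F hode'
  have h10 : a1 * (a0 - 1) = 0 := by
    have h := hrecF 0
    simp only [zero_add, Nat.cast_one, one_mul, Nat.cast_zero, mul_zero, sub_zero] at h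
    rw [← ha0, ← ha1] at h
    linear_combination -h
  have hann : ∀ j, 1 ≤ j → F.coeff j * (a0 - 1) = 0 := by
    intro j hj
    induction j, hj using Nat.le_induction with
    | base => rw [← ha1]; linear_combination h10
    | succ j hj ih =>
      by_cases hjp : j + 1 < p
      · have h1 := hrecF j
        have h2 : ((j + 1 : ℕ) : A) * (F.coeff (j + 1) * (a0 - 1)) = 0 := by
          calc ((j + 1 : ℕ) : A) * (F.coeff (j + 1) * (a0 - 1))
              = (((j + 1 : ℕ) : A) * F.coeff (j + 1)) * (a0 - 1) := by ring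
            _ = (a1 - μ * (j : A)) * F.coeff j * (a0 - 1) := by rw [h1]
            _ = (a1 - μ * (j : A)) * (F.coeff j * (a0 - 1)) := by ring
            _ = 0 := by rw [ih, mul_zero]
        exact (unit_of_lt p hu j hjp).mul_right_eq_zero.mp h2
      · rw [coeff_eq_zero_of_natDegree_lt (by omega), zero_mul]
  have hFa0 : F * C a0 = F + C (a0 ^ 2 - a0) := by
    ext j
    rw [coeff_mul_C, coeff_add, coeff_C]
    rcases Nat.eq_zero_or_pos j with hj | hj
    · subst hj; rw [if_pos rfl, ← ha0]; ring
    · rw [if_neg (by omega), add_zero]; linear_combination hann j hj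
  -- B-level
  obtain ⟨q, hq⟩ : ∃ q : A[X], q = C μ * X := ⟨_, rfl⟩
  rw [← hq]
  obtain ⟨Ub, hUbdef⟩ : ∃ Ub : A[X][X], Ub = C X + X + C q * X := ⟨_, rfl⟩
  rw [← hUbdef]
  have hFT : ∀ G : A[X], aeval (X : A[X][X]) G = G.map (algebraMap A A[X]) := by
    intro G
    rw [← eval₂_C_X (p := G.map (algebraMap A A[X])), eval₂_map]
    rfl
  have hdT : derivative (aeval (X : A[X][X]) F) = aeval (X : A[X][X]) (derivative F) := by
    rw [hFT, hFT, derivative_map]
  have hdU : derivative Ub = 1 + C q := by
    rw [hUbdef, derivative_add, derivative_add, derivative_C, derivative_X, derivative_C_mul,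
      derivative_X, mul_one, zero_add]
  have hchain : derivative (aeval Ub F) = aeval Ub (derivative F) * derivative Ub := by
    have h := Derivation.comp_aeval_eq (a := Ub)
      (d := (Polynomial.derivative' : Derivation A[X] A[X][X] A[X][X]).restrictScalars A) (f := F)
    rw [smul_eq_mul] at h
    exact h
  have hT : aeval (X : A[X][X]) F * C (C a1)
      = aeval (X : A[X][X]) (derivative F) * (1 + C (C μ) * X) := by
    have h := congrArg (aeval (X : A[X][X])) hode
    rw [map_mul, map_mul, map_add, map_one, map_mul, aeval_C, aeval_C, aeval_X] at h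
    exact h
  have hU : aeval Ub F * C (C a1) = aeval Ub (derivative F) * (1 + C (C μ) * Ub) := by
    have h := congrArg (aeval Ub) hode
    rw [map_mul, map_mul, map_add, map_one, map_mul, aeval_C, aeval_C, aeval_X] at h
    exact h
  have hCq : (C q : A[X][X]) = C (C μ) * C X := by rw [hq, map_mul]
  have hUb : 1 + C (C μ) * Ub = (1 + C q) * (1 + C (C μ) * (X : A[X][X])) := by
    rw [hUbdef, hCq]; ring
  have hK : (C (C a1) : A[X][X]) * C (C (a0 ^ 2 - a0)) = 0 := by
    rw [← map_mul, ← map_mul]
    have : a1 * (a0 ^ 2 - a0) = 0 := by linear_combination a0 * h10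
    rw [this, map_zero, map_zero]
  obtain ⟨H, hH⟩ : ∃ H : A[X][X], H = C F * aeval (X : A[X][X]) F - aeval Ub F
      - C (C (a0 ^ 2 - a0)) := ⟨_, rfl⟩
  rw [← hH]
  have hdH : derivative H = C F * aeval (X : A[X][X]) (derivative F)
      - aeval Ub (derivative F) * (1 + C q) := by
    rw [hH, derivative_sub, derivative_sub, derivative_C_mul, hdT, hchain, hdU, derivative_C,
      sub_zero]
  have hHode : (1 + C (C μ) * X) * derivative H = C (C a1) * H := by
    rw [hdH, hH]
    linear_combination (-(C F : A[X][X])) * hT + hU + aeval Ub (derivative F) * hUb + hK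
  have hcoeffU : (aeval Ub F).coeff 0 = F := by
    rw [coeff_zero_eq_eval_zero]
    have h1 : Polynomial.eval (0 : A[X]) (aeval Ub F)
        = (Polynomial.evalRingHom (0 : A[X])) (F.eval₂ (algebraMap A A[X][X]) Ub) := rfl
    rw [h1, Polynomial.hom_eval₂]
    have h2 : (Polynomial.evalRingHom (0 : A[X])).comp (algebraMap A A[X][X])
        = (C : A →+* A[X]) := by
      apply RingHom.ext
      intro a
      show Polynomial.eval (0 : A[X]) (C (C a)) = C a
      rw [eval_C]
    have h3 : Polynomial.evalRingHom (0 : A[X]) Ub = X := by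
      rw [hUbdef]
      simp
    rw [h2, h3, eval₂_C_X]
  have hH0 : H.coeff 0 = 0 := by
    rw [hH, coeff_sub, coeff_sub, coeff_C_mul, hFT, coeff_map, coeff_C_zero, hcoeffU, ← ha0]
    show F * C a0 - F - C (a0 ^ 2 - a0) = 0
    linear_combination hFa0
  have hUdeg : Ub.natDegree ≤ 1 := by
    have : Ub = C (1 + q) * X + C X := by rw [hUbdef, map_add, map_one]; ring
    rw [this]
    exact natDegree_linear_le
  have hdeg : H.natDegree < p := by
    refine lt_of_le_of_lt ?_ hF
    rw [hH]
    refine (natDegree_sub_le _ _).trans (max_le ((natDegree_sub_le _ _).trans (max_le ?_ ?_)) ?_)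
    · refine (natDegree_C_mul_le _ _).trans ?_
      rw [hFT]
      exact natDegree_map_le
    · rw [aeval_eq_sum_range]
      apply natDegree_sum_le_of_forall_le
      intro i hi
      have hi' : i ≤ F.natDegree := by have := Finset.mem_range.mp hi; omega
      rw [Algebra.smul_def]
      have e : algebraMap A A[X][X] (F.coeff i) = C (C (F.coeff i)) := rfl
      rw [e]
      refine (natDegree_C_mul_le _ _).trans ?_
      refine (natDegree_pow_le_of_le i hUdeg).trans ?_
      omega
    · rw [natDegree_C]; exact Nat.zero_le _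
  have huR : IsUnit ((Nat.factorial (p - 1) : ℕ) : A[X]) := by
    have := hu.map (C : A →+* A[X])
    rwa [map_natCast] at this
  exact ode_zero p huR (C a1) (C μ) H hdeg hH0 hHode

open Polynomial in
theorem forward (A : Type u) [CommRing A] (μ : A) (F : A[X])
    (hid : Polynomial.aeval (MvPolynomial.X 0 : MvPolynomial (Fin 2) A) F *
          Polynomial.aeval (MvPolynomial.X 1 : MvPolynomial (Fin 2) A) F - MvPolynomial.C (F.coeff 0 ^ 2) =
        Polynomial.aeval (MvPolynomial.X 0 + MvPolynomial.X 1 +
            MvPolynomial.C μ * MvPolynomial.X 0 * MvPolynomial.X 1 : MvPolynomial (Fin 2) A) F -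
          MvPolynomial.C (F.coeff 0)) :
    F * Polynomial.C (F.coeff 1) = Polynomial.derivative F * (1 + Polynomial.C μ * Polynomial.X) := by
  have hd : ∀ (g : MvPolynomial (Fin 2) A) (G : A[X]),
      MvPolynomial.pderiv (1 : Fin 2) (aeval g G)
        = aeval g (derivative G) * MvPolynomial.pderiv (1 : Fin 2) g := by
    intro g G
    have h := Derivation.comp_aeval_eq (a := g)
      (d := (MvPolynomial.pderiv (1 : Fin 2) :
        Derivation A (MvPolynomial (Fin 2) A) (MvPolynomial (Fin 2) A))) (f := G)
    rw [smul_eq_mul] at h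
    exact h
  have e0 : MvPolynomial.pderiv (1 : Fin 2) (MvPolynomial.X 0 : MvPolynomial (Fin 2) A) = 0 := by
    rw [MvPolynomial.pderiv_X]; simp
  have e1 : MvPolynomial.pderiv (1 : Fin 2) (MvPolynomial.X 1 : MvPolynomial (Fin 2) A) = 1 := by
    rw [MvPolynomial.pderiv_X]; simp
  have eU : MvPolynomial.pderiv (1 : Fin 2) (MvPolynomial.X 0 + MvPolynomial.X 1 +
      MvPolynomial.C μ * MvPolynomial.X 0 * MvPolynomial.X 1 : MvPolynomial (Fin 2) A)
      = 1 + MvPolynomial.C μ * MvPolynomial.X 0 := by
    rw [map_add, map_add, Derivation.leibniz, Derivation.leibniz, e0, e1, MvPolynomial.pderiv_C]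
    simp
  have h1 := congrArg (MvPolynomial.pderiv (1 : Fin 2)) hid
  rw [map_sub, map_sub, Derivation.leibniz, MvPolynomial.pderiv_C, MvPolynomial.pderiv_C, sub_zero,
    sub_zero, hd, hd, hd, smul_eq_mul, smul_eq_mul, e0, e1, eU, mul_zero, mul_zero, add_zero,
    mul_one] at h1
  have h2 := congrArg (MvPolynomial.aeval ![(X : A[X]), 0]) h1
  have ε0 : MvPolynomial.aeval ![(X : A[X]), 0] (MvPolynomial.X 0 : MvPolynomial (Fin 2) A) = X := by
    rw [MvPolynomial.aeval_X]; rfl
  have ε1 : MvPolynomial.aeval ![(X : A[X]), 0] (MvPolynomial.X 1 : MvPolynomial (Fin 2) A) = 0 := by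
    rw [MvPolynomial.aeval_X]; rfl
  have εC : MvPolynomial.aeval ![(X : A[X]), 0] (MvPolynomial.C μ : MvPolynomial (Fin 2) A) = C μ := by
    rw [MvPolynomial.aeval_C]; rfl
  have εU : MvPolynomial.aeval ![(X : A[X]), 0] (MvPolynomial.X 0 + MvPolynomial.X 1 +
      MvPolynomial.C μ * MvPolynomial.X 0 * MvPolynomial.X 1 : MvPolynomial (Fin 2) A) = X := by
    rw [map_add, map_add, map_mul, map_mul, ε0, ε1, εC, mul_zero, add_zero, add_zero]
  have hz : aeval (0 : A[X]) (derivative F) = C (F.coeff 1) := by
    rw [aeval_def, eval₂_at_zero, coeff_derivative]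
    simp [← Polynomial.C_eq_algebraMap]
  rw [map_mul, map_mul, map_add, map_one, map_mul, ← aeval_algHom_apply, ← aeval_algHom_apply,
    ← aeval_algHom_apply, ε0, ε1, εU, εC, aeval_X_left_apply, aeval_X_left_apply, hz] at h2
  exact h2

/-- Let p be a prime number, A a commutative ring in which (p−1)! is invertible, μ an element of A, and
F ∈ A[X] a polynomial of degree at most p − 1 with coefficients a_0, a_1, …. Then the identity
F(S)·F(T) − a_0² = F(S + T + μST) − a_0 holds in the polynomial ring A[S, T] if and only if a_1·F(S)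
= F′(S)·(1 + μS) holds in A[S], F′ the formal derivative. (The published statement is over the
quotient of a discrete valuation ring of residue characteristic p by a nonzero element of its
maximal ideal; only the invertibility of 1, …, p − 1 is used, so an arbitrary such ring A is allowed
here.) -/
theorem result (A : Type u) [CommRing A] (p : ℕ) [Fact p.Prime]
    (hu : IsUnit ((Nat.factorial (p - 1) : ℕ) : A)) (μ : A) (F : A[X]) (hF : F.natDegree < p) :
    (Polynomial.aeval (MvPolynomial.X 0 : MvPolynomial (Fin 2) A) F *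
          Polynomial.aeval (MvPolynomial.X 1 : MvPolynomial (Fin 2) A) F - MvPolynomial.C (F.coeff 0 ^ 2) =
        Polynomial.aeval (MvPolynomial.X 0 + MvPolynomial.X 1 +
            MvPolynomial.C μ * MvPolynomial.X 0 * MvPolynomial.X 1 : MvPolynomial (Fin 2) A) F -
          MvPolynomial.C (F.coeff 0)) ↔
      F * Polynomial.C (F.coeff 1) = Polynomial.derivative F * (1 + Polynomial.C μ * Polynomial.X) := by
  constructor
  · exact forward A μ F
  · intro hode
    have hb := back A p hu μ F hF hode
    obtain ⟨ψ, hψC, hψX⟩ : ∃ ψ : Polynomial (Polynomial A) →ₐ[A] MvPolynomial (Fin 2) A,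
        (∀ G : Polynomial A, ψ (Polynomial.C G) = Polynomial.aeval (MvPolynomial.X 0) G) ∧
        ψ Polynomial.X = MvPolynomial.X 1 :=
      ⟨Polynomial.eval₂AlgHom (Polynomial.aeval (MvPolynomial.X 0)) (MvPolynomial.X 1)
        (fun a => Commute.all _ _), fun G => Polynomial.eval₂_C _ _, Polynomial.eval₂_X _ _⟩
    have e1 : ψ (Polynomial.aeval (Polynomial.X : Polynomial (Polynomial A)) F)
        = Polynomial.aeval (MvPolynomial.X 1 : MvPolynomial (Fin 2) A) F := by
      rw [← Polynomial.aeval_algHom_apply, hψX]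
    have e3 : ψ (Polynomial.C Polynomial.X + Polynomial.X
        + Polynomial.C (Polynomial.C μ * Polynomial.X) * Polynomial.X)
        = MvPolynomial.X 0 + MvPolynomial.X 1 + MvPolynomial.C μ * MvPolynomial.X 0 * MvPolynomial.X 1 := by
      rw [map_add, map_add, map_mul, hψC, hψC, hψX, Polynomial.aeval_X, map_mul, Polynomial.aeval_C,
        Polynomial.aeval_X]
      rfl
    have e2 : ψ (Polynomial.aeval (Polynomial.C Polynomial.X + Polynomial.X
        + Polynomial.C (Polynomial.C μ * Polynomial.X) * Polynomial.X :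
          Polynomial (Polynomial A)) F)
        = Polynomial.aeval (MvPolynomial.X 0 + MvPolynomial.X 1 +
            MvPolynomial.C μ * MvPolynomial.X 0 * MvPolynomial.X 1 : MvPolynomial (Fin 2) A) F := by
      rw [← Polynomial.aeval_algHom_apply, e3]
    have e4 : ψ (Polynomial.C (Polynomial.C (F.coeff 0 ^ 2 - F.coeff 0)))
        = MvPolynomial.C (F.coeff 0 ^ 2) - MvPolynomial.C (F.coeff 0) := by
      rw [hψC, Polynomial.aeval_C, MvPolynomial.algebraMap_eq, map_sub]
    have h := congrArg ψ hb
    rw [map_zero, map_sub, map_sub, map_mul, hψC, e1, e2, e4] at h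
    linear_combination h

end Groth.Agent.S13156
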