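import Groth.Statements.S13157
import Mathlib

set_option autoImplicit false
universe u
open scoped Polynomial
open CAlg

namespace Groth.Agent.S13157

/-- (i) ⇔ (ii): let p be a prime number, A a commutative ring in which (p−1)! is invertible, μ ∈ A, and
F ∈ A[X] a polynomial of degree at most p − 1 with constant term a_0 = 1 and coefficients a_1, a_2,
…. Then the relations a_{r−1}·a_1 = (r − 1)μ·a_{r−1} + r·a_r for 1 ≤ r ≤ p (with a_p = 0), written
here as the single identity a_1·F = F′·(1 + μX), hold if and only if r!·a_r = ∏_{k=0}^{r−1} (a_1 −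
kμ) for every 1 ≤ r ≤ p − 1 and ∏_{k=0}^{p−1} (a_1 − kμ) = 0. (The published statement lists the
relations only for 1 ≤ r ≤ p − 1, while its proof uses and derives the relation for r = p as well,
which is needed for the vanishing of the last product; it is included here. The published setting is
the quotient of a discrete valuation ring of residue characteristic p by a nonzero non-unit; only
the invertibility of 1, …, p − 1 is used.) -/
theorem result (A : Type u) [CommRing A] (p : ℕ) [Fact p.Prime]
    (hu : IsUnit ((Nat.factorial (p - 1) : ℕ) : A)) (μ : A) (F : A[X]) (hF : F.natDegree < p)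
    (h0 : F.coeff 0 = 1) :
    F * Polynomial.C (F.coeff 1) = Polynomial.derivative F * (1 + Polynomial.C μ * Polynomial.X) ↔
      ((∀ r : ℕ, 1 ≤ r → r < p →
          (r.factorial : A) * F.coeff r = ∏ k ∈ Finset.range r, (F.coeff 1 - (k : A) * μ)) ∧
        ∏ k ∈ Finset.range p, (F.coeff 1 - (k : A) * μ) = 0) := by
  classical
  have hp := (Fact.out : p.Prime)
  have hcoefL : ∀ s, (F * Polynomial.C (F.coeff 1)).coeff s = F.coeff s * F.coeff 1 :=
    fun s => Polynomial.coeff_mul_C _ _ _
  have hcoefR : ∀ s, (Polynomial.derivative F * (1 + Polynomial.C μ * Polynomial.X)).coeff s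
      = F.coeff (s + 1) * ((s : A) + 1) + μ * ((s : A) * F.coeff s) := by
    intro s
    rw [mul_add, mul_one, Polynomial.coeff_add, Polynomial.coeff_derivative, ← mul_assoc]
    cases s with
    | zero => simp
    | succ s =>
      rw [Polynomial.coeff_mul_X, Polynomial.coeff_mul_C, Polynomial.coeff_derivative]
      push_cast; ring
  have hstar : (F * Polynomial.C (F.coeff 1)
      = Polynomial.derivative F * (1 + Polynomial.C μ * Polynomial.X)) ↔
      ∀ s : ℕ, ((s : A) + 1) * F.coeff (s + 1) = (F.coeff 1 - (s : A) * μ) * F.coeff s := by
    rw [Polynomial.ext_iff]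
    refine forall_congr' fun s => ?_
    rw [hcoefL, hcoefR]
    constructor
    · intro h; linear_combination -h
    · intro h; linear_combination -h
  have hhigh : ∀ s, p ≤ s → F.coeff s = 0 := fun s hs =>
    Polynomial.coeff_eq_zero_of_natDegree_lt (lt_of_lt_of_le hF hs)
  have hunit : ∀ s, s ≤ p - 1 → IsUnit ((s.factorial : ℕ) : A) := by
    intro s hs
    have hd : (s.factorial : A) ∣ ((p - 1).factorial : A) := by
      exact_mod_cast Nat.cast_dvd_cast (α := A) (Nat.factorial_dvd_factorial hs)
    exact isUnit_of_dvd_unit hd hu
  rw [hstar]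
  constructor
  · intro h
    have hall : ∀ r : ℕ, (r.factorial : A) * F.coeff r
        = ∏ k ∈ Finset.range r, (F.coeff 1 - (k : A) * μ) := by
      intro r
      induction r with
      | zero => simp [h0]
      | succ r ih =>
        rw [Finset.prod_range_succ, ← ih, Nat.factorial_succ]
        push_cast
        have := h r
        linear_combination (r.factorial : A) * this
    refine ⟨fun r _ _ => hall r, ?_⟩
    rw [← hall p, hhigh p le_rfl, mul_zero]
  · rintro ⟨h1, h2⟩ s
    have hall : ∀ r : ℕ, r < p → (r.factorial : A) * F.coeff r
        = ∏ k ∈ Finset.range r, (F.coeff 1 - (k : A) * μ) := by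
      intro r hr
      rcases Nat.eq_zero_or_pos r with rfl | hpos
      · simp [h0]
      · exact h1 r hpos hr
    rcases lt_trichotomy (s + 1) p with hlt | heq | hgt
    · -- s + 1 < p
      have e1 := hall (s + 1) hlt
      have e0 := hall s (by omega)
      rw [Finset.prod_range_succ, ← e0, Nat.factorial_succ] at e1
      push_cast at e1
      obtain ⟨u, hu'⟩ := hunit s (by omega)
      have : (u : A) * (((s : A) + 1) * F.coeff (s + 1))
          = (u : A) * ((F.coeff 1 - (s : A) * μ) * F.coeff s) := by
        rw [hu']; linear_combination e1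
      exact u.isUnit.mul_left_cancel this
    · -- s + 1 = p
      have e0 := hall s (by omega)
      have hs : s = p - 1 := by omega
      rw [show p = s + 1 from heq.symm, Finset.prod_range_succ, ← e0] at h2
      rw [hhigh (s + 1) (by omega), mul_zero]
      obtain ⟨u, hu'⟩ := hunit s (by omega)
      have : (u : A) * ((F.coeff 1 - (s : A) * μ) * F.coeff s) = (u : A) * 0 := by
        rw [hu', mul_zero]; linear_combination h2
      exact (u.isUnit.mul_left_cancel this).symm
    · rw [hhigh (s + 1) (by omega), hhigh s (by omega)]; ring

end Groth.Agent.S13157
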