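import Groth.Statements.S13162
import Groth.Agent.Lib.helper6.InvPow

set_option autoImplicit false
universe u v
open ZeroCyc

namespace Groth.Agent.S13162

/-- Let a finite group G act on a commutative ring A by ring automorphisms and let p be a prime such
that every integer prime to p is a unit in A. If I is an ideal of A and f ∈ A has G-invariant class
modulo I, then f^(p^k) is congruent modulo I to a G-invariant element of A, where p^k is the exact
power of p dividing the order of G. (The published statement assumes I stable under G, so that G
acts on A/I and the claim reads: the p^k-th power of an invariant of A/I lies in the image of the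
invariants of A; the form here asks only that the class of f be invariant.) -/
theorem result {A : Type u} [CommRing A] {G : Type v} [Group G] [Fintype G]
    [MulSemiringAction G A] (p : ℕ) [Fact p.Prime]
    (hA : ∀ m : ℕ, ¬ p ∣ m → IsUnit (m : A))
    (I : Ideal A) (f : A) (hf : ∀ g : G, g • f - f ∈ I) :
    ∃ a : A, (∀ g : G, g • a = a) ∧ a - f ^ (p ^ (Fintype.card G).factorization p) ∈ I := by
  classical
  have hp : p.Prime := Fact.out
  set N := Fintype.card G with hN
  have hNpos : N ≠ 0 := Fintype.card_ne_zero
  have hNqm : p ^ N.factorization p * (N / p ^ N.factorization p) = N :=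
    Nat.ordProj_mul_ordCompl_eq_self N p
  have hpm : ¬ p ∣ N / p ^ N.factorization p := Nat.not_dvd_ordCompl hp hNpos
  have hqN : p ^ N.factorization p ≤ N := Nat.ordProj_le p hNpos
  have hchoose : ¬ p ∣ N.choose (p ^ N.factorization p) := by
    have h1 := Choose.choose_pow_mul_pow_mul_modEq_choose_nat (p := p) (k := N.factorization p)
      (a := N / p ^ N.factorization p) (b := 1)
    rw [mul_one, hNqm, Nat.choose_one_right] at h1
    intro hdvd
    exact hpm ((Nat.modEq_zero_iff_dvd.mp) ((h1.symm.trans (Nat.modEq_zero_iff_dvd.mpr hdvd))))
  exact Groth.Agent.Lib.helper6.H6_exists_invariant_pow I f hf _ hqN (hA _ hchoose)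

end Groth.Agent.S13162
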