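import Groth.Statements.S13166
import Mathlib

set_option autoImplicit false
universe u
open ZeroCyc

namespace Groth.Agent.S13166

theorem cover_aux {k : Type*} [Field k] {E : Type*} [AddCommGroup E] [Module k E]
    {ι : Type*} (W : ι → Submodule k E) (s : Finset ι) :
    (∀ i ∈ s, W i ≠ ⊤) → ((s.card : ℕ) : Cardinal) ≤ Cardinal.mk k →
      ∃ v : E, ∀ i ∈ s, v ∉ W i := by
  classical
  induction s using Finset.induction_on with
  | empty => intro _ _; exact ⟨0, fun i hi => absurd hi (Finset.notMem_empty i)⟩
  | insert a s ha ih =>
    intro hne hcard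
    rw [Finset.card_insert_of_notMem ha] at hcard
    have hcard' : ((s.card : ℕ) : Cardinal) ≤ Cardinal.mk k :=
      le_trans (by exact_mod_cast Nat.le_succ _) hcard
    obtain ⟨u, hu⟩ := ih (fun i hi => hne i (Finset.mem_insert_of_mem hi)) hcard'
    by_cases hua : u ∈ W a
    · have hWa : W a ≠ ⊤ := hne a (Finset.mem_insert_self a s)
      obtain ⟨w, hw⟩ : ∃ w : E, w ∉ W a := by
        by_contra hcon
        push Not at hcon
        exact hWa (eq_top_iff.2 (fun x _ => hcon x))
      let T : Finset k :=
        s.image (fun i => if h : ∃ c : k, w + c • u ∈ W i then h.choose else 0)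
      have hT : ∃ c : k, c ∉ T := by
        by_contra hcon
        push Not at hcon
        have h1 : Cardinal.mk k ≤ (T.card : Cardinal) :=
          calc Cardinal.mk k = Cardinal.mk (Set.univ : Set k) := Cardinal.mk_univ.symm
            _ ≤ Cardinal.mk (↑T : Set k) := Cardinal.mk_le_mk_of_subset (fun c _ => hcon c)
            _ = T.card := Cardinal.mk_coe_finset
        have h2 : T.card ≤ s.card := Finset.card_image_le
        have h3 : ((s.card + 1 : ℕ) : Cardinal) ≤ ((s.card : ℕ) : Cardinal) :=
          hcard.trans (h1.trans (by exact_mod_cast h2))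
        have : s.card + 1 ≤ s.card := by exact_mod_cast h3
        omega
      obtain ⟨c, hc⟩ := hT
      refine ⟨w + c • u, fun i hi => ?_⟩
      rcases Finset.mem_insert.1 hi with hia | his
      · rw [hia]
        intro hmem
        apply hw
        have : w = (w + c • u) - c • u := by abel
        rw [this]
        exact (W a).sub_mem hmem ((W a).smul_mem c hua)
      · intro hmem
        have hex : ∃ c' : k, w + c' • u ∈ W i := ⟨c, hmem⟩
        have hc0 := hex.choose_spec
        have hcc : c = hex.choose := by
          by_contra hne'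
          have hsub : (c - hex.choose) • u ∈ W i := by
            have : (c - hex.choose) • u = (w + c • u) - (w + hex.choose • u) := by
              rw [sub_smul]; abel
            rw [this]; exact (W i).sub_mem hmem hc0
          have hne'' : c - hex.choose ≠ 0 := sub_ne_zero.2 hne'
          have : u ∈ W i := by
            have := (W i).smul_mem (c - hex.choose)⁻¹ hsub
            rwa [smul_smul, inv_mul_cancel₀ hne'', one_smul] at this
          exact hu i his this
        apply hc
        rw [hcc]
        refine Finset.mem_image.2 ⟨i, his, ?_⟩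
        rw [dif_pos hex]
    · refine ⟨u, fun i hi => ?_⟩
      rcases Finset.mem_insert.1 hi with hia | his
      · rw [hia]; exact hua
      · exact hu i his


/-- Let k be a field, B a k-algebra generated as an algebra by a k-subspace V, k'/k a field extension
and x_1, …, x_d pairwise distinct k'-points of B ⊗_k k' (equivalently, distinct k-algebra
homomorphisms B → k'). If k has at least d(d − 1)/2 elements, then there is b ∈ V whose values at
x_1, …, x_d are pairwise distinct. -/
theorem result {k : Type u} [Field k] {B : Type u} [CommRing B] [Algebra k B] (V : Submodule k B)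
    (hV : Algebra.adjoin k (V : Set B) = ⊤) {k' : Type u} [Field k'] [Algebra k k']
    {d : ℕ} (x : Fin d → (B →ₐ[k] k')) (hx : Function.Injective x)
    (hk : ((d.choose 2 : ℕ) : Cardinal) ≤ Cardinal.mk k) :
    ∃ b ∈ V, Function.Injective fun i => x i b := by
  classical
  let W : Finset (Fin d) → Submodule k V := fun s =>
    ⨅ i ∈ s, ⨅ j ∈ s, LinearMap.ker (((x i).toLinearMap - (x j).toLinearMap).comp V.subtype)
  have hmem : ∀ (s : Finset (Fin d)) (v : V),
      v ∈ W s ↔ ∀ i ∈ s, ∀ j ∈ s, x i (v : B) = x j (v : B) := by
    intro s v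
    simp [W, Submodule.mem_iInf, sub_eq_zero]
  have hproper : ∀ s ∈ Finset.powersetCard 2 (Finset.univ : Finset (Fin d)), W s ≠ ⊤ := by
    intro s hs htop
    obtain ⟨i, j, hij, rfl⟩ := Finset.card_eq_two.1 (Finset.mem_powersetCard.1 hs).2
    apply hij
    apply hx
    refine AlgHom.ext_of_adjoin_eq_top hV (fun b hb => ?_)
    have hv : (⟨b, hb⟩ : V) ∈ W {i, j} := by rw [htop]; trivial
    exact (hmem _ _).1 hv i (by simp) j (by simp)
  have hcard : (((Finset.powersetCard 2 (Finset.univ : Finset (Fin d))).card : ℕ) : Cardinal)
      ≤ Cardinal.mk k := by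
    rw [Finset.card_powersetCard, Finset.card_univ, Fintype.card_fin]
    exact hk
  obtain ⟨v, hv⟩ := cover_aux W _ hproper hcard
  refine ⟨v.1, v.2, ?_⟩
  intro i j hij
  have hij' : x i (v : B) = x j (v : B) := hij
  by_contra hne
  have hS : ({i, j} : Finset (Fin d)) ∈ Finset.powersetCard 2 (Finset.univ : Finset (Fin d)) :=
    Finset.mem_powersetCard.2 ⟨Finset.subset_univ _, Finset.card_pair hne⟩
  apply hv _ hS
  rw [hmem]
  intro a ha b hb
  simp only [Finset.mem_insert, Finset.mem_singleton] at ha hb
  rcases ha with rfl | rfl <;> rcases hb with rfl | rfl <;>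
    first | rfl | exact hij' | exact hij'.symm

end Groth.Agent.S13166
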