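import Groth.Statements.S13185
import Mathlib
import Groth.Agent.Lib.helper6.GpH1Lib

set_option autoImplicit false
universe u v w x
open GalCoh

namespace Groth.Agent.S13185

/-- Let a group G act by automorphisms on groups A, B, C and let 1 → A → B → C → 1 (maps ι, π) be a
G-equivariant short exact sequence. For G-fixed elements c, c' of C, the connecting map to H¹(G, A)
takes equal values on c and c' if and only if c' = π(b) · c for some G-fixed b in B: the fibres of
the connecting map are the orbits of the fixed points of B acting on the fixed points of C by left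
multiplication. (The published statement is for a Galois group acting on discrete modules; this row
takes an arbitrary group acting on groups, which is what the argument proves.) -/
theorem result {G : Type u} {A : Type v} {B : Type w} {C : Type x}
    [Group G] [Group A] [Group B] [Group C]
    [MulDistribMulAction G A] [MulDistribMulAction G B] [MulDistribMulAction G C]
    {ι : A →* B} {π : B →* C} (h : GpH1.IsGExt G ι π)
    (c c' : MulAction.fixedPoints G C) :
    GpH1.delta0 h c = GpH1.delta0 h c' ↔
      ∃ b : B, b ∈ MulAction.fixedPoints G B ∧ (c' : C) = π b * (c : C) := by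
  obtain ⟨b₀, hb₀⟩ := h.surjective c.1
  obtain ⟨b₀', hb₀'⟩ := h.surjective c'.1
  rw [Groth.Agent.Lib.helper6.H6_delta0_eq h c b₀ hb₀,
    Groth.Agent.Lib.helper6.H6_delta0_eq h c' b₀' hb₀']
  constructor
  · intro heq
    obtain ⟨a, ha⟩ := (GpH1.OneCocycle.cl_eq_cl_iff _ _).mp heq
    have hrel : ∀ σ : G, b₀⁻¹ * σ • b₀ = (ι a)⁻¹ * (b₀'⁻¹ * σ • b₀') * σ • ι a := by
      intro σ
      have h1 := congrArg ι (ha σ)
      rw [map_mul, map_mul, map_inv, h.smul_ι, h.ι_cocycleOfLift, h.ι_cocycleOfLift] at h1
      exact h1
    refine ⟨b₀' * ι a * b₀⁻¹, ?_, ?_⟩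
    · intro σ
      rw [smul_mul', smul_mul', smul_inv']
      have h2 : σ • b₀' * σ • ι a = b₀' * ι a * (b₀⁻¹ * σ • b₀) := by
        rw [hrel σ]; group
      rw [h2]
      group
    · rw [map_mul, map_mul, map_inv, Groth.Agent.Lib.helper6.H6_pi_iota h, mul_one, hb₀, hb₀']
      group
  · rintro ⟨b, hbfix, hb⟩
    have hlift : π (b * b₀) = c'.1 := by rw [map_mul, hb₀, hb]
    have h1 := Groth.Agent.Lib.helper6.H6_cl_cocycleOfLift_eq h (b * b₀) b₀' (hlift ▸ c'.2)
      (hb₀' ▸ c'.2) (by rw [hlift, hb₀'])
    rw [h1]
    congr 1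
    apply GpH1.OneCocycle.ext
    intro σ
    apply h.injective
    rw [h.ι_cocycleOfLift, h.ι_cocycleOfLift, smul_mul', hbfix σ]
    group

end Groth.Agent.S13185
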