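import Groth.Statements.S13186
import Mathlib
import Groth.Agent.Lib.helper6.Hilbert90GL

set_option autoImplicit false
universe u
open GalCoh

namespace Groth.Agent.S13186

/-- Let L/K be a finite Galois extension of fields, n a natural number, and B a map from the Galois
group of L over K to the invertible n × n matrices over L such that B(σ) · σ(B(τ)) = B(στ) for all
σ, τ (σ acting on matrices entrywise, στ applying τ first) and det B(σ) = 1 for every σ. Then there
is an invertible matrix A over L of determinant 1 with B(σ) = A⁻¹ · σ(A) for every σ; that is, every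
1-cocycle of the Galois group with values in SL_n(L) is the coboundary of an element of SL_n(L), so
H¹ of the Galois group with values in SL_n(L) is a point. (The published statement says that every
torsor under the special linear group over K is trivial; this row is the finite-Galois-level cocycle
form that its proof establishes.) -/
theorem result (K L : Type u) [Field K] [Field L]
    [Algebra K L] [FiniteDimensional K L] [IsGalois K L] (n : ℕ)
    (B : (L ≃ₐ[K] L) → GL (Fin n) L)
    (hB : ∀ σ τ : L ≃ₐ[K] L,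
      (B σ : Matrix (Fin n) (Fin n) L) * (B τ : Matrix (Fin n) (Fin n) L).map σ =
        (B (σ * τ) : Matrix (Fin n) (Fin n) L))
    (hdet : ∀ σ : L ≃ₐ[K] L, Matrix.det (B σ : Matrix (Fin n) (Fin n) L) = 1) :
    ∃ A : GL (Fin n) L, Matrix.det (A : Matrix (Fin n) (Fin n) L) = 1 ∧ ∀ σ : L ≃ₐ[K] L,
      (B σ : Matrix (Fin n) (Fin n) L) =
        ((A⁻¹ : GL (Fin n) L) : Matrix (Fin n) (Fin n) L) * (A : Matrix (Fin n) (Fin n) L).map σ := by
  classical
  have h1 : ((B 1 : GL (Fin n) L) : Matrix (Fin n) (Fin n) L) = 1 := by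
    have h := hB 1 1
    have hmap : ((B 1 : GL (Fin n) L) : Matrix (Fin n) (Fin n) L).map (1 : L ≃ₐ[K] L) =
        ((B 1 : GL (Fin n) L) : Matrix (Fin n) (Fin n) L) := by
      ext i j; rfl
    rw [hmap, mul_one] at h
    have h' : B 1 * B 1 = B 1 := Units.ext (by rw [Units.val_mul]; exact h)
    have : B 1 = 1 := mul_eq_left.mp h'
    rw [this]; rfl
  obtain ⟨M, hMu, hM⟩ := Groth.Agent.Lib.helper6.H6_hilbert90_matrix
    (fun σ => ((B σ : GL (Fin n) L) : Matrix (Fin n) (Fin n) L)) hB h1
  obtain ⟨m, rfl⟩ := hMu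
  set M : Matrix (Fin n) (Fin n) L := (m : Matrix (Fin n) (Fin n) L) with hMdef
  set N : Matrix (Fin n) (Fin n) L := ((m⁻¹ : GL (Fin n) L) : Matrix (Fin n) (Fin n) L) with hNdef
  have hMN : M * N = 1 := by rw [hMdef, hNdef, ← Units.val_mul, mul_inv_cancel]; rfl
  have hNM : N * M = 1 := by rw [hMdef, hNdef, ← Units.val_mul, inv_mul_cancel]; rfl
  have hmapMN : ∀ σ : L ≃ₐ[K] L, M.map σ * N.map σ = 1 := by
    intro σ
    have := Matrix.map_mul (L := M) (M := N) (f := (σ : L →+* L))
    rw [hMN] at this
    have h2 : (1 : Matrix (Fin n) (Fin n) L).map (σ : L →+* L) = 1 := by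
      ext i j
      simp [Matrix.one_apply, apply_ite]
    rw [h2] at this
    exact this.symm
  have hBσ : ∀ σ : L ≃ₐ[K] L, ((B σ : GL (Fin n) L) : Matrix (Fin n) (Fin n) L) = M * N.map σ := by
    intro σ
    have := congrArg (· * N.map σ) (hM σ)
    simp only [Matrix.mul_assoc] at this
    rw [hmapMN, mul_one] at this
    exact this
  set d : L := N.det with hd
  have hdM : M.det * d = 1 := by rw [hd, ← Matrix.det_mul, hMN, Matrix.det_one]
  have hd0 : d ≠ 0 := by
    intro h0; rw [h0, mul_zero] at hdM; exact zero_ne_one hdM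
  have hfix : ∀ σ : L ≃ₐ[K] L, σ d = d := by
    intro σ
    have h2 := hdet σ
    rw [hBσ σ, Matrix.det_mul] at h2
    have h3 : (N.map σ).det = σ d := by
      rw [hd]
      exact ((σ : L →+* L).map_det N).symm
    rw [h3] at h2
    have : M.det * σ d = M.det * d := by rw [h2, hdM]
    have hM0 : M.det ≠ 0 := by
      intro h0; rw [h0, zero_mul] at hdM; exact zero_ne_one hdM
    exact mul_left_cancel₀ hM0 this
  obtain ⟨d0, hd0'⟩ := (IsGalois.mem_range_algebraMap_iff_fixed (F := K) (E := L) d).mpr hfix
  rcases n with _ | n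
  · refine ⟨1, by simp, fun σ => ?_⟩
    ext i j
    exact Fin.elim0 i
  · -- diagonal correction
    let v : Fin (n + 1) → L := fun i => if i = 0 then d⁻¹ else 1
    have hvfix : ∀ (σ : L ≃ₐ[K] L) i, σ (v i) = v i := by
      intro σ i
      simp only [v]
      split_ifs
      · rw [map_inv₀, hfix]
      · exact map_one σ
    let D : Matrix (Fin (n + 1)) (Fin (n + 1)) L := Matrix.diagonal v
    have hDdet : D.det = d⁻¹ := by
      simp only [D, Matrix.det_diagonal, v]
      rw [Finset.prod_ite_eq' Finset.univ (0 : Fin (n+1)) (fun _ => d⁻¹)]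
      simp
    have hDdet0 : D.det ≠ 0 := by rw [hDdet]; exact inv_ne_zero hd0
    let Dg : GL (Fin (n + 1)) L := Matrix.GeneralLinearGroup.mkOfDetNeZero D hDdet0
    have hDg : (Dg : Matrix (Fin (n+1)) (Fin (n+1)) L) = D := rfl
    have hDmap : ∀ σ : L ≃ₐ[K] L, D.map σ = D := by
      intro σ
      ext i j
      simp only [D, Matrix.map_apply, Matrix.diagonal_apply]
      split_ifs
      · exact hvfix σ i
      · exact map_zero σ
    refine ⟨Dg * m⁻¹, ?_, fun σ => ?_⟩
    · rw [Units.val_mul, Matrix.det_mul, hDg, hDdet]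
      show d⁻¹ * N.det = 1
      rw [← hd, inv_mul_cancel₀ hd0]
    · rw [hBσ σ, mul_inv_rev, inv_inv, Units.val_mul, Units.val_mul, hDg]
      show M * N.map σ = M * ((Dg⁻¹ : GL (Fin (n+1)) L) : Matrix _ _ L) * (D * N).map σ
      have hmap2 : (D * N).map σ = D.map σ * N.map σ :=
        Matrix.map_mul (L := D) (M := N) (f := (σ : L →+* L))
      rw [hmap2, hDmap, Matrix.mul_assoc, ← Matrix.mul_assoc _ D, ← hDg, ← Units.val_mul,
        inv_mul_cancel]
      simp

end Groth.Agent.S13186
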