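import Groth.Statements.S13188
import Mathlib
import Groth.Agent.Lib.helper6.Homog

set_option autoImplicit false
universe u v w
open Brauer

namespace Groth.Agent.S13188

/-- Let K be a field with property C_2 for systems of forms and D a finite-dimensional central division
algebra over K with dim_K D = d². Let N : D → K be multiplicative, a reduced norm of D over K, and
given in the coordinates of a K-basis b of D by a homogeneous polynomial F of degree d, i.e. N(Σ x_i
b_i) = F(x) for every coordinate vector x (the reduced norm of a central simple algebra of dimension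
d² is such a polynomial map of degree d; these data record it). Then N : D → K is surjective. -/
theorem result (K : Type u) [Field K] (hK : Curves.IsCi K 2)
    (D : Type v) [DivisionRing D] [Algebra K D] [Algebra.IsCentral K D] [FiniteDimensional K D]
    (d : ℕ) (hd : Module.finrank K D = d ^ 2)
    (N : D →* K) (hN : CSAGal.IsRedNorm K D N)
    {ι : Type w} [Fintype ι] (b : Module.Basis ι K D)
    (F : MvPolynomial ι K) (hF : F.IsHomogeneous d)
    (hNF : ∀ x : ι → K, N (∑ i, x i • b i) = MvPolynomial.eval x F) :
    Function.Surjective N := by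
  classical
  have hcard : Fintype.card ι = d ^ 2 := by
    rw [← hd, Module.finrank_eq_card_basis b]
  have hdpos : 0 < d := by
    rcases Nat.eq_zero_or_pos d with h0 | h
    · exfalso
      rw [h0] at hd
      have : 0 < Module.finrank K D := Module.finrank_pos
      omega
    · exact h
  -- nonzero elements have nonzero norm
  have hNne : ∀ y : D, y ≠ 0 → N y ≠ 0 := by
    intro y hy h0
    have hu : IsUnit y := isUnit_iff_ne_zero.mpr hy
    have := hu.map N
    rw [h0] at this
    exact not_isUnit_zero this
  intro c
  let e : ι ≃ Fin (d ^ 2) := Fintype.equivFinOfCardEq hcard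
  let φ : ι → Fin (d ^ 2 + 1) := fun i => Fin.castSucc (e i)
  let G : MvPolynomial (Fin (d ^ 2 + 1)) K :=
    MvPolynomial.rename φ F - MvPolynomial.C c * MvPolynomial.X (Fin.last (d ^ 2)) ^ d
  have hG : G.IsHomogeneous d :=
    (hF.rename_isHomogeneous).sub (MvPolynomial.isHomogeneous_C_mul_X_pow c _ d)
  obtain ⟨a, ha0, ha⟩ := hK 1 (d ^ 2 + 1) (fun _ => G) (fun _ => d) (fun _ => hG) (fun _ => hdpos)
    (by simp)
  have haG := ha 0
  simp only [G, map_sub, MvPolynomial.eval_rename, map_mul, MvPolynomial.eval_C, map_pow,
    MvPolynomial.eval_X, sub_eq_zero] at haG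
  -- haG : eval (a ∘ φ) F = c * a (last) ^ d
  set x : ι → K := a ∘ φ with hx
  set t : K := a (Fin.last (d ^ 2)) with ht
  by_cases ht0 : t = 0
  · exfalso
    have hx0 : x ≠ 0 := by
      intro hx0
      apply ha0
      funext j
      refine Fin.lastCases ?_ (fun j' => ?_) j
      · exact ht0
      · have := congrFun hx0 (e.symm j')
        simpa [x, φ] using this
    have hy : (∑ i, x i • b i) ≠ 0 := by
      intro h0
      apply hx0
      funext i
      have := (Fintype.linearIndependent_iff.mp b.linearIndependent) x h0 i
      simpa using this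
    apply hNne _ hy
    rw [hNF, haG, ht0, zero_pow hdpos.ne', mul_zero]
  · refine ⟨∑ i, (t⁻¹ • x) i • b i, ?_⟩
    rw [hNF, Groth.Agent.Lib.helper6.H6_eval_smul_of_isHomogeneous F d hF, haG, inv_pow,
      mul_comm c, ← mul_assoc, inv_mul_cancel₀ (pow_ne_zero d ht0), one_mul]

end Groth.Agent.S13188
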