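import Groth.Statements.S13189
import Mathlib

set_option autoImplicit false
universe u
open CAlg

namespace Groth.Agent.S13189

/-- For a finite field K of cardinality q and n ≥ 0, a polynomial p in n variables over K vanishes at
every point of K^n if and only if p belongs to the ideal generated by the X_i^q − X_i, i = 1, …, n;
in other words that ideal is the kernel of the evaluation homomorphism from K[X_1, …, X_n] to the
ring of K-valued functions on K^n. -/
theorem result (K : Type u) [Field K] [Fintype K]
    (n : ℕ) (p : MvPolynomial (Fin n) K) :
    (∀ a : Fin n → K, MvPolynomial.eval a p = 0) ↔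
      p ∈ Ideal.span (Set.range fun i : Fin n =>
        (MvPolynomial.X i ^ Fintype.card K - MvPolynomial.X i : MvPolynomial (Fin n) K)) := by
  classical
  set q := Fintype.card K with hq
  have hq2 : 2 ≤ q := Fintype.one_lt_card
  set I : Ideal (MvPolynomial (Fin n) K) := Ideal.span (Set.range fun i : Fin n =>
        (MvPolynomial.X i ^ q - MvPolynomial.X i : MvPolynomial (Fin n) K)) with hI
  have hgenI : ∀ i : Fin n, (MvPolynomial.X i ^ q - MvPolynomial.X i : MvPolynomial (Fin n) K) ∈ I :=
    fun i => Ideal.subset_span ⟨i, rfl⟩
  -- elements of I vanish everywhere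
  have hIvan : ∀ z ∈ I, ∀ a : Fin n → K, MvPolynomial.eval a z = 0 := by
    intro z hz a
    have hle : I ≤ RingHom.ker (MvPolynomial.eval a) := by
      rw [hI, Ideal.span_le]
      rintro _ ⟨i, rfl⟩
      simp only [SetLike.mem_coe, RingHom.mem_ker, map_sub, map_pow, MvPolynomial.eval_X]
      rw [hq, FiniteField.pow_card, sub_self]
    exact hle hz
  constructor
  swap
  · intro hp a
    exact hIvan p hp a
  intro hp
  -- the submodule S = restricted + I
  set S : Submodule K (MvPolynomial (Fin n) K) :=
    MvPolynomial.restrictDegree (Fin n) K (q - 1) ⊔ I.restrictScalars K with hS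
  have hIS : ∀ z ∈ I, z ∈ S := fun z hz =>
    (le_sup_right : I.restrictScalars K ≤ S) hz
  have hRS : ∀ z ∈ MvPolynomial.restrictDegree (Fin n) K (q - 1), z ∈ S := fun z hz =>
    (le_sup_left : MvPolynomial.restrictDegree (Fin n) K (q - 1) ≤ S) hz
  -- monomial step
  have hmono : ∀ (e : Fin n →₀ ℕ) (c : K) (i : Fin n), (∀ j, e j ≤ q - 1) →
      MvPolynomial.monomial e c * MvPolynomial.X i ∈ S := by
    intro e c i he
    by_cases hei : e i < q - 1
    · apply hRS
      rw [MvPolynomial.X, MvPolynomial.monomial_mul, MvPolynomial.mem_restrictDegree]
      intro s hs j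
      have hs' := MvPolynomial.support_monomial_subset hs
      rw [Finset.mem_singleton] at hs'
      rw [hs']
      simp only [Finsupp.add_apply, Finsupp.single_apply]
      by_cases hij : i = j
      · subst hij; simp; omega
      · simp [hij, he j]
    · have hei' : e i = q - 1 := le_antisymm (he i) (not_lt.mp hei)
      set e' : Fin n →₀ ℕ := e.erase i with he'
      have hee : e = e' + Finsupp.single i (q - 1) := by
        rw [he', ← hei', add_comm, Finsupp.single_add_erase]
      have h1 : MvPolynomial.monomial e c * MvPolynomial.X i =
          MvPolynomial.monomial e' c * (MvPolynomial.X i ^ q - MvPolynomial.X i)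
            + MvPolynomial.monomial e' c * MvPolynomial.X i := by
        have : MvPolynomial.monomial e c =
            MvPolynomial.monomial e' c * (MvPolynomial.X i : MvPolynomial (Fin n) K) ^ (q - 1) := by
          rw [MvPolynomial.X_pow_eq_monomial, MvPolynomial.monomial_mul, mul_one, ← hee]
        rw [this, mul_sub, sub_add_cancel, mul_assoc, ← pow_succ]
        congr 2
        omega
      rw [h1]
      refine S.add_mem (hIS _ (Ideal.mul_mem_left _ _ (hgenI i))) (hRS _ ?_)
      rw [MvPolynomial.X, MvPolynomial.monomial_mul, MvPolynomial.mem_restrictDegree]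
      intro s hs j
      have hs' := MvPolynomial.support_monomial_subset hs
      rw [Finset.mem_singleton] at hs'
      rw [hs']
      simp only [Finsupp.add_apply, Finsupp.single_apply]
      by_cases hij : i = j
      · subst hij; simp [he']; omega
      · simp only [hij, if_false, add_zero, he', Finsupp.erase_ne (Ne.symm hij)]
        exact he j
  have hstep : ∀ (y : MvPolynomial (Fin n) K) (i : Fin n), y ∈ S → y * MvPolynomial.X i ∈ S := by
    intro y i hy
    rw [hS, Submodule.mem_sup] at hy
    obtain ⟨r, hr, z, hz, rfl⟩ := hy
    rw [add_mul]
    refine S.add_mem ?_ (hIS _ (Ideal.mul_mem_right _ _ hz))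
    rw [← MvPolynomial.support_sum_monomial_coeff r, Finset.sum_mul]
    refine S.sum_mem (fun e he => ?_)
    apply hmono
    intro j
    exact (MvPolynomial.mem_restrictDegree (Fin n) _ _).mp hr e he j
  have hall : ∀ y : MvPolynomial (Fin n) K, y ∈ S := by
    intro y
    induction y using MvPolynomial.induction_on with
    | C a =>
      apply hRS
      rw [MvPolynomial.mem_restrictDegree]
      intro s hs j
      have hs' := MvPolynomial.support_monomial_subset hs
      rw [Finset.mem_singleton] at hs'
      rw [hs']; simp
    | add p q hp hq => exact S.add_mem hp hq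
    | mul_X p i hp => exact hstep p i hp
  have hpS := hall p
  rw [hS, Submodule.mem_sup] at hpS
  obtain ⟨r, hr, z, hz, hrz⟩ := hpS
  have hr0 : r = 0 := by
    have hrvan : ∀ a : Fin n → K, MvPolynomial.eval a r = 0 := by
      intro a
      have h1 := hp a
      rw [← hrz, map_add, hIvan z hz a, add_zero] at h1
      exact h1
    let f : Fin n → ULift.{u} (Fin n) := ULift.up
    have hfinj : Function.Injective f := ULift.up_injective
    have h1 : MvPolynomial.rename f r = 0 := by
      apply MvPolynomial.eq_zero_of_eval_eq_zero (ULift.{u} (Fin n)) K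
      · intro v
        rw [MvPolynomial.eval_rename]
        exact hrvan _
      · rw [MvPolynomial.mem_restrictDegree]
        intro s hs i
        rw [MvPolynomial.support_rename_of_injective hfinj, Finset.mem_image] at hs
        obtain ⟨s', hs', rfl⟩ := hs
        have : i = f i.down := rfl
        rw [this, Finsupp.mapDomain_apply hfinj]
        exact (MvPolynomial.mem_restrictDegree (Fin n) _ _).mp hr s' hs' _
    exact MvPolynomial.rename_injective f hfinj (h1.trans (map_zero _).symm)
  rw [← hrz, hr0, zero_add]
  exact hz

end Groth.Agent.S13189
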