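import Groth.Statements.S13356
import Mathlib
import Groth.Agent.Lib.helper7.GaChar

set_option autoImplicit false
universe u
open GaDual

namespace Groth.Agent.S13356

/-- Over a commutative algebra A over the rationals, the polynomials f with f(0) = 1 and f(X+Y) =
f(X)f(Y) (the characters of the additive group into the multiplicative group over A) are exactly the
polynomials exp(aX) with a in A nilpotent. -/
theorem result (A : Type u) [CommRing A] [Algebra ℚ A] (f : Polynomial A) :
    (f.eval 0 = 1 ∧
      Polynomial.aeval (MvPolynomial.X 0 + MvPolynomial.X 1 : MvPolynomial (Fin 2) A) f =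
        Polynomial.aeval (MvPolynomial.X 0 : MvPolynomial (Fin 2) A) f *
          Polynomial.aeval (MvPolynomial.X 1 : MvPolynomial (Fin 2) A) f) ↔
      ∃ a : A, IsNilpotent a ∧ (f : PowerSeries A) = PowerSeries.rescale a (PowerSeries.exp A) := by
  classical
  rw [Groth.Agent.Lib.helper7.H7_char_iff]
  have hfac : ∀ n : ℕ, (n.factorial : A) * algebraMap ℚ A (1 / (n.factorial : ℚ)) = 1 := by
    intro n
    have h1 : (n.factorial : A) = algebraMap ℚ A (n.factorial : ℚ) := by rw [map_natCast]
    rw [h1, ← map_mul, mul_one_div_cancel (Nat.cast_ne_zero.2 n.factorial_ne_zero), map_one]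
  constructor
  · rintro ⟨h0, hmul⟩
    have hc0 : f.coeff 0 = 1 := by rw [Polynomial.coeff_zero_eq_eval_zero, h0]
    set a := f.coeff 1 with ha
    have hcn : ∀ n : ℕ, f.coeff n * (n.factorial : A) = a ^ n := by
      intro n
      induction n with
      | zero => simp [hc0]
      | succ n ih =>
        have h1 := hmul 1 n
        rw [Nat.choose_one_right, add_comm 1 n] at h1
        rw [Nat.factorial_succ, Nat.cast_mul, pow_succ, ← ih]
        have : f.coeff (n + 1) * (((n + 1 : ℕ) : A) * (n.factorial : A)) =
            (((n + 1 : ℕ) : A) * f.coeff (n + 1)) * (n.factorial : A) := by ring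
        rw [this, h1, ← ha]
        ring
    refine ⟨a, ⟨f.natDegree + 1, ?_⟩, ?_⟩
    · rw [← hcn, Polynomial.coeff_eq_zero_of_natDegree_lt (Nat.lt_succ_self _), zero_mul]
    · ext n
      rw [Polynomial.coeff_coe, PowerSeries.coeff_rescale, PowerSeries.coeff_exp, ← hcn, mul_assoc,
        hfac, mul_one]
  · rintro ⟨a, _, hf⟩
    have hcn : ∀ n : ℕ, f.coeff n = a ^ n * algebraMap ℚ A (1 / (n.factorial : ℚ)) := by
      intro n
      rw [← Polynomial.coeff_coe, hf, PowerSeries.coeff_rescale, PowerSeries.coeff_exp]
    constructor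
    · rw [← Polynomial.coeff_zero_eq_eval_zero, hcn]
      simp
    · intro i j
      rw [hcn, hcn, hcn]
      have key : (((i + j).choose i : ℕ) : A) * algebraMap ℚ A (1 / ((i + j).factorial : ℚ)) =
          algebraMap ℚ A (1 / (i.factorial : ℚ)) * algebraMap ℚ A (1 / (j.factorial : ℚ)) := by
        have h1 : (((i + j).choose i : ℕ) : A) = algebraMap ℚ A (((i + j).choose i : ℕ) : ℚ) := by
          rw [map_natCast]
        rw [h1, ← map_mul, ← map_mul]
        congr 1
        have h2 : ((i + j).factorial : ℚ) = ((i + j).choose i : ℚ) * (i.factorial : ℚ) * (j.factorial : ℚ) := by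
          rw [← Nat.add_choose_mul_factorial_mul_factorial i j, Nat.choose_symm_add]
          push_cast
          ring
        rw [h2]
        have hi : (i.factorial : ℚ) ≠ 0 := Nat.cast_ne_zero.2 i.factorial_ne_zero
        have hj : (j.factorial : ℚ) ≠ 0 := Nat.cast_ne_zero.2 j.factorial_ne_zero
        have hc : ((i + j).choose i : ℚ) ≠ 0 := Nat.cast_ne_zero.2 (Nat.choose_pos (Nat.le_add_right i j)).ne'
        field_simp
      calc (((i + j).choose i : ℕ) : A) * (a ^ (i + j) * algebraMap ℚ A (1 / ((i + j).factorial : ℚ)))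
          = a ^ (i + j) * ((((i + j).choose i : ℕ) : A) * algebraMap ℚ A (1 / ((i + j).factorial : ℚ))) := by ring
        _ = _ := by rw [key, pow_add]; ring

end Groth.Agent.S13356
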