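import Groth.Statements.S13357
import Mathlib
import Groth.Agent.Lib.helper7.GaCharP2

set_option autoImplicit false
universe u
open GaDual

namespace Groth.Agent.S13357

/-- Over a commutative algebra A of prime characteristic p, the polynomials f with f(0) = 1 and f(X+Y) =
f(X)f(Y) (the characters of the additive group into the multiplicative group over A) are exactly the
finite products of truncated exponentials exp_p(a_n X^(p^n)) = Σ_{j<p} a_n^j X^(j p^n)/j! with a_n^p
= 0. -/
theorem result (p : ℕ) [Fact p.Prime] (A : Type u) [CommRing A] [CharP A p]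
    (f : Polynomial A) :
    (f.eval 0 = 1 ∧
      Polynomial.aeval (MvPolynomial.X 0 + MvPolynomial.X 1 : MvPolynomial (Fin 2) A) f =
        Polynomial.aeval (MvPolynomial.X 0 : MvPolynomial (Fin 2) A) f *
          Polynomial.aeval (MvPolynomial.X 1 : MvPolynomial (Fin 2) A) f) ↔
      ∃ (N : ℕ) (a : ℕ → A), (∀ n, a n ^ p = 0) ∧
        f = ∏ n ∈ Finset.range N, ∑ j ∈ Finset.range p,
          Polynomial.C (Ring.inverse (j.factorial : A) * a n ^ j) * Polynomial.X ^ (j * p ^ n) := by
  classical
  have hp : p.Prime := Fact.out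
  constructor
  · rintro ⟨h0, hmul⟩
    have hc0 : f.coeff 0 = 1 := by rw [Polynomial.coeff_zero_eq_eval_zero, h0]
    have hrel := (Groth.Agent.Lib.helper7.H7_char_iff f).1 hmul
    have hdeg : f.natDegree < p ^ f.natDegree := Nat.lt_pow_self hp.one_lt
    obtain ⟨h1, h2⟩ := Groth.Agent.Lib.helper7.H7_char_core p A f.coeff f.natDegree hc0
      (fun i j _ _ => hrel i j)
    refine ⟨f.natDegree, fun i => if i < f.natDegree then f.coeff (p ^ i) else 0, ?_, ?_⟩
    · intro i
      by_cases hi : i < f.natDegree
      · simp only [if_pos hi]; exact h1 i hi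
      · simp only [if_neg hi]; exact zero_pow hp.ne_zero
    · have hf : f = ∑ m ∈ Finset.range (p ^ f.natDegree), Polynomial.C (f.coeff m) * Polynomial.X ^ m := by
        conv_lhs => rw [Polynomial.as_sum_range' f (p ^ f.natDegree) hdeg]
        apply Finset.sum_congr rfl
        intro m _
        rw [Polynomial.C_mul_X_pow_eq_monomial]
      refine hf.trans ((h2 f.natDegree le_rfl).trans ?_)
      apply Finset.prod_congr rfl
      intro i hi
      rw [Finset.mem_range] at hi
      simp only [if_pos hi]
      rfl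
  · rintro ⟨N, a, ha, hf⟩
    have hf' : f = ∏ n ∈ Finset.range N, Groth.Agent.Lib.helper7.H7_E p (a n) n := hf
    rw [hf']
    refine Finset.prod_induction _ (fun g : Polynomial A => g.eval 0 = 1 ∧
      Polynomial.aeval (MvPolynomial.X 0 + MvPolynomial.X 1 : MvPolynomial (Fin 2) A) g =
      Polynomial.aeval (MvPolynomial.X 0 : MvPolynomial (Fin 2) A) g *
      Polynomial.aeval (MvPolynomial.X 1 : MvPolynomial (Fin 2) A) g) ?_ ?_ ?_
    · rintro g h ⟨hg0, hg⟩ ⟨hh0, hh⟩
      refine ⟨by rw [Polynomial.eval_mul, hg0, hh0, one_mul], ?_⟩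
      rw [map_mul, map_mul, map_mul, hg, hh]
      ring
    · exact ⟨by simp, by simp⟩
    · intro n _
      exact ⟨Groth.Agent.Lib.helper7.H7_E_eval_zero p (a n) n,
        Groth.Agent.Lib.helper7.H7_E_char p (a n) (ha n) n⟩

end Groth.Agent.S13357
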