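import Groth.Statements.S13359
import Mathlib
import Groth.Agent.Lib.helper6.PiLoc

set_option autoImplicit false
universe u
open UltraProd

namespace Groth.Agent.S13359

/-- If (R_i) is a nonempty family of integrally closed domains, then the localization of the product
ring ∏ R_i at any prime ideal is an integrally closed domain. -/
theorem result {ι : Type u} [Nonempty ι] (R : ι → Type u)
    [∀ i, CommRing (R i)] [∀ i, IsDomain (R i)] [∀ i, IsIntegrallyClosed (R i)]
    (P : Ideal (∀ i, R i)) [P.IsPrime] :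
    IsDomain (Localization.AtPrime P) ∧ IsIntegrallyClosed (Localization.AtPrime P) := by
  classical
  haveI hdom : IsDomain (Localization.AtPrime P) :=
    Groth.Agent.Lib.helper6.H6_isDomain_localization_pi P
  refine ⟨hdom, ?_⟩
  rw [Groth.Agent.Lib.helper6.H6_isIntegrallyClosed_iff_dvd]
  intro a b hb n c hrel
  -- common denominator
  obtain ⟨u, hu⟩ := IsLocalization.exist_integer_multiples_of_finset P.primeCompl
    (insert a (insert b ((Finset.range n).image c)))
  obtain ⟨f, hf⟩ := hu a (by simp)
  obtain ⟨g, hg⟩ := hu b (by simp)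
  have hc : ∀ j, ∃ h : ∀ i, R i, j < n →
      algebraMap (∀ i, R i) (Localization.AtPrime P) h = (u : ∀ i, R i) • c j := by
    intro j
    by_cases hj : j < n
    · obtain ⟨h, hh⟩ := hu (c j) (by
        simp only [Finset.mem_insert, Finset.mem_image, Finset.mem_range]
        exact Or.inr (Or.inr ⟨j, hj, rfl⟩))
      exact ⟨h, fun _ => hh⟩
    · exact ⟨0, fun h => absurd h hj⟩
  choose h hh using hc
  set U := algebraMap (∀ i, R i) (Localization.AtPrime P) (u : ∀ i, R i) with hU
  have hUunit : IsUnit U := IsLocalization.map_units _ u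
  have hf' : algebraMap (∀ i, R i) (Localization.AtPrime P) f = U * a := by
    rw [hf, Algebra.smul_def]
  have hg' : algebraMap (∀ i, R i) (Localization.AtPrime P) g = U * b := by
    rw [hg, Algebra.smul_def]
  have hh' : ∀ j, j < n → algebraMap (∀ i, R i) (Localization.AtPrime P) (h j) = U * c j := by
    intro j hj
    rw [hh j hj, Algebra.smul_def]
  -- the relation in the product ring
  have hrel2 : algebraMap (∀ i, R i) (Localization.AtPrime P)
      ((u : ∀ i, R i) * f ^ n + ∑ j ∈ Finset.range n, h j * f ^ j * g ^ (n - j)) = 0 := by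
    rw [map_add, map_mul, map_pow, map_sum, hf']
    have : ∑ j ∈ Finset.range n, algebraMap (∀ i, R i) (Localization.AtPrime P)
        (h j * f ^ j * g ^ (n - j)) = ∑ j ∈ Finset.range n, U ^ (n + 1) * (c j * a ^ j * b ^ (n - j)) := by
      apply Finset.sum_congr rfl
      intro j hj
      rw [Finset.mem_range] at hj
      rw [map_mul, map_mul, map_pow, map_pow, hf', hg', hh' j hj]
      obtain ⟨k, rfl⟩ := Nat.exists_eq_add_of_le hj.le
      rw [Nat.add_sub_cancel_left]
      ring
    rw [this, ← Finset.mul_sum]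
    have : U * (U * a) ^ n + U ^ (n + 1) * ∑ j ∈ Finset.range n, c j * a ^ j * b ^ (n - j) =
        U ^ (n + 1) * (a ^ n + ∑ j ∈ Finset.range n, c j * a ^ j * b ^ (n - j)) := by ring
    rw [this, hrel, mul_zero]
  rw [Groth.Agent.Lib.helper6.H6_algebraMap_eq_zero_iff] at hrel2
  have hg0 : algebraMap (∀ i, R i) (Localization.AtPrime P) g ≠ 0 := by
    rw [hg']
    exact mul_ne_zero hUunit.ne_zero hb
  have hZg : Groth.Agent.Lib.helper6.H6_ind R {i | g i = 0}ᶜ ∉ P := by
    apply Groth.Agent.Lib.helper6.H6_ind_compl_not_mem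
    by_contra hcon
    exact hg0 ((Groth.Agent.Lib.helper6.H6_algebraMap_eq_zero_iff P g).mpr hcon)
  have hS := Groth.Agent.Lib.helper6.H6_ind_inter_not_mem P _ _ hrel2 hZg
  have hdiv : ∀ i ∈ ({i | ((u : ∀ i, R i) * f ^ n +
      ∑ j ∈ Finset.range n, h j * f ^ j * g ^ (n - j)) i = 0} ∩ {i | g i = 0}ᶜ : Set ι),
      g i ∣ (u : ∀ i, R i) i * f i := by
    rintro i ⟨hi1, hi2⟩
    rcases Nat.eq_zero_or_pos n with hn0 | hn0
    · subst hn0
      simp only [Set.mem_setOf_eq, Pi.add_apply, Pi.mul_apply, Pi.pow_apply, pow_zero, mul_one,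
        Finset.range_zero, Finset.sum_empty, Pi.zero_apply, add_zero] at hi1
      rw [hi1, zero_mul]
      exact dvd_zero _
    have hIC := (Groth.Agent.Lib.helper6.H6_isIntegrallyClosed_iff_dvd (R i)).mp inferInstance
    apply hIC _ _ hi2 n (fun j => h j i * (u : ∀ i, R i) i ^ (n - 1 - j))
    simp only [Set.mem_setOf_eq, Pi.add_apply, Pi.mul_apply, Pi.pow_apply, Finset.sum_apply] at hi1
    have : ((u : ∀ i, R i) i * f i) ^ n + ∑ j ∈ Finset.range n,
        h j i * (u : ∀ i, R i) i ^ (n - 1 - j) * ((u : ∀ i, R i) i * f i) ^ j * g i ^ (n - j) =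
        (u : ∀ i, R i) i ^ (n - 1) * ((u : ∀ i, R i) i * f i ^ n +
          ∑ j ∈ Finset.range n, h j i * f i ^ j * g i ^ (n - j)) := by
      rw [mul_add, Finset.mul_sum]
      congr 1
      · obtain ⟨m, rfl⟩ := Nat.exists_eq_add_of_le hn0
        simp only [Nat.add_sub_cancel_left]
        ring
      · apply Finset.sum_congr rfl
        intro j hj
        rw [Finset.mem_range] at hj
        obtain ⟨k, rfl⟩ := Nat.exists_eq_add_of_lt hj
        have e1 : j + k + 1 - 1 - j = k := by omega
        have e2 : j + k + 1 - 1 = j + k := by omega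
        rw [e1, e2]
        ring
    rw [this, hi1, mul_zero]
  choose! r hr using hdiv
  have hfin : algebraMap (∀ i, R i) (Localization.AtPrime P) ((u : ∀ i, R i) * f) =
      algebraMap (∀ i, R i) (Localization.AtPrime P) (g * r) := by
    apply Groth.Agent.Lib.helper6.H6_algebraMap_eq_of_eqOn P _ hS
    intro i hi
    exact hr i hi
  rw [map_mul, map_mul, hf', hg', ← hU] at hfin
  obtain ⟨V, hV⟩ := hUunit.exists_left_inv
  refine ⟨V * algebraMap (∀ i, R i) (Localization.AtPrime P) r, ?_⟩
  have : a = V * V * (U * (U * a)) := by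
    calc a = (V * U) * (V * U) * a := by rw [hV]; ring
      _ = V * V * (U * (U * a)) := by ring
  rw [this, hfin]
  calc V * V * (U * b * algebraMap (∀ i, R i) (Localization.AtPrime P) r)
      = (V * U) * b * (V * algebraMap (∀ i, R i) (Localization.AtPrime P) r) := by ring
    _ = b * (V * algebraMap (∀ i, R i) (Localization.AtPrime P) r) := by rw [hV, one_mul]

end Groth.Agent.S13359
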