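import Groth.Statements.S13360
import Mathlib
import Groth.Agent.Lib.helper6.PiLoc

set_option autoImplicit false
universe u
open UltraProd

namespace Groth.Agent.S13360

/-- If (R_i) is a nonempty family of valuation rings, then the localization of the product ring ∏ R_i at
any prime ideal is a valuation ring: a domain in which, of any two elements, one divides the other. -/
theorem result {ι : Type u} [Nonempty ι] (R : ι → Type u)
    [∀ i, CommRing (R i)] [∀ i, IsDomain (R i)] [∀ i, ValuationRing (R i)]
    (P : Ideal (∀ i, R i)) [P.IsPrime] :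
    IsDomain (Localization.AtPrime P) ∧ PreValuationRing (Localization.AtPrime P) := by
  classical
  refine ⟨Groth.Agent.Lib.helper6.H6_isDomain_localization_pi P, ⟨?_⟩⟩
  intro x y
  obtain ⟨f, s, rfl⟩ := IsLocalization.exists_mk'_eq P.primeCompl x
  obtain ⟨g, t, rfl⟩ := IsLocalization.exists_mk'_eq P.primeCompl y
  have hgen : ∀ (f g : ∀ i, R i) (s t : P.primeCompl) (S : Set ι),
      Groth.Agent.Lib.helper6.H6_ind R S ∉ P → (∀ i ∈ S, f i ∣ g i) →
      ∃ c : Localization.AtPrime P, IsLocalization.mk' (Localization.AtPrime P) f s * c =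
        IsLocalization.mk' (Localization.AtPrime P) g t := by
    intro f g s t S hS hdiv
    choose! c hc using hdiv
    have h1 : algebraMap (∀ i, R i) (Localization.AtPrime P) (f * c) =
        algebraMap (∀ i, R i) (Localization.AtPrime P) g := by
      apply Groth.Agent.Lib.helper6.H6_algebraMap_eq_of_eqOn P S hS
      intro i hi
      exact (hc i hi).symm
    refine ⟨algebraMap _ _ c * algebraMap _ _ (s : ∀ i, R i) *
      IsLocalization.mk' (Localization.AtPrime P) 1 t, ?_⟩
    calc IsLocalization.mk' (Localization.AtPrime P) f s *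
          (algebraMap _ _ c * algebraMap _ _ (s : ∀ i, R i) *
            IsLocalization.mk' (Localization.AtPrime P) 1 t)
        = (IsLocalization.mk' (Localization.AtPrime P) f s * algebraMap _ _ (s : ∀ i, R i)) *
            algebraMap _ _ c * IsLocalization.mk' (Localization.AtPrime P) 1 t := by ring
      _ = algebraMap _ _ f * algebraMap _ _ c *
            IsLocalization.mk' (Localization.AtPrime P) 1 t := by rw [IsLocalization.mk'_spec]
      _ = algebraMap _ _ g * IsLocalization.mk' (Localization.AtPrime P) 1 t := by
          rw [← map_mul, h1]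
      _ = IsLocalization.mk' (Localization.AtPrime P) g t := by
          rw [IsLocalization.mul_mk'_eq_mk'_of_mul, mul_one]
  by_cases hE : Groth.Agent.Lib.helper6.H6_ind R {i | f i ∣ g i} ∉ P
  · obtain ⟨c, hc⟩ := hgen f g s t _ hE (fun i hi => hi)
    exact ⟨c, Or.inl hc⟩
  · rw [not_not] at hE
    have hE' := Groth.Agent.Lib.helper6.H6_ind_compl_not_mem P _ hE
    obtain ⟨c, hc⟩ := hgen g f t s _ hE' (fun i hi => by
      rcases ValuationRing.dvd_total (f i) (g i) with h | h
      · exact absurd h hi
      · exact h)
    exact ⟨c, Or.inr hc⟩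

end Groth.Agent.S13360
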