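import Groth.Statements.S13361
import Mathlib
import Groth.Agent.Lib.helper6.Cocyclic

set_option autoImplicit false
universe u
open ProCompl

namespace Groth.Agent.S13361

/-- A finite abelian group with a nonzero element contained in every nonzero subgroup is isomorphic to a
cyclic group of prime-power order Z/p^n. -/
theorem result {A : Type u} [AddCommGroup A] [Finite A]
    (a : A) (ha : a ≠ 0) (h : ∀ B : AddSubgroup A, B ≠ ⊥ → a ∈ B) :
    ∃ p n : ℕ, p.Prime ∧ Nonempty (A ≃+ ZMod (p ^ n)) := by
  classical
  have hfin : IsOfFinAddOrder a := isOfFinAddOrder_of_finite a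
  have hp := Groth.Agent.Lib.helper6.H6_cocyclic_addOrderOf_prime a ha hfin h
  letI : Fintype A := Fintype.ofFinite A
  have hcyc : IsAddCyclic A := by
    apply isAddCyclic_of_card_nsmul_eq_zero_le
    intro n hn
    obtain ⟨hf, hc⟩ := Groth.Agent.Lib.helper6.H6_cocyclic_torsion a ha hfin h n hn
    refine le_trans (le_of_eq ?_) hc
    rw [Nat.card_eq_fintype_card]
    symm
    apply Fintype.card_of_subtype
    intro x
    simp [AddMonoidHom.mem_ker]
  refine ⟨addOrderOf a, (Nat.card A).primeFactorsList.length, hp, ?_⟩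
  have hcard : Nat.card A = addOrderOf a ^ (Nat.card A).primeFactorsList.length := by
    apply Nat.eq_prime_pow_of_unique_prime_dvd Nat.card_pos.ne'
    intro d hd hdvd
    haveI : Fact d.Prime := ⟨hd⟩
    obtain ⟨x, hx⟩ := exists_prime_addOrderOf_dvd_card' d hdvd
    have hx0 : x ≠ 0 := by
      rintro rfl
      rw [addOrderOf_zero] at hx
      exact hd.one_lt.ne hx
    have hB : AddSubgroup.zmultiples x ≠ ⊥ := by
      intro hbot
      apply hx0
      have : x ∈ AddSubgroup.zmultiples x := AddSubgroup.mem_zmultiples _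
      rw [hbot] at this
      simpa using this
    obtain ⟨k, hk⟩ := AddSubgroup.mem_zmultiples_iff.mp (h _ hB)
    have hda : d • a = 0 := by
      rw [← hk, smul_comm, ← hx, addOrderOf_nsmul_eq_zero, smul_zero]
    have hdvd2 : addOrderOf a ∣ d := addOrderOf_dvd_of_nsmul_eq_zero hda
    rcases (Nat.dvd_prime hd).mp hdvd2 with h1 | h1
    · exact absurd h1 hp.one_lt.ne'
    · exact h1.symm
  have e := (zmodAddCyclicAddEquiv hcyc).symm
  rw [hcard] at e
  exact ⟨e⟩

end Groth.Agent.S13361
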