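import Groth.Statements.S13365
import Mathlib

set_option autoImplicit false
universe u
open ProCompl

namespace Groth.Agent.S13365

/-- The quotient of a profinite (compact, Hausdorff, totally disconnected) abelian topological group by
a compact subgroup is profinite. -/
theorem result {A : Type u} [AddCommGroup A] [TopologicalSpace A]
    [IsTopologicalAddGroup A] [CompactSpace A] [T2Space A] [TotallyDisconnectedSpace A]
    (B : AddSubgroup A) (hB : IsCompact (B : Set A)) :
    CompactSpace (A ⧸ B) ∧ T2Space (A ⧸ B) ∧ TotallyDisconnectedSpace (A ⧸ B) := by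
  have hBc : IsClosed (B : Set A) := hB.isClosed
  haveI : IsClosed (B : Set A) := hBc
  refine ⟨inferInstance, inferInstance, ?_⟩
  have key : ∀ w : A ⧸ B, w ≠ 0 → ∃ V : AddSubgroup (A ⧸ B), IsOpen (V : Set (A ⧸ B)) ∧ w ∉ V := by
    intro w hw
    obtain ⟨c, rfl⟩ := QuotientAddGroup.mk_surjective w
    have hc : c ∉ B := fun h => hw ((QuotientAddGroup.eq_zero_iff c).mpr h)
    have hK : IsClosed ((fun b => c + b) '' (B : Set A)) :=
      (hB.image (continuous_const.add continuous_id)).isClosed
    have h0 : (0 : A) ∈ ((fun b => c + b) '' (B : Set A))ᶜ := by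
      rintro ⟨b, hb, hcb⟩
      apply hc
      have : c = -b := eq_neg_of_add_eq_zero_left hcb
      rw [this]; exact B.neg_mem hb
    obtain ⟨U, hU⟩ :=
      ProfiniteGrp.exist_openNormalAddSubgroup_sub_open_nhds_of_zero hK.isOpen_compl h0
    refine ⟨U.toAddSubgroup.map (QuotientAddGroup.mk' B), ?_, ?_⟩
    · have := QuotientAddGroup.isOpenMap_coe (N := B) _ U.isOpen'
      rw [AddSubgroup.coe_map]
      exact this
    · rintro ⟨u, hu, huc⟩
      have : -c + u ∈ B := QuotientAddGroup.eq.mp huc.symm
      apply hU hu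
      exact ⟨-c + u, this, by show c + (-c + u) = u; abel⟩
  haveI : TotallySeparatedSpace (A ⧸ B) := by
    rw [totallySeparatedSpace_iff_exists_isClopen]
    intro x y hxy
    obtain ⟨V, hVo, hV⟩ := key (x - y) (sub_ne_zero.mpr hxy)
    have hVc : IsClopen (V : Set (A ⧸ B)) := ⟨V.isClosed_of_isOpen hVo, hVo⟩
    refine ⟨(fun z => z - x) ⁻¹' V, hVc.preimage (continuous_id.sub continuous_const), ?_, ?_⟩
    · simp [V.zero_mem]
    · intro h
      apply hV
      have h1 : y - x ∈ V := h
      have := V.neg_mem h1
      simpa using this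
  infer_instance

end Groth.Agent.S13365
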