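import Groth.Statements.S13373
import Mathlib
import Groth.Agent.Lib.helper7.GaCharPS

set_option autoImplicit false
universe u
open GaDual

namespace Groth.Agent.S13373

/-- Over a commutative algebra A of prime characteristic p, the formal characters (power series χ with
constant term 1 and χ(X+Y) = χ(X)χ(Y)) are exactly the infinite products ∏_n exp_p(a_n X^(p^n)) with
a_n^p = 0, where exp_p(Y) = Σ_{j<p} Y^j/j!; the infinite product is expressed through its
truncations: χ mod X^(p^m) equals the finite product over n < m. -/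
theorem result (p : ℕ) [Fact p.Prime] (A : Type u) [CommRing A] [CharP A p]
    (χ : PowerSeries A) :
    (PowerSeries.constantCoeff χ = 1 ∧
      PowerSeries.subst (MvPowerSeries.X 0 + MvPowerSeries.X 1 : MvPowerSeries (Fin 2) A) χ =
        PowerSeries.subst (MvPowerSeries.X 0 : MvPowerSeries (Fin 2) A) χ *
          PowerSeries.subst (MvPowerSeries.X 1 : MvPowerSeries (Fin 2) A) χ) ↔
      ∃ a : ℕ → A, (∀ n, a n ^ p = 0) ∧ ∀ m : ℕ,
        PowerSeries.trunc (p ^ m) χ = ∏ n ∈ Finset.range m, ∑ j ∈ Finset.range p,
          Polynomial.C (Ring.inverse (j.factorial : A) * a n ^ j) * Polynomial.X ^ (j * p ^ n) := by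
  classical
  have hp : p.Prime := Fact.out
  rw [Groth.Agent.Lib.helper7.H7_ps_char_iff]
  have htrunc : ∀ m : ℕ, PowerSeries.trunc (p ^ m) χ =
      ∑ i ∈ Finset.range (p ^ m), Polynomial.C (PowerSeries.coeff i χ) * Polynomial.X ^ i := by
    intro m
    ext k
    rw [PowerSeries.coeff_trunc, Polynomial.finsetSum_coeff]
    simp only [Polynomial.coeff_C_mul, Polynomial.coeff_X_pow]
    by_cases hk : k < p ^ m
    · rw [if_pos hk, Finset.sum_eq_single k]
      · simp
      · intro b _ hb; rw [if_neg (Ne.symm hb), mul_zero]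
      · intro h; exfalso; exact h (Finset.mem_range.2 hk)
    · rw [if_neg hk]
      symm
      apply Finset.sum_eq_zero
      intro b hb
      rw [Finset.mem_range] at hb
      rw [if_neg (by omega), mul_zero]
  constructor
  · rintro ⟨h0, hrel⟩
    have hc0 : PowerSeries.coeff 0 χ = 1 := by
      rw [PowerSeries.coeff_zero_eq_constantCoeff_apply, h0]
    refine ⟨fun k => PowerSeries.coeff (p ^ k) χ, ?_, ?_⟩
    · intro k
      exact (Groth.Agent.Lib.helper7.H7_char_core p A (fun m => PowerSeries.coeff m χ) (k + 1) hc0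
        (fun i j _ _ => hrel i j)).1 k (Nat.lt_succ_self k)
    · intro m
      rw [htrunc]
      exact (Groth.Agent.Lib.helper7.H7_char_core p A (fun m => PowerSeries.coeff m χ) m hc0
        (fun i j _ _ => hrel i j)).2 m le_rfl
  · rintro ⟨a, ha, hm⟩
    have hm' : ∀ m : ℕ, PowerSeries.trunc (p ^ m) χ =
        ∏ n ∈ Finset.range m, Groth.Agent.Lib.helper7.H7_E p (a n) n := hm
    constructor
    · have h1 := hm' 0
      have h2 := congrArg (fun q : Polynomial A => q.coeff 0) h1
      simp only [pow_zero, Finset.range_zero, Finset.prod_empty, PowerSeries.coeff_trunc] at h2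
      simpa using h2
    · intro i j
      obtain ⟨m, hmij⟩ : ∃ m, i + j < p ^ m := ⟨i + j, Nat.lt_pow_self hp.one_lt⟩
      have hP := (Groth.Agent.Lib.helper7.H7_char_iff _).1
        (Groth.Agent.Lib.helper7.H7_prodE_char p a ha m).2 i j
      rw [← hm' m, PowerSeries.coeff_trunc, PowerSeries.coeff_trunc, PowerSeries.coeff_trunc,
        if_pos hmij, if_pos (by omega), if_pos (by omega)] at hP
      exact hP

end Groth.Agent.S13373
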