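import Groth.Statements.S13374
import Mathlib
import Groth.Agent.Lib.helper7.GaCharP

set_option autoImplicit false
universe u
open GaDual

namespace Groth.Agent.S13374

/-- Over a commutative algebra A of prime characteristic p, every character of the kernel α_(p^n) of the
n-th Frobenius of the additive group — i.e. every polynomial f of degree < p^n with f(0) = 1 and
f(X+Y) ≡ f(X)f(Y) modulo (X^(p^n), Y^(p^n)) — is the product ∏_{i<n} exp_p(a_i X^(p^i)) for some a_i
with a_i^p = 0, exp_p(Y) = Σ_{j<p} Y^j/j!. -/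
theorem result (p : ℕ) [Fact p.Prime] (A : Type u) [CommRing A] [CharP A p]
    (n : ℕ) (f : Polynomial A) (hdeg : f.natDegree < p ^ n) (h0 : f.eval 0 = 1)
    (hmul : Ideal.Quotient.mk
        (Ideal.span {(MvPolynomial.X 0 ^ p ^ n : MvPolynomial (Fin 2) A), MvPolynomial.X 1 ^ p ^ n})
        (Polynomial.aeval (MvPolynomial.X 0 + MvPolynomial.X 1 : MvPolynomial (Fin 2) A) f) =
      Ideal.Quotient.mk
        (Ideal.span {(MvPolynomial.X 0 ^ p ^ n : MvPolynomial (Fin 2) A), MvPolynomial.X 1 ^ p ^ n})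
        (Polynomial.aeval (MvPolynomial.X 0 : MvPolynomial (Fin 2) A) f *
          Polynomial.aeval (MvPolynomial.X 1 : MvPolynomial (Fin 2) A) f)) :
    ∃ a : ℕ → A, (∀ i, a i ^ p = 0) ∧
      f = ∏ i ∈ Finset.range n, ∑ j ∈ Finset.range p,
          Polynomial.C (Ring.inverse (j.factorial : A) * a i ^ j) * Polynomial.X ^ (j * p ^ i) := by
  classical
  have hp : p.Prime := Fact.out
  have hc0 : f.coeff 0 = 1 := by rw [Polynomial.coeff_zero_eq_eval_zero, h0]
  have hrel : ∀ i j : ℕ, i < p ^ n → j < p ^ n →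
      ((i + j).choose i : A) * f.coeff (i + j) = f.coeff i * f.coeff j := by
    intro i j hi hj
    rw [← Groth.Agent.Lib.helper7.H7_coeff_aeval_add, ← Groth.Agent.Lib.helper7.H7_coeff_aeval_mul]
    exact Groth.Agent.Lib.helper7.H7_coeff_eq_of_mk_eq (p ^ n) _ _ hmul i j hi hj
  obtain ⟨h1, h2⟩ := Groth.Agent.Lib.helper7.H7_char_core p A f.coeff n hc0 hrel
  refine ⟨fun i => if i < n then f.coeff (p ^ i) else 0, ?_, ?_⟩
  · intro i
    by_cases hi : i < n
    · simp only [if_pos hi]; exact h1 i hi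
    · simp only [if_neg hi]; exact zero_pow hp.ne_zero
  · have hf : f = ∑ m ∈ Finset.range (p ^ n), Polynomial.C (f.coeff m) * Polynomial.X ^ m := by
      conv_lhs => rw [Polynomial.as_sum_range' f (p ^ n) hdeg]
      apply Finset.sum_congr rfl
      intro m _
      rw [Polynomial.C_mul_X_pow_eq_monomial]
    refine hf.trans ((h2 n le_rfl).trans ?_)
    apply Finset.prod_congr rfl
    intro i hi
    rw [Finset.mem_range] at hi
    simp only [if_pos hi]
    rfl

end Groth.Agent.S13374
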