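import Groth.Statements.S13378
import Mathlib
import Groth.Agent.Lib.helper6.ProfComp
import Groth.Agent.Lib.helper6.ProfCompSub

set_option autoImplicit false
universe u
open ProCompl

namespace Groth.Agent.S13378

/-- For an abelian group A (written multiplicatively, discrete) and a subgroup A' such that the quotient
A/A' has no nontrivial divisible element and its torsion elements are killed by one positive
integer, the map induced on profinite completions by the inclusion of A' in A is injective. (The
published statement is for topological abelian groups in which every nA is open, with completions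
formed from open subgroups of finite index; this row is the case of the discrete topology.) -/
theorem result (A : Type u) [CommGroup A] (A' : Subgroup A)
    (hdiv : ∀ x : A ⧸ A', (∀ n : ℕ, 0 < n → ∃ y : A ⧸ A', y ^ n = x) → x = 1)
    (htors : ∃ N : ℕ, 0 < N ∧ ∀ x : A ⧸ A', IsOfFinOrder x → x ^ N = 1) :
    Function.Injective (ProfiniteGrp.profiniteCompletion.map (GrpCat.ofHom A'.subtype)).hom := by
  classical
  obtain ⟨N, hN, htors'⟩ := htors
  set ι : A' →* A := A'.subtype with hι
  set I := ProfiniteGrp.profiniteCompletion.map (GrpCat.ofHom ι) with hI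
  rw [injective_iff_map_eq_one]
  intro y hy
  apply Subtype.ext
  funext H'
  show y.1 H' = 1
  obtain ⟨H, hHfin, hH⟩ := Groth.Agent.Lib.helper6.H6_exists_finiteIndex_inter_le A' H'.toSubgroup N hN htors'
  let Hn : FiniteIndexNormalSubgroup A :=
    { toSubgroup := H
      isNormal' := inferInstance
      isFiniteIndex' := hHfin }
  have hle : Hn.comap ι ≤ H' := by
    intro a ha
    exact hH a ha
  have hcompat := y.2 (CategoryTheory.homOfLE hle)
  have hcoord := Groth.Agent.Lib.helper6.H6_map_coord ι Hn y
  have hy1 : (I.hom y).1 Hn = 1 := by
    rw [hy]; rfl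
  rw [hy1] at hcoord
  obtain ⟨a', ha'⟩ := QuotientGroup.mk_surjective (s := (Hn.comap ι).toSubgroup) (y.1 (Hn.comap ι))
  rw [← ha'] at hcoord
  have hmem : ι a' ∈ H := by
    have : (QuotientGroup.mk (ι a') : A ⧸ Hn.toSubgroup) = 1 := hcoord.symm
    exact (QuotientGroup.eq_one_iff _).mp this
  have h1 : y.1 (Hn.comap ι) = 1 := by
    rw [← ha']
    exact (QuotientGroup.eq_one_iff _).mpr hmem
  rw [← hcompat, h1]
  rfl

end Groth.Agent.S13378
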