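import Groth.Statements.S13379
import Mathlib
import Groth.Agent.Lib.helper6.ProfComp

set_option autoImplicit false
universe u
open ProCompl

namespace Groth.Agent.S13379

/-- Profinite completion is right exact: for an abelian group A (written multiplicatively, discrete) and
a subgroup A', the map on profinite completions induced by A → A/A' is surjective and its kernel is
the image of the completion of A'. (The published statement is right-exactness for topological
abelian groups with completions formed from open subgroups of finite index; this row is the case of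
the discrete topology.) -/
theorem result (A : Type u) [CommGroup A] (A' : Subgroup A) :
    Function.Surjective (ProfiniteGrp.profiniteCompletion.map (GrpCat.ofHom (QuotientGroup.mk' A'))).hom ∧
      (ProfiniteGrp.profiniteCompletion.map (GrpCat.ofHom (QuotientGroup.mk' A'))).hom.toMonoidHom.ker =
        (ProfiniteGrp.profiniteCompletion.map (GrpCat.ofHom A'.subtype)).hom.toMonoidHom.range := by
  classical
  set q : A →* A ⧸ A' := QuotientGroup.mk' A' with hq
  set ι : A' →* A := A'.subtype with hι
  set Q := ProfiniteGrp.profiniteCompletion.map (GrpCat.ofHom q) with hQ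
  set I := ProfiniteGrp.profiniteCompletion.map (GrpCat.ofHom ι) with hI
  have hQeta : ∀ a : A, Q.hom (ProfiniteGrp.ProfiniteCompletion.etaFn (GrpCat.of A) a) =
      ProfiniteGrp.ProfiniteCompletion.etaFn (GrpCat.of (A ⧸ A')) (q a) :=
    fun a => Groth.Agent.Lib.helper6.H6_map_etaFn q a
  have hIeta : ∀ a : A', I.hom (ProfiniteGrp.ProfiniteCompletion.etaFn (GrpCat.of A') a) =
      ProfiniteGrp.ProfiniteCompletion.etaFn (GrpCat.of A) (ι a) :=
    fun a => Groth.Agent.Lib.helper6.H6_map_etaFn ι a
  have hQcont : Continuous Q.hom := Q.hom.continuous_toFun
  have hIcont : Continuous I.hom := I.hom.continuous_toFun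
  have hIclosed : IsClosed (Set.range I.hom) := (isCompact_range hIcont).isClosed
  constructor
  · -- surjectivity
    have hclosed : IsClosed (Set.range Q.hom) := (isCompact_range hQcont).isClosed
    have hdense : Dense (Set.range Q.hom) := by
      refine (ProfiniteGrp.ProfiniteCompletion.denseRange (G := GrpCat.of (A ⧸ A'))).mono ?_
      rintro _ ⟨b, rfl⟩
      obtain ⟨a, rfl⟩ := QuotientGroup.mk'_surjective A' b
      exact ⟨_, hQeta a⟩
    intro y
    have : y ∈ closure (Set.range Q.hom) := hdense y
    rwa [hclosed.closure_eq] at this
  · ext x
    simp only [MonoidHom.mem_ker, MonoidHom.mem_range]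
    constructor
    · intro hx
      -- x ∈ closure (eta '' A') ⊆ range I
      have hxc : x ∈ closure (ProfiniteGrp.ProfiniteCompletion.etaFn (GrpCat.of A) '' (A' : Set A)) := by
        apply Groth.Agent.Lib.helper6.H6_mem_closure
        intro H
        obtain ⟨b, hb⟩ := QuotientGroup.mk_surjective (s := H.toSubgroup) (x.1 H)
        let K : FiniteIndexNormalSubgroup (A ⧸ A') :=
          { toSubgroup := H.toSubgroup.map q
            isNormal' := inferInstance
            isFiniteIndex' := ⟨by
              have h1 := Subgroup.index_map_dvd H.toSubgroup (f := q) (QuotientGroup.mk'_surjective A')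
              intro h0
              rw [h0] at h1
              exact Subgroup.FiniteIndex.index_ne_zero (zero_dvd_iff.mp h1)⟩ }
        have hle : H ≤ K.comap q := by
          intro a ha
          exact ⟨a, ha, rfl⟩
        have hcompat := x.2 (CategoryTheory.homOfLE hle)
        have hcoord := Groth.Agent.Lib.helper6.H6_map_coord q K x
        have hx1 : (Q.hom x).1 K = 1 := by
          have : Q.hom x = 1 := hx
          rw [this]; rfl
        rw [hx1] at hcoord
        have hb2 : x.1 (K.comap q) = (QuotientGroup.mk b : A ⧸ (K.comap q).toSubgroup) := by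
          rw [← hcompat, ← hb]; rfl
        rw [hb2] at hcoord
        have hqb : q b ∈ H.toSubgroup.map q := by
          have : (QuotientGroup.mk (q b) : (A ⧸ A') ⧸ K.toSubgroup) = 1 := hcoord.symm
          exact (QuotientGroup.eq_one_iff _).mp this
        obtain ⟨h, hh, hhq⟩ := hqb
        refine ⟨b * h⁻¹, ?_, ?_⟩
        · have : q (b * h⁻¹) = 1 := by rw [map_mul, map_inv, hhq, mul_inv_cancel]
          exact (QuotientGroup.eq_one_iff _).mp this
        · rw [← hb]
          apply QuotientGroup.eq.mpr
          have : b⁻¹ * (b * h⁻¹) = h⁻¹ := by group
          rw [this]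
          exact H.toSubgroup.inv_mem hh
      have hsub : closure (ProfiniteGrp.ProfiniteCompletion.etaFn (GrpCat.of A) '' (A' : Set A))
          ⊆ Set.range I.hom := by
        apply hIclosed.closure_subset_iff.mpr
        rintro _ ⟨a, ha, rfl⟩
        exact ⟨_, hIeta ⟨a, ha⟩⟩
      exact hsub hxc
    · rintro ⟨y, rfl⟩
      have h1 : Continuous (fun y => Q.hom (I.hom y)) := hQcont.comp hIcont
      have h2 : Continuous (fun _ : ProfiniteGrp.ProfiniteCompletion.completion (GrpCat.of A') =>
          (1 : ProfiniteGrp.ProfiniteCompletion.completion (GrpCat.of (A ⧸ A')))) := continuous_const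
      have := (ProfiniteGrp.ProfiniteCompletion.denseRange (G := GrpCat.of A')).equalizer h1 h2 (by
        funext a
        simp only [Function.comp_apply]
        rw [hIeta, hQeta]
        have : q (ι a) = 1 := (QuotientGroup.eq_one_iff _).mpr a.2
        rw [this]
        rfl)
      exact congrFun this y

end Groth.Agent.S13379
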