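import Groth.Statements.S13386
import Groth.Statements.S13386
import Mathlib

set_option autoImplicit false
universe u
open scoped TensorProduct
open ZeroCyc

namespace Groth.Agent.S13386

/-- Let A' = T⁻¹A be a localization of the ring A, M an A-module and M' = A' ⊗_A M. In the divided power
algebra Γ_{A'}(M') the A'-span of the d-th divided powers γ_d(1 ⊗ m), m ∈ M, is the A'-span of
γ_d(M'). (The published statement phrases this as the surjectivity of the natural map from (γ_d(M))
⊗_A A' onto (γ_d(M')); its further clause through the base-change isomorphism Γ_A(M) ⊗_A A' ≅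
Γ_{A'}(M') is not restated here.) -/
theorem result {A A' M : Type u} [CommRing A] [CommRing A']
    [Algebra A A'] (T : Submonoid A) [IsLocalization T A'] [AddCommGroup M] [Module A M] (d : ℕ) :
    Submodule.span A' (Set.range fun m : M => DividedPowerAlgebra.dp A' d ((1 : A') ⊗ₜ[A] m)) =
      Submodule.span A' (Set.range (DividedPowerAlgebra.dp A' d (M := A' ⊗[A] M))) := by
  have key : ∀ z : A' ⊗[A] M, ∃ (t : T) (m : M),
      z = (IsLocalization.mk' A' (1 : A) t) • ((1 : A') ⊗ₜ[A] m) := by
    intro z
    induction z using TensorProduct.induction_on with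
    | zero => exact ⟨1, 0, by simp⟩
    | tmul a' m =>
      obtain ⟨a, t, rfl⟩ := IsLocalization.exists_mk'_eq T a'
      refine ⟨t, a • m, ?_⟩
      rw [TensorProduct.smul_tmul', TensorProduct.tmul_smul, TensorProduct.smul_tmul',
        smul_eq_mul, mul_one, Algebra.smul_def, ← IsLocalization.mk'_eq_mul_mk'_one]
    | add x y hx hy =>
      obtain ⟨t, m, rfl⟩ := hx
      obtain ⟨t', m', rfl⟩ := hy
      refine ⟨t * t', (t' : A) • m + (t : A) • m', ?_⟩
      rw [TensorProduct.tmul_add, smul_add]
      congr 1
      · rw [TensorProduct.tmul_smul, smul_comm, TensorProduct.smul_tmul', TensorProduct.smul_tmul',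
          TensorProduct.smul_tmul']
        congr 1
        simp only [smul_eq_mul, mul_one, Algebra.smul_def]
        rw [← IsLocalization.mk'_eq_mul_mk'_one (M := T) (S := A') (t' : A) (t * t'),
          IsLocalization.mk'_eq_iff_eq]
        simp [mul_comm]
      · rw [TensorProduct.tmul_smul, smul_comm, TensorProduct.smul_tmul', TensorProduct.smul_tmul',
          TensorProduct.smul_tmul']
        congr 1
        simp only [smul_eq_mul, mul_one, Algebra.smul_def]
        rw [← IsLocalization.mk'_eq_mul_mk'_one (M := T) (S := A') (t : A) (t * t'),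
          IsLocalization.mk'_eq_iff_eq]
        simp [mul_comm]
  apply le_antisymm
  · apply Submodule.span_mono
    rintro w ⟨m, rfl⟩
    exact ⟨_, rfl⟩
  · rw [Submodule.span_le]
    rintro w ⟨z, rfl⟩
    obtain ⟨t, m, rfl⟩ := key z
    rw [DividedPowerAlgebra.dp_smul]
    exact Submodule.smul_mem _ _ (Submodule.subset_span ⟨m, rfl⟩)

end Groth.Agent.S13386
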