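import Groth.Statements.S13387
import Groth.Statements.S13387
import Mathlib

set_option autoImplicit false
universe u
open ZeroCyc

namespace Groth.Agent.S13387

/-- Let A be a commutative ring, M an A-module and d ≥ 0. Suppose that at each prime p of A either k(p)
has d or more elements, or the localisation M_p is a cyclic A_p-module. Then the degree-d piece
Γ^d_A(M) of the divided power algebra Γ_A(M) is spanned over A by the d-th divided powers γ_d(m), m
∈ M. -/
theorem result {A M : Type u} [CommRing A] [AddCommGroup M]
    [Module A M] (d : ℕ)
    (h : ∀ p : PrimeSpectrum A, (d : Cardinal) ≤ Cardinal.mk p.asIdeal.ResidueField ∨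
      ∃ x : LocalizedModule p.asIdeal.primeCompl M, Submodule.span (Localization.AtPrime p.asIdeal) {x} = ⊤) :
    Submodule.span A (Set.range (DividedPowerAlgebra.dp A d : M → DividedPowerAlgebra A M)) =
      PolLaw.gammaPiece A M d := by
  classical
  -- adjugate Vandermonde lemma
  have hvdm : ∀ (e : ℕ) (v w : Fin (e + 1) → A) (T : Submodule A (DividedPowerAlgebra A M))
      (c : Fin (e + 1) → DividedPowerAlgebra A M),
      (∀ i : Fin (e + 1), ∑ j : Fin (e + 1), (v i ^ (j : ℕ) * w i ^ (e - (j : ℕ))) • c j ∈ T) →
      ∀ j, (Matrix.projVandermonde v w).det • c j ∈ T := by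
    intro e v w T c hc j
    let W : Matrix (Fin (e + 1)) (Fin (e + 1)) A := Matrix.projVandermonde v w
    have hadj : W.adjugate * W = W.det • (1 : Matrix (Fin (e + 1)) (Fin (e + 1)) A) :=
      Matrix.adjugate_mul W
    have hcj : W.det • c j = ∑ i : Fin (e + 1), (W.adjugate j i) •
        (∑ l : Fin (e + 1), (v i ^ (l : ℕ) * w i ^ (e - (l : ℕ))) • c l) := by
      simp_rw [Finset.smul_sum, smul_smul]
      rw [Finset.sum_comm]
      have h4 : ∀ l : Fin (e + 1), ∑ i : Fin (e + 1),
          (W.adjugate j i * (v i ^ (l : ℕ) * w i ^ (e - (l : ℕ)))) • c l =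
          ((W.adjugate * W) j l) • c l := by
        intro l
        rw [← Finset.sum_smul, Matrix.mul_apply]
        congr 1
        refine Finset.sum_congr rfl fun i _ => ?_
        simp only [W, Matrix.projVandermonde_apply, Fin.val_rev]
        congr 3
        omega
      simp_rw [h4, hadj, Matrix.smul_apply, Matrix.one_apply, smul_eq_mul, mul_ite, mul_one,
        mul_zero, ite_smul, zero_smul]
      simp
    show W.det • c j ∈ T
    rw [hcj]
    exact Submodule.sum_mem _ (fun i _ => Submodule.smul_mem _ _ (hc i))
  have hdetp : ∀ (P : Ideal A) [P.IsPrime] (e : ℕ) (v w : Fin (e + 1) → A),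
      (∀ i j : Fin (e + 1), i < j → v j * w i - v i * w j ∉ P) →
      (Matrix.projVandermonde v w).det ∉ P := by
    intro P _ e v w hvw
    rw [Matrix.det_projVandermonde]
    intro hmem
    rw [Ideal.IsPrime.prod_mem_iff] at hmem
    obtain ⟨i, _, hi⟩ := hmem
    rw [Ideal.IsPrime.prod_mem_iff] at hi
    obtain ⟨j, hj, hij⟩ := hi
    exact hvw i j (Finset.mem_Ioi.mp hj) hij
  -- key local statement
  have key : ∀ (p : PrimeSpectrum A) (n : ℕ) (k : Fin n → ℕ) (m : Fin n → M), ∑ i, k i = d →
      ∃ s : A, s ∉ p.asIdeal ∧ s • ∏ i, DividedPowerAlgebra.dp A (k i) (m i) ∈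
        Submodule.span A (Set.range (DividedPowerAlgebra.dp A d : M → DividedPowerAlgebra A M)) := by
    intro p n k m hk
    haveI : p.asIdeal.IsPrime := p.isPrime
    rcases h p with hcard | ⟨x, hxgen⟩
    · -- large residue field
      obtain ⟨g⟩ : Nonempty (Fin d ↪ p.asIdeal.ResidueField) := by
        have h1 : Cardinal.lift.{u} (Cardinal.mk (Fin d)) ≤
            Cardinal.lift.{0} (Cardinal.mk p.asIdeal.ResidueField) := by
          simpa using hcard
        exact Cardinal.lift_mk_le'.mp h1
      have hrep : ∀ i : Fin d, ∃ (a : A) (s : p.asIdeal.primeCompl),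
          g i = IsLocalRing.residue (Localization.AtPrime p.asIdeal)
            (IsLocalization.mk' (Localization.AtPrime p.asIdeal) a s) := by
        intro i
        obtain ⟨r, hr⟩ := IsLocalRing.residue_surjective (g i)
        obtain ⟨a, s, rfl⟩ := IsLocalization.exists_mk'_eq p.asIdeal.primeCompl r
        exact ⟨a, s, hr.symm⟩
      choose a s hg using hrep
      have hdist : ∀ i j : Fin d, i ≠ j → a j * (s i : A) - a i * (s j : A) ∉ p.asIdeal := by
        intro i j hij hmem
        have h1 : IsLocalization.mk' (Localization.AtPrime p.asIdeal)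
            (a j * (s i : A) - a i * (s j : A)) (s j * s i) ∈
            IsLocalRing.maximalIdeal (Localization.AtPrime p.asIdeal) :=
          (IsLocalization.AtPrime.mk'_mem_maximal_iff (Localization.AtPrime p.asIdeal)
            p.asIdeal _ _).mpr hmem
        rw [IsLocalization.mk'_sub, ← IsLocalRing.residue_eq_zero_iff, map_sub, sub_eq_zero,
          ← hg, ← hg] at h1
        exact hij (g.injective h1).symm
      -- two-variable local lemma
      have h2 : ∀ (a' b' : ℕ), a' + b' ≤ d → ∀ m₁ m₂ : M, ∃ t : A, t ∉ p.asIdeal ∧
          t • (DividedPowerAlgebra.dp A a' m₁ * DividedPowerAlgebra.dp A b' m₂) ∈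
          Submodule.span A (Set.range
            (DividedPowerAlgebra.dp A (a' + b') : M → DividedPowerAlgebra A M)) := by
        intro a' b' hab m₁ m₂
        -- nodes
        let v : Fin (a' + b' + 1) → A := fun i =>
          if hi : (i : ℕ) < a' + b' then a ⟨i, by omega⟩ else 1
        let w : Fin (a' + b' + 1) → A := fun i =>
          if hi : (i : ℕ) < a' + b' then (s ⟨i, by omega⟩ : A) else 0
        let c : Fin (a' + b' + 1) → DividedPowerAlgebra A M :=
          fun j => DividedPowerAlgebra.dp A (j : ℕ) m₂ *
            DividedPowerAlgebra.dp A (a' + b' - (j : ℕ)) m₁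
        have h5 := hvdm (a' + b') v w
          (Submodule.span A (Set.range
            (DividedPowerAlgebra.dp A (a' + b') : M → DividedPowerAlgebra A M))) c ?_
          ⟨b', by omega⟩
        · refine ⟨_, hdetp p.asIdeal (a' + b') v w ?_, ?_⟩
          · intro i j hij
            have hi : (i : ℕ) < a' + b' := by have := j.2; omega
            by_cases hj : (j : ℕ) < a' + b'
            · simp only [v, w, dif_pos hi, dif_pos hj]
              apply hdist
              intro hEq
              have := congrArg Fin.val hEq
              simp only at this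
              omega
            · simp only [v, w, dif_pos hi, dif_neg hj]
              rw [one_mul, mul_zero, sub_zero]
              exact (s _).2
          · simp only [c] at h5
            rw [show a' + b' - b' = a' by omega, mul_comm (DividedPowerAlgebra.dp A b' m₂)] at h5
            exact h5
        · intro i
          have h6 : ∑ j : Fin (a' + b' + 1), (v i ^ (j : ℕ) * w i ^ (a' + b' - (j : ℕ))) • c j =
              DividedPowerAlgebra.dp A (a' + b') (v i • m₂ + w i • m₁) := by
            rw [DividedPowerAlgebra.dp_add, Finset.Nat.sum_antidiagonal_eq_sum_range_succ_mk,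
              Finset.sum_range]
            refine Finset.sum_congr rfl fun j _ => ?_
            simp only [c]
            rw [DividedPowerAlgebra.dp_smul, DividedPowerAlgebra.dp_smul, smul_mul_smul_comm]
          rw [h6]
          exact Submodule.subset_span ⟨_, rfl⟩
      have hmain : ∀ (n : ℕ) (k : Fin n → ℕ) (m : Fin n → M), (∑ i, k i) ≤ d →
          ∃ t : A, t ∉ p.asIdeal ∧ t • ∏ i, DividedPowerAlgebra.dp A (k i) (m i) ∈
            Submodule.span A (Set.range
              (DividedPowerAlgebra.dp A (∑ i, k i) : M → DividedPowerAlgebra A M)) := by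
        intro n
        induction n with
        | zero =>
          intro k m _
          refine ⟨1, fun h1 => (inferInstance : p.asIdeal.IsPrime).ne_top
            ((Ideal.eq_top_iff_one _).mpr h1), ?_⟩
          simp only [Finset.univ_eq_empty, Finset.prod_empty, Finset.sum_empty, one_smul]
          exact Submodule.subset_span ⟨0, DividedPowerAlgebra.dp_zero⟩
        | succ n ih =>
          intro k m hk
          rw [Fin.sum_univ_succ] at hk
          obtain ⟨t₁, ht₁, h1⟩ := ih (fun i => k i.succ) (fun i => m i.succ) (by omega)
          have hP : ∀ y ∈ Submodule.span A (Set.range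
              (DividedPowerAlgebra.dp A (∑ i : Fin n, k i.succ) : M → DividedPowerAlgebra A M)),
              ∃ t : A, t ∉ p.asIdeal ∧ t • (DividedPowerAlgebra.dp A (k 0) (m 0) * y) ∈
                Submodule.span A (Set.range (DividedPowerAlgebra.dp A
                  (k 0 + ∑ i : Fin n, k i.succ) : M → DividedPowerAlgebra A M)) := by
            intro y hy
            induction hy using Submodule.span_induction with
            | mem y hy =>
              obtain ⟨m', rfl⟩ := hy
              exact h2 _ _ hk _ _
            | zero =>
              exact ⟨1, fun h1 => (inferInstance : p.asIdeal.IsPrime).ne_top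
                ((Ideal.eq_top_iff_one _).mpr h1), by simp⟩
            | add y z _ _ hy hz =>
              obtain ⟨t, ht, hty⟩ := hy
              obtain ⟨t', ht', htz⟩ := hz
              refine ⟨t * t', fun hmem => ?_, ?_⟩
              · rcases (inferInstance : p.asIdeal.IsPrime).mem_or_mem hmem with h' | h'
                · exact ht h'
                · exact ht' h'
              · rw [mul_add, smul_add]
                refine add_mem ?_ ?_
                · rw [mul_comm t t', mul_smul]
                  exact Submodule.smul_mem _ _ hty
                · rw [mul_smul]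
                  exact Submodule.smul_mem _ _ htz
            | smul r y _ hy =>
              obtain ⟨t, ht, hty⟩ := hy
              refine ⟨t, ht, ?_⟩
              rw [mul_smul_comm, smul_comm]
              exact Submodule.smul_mem _ _ hty
          obtain ⟨t₂, ht₂, h3⟩ := hP _ h1
          refine ⟨t₂ * t₁, fun hmem => ?_, ?_⟩
          · rcases (inferInstance : p.asIdeal.IsPrime).mem_or_mem hmem with h' | h'
            · exact ht₂ h'
            · exact ht₁ h'
          · rw [Fin.prod_univ_succ, Fin.sum_univ_succ, mul_smul]
            rw [mul_smul_comm] at h3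
            exact h3
      obtain ⟨t, ht, h3⟩ := hmain n k m (by omega)
      rw [hk] at h3
      exact ⟨t, ht, h3⟩
    · -- cyclic case
      induction x using LocalizedModule.induction_on with
      | h m₀ s₀ =>
        have hrep : ∀ m' : M, ∃ (t : A) (b : A), t ∉ p.asIdeal ∧ t • m' = b • m₀ := by
          intro m'
          have hmem : LocalizedModule.mk m' (1 : p.asIdeal.primeCompl) ∈
              Submodule.span (Localization.AtPrime p.asIdeal)
                {LocalizedModule.mk m₀ s₀} := by
            rw [hxgen]; trivial
          obtain ⟨r, hr⟩ := Submodule.mem_span_singleton.mp hmem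
          induction r using Localization.induction_on with
          | H y =>
            obtain ⟨b, t⟩ := y
            rw [LocalizedModule.mk_smul_mk, LocalizedModule.mk_eq] at hr
            obtain ⟨u, hu⟩ := hr
            refine ⟨(u : A) * ((t : A) * (s₀ : A)), (u : A) * b, ?_, ?_⟩
            · exact (u * (t * s₀)).2
            · have hu' : (u : A) • ((1 : A) • (b • m₀)) = (u : A) • (((t : A) * (s₀ : A)) • m') := by
                simpa [Submonoid.smul_def] using hu
              rw [one_smul] at hu'
              rw [mul_smul, mul_smul, mul_smul, hu', mul_smul]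
        choose t b ht htb using hrep
        refine ⟨∏ i, t (m i) ^ k i, fun hmem => ?_, ?_⟩
        · rw [Ideal.IsPrime.prod_mem_iff] at hmem
          obtain ⟨i, _, hi⟩ := hmem
          exact ht _ ((inferInstance : p.asIdeal.IsPrime).mem_of_pow_mem _ hi)
        · rw [← Finset.prod_smul]
          have h1 : ∀ i, t (m i) ^ k i • DividedPowerAlgebra.dp A (k i) (m i) =
              b (m i) ^ k i • DividedPowerAlgebra.dp A (k i) m₀ := by
            intro i
            rw [← DividedPowerAlgebra.dp_smul, htb, DividedPowerAlgebra.dp_smul]
          simp_rw [h1]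
          rw [Finset.prod_smul, DividedPowerAlgebra.prod_dp, hk, ← nsmul_eq_mul]
          exact Submodule.smul_mem _ _ (Submodule.smul_of_tower_mem _ _
            (Submodule.subset_span ⟨m₀, rfl⟩))
  apply le_antisymm
  · rw [Submodule.span_le]
    rintro _ ⟨m, rfl⟩
    exact Submodule.subset_span ⟨1, fun _ => d, fun _ => m, by simp, by simp⟩
  · unfold PolLaw.gammaPiece
    rw [Submodule.span_le]
    rintro _ ⟨n, k, m, hk, rfl⟩
    by_contra hy
    have hI : (Submodule.span A (Set.range
        (DividedPowerAlgebra.dp A d : M → DividedPowerAlgebra A M))).colon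
        ({∏ i, DividedPowerAlgebra.dp A (k i) (m i)} : Set (DividedPowerAlgebra A M)) ≠ ⊤ := by
      intro htop
      apply hy
      have h1 : (1 : A) ∈ (Submodule.span A (Set.range
        (DividedPowerAlgebra.dp A d : M → DividedPowerAlgebra A M))).colon
        ({∏ i, DividedPowerAlgebra.dp A (k i) (m i)} : Set (DividedPowerAlgebra A M)) := by
        rw [htop]; trivial
      rw [Submodule.mem_colon_singleton, one_smul] at h1
      exact h1
    obtain ⟨P, hPmax, hIP⟩ := Ideal.exists_le_maximal _ hI
    obtain ⟨s, hs, hsy⟩ := key ⟨P, hPmax.isPrime⟩ n k m hk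
    exact hs (hIP (Submodule.mem_colon_singleton.mpr hsy))

end Groth.Agent.S13387
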