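import Groth.Statements.S13389
import Groth.Statements.S13389
import Mathlib

set_option autoImplicit false
universe u
open ZeroCyc

namespace Groth.Agent.S13389

open Polynomial in
/-- Let P_d(T) = ∏_{0 ≤ i < j ≤ d} (T^i − T^j) − 1 ∈ ℤ[T]. If A is an algebra over ℤ[T]/(P_d), i.e.
receives a ring homomorphism from it, then for every A-module M the degree-d piece Γ^d_A(M) of the
divided power algebra Γ_A(M) is spanned over A by the d-th divided powers γ_d(m), m ∈ M. (The
published statement adds that consequently every ring has a finite faithfully flat extension,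
independent of M, over which this holds; that clause is not restated.) -/
theorem result {A M : Type u} [CommRing A] [AddCommGroup M]
    [Module A M] (d : ℕ)
    (φ : (ℤ[X] ⧸ Ideal.span {(∏ j ∈ Finset.range (d + 1), ∏ i ∈ Finset.range j,
        ((X : ℤ[X]) ^ i - X ^ j)) - 1}) →+* A) :
    Submodule.span A (Set.range (DividedPowerAlgebra.dp A d : M → DividedPowerAlgebra A M)) =
      PolLaw.gammaPiece A M d := by
  classical
  let x : A := φ (Ideal.Quotient.mk _ X)
  have hx : (∏ j ∈ Finset.range (d + 1), ∏ i ∈ Finset.range j, (x ^ i - x ^ j)) = 1 := by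
    have h0 : (Ideal.Quotient.mk (Ideal.span {(∏ j ∈ Finset.range (d + 1), ∏ i ∈ Finset.range j,
        ((X : ℤ[X]) ^ i - X ^ j)) - 1}))
        ((∏ j ∈ Finset.range (d + 1), ∏ i ∈ Finset.range j, ((X : ℤ[X]) ^ i - X ^ j)) - 1) = 0 :=
      Ideal.Quotient.eq_zero_iff_mem.mpr (Ideal.subset_span rfl)
    have h1 := congrArg φ h0
    rw [map_zero, map_sub, map_one, map_sub, map_one, sub_eq_zero] at h1
    rw [← h1]
    simp only [map_prod, map_sub, map_pow, x]
  have hunit : ∀ i j : ℕ, i < j → j ≤ d → IsUnit (x ^ i - x ^ j) := by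
    intro i j hij hjd
    have h1 : IsUnit (∏ j ∈ Finset.range (d + 1), ∏ i ∈ Finset.range j, (x ^ i - x ^ j)) := by
      rw [hx]; exact isUnit_one
    rw [IsUnit.prod_iff] at h1
    have h2 := h1 j (Finset.mem_range.mpr (by omega))
    rw [IsUnit.prod_iff] at h2
    exact h2 i (Finset.mem_range.mpr hij)
  have hvdm : ∀ (e : ℕ), e ≤ d → ∀ (S : Submodule A (DividedPowerAlgebra A M))
      (c : Fin (e + 1) → DividedPowerAlgebra A M),
      (∀ i : Fin (e + 1), ∑ j : Fin (e + 1), ((x ^ (i : ℕ)) ^ (j : ℕ)) • c j ∈ S) →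
      ∀ j, c j ∈ S := by
    intro e he S c hc j
    let W : Matrix (Fin (e + 1)) (Fin (e + 1)) A := Matrix.vandermonde (fun i => x ^ (i : ℕ))
    have hdet : IsUnit W.det := by
      rw [Matrix.det_vandermonde, IsUnit.prod_univ_iff]
      intro i
      rw [IsUnit.prod_iff]
      intro k hk
      have hik : i < k := Finset.mem_Ioi.mp hk
      have h3 := hunit (i : ℕ) (k : ℕ) (by exact_mod_cast hik) (by have := k.2; omega)
      rw [← neg_sub]; exact h3.neg
    have hinv : W⁻¹ * W = 1 := Matrix.nonsing_inv_mul W hdet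
    have hcj : c j = ∑ i : Fin (e + 1), (W⁻¹ j i) •
        (∑ l : Fin (e + 1), ((x ^ (i : ℕ)) ^ (l : ℕ)) • c l) := by
      simp_rw [Finset.smul_sum, smul_smul]
      rw [Finset.sum_comm]
      have h4 : ∀ l : Fin (e + 1), ∑ i : Fin (e + 1), (W⁻¹ j i * (x ^ (i : ℕ)) ^ (l : ℕ)) • c l = ((W⁻¹ * W) j l) • c l := by
        intro l
        rw [← Finset.sum_smul, Matrix.mul_apply]
        rfl
      simp_rw [h4, hinv, Matrix.one_apply, ite_smul, one_smul, zero_smul]
      simp
    rw [hcj]
    exact Submodule.sum_mem _ (fun i _ => Submodule.smul_mem _ _ (hc i))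
  have h2 : ∀ (a b : ℕ), a + b ≤ d → ∀ m m' : M,
      DividedPowerAlgebra.dp A a m * DividedPowerAlgebra.dp A b m' ∈
        Submodule.span A (Set.range (DividedPowerAlgebra.dp A (a + b) : M → DividedPowerAlgebra A M)) := by
    intro a b hab m m'
    let c : Fin (a + b + 1) → DividedPowerAlgebra A M :=
      fun j => DividedPowerAlgebra.dp A (j : ℕ) m' * DividedPowerAlgebra.dp A (a + b - (j : ℕ)) m
    have h5 := hvdm (a + b) hab
      (Submodule.span A (Set.range (DividedPowerAlgebra.dp A (a + b) : M → DividedPowerAlgebra A M))) c ?_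
      ⟨b, by omega⟩
    · simp only [c] at h5
      rw [show a + b - b = a by omega, mul_comm] at h5
      exact h5
    · intro i
      have h6 : ∑ j : Fin (a + b + 1), ((x ^ (i : ℕ)) ^ (j : ℕ)) • c j =
          DividedPowerAlgebra.dp A (a + b) ((x ^ (i : ℕ)) • m' + m) := by
        rw [DividedPowerAlgebra.dp_add, Finset.Nat.sum_antidiagonal_eq_sum_range_succ_mk,
          Finset.sum_range]
        refine Finset.sum_congr rfl fun j _ => ?_
        simp only [c]
        rw [DividedPowerAlgebra.dp_smul, smul_mul_assoc]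
      rw [h6]
      exact Submodule.subset_span ⟨_, rfl⟩
  have hmain : ∀ (n : ℕ) (k : Fin n → ℕ) (m : Fin n → M), (∑ i, k i) ≤ d →
      ∏ i, DividedPowerAlgebra.dp A (k i) (m i) ∈
        Submodule.span A (Set.range (DividedPowerAlgebra.dp A (∑ i, k i) : M → DividedPowerAlgebra A M)) := by
    intro n
    induction n with
    | zero =>
      intro k m _
      simp only [Finset.univ_eq_empty, Finset.prod_empty, Finset.sum_empty]
      exact Submodule.subset_span ⟨0, DividedPowerAlgebra.dp_zero⟩
    | succ n ih =>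
      intro k m hk
      rw [Fin.prod_univ_succ, Fin.sum_univ_succ]
      rw [Fin.sum_univ_succ] at hk
      have h1 := ih (fun i => k i.succ) (fun i => m i.succ) (by omega)
      refine Submodule.span_induction
        (p := fun y _ => DividedPowerAlgebra.dp A (k 0) (m 0) * y ∈
          Submodule.span A (Set.range (DividedPowerAlgebra.dp A (k 0 + ∑ i : Fin n, k i.succ) :
            M → DividedPowerAlgebra A M))) ?_ ?_ ?_ ?_ h1
      · rintro y ⟨m', rfl⟩
        exact h2 _ _ hk _ _
      · simp
      · intro y z _ _ hy hz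
        rw [mul_add]; exact add_mem hy hz
      · intro r y _ hy
        rw [mul_smul_comm]; exact Submodule.smul_mem _ _ hy
  apply le_antisymm
  · rw [Submodule.span_le]
    rintro _ ⟨m, rfl⟩
    exact Submodule.subset_span ⟨1, fun _ => d, fun _ => m, by simp, by simp⟩
  · unfold PolLaw.gammaPiece
    rw [Submodule.span_le]
    rintro _ ⟨n, k, m, hk, rfl⟩
    have h7 := hmain n k m (by omega)
    rwa [hk] at h7

end Groth.Agent.S13389
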