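import Groth.Statements.S13409
import Mathlib

set_option autoImplicit false
universe u v
open CombGraph

namespace Groth.Agent.S13409

theorem walk_label {V : Type u} [Fintype V] [DecidableEq V] (G : SimpleGraph V) [DecidableRel G.Adj]
    (A : Type v) [AddCommGroup A] :
    ∀ {u w : V} (p : G.Walk u w) (α : A), ∃ x : Sym2 V → A, ∀ z : V,
      ∑ e ∈ G.incidenceFinset z, x e =
        (if z = u then α else 0) - (if z = w then ((-1 : ℤ) ^ p.length) • α else 0) := by
  intro u w p
  induction p with
  | nil =>
    intro α
    refine ⟨0, fun z => ?_⟩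
    simp
  | @cons a b c' h p ih =>
    intro α
    obtain ⟨x', hx'⟩ := ih (-α)
    refine ⟨Pi.single s(a, b) α + x', fun z => ?_⟩
    have hmem : s(a, b) ∈ G.incidenceFinset z ↔ (z = a ∨ z = b) := by
      rw [SimpleGraph.mem_incidenceFinset, SimpleGraph.mk'_mem_incidenceSet_iff]
      exact ⟨fun h' => h'.2, fun h' => ⟨h, h'⟩⟩
    have hne : a ≠ b := h.ne
    have hkey : (if s(a, b) ∈ G.incidenceFinset z then α else 0) + (if z = b then -α else 0) =
        (if z = a then α else 0) := by
      by_cases hza : z = a
      · have hzb : ¬ z = b := by rw [hza]; exact hne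
        rw [if_pos (hmem.mpr (Or.inl hza)), if_neg hzb, if_pos hza, add_zero]
      · by_cases hzb : z = b
        · rw [if_pos (hmem.mpr (Or.inr hzb)), if_pos hzb, if_neg hza, add_neg_cancel]
        · rw [if_neg (fun h' => (hmem.mp h').elim hza hzb), if_neg hzb, if_neg hza, add_zero]
    have hX : ((-1 : ℤ) ^ (p.length + 1)) • α = ((-1 : ℤ) ^ p.length) • (-α) := by
      rw [pow_succ, mul_neg_one, neg_smul, smul_neg]
    have e1 : ∑ e ∈ G.incidenceFinset z, (Pi.single s(a, b) α + x' : Sym2 V → A) e =
        (∑ e ∈ G.incidenceFinset z, (Pi.single s(a, b) α : Sym2 V → A) e) +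
          ∑ e ∈ G.incidenceFinset z, x' e := by
      rw [← Finset.sum_add_distrib]
      rfl
    rw [e1, Finset.sum_pi_single', hx' z, SimpleGraph.Walk.length_cons, hX, ← hkey]
    abel

/-- Let `A` be an abelian group and `G` a finite connected simple graph on `V` that is bipartite for a
two-colouring `c : V → Bool` (adjacent vertices get different colours). If `a : V → A` has the same
sum over the vertices of each colour, then some labelling `x` of the edges by elements of `A` has,
at every vertex `v`, the sum of `x` over the edges incident to `v` equal to `a v`. (The published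
statement concerns finite bipartite graphs in general; this row treats simple graphs.) -/
theorem result {V : Type u} [Fintype V] [DecidableEq V]
    (G : SimpleGraph V) [DecidableRel G.Adj] (hconn : G.Connected) (c : V → Bool)
    (hbip : ∀ v w : V, G.Adj v w → c v ≠ c w) (A : Type v) [AddCommGroup A] (a : V → A)
    (hsum : ∑ v ∈ Finset.univ.filter (fun v => c v = true), a v =
      ∑ v ∈ Finset.univ.filter (fun v => c v = false), a v) :
    ∃ x : Sym2 V → A, ∀ v : V, ∑ e ∈ G.incidenceFinset v, x e = a v := by
  classical
  obtain ⟨σ, hσdef⟩ : ∃ σ : V → ℤ, σ = fun v => if c v = true then 1 else -1 := ⟨_, rfl⟩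
  have hσsq : ∀ v, σ v * σ v = 1 := by
    intro v
    rw [hσdef]
    show (if c v = true then (1 : ℤ) else -1) * (if c v = true then (1 : ℤ) else -1) = 1
    split_ifs <;> norm_num
  have hσadj : ∀ u w, G.Adj u w → σ u = -σ w := by
    intro u w huw
    have h1 := hbip u w huw
    rw [hσdef]
    show (if c u = true then (1 : ℤ) else -1) = -(if c w = true then (1 : ℤ) else -1)
    cases hcu : c u <;> cases hcw : c w <;> simp_all
  have hpar : ∀ {u w : V} (p : G.Walk u w), (-1 : ℤ) ^ p.length = σ u * σ w := by
    intro u w p
    induction p with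
    | nil => rw [SimpleGraph.Walk.length_nil, pow_zero, hσsq]
    | @cons a b c' h p ih =>
      rw [SimpleGraph.Walk.length_cons, pow_succ, ih, hσadj a b h]
      ring
  obtain ⟨v₀⟩ := hconn.nonempty
  have hw : ∀ v, ∃ x : Sym2 V → A, ∀ z : V, ∑ e ∈ G.incidenceFinset z, x e =
      (if z = v then a v else 0) - (if z = v₀ then (σ v * σ v₀) • a v else 0) := by
    intro v
    obtain ⟨p⟩ := hconn.preconnected v v₀
    obtain ⟨x, hx⟩ := walk_label G A p (a v)
    refine ⟨x, fun z => ?_⟩
    rw [hx z, hpar p]
  choose X hX using hw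
  have hσsum : ∑ v, σ v • a v = 0 := by
    have h1 : ∀ v, σ v • a v = if c v = true then a v else -(a v) := by
      intro v
      rw [hσdef]
      show (if c v = true then (1 : ℤ) else -1) • a v = if c v = true then a v else -(a v)
      split_ifs <;> simp
    rw [Finset.sum_congr rfl (fun v _ => h1 v), Finset.sum_ite, Finset.sum_neg_distrib]
    have h2 : (Finset.univ.filter fun v => ¬ c v = true) = Finset.univ.filter fun v => c v = false := by
      apply Finset.filter_congr
      intro v _
      simp
    rw [h2, hsum, add_neg_cancel]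
  refine ⟨∑ v, X v, fun z => ?_⟩
  have e1 : ∑ e ∈ G.incidenceFinset z, (∑ v, X v) e = ∑ v, ∑ e ∈ G.incidenceFinset z, X v e := by
    rw [Finset.sum_comm]
    apply Finset.sum_congr rfl
    intro e _
    rw [Finset.sum_apply]
  rw [e1, Finset.sum_congr rfl (fun v _ => hX v z), Finset.sum_sub_distrib, Finset.sum_ite_eq,
    if_pos (Finset.mem_univ z)]
  by_cases hz : z = v₀
  · have e2 : ∑ v, (if z = v₀ then (σ v * σ v₀) • a v else 0) = σ v₀ • ∑ v, σ v • a v := by
      rw [Finset.smul_sum]
      apply Finset.sum_congr rfl
      intro v _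
      rw [if_pos hz, mul_comm, mul_smul]
    rw [e2, hσsum, smul_zero, sub_zero]
  · have e2 : ∑ v, (if z = v₀ then (σ v * σ v₀) • a v else 0) = 0 := by
      apply Finset.sum_eq_zero
      intro v _
      rw [if_neg hz]
    rw [e2, sub_zero]

end Groth.Agent.S13409
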