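import Groth.Statements.S13410
import Mathlib

set_option autoImplicit false
universe u v
open CombGraph

namespace Groth.Agent.S13410

theorem walk_hom {V : Type u} [Fintype V] [DecidableEq V] (G H : SimpleGraph V) [DecidableRel G.Adj]
    (hle : ∀ a b, H.Adj a b → G.Adj a b) (A : Type v) [AddCommGroup A] :
    ∀ {u w : V} (p : H.Walk u w), ∃ φ : A →+ (Sym2 V → A),
      (∀ (α : A) (e : Sym2 V), e ∉ H.edgeSet → φ α e = 0) ∧
      ∀ (α : A) (z : V), ∑ e ∈ G.incidenceFinset z, φ α e =
        (if z = u then α else 0) - (if z = w then ((-1 : ℤ) ^ p.length) • α else 0) := by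
  intro u w p
  induction p with
  | nil =>
    refine ⟨0, fun α e _ => rfl, fun α z => ?_⟩
    simp
  | @cons a b c' h p ih =>
    obtain ⟨ψ, hψ0, hψ⟩ := ih
    refine ⟨AddMonoidHom.single (fun _ : Sym2 V => A) s(a, b) - ψ, ?_, ?_⟩
    · intro α e he
      have hne : e ≠ s(a, b) := by
        rintro rfl
        exact he ((SimpleGraph.mem_edgeSet H).mpr h)
      show (Pi.single s(a, b) α : Sym2 V → A) e - ψ α e = 0
      rw [Pi.single_eq_of_ne hne, hψ0 α e he, sub_zero]
    · intro α z
      have hmem : s(a, b) ∈ G.incidenceFinset z ↔ (z = a ∨ z = b) := by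
        rw [SimpleGraph.mem_incidenceFinset, SimpleGraph.mk'_mem_incidenceSet_iff]
        exact ⟨fun h' => h'.2, fun h' => ⟨hle a b h, h'⟩⟩
      have hne : a ≠ b := h.ne
      have hkey : (if s(a, b) ∈ G.incidenceFinset z then α else 0) - (if z = b then α else 0) =
          (if z = a then α else 0) := by
        by_cases hza : z = a
        · have hzb : ¬ z = b := by rw [hza]; exact hne
          rw [if_pos (hmem.mpr (Or.inl hza)), if_neg hzb, if_pos hza, sub_zero]
        · by_cases hzb : z = b
          · rw [if_pos (hmem.mpr (Or.inr hzb)), if_pos hzb, if_neg hza, sub_self]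
          · rw [if_neg (fun h' => (hmem.mp h').elim hza hzb), if_neg hzb, if_neg hza, sub_zero]
      have hX : ((-1 : ℤ) ^ (p.length + 1)) • α = -(((-1 : ℤ) ^ p.length) • α) := by
        rw [pow_succ, mul_neg_one, neg_smul]
      have e1 : ∑ e ∈ G.incidenceFinset z,
            (AddMonoidHom.single (fun _ : Sym2 V => A) s(a, b) - ψ) α e =
          (∑ e ∈ G.incidenceFinset z, (Pi.single s(a, b) α : Sym2 V → A) e) -
            ∑ e ∈ G.incidenceFinset z, ψ α e := by
        rw [← Finset.sum_sub_distrib]
        rfl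
      rw [e1, Finset.sum_pi_single', hψ α z, SimpleGraph.Walk.length_cons, hX, ← hkey]
      by_cases hzc : z = c'
      · rw [if_pos hzc, if_pos hzc]
        abel
      · rw [if_neg hzc, if_neg hzc]
        abel

/-- Let `A` be an abelian group and `G` a finite connected simple graph on `V`, bipartite for a
two-colouring `c`. Consider the additive group of labellings `x : Sym2 V → A` vanishing off the edge
set and with `∑_{e ∋ v} x e = 0` at every vertex `v`. If `e₀` is an edge whose deletion leaves `G`
connected, then evaluation at `e₀` restricted to this group is surjective and split: there is an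
additive map `φ : A → (Sym2 V → A)` with values in this group and with `φ a e₀ = a` for all `a`.
(The published statement concerns finite bipartite graphs in general; this row treats simple
graphs.) -/
theorem result {V : Type u} [Fintype V]
    [DecidableEq V] (G : SimpleGraph V) [DecidableRel G.Adj] (hconn : G.Connected) (c : V → Bool)
    (hbip : ∀ v w : V, G.Adj v w → c v ≠ c w) (A : Type v) [AddCommGroup A] (e₀ : Sym2 V)
    (he₀ : e₀ ∈ G.edgeSet) (hdel : (G.deleteEdges {e₀}).Connected) :
    ∃ φ : A →+ (Sym2 V → A),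
      (∀ a : A, (∀ e : Sym2 V, e ∉ G.edgeSet → φ a e = 0) ∧
        ∀ v : V, ∑ e ∈ G.incidenceFinset v, φ a e = 0) ∧
      ∀ a : A, φ a e₀ = a := by
  classical
  revert he₀ hdel
  refine Sym2.ind (fun u w => ?_) e₀
  intro he₀ hdel
  have huw : G.Adj u w := (SimpleGraph.mem_edgeSet G).mp he₀
  obtain ⟨σ, hσdef⟩ : ∃ σ : V → ℤ, σ = fun v => if c v = true then 1 else -1 := ⟨_, rfl⟩
  have hσsq : ∀ v, σ v * σ v = 1 := by
    intro v
    rw [hσdef]
    show (if c v = true then (1 : ℤ) else -1) * (if c v = true then (1 : ℤ) else -1) = 1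
    split_ifs <;> norm_num
  have hσadj : ∀ x y, G.Adj x y → σ x = -σ y := by
    intro x y hxy
    have h1 := hbip x y hxy
    rw [hσdef]
    show (if c x = true then (1 : ℤ) else -1) = -(if c y = true then (1 : ℤ) else -1)
    cases hcu : c x <;> cases hcw : c y <;> simp_all
  have hle : ∀ a b, (G.deleteEdges {s(u, w)}).Adj a b → G.Adj a b :=
    fun a b hab => (SimpleGraph.deleteEdges_adj.mp hab).1
  have hpar : ∀ {x y : V} (p : (G.deleteEdges {s(u, w)}).Walk x y),
      (-1 : ℤ) ^ p.length = σ x * σ y := by
    intro x y p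
    induction p with
    | nil => rw [SimpleGraph.Walk.length_nil, pow_zero, hσsq]
    | @cons a b c' h p ih =>
      rw [SimpleGraph.Walk.length_cons, pow_succ, ih, hσadj a b (hle a b h)]
      ring
  obtain ⟨p⟩ := hdel.preconnected w u
  obtain ⟨ψ, hψ0, hψ⟩ := walk_hom G (G.deleteEdges {s(u, w)}) hle A p
  have hsign : (-1 : ℤ) ^ p.length = -1 := by
    rw [hpar p, hσadj u w huw, mul_neg, hσsq]
  refine ⟨AddMonoidHom.single (fun _ : Sym2 V => A) s(u, w) - ψ, ?_, ?_⟩
  · intro a
    constructor
    · intro e he
      have hne : e ≠ s(u, w) := by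
        rintro rfl
        exact he he₀
      have he' : e ∉ (G.deleteEdges {s(u, w)}).edgeSet := by
        rw [SimpleGraph.edgeSet_deleteEdges]
        exact fun h' => he h'.1
      show (Pi.single s(u, w) a : Sym2 V → A) e - ψ a e = 0
      rw [Pi.single_eq_of_ne hne, hψ0 a e he', sub_zero]
    · intro z
      have hmem : s(u, w) ∈ G.incidenceFinset z ↔ (z = u ∨ z = w) := by
        rw [SimpleGraph.mem_incidenceFinset, SimpleGraph.mk'_mem_incidenceSet_iff]
        exact ⟨fun h' => h'.2, fun h' => ⟨huw, h'⟩⟩
      have e1 : ∑ e ∈ G.incidenceFinset z,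
            (AddMonoidHom.single (fun _ : Sym2 V => A) s(u, w) - ψ) a e =
          (∑ e ∈ G.incidenceFinset z, (Pi.single s(u, w) a : Sym2 V → A) e) -
            ∑ e ∈ G.incidenceFinset z, ψ a e := by
        rw [← Finset.sum_sub_distrib]
        rfl
      rw [e1, Finset.sum_pi_single', hψ a z, hsign, neg_one_zsmul]
      have hne : u ≠ w := huw.ne
      by_cases hzu : z = u
      · have hzw : ¬ z = w := by rw [hzu]; exact hne
        rw [if_pos (hmem.mpr (Or.inl hzu)), if_neg hzw, if_pos hzu]
        abel
      · by_cases hzw : z = w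
        · rw [if_pos (hmem.mpr (Or.inr hzw)), if_pos hzw, if_neg hzu]
          abel
        · rw [if_neg (fun h' => (hmem.mp h').elim hzu hzw), if_neg hzw, if_neg hzu]
          abel
  · intro a
    have he' : s(u, w) ∉ (G.deleteEdges {s(u, w)}).edgeSet := by
      rw [SimpleGraph.edgeSet_deleteEdges]
      exact fun h' => h'.2 rfl
    show (Pi.single s(u, w) a : Sym2 V → A) s(u, w) - ψ a s(u, w) = a
    rw [Pi.single_eq_same, hψ0 a _ he', sub_zero]

end Groth.Agent.S13410
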