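import Groth.Statements.S13411
import Mathlib
import Groth.Agent.S13410

set_option autoImplicit false
universe u v
open CombGraph

namespace Groth.Agent.S13411

theorem bridge_zero {V : Type u} [Fintype V] [DecidableEq V] (G : SimpleGraph V) [DecidableRel G.Adj]
    (c : V → Bool) (hbip : ∀ v w : V, G.Adj v w → c v ≠ c w) (A : Type v) [AddCommGroup A]
    (x : Sym2 V → A) (hx : ∀ v : V, ∑ e ∈ G.incidenceFinset v, x e = 0)
    (u w : V) (huw : G.Adj u w) (hbr : ¬ (G.deleteEdges {s(u, w)}).Reachable u w) :
    x s(u, w) = 0 := by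
  classical
  obtain ⟨G', hG'⟩ : ∃ G' : SimpleGraph V, G' = G.deleteEdges {s(u, w)} := ⟨_, rfl⟩
  rw [← hG'] at hbr
  obtain ⟨σ, hσdef⟩ : ∃ σ : V → ℤ, σ = fun v => if c v = true then 1 else -1 := ⟨_, rfl⟩
  have hσadj : ∀ a b, G.Adj a b → σ a + σ b = 0 := by
    intro a b hab
    have h1 := hbip a b hab
    rw [hσdef]
    show (if c a = true then (1 : ℤ) else -1) + (if c b = true then (1 : ℤ) else -1) = 0
    cases hca : c a <;> cases hcb : c b <;> simp_all
  have hσu : σ u = 1 ∨ σ u = -1 := by
    rw [hσdef]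
    show (if c u = true then (1 : ℤ) else -1) = 1 ∨ (if c u = true then (1 : ℤ) else -1) = -1
    split_ifs
    · exact Or.inl rfl
    · exact Or.inr rfl
  obtain ⟨S, hS⟩ : ∃ S : Finset V, ∀ v, v ∈ S ↔ G'.Reachable u v :=
    ⟨Finset.univ.filter (fun v => G'.Reachable u v), fun v => by simp⟩
  have huS : u ∈ S := (hS u).mpr (SimpleGraph.Reachable.refl u)
  have hwS : w ∉ S := fun h => hbr ((hS w).mp h)
  have hadjS : ∀ a b, G'.Adj a b → (a ∈ S ↔ b ∈ S) := by
    intro a b hab
    rw [hS, hS]
    exact ⟨fun h => h.trans hab.reachable, fun h => h.trans hab.symm.reachable⟩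
  have hT : ∑ v ∈ S, σ v • ∑ e ∈ G.incidenceFinset v, x e = 0 := by
    apply Finset.sum_eq_zero
    intro v _
    rw [hx v, smul_zero]
  have hrew : ∀ v, σ v • ∑ e ∈ G.incidenceFinset v, x e =
      ∑ e ∈ G.edgeFinset, (if v ∈ e then σ v • x e else 0) := by
    intro v
    rw [SimpleGraph.incidenceFinset_eq_filter, Finset.sum_filter, Finset.smul_sum]
    apply Finset.sum_congr rfl
    intro e _
    by_cases h : v ∈ e
    · rw [if_pos h, if_pos h]
    · rw [if_neg h, if_neg h, smul_zero]
  rw [Finset.sum_congr rfl (fun v _ => hrew v), Finset.sum_comm] at hT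
  have hterm : ∀ e ∈ G.edgeFinset, ∑ v ∈ S, (if v ∈ e then σ v • x e else 0) =
      if e = s(u, w) then σ u • x e else 0 := by
    intro e
    refine Sym2.ind (fun a b => ?_) e
    intro he
    have hab : G.Adj a b := (SimpleGraph.mem_edgeSet G).mp (SimpleGraph.mem_edgeFinset.mp he)
    have hne : a ≠ b := hab.ne
    have hsplit : ∀ v, (if v ∈ s(a, b) then σ v • x s(a, b) else 0) =
        (if v = a then σ a • x s(a, b) else 0) + (if v = b then σ b • x s(a, b) else 0) := by
      intro v
      by_cases hva : v = a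
      · have hvb : ¬ v = b := by rw [hva]; exact hne
        rw [if_pos (Sym2.mem_iff.mpr (Or.inl hva)), if_pos hva, if_neg hvb, add_zero, hva]
      · by_cases hvb : v = b
        · rw [if_pos (Sym2.mem_iff.mpr (Or.inr hvb)), if_neg hva, if_pos hvb, zero_add, hvb]
        · rw [if_neg (fun h => (Sym2.mem_iff.mp h).elim hva hvb), if_neg hva, if_neg hvb, add_zero]
    rw [Finset.sum_congr rfl (fun v _ => hsplit v), Finset.sum_add_distrib, Finset.sum_ite_eq',
      Finset.sum_ite_eq']
    by_cases heq : s(a, b) = s(u, w)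
    · rw [if_pos heq]
      rcases Sym2.eq_iff.mp heq with ⟨h1, h2⟩ | ⟨h1, h2⟩
      · rw [h1, h2, if_pos huS, if_neg hwS, add_zero]
      · rw [h1, h2, if_neg hwS, if_pos huS, zero_add]
    · rw [if_neg heq]
      have hab' : G'.Adj a b := by
        rw [hG', SimpleGraph.deleteEdges_adj]
        exact ⟨hab, fun h => heq (Set.mem_singleton_iff.mp h)⟩
      by_cases haS : a ∈ S
      · have hbS : b ∈ S := (hadjS a b hab').mp haS
        rw [if_pos haS, if_pos hbS, ← add_smul, hσadj a b hab, zero_smul]
      · have hbS : b ∉ S := fun h => haS ((hadjS a b hab').mpr h)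
        rw [if_neg haS, if_neg hbS, add_zero]
  rw [Finset.sum_congr rfl hterm, Finset.sum_ite_eq'] at hT
  have hmem : s(u, w) ∈ G.edgeFinset :=
    SimpleGraph.mem_edgeFinset.mpr ((SimpleGraph.mem_edgeSet G).mpr huw)
  rw [if_pos hmem] at hT
  rcases hσu with h | h
  · rw [h, one_smul] at hT
    exact hT
  · rw [h, neg_smul, one_smul, neg_eq_zero] at hT
    exact hT

theorem sum_incidence_sub {V : Type u} [Fintype V] [DecidableEq V] (G G' : SimpleGraph V)
    [DecidableRel G.Adj] [DecidableRel G'.Adj] (hle : G' ≤ G) (A : Type v) [AddCommGroup A]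
    (x : Sym2 V → A) (hx0 : ∀ e, e ∉ G'.edgeSet → x e = 0) (v : V) :
    ∑ e ∈ G.incidenceFinset v, x e = ∑ e ∈ G'.incidenceFinset v, x e := by
  symm
  apply Finset.sum_subset
  · intro e he
    rw [SimpleGraph.mem_incidenceFinset] at he ⊢
    exact ⟨SimpleGraph.edgeSet_mono hle he.1, he.2⟩
  · intro e he he'
    apply hx0
    intro hmem
    apply he'
    rw [SimpleGraph.mem_incidenceFinset] at he ⊢
    exact ⟨hmem, he.2⟩

theorem main {V : Type u} [Fintype V] [DecidableEq V] (c : V → Bool) (A : Type v) [AddCommGroup A] :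
    ∀ (n : ℕ) (G : SimpleGraph V) [DecidableRel G.Adj], G.Connected →
      (∀ v w : V, G.Adj v w → c v ≠ c w) → G.edgeFinset.card + 1 = Fintype.card V + n →
      ∃ f : (Fin n → A) →+ (Sym2 V → A), Function.Injective f ∧
        Set.range f = {x : Sym2 V → A | (∀ e : Sym2 V, e ∉ G.edgeSet → x e = 0) ∧
          ∀ v : V, ∑ e ∈ G.incidenceFinset v, x e = 0} := by
  intro n
  induction n with
  | zero =>
    intro G _ hconn hbip hn
    have htree : G.IsTree := by
      rw [SimpleGraph.isTree_iff_connected_and_card]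
      refine ⟨hconn, ?_⟩
      rw [Nat.card_eq_fintype_card, Nat.card_eq_fintype_card, ← SimpleGraph.edgeFinset_card]
      simpa using hn
    have hbridge : ∀ ⦃e⦄, e ∈ G.edgeSet → G.IsBridge e :=
      SimpleGraph.isAcyclic_iff_forall_isBridge.mp htree.isAcyclic
    refine ⟨0, ?_, ?_⟩
    · intro a b _
      exact Subsingleton.elim a b
    · apply Set.eq_of_subset_of_subset
      · rintro x ⟨a, rfl⟩
        refine ⟨fun e _ => by simp, fun v => by simp⟩
      · rintro x ⟨h0, hv⟩
        refine ⟨0, ?_⟩
        funext e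
        have hxe : x e = 0 := by
          by_cases he : e ∈ G.edgeSet
          · revert he
            refine Sym2.ind (fun a b => ?_) e
            intro he
            have hbr : ¬ (G.deleteEdges {s(a, b)}).Reachable a b := hbridge he
            exact bridge_zero G c hbip A x hv a b ((SimpleGraph.mem_edgeSet G).mp he) hbr
          · exact h0 e he
        rw [hxe]
        simp
  | succ n ih =>
    intro G _ hconn hbip hn
    have hnt : ¬ G.IsTree := by
      intro ht
      have := ht.card_edgeFinset
      omega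
    have hnac : ¬ G.IsAcyclic := fun h => hnt ⟨hconn, h⟩
    rw [SimpleGraph.isAcyclic_iff_forall_isBridge] at hnac
    push Not at hnac
    obtain ⟨e₀, he₀, hnb⟩ := hnac
    revert he₀ hnb
    refine Sym2.ind (fun a b => ?_) e₀
    intro he₀ hnb
    have hdel0 : (G.deleteEdges {s(a, b)}).Connected :=
      hconn.connected_delete_edge_of_not_isBridge hnb
    classical
    obtain ⟨G', hG'⟩ : ∃ G' : SimpleGraph V, G' = G.deleteEdges {s(a, b)} := ⟨_, rfl⟩
    have hdel : G'.Connected := by rw [hG']; exact hdel0
    have hle : G' ≤ G := by rw [hG']; exact SimpleGraph.deleteEdges_le _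
    have hbip' : ∀ v w, G'.Adj v w → c v ≠ c w := fun v w h => hbip v w (hle h)
    have hedge' : ∀ e, e ∈ G'.edgeSet ↔ e ∈ G.edgeSet ∧ e ≠ s(a, b) := by
      intro e
      rw [hG', SimpleGraph.edgeSet_deleteEdges, Set.mem_sdiff, Set.mem_singleton_iff]
    have hcard : G'.edgeFinset.card + 1 = Fintype.card V + n := by
      have h1 : G'.edgeFinset = G.edgeFinset.erase s(a, b) := by
        ext e
        rw [SimpleGraph.mem_edgeFinset, Finset.mem_erase, SimpleGraph.mem_edgeFinset, hedge']
        exact ⟨fun h => ⟨h.2, h.1⟩, fun h => ⟨h.2, h.1⟩⟩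
      rw [h1, Finset.card_erase_of_mem (SimpleGraph.mem_edgeFinset.mpr he₀)]
      have : 0 < G.edgeFinset.card :=
        Finset.card_pos.mpr ⟨_, SimpleGraph.mem_edgeFinset.mpr he₀⟩
      omega
    obtain ⟨f', hf'inj, hf'range⟩ := ih G' hdel hbip' hcard
    obtain ⟨φ, hφZ, hφe⟩ := Groth.Agent.S13410.result G hconn c hbip A s(a, b) he₀ hdel0
    have hf'Z : ∀ b', (∀ e, e ∉ G'.edgeSet → f' b' e = 0) ∧
        ∀ v, ∑ e ∈ G'.incidenceFinset v, f' b' e = 0 := by
      intro b'
      have := Set.mem_range_self (f := f') b'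
      rw [hf'range] at this
      exact this
    have he₀' : s(a, b) ∉ G'.edgeSet := fun h => ((hedge' _).mp h).2 rfl
    let ρ : (Fin (n + 1) → A) →+ (Fin n → A) :=
      AddMonoidHom.mk' (fun α i => α (Fin.castSucc i)) (fun _ _ => rfl)
    let g : (Fin (n + 1) → A) →+ (Sym2 V → A) :=
      f'.comp ρ + φ.comp (Pi.evalAddMonoidHom (fun _ : Fin (n + 1) => A) (Fin.last n))
    have hg : ∀ α, g α = f' (ρ α) + φ (α (Fin.last n)) := fun α => rfl
    have hρ : ∀ α i, ρ α i = α (Fin.castSucc i) := fun α i => rfl
    have hge₀ : ∀ α, g α s(a, b) = α (Fin.last n) := by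
      intro α
      rw [hg, Pi.add_apply, (hf'Z (ρ α)).1 _ he₀', hφe, zero_add]
    refine ⟨g, ?_, ?_⟩
    · rw [injective_iff_map_eq_zero]
      intro α hα
      have hlast : α (Fin.last n) = 0 := by
        rw [← hge₀ α, hα]
        rfl
      have hρα : ρ α = 0 := by
        apply (injective_iff_map_eq_zero f').mp hf'inj
        have h2 := hα
        rw [hg, hlast, map_zero, add_zero] at h2
        exact h2
      funext i
      refine Fin.lastCases ?_ (fun j => ?_) i
      · exact hlast
      · have := congrFun hρα j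
        rw [hρ] at this
        exact this
    · apply Set.eq_of_subset_of_subset
      · rintro x ⟨α, rfl⟩
        refine ⟨fun e he => ?_, fun v => ?_⟩
        · have he' : e ∉ G'.edgeSet := fun h => he ((hedge' e).mp h).1
          rw [hg, Pi.add_apply, (hf'Z (ρ α)).1 e he', (hφZ (α (Fin.last n))).1 e he, add_zero]
        · rw [hg]
          have e1 : ∑ e ∈ G.incidenceFinset v, (f' (ρ α) + φ (α (Fin.last n))) e =
              ∑ e ∈ G.incidenceFinset v, f' (ρ α) e +
                ∑ e ∈ G.incidenceFinset v, φ (α (Fin.last n)) e := by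
            rw [← Finset.sum_add_distrib]
            rfl
          rw [e1, sum_incidence_sub G G' hle A (f' (ρ α)) (hf'Z (ρ α)).1 v, (hf'Z (ρ α)).2 v,
            (hφZ (α (Fin.last n))).2 v, add_zero]
      · rintro x ⟨h0, hv⟩
        have hy0 : ∀ e, e ∉ G'.edgeSet → (x - φ (x s(a, b))) e = 0 := by
          intro e he
          rw [Pi.sub_apply]
          by_cases heG : e ∈ G.edgeSet
          · have heq : e = s(a, b) := by
              by_contra hne
              exact he ((hedge' e).mpr ⟨heG, hne⟩)
            rw [heq, hφe, sub_self]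
          · rw [h0 e heG, (hφZ (x s(a, b))).1 e heG, sub_zero]
        have hyv : ∀ v, ∑ e ∈ G'.incidenceFinset v, (x - φ (x s(a, b))) e = 0 := by
          intro v
          rw [← sum_incidence_sub G G' hle A (x - φ (x s(a, b))) hy0 v]
          have e1 : ∑ e ∈ G.incidenceFinset v, (x - φ (x s(a, b))) e =
              ∑ e ∈ G.incidenceFinset v, x e - ∑ e ∈ G.incidenceFinset v, φ (x s(a, b)) e := by
            rw [← Finset.sum_sub_distrib]
            rfl
          rw [e1, hv v, (hφZ (x s(a, b))).2 v, sub_zero]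
        have hymem : (x - φ (x s(a, b))) ∈ Set.range f' := by
          rw [hf'range]
          exact ⟨hy0, hyv⟩
        obtain ⟨b', hb'⟩ := hymem
        refine ⟨(Fin.snoc b' (x s(a, b)) : Fin (n + 1) → A), ?_⟩
        have h1 : ρ (Fin.snoc b' (x s(a, b)) : Fin (n + 1) → A) = b' := by
          funext j
          rw [hρ, Fin.snoc_castSucc]
        rw [hg, h1, Fin.snoc_last, hb']
        abel


/-- Let `A` be an abelian group and `G` a finite connected simple graph on `V`, bipartite for a
two-colouring `c`, with cyclomatic number `n` (number of edges minus number of vertices plus one).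
Then the additive group of labellings `x : Sym2 V → A` vanishing off the edge set and with `∑_{e ∋
v} x e = 0` at every vertex `v` is isomorphic to `A^n`: it is the range of an injective additive map
`(Fin n → A) → (Sym2 V → A)`. (The published statement concerns finite bipartite graphs in general;
this row treats simple graphs.) -/
theorem result {V : Type u} [Fintype V]
    [DecidableEq V] (G : SimpleGraph V) [DecidableRel G.Adj] (hconn : G.Connected) (c : V → Bool)
    (hbip : ∀ v w : V, G.Adj v w → c v ≠ c w) (A : Type v) [AddCommGroup A] (n : ℕ)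
    (hn : G.edgeFinset.card + 1 = Fintype.card V + n) :
    ∃ f : (Fin n → A) →+ (Sym2 V → A), Function.Injective f ∧
      Set.range f = {x : Sym2 V → A | (∀ e : Sym2 V, e ∉ G.edgeSet → x e = 0) ∧
        ∀ v : V, ∑ e ∈ G.incidenceFinset v, x e = 0} := by
  exact main c A n G hconn hbip hn

end Groth.Agent.S13411
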