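import Groth.Statements.S13441
import Mathlib

set_option autoImplicit false
universe u
open W4c1hilbpn

namespace Groth.Agent.S13441

open W4c1hilbpn in
/-- Let k be an infinite field, S = k[x,y,z] with variables ordered x > y > z, and I a strongly stable
ideal of finite colength, with staircase numbers b^z_{i,j} = the number of c with x^i y^j z^c
outside I and b^y_{i,j} = the number of b with x^i y^b z^j outside I. Then b^z_{i+1,j} ≤ b^z_{i,j+1}
and b^y_{i+1,j} ≤ b^y_{i,j+1} for all i and j (equivalently the maximum of the two neighbouring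
staircase numbers is the second one). -/
theorem result (k : Type u) [Field k] [Infinite k]
    (I : Ideal (MvPolynomial (Fin 3) k)) (hI : IsStronglyStable I) [Module.Finite k (MvPolynomial (Fin 3) k ⧸ I)] (i j : ℕ) :
    stairZ I (i + 1) j ≤ stairZ I i (j + 1) ∧ stairY I (i + 1) j ≤ stairY I i (j + 1) := by
  classical
  have hfin : ∀ (φ : ℕ → (Fin 3 →₀ ℕ)), Function.Injective φ →
      Finite {c : ℕ // φ c ∉ exps I} := by
    intro φ hφ
    have hli : LinearIndependent k (fun c : {c : ℕ // φ c ∉ exps I} =>
        (Ideal.Quotient.mkₐ k I) (MvPolynomial.monomial (φ c.1) (1 : k))) := by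
      rw [linearIndependent_iff']
      intro s g hg c0 hc0
      by_contra hne
      apply c0.2
      have hp : (∑ c ∈ s, g c • MvPolynomial.monomial (φ c.1) (1 : k)) ∈ I := by
        apply Ideal.Quotient.eq_zero_iff_mem.mp
        rw [← Ideal.Quotient.mkₐ_eq_mk k I, map_sum]
        simp only [map_smul]
        exact hg
      have hcoef : MvPolynomial.coeff (φ c0.1)
          (∑ c ∈ s, g c • MvPolynomial.monomial (φ c.1) (1 : k)) = g c0 := by
        rw [MvPolynomial.coeff_sum]
        simp only [MvPolynomial.coeff_smul, MvPolynomial.coeff_monomial, smul_eq_mul, mul_ite,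
          mul_one, mul_zero]
        rw [Finset.sum_eq_single c0]
        · rw [if_pos rfl]
        · intro c _ hc
          rw [if_neg]
          intro h
          exact hc (Subtype.ext (hφ h))
        · intro h; exact absurd hc0 h
      exact hI.1 _ hp (φ c0.1) (MvPolynomial.mem_support_iff.mpr (by rw [hcoef]; exact hne))
    exact hli.finite_of_isNoetherian
  have hinjZ : ∀ a b, Function.Injective (fun c => e3 a b c) := by
    intro a b c c' h
    have := DFunLike.congr_fun h (2 : Fin 3)
    simpa [e3] using this
  have hinjY : ∀ a c, Function.Injective (fun b => e3 a b c) := by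
    intro a c b b' h
    have := DFunLike.congr_fun h (1 : Fin 3)
    simpa [e3] using this
  have hev : ∀ a b c (t : Fin 3), e3 a b c t = ![a, b, c] t := fun a b c t => rfl
  have hz : ∀ c, e3 i (j + 1) c ∈ exps I → e3 (i + 1) j c ∈ exps I := by
    intro c hc
    have h := hI.2 _ hc (0 : Fin 3) 1 (by decide) (by simp [e3])
    have he : e3 i (j + 1) c - Finsupp.single 1 1 + Finsupp.single 0 1 = e3 (i + 1) j c := by
      ext t
      rw [Finsupp.add_apply, Finsupp.tsub_apply, hev, hev, Finsupp.single_apply,
        Finsupp.single_apply]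
      fin_cases t <;> simp
    rwa [he] at h
  have hy : ∀ b, e3 i b (j + 1) ∈ exps I → e3 (i + 1) b j ∈ exps I := by
    intro b hb
    have h := hI.2 _ hb (0 : Fin 3) 2 (by decide) (by simp [e3])
    have he : e3 i b (j + 1) - Finsupp.single 2 1 + Finsupp.single 0 1 = e3 (i + 1) b j := by
      ext t
      rw [Finsupp.add_apply, Finsupp.tsub_apply, hev, hev, Finsupp.single_apply,
        Finsupp.single_apply]
      fin_cases t <;> simp
    rwa [he] at h
  constructor
  · unfold stairZ
    haveI := hfin (fun c => e3 i (j + 1) c) (hinjZ i (j + 1))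
    exact Nat.card_le_card_of_injective
      (fun c : {c : ℕ // e3 (i + 1) j c ∉ exps I} =>
        (⟨c.1, fun h => c.2 (hz c.1 h)⟩ : {c : ℕ // e3 i (j + 1) c ∉ exps I}))
      (fun c c' h => Subtype.ext (by simpa using congrArg Subtype.val h))
  · unfold stairY
    haveI := hfin (fun b => e3 i b (j + 1)) (hinjY i (j + 1))
    exact Nat.card_le_card_of_injective
      (fun b : {b : ℕ // e3 (i + 1) b j ∉ exps I} =>
        (⟨b.1, fun h => b.2 (hy b.1 h)⟩ : {b : ℕ // e3 i b (j + 1) ∉ exps I}))
      (fun b b' h => Subtype.ext (by simpa using congrArg Subtype.val h))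

end Groth.Agent.S13441
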