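import Groth.Statements.S13453
import Mathlib

set_option autoImplicit false
universe u
open W4c1hilbpn

namespace Groth.Agent.S13453

open W4c1hilbpn in
/-- Let k be an infinite field, S = k[x,y,z] with variables ordered x > y > z, and I a strongly stable
ideal of finite colength; write I_i for the ideal of polynomials f in k[y,z] with x^i f in I (so I
is the direct sum of the x^i I_i). Then each I_i is a strongly stable ideal of k[y,z] (with y > z)
and the ideal quotient (I_i : y) is contained in I_{i+1}. -/
theorem result (k : Type u) [Field k] [Infinite k]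
    (I : Ideal (MvPolynomial (Fin 3) k)) (hI : IsStronglyStable I) [Module.Finite k (MvPolynomial (Fin 3) k ⧸ I)] (i : ℕ) :
    IsStronglyStable (sliceX I i) ∧
      (sliceX I i).colon {(MvPolynomial.X 0 : MvPolynomial (Fin 2) k)} ≤ sliceX I (i + 1) := by
  classical
  have hm0 : ∀ x : Fin 2 →₀ ℕ, (x.mapDomain Fin.succ) (0 : Fin 3) = 0 := fun x =>
    Finsupp.mapDomain_of_notMem_range x 0 (by rintro ⟨u, hu⟩; exact Fin.succ_ne_zero u hu)
  have hms : ∀ (x : Fin 2 →₀ ℕ) (u : Fin 2), (x.mapDomain Fin.succ) u.succ = x u := fun x u =>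
    Finsupp.mapDomain_apply (Fin.succ_injective 2) x u
  have hz0 : ∀ u : Fin 2, (0 : Fin 3) ≠ u.succ := fun u => (Fin.succ_ne_zero u).symm
  have hmem : ∀ (a : ℕ) (f : MvPolynomial (Fin 2) k), f ∈ sliceX I a ↔
      ∀ β ∈ f.support, (β.mapDomain Fin.succ + Finsupp.single 0 a) ∈ exps I := by
    intro a f
    have h0 : f ∈ sliceX I a ↔ MvPolynomial.rename Fin.succ f * MvPolynomial.X 0 ^ a ∈ I := by
      unfold sliceX
      rw [Ideal.mem_comap, Submodule.mem_colon_singleton, smul_eq_mul]
      rfl
    rw [h0]
    constructor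
    · intro hq β hβ
      show MvPolynomial.monomial _ (1 : k) ∈ I
      apply hI.1 _ hq
      rw [MvPolynomial.mem_support_iff, MvPolynomial.X_pow_eq_monomial,
        MvPolynomial.coeff_mul_monomial, mul_one,
        MvPolynomial.coeff_rename_mapDomain Fin.succ (Fin.succ_injective 2)]
      exact MvPolynomial.mem_support_iff.mp hβ
    · intro h
      have hf := MvPolynomial.as_sum f
      have hq : MvPolynomial.rename Fin.succ f * MvPolynomial.X 0 ^ a
          = ∑ β ∈ f.support, MvPolynomial.C (MvPolynomial.coeff β f) *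
              MvPolynomial.monomial (β.mapDomain Fin.succ + Finsupp.single 0 a) (1 : k) := by
        conv_lhs => rw [hf]
        rw [map_sum, Finset.sum_mul]
        apply Finset.sum_congr rfl
        intro β _
        rw [MvPolynomial.rename_monomial, MvPolynomial.X_pow_eq_monomial,
          MvPolynomial.monomial_mul, MvPolynomial.C_mul_monomial, mul_one]
      rw [hq]
      apply Ideal.sum_mem
      intro β hβ
      exact I.mul_mem_left _ (h β hβ)
  have hsupp1 : ∀ β : Fin 2 →₀ ℕ, (MvPolynomial.monomial β (1 : k)).support = {β} := by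
    intro β
    rw [MvPolynomial.support_monomial, if_neg one_ne_zero]
  have hexps : ∀ (a : ℕ) (β : Fin 2 →₀ ℕ), β ∈ exps (sliceX I a) ↔
      (β.mapDomain Fin.succ + Finsupp.single 0 a) ∈ exps I := by
    intro a β
    show MvPolynomial.monomial β (1 : k) ∈ sliceX I a ↔ _
    rw [hmem, hsupp1]
    simp only [Finset.mem_singleton, forall_eq]
  have hmono : IsMonomial (sliceX I i) := by
    intro p hp β hβ
    exact (hexps i β).mpr ((hmem i p).mp hp β hβ)
  have hstab : ∀ β ∈ exps (sliceX I i), ∀ i' j' : Fin 2, i' < j' → 0 < β j' →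
      β - Finsupp.single j' 1 + Finsupp.single i' 1 ∈ exps (sliceX I i) := by
    intro β hβ i' j' hij hpos
    rw [hexps] at hβ ⊢
    have h := hI.2 _ hβ i'.succ j'.succ (Fin.succ_lt_succ_iff.mpr hij) (by
      rw [Finsupp.add_apply, hms, Finsupp.single_apply, if_neg (hz0 j'), add_zero]
      exact hpos)
    have he : (β.mapDomain Fin.succ + Finsupp.single 0 i) - Finsupp.single j'.succ 1
          + Finsupp.single i'.succ 1
        = (β - Finsupp.single j' 1 + Finsupp.single i' 1).mapDomain Fin.succ
          + Finsupp.single 0 i := by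
      ext t
      refine Fin.cases ?_ (fun u => ?_) t
      · simp [hm0, Finsupp.single_apply, Fin.succ_ne_zero]
      · simp [hms, Finsupp.single_apply, hz0, Fin.succ_inj]
    rwa [he] at h
  have hcolon : (sliceX I i).colon {(MvPolynomial.X 0 : MvPolynomial (Fin 2) k)}
      ≤ sliceX I (i + 1) := by
    intro f hf
    rw [Submodule.mem_colon_singleton, smul_eq_mul, hmem] at hf
    rw [hmem]
    intro β hβ
    have h1 := hf (β + Finsupp.single 0 1) (by
      rw [MvPolynomial.mem_support_iff, MvPolynomial.coeff_mul_X]
      exact MvPolynomial.mem_support_iff.mp hβ)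
    have h1' : (1 : Fin 3) = Fin.succ (0 : Fin 2) := rfl
    have h := hI.2 _ h1 (0 : Fin 3) 1 (by decide) (by
      have : ((β + Finsupp.single 0 1).mapDomain Fin.succ + Finsupp.single 0 i) (1 : Fin 3)
          = β 0 + 1 := by
        rw [h1', Finsupp.add_apply, hms, Finsupp.add_apply, Finsupp.single_apply,
          Finsupp.single_apply]
        simp
      rw [this]; omega)
    have he : ((β + Finsupp.single 0 1).mapDomain Fin.succ + Finsupp.single 0 i)
          - Finsupp.single 1 1 + Finsupp.single 0 1
        = β.mapDomain Fin.succ + Finsupp.single 0 (i + 1) := by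
      ext t
      refine Fin.cases ?_ (fun u => ?_) t
      · simp [hm0, Finsupp.single_apply]
      · have h1u : ((1 : Fin 3) = u.succ) ↔ (0 = u) := by
          revert u; decide
        simp [hms, Finsupp.single_apply, h1u]
    rwa [he] at h
  exact ⟨⟨hmono, hstab⟩, hcolon⟩

end Groth.Agent.S13453
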