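import Groth.Statements.S13455
import Mathlib

set_option autoImplicit false
universe u
open W4c1hilbpn

namespace Groth.Agent.S13455

/-- Let k be an algebraically closed field of characteristic different from 2, k0 ≥ 1 and n ≥ 2k0 - 1
natural numbers, S = k[x_0, ..., x_n], and e1 ≤ e2 ≤ k0 - 1. The ideal generated by all products x_p
x_q with e1 ≤ p, q ≤ e2 together with the products x_p x_{n-k0+1+q} for e1 ≤ p < q ≤ e2 is the
intersection, over j from e1 to e2, of the ideals generated by the variables x_i with e1 ≤ i ≤ e2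
and i ≠ j, the square x_j^2, and the variables x_{n-k0+1+q} for j < q ≤ e2 (a primary decomposition
of this monomial ideal). -/
theorem result (k : Type u) [Field k] [IsAlgClosed k] (hchar : ringChar k ≠ 2)
    (n k0 e1 e2 : ℕ) (hk : 1 ≤ k0) (hn : 2 * k0 ≤ n + 1) (he : e1 ≤ e2) (he2 : e2 + 1 ≤ k0) :
    Ideal.span ({f : MvPolynomial (Fin (n + 1)) k | ∃ p q : Fin (n + 1), e1 ≤ p.val ∧ p.val ≤ e2 ∧ e1 ≤ q.val ∧ q.val ≤ e2 ∧
        f = MvPolynomial.X p * MvPolynomial.X q} ∪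
      {f : MvPolynomial (Fin (n + 1)) k | ∃ p q m : Fin (n + 1), e1 ≤ p.val ∧ p.val < q.val ∧ q.val ≤ e2 ∧
        m.val + k0 = n + 1 + q.val ∧ f = MvPolynomial.X p * MvPolynomial.X m}) =
    ⨅ j : Fin (n + 1), ⨅ (_ : e1 ≤ j.val ∧ j.val ≤ e2),
      Ideal.span ({f : MvPolynomial (Fin (n + 1)) k | ∃ i : Fin (n + 1), e1 ≤ i.val ∧ i.val ≤ e2 ∧ i ≠ j ∧ f = MvPolynomial.X i} ∪
        {MvPolynomial.X j ^ 2} ∪
        {f : MvPolynomial (Fin (n + 1)) k | ∃ q m : Fin (n + 1), j.val < q.val ∧ q.val ≤ e2 ∧ m.val + k0 = n + 1 + q.val ∧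
          f = MvPolynomial.X m}) := by
  classical
  have hmon : ∀ a b : Fin (n + 1), MvPolynomial.monomial (Finsupp.single a 1 + Finsupp.single b 1)
      (1 : k) = MvPolynomial.X a * MvPolynomial.X b := by
    intro a b
    show _ = MvPolynomial.monomial _ _ * MvPolynomial.monomial _ _
    rw [MvPolynomial.monomial_mul, one_mul]
  apply le_antisymm
  · refine le_iInf fun j => le_iInf fun hj => ?_
    rw [Ideal.span_le]
    rintro f (⟨p, q, hp1, hp2, hq1, hq2, rfl⟩ | ⟨p, q, m, hp1, hpq, hq2, hm, rfl⟩)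
    · by_cases hpj : p = j
      · by_cases hqj : q = j
        · subst hpj; subst hqj
          rw [← pow_two]
          exact Ideal.subset_span (Or.inl (Or.inr rfl))
        · exact Ideal.mul_mem_left _ _
            (Ideal.subset_span (Or.inl (Or.inl ⟨q, hq1, hq2, hqj, rfl⟩)))
      · exact Ideal.mul_mem_right _ _
          (Ideal.subset_span (Or.inl (Or.inl ⟨p, hp1, hp2, hpj, rfl⟩)))
    · by_cases hpj : p = j
      · subst hpj
        exact Ideal.mul_mem_left _ _ (Ideal.subset_span (Or.inr ⟨q, m, hpq, hq2, hm, rfl⟩))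
      · exact Ideal.mul_mem_right _ _
          (Ideal.subset_span (Or.inl (Or.inl ⟨p, hp1, by omega, hpj, rfl⟩)))
  · intro f hf
    simp only [Ideal.mem_iInf] at hf
    have hL : (fun s => MvPolynomial.monomial s (1 : k)) ''
        ({s : Fin (n + 1) →₀ ℕ | ∃ p q : Fin (n + 1), e1 ≤ p.val ∧ p.val ≤ e2 ∧ e1 ≤ q.val ∧
            q.val ≤ e2 ∧ s = Finsupp.single p 1 + Finsupp.single q 1} ∪
          {s : Fin (n + 1) →₀ ℕ | ∃ p q m : Fin (n + 1), e1 ≤ p.val ∧ p.val < q.val ∧ q.val ≤ e2 ∧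
            m.val + k0 = n + 1 + q.val ∧ s = Finsupp.single p 1 + Finsupp.single m 1}) ⊆
        ({f : MvPolynomial (Fin (n + 1)) k | ∃ p q : Fin (n + 1), e1 ≤ p.val ∧ p.val ≤ e2 ∧
            e1 ≤ q.val ∧ q.val ≤ e2 ∧ f = MvPolynomial.X p * MvPolynomial.X q} ∪
          {f : MvPolynomial (Fin (n + 1)) k | ∃ p q m : Fin (n + 1), e1 ≤ p.val ∧ p.val < q.val ∧
            q.val ≤ e2 ∧ m.val + k0 = n + 1 + q.val ∧
            f = MvPolynomial.X p * MvPolynomial.X m}) := by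
      rintro _ ⟨s, (⟨p, q, hp1, hp2, hq1, hq2, rfl⟩ | ⟨p, q, m, hp1, hpq, hq2, hm, rfl⟩), rfl⟩
      · left; exact ⟨p, q, hp1, hp2, hq1, hq2, hmon p q⟩
      · right; exact ⟨p, q, m, hp1, hpq, hq2, hm, hmon p m⟩
    apply Ideal.span_mono hL
    rw [MvPolynomial.mem_ideal_span_monomial_image]
    intro u hu
    have hJ : ∀ j : Fin (n + 1), e1 ≤ j.val → j.val ≤ e2 →
        ((∃ i : Fin (n + 1), e1 ≤ i.val ∧ i.val ≤ e2 ∧ i ≠ j ∧ 1 ≤ u i) ∨ 2 ≤ u j ∨
          ∃ q m : Fin (n + 1), j.val < q.val ∧ q.val ≤ e2 ∧ m.val + k0 = n + 1 + q.val ∧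
            1 ≤ u m) := by
      intro j hj1 hj2
      have h1 := hf j ⟨hj1, hj2⟩
      have h2 : f ∈ Ideal.span ((fun s => MvPolynomial.monomial s (1 : k)) ''
          ({s : Fin (n + 1) →₀ ℕ | ∃ i : Fin (n + 1), e1 ≤ i.val ∧ i.val ≤ e2 ∧ i ≠ j ∧
              s = Finsupp.single i 1} ∪ {Finsupp.single j 2} ∪
            {s : Fin (n + 1) →₀ ℕ | ∃ q m : Fin (n + 1), j.val < q.val ∧ q.val ≤ e2 ∧
              m.val + k0 = n + 1 + q.val ∧ s = Finsupp.single m 1})) := by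
        refine Ideal.span_mono ?_ h1
        rintro g ((⟨i, hi1, hi2, hij, rfl⟩ | hg) | ⟨q, m, hq1, hq2, hm, rfl⟩)
        · exact ⟨Finsupp.single i 1, Or.inl (Or.inl ⟨i, hi1, hi2, hij, rfl⟩), rfl⟩
        · rw [Set.mem_singleton_iff] at hg
          subst hg
          exact ⟨Finsupp.single j 2, Or.inl (Or.inr rfl),
            (MvPolynomial.X_pow_eq_monomial).symm⟩
        · exact ⟨Finsupp.single m 1, Or.inr ⟨q, m, hq1, hq2, hm, rfl⟩, rfl⟩
      rw [MvPolynomial.mem_ideal_span_monomial_image] at h2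
      obtain ⟨si, hsi, hle⟩ := h2 u hu
      rcases hsi with (⟨i, hi1, hi2, hij, rfl⟩ | hsi) | ⟨q, m, hq1, hq2, hm, rfl⟩
      · left
        refine ⟨i, hi1, hi2, hij, ?_⟩
        have := hle i
        rwa [Finsupp.single_eq_same] at this
      · right; left
        rw [Set.mem_singleton_iff] at hsi
        subst hsi
        have := hle j
        rwa [Finsupp.single_eq_same] at this
      · right; right
        refine ⟨q, m, hq1, hq2, hm, ?_⟩
        have := hle m
        rwa [Finsupp.single_eq_same] at this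
    have hle2 : ∀ a b : Fin (n + 1), a ≠ b → 1 ≤ u a → 1 ≤ u b →
        Finsupp.single a 1 + Finsupp.single b 1 ≤ u := by
      intro a b hab ha hb l
      rw [Finsupp.add_apply, Finsupp.single_apply, Finsupp.single_apply]
      by_cases hl1 : a = l
      · subst hl1
        rw [if_pos rfl, if_neg (Ne.symm hab)]
        omega
      · rw [if_neg hl1]
        by_cases hl2 : b = l
        · subst hl2; rw [if_pos rfl]; omega
        · rw [if_neg hl2]; omega
    by_cases h2 : ∃ p : Fin (n + 1), e1 ≤ p.val ∧ p.val ≤ e2 ∧ 2 ≤ u p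
    · obtain ⟨p, hp1, hp2, hp⟩ := h2
      refine ⟨Finsupp.single p 1 + Finsupp.single p 1,
        Or.inl ⟨p, p, hp1, hp2, hp1, hp2, rfl⟩, ?_⟩
      intro l
      rw [Finsupp.add_apply, Finsupp.single_apply]
      by_cases hl : p = l
      · subst hl; rw [if_pos rfl]; omega
      · rw [if_neg hl]; omega
    by_cases h1 : ∃ p : Fin (n + 1), e1 ≤ p.val ∧ p.val ≤ e2 ∧ 1 ≤ u p
    · obtain ⟨p, hp1, hp2, hp⟩ := h1
      rcases hJ p hp1 hp2 with ⟨i, hi1, hi2, hip, hi⟩ | h | ⟨q, m, hq1, hq2, hm, hum⟩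
      · exact ⟨Finsupp.single i 1 + Finsupp.single p 1,
          Or.inl ⟨i, p, hi1, hi2, hp1, hp2, rfl⟩, hle2 i p hip hi hp⟩
      · exact absurd ⟨p, hp1, hp2, h⟩ h2
      · have hpm : p ≠ m := by
          intro hpm
          have : p.val = m.val := congrArg Fin.val hpm
          omega
        exact ⟨Finsupp.single p 1 + Finsupp.single m 1,
          Or.inr ⟨p, q, m, hp1, hq1, hq2, hm, rfl⟩, hle2 p m hpm hp hum⟩
    · have hj0 : e2 < n + 1 := by omega
      rcases hJ ⟨e2, hj0⟩ he le_rfl with ⟨i, hi1, hi2, _, hi⟩ | h | ⟨q, m, hq1, hq2, _, _⟩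
      · exact absurd ⟨i, hi1, hi2, hi⟩ h1
      · exact absurd ⟨⟨e2, hj0⟩, he, le_rfl, h⟩ h2
      · exfalso
        have : e2 < q.val := hq1
        omega

end Groth.Agent.S13455
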