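import Groth.Statements.S13590
import Groth.Agent.Lib.ClosedAdj

set_option autoImplicit false
universe u
open CategoryTheory TopologicalSpace
open SuppFam

namespace Groth.Agent.S13590

/-- `Γ_Z(I)` is injective for `I` injective (closed case). -/
lemma sectSuppF_injective {Y : TopCat.{u}} (U : Opens Y) (I : CohTop.Ab Y) [Injective I] :
    Injective ((LocCohZ.sectSuppF U).obj I) := by
  have : (CohTop.push (CohCx.inclCompl U)).PreservesMonomorphisms :=
    Functor.preservesMonomorphisms_of_adjunction
      (Groth.Agent.CohTopBasics.pullPushAdj (CohCx.inclCompl U))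
  have h1 : Injective ((LocCohZ.sectSuppF U ⋙ CohTop.pull (CohCx.inclCompl U)).obj I) :=
    Injective.injective_of_adjoint (Groth.Agent.GSS.closedAdj U) I
  have h2 : Injective ((CohTop.push (CohCx.inclCompl U)).obj
      ((LocCohZ.sectSuppF U ⋙ CohTop.pull (CohCx.inclCompl U)).obj I)) :=
    Groth.Agent.CohTopBasics.push_injective (CohCx.inclCompl U) _
  exact Injective.of_iso (asIso ((Groth.Agent.GSS.adjZ U).unit.app ((LocCohZ.sectSuppF U).obj I))).symm h2


/-- For an abelian sheaf `F` on a topological space `X` and a locally closed `Z = V ∖ W` (`W ≤ V`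
opens), if `F` is injective then the sheaf `Γ_Z(F) = i_* i^!(F)` of sections of `F` with supports in
`Z` is injective. -/
theorem result {X : TopCat.{u}} (F : CohTop.Ab X) {W V : Opens X} (h : W ≤ V)
    (hF : Injective F) : Injective ((SuppFam.sectSuppLC h).obj F) := by
  have h1 : Injective ((CohTop.restrFunctor V).obj F) := Groth.Agent.CohTopBasics.restr_injective V F
  have h2 := sectSuppF_injective (SuppFam.inOpen V W) ((CohTop.restrFunctor V).obj F)
  exact Groth.Agent.CohTopBasics.push_injective (CohCx.incl V) _


end Groth.Agent.S13590
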