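import Groth.Statements.S13603
import Mathlib

set_option autoImplicit false
universe u v
open CAlg

namespace Groth.Agent.S13603

/-- Let a group G act on a commutative ring B by ring automorphisms so that every element of B has a
finite orbit, and let S ⊆ B be a multiplicative set of G-fixed elements (so each g ∈ G induces an
endomorphism of the localization S⁻¹B; the hypothesis that g maps S into S is implied by the
previous one and is only carried to name that endomorphism). Then an element of S⁻¹B is fixed by all
of G if and only if it is a fraction b/s with b fixed by G and s ∈ S: the canonical map S⁻¹(B^G) →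
(S⁻¹B)^G is onto. -/
theorem result {B : Type u} [CommRing B]
    {G : Type v} [Group G] [MulSemiringAction G B] (hfin : ∀ b : B, (MulAction.orbit G b).Finite)
    (S : Submonoid B) (hS : ∀ (g : G) (s : B), s ∈ S → g • s = s)
    (hS' : ∀ g : G, S ≤ S.comap (MulSemiringAction.toRingHom G B g)) (x : Localization S) :
    (∀ g : G, IsLocalization.map (Localization S) (MulSemiringAction.toRingHom G B g) (hS' g) x = x) ↔
      ∃ (b : B) (s : S), (∀ g : G, g • b = b) ∧ x = IsLocalization.mk' (Localization S) b s := by
  classical
  constructor
  · intro hx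
    obtain ⟨b, s, rfl⟩ := IsLocalization.exists_mk'_eq S x
    have hkey : ∀ g : G, ∃ t : S, (t : B) * (g • b) = (t : B) * b := by
      intro g
      have h1 := hx g
      rw [IsLocalization.map_mk'] at h1
      have h2 : (⟨(MulSemiringAction.toRingHom G B g) s, hS' g s.2⟩ : S) = s :=
        Subtype.ext (hS g s s.2)
      rw [h2, IsLocalization.mk'_eq_iff_eq] at h1
      obtain ⟨c, hc⟩ := (IsLocalization.eq_iff_exists S (Localization S)).1 h1
      refine ⟨c * s, ?_⟩
      simp only [Submonoid.coe_mul, MulSemiringAction.toRingHom_apply] at hc ⊢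
      rw [mul_assoc, mul_assoc]
      exact hc
    -- choose t for each element of the orbit
    have horb : ∀ b' ∈ (hfin b).toFinset, ∃ t : S, (t : B) * b' = (t : B) * b := by
      intro b' hb'
      rw [Set.Finite.mem_toFinset] at hb'
      obtain ⟨g, rfl⟩ := hb'
      exact hkey g
    choose! T hT using horb
    obtain ⟨t, ht⟩ : ∃ t : S, t = ∏ b' ∈ (hfin b).toFinset, T b' := ⟨_, rfl⟩
    have htg : ∀ g : G, (t : B) * (g • b) = (t : B) * b := by
      intro g
      have hmem : g • b ∈ (hfin b).toFinset := by
        rw [Set.Finite.mem_toFinset]; exact ⟨g, rfl⟩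
      rw [ht, ← Finset.mul_prod_erase _ _ hmem]
      simp only [Submonoid.coe_mul]
      rw [mul_comm (T (g • b) : B), mul_assoc, hT _ hmem, ← mul_assoc, mul_comm _ (T (g • b) : B)]
    refine ⟨t * b, t * s, ?_, ?_⟩
    · intro g
      rw [smul_mul', hS g t t.2, htg g]
    · rw [mul_comm (t : B) b, mul_comm t s]
      exact (IsLocalization.mk'_cancel (S := Localization S) b s t).symm
  · rintro ⟨b, s, hb, rfl⟩ g
    rw [IsLocalization.map_mk']
    have h2 : (⟨(MulSemiringAction.toRingHom G B g) s, hS' g s.2⟩ : S) = s :=
      Subtype.ext (hS g s s.2)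
    rw [h2]
    congr 1
    exact hb g

end Groth.Agent.S13603
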