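import Groth.Statements.S13607

set_option autoImplicit false
open CategoryTheory CategoryTheory.Limits Opposite
universe w v u
open ARSys

namespace Groth.Agent.S13607

lemma homKilledBy_of_killedBy {C : Type u} [Category.{v} C] [Preadditive C] {A : Type w} [CommRing A]
    [Linear A C] (I : Ideal A) {W Q : C} (hQ : KilledBy I Q) (φ : W ⟶ Q) : HomKilledBy I φ := by
  intro a ha
  have : a • φ = φ ≫ (a • 𝟙 Q) := by rw [Linear.comp_smul, Category.comp_id]
  rw [this, hQ a ha, comp_zero]

lemma homKilledBy_comp {C : Type u} [Category.{v} C] [Preadditive C] {A : Type w} [CommRing A]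
    [Linear A C] (I : Ideal A) {W Q R : C} (φ : W ⟶ Q) (hφ : HomKilledBy I φ) (ψ : Q ⟶ R) :
    HomKilledBy I (φ ≫ ψ) := by
  intro a ha
  rw [← Linear.smul_comp, hφ a ha, zero_comp]


/-- In an abelian category linear over a commutative ring A with an ideal J, let X be a J-adic
projective system indexed by the natural numbers and Y a projective system whose n-th term is killed
by J^(n+1) for every n. Then for every r, every morphism from the translate X[r] to Y factors
uniquely through the canonical translation map X[r] ⟶ X: there is exactly one morphism g : X ⟶ Y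
whose n-th component, precomposed with the transition map X_(n+r) ⟶ X_n, is the n-th component of
the given morphism. In particular morphisms X ⟶ Y up to translation are the same as morphisms X ⟶ Y.
(The published statement is for systems of finitely generated modules over a Noetherian ring, and
for systems of sheaves of modules on the small etale site; this row states it in any linear abelian
category, which is all the argument uses.) -/
theorem result {C : Type u} [Category.{v} C] [Abelian C] {A : Type w} [CommRing A] [Linear A C]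
    (J : Ideal A) (X Y : ARSys.PS C) (hX : ARSys.IsAdic J X) (hY : ARSys.TermKilled J Y) (r : ℕ)
    (f : (ARSys.shift C r).obj X ⟶ Y) :
    ∃! g : X ⟶ Y, ∀ n : ℕ, f.app (op n) = ARSys.shiftMap X r n ≫ g.app (op n) := by
  -- components of `f`
  let fc : ∀ n : ℕ, X.obj (op (n + r)) ⟶ Y.obj (op n) := fun n => f.app (op n)
  have hfnat : ∀ (n m : ℕ) (h : n ≤ m),
      X.map (homOfLE (Nat.add_le_add_right h r)).op ≫ fc n = fc m ≫ Y.map (homOfLE h).op :=
    fun n m h => f.naturality (homOfLE h).op
  have hfk : ∀ n, HomKilledBy (J ^ (n + 1)) (fc n) := fun n => homKilledBy_of_killedBy _ (hY n) _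
  have hq : ∀ n, IsQuot (J ^ (n + 1)) (shiftMap X r n) := fun n => hX.2 n (n + r) _
  choose gc hgc0 hguniq0 using fun n => (hq n).2 _ (fc n) (hfk n)
  have hgc : ∀ n, shiftMap X r n ≫ gc n = fc n := hgc0
  have hguniq : ∀ (n : ℕ) (y : X.obj (op n) ⟶ Y.obj (op n)), shiftMap X r n ≫ y = fc n → y = gc n :=
    hguniq0
  have hgnat : ∀ (n m : ℕ) (h : n ≤ m), X.map (homOfLE h).op ≫ gc n = gc m ≫ Y.map (homOfLE h).op := by
    intro n m h
    have hk : HomKilledBy (J ^ (m + 1)) (fc m ≫ Y.map (homOfLE h).op) := homKilledBy_comp _ _ (hfk m) _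
    obtain ⟨ψ, -, hψ0⟩ := (hq m).2 _ _ hk
    have hψ : ∀ y : X.obj (op m) ⟶ Y.obj (op n),
        shiftMap X r m ≫ y = fc m ≫ Y.map (homOfLE h).op → y = ψ := hψ0
    have hsq : shiftMap X r m ≫ X.map (homOfLE h).op =
        X.map (homOfLE (Nat.add_le_add_right h r)).op ≫ shiftMap X r n :=
      (X.map_comp _ _).symm.trans ((congrArg X.map (Subsingleton.elim _ _)).trans (X.map_comp _ _))
    have e1 : X.map (homOfLE h).op ≫ gc n = ψ := by
      apply hψ
      calc shiftMap X r m ≫ (X.map (homOfLE h).op ≫ gc n)
          = (shiftMap X r m ≫ X.map (homOfLE h).op) ≫ gc n := (Category.assoc _ _ _).symm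
        _ = (X.map (homOfLE (Nat.add_le_add_right h r)).op ≫ shiftMap X r n) ≫ gc n :=
            congrArg (· ≫ gc n) hsq
        _ = X.map (homOfLE (Nat.add_le_add_right h r)).op ≫ (shiftMap X r n ≫ gc n) :=
            Category.assoc _ _ _
        _ = X.map (homOfLE (Nat.add_le_add_right h r)).op ≫ fc n :=
            congrArg (X.map (homOfLE (Nat.add_le_add_right h r)).op ≫ ·) (hgc n)
        _ = fc m ≫ Y.map (homOfLE h).op := hfnat n m h
    have e2 : gc m ≫ Y.map (homOfLE h).op = ψ := by
      apply hψ
      calc shiftMap X r m ≫ (gc m ≫ Y.map (homOfLE h).op)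
          = (shiftMap X r m ≫ gc m) ≫ Y.map (homOfLE h).op := (Category.assoc _ _ _).symm
        _ = fc m ≫ Y.map (homOfLE h).op := congrArg (· ≫ Y.map (homOfLE h).op) (hgc m)
    exact e1.trans e2.symm
  let g : X ⟶ Y :=
    { app := fun n => gc n.unop
      naturality := fun n m k => by
        have hle : m.unop ≤ n.unop := k.unop.le
        have hk : k = (homOfLE hle).op := Subsingleton.elim _ _
        subst hk
        exact hgnat _ _ hle }
  refine ⟨g, fun n => (hgc n).symm, ?_⟩
  intro g' hg'
  ext ⟨n⟩
  exact hguniq n (g'.app (op n)) (hg' n).symm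

end Groth.Agent.S13607
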