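import Groth.Statements.S13608
import Mathlib
import Groth.Agent.Lib.helper7.AdicLe

set_option autoImplicit false
universe u v
open CAlg

namespace Groth.Agent.S13608

/-- Let A be a commutative ring, I a finitely generated ideal of A and (M_n) an inverse system of
A-modules with transition maps f_n : M_(n+1) → M_n such that I^(n+1) M_n = 0 for every n. If L is an
inverse limit of the system (projections π_n compatible with the f_n, jointly injective, and such
that every compatible family of elements lifts to L), then L is complete and separated for the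
I-adic topology. No surjectivity of the transition maps is assumed. -/
theorem result
    (A : Type u) [CommRing A] (I : Ideal A) (hI : I.FG)
    (M : ℕ → Type v) [∀ n, AddCommGroup (M n)] [∀ n, Module A (M n)]
    (f : ∀ n, M (n + 1) →ₗ[A] M n)
    (hkill : ∀ n, I ^ (n + 1) • (⊤ : Submodule A (M n)) = ⊥)
    (L : Type v) [AddCommGroup L] [Module A L] (π : ∀ n, L →ₗ[A] M n)
    (hπ : ∀ n, f n ∘ₗ π (n + 1) = π n)
    (hinj : ∀ x : L, (∀ n, π n x = 0) → x = 0)
    (hlift : ∀ y : (∀ n, M n), (∀ n, f n (y (n + 1)) = y n) → ∃ x : L, ∀ n, π n x = y n) :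
    IsAdicComplete I L := by
  classical
  have hπ' : ∀ n x, f n (π (n + 1) x) = π n x := fun n x => LinearMap.congr_fun (hπ n) x
  -- vanishing
  have hvan : ∀ n k : ℕ, n + 1 ≤ k → ∀ z ∈ (I ^ k • ⊤ : Submodule A L), π n z = 0 := by
    intro n k hnk z hz
    have h1 : π n z ∈ Submodule.map (π n) (I ^ k • ⊤ : Submodule A L) := ⟨z, hz, rfl⟩
    rw [Submodule.map_smul''] at h1
    have h2 : (I ^ k • Submodule.map (π n) ⊤ : Submodule A (M n)) ≤ I ^ (n + 1) • ⊤ :=
      Submodule.smul_mono (Ideal.pow_le_pow_right hnk) le_top
    have h3 := h2 h1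
    rw [hkill n] at h3
    exact (Submodule.mem_bot A).1 h3
  have hH : IsHausdorff I L := by
    refine ⟨fun x hx => hinj x (fun n => ?_)⟩
    have := hx (n + 1)
    rw [SModEq.sub_mem, sub_zero] at this
    exact hvan n (n + 1) le_rfl x this
  have hP : IsPrecomplete I L := by
    refine ⟨fun x hx => ?_⟩
    -- differences
    have hdiff : ∀ k l, k ≤ l → x l - x k ∈ (I ^ k • ⊤ : Submodule A L) := by
      intro k l hkl
      have := (hx hkl).symm
      rwa [SModEq.sub_mem] at this
    -- limit
    have hcompat : ∀ n, f n (π (n + 1) (x (n + 2))) = π n (x (n + 1)) := by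
      intro n
      rw [hπ']
      have := hvan n (n + 1) le_rfl _ (hdiff (n + 1) (n + 2) (by omega))
      rw [map_sub, sub_eq_zero] at this
      exact this
    obtain ⟨X, hX⟩ := hlift (fun n => π n (x (n + 1))) hcompat
    have hXk : ∀ n K, n + 1 ≤ K → π n X = π n (x K) := by
      intro n K hK
      rw [hX n]
      have := hvan n (n + 1) le_rfl _ (hdiff (n + 1) K hK)
      rw [map_sub, sub_eq_zero] at this
      exact this.symm
    refine ⟨X, fun k => ?_⟩
    obtain ⟨s, hs⟩ := Ideal.FG.pow (n := k) hI
    have hdec : ∀ j : ℕ, ∃ z : A → L, (∀ a, z a ∈ (I ^ j • ⊤ : Submodule A L)) ∧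
        x (k + j + 1) - x (k + j) = ∑ a ∈ s, a • z a := by
      intro j
      apply Groth.Agent.Lib.helper7.H7_smul_decomp
      rw [hs, ← Submodule.mul_smul, ← pow_add]
      exact hdiff (k + j) (k + j + 1) (by omega)
    choose z hz1 hz2 using hdec
    -- the infinite sums Z a
    have hZex : ∀ a, ∃ Z : L, ∀ n, π n Z = ∑ j ∈ Finset.range (n + 1), π n (z j a) := by
      intro a
      apply hlift (fun n => ∑ j ∈ Finset.range (n + 1), π n (z j a))
      intro n
      rw [map_sum, Finset.sum_range_succ]
      simp only [hπ']
      rw [hvan n (n + 1) le_rfl _ (hz1 (n + 1) a), add_zero]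
    choose Z hZ using hZex
    have htel : ∀ J, x (k + J) - x k = ∑ a ∈ s, a • ∑ j ∈ Finset.range J, z j a := by
      intro J
      induction J with
      | zero => simp
      | succ J ih =>
        have : x (k + (J + 1)) - x k = (x (k + J + 1) - x (k + J)) + (x (k + J) - x k) := by
          rw [← add_assoc]; abel
        rw [this, ih, hz2, ← Finset.sum_add_distrib]
        apply Finset.sum_congr rfl
        intro a _
        rw [Finset.sum_range_succ, smul_add]
        abel
    have hkey : X - x k = ∑ a ∈ s, a • Z a := by
      rw [← sub_eq_zero]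
      apply hinj
      intro n
      have h1 : π n X = π n (x (k + (n + 1))) := hXk n _ (by omega)
      have h2 := htel (n + 1)
      have h3 : π n (X - x k) = ∑ a ∈ s, a • ∑ j ∈ Finset.range (n + 1), π n (z j a) := by
        rw [map_sub, h1, ← map_sub, h2, map_sum]
        apply Finset.sum_congr rfl
        intro a _
        rw [map_smul, map_sum]
      rw [map_sub, h3, map_sum, sub_eq_zero]
      apply Finset.sum_congr rfl
      intro a _
      rw [map_smul, hZ]
    symm
    rw [SModEq.sub_mem, hkey]
    apply Submodule.sum_mem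
    intro a ha
    apply Submodule.smul_mem_smul _ Submodule.mem_top
    rw [← hs]
    exact Ideal.subset_span ha
  exact { toIsHausdorff := hH, toIsPrecomplete := hP }

end Groth.Agent.S13608
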