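import Groth.Statements.S13609
import Mathlib
import Groth.Agent.Lib.helper2.AdicComplete

set_option autoImplicit false
universe u v
open CAlg

namespace Groth.Agent.S13609

/-- A direct summand of a module that is complete and separated for the I-adic topology is again
complete and separated: for a commutative ring A, an ideal I and A-modules M₁, M₂, if M₁ × M₂ is
I-adically complete then so is M₁. -/
theorem result (A : Type u) [CommRing A] (I : Ideal A)
    (M₁ M₂ : Type v) [AddCommGroup M₁] [Module A M₁] [AddCommGroup M₂] [Module A M₂]
    [IsAdicComplete I (M₁ × M₂)] : IsAdicComplete I M₁ := by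
  exact Groth.Agent.H2.H2_isAdicComplete_of_retract I (LinearMap.inl A M₁ M₂) (LinearMap.fst A M₁ M₂)
    (LinearMap.fst_comp_inl A M₁ M₂)

end Groth.Agent.S13609
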