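import Groth.Statements.S13683
import Groth.Statements.S13683
import Mathlib

set_option autoImplicit false
universe u v
open BTGrp

namespace Groth.Agent.S13683

/-- Let p be a natural number and r ≥ 1; let M_1, …, M_r and N be abelian groups carrying additive
endomorphisms F_i, V_i (on M_i) and F_0, V_0 (on N) with V_i ∘ F_i and V_0 ∘ F_0 equal to
multiplication by p and V_0 injective; let φ : M_1 × ⋯ × M_r → N be additive in each variable with
φ(V_1 x_1, …, V_r x_r) = V_0 φ(x_1, …, x_r). If y_i, z_i ∈ M_i satisfy F_i^N z_i = V_i^M y_i for all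
i, then for every d ∈ N^r one has F_0^N (p^{(r-1)N} φ(V_1^{d_1} z_1, …, V_r^{d_r} z_r)) = V_0^M
φ(V_1^{d_1} y_1, …, V_r^{d_r} y_r). (The published statement is the case of Dieudonné modules over a
perfect field of characteristic p, with F and V the Frobenius and Verschiebung and φ a multilinear
morphism of the associated displays; only the structure listed here enters its proof. For r = 0 the
assertion fails, so r ≥ 1 is required.) -/
theorem result (p : ℕ) {r : ℕ} (hr : 0 < r)
    (M : Fin r → Type u) (N : Type v) [∀ i, AddCommGroup (M i)] [AddCommGroup N]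
    (F V : ∀ i, M i →+ M i) (F₀ V₀ : N →+ N)
    (hVF : ∀ i (x : M i), V i (F i x) = p • x) (hVF₀ : ∀ x : N, V₀ (F₀ x) = p • x)
    (hV₀ : Function.Injective V₀)
    (φ : MultilinearMap ℤ M N) (hφ : ∀ x : ∀ i, M i, φ (fun i => V i (x i)) = V₀ (φ x))
    (Nn Mm : ℕ) (d : Fin r → ℕ) (y z : ∀ i, M i)
    (hyz : ∀ i, (⇑(F i))^[Nn] (z i) = (⇑(V i))^[Mm] (y i)) :
    (⇑F₀)^[Nn] (p ^ ((r - 1) * Nn) • φ (fun i => (⇑(V i))^[d i] (z i))) =
      (⇑V₀)^[Mm] (φ (fun i => (⇑(V i))^[d i] (y i))) := by
  -- Lemma A: V^n F^n = p^n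
  have hA : ∀ (n : ℕ) (x : N), (⇑V₀)^[n] ((⇑F₀)^[n] x) = p ^ n • x := by
    intro n
    induction n with
    | zero => intro x; simp
    | succ n ih =>
      intro x
      rw [Function.iterate_succ_apply, Function.iterate_succ_apply', hVF₀, iterate_map_nsmul, ih,
        pow_succ, mul_smul]
      rw [smul_comm]
  have hAi : ∀ (i : Fin r) (n : ℕ) (x : M i), (⇑(V i))^[n] ((⇑(F i))^[n] x) = p ^ n • x := by
    intro i n
    induction n with
    | zero => intro x; simp
    | succ n ih =>
      intro x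
      rw [Function.iterate_succ_apply, Function.iterate_succ_apply', hVF, iterate_map_nsmul, ih,
        pow_succ, mul_smul]
      rw [smul_comm]
  -- Lemma B
  have hB : ∀ (n : ℕ) (x : ∀ i, M i), φ (fun i => (⇑(V i))^[n] (x i)) = (⇑V₀)^[n] (φ x) := by
    intro n
    induction n with
    | zero => intro x; simp
    | succ n ih =>
      intro x
      have : (fun i => (⇑(V i))^[n + 1] (x i)) = fun i => (⇑(V i))^[n] ((fun j => V j (x j)) i) := by
        funext i
        rw [Function.iterate_succ_apply]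
      rw [this, ih, hφ, Function.iterate_succ_apply]
  have hinj : Function.Injective ((⇑V₀)^[Nn]) := hV₀.iterate Nn
  apply hinj
  rw [hA, ← Function.iterate_add_apply, ← hB]
  -- LHS: p^N • p^((r-1)N) • φ(...) = p^(rN) • φ (...)
  rw [← mul_smul, ← pow_add]
  have hexp : Nn + (r - 1) * Nn = r * Nn := by
    obtain ⟨k, rfl⟩ : ∃ k, r = k + 1 := ⟨r - 1, by omega⟩
    simp; ring
  rw [hexp]
  -- multilinearity
  have hmul : φ (fun i => ((p : ℤ) ^ Nn) • (⇑(V i))^[d i] (z i)) =
      (∏ _i : Fin r, ((p : ℤ) ^ Nn)) • φ (fun i => (⇑(V i))^[d i] (z i)) :=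
    φ.map_smul_univ (fun _ => (p : ℤ) ^ Nn) (fun i => (⇑(V i))^[d i] (z i))
  rw [Finset.prod_const, Finset.card_univ, Fintype.card_fin, ← pow_mul] at hmul
  have hcast : ((p : ℤ) ^ (Nn * r)) • φ (fun i => (⇑(V i))^[d i] (z i)) =
      p ^ (r * Nn) • φ (fun i => (⇑(V i))^[d i] (z i)) := by
    rw [mul_comm Nn r, ← Nat.cast_pow, natCast_zsmul]
  rw [← hcast, ← hmul]
  congr 1
  funext i
  rw [← Nat.cast_pow, natCast_zsmul, ← iterate_map_nsmul, ← hAi i Nn (z i), hyz i,
    ← Function.iterate_add_apply, ← Function.iterate_add_apply, ← Function.iterate_add_apply]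
  congr 1
  omega

end Groth.Agent.S13683
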