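import Groth.Statements.S13709
import Mathlib

set_option autoImplicit false
universe u
open CategoryTheory CategoryTheory.Limits AlgebraicGeometry
open ZeroCyc

namespace Groth.Agent.S13709

/-- Let f : X → Y be a quasi-compact morphism of schemes and g : Y' → Y a faithfully flat morphism, i.e.
flat and surjective, with no quasi-compactness assumption on g. If the base change X ×_Y Y' → Y' of
f along g is a homeomorphism on underlying spaces, then so is f. -/
theorem result {X Y Y' : Scheme.{u}} (f : X ⟶ Y) (g : Y' ⟶ Y)
    [Flat g] [Surjective g] [QuasiCompact f] (h : IsHomeomorph (pullback.snd f g).base) :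
    IsHomeomorph f.base := by
  rw [isHomeomorph_iff_continuous_isClosedMap_bijective] at h ⊢
  obtain ⟨hcont, hclosed, hinj, hsurj⟩ := h
  have hcond : ∀ z : ↑(pullback f g), f ((pullback.fst f g) z) = g ((pullback.snd f g) z) := by
    intro z
    rw [← Scheme.Hom.comp_apply, pullback.condition, Scheme.Hom.comp_apply]
  refine ⟨f.continuous, ?_, ?_, ?_⟩
  · -- closed map
    rw [isClosedMap_iff_specializingMap]
    intro x y hxy
    -- hxy : f x ⤳ y (flip)
    obtain ⟨y', rfl⟩ := g.surjective y
    obtain ⟨y'', hy'', hgy''⟩ := (Flat.generalizingMap g) hxy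
    obtain ⟨z, hz1, hz2⟩ := Scheme.Pullback.exists_preimage_pullback x y'' hgy''.symm
    have hspec : SpecializingMap (pullback.snd f g) := hclosed.specializingMap
    have hz2' : (pullback.snd f g) z ⤳ y' := by rw [hz2]; exact hy''
    obtain ⟨z', hz', hz'2⟩ := hspec hz2'
    refine ⟨(pullback.fst f g) z', ?_, ?_⟩
    · have := (pullback.fst f g).continuous.specialization_monotone hz'
      rw [← hz1]
      exact this
    · rw [hcond, hz'2]
  · -- injective
    intro x1 x2 hx
    obtain ⟨y', hy'⟩ := g.surjective (f x1)
    obtain ⟨z1, hz11, hz12⟩ := Scheme.Pullback.exists_preimage_pullback (f := f) (g := g) x1 y' hy'.symm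
    obtain ⟨z2, hz21, hz22⟩ := Scheme.Pullback.exists_preimage_pullback (f := f) (g := g) x2 y'
      (hx ▸ hy'.symm)
    have : z1 = z2 := hinj (hz12.trans hz22.symm)
    rw [← hz11, ← hz21, this]
  · -- surjective
    intro y
    obtain ⟨y', rfl⟩ := g.surjective y
    obtain ⟨z, rfl⟩ := hsurj y'
    exact ⟨(pullback.fst f g) z, hcond z⟩

end Groth.Agent.S13709
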