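import Groth.Statements.S13725
import Groth.Statements.S13725
import Mathlib

set_option autoImplicit false
universe u
open scoped TensorProduct
open ZeroCyc

namespace Groth.Agent.S13725

/-- Let k be a field of characteristic p > 0 and let F : k → k be the law x ↦ x^p, multiplicative and
homogeneous of degree p over k. The kernel of F is the zero ideal, but after the flat base change k
→ A' = k[X]/(X^p) the kernel of the base-changed law on A' ⊗_k k is not zero (the class of X lies in
it). So in characteristic p, forming the kernel of a multiplicative law is not compatible with flat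
base change. -/
theorem result {k : Type u} [Field k] (p : ℕ) [Fact p.Prime] [CharP k p] :
    PolLaw.ker (PolLaw.MulLaw.pow k k p).law = ⊥ ∧
      PolLaw.kerBC (PolLaw.MulLaw.pow k k p).law (AdjoinRoot ((Polynomial.X : Polynomial k) ^ p)) ≠ ⊥ := by
  classical
  have hp : p.Prime := Fact.out
  constructor
  · rw [eq_bot_iff]
    intro b hb
    have h1 := hb k 0 1
    change (0 + 1 * ((1 : k) ⊗ₜ[k] b)) ^ p = (0 : k ⊗[k] k) ^ p at h1
    rw [zero_add, one_mul, zero_pow hp.ne_zero, Algebra.TensorProduct.tmul_pow, one_pow] at h1
    have h2 := congrArg (TensorProduct.lid k k) h1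
    rw [TensorProduct.lid_tmul, map_zero, one_smul] at h2
    rw [Ideal.mem_bot]
    exact pow_eq_zero_iff hp.ne_zero |>.mp h2
  · intro hbot
    have hmem : ((AdjoinRoot.root ((Polynomial.X : Polynomial k) ^ p)) ⊗ₜ[k] (1 : k)) ∈
        PolLaw.kerBC (PolLaw.MulLaw.pow k k p).law (AdjoinRoot ((Polynomial.X : Polynomial k) ^ p)) := by
      intro R _ _ _ _ x w
      change (x + w * _) ^ p = x ^ p
      rw [Algebra.TensorProduct.map_tmul]
      by_cases hS : Subsingleton (R ⊗[k] k)
      · exact Subsingleton.elim _ _
      · rw [not_subsingleton_iff_nontrivial] at hS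
        haveI : CharP (R ⊗[k] k) p :=
          charP_of_injective_algebraMap (algebraMap k (R ⊗[k] k)).injective p
        rw [add_pow_char, mul_pow, Algebra.TensorProduct.tmul_pow]
        have : ((IsScalarTower.toAlgHom k (AdjoinRoot ((Polynomial.X : Polynomial k) ^ p)) R)
            (AdjoinRoot.root ((Polynomial.X : Polynomial k) ^ p))) ^ p = 0 := by
          rw [← map_pow]
          have : (AdjoinRoot.root ((Polynomial.X : Polynomial k) ^ p)) ^ p = 0 := by
            have := AdjoinRoot.eval₂_root ((Polynomial.X : Polynomial k) ^ p)
            simpa using this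
          rw [this, map_zero]
        rw [this, TensorProduct.zero_tmul, mul_zero, add_zero]
    rw [hbot, Ideal.mem_bot] at hmem
    have h2 := congrArg (TensorProduct.rid k _) hmem
    rw [TensorProduct.rid_tmul, map_zero, one_smul] at h2
    have h3 : AdjoinRoot.mk ((Polynomial.X : Polynomial k) ^ p) Polynomial.X = 0 := h2
    rw [AdjoinRoot.mk_eq_zero] at h3
    have h4 := Polynomial.natDegree_le_of_dvd h3 Polynomial.X_ne_zero
    rw [Polynomial.natDegree_X_pow, Polynomial.natDegree_X] at h4
    exact absurd hp.two_le (by omega)

end Groth.Agent.S13725
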