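import Groth.Statements.S13757
import Mathlib

set_option autoImplicit false
universe u
open LabGraph

namespace Groth.Agent.S13757

theorem divhelp (d l : ℤ) (hl : 0 < l) (hd : l ∣ d) :
    (d ≤ 0 → d / l ≤ 0) ∧ (d / l = 0 → d = 0) := by
  obtain ⟨k, rfl⟩ := hd
  rw [Int.mul_ediv_cancel_left _ (ne_of_gt hl)]
  constructor
  · intro h
    by_contra hk
    push Not at hk
    nlinarith
  · intro h
    rw [h, mul_zero]

/-- Let G be a finite connected multigraph (loops and multiple edges allowed) with vertex set V, edge
set E, endpoint map E → V × V and a labelling of the edges by positive integers l. A vertex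
labelling φ : V → ℤ is Cartier when l(e) divides the difference of the values of φ at the two
endpoints of every edge e; its multidegree is the vertex labelling whose value at v is the sum, over
the edge-ends at v, of (value of φ at the other endpoint − φ(v)) / l(e). Then the Cartier vertex
labellings of multidegree zero are exactly the constant ones: the kernel of the multidegree operator
on Cartier labellings is ℤ, embedded as the constants. -/
theorem result
    {V E : Type u} [Fintype V] [Fintype E] [DecidableEq V] [DecidableEq E]
    (ends : E → V × V) (l : E → ℕ) (hl : ∀ e, 0 < l e) (hconn : LabGraph.Connected ends)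
    (φ : V → ℤ) (hφ : LabGraph.IsCartier ends l φ) :
    (∀ v : V, LabGraph.mdeg ends l φ v = 0) ↔ ∀ v w : V, φ v = φ w := by
  constructor
  · intro h
    obtain ⟨⟨v0⟩, hc⟩ := hconn
    obtain ⟨vm, -, hmax⟩ := Finset.exists_max_image Finset.univ φ ⟨v0, Finset.mem_univ _⟩
    have hmax' : ∀ w, φ w ≤ φ vm := fun w => hmax w (Finset.mem_univ _)
    have prop : ∀ v w, φ v = φ vm → LabGraph.Adj ends v w → φ w = φ vm := by
      intro v w hv hadj
      have hl' : ∀ e, (0 : ℤ) < (l e : ℤ) := fun e => by exact_mod_cast hl e
      have d1 : ∀ e, (l e : ℤ) ∣ φ (ends e).2 - φ (ends e).1 :=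
        fun e => (dvd_sub_comm).mp (hφ e)
      have d2 : ∀ e, (l e : ℤ) ∣ φ (ends e).1 - φ (ends e).2 := hφ
      have t1 : ∀ e, (if (ends e).1 = v then (φ (ends e).2 - φ (ends e).1) / (l e : ℤ) else 0)
          ≤ 0 := by
        intro e
        split_ifs with h1
        · apply (divhelp _ _ (hl' e) (d1 e)).1
          rw [h1, hv]; linarith [hmax' (ends e).2]
        · exact le_refl _
      have t2 : ∀ e, (if (ends e).2 = v then (φ (ends e).1 - φ (ends e).2) / (l e : ℤ) else 0)
          ≤ 0 := by
        intro e
        split_ifs with h1
        · apply (divhelp _ _ (hl' e) (d2 e)).1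
          rw [h1, hv]; linarith [hmax' (ends e).1]
        · exact le_refl _
      have hz := h v
      unfold LabGraph.mdeg at hz
      rw [Finset.sum_eq_zero_iff_of_nonpos (fun e _ => add_nonpos (t1 e) (t2 e))] at hz
      obtain ⟨e, he | he⟩ := hadj
      · have h0 := hz e (Finset.mem_univ _)
        have h1 : (if (ends e).1 = v then (φ (ends e).2 - φ (ends e).1) / (l e : ℤ) else 0)
            = 0 := by
          linarith [t1 e, t2 e]
        have e1 : (ends e).1 = v := by rw [he]
        have e2 : (ends e).2 = w := by rw [he]
        rw [if_pos e1] at h1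
        have h2 := (divhelp _ _ (hl' e) (d1 e)).2 h1
        rw [e1, e2] at h2
        linarith
      · have h0 := hz e (Finset.mem_univ _)
        have h1 : (if (ends e).2 = v then (φ (ends e).1 - φ (ends e).2) / (l e : ℤ) else 0)
            = 0 := by
          linarith [t1 e, t2 e]
        have e1 : (ends e).1 = w := by rw [he]
        have e2 : (ends e).2 = v := by rw [he]
        rw [if_pos e2] at h1
        have h2 := (divhelp _ _ (hl' e) (d2 e)).2 h1
        rw [e1, e2] at h2
        linarith
    have all : ∀ w, φ w = φ vm := by
      intro w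
      have hr := hc vm w
      induction hr with
      | refl => rfl
      | tail _ hbc ih => exact prop _ _ ih hbc
    intro v w
    rw [all v, all w]
  · intro h v
    unfold LabGraph.mdeg
    apply Finset.sum_eq_zero
    intro e _
    have e1 : φ (ends e).2 - φ (ends e).1 = 0 := by rw [h (ends e).2 (ends e).1, sub_self]
    have e2 : φ (ends e).1 - φ (ends e).2 = 0 := by rw [h (ends e).2 (ends e).1, sub_self]
    rw [e1, e2, Int.zero_ediv]
    simp

end Groth.Agent.S13757
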