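import Groth.Statements.S13772
import Mathlib

set_option autoImplicit false
universe u v
open PLie

namespace Groth.Agent.S13772

/-- Let R be a commutative ring of prime characteristic p and L a Lie algebra over R with a p-mapping γ.
For a map g : L → L, there is a p-mapping γ' on L with γ' x = γ x + g x for every x if and only if g
is additive, g (c • x) = c ^ p • g x for all scalars c, and every value g x lies in the centre of L.
(Both parts of the published statement at once: the difference of two p-mappings is a
Frobenius-semilinear map into the centre, and adding such a map to a p-mapping gives a p-mapping.) -/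
theorem result (R : Type u) [CommRing R] (p : ℕ) [Fact p.Prime] [CharP R p]
    (L : Type v) [LieRing L] [LieAlgebra R L] (γ : PLie.PMap R p L) (g : L → L) :
    (∃ γ' : PLie.PMap R p L, ∀ x : L, γ' x = γ x + g x) ↔
      ((∀ x y : L, g (x + y) = g x + g y) ∧ (∀ (c : R) (x : L), g (c • x) = c ^ p • g x) ∧
        ∀ x : L, g x ∈ LieAlgebra.center R L) := by
  constructor
  · rintro ⟨γ', hγ'⟩
    have hg : ∀ x, g x = γ' x - γ x := by
      intro x; rw [hγ' x]; abel
    refine ⟨?_, ?_, ?_⟩
    · intro x y
      have h1 := γ'.map_add x y
      have h2 := γ.map_add x y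
      have e1 : γ' (x + y) = γ' x + γ' y - PLie.jacobson R p x y := h1
      have e2 : γ (x + y) = γ x + γ y - PLie.jacobson R p x y := h2
      rw [hg, hg, hg, e1, e2]
      abel
    · intro c x
      have e1 : γ' (c • x) = c ^ p • γ' x := γ'.map_smul c x
      have e2 : γ (c • x) = c ^ p • γ x := γ.map_smul c x
      rw [hg, hg, e1, e2, smul_sub]
    · intro x
      rw [LieModule.mem_maxTrivSubmodule]
      intro y
      rw [← lie_skew, neg_eq_zero]
      have e1 : LieAlgebra.ad R L (γ' x) = LieAlgebra.ad R L x ^ p := γ'.ad_map x
      have e2 : LieAlgebra.ad R L (γ x) = LieAlgebra.ad R L x ^ p := γ.ad_map x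
      have : LieAlgebra.ad R L (g x) = 0 := by
        rw [hg, map_sub, e1, e2, sub_self]
      have h3 := congrArg (fun F => F y) this
      simpa using h3
  · rintro ⟨hadd, hsmul, hcen⟩
    have hcen' : ∀ x, LieAlgebra.ad R L (g x) = 0 := by
      intro x
      ext y
      have := hcen x
      rw [LieModule.mem_maxTrivSubmodule] at this
      rw [LieAlgebra.ad_apply, ← lie_skew, this y]
      simp
    refine ⟨{ toFun := fun x => γ x + g x
              map_smul := ?_
              ad_map := ?_
              map_add := ?_ }, fun x => rfl⟩
    · intro c x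
      have e2 : γ (c • x) = c ^ p • γ x := γ.map_smul c x
      show γ (c • x) + g (c • x) = c ^ p • (γ x + g x)
      rw [e2, hsmul, smul_add]
    · intro x
      have e2 : LieAlgebra.ad R L (γ x) = LieAlgebra.ad R L x ^ p := γ.ad_map x
      show LieAlgebra.ad R L (γ x + g x) = _
      rw [map_add, hcen', add_zero, e2]
    · intro x y
      have e2 : γ (x + y) = γ x + γ y - PLie.jacobson R p x y := γ.map_add x y
      show γ (x + y) + g (x + y) = γ x + g x + (γ y + g y) - PLie.jacobson R p x y
      rw [e2, hadd]
      abel

end Groth.Agent.S13772
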