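import Groth.Statements.S13784
import Mathlib

set_option autoImplicit false
universe u
open CAlg

namespace Groth.Agent.S13784

/-- Let A be a commutative local ring and G a finite subgroup of Aˣ. If the order of G is invertible in
A, then G is cyclic. -/
theorem result {A : Type u} [CommRing A] [IsLocalRing A]
    (G : Subgroup Aˣ) [Finite G] (hG : IsUnit ((Nat.card G : ℕ) : A)) : IsCyclic G := by
  classical
  let f : G →* IsLocalRing.ResidueField A :=
    ((IsLocalRing.residue A : A →* IsLocalRing.ResidueField A).comp (Units.coeHom A)).comp G.subtype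
  have hinj : Function.Injective f := by
    rw [injective_iff_map_eq_one]
    intro g hg
    have hg' : IsLocalRing.residue A ((g : Aˣ) : A) = 1 := hg
    set y : A := ((g : Aˣ) : A) with hy
    have hpow : y ^ Nat.card G = 1 := by
      have h1 : g ^ Nat.card G = 1 := pow_card_eq_one'
      have h2 : (((g ^ Nat.card G : G) : Aˣ) : A) = ((1 : G) : Aˣ) := by rw [h1]
      rw [hy]
      push_cast at h2
      exact h2
    have hgeom := geom_sum_mul y (Nat.card G)
    rw [hpow, sub_self] at hgeom
    have hS : IsUnit (∑ i ∈ Finset.range (Nat.card G), y ^ i) := by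
      rw [← IsLocalRing.residue_ne_zero_iff_isUnit]
      rw [map_sum]
      simp only [map_pow, hg', one_pow, Finset.sum_const, Finset.card_range, nsmul_eq_mul, mul_one]
      have := (IsLocalRing.residue_ne_zero_iff_isUnit _).mpr hG
      simpa using this
    have hy1 : y - 1 = 0 := (hS.mul_right_eq_zero).mp hgeom
    have : ((g : Aˣ) : A) = 1 := sub_eq_zero.mp hy1
    ext
    simpa using this
  exact isCyclic_of_injective_ringHom f hinj

end Groth.Agent.S13784
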