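import Groth.Statements.S13785
import Mathlib

set_option autoImplicit false
universe u
open CAlg

namespace Groth.Agent.S13785

/-- For any commutative ring A, the determinant of the generic n × n matrix is a nonzerodivisor of the
polynomial ring over A in the n² matrix entries. -/
theorem result (A : Type u) [CommRing A] (n : ℕ) :
    (Matrix.mvPolynomialX (Fin n) (Fin n) A).det ∈ nonZeroDivisors (MvPolynomial (Fin n × Fin n) A) := by
  classical
  let φ : MvPolynomial (Fin n × Fin n) A →ₐ[A] Polynomial (MvPolynomial (Fin n × Fin n) A) :=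
    MvPolynomial.aeval (fun p : Fin n × Fin n =>
      Polynomial.C (MvPolynomial.X p : MvPolynomial (Fin n × Fin n) A) + (if p.1 = p.2 then (Polynomial.X : Polynomial (MvPolynomial (Fin n × Fin n) A)) else 0))
  have hφX : ∀ p : Fin n × Fin n, φ (MvPolynomial.X p) = Polynomial.C (MvPolynomial.X p : MvPolynomial (Fin n × Fin n) A) + (if p.1 = p.2 then (Polynomial.X : Polynomial (MvPolynomial (Fin n × Fin n) A)) else 0) := by
    intro p
    exact MvPolynomial.aeval_X _ p
  let ψ : Polynomial (MvPolynomial (Fin n × Fin n) A) →+* (MvPolynomial (Fin n × Fin n) A) := Polynomial.evalRingHom (0 : MvPolynomial (Fin n × Fin n) A)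
  have hψφ : ∀ g : MvPolynomial (Fin n × Fin n) A, ψ (φ g) = g := by
    intro g
    have : (ψ.comp φ.toRingHom) = RingHom.id _ := by
      apply MvPolynomial.ringHom_ext
      · intro a
        have : φ (MvPolynomial.C a) = Polynomial.C (MvPolynomial.C a) := by
          rw [← MvPolynomial.algebraMap_eq, AlgHom.commutes]
          rfl
        simp [ψ, this]
      · intro p
        simp only [RingHom.comp_apply, AlgHom.toRingHom_eq_coe, RingHom.coe_coe, hφX, RingHom.id_apply]
        split_ifs <;> simp [ψ]
    exact congrArg (fun f => f g) this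
  have hφinj : Function.Injective φ := fun a b hab => by
    rw [← hψφ a, ← hψφ b, hab]
  have hdet : φ (Matrix.mvPolynomialX (Fin n) (Fin n) A).det =
      (Matrix.charpoly (-(Matrix.mvPolynomialX (Fin n) (Fin n) A))) := by
    rw [AlgHom.map_det, Matrix.charpoly]
    congr 1
    ext i j : 1
    simp only [AlgHom.mapMatrix_apply, Matrix.map_apply, Matrix.mvPolynomialX_apply, hφX,
      Matrix.charmatrix_apply, Matrix.neg_apply, map_neg, sub_neg_eq_add, Matrix.diagonal_apply]
    rw [add_comm]
  rw [mem_nonZeroDivisors_iff_right]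
  intro g hg
  have h1 : φ g * φ (Matrix.mvPolynomialX (Fin n) (Fin n) A).det = 0 := by
    rw [← map_mul, hg, map_zero]
  rw [hdet] at h1
  have hmon : (Matrix.charpoly (-(Matrix.mvPolynomialX (Fin n) (Fin n) A))).Monic := Matrix.charpoly_monic _
  have h2 : φ g = 0 := by
    exact (hmon.isRegular.right.eq_iff).mp (by rw [h1, zero_mul])
  exact hφinj (by rw [h2, map_zero])

end Groth.Agent.S13785
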