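import Groth.Statements.S13786
import Mathlib
import Groth.Agent.H8Flat
import Groth.Agent.S7766

set_option autoImplicit false
universe u
open CAlg

namespace Groth.Agent.S13786

section H8

open MvPolynomial TensorProduct Groth.Agent.S7766

theorem flat_quot' {A : Type u} [CommRing A] {σ : Type*} [LinearOrder σ] [WellFoundedGT σ]
    (f : MvPolynomial σ A) (hf : Ideal.span (Set.range f.coeff) = ⊤) :
    Module.Flat A (MvPolynomial σ A ⧸ Ideal.span ({f} : Set (MvPolynomial σ A))) := by
  rw [Module.Flat.iff_lTensor_injective']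
  intro I
  refine Groth.Agent.H8Flat.chase (R := A) I.subtype I.mkQ (LinearMap.exact_subtype_mkQ I)
    (Submodule.mkQ_surjective I)
    (LinearMap.mulLeft A f)
    (Ideal.Quotient.mkₐ A (Ideal.span ({f} : Set (MvPolynomial σ A)))).toLinearMap
    ?_ ?_ ?_ ?_
  · intro y
    constructor
    · intro hy
      have h1 : y ∈ Ideal.span ({f} : Set (MvPolynomial σ A)) := by
        rw [← Ideal.Quotient.eq_zero_iff_mem]
        exact hy
      obtain ⟨q, hq⟩ := Ideal.mem_span_singleton'.1 h1
      exact ⟨q, by rw [← hq, mul_comm]; rfl⟩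
    · rintro ⟨q, rfl⟩
      show Ideal.Quotient.mk _ (f * q) = 0
      rw [Ideal.Quotient.eq_zero_iff_mem]
      exact Ideal.mul_mem_right _ _ (Ideal.subset_span rfl)
  · exact Ideal.Quotient.mk_surjective
  · exact Module.Flat.lTensor_preserves_injective_linearMap _ (Submodule.injective_subtype I)
  · have hfI : Ideal.span (Set.range (MvPolynomial.map (Ideal.Quotient.mk I) f).coeff) = ⊤ := by
      have h1 : Set.range (MvPolynomial.map (Ideal.Quotient.mk I) f).coeff =
          (Ideal.Quotient.mk I) '' (Set.range f.coeff) := by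
        ext x
        constructor
        · rintro ⟨β, rfl⟩
          exact ⟨f.coeff β, ⟨β, rfl⟩, (MvPolynomial.coeff_map _ _ _).symm⟩
        · rintro ⟨_, ⟨β, rfl⟩, rfl⟩
          exact ⟨β, MvPolynomial.coeff_map _ _ _⟩
      rw [h1, ← Ideal.map_span, hf, Ideal.map_top]
    have key : ∀ z : MvPolynomial σ A ⊗[A] (A ⧸ I),
        MvPolynomial.algebraTensorAlgEquiv A (A ⧸ I)
          (TensorProduct.comm A _ _ ((LinearMap.mulLeft A f).rTensor (A ⧸ I) z)) =
        MvPolynomial.map (Ideal.Quotient.mk I) f *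
          MvPolynomial.algebraTensorAlgEquiv A (A ⧸ I) (TensorProduct.comm A _ _ z) := by
      intro z
      induction z using TensorProduct.induction_on with
      | zero => simp
      | tmul q s =>
        simp only [LinearMap.rTensor_tmul, LinearMap.mulLeft_apply, TensorProduct.comm_tmul,
          MvPolynomial.algebraTensorAlgEquiv_tmul, map_mul, mul_smul_comm]
        rfl
      | add x y hx hy => simp only [map_add, hx, hy, mul_add]
    rw [injective_iff_map_eq_zero]
    intro z hz
    have h2 := key z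
    rw [hz, map_zero, map_zero] at h2
    have h3 := mccoy_prim _ hfI _ _ le_rfl h2.symm
    have h4 : TensorProduct.comm A _ _ z = 0 :=
      (MvPolynomial.algebraTensorAlgEquiv A (A ⧸ I)).injective (by rw [h3, map_zero])
    exact (TensorProduct.comm A _ _).injective (by rw [h4, map_zero])

end H8


/-- For a commutative ring A and n ≥ 1, with det the determinant of the generic n × n matrix in the
polynomial ring A[X] in n² indeterminates, the A-algebra A[X]/(det) is faithfully flat over A. (For
n = 0 the determinant is 1 and the quotient is the zero ring, so n ≥ 1 is required.) -/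
theorem result (A : Type u) [CommRing A] (n : ℕ) (hn : 0 < n) :
    Module.FaithfullyFlat A
      (MvPolynomial (Fin n × Fin n) A ⧸ Ideal.span {(Matrix.mvPolynomialX (Fin n) (Fin n) A).det}) := by
  classical
  let lo : LinearOrder (Fin n × Fin n) :=
    LinearOrder.lift' finProdFinEquiv finProdFinEquiv.injective
  have hwf := @Finite.to_wellFoundedGT (Fin n × Fin n) _ lo.toPartialOrder.toPreorder
  have hprim : Ideal.span (Set.range
      (Matrix.mvPolynomialX (Fin n) (Fin n) A).det.coeff) = ⊤ := by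
    by_contra hne
    obtain ⟨𝔪, hmax, hle⟩ := Ideal.exists_le_maximal _ hne
    have hzero : MvPolynomial.map (Ideal.Quotient.mk 𝔪)
        (Matrix.mvPolynomialX (Fin n) (Fin n) A).det = 0 := by
      ext β
      rw [MvPolynomial.coeff_map, MvPolynomial.coeff_zero, Ideal.Quotient.eq_zero_iff_mem]
      exact hle (Ideal.subset_span ⟨β, rfl⟩)
    have hdet : MvPolynomial.map (Ideal.Quotient.mk 𝔪)
        (Matrix.mvPolynomialX (Fin n) (Fin n) A).det =
        (Matrix.mvPolynomialX (Fin n) (Fin n) (A ⧸ 𝔪)).det := by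
      rw [RingHom.map_det]
      congr 1
      ext i j
      simp [Matrix.mvPolynomialX]
    have : Nontrivial (A ⧸ 𝔪) := Ideal.Quotient.nontrivial_iff.2 hmax.ne_top
    exact Matrix.det_mvPolynomialX_ne_zero (m := Fin n) (R := A ⧸ 𝔪) (hdet ▸ hzero)
  have hflat := @flat_quot' A _ (Fin n × Fin n) lo hwf (Matrix.mvPolynomialX (Fin n) (Fin n) A).det hprim
  refine ⟨?_⟩
  intro 𝔪 hmax heq
  -- point: zero matrix over A ⧸ 𝔪
  let ψ : MvPolynomial (Fin n × Fin n) A →ₐ[A] (A ⧸ 𝔪) :=
    MvPolynomial.aeval (fun _ => (0 : A ⧸ 𝔪))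
  have hψdet : ψ (Matrix.mvPolynomialX (Fin n) (Fin n) A).det = 0 := by
    rw [AlgHom.map_det]
    have h0 : ψ.mapMatrix (Matrix.mvPolynomialX (Fin n) (Fin n) A) = 0 := by
      ext i j
      simp [ψ, Matrix.mvPolynomialX]
    rw [h0]
    have : Nonempty (Fin n) := ⟨⟨0, hn⟩⟩
    exact Matrix.det_zero
  have hle : Ideal.span ({(Matrix.mvPolynomialX (Fin n) (Fin n) A).det} :
      Set (MvPolynomial (Fin n × Fin n) A)) ≤ RingHom.ker ψ := by
    rw [Ideal.span_singleton_le_iff_mem]
    exact hψdet
  let ψ' : (MvPolynomial (Fin n × Fin n) A ⧸ Ideal.span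
      ({(Matrix.mvPolynomialX (Fin n) (Fin n) A).det} : Set (MvPolynomial (Fin n × Fin n) A)))
      →ₐ[A] (A ⧸ 𝔪) := Ideal.Quotient.liftₐ _ ψ (fun a ha => hle ha)
  have hkill : ∀ b ∈ 𝔪 • (⊤ : Submodule A (MvPolynomial (Fin n × Fin n) A ⧸ Ideal.span
      ({(Matrix.mvPolynomialX (Fin n) (Fin n) A).det} :
        Set (MvPolynomial (Fin n × Fin n) A)))), ψ' b = 0 := by
    intro b hb
    refine Submodule.smul_induction_on hb (fun a ha x _ => ?_) (fun x y hx hy => ?_)
    · rw [map_smul, Algebra.smul_def]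
      have : algebraMap A (A ⧸ 𝔪) a = 0 := Ideal.Quotient.eq_zero_iff_mem.2 ha
      rw [this, zero_mul]
    · rw [map_add, hx, hy, add_zero]
  have h1 : ψ' 1 = 0 := hkill 1 (by rw [heq]; trivial)
  rw [map_one] at h1
  have : Nontrivial (A ⧸ 𝔪) := Ideal.Quotient.nontrivial_iff.2 hmax.ne_top
  exact one_ne_zero h1

end Groth.Agent.S13786
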