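import Groth.Statements.S13791
import Mathlib

set_option autoImplicit false
universe u
open CategoryTheory
open CohSite

namespace Groth.Agent.S13791


open CategoryTheory CategoryTheory.Limits Opposite


open CategoryTheory CategoryTheory.Limits Opposite Abelian

noncomputable section
section
variable {C : Type u} [SmallCategory C] (J : GrothendieckTopology C)

lemma exists_section {B C' : AddCommGrpCat.{u}} (g : B ⟶ C') (hg : Function.Surjective g) :
    ∃ τ : (sheafCompose J (forget AddCommGrpCat.{u})).obj ((constantSheaf J _).obj C') ⟶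
      (sheafCompose J (forget AddCommGrpCat.{u})).obj ((constantSheaf J _).obj B),
      τ ≫ (sheafCompose J (forget AddCommGrpCat.{u})).map ((constantSheaf J _).map g) = 𝟙 _ := by
  let iso := constantCommuteCompose J (forget AddCommGrpCat.{u})
  obtain ⟨σ, hσ⟩ := hg.hasRightInverse
  let σ' : (forget AddCommGrpCat.{u}).obj C' ⟶ (forget AddCommGrpCat.{u}).obj B := TypeCat.ofHom σ
  have hσ' : σ' ≫ (forget AddCommGrpCat.{u}).map g = 𝟙 _ := by
    ext x
    exact hσ x
  refine ⟨iso.hom.app C' ≫ (constantSheaf J (Type u)).map σ' ≫ iso.inv.app B, ?_⟩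
  have nat := iso.inv.naturality g
  simp only [Category.assoc]
  erw [← nat]
  have h3 : (constantSheaf J (Type u)).map σ' ≫
      (forget AddCommGrpCat.{u} ⋙ constantSheaf J (Type u)).map g = 𝟙 _ := by
    rw [Functor.comp_map, ← Functor.map_comp, hσ', CategoryTheory.Functor.map_id]
  rw [← Category.assoc ((constantSheaf J (Type u)).map σ'), h3, Category.id_comp]
  exact iso.hom_inv_id_app C'

abbrev Zp : Cᵒᵖ ⥤ AddCommGrpCat.{u} := (Functor.const Cᵒᵖ).obj (AddCommGrpCat.of (ULift ℤ))

lemma lift_hom {B C' : AddCommGrpCat.{u}} (g : B ⟶ C') (hg : Function.Surjective g)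
    (φ : (constantSheaf J AddCommGrpCat.{u}).obj (AddCommGrpCat.of (ULift ℤ)) ⟶
      (constantSheaf J _).obj C') :
    ∃ ψ : (constantSheaf J AddCommGrpCat.{u}).obj (AddCommGrpCat.of (ULift ℤ)) ⟶
      (constantSheaf J _).obj B, ψ ≫ (constantSheaf J _).map g = φ := by
  obtain ⟨τ, hτ⟩ := exists_section J g hg
  let adj := sheafificationAdjunction J AddCommGrpCat.{u}
  let φ' : Zp (C := C) ⟶ ((constantSheaf J _).obj C').obj := adj.homEquiv (Zp (C := C)) _ φ
  let c : ∀ U : Cᵒᵖ, ((constantSheaf J _).obj C').obj.obj U := fun U => φ'.app U ⟨1⟩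
  have hc : ∀ {U V : Cᵒᵖ} (i : U ⟶ V), ((constantSheaf J _).obj C').obj.map i (c U) = c V := by
    intro U V i
    have h1 := φ'.naturality i
    have h2 := ConcreteCategory.congr_hom h1 (⟨1⟩ : ULift ℤ)
    exact h2.symm
  let b : ∀ U : Cᵒᵖ, ((constantSheaf J _).obj B).obj.obj U := fun U => τ.hom.app U (c U)
  have hb : ∀ {U V : Cᵒᵖ} (i : U ⟶ V), ((constantSheaf J _).obj B).obj.map i (b U) = b V := by
    intro U V i
    have h1 := NatTrans.naturality_apply τ.hom i
    have h2 := h1 (c U)
    refine h2.symm.trans ?_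
    show τ.hom.app V (((constantSheaf J _).obj C').obj.map i (c U)) = b V
    rw [hc i]
  have hgb : ∀ U : Cᵒᵖ, ((constantSheaf J _).map g).hom.app U (b U) = c U := by
    intro U
    have h1 := congr_arg (fun φ => (φ.hom.app U)) hτ
    exact ConcreteCategory.congr_hom h1 (c U)
  let ψ' : Zp (C := C) ⟶ ((constantSheaf J _).obj B).obj :=
    { app := fun U => AddCommGrpCat.ofHom (uliftZMultiplesHom _ (b U))
      naturality := by
        intro U V i
        ext ⟨n⟩
        simp [uliftZMultiplesHom, hb i] }
  refine ⟨(adj.homEquiv (Zp (C := C)) _).symm ψ', ?_⟩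
  apply (adj.homEquiv (Zp (C := C)) _).injective
  refine (adj.homEquiv_naturality_right (X := Zp (C := C))
    ((adj.homEquiv (Zp (C := C)) _).symm ψ') ((constantSheaf J _).map g)).trans ?_
  rw [Equiv.apply_symm_apply]
  ext U ⟨n⟩
  have h1 : φ'.app U ⟨n⟩ = n • c U := by
    have : (⟨n⟩ : ULift ℤ) = n • (⟨1⟩ : ULift ℤ) := by
      ext; simp
    rw [this, map_zsmul]
  simp [ψ', uliftZMultiplesHom, hgb]
  exact h1.symm


theorem main {A B : Type u} [AddCommGroup A] [AddCommGroup B] (f : A →+ B)
    (hf : Function.Injective f) :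
    Function.Injective
      (Sheaf.H.map ((constantSheaf J AddCommGrpCat.{u}).map (AddCommGrpCat.ofHom f)) 1) := by
  let f' : AddCommGrpCat.of A ⟶ AddCommGrpCat.of B := AddCommGrpCat.ofHom f
  haveI : Mono f' := (AddCommGrpCat.mono_iff_injective f').2 hf
  let S0 : ShortComplex AddCommGrpCat.{u} := ShortComplex.mk f' (cokernel.π f') (cokernel.condition f')
  have hS0 : S0.ShortExact :=
    { exact := ShortComplex.exact_cokernel f'
      mono_f := inferInstance
      epi_g := by dsimp [S0]; infer_instance }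
  haveI : PreservesFiniteLimits (constantSheaf J AddCommGrpCat.{u}) := by
    unfold constantSheaf; infer_instance
  haveI : PreservesFiniteColimits (constantSheaf J AddCommGrpCat.{u}) := by
    unfold constantSheaf; infer_instance
  have hS : (S0.map (constantSheaf J AddCommGrpCat.{u})).ShortExact := hS0.map_of_exact _
  have hsurj : Function.Surjective S0.g := (AddCommGrpCat.epi_iff_surjective S0.g).1 hS0.epi_g
  rw [injective_iff_map_eq_zero]
  intro x hx
  rw [Sheaf.H.map_apply] at hx
  obtain ⟨x₃, rfl⟩ := Ext.covariant_sequence_exact₁ _ hS x hx (n₀ := 0) rfl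
  obtain ⟨φ, rfl⟩ := (Ext.mk₀_bijective _ _).surjective x₃
  obtain ⟨ψ, hψ⟩ := lift_hom J S0.g hsurj φ
  let ψ' : (constantSheaf J AddCommGrpCat.{u}).obj (AddCommGrpCat.of (ULift ℤ)) ⟶
    (S0.map (constantSheaf J AddCommGrpCat.{u})).X₂ := ψ
  have : Ext.mk₀ φ =
      (Ext.mk₀ ψ').comp (Ext.mk₀ ((S0.map (constantSheaf J AddCommGrpCat.{u})).g)) (add_zero 0) := by
    rw [Ext.mk₀_comp_mk₀]
    congr 1
    exact hψ.symm
  rw [this, Ext.comp_assoc_of_second_deg_zero, hS.comp_extClass, Ext.comp_zero]
  rfl

end
end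

/-- On a site, for a short exact sequence 0 → A → B → C → 0 of abelian groups the map H¹(A) → H¹(B) on
the first cohomology of the associated constant sheaves is injective. Stated for an injective
homomorphism f : A → B (C being its cokernel), with H¹ the Ext-based sheaf cohomology of the site. -/
theorem result {C : Type u} [SmallCategory C] (J : GrothendieckTopology C)
    {A B : Type u} [AddCommGroup A] [AddCommGroup B] (f : A →+ B) (hf : Function.Injective f) :
    Function.Injective
      (Sheaf.H.map ((constantSheaf J AddCommGrpCat.{u}).map (AddCommGrpCat.ofHom f)) 1) := by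
  exact main J f hf

end Groth.Agent.S13791
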