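import Groth.Statements.S13794
import Mathlib

set_option autoImplicit false
universe u
open Polynomial
open Curves

namespace Groth.Agent.S13794

/-- Let k be a field of characteristic not 3 and β ∈ k. If a line ax + by + c = 0 with a³ ≠ b³ is the
tangent line at a flex point of the affine cubic x³ + y³ + β = 3xy, then β is a cube in k. Here the
line is normalised to b ≠ 0 (the roles of x and y are symmetric) and the flex-tangency is expressed
by the restriction of the cubic to the line being λ (x − x₀)³. -/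
theorem result {k : Type u} [Field k] (h3 : (3 : k) ≠ 0)
    (β a b c : k) (hb : b ≠ 0) (hab : a ^ 3 ≠ b ^ 3) (lam x₀ : k)
    (hflex : (X : k[X]) ^ 3 + (C (-a / b) * X + C (-c / b)) ^ 3 + C β - 3 * X * (C (-a / b) * X + C (-c / b)) =
      C lam * (X - C x₀) ^ 3) :
    ∃ γ : k, β = γ ^ 3 := by
  obtain ⟨p, hp⟩ : ∃ p, p = -a / b := ⟨_, rfl⟩
  obtain ⟨q, hq⟩ : ∃ q, q = -c / b := ⟨_, rfl⟩
  rw [← hp, ← hq] at hflex
  have hE : C (1 + p ^ 3 - lam) * X ^ 3 + C (3 * p ^ 2 * q - 3 * p + 3 * lam * x₀) * X ^ 2 +
      C (3 * p * q ^ 2 - 3 * q - 3 * lam * x₀ ^ 2) * X + C (q ^ 3 + β + lam * x₀ ^ 3) = (0 : k[X]) := by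
    have : C (1 + p ^ 3 - lam) * X ^ 3 + C (3 * p ^ 2 * q - 3 * p + 3 * lam * x₀) * X ^ 2 +
      C (3 * p * q ^ 2 - 3 * q - 3 * lam * x₀ ^ 2) * X + C (q ^ 3 + β + lam * x₀ ^ 3) =
      ((X : k[X]) ^ 3 + (C p * X + C q) ^ 3 + C β - 3 * X * (C p * X + C q)) - C lam * (X - C x₀) ^ 3 := by
      simp only [map_add, map_sub, map_mul, map_pow, map_one, map_ofNat]
      ring
    rw [this, hflex, sub_self]
  have c3 := congrArg (fun f => Polynomial.coeff f 3) hE
  have c2 := congrArg (fun f => Polynomial.coeff f 2) hE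
  have c1 := congrArg (fun f => Polynomial.coeff f 1) hE
  have c0 := congrArg (fun f => Polynomial.coeff f 0) hE
  simp only [coeff_add, coeff_C_mul, coeff_X_pow, coeff_X, coeff_C, coeff_zero] at c3 c2 c1 c0
  norm_num at c3 c2 c1 c0
  have hlam : lam ≠ 0 := by
    intro h0
    apply hab
    have : 1 + p ^ 3 = 0 := by rw [h0] at c3; linear_combination c3
    rw [hp] at this
    field_simp at this
    linear_combination (-1 : k) * this
  have e2 : p * (p * q - 1) = -lam * x₀ := by
    have : (3 : k) * (p * (p * q - 1) + lam * x₀) = 0 := by linear_combination c2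
    rcases mul_eq_zero.mp this with h | h
    · exact absurd h h3
    · linear_combination h
  have e1 : q * (p * q - 1) = lam * x₀ ^ 2 := by
    have : (3 : k) * (q * (p * q - 1) - lam * x₀ ^ 2) = 0 := by linear_combination c1
    rcases mul_eq_zero.mp this with h | h
    · exact absurd h h3
    · linear_combination h
  have e3 : lam = 1 + p ^ 3 := by linear_combination (-1 : k) * c3
  have e0 : β = -lam * x₀ ^ 3 - q ^ 3 := by linear_combination c0
  by_cases hs : p * q - 1 = 0
  · have hx : x₀ = 0 := by
      rw [hs, mul_zero] at e2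
      rcases mul_eq_zero.mp e2.symm with h | h
      · exact absurd (neg_eq_zero.mp h) hlam
      · exact h
    refine ⟨-q, ?_⟩
    rw [e0, hx]; ring
  · have hq' : q = -p * x₀ := by
      have : (p * q - 1) * (q + p * x₀) = 0 := by linear_combination e1 + x₀ * e2
      rcases mul_eq_zero.mp this with h | h
      · exact absurd h hs
      · linear_combination h
    have hpx : p = x₀ := by
      rw [hq', e3] at e2
      linear_combination (-1 : k) * e2
    refine ⟨-x₀, ?_⟩
    rw [e0, hq', e3, hpx]; ring

end Groth.Agent.S13794
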