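import Groth.Statements.S13801
import Mathlib

set_option autoImplicit false
open ChowMon

namespace Groth.Agent.S13801

/-- For a prime p and positive natural numbers a_1, ..., a_k with sum n one has v_p(a_1!) + ... +
v_p(a_k!) ≤ v_p(n!), and the inequality is strict whenever some a_i is not divisible by p^(v_p(n)). -/
theorem result {k : ℕ} (p : ℕ) [Fact p.Prime]
    (a : Fin k → ℕ) (ha : ∀ i, 0 < a i) :
    (∑ i, padicValNat p (a i).factorial ≤ padicValNat p (∑ i, a i).factorial) ∧
      ((∃ i, ¬ p ^ padicValNat p (∑ j, a j) ∣ a i) →
        ∑ i, padicValNat p (a i).factorial < padicValNat p (∑ i, a i).factorial) := by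
  classical
  have hvprod : ∀ (s : Finset (Fin k)) (g : Fin k → ℕ), (∀ i, g i ≠ 0) →
      padicValNat p (∏ i ∈ s, g i) = ∑ i ∈ s, padicValNat p (g i) := by
    intro s g hg
    induction s using Finset.induction_on with
    | empty => simp
    | insert j s hj ih =>
      rw [Finset.prod_insert hj, Finset.sum_insert hj, padicValNat.mul (hg j)
        (Finset.prod_ne_zero_iff.mpr (fun i _ => hg i)), ih]
  have hspec := Nat.multinomial_spec (Finset.univ : Finset (Fin k)) a
  have hfac : ∀ i, (a i).factorial ≠ 0 := fun i => Nat.factorial_ne_zero _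
  have hM0 : Nat.multinomial Finset.univ a ≠ 0 := by
    intro h0
    rw [h0, mul_zero] at hspec
    exact Nat.factorial_ne_zero _ hspec.symm
  have hv : padicValNat p (∑ i, a i).factorial =
      ∑ i, padicValNat p (a i).factorial + padicValNat p (Nat.multinomial Finset.univ a) := by
    rw [← hspec, padicValNat.mul (Finset.prod_ne_zero_iff.mpr (fun i _ => hfac i)) hM0,
      hvprod _ _ hfac]
  constructor
  · rw [hv]; exact Nat.le_add_right _ _
  · rintro ⟨i, hi⟩
    rw [hv]
    apply Nat.lt_add_of_pos_right
    -- the modified tuple
    set a' : Fin k → ℕ := fun j => if j = i then a i - 1 else a j with ha'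
    have hspec' := Nat.multinomial_spec (Finset.univ : Finset (Fin k)) a'
    have hsum' : ∑ j, a' j + 1 = ∑ j, a j := by
      rw [← Finset.add_sum_erase Finset.univ a' (Finset.mem_univ i),
        ← Finset.add_sum_erase Finset.univ a (Finset.mem_univ i)]
      have e1 : ∑ j ∈ Finset.univ.erase i, a' j = ∑ j ∈ Finset.univ.erase i, a j := by
        apply Finset.sum_congr rfl
        intro j hj
        simp [ha', Finset.ne_of_mem_erase hj]
      have e2 : a' i = a i - 1 := by simp [ha']
      have := ha i
      rw [e1, e2]; omega
    have hprod' : ∏ j, (a j).factorial = a i * ∏ j, (a' j).factorial := by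
      rw [← Finset.mul_prod_erase Finset.univ (fun j => (a' j).factorial) (Finset.mem_univ i),
        ← Finset.mul_prod_erase Finset.univ (fun j => (a j).factorial) (Finset.mem_univ i)]
      have e1 : ∏ j ∈ Finset.univ.erase i, (a' j).factorial =
          ∏ j ∈ Finset.univ.erase i, (a j).factorial := by
        apply Finset.prod_congr rfl
        intro j hj
        simp [ha', Finset.ne_of_mem_erase hj]
      have e2 : a' i = a i - 1 := by simp [ha']
      have e3 : (a i).factorial = a i * (a i - 1).factorial := by
        have := ha i
        obtain ⟨m, hm⟩ : ∃ m, a i = m + 1 := ⟨a i - 1, by omega⟩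
        rw [hm, Nat.factorial_succ]; simp
      rw [e1, e2, e3]; ring
    have hfac' : (∏ j, (a' j).factorial) ≠ 0 :=
      Finset.prod_ne_zero_iff.mpr (fun j _ => Nat.factorial_ne_zero _)
    have hM0' : Nat.multinomial Finset.univ a' ≠ 0 := by
      intro h0
      rw [h0, mul_zero] at hspec'
      exact Nat.factorial_ne_zero _ hspec'.symm
    have hkey : a i * Nat.multinomial Finset.univ a = (∑ j, a j) * Nat.multinomial Finset.univ a' := by
      have h1 : (∑ j, a j).factorial = (∑ j, a j) * (∑ j, a' j).factorial := by
        rw [← hsum', Nat.factorial_succ]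
      have h2 : (∏ j, (a' j).factorial) * (a i * Nat.multinomial Finset.univ a) =
          (∏ j, (a' j).factorial) * ((∑ j, a j) * Nat.multinomial Finset.univ a') := by
        calc (∏ j, (a' j).factorial) * (a i * Nat.multinomial Finset.univ a)
            = (∏ j, (a j).factorial) * Nat.multinomial Finset.univ a := by rw [hprod']; ring
          _ = (∑ j, a j).factorial := hspec
          _ = (∑ j, a j) * (∑ j, a' j).factorial := h1
          _ = _ := by rw [← hspec']; ring
      exact Nat.eq_of_mul_eq_mul_left (Nat.pos_of_ne_zero hfac') h2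
    have hai0 : a i ≠ 0 := (ha i).ne'
    have hn0 : (∑ j, a j) ≠ 0 := by
      intro h0
      have : a i ≤ ∑ j, a j := Finset.single_le_sum (fun j _ => Nat.zero_le _) (Finset.mem_univ i)
      omega
    have hvkey := congrArg (padicValNat p) hkey
    rw [padicValNat.mul hai0 hM0, padicValNat.mul hn0 hM0'] at hvkey
    have hlt : padicValNat p (a i) < padicValNat p (∑ j, a j) := by
      by_contra hle
      push Not at hle
      exact hi ((padicValNat_dvd_iff_le hai0).mpr hle)
    omega

end Groth.Agent.S13801
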