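import Groth.Statements.S13840
import Mathlib
import Groth.Agent.Lib.helper6.PrimeFactors
import Groth.Agent.Lib.helper6.IndexBC

set_option autoImplicit false
universe u v
open scoped TensorProduct
open Brauer Groth.Agent.Lib.helper6
set_option linter.style.haveILetI false

namespace Groth.Agent.S13840

/-- Let κ be a field, L a finite field extension of κ of degree d, A a finite-dimensional central simple
κ-algebra and n a positive integer coprime to d such that the n-fold tensor power of A over κ is
split over κ (the period of A divides n). Then the index of A divides n if and only if the index of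
the L-algebra L ⊗_κ A divides n. (The published statement is for a finite locally free morphism of
schemes Y → X of degree d, a class in H²(X, G_m), a point p of X and the fibre of Y over p, and its
proof uses that the period of the class divides n without stating it; without that hypothesis the
backward implication fails. This row is the case of a point with Y the spectrum of a field, with the
period hypothesis made explicit.) -/
theorem result (κ : Type u) [Field κ] (L : Type u) [Field L] [Algebra κ L]
    [FiniteDimensional κ L] (A : Type v) [Ring A] [Algebra κ A] [Algebra.IsCentral κ A] [IsSimpleRing A]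
    [FiniteDimensional κ A] (n : ℕ) (hn : 0 < n) (hcop : Nat.Coprime n (Module.finrank κ L))
    (hper : Curves.Splits κ (CSAGal.tpow κ A n) κ) :
    (∃ d : ℕ, CSAGal.IsIndex κ A d ∧ d ∣ n) ↔ (∃ d' : ℕ, CSAGal.IsIndex L (L ⊗[κ] A) d' ∧ d' ∣ n) := by
  classical
  haveI : Algebra.IsCentral L (L ⊗[κ] A) := H6_isCentral_baseChange
  haveI : IsSimpleRing (L ⊗[κ] A) := H6_isSimpleRing_baseChange
  obtain ⟨d₀, hd₀⟩ := H6_exists_isIndex (k := κ) A
  obtain ⟨d₁, hd₁⟩ := H6_exists_isIndex (k := L) (L ⊗[κ] A)
  obtain ⟨h1, h2⟩ := H6_isIndex_baseChange L hd₀ hd₁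
  constructor
  · rintro ⟨d, hd, hdn⟩
    have := H6_isIndex_unique hd hd₀
    subst this
    exact ⟨d₁, hd₁, h1.trans hdn⟩
  · rintro ⟨d', hd', hdn⟩
    have := H6_isIndex_unique hd' hd₁
    subst this
    refine ⟨d₀, hd₀, ?_⟩
    have hcop' : Nat.Coprime d₀ (Module.finrank κ L) := by
      apply Nat.coprime_of_dvd
      intro p hp hpd hpL
      haveI : Fact p.Prime := ⟨hp⟩
      have h3 := H6_prime_dvd_exponent hd₀ p hpd n hper
      have h4 := Nat.dvd_gcd h3 hpL
      rw [hcop] at h4
      exact hp.one_lt.ne' (Nat.dvd_one.1 h4)
    have h5 : d₀ ∣ Module.finrank κ L * n := h2.trans (Nat.mul_dvd_mul_left _ hdn)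
    exact hcop'.dvd_of_dvd_mul_left h5

end Groth.Agent.S13840
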