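import Groth.Statements.S13841
import Mathlib
import Groth.Agent.Lib.helper6.PeriodIndex
import Groth.Agent.Lib.helper6.PrimeFactors
import Groth.Agent.Lib.helper6.IndexBC

set_option autoImplicit false
universe u v
open scoped TensorProduct
open Brauer Groth.Agent.Lib.helper6
set_option linter.style.haveILetI false

namespace Groth.Agent.S13841

/-- Let k be a field and A a finite-dimensional central simple k-algebra of period n. Then A has index n
if and only if there is a finite field extension k' of k of degree coprime to n such that the index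
of the k'-algebra k' ⊗_k A divides n. (The published statement is for a class of period n in H²(X,
G_m) on a scheme X over k; this row is the case where X is the spectrum of k.) -/
theorem result (k : Type u) [Field k] (A : Type v) [Ring A] [Algebra k A]
    [Algebra.IsCentral k A] [IsSimpleRing A] [FiniteDimensional k A] (n : ℕ) (hper : CSAGal.IsPeriod k A n) :
    CSAGal.IsIndex k A n ↔
      ∃ (k' : Type u) (_ : Field k') (_ : Algebra k k') (_ : FiniteDimensional k k'),
        Nat.Coprime n (Module.finrank k k') ∧ ∃ d' : ℕ, CSAGal.IsIndex k' (k' ⊗[k] A) d' ∧ d' ∣ n := by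
  classical
  obtain ⟨d₀, hd₀⟩ := H6_exists_isIndex (k := k) A
  constructor
  · intro hn
    have := H6_isIndex_unique hn hd₀
    subst this
    haveI : Algebra.IsCentral k (k ⊗[k] A) := H6_isCentral_baseChange
    haveI : IsSimpleRing (k ⊗[k] A) := H6_isSimpleRing_baseChange
    obtain ⟨d₁, hd₁⟩ := H6_exists_isIndex (k := k) (k ⊗[k] A)
    obtain ⟨h1, -⟩ := H6_isIndex_baseChange k hd₀ hd₁
    refine ⟨k, inferInstance, inferInstance, inferInstance, ?_, d₁, hd₁, h1⟩
    rw [Module.finrank_self]
    exact Nat.coprime_one_right _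
  · rintro ⟨k', _, _, _, hcop, d', hd', hdn⟩
    haveI : Algebra.IsCentral k' (k' ⊗[k] A) := H6_isCentral_baseChange
    haveI : IsSimpleRing (k' ⊗[k] A) := H6_isSimpleRing_baseChange
    obtain ⟨-, h2⟩ := H6_isIndex_baseChange k' hd₀ hd'
    have hcop' : Nat.Coprime d₀ (Module.finrank k k') := by
      apply Nat.coprime_of_dvd
      intro p hp hpd hpL
      haveI : Fact p.Prime := ⟨hp⟩
      have h3 := H6_prime_dvd_exponent hd₀ p hpd n hper.2.1
      have h4 := Nat.dvd_gcd h3 hpL
      rw [hcop] at h4
      exact hp.one_lt.ne' (Nat.dvd_one.1 h4)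
    have h5 : d₀ ∣ Module.finrank k k' * n := h2.trans (Nat.mul_dvd_mul_left _ hdn)
    have h6 : d₀ ∣ n := hcop'.dvd_of_dvd_mul_left h5
    have h7 : n ∣ d₀ := (H6_splits_tpow_iff_dvd A n hper d₀).1 (H6_splits_tpow_index hd₀)
    have := Nat.dvd_antisymm h6 h7
    subst this
    exact hd₀

end Groth.Agent.S13841
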