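import Groth.Statements.S13860
import Mathlib

set_option autoImplicit false
universe u v w
open ModRep

namespace Groth.Agent.S13860

/-- For k a field of characteristic p > 0, G a finite group and P a Sylow p-subgroup of G, a short exact
sequence of k[G]-modules has a k[G]-linear splitting exactly when it has a k[P]-linear one. Stated
here for the surjection of the sequence: a G-equivariant k-linear map g : B → C between k-linear
representations of G admits a G-equivariant k-linear section if and only if it admits a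
P-equivariant k-linear section. -/
theorem result {k : Type u} [Field k] (p : ℕ) [Fact p.Prime]
    [CharP k p] {G : Type v} [Group G] [Finite G] (P : Sylow p G)
    {B C : Type w} [AddCommGroup B] [Module k B] [AddCommGroup C] [Module k C]
    (ρB : Representation k G B) (ρC : Representation k G C)
    (g : B →ₗ[k] C) (hg : ∀ x : G, g ∘ₗ ρB x = ρC x ∘ₗ g) :
    (∃ s : C →ₗ[k] B, g ∘ₗ s = LinearMap.id ∧ ∀ x : G, s ∘ₗ ρC x = ρB x ∘ₗ s) ↔
      (∃ s : C →ₗ[k] B, g ∘ₗ s = LinearMap.id ∧ ∀ x : G, x ∈ P → s ∘ₗ ρC x = ρB x ∘ₗ s) := by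
  classical
  constructor
  · rintro ⟨s, hs1, hs2⟩
    exact ⟨s, hs1, fun x _ => hs2 x⟩
  · rintro ⟨s, hs1, hs2⟩
    haveI : Fintype (G ⧸ (P : Subgroup G)) := Fintype.ofFinite _
    let F : G → (C →ₗ[k] B) := fun x => ρB x ∘ₗ s ∘ₗ ρC x⁻¹
    have hF : ∀ x y : G, QuotientGroup.leftRel (P : Subgroup G) x y → F x = F y := by
      intro x y hxy
      rw [QuotientGroup.leftRel_apply] at hxy
      -- y = x * h, h = x⁻¹ * y ∈ P
      have hy : y = x * (x⁻¹ * y) := by group
      have h1 := hs2 _ hxy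
      show ρB x ∘ₗ s ∘ₗ ρC x⁻¹ = ρB y ∘ₗ s ∘ₗ ρC y⁻¹
      have e1 : ρB y = ρB x ∘ₗ ρB (x⁻¹ * y) := by
        conv_lhs => rw [hy]
        rw [map_mul]; rfl
      have e2 : ρC y⁻¹ = ρC (x⁻¹ * y)⁻¹ ∘ₗ ρC x⁻¹ := by
        have : y⁻¹ = (x⁻¹ * y)⁻¹ * x⁻¹ := by group
        conv_lhs => rw [this]
        rw [map_mul]; rfl
      rw [e1, e2]
      have e3 : ρB (x⁻¹ * y) ∘ₗ s ∘ₗ ρC (x⁻¹ * y)⁻¹ = s := by
        rw [← LinearMap.comp_assoc, ← h1, LinearMap.comp_assoc]
        have : ρC (x⁻¹ * y) ∘ₗ ρC (x⁻¹ * y)⁻¹ = LinearMap.id := by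
          have := map_mul ρC (x⁻¹ * y) (x⁻¹ * y)⁻¹
          rw [mul_inv_cancel, map_one] at this
          exact this.symm
        rw [this, LinearMap.comp_id]
      calc ρB x ∘ₗ s ∘ₗ ρC x⁻¹ = ρB x ∘ₗ (ρB (x⁻¹ * y) ∘ₗ s ∘ₗ ρC (x⁻¹ * y)⁻¹) ∘ₗ ρC x⁻¹ := by rw [e3]
        _ = _ := by simp only [LinearMap.comp_assoc]
    let Fq : G ⧸ (P : Subgroup G) → (C →ₗ[k] B) := Quotient.lift F hF
    have hFq : ∀ x : G, Fq (QuotientGroup.mk x) = F x := fun x => rfl
    set m : ℕ := Fintype.card (G ⧸ (P : Subgroup G)) with hm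
    have hm0 : (m : k) ≠ 0 := by
      rw [Ne, CharP.cast_eq_zero_iff k p]
      have : m = (P : Subgroup G).index := by
        rw [hm, Subgroup.index, Nat.card_eq_fintype_card]
      rw [this]
      exact P.not_dvd_index
    have comp_sum : ∀ {X Y Z : Type w} [AddCommGroup X] [Module k X] [AddCommGroup Y] [Module k Y]
        [AddCommGroup Z] [Module k Z] (f : Y →ₗ[k] Z) (h : G ⧸ (P : Subgroup G) → (X →ₗ[k] Y)),
        f ∘ₗ (∑ q, h q) = ∑ q, f ∘ₗ h q := by
      intro X Y Z _ _ _ _ _ _ f h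
      ext c
      simp [LinearMap.sum_apply, map_sum]
    have sum_comp : ∀ {X Y Z : Type w} [AddCommGroup X] [Module k X] [AddCommGroup Y] [Module k Y]
        [AddCommGroup Z] [Module k Z] (f : X →ₗ[k] Y) (h : G ⧸ (P : Subgroup G) → (Y →ₗ[k] Z)),
        (∑ q, h q) ∘ₗ f = ∑ q, h q ∘ₗ f := by
      intro X Y Z _ _ _ _ _ _ f h
      ext c
      simp [LinearMap.sum_apply]
    refine ⟨(m : k)⁻¹ • ∑ q, Fq q, ?_, ?_⟩
    · rw [LinearMap.comp_smul, comp_sum]
      have : ∀ q, g ∘ₗ Fq q = LinearMap.id := by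
        intro q
        induction q using QuotientGroup.induction_on with
        | H x =>
          rw [hFq]
          show g ∘ₗ ρB x ∘ₗ s ∘ₗ ρC x⁻¹ = LinearMap.id
          rw [← LinearMap.comp_assoc, hg, LinearMap.comp_assoc, ← LinearMap.comp_assoc _ s g, hs1,
            LinearMap.id_comp]
          have := map_mul ρC x x⁻¹
          rw [mul_inv_cancel, map_one] at this
          exact this.symm
      rw [Finset.sum_congr rfl (fun q _ => this q), Finset.sum_const, Finset.card_univ, ← hm,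
        ← Nat.cast_smul_eq_nsmul k, smul_smul, inv_mul_cancel₀ hm0, one_smul]
    · intro x
      rw [LinearMap.smul_comp, LinearMap.comp_smul, sum_comp, comp_sum]
      congr 1
      have h1 : ∀ q : G ⧸ (P : Subgroup G), ρB x ∘ₗ Fq q = Fq (x • q) ∘ₗ ρC x := by
        intro q
        induction q using QuotientGroup.induction_on with
        | H y =>
          have : x • (QuotientGroup.mk y : G ⧸ (P : Subgroup G)) = QuotientGroup.mk (x * y) := rfl
          rw [this, hFq, hFq]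
          show ρB x ∘ₗ ρB y ∘ₗ s ∘ₗ ρC y⁻¹ = (ρB (x * y) ∘ₗ s ∘ₗ ρC (x * y)⁻¹) ∘ₗ ρC x
          have e1 : ρB (x * y) = ρB x ∘ₗ ρB y := by rw [map_mul]; rfl
          have e2 : ρC (x * y)⁻¹ ∘ₗ ρC x = ρC y⁻¹ := by
            have : y⁻¹ = (x * y)⁻¹ * x := by group
            rw [this, map_mul]; rfl
          rw [e1]
          simp only [LinearMap.comp_assoc]
          rw [e2]
      rw [Finset.sum_congr rfl (fun q _ => h1 q)]
      exact (Fintype.sum_equiv (MulAction.toPerm x) _ _ (fun q => rfl)).symm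

end Groth.Agent.S13860
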