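import Groth.Statements.S13864
import Mathlib

set_option autoImplicit false
universe u
open ASCover

namespace Groth.Agent.S13864

section H8

open PowerSeries

variable {k : Type*} [Field k]

theorem F1 (n : ℕ) (hn0 : (n : k) ≠ 0) (u : PowerSeries k) (hu1 : constantCoeff u = 1)
    (hun : u ^ n * (1 + X ^ n) = 1) :
    (X : PowerSeries k) ^ n ∣ u - 1 ∧
      (X : PowerSeries k) ^ (2 * n) ∣ (n : PowerSeries k) * (u - 1) + X ^ n := by
  obtain ⟨g, hg⟩ : ∃ g : PowerSeries k, g = ∑ i ∈ Finset.range n, u ^ i := ⟨_, rfl⟩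
  have hgu : IsUnit g := by
    rw [PowerSeries.isUnit_iff_constantCoeff, hg, map_sum]
    simp only [map_pow, hu1, one_pow, Finset.sum_const, Finset.card_range, nsmul_eq_mul, mul_one]
    exact isUnit_iff_ne_zero.2 hn0
  have h1 : (u - 1) * g = u ^ n - 1 := by
    rw [hg, mul_comm]; exact geom_sum_mul u n
  have h2 : u ^ n - 1 = -(X ^ n * u ^ n) := by linear_combination hun
  have hF1 : (X : PowerSeries k) ^ n ∣ u - 1 := by
    have h3 : (X : PowerSeries k) ^ n ∣ (u - 1) * g := by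
      rw [h1, h2]; exact (dvd_neg).2 (dvd_mul_right _ _)
    exact (hgu.dvd_mul_right).1 h3
  have hpow : ∀ i : ℕ, (X : PowerSeries k) ^ n ∣ u ^ i - 1 := fun i =>
    hF1.trans (by simpa using sub_dvd_pow_sub_pow u 1 i)
  have h3 : (X : PowerSeries k) ^ n ∣ g - (n : PowerSeries k) * u ^ n := by
    have e : g - (n : PowerSeries k) * u ^ n =
        ∑ i ∈ Finset.range n, (u ^ i - 1) - (n : PowerSeries k) * (u ^ n - 1) := by
      rw [Finset.sum_sub_distrib, Finset.sum_const, Finset.card_range, nsmul_eq_mul, mul_one, hg]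
      ring
    rw [e]
    exact dvd_sub (Finset.dvd_sum (fun i _ => hpow i)) (Dvd.dvd.mul_left (hpow n) _)
  refine ⟨hF1, ?_⟩
  have e : g * ((n : PowerSeries k) * (u - 1) + X ^ n) =
      X ^ n * (g - (n : PowerSeries k) * u ^ n) := by
    linear_combination (n : PowerSeries k) * h1 + (n : PowerSeries k) * h2
  have h4 : (X : PowerSeries k) ^ (2 * n) ∣ g * ((n : PowerSeries k) * (u - 1) + X ^ n) := by
    rw [e, two_mul, pow_add]; exact mul_dvd_mul_left _ h3
  exact (hgu.dvd_mul_left).1 h4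

theorem aux_succ (N u V Xn J : PowerSeries k) :
    N * (V * u - 1) + (J + 1) * Xn =
      (N * (V - 1) + J * Xn) * u + (N * (u - 1) + Xn) - J * (Xn * (u - 1)) := by ring

theorem aux_pred (N u V V' Xn J : PowerSeries k) (e : u * V' = V) :
    u * (N * (V' - 1) + (J - 1) * Xn) =
      (N * (V - 1) + J * Xn) - (N * (u - 1) + Xn) + (J - 1) * (Xn * (u - 1)) := by
  linear_combination N * e

theorem F2 (n : ℕ) (u : PowerSeries k) (hu : IsUnit u)
    (hF1 : (X : PowerSeries k) ^ n ∣ u - 1)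
    (hB : (X : PowerSeries k) ^ (2 * n) ∣ (n : PowerSeries k) * (u - 1) + X ^ n) (j : ℤ) :
    (X : PowerSeries k) ^ (2 * n) ∣
      (n : PowerSeries k) * (((hu.unit ^ j : (PowerSeries k)ˣ) : PowerSeries k) - 1) +
        (j : PowerSeries k) * X ^ n := by
  have hXX : (X : PowerSeries k) ^ (2 * n) ∣ X ^ n * (u - 1) := by
    rw [two_mul, pow_add]; exact mul_dvd_mul_left _ hF1
  induction j using Int.induction_on with
  | zero => simp
  | succ i ih =>
    have e : ((hu.unit ^ ((i : ℤ) + 1) : (PowerSeries k)ˣ) : PowerSeries k) =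
        ((hu.unit ^ (i : ℤ) : (PowerSeries k)ˣ) : PowerSeries k) * u := by
      rw [zpow_add_one, Units.val_mul, IsUnit.unit_spec]
    have hcast : (((i : ℤ) + 1 : ℤ) : PowerSeries k) = ((i : ℤ) : PowerSeries k) + 1 := by
      push_cast; ring
    rw [e, hcast, aux_succ]
    exact dvd_sub (dvd_add (Dvd.dvd.mul_right ih _) hB) (Dvd.dvd.mul_left hXX _)
  | pred i ih =>
    have e : u * ((hu.unit ^ (-(i : ℤ) - 1) : (PowerSeries k)ˣ) : PowerSeries k) =
        ((hu.unit ^ (-(i : ℤ)) : (PowerSeries k)ˣ) : PowerSeries k) := by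
      rw [zpow_sub_one, Units.val_mul, mul_left_comm, hu.mul_val_inv, mul_one]
    have hcast : ((-(i : ℤ) - 1 : ℤ) : PowerSeries k) = ((-(i : ℤ) : ℤ) : PowerSeries k) - 1 := by
      push_cast; ring
    rw [hcast]
    have key : (X : PowerSeries k) ^ (2 * n) ∣ u * ((n : PowerSeries k) *
        (((hu.unit ^ (-(i : ℤ) - 1) : (PowerSeries k)ˣ) : PowerSeries k) - 1) +
        (((-(i : ℤ) : ℤ) : PowerSeries k) - 1) * X ^ n) := by
      rw [aux_pred _ _ _ _ _ _ e]
      exact dvd_add (dvd_sub ih hB) (Dvd.dvd.mul_left hXX _)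
    exact (hu.dvd_mul_left).1 key

theorem subst_congr_mod (n : ℕ) (hn : 0 < n) (u h : PowerSeries k)
    (hF1 : (X : PowerSeries k) ^ n ∣ u - 1) :
    (X : PowerSeries k) ^ n ∣ PowerSeries.subst (X * u) h - h := by
  have hpow : ∀ i : ℕ, (X : PowerSeries k) ^ n ∣ u ^ i - 1 := fun i =>
    hF1.trans (by simpa using sub_dvd_pow_sub_pow u 1 i)
  have hud : ∀ d i : ℕ, i < n → coeff i (u ^ d) = if i = 0 then 1 else 0 := by
    intro d i hi
    have h1 := (PowerSeries.X_pow_dvd_iff.1 (hpow d)) i hi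
    rw [map_sub, sub_eq_zero, PowerSeries.coeff_one] at h1
    exact h1
  rw [PowerSeries.X_pow_dvd_iff]
  intro e he
  have hb : PowerSeries.HasSubst (X * u : PowerSeries k) :=
    PowerSeries.HasSubst.of_constantCoeff_zero' (by simp)
  rw [map_sub, PowerSeries.coeff_subst' hb, finsum_eq_single _ e]
  · beta_reduce
    rw [mul_pow, PowerSeries.coeff_X_pow_mul', if_pos le_rfl, Nat.sub_self, hud e 0 hn,
      if_pos rfl, smul_eq_mul, mul_one, sub_self]
  · intro d hd
    beta_reduce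
    rw [mul_pow, PowerSeries.coeff_X_pow_mul']
    by_cases hde : d ≤ e
    · rw [if_pos hde, hud d (e - d) (by omega), if_neg (by omega), smul_zero]
    · rw [if_neg hde, smul_zero]

theorem h8_main (p : ℕ) [Fact p.Prime] [CharP k p] (n : ℕ) (hn : 0 < n) (hpn : ¬ p ∣ n)
    (u : PowerSeries k) (hu1 : PowerSeries.constantCoeff u = 1)
    (hun : u ^ n * (1 + PowerSeries.X ^ n) = 1) (hu : IsUnit u) (a : ℤ)
    (c : ℕ → PowerSeries k)
    (hc : ∀ m : ℕ, 1 ≤ m → m ≤ n →
      PowerSeries.X ^ m * c m = ((hu.unit ^ (a - m) : (PowerSeries k)ˣ) : PowerSeries k) - 1)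
    (coef : ℕ → k) (h : PowerSeries k)
    (hh : ((hu.unit ^ a : (PowerSeries k)ˣ) : PowerSeries k) *
        PowerSeries.subst (PowerSeries.X * u) h - h =
      ∑ m ∈ (Finset.Icc 1 n).filter (fun m : ℕ => ¬ (p : ℤ) ∣ a - (m : ℤ)), coef m • c m) :
    ∀ m ∈ (Finset.Icc 1 n).filter (fun m : ℕ => ¬ (p : ℤ) ∣ a - (m : ℤ)), coef m = 0 := by
  have hn0 : (n : k) ≠ 0 := by
    intro h0
    exact hpn ((CharP.cast_eq_zero_iff k p n).1 h0)
  obtain ⟨hF1, hB⟩ := F1 n hn0 u hu1 hun
  have hF2 := F2 n u hu hF1 hB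
  have hNC : (n : PowerSeries k) = PowerSeries.C (n : k) :=
    (map_natCast (PowerSeries.C : k →+* PowerSeries k) n).symm
  have hNunit : IsUnit (n : PowerSeries k) := by
    rw [hNC]; exact (isUnit_iff_ne_zero.2 hn0).map PowerSeries.C
  have hUa : (X : PowerSeries k) ^ n ∣
      ((hu.unit ^ a : (PowerSeries k)ˣ) : PowerSeries k) - 1 := by
    have h1 := hF2 a
    have h2 := (pow_dvd_pow (X : PowerSeries k) (by omega : n ≤ 2 * n)).trans h1
    have h3 : (X : PowerSeries k) ^ n ∣ (n : PowerSeries k) *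
        (((hu.unit ^ a : (PowerSeries k)ˣ) : PowerSeries k) - 1) :=
      (dvd_add_left (Dvd.intro_left _ rfl)).1 h2
    exact (hNunit.dvd_mul_left).1 h3
  have hW : (X : PowerSeries k) ^ n ∣ ((hu.unit ^ a : (PowerSeries k)ˣ) : PowerSeries k) *
        PowerSeries.subst (PowerSeries.X * u) h - h := by
    have e : ((hu.unit ^ a : (PowerSeries k)ˣ) : PowerSeries k) *
        PowerSeries.subst (PowerSeries.X * u) h - h =
        (((hu.unit ^ a : (PowerSeries k)ˣ) : PowerSeries k) - 1) *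
          PowerSeries.subst (PowerSeries.X * u) h +
          (PowerSeries.subst (PowerSeries.X * u) h - h) := by ring
    rw [e]
    exact dvd_add (Dvd.dvd.mul_right hUa _) (subst_congr_mod n hn u h hF1)
  have hcm : ∀ m : ℕ, 1 ≤ m → m ≤ n → (X : PowerSeries k) ^ n ∣
      (n : PowerSeries k) * c m + ((a - (m : ℤ) : ℤ) : PowerSeries k) * X ^ (n - m) := by
    intro m hm1 hmn
    have h1 := hF2 (a - m)
    rw [← hc m hm1 hmn] at h1
    have e : (n : PowerSeries k) * (X ^ m * c m) + ((a - (m : ℤ) : ℤ) : PowerSeries k) * X ^ n =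
        X ^ m * ((n : PowerSeries k) * c m +
          ((a - (m : ℤ) : ℤ) : PowerSeries k) * X ^ (n - m)) := by
      have h5 : (X : PowerSeries k) ^ n = X ^ m * X ^ (n - m) := by
        rw [← pow_add]; congr 1; omega
      rw [h5]; ring
    rw [e] at h1
    have e2 : (X : PowerSeries k) ^ (2 * n) = X ^ m * X ^ (2 * n - m) := by
      rw [← pow_add]; congr 1; omega
    rw [e2] at h1
    have h2 := (mul_dvd_mul_iff_left (pow_ne_zero m PowerSeries.X_ne_zero)).1 h1
    exact (pow_dvd_pow (X : PowerSeries k) (by omega : n ≤ 2 * n - m)).trans h2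
  intro m₀ hm₀
  have hmem := hm₀
  rw [Finset.mem_filter, Finset.mem_Icc] at hm₀
  obtain ⟨⟨hm1, hmn⟩, hpm⟩ := hm₀
  have hi : n - m₀ < n := by omega
  have hcoefW := (PowerSeries.X_pow_dvd_iff.1 hW) (n - m₀) hi
  rw [hh, map_sum] at hcoefW
  have hterm : ∀ m ∈ (Finset.Icc 1 n).filter (fun m : ℕ => ¬ (p : ℤ) ∣ a - (m : ℤ)),
      (n : k) * coeff (n - m₀) (coef m • c m) =
        if m = m₀ then -(coef m₀ * ((a - (m₀ : ℤ) : ℤ) : k)) else 0 := by
    intro m hm
    rw [Finset.mem_filter, Finset.mem_Icc] at hm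
    have h1 := (PowerSeries.X_pow_dvd_iff.1 (hcm m hm.1.1 hm.1.2)) (n - m₀) hi
    rw [map_add, hNC, ← map_intCast (PowerSeries.C : k →+* PowerSeries k) (a - (m : ℤ)),
      PowerSeries.coeff_C_mul, PowerSeries.coeff_C_mul_X_pow] at h1
    rw [PowerSeries.coeff_smul, smul_eq_mul]
    by_cases hmm : m = m₀
    · subst hmm
      rw [if_pos rfl] at h1
      rw [if_pos rfl]
      linear_combination (coef m) * h1
    · have hne : ¬ (n - m₀ = n - m) := by omega
      rw [if_neg hne] at h1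
      rw [if_neg hmm]
      linear_combination (coef m) * h1
  have h5 : ∑ m ∈ (Finset.Icc 1 n).filter (fun m : ℕ => ¬ (p : ℤ) ∣ a - (m : ℤ)),
      (n : k) * coeff (n - m₀) (coef m • c m) = 0 := by
    rw [← Finset.mul_sum, hcoefW, mul_zero]
  rw [Finset.sum_congr rfl hterm, Finset.sum_ite_eq', if_pos hmem, neg_eq_zero] at h5
  have h6 : ((a - (m₀ : ℤ) : ℤ) : k) ≠ 0 := by
    intro h0
    exact hpm ((CharP.intCast_eq_zero_iff k p (a - (m₀ : ℤ))).1 h0)
  rcases mul_eq_zero.1 h5 with h7 | h7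
  · exact h7
  · exact absurd h7 h6

end H8


/-- Let k be an algebraically closed field of characteristic p > 0, n ≥ 1 an integer prime to p, u ∈
k[[t]] the power series with constant term 1 and u^n · (1 + t^n) = 1 (so σ(t) = t·u is a
k-automorphism of k((t)) of order p), and a an integer; σ acts on I = t^a·k[[t]], and transported to
B = k[[t]] along h ↦ t^a·h the action is h ↦ u^a · h(t·u). For 1 ≤ m ≤ n let c_m ∈ B be determined
by t^m · c_m = u^(a−m) − 1; this is the cocycle value σ(t^i) − t^i ∈ I of the element t^i, i = a −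
m, divided by t^a. The published lemma says that the classes of the t^i with a − n ≤ i ≤ a − 1 and p
∤ i form a basis of H^1(⟨σ⟩, I); this row states their linear independence: if Σ λ_m c_m, summed
over 1 ≤ m ≤ n with p ∤ a − m, equals u^a · h(t·u) − h for some h ∈ B, then every such λ_m is 0.
(Together with the dimension of this H^1, namely n − ⌊(a−1)/p⌋ + ⌊(a−1−n)/p⌋, this gives the basis
statement.) -/
theorem result {k : Type u} [Field k] [IsAlgClosed k] (p : ℕ)
    [Fact p.Prime] [CharP k p] (n : ℕ) (hn : 0 < n) (hpn : ¬ p ∣ n)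
    (u : PowerSeries k) (hu1 : PowerSeries.constantCoeff u = 1)
    (hun : u ^ n * (1 + PowerSeries.X ^ n) = 1) (hu : IsUnit u) (a : ℤ)
    (c : ℕ → PowerSeries k)
    (hc : ∀ m : ℕ, 1 ≤ m → m ≤ n →
      PowerSeries.X ^ m * c m = ((hu.unit ^ (a - m) : (PowerSeries k)ˣ) : PowerSeries k) - 1)
    (coef : ℕ → k) (h : PowerSeries k)
    (hh : ((hu.unit ^ a : (PowerSeries k)ˣ) : PowerSeries k) * PowerSeries.subst (PowerSeries.X * u) h - h =
      ∑ m ∈ (Finset.Icc 1 n).filter (fun m : ℕ => ¬ (p : ℤ) ∣ a - (m : ℤ)), coef m • c m) :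
    ∀ m ∈ (Finset.Icc 1 n).filter (fun m : ℕ => ¬ (p : ℤ) ∣ a - (m : ℤ)), coef m = 0 := by
  exact h8_main p n hn hpn u hu1 hun hu a c hc coef h hh

end Groth.Agent.S13864
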