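import Groth.Statements.S13888
import Mathlib

set_option autoImplicit false
universe u
open CategoryTheory CategoryTheory.Limits MonoidalCategory
attribute [local instance] HasDerivedCategory.standard
open DTen

namespace Groth.Agent.S13888

/-- For a commutative ring `A` (assuming the derived tensor product on `D(A)` with its triple version
exists, that its symmetry, unit and associativity maps are isomorphisms, and that every `- ⊗^L L`
has a right adjoint `RHom(L, -)`) and objects `K`, `L`, `M` of `D(A)`, the canonical morphism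
`RHom(K ⊗^L L, M) ⟶ RHom(K, RHom(L, M))`, namely the double adjunct of the associativity isomorphism
followed by evaluation at `K ⊗^L L`, is an isomorphism. (Functoriality in the three objects is built
into the construction; the identification on `H^0` with the hom bijection of the adjunction is not
part of this row.) -/
theorem result (A : Type u) [CommRing A] [DTen.HasLTen A] [DTen.HasLTen₃ A]
    [DTen.IsSymMonoidal A] [DTen.HasRHom A] (K L M : Dual.D A) :
    IsIso (DTen.curryHom K L M) := by
  have hnat : ∀ {N N' : Dual.D A} (x : N ⟶ N'),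
      (DTen.LTen₂ A).map (Prod.mkHom ((DTen.LTen₂ A).map (Prod.mkHom x (𝟙 K))) (𝟙 L)) ≫
        (DTen.associator N' K L).hom =
      (DTen.associator N K L).hom ≫
        (DTen.LTen₂ A).map (Prod.mkHom x (𝟙 ((DTen.LTen₂ A).obj (K, L)))) := by
    intro N N' x
    let X : Dual.D A × (Dual.D A × Dual.D A) := (N, (K, L))
    let X' : Dual.D A × (Dual.D A × Dual.D A) := (N', (K, L))
    let f : X ⟶ X' := Prod.mkHom x (Prod.mkHom (𝟙 K) (𝟙 L))
    have h1 := (DTen.assocL A).naturality f
    have h2 := (DTen.assocR A).naturality f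
    have e1 : (DTen.LTenL A).map f =
        (DTen.LTen₂ A).map (Prod.mkHom ((DTen.LTen₂ A).map (Prod.mkHom x (𝟙 K))) (𝟙 L)) := rfl
    have e2 : (DTen.LTenR A).map f =
        (DTen.LTen₂ A).map (Prod.mkHom x (𝟙 ((DTen.LTen₂ A).obj (K, L)))) := by
      change (DTen.LTen₂ A).map (Prod.mkHom x ((DTen.LTen₂ A).map (Prod.mkHom (𝟙 K) (𝟙 L)))) = _
      rw [← CategoryTheory.prod_id, CategoryTheory.Functor.map_id]
    haveI : IsIso ((DTen.assocR A).app X') := inferInstance
    let α' : (DTen.LTenL A).obj X' ⟶ (DTen.LTenR A).obj X' := (DTen.associator N' K L).hom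
    let α : (DTen.LTenL A).obj X ⟶ (DTen.LTenR A).obj X := (DTen.associator N K L).hom
    have a1 : α' ≫ (DTen.assocR A).app X' = (DTen.assocL A).app X' :=
      DTen.associator_hom_assocR N' K L
    have a2 : α ≫ (DTen.assocR A).app X = (DTen.assocL A).app X :=
      DTen.associator_hom_assocR N K L
    have main : (DTen.LTenL A).map f ≫ α' = α ≫ (DTen.LTenR A).map f := by
      rw [← cancel_mono ((DTen.assocR A).app X'), Category.assoc, Category.assoc, a1, h1, h2,
        ← Category.assoc, a2]
    exact main.trans (congrArg (fun t => α ≫ t) e2)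
  rw [CategoryTheory.isIso_iff_yoneda_map_bijective]
  intro N
  let e1 := DTen.rhomHomEquiv N ((DTen.LTen₂ A).obj (K, L)) M
  let e2 := DTen.rhomHomEquiv ((DTen.LTen₂ A).obj (N, K)) L M
  let e3 := DTen.rhomHomEquiv N K ((DTen.RHomR A L).obj M)
  let e4 : ((DTen.LTen₂ A).obj (N, (DTen.LTen₂ A).obj (K, L)) ⟶ M) ≃
      ((DTen.LTen₂ A).obj ((DTen.LTen₂ A).obj (N, K), L) ⟶ M) :=
    (DTen.associator N K L).symm.homFromEquiv
  have key : ∀ x : N ⟶ (DTen.RHomR A ((DTen.LTen₂ A).obj (K, L))).obj M,
      x ≫ DTen.curryHom K L M = e3 (e2 (e4 (e1.symm x))) := by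
    intro x
    unfold DTen.curryHom
    have s1 := (DTen.rhomAdj A K).homEquiv_naturality_left x
      (DTen.rhomHomEquiv _ _ _ (DTen.curryHomAux K L M))
    have s2 := (DTen.rhomAdj A L).homEquiv_naturality_left
      ((DTen.tensorRightD A K).map x) (DTen.curryHomAux K L M)
    have s3 : (DTen.tensorRightD A L).map ((DTen.tensorRightD A K).map x) ≫ DTen.curryHomAux K L M =
        e4 (e1.symm x) := by
      change (DTen.LTen₂ A).map (Prod.mkHom ((DTen.LTen₂ A).map (Prod.mkHom x (𝟙 K))) (𝟙 L)) ≫
        ((DTen.associator _ K L).hom ≫ DTen.ev ((DTen.LTen₂ A).obj (K, L)) M) =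
        (DTen.associator N K L).hom ≫ ((DTen.rhomAdj A ((DTen.LTen₂ A).obj (K, L))).homEquiv N M).symm x
      rw [← Category.assoc, hnat x, Category.assoc, Adjunction.homEquiv_counit]
      rfl
    change x ≫ (DTen.rhomAdj A K).homEquiv _ _ ((DTen.rhomAdj A L).homEquiv _ _
      (DTen.curryHomAux K L M)) = _
    rw [← s1, ← s2, s3]
    rfl
  have hb : Function.Bijective (fun x : N ⟶ (DTen.RHomR A ((DTen.LTen₂ A).obj (K, L))).obj M =>
      e3 (e2 (e4 (e1.symm x)))) :=
    (e1.symm.trans (e4.trans (e2.trans e3))).bijective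
  have hfun : (fun x : N ⟶ (DTen.RHomR A ((DTen.LTen₂ A).obj (K, L))).obj M =>
      x ≫ DTen.curryHom K L M) = fun x => e3 (e2 (e4 (e1.symm x))) := funext key
  rw [hfun]
  exact hb

end Groth.Agent.S13888
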