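import Groth.Statements.S13904
import Mathlib
import Groth.Agent.S5763

set_option autoImplicit false
universe u
open CAlg

namespace Groth.Agent.S13904

/-- Let k be a field, A a commutative k-algebra and φ : k[x_1, …, x_r] → A a finite k-algebra map such
that A/p has Krull dimension r for every minimal prime p of A (an equidimensional affine scheme of
dimension r, finite over affine r-space). Then for every minimal prime p of A and every prime q of
k[x_1, …, x_r] there is a prime P ⊇ p of A with φ⁻¹(P) = q: the finite map restricted to each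
irreducible component of Spec A is surjective onto affine r-space. (The published statement is over
an algebraically closed field with φ a Noether normalisation; this row allows any field and any
finite k-algebra map φ.) -/
theorem result (k : Type u) [Field k] (r : ℕ)
    (A : Type u) [CommRing A] [Algebra k A] (φ : MvPolynomial (Fin r) k →ₐ[k] A)
    (hφ : φ.toRingHom.Finite)
    (hdim : ∀ p ∈ minimalPrimes A, ringKrullDim (A ⧸ p) = r)
    (p : Ideal A) (hp : p ∈ minimalPrimes A)
    (q : Ideal (MvPolynomial (Fin r) k)) [q.IsPrime] :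
    ∃ P : Ideal A, P.IsPrime ∧ p ≤ P ∧ P.comap φ.toRingHom = q := by
  have hpp : p.IsPrime := hp.1.1
  let f : MvPolynomial (Fin r) k →+* A ⧸ p := (Ideal.Quotient.mk p).comp φ.toRingHom
  have hfint : f.IsIntegral :=
    RingHom.IsIntegral.trans _ _ hφ.to_isIntegral
      (RingHom.isIntegral_of_surjective _ Ideal.Quotient.mk_surjective)
  have hdimS : ringKrullDim (MvPolynomial (Fin r) k) = r := by
    rw [MvPolynomial.ringKrullDim_of_isNoetherianRing, ringKrullDim_eq_zero_of_field]; simp
  have hinj : Function.Injective f := by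
    rw [injective_iff_map_eq_zero]
    intro s hs
    by_contra hne
    have hsnzd : s ∈ nonZeroDivisors (MvPolynomial (Fin r) k) := mem_nonZeroDivisors_of_ne_zero hne
    have h1 := ringKrullDim_quotient_succ_le_of_nonZeroDivisor hsnzd
    let g : MvPolynomial (Fin r) k ⧸ Ideal.span {s} →+* A ⧸ p :=
      Ideal.Quotient.lift _ f (by
        intro a ha
        obtain ⟨c, rfl⟩ := Ideal.mem_span_singleton'.1 ha
        rw [map_mul, hs, mul_zero])
    have hgf : g.comp (Ideal.Quotient.mk (Ideal.span {s})) = f := by
      ext a <;> rfl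
    have hgint : g.IsIntegral := by
      apply RingHom.IsIntegral.tower_top (Ideal.Quotient.mk (Ideal.span {s})) g
      rw [hgf]; exact hfint
    let _ : Algebra (MvPolynomial (Fin r) k ⧸ Ideal.span {s}) (A ⧸ p) := g.toAlgebra
    have _ : Algebra.IsIntegral (MvPolynomial (Fin r) k ⧸ Ideal.span {s}) (A ⧸ p) := ⟨hgint⟩
    have h2 := (Groth.Agent.S5763.result (MvPolynomial (Fin r) k ⧸ Ideal.span {s}) (A ⧸ p)).1
    rw [hdim p hp] at h2
    rw [hdimS] at h1
    have h3 : ((r : ℕ) : WithBot ℕ∞) + 1 ≤ r := (add_le_add_left h2 1).trans h1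
    have h4 : ((r + 1 : ℕ) : WithBot ℕ∞) ≤ ((r : ℕ) : WithBot ℕ∞) := by
      push_cast; exact h3
    have h5 : r + 1 ≤ r := by exact_mod_cast h4
    omega
  let _ : Algebra (MvPolynomial (Fin r) k) (A ⧸ p) := f.toAlgebra
  have _ : Algebra.IsIntegral (MvPolynomial (Fin r) k) (A ⧸ p) := ⟨hfint⟩
  have hinj' : Function.Injective (algebraMap (MvPolynomial (Fin r) k) (A ⧸ p)) := hinj
  obtain ⟨Q, -, hQ, hQc⟩ := Ideal.exists_ideal_over_prime_of_isIntegral q (⊥ : Ideal (A ⧸ p))
    (by
      rw [← RingHom.ker_eq_comap_bot, (RingHom.injective_iff_ker_eq_bot _).mp hinj']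
      exact bot_le)
  refine ⟨Q.comap (Ideal.Quotient.mk p), inferInstance, ?_, ?_⟩
  · intro a ha
    rw [Ideal.mem_comap, Ideal.Quotient.eq_zero_iff_mem.2 ha]
    exact Q.zero_mem
  · rw [Ideal.comap_comap]
    exact hQc

end Groth.Agent.S13904
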