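import Groth.Statements.S13905
import Mathlib

set_option autoImplicit false
universe u
open ProjGeom

namespace Groth.Agent.S13905

open W4c1etcurveeff3b in
/-- Hyperplanes of projective n-space in general position, in linear-algebra form (V of dimension n + 1
over a field k, hyperplanes as n-dimensional subspaces, points as nonzero vectors): if S is a finite
set of hyperplanes in general position with at least n members and H is a hyperplane containing none
of the lines cut out by n members of S, then S with H added is again in general position. (The
published statement is for hyperplanes of P^n_k and closed points; a closed point lying on n + 1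
members is automatically one of the rational points cut out by n of them, so the condition on
nonzero vectors of V is the same condition.) -/
theorem result (k V : Type u) [Field k]
    [AddCommGroup V] [Module k V] [DecidableEq (Submodule k V)] (n : ℕ) (S : Finset (Submodule k V))
    (hS : InGeneralPosition k V n S) (hn : n ≤ S.card) (H : Submodule k V)
    (hH : Module.finrank k H = n)
    (havoid : ∀ T ⊆ S, T.card = n → ¬ (T.inf id ≤ H)) :
    InGeneralPosition k V n (insert H S) := by
  obtain ⟨hV, hdim, hinf, hpt⟩ := hS
  by_cases hHS : H ∈ S
  · rw [Finset.insert_eq_of_mem hHS]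
    exact ⟨hV, hdim, hinf, hpt⟩
  haveI : FiniteDimensional k V := Module.finite_of_finrank_pos (by omega)
  have keyA : ∀ T' ⊆ S, T'.card ≤ n → ¬ (T'.inf id ≤ H) := by
    intro T' hT' hc hle
    obtain ⟨T'', h1, h2, h3⟩ := Finset.exists_subsuperset_card_eq hT' hc hn
    exact havoid T'' h2 h3 (le_trans (Finset.inf_mono h1) hle)
  have keyB : ∀ W : Submodule k V, ¬ W ≤ H →
      Module.finrank k ↥(W ⊓ H) + 1 = Module.finrank k ↥W := by
    intro W hW
    have h1 := Submodule.finrank_sup_add_finrank_inf_eq W H
    have hlt : H < W ⊔ H :=
      lt_of_le_of_ne le_sup_right (fun h => hW (by rw [h]; exact le_sup_left))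
    have h2 := Submodule.finrank_lt_finrank_of_lt hlt
    have h3 := Submodule.finrank_le (W ⊔ H)
    omega
  have hsub : ∀ T : Finset (Submodule k V), T ⊆ insert H S → T.erase H ⊆ S := by
    intro T hT x hx
    have hx1 := Finset.mem_of_mem_erase hx
    have hx2 := Finset.ne_of_mem_erase hx
    rcases Finset.mem_insert.mp (hT hx1) with h | h
    · exact absurd h hx2
    · exact h
  have hsub' : ∀ T : Finset (Submodule k V), T ⊆ insert H S → H ∉ T → T ⊆ S := by
    intro T hT hHT x hx
    rcases Finset.mem_insert.mp (hT hx) with h | h
    · exact absurd (h ▸ hx) hHT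
    · exact h
  refine ⟨hV, ?_, ?_, ?_⟩
  · intro H' h
    rcases Finset.mem_insert.mp h with h | h
    · rw [h]; exact hH
    · exact hdim H' h
  · intro T hT hc
    by_cases hHT : H ∈ T
    · have hT' := hsub T hT
      have hcard : (T.erase H).card + 1 = T.card := Finset.card_erase_add_one hHT
      have hT'c : (T.erase H).card ≤ n := by omega
      have e := hinf (T.erase H) hT' hT'c
      have hnot := keyA (T.erase H) hT' hT'c
      have hB := keyB ((T.erase H).inf id) hnot
      have hTeq : T.inf id = H ⊓ (T.erase H).inf id := by
        have := Finset.inf_insert (s := T.erase H) (b := H)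
          (f := (id : Submodule k V → Submodule k V))
        rw [Finset.insert_erase hHT] at this
        exact this
      have e3 : Module.finrank k ↥(T.inf id) = Module.finrank k ↥((T.erase H).inf id ⊓ H) := by
        rw [hTeq, inf_comm]
      omega
    · exact hinf T (hsub' T hT hHT) hc
  · intro v hv T hT hvT
    by_cases hHT : H ∈ T
    · have hT' := hsub T hT
      have hcard : (T.erase H).card + 1 = T.card := Finset.card_erase_add_one hHT
      have hv' : ∀ H' ∈ T.erase H, v ∈ H' := fun H' h => hvT H' (Finset.mem_of_mem_erase h)
      have h1 := hpt v hv (T.erase H) hT' hv'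
      by_contra hcon
      have h2 : (T.erase H).card = n := by omega
      have e := hinf (T.erase H) hT' h1
      have e1 : Module.finrank k ↥((T.erase H).inf id) = 1 := by omega
      have hvW : v ∈ (T.erase H).inf id :=
        (Submodule.mem_finsetInf).mpr (fun i hi => hv' i hi)
      have hvH : v ∈ H := hvT H hHT
      apply havoid (T.erase H) hT' h2
      intro w hw
      have hv0 : (⟨v, hvW⟩ : ↥((T.erase H).inf id)) ≠ 0 := fun h => hv (congrArg Subtype.val h)
      obtain ⟨c, hc⟩ := (finrank_eq_one_iff_of_nonzero' ⟨v, hvW⟩ hv0).mp e1 ⟨w, hw⟩
      have hcw : c • v = w := congrArg Subtype.val hc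
      rw [← hcw]
      exact H.smul_mem c hvH
    · exact hpt v hv T (hsub' T hT hHT) hvT

end Groth.Agent.S13905
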