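import Groth.Statements.S13913
import Mathlib

set_option autoImplicit false
universe u
open PlaneCubic

namespace Groth.Agent.S13913

/-- Over an algebraically closed field of characteristic zero, for linearly independent linear forms z₁,
z₂ and quadratic forms q₁, q₂ in three variables and a nonzero common zero p of z₁ and z₂, the point
p is a singular point of the plane cubic z₁q₂ − z₂q₁ = 0 (all three partial derivatives vanish at p)
if and only if q₁ and q₂ both vanish at p. -/
theorem result (k : Type u) [Field k] [IsAlgClosed k] [CharZero k]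
    (z₁ z₂ q₁ q₂ : MvPolynomial (Fin 3) k) (hz₁ : z₁.IsHomogeneous 1) (hz₂ : z₂.IsHomogeneous 1)
    (hq₁ : q₁.IsHomogeneous 2) (hq₂ : q₂.IsHomogeneous 2) (hind : LinearIndependent k ![z₁, z₂])
    (p : Fin 3 → k) (hp : p ≠ 0) (hp₁ : MvPolynomial.eval p z₁ = 0) (hp₂ : MvPolynomial.eval p z₂ = 0) :
    (∀ i : Fin 3, MvPolynomial.eval p (MvPolynomial.pderiv i (z₁ * q₂ - z₂ * q₁)) = 0) ↔
      (MvPolynomial.eval p q₁ = 0 ∧ MvPolynomial.eval p q₂ = 0) := by
  classical
  have hder : ∀ i : Fin 3, MvPolynomial.eval p (MvPolynomial.pderiv i (z₁ * q₂ - z₂ * q₁)) =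
      MvPolynomial.eval p (MvPolynomial.pderiv i z₁) * MvPolynomial.eval p q₂ -
      MvPolynomial.eval p (MvPolynomial.pderiv i z₂) * MvPolynomial.eval p q₁ := by
    intro i
    rw [map_sub, Derivation.leibniz, Derivation.leibniz]
    simp only [map_sub, map_add, smul_eq_mul, map_mul, hp₁, hp₂, zero_mul, zero_add]
    ring
  have hconst : ∀ (z : MvPolynomial (Fin 3) k), z.IsHomogeneous 1 → ∀ i : Fin 3,
      MvPolynomial.pderiv i z = MvPolynomial.C (MvPolynomial.eval p (MvPolynomial.pderiv i z)) := by
    intro z hz i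
    have h1 : (MvPolynomial.pderiv i z).IsHomogeneous (1 - 1) := hz.pderiv
    have h2 : (MvPolynomial.pderiv i z).totalDegree = 0 := by
      have := h1.totalDegree_le
      omega
    rw [MvPolynomial.totalDegree_eq_zero_iff_eq_C] at h2
    rw [h2]
    simp
  constructor
  · intro h
    set α := MvPolynomial.eval p q₂ with hα
    set β := MvPolynomial.eval p q₁ with hβ
    have h1 : ∀ i : Fin 3, MvPolynomial.eval p (MvPolynomial.pderiv i z₁) * α -
        MvPolynomial.eval p (MvPolynomial.pderiv i z₂) * β = 0 := by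
      intro i
      rw [← hder i]
      exact h i
    have e1 := hz₁.sum_X_mul_pderiv
    have e2 := hz₂.sum_X_mul_pderiv
    rw [one_smul] at e1 e2
    have h2 : α • z₁ + (-β) • z₂ = 0 := by
      rw [← e1, ← e2, Finset.smul_sum, Finset.smul_sum, ← Finset.sum_add_distrib]
      apply Finset.sum_eq_zero
      intro i _
      rw [hconst z₁ hz₁ i, hconst z₂ hz₂ i]
      have := h1 i
      rw [MvPolynomial.smul_eq_C_mul, MvPolynomial.smul_eq_C_mul]
      have h3 : MvPolynomial.C α * (MvPolynomial.X i * MvPolynomial.C (MvPolynomial.eval p (MvPolynomial.pderiv i z₁))) +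
          MvPolynomial.C (-β) * (MvPolynomial.X i * MvPolynomial.C (MvPolynomial.eval p (MvPolynomial.pderiv i z₂))) =
          MvPolynomial.X i * MvPolynomial.C (MvPolynomial.eval p (MvPolynomial.pderiv i z₁) * α -
        MvPolynomial.eval p (MvPolynomial.pderiv i z₂) * β) := by
        simp only [map_sub, map_mul, map_neg]
        ring
      rw [h3, this, map_zero, mul_zero]
    have h3 := LinearIndependent.pair_iff.mp hind α (-β) h2
    exact ⟨by simpa using h3.2, h3.1⟩
  · rintro ⟨h1, h2⟩ i
    rw [hder, h1, h2, mul_zero, mul_zero, sub_zero]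

end Groth.Agent.S13913
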