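import Groth.Statements.S13916
import Mathlib

set_option autoImplicit false
universe u
open PlaneConic

namespace Groth.Agent.S13916

/-- Over an algebraically closed field k of characteristic zero, with u_0, u_1, u_2 the coordinate
linear forms of k[X_0, X_1, X_2] and 2 × 2 matrices of linear forms compared up to M ↦ g M h with g,
h invertible scalar matrices: (1) the matrices with rows (u_1, 0), (u_0, u_2) and (u_2, 0), (u_0,
u_1) are not equivalent; (2) for α ≠ 0 the matrix with rows (u_1, 0), (αu_0 + βu_1 + γu_2, u_2) is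
equivalent to the one with rows (u_1, 0), (u_0, u_2). -/
theorem result (k : Type u) [Field k] [IsAlgClosed k] [CharZero k] :
    (¬ ∃ g h : GL (Fin 2) k,
      (MvPolynomial.C : k →+* MvPolynomial (Fin 3) k).mapMatrix g.val *
          !![MvPolynomial.X 1, 0; MvPolynomial.X 0, MvPolynomial.X 2] *
        (MvPolynomial.C : k →+* MvPolynomial (Fin 3) k).mapMatrix h.val =
      !![MvPolynomial.X 2, 0; MvPolynomial.X 0, MvPolynomial.X 1]) ∧
    (∀ α β γ : k, α ≠ 0 → ∃ g h : GL (Fin 2) k,
      (MvPolynomial.C : k →+* MvPolynomial (Fin 3) k).mapMatrix g.val *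
          !![MvPolynomial.X 1, 0;
             MvPolynomial.C α * MvPolynomial.X 0 + MvPolynomial.C β * MvPolynomial.X 1 + MvPolynomial.C γ * MvPolynomial.X 2,
             MvPolynomial.X 2] *
        (MvPolynomial.C : k →+* MvPolynomial (Fin 3) k).mapMatrix h.val =
      !![MvPolynomial.X 1, 0; MvPolynomial.X 0, MvPolynomial.X 2]) := by
  constructor
  · rintro ⟨g, h, hgh⟩
    have key : ∀ (p : Fin 3 → k) (i j : Fin 2),
        MvPolynomial.eval p (((MvPolynomial.C : k →+* MvPolynomial (Fin 3) k).mapMatrix g.val *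
          !![MvPolynomial.X 1, 0; MvPolynomial.X 0, MvPolynomial.X 2] *
        (MvPolynomial.C : k →+* MvPolynomial (Fin 3) k).mapMatrix h.val :
          Matrix (Fin 2) (Fin 2) (MvPolynomial (Fin 3) k)) i j) =
        MvPolynomial.eval p ((!![MvPolynomial.X 2, 0; MvPolynomial.X 0, MvPolynomial.X 1] :
          Matrix (Fin 2) (Fin 2) (MvPolynomial (Fin 3) k)) i j) := by
      intro p i j
      rw [hgh]
    have e1 := key ![0, 1, 0] 1 1
    have e2 := key ![0, 1, 0] 1 0
    have e3 := key ![1, 0, 0] 1 0
    simp [Matrix.mul_apply, Fin.sum_univ_two] at e1 e2 e3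
    rcases e2 with h0 | h0
    · rw [h0, zero_mul] at e1
      exact zero_ne_one e1
    · rw [h0, mul_zero] at e3
      exact zero_ne_one e3
  · intro α β γ hα
    have hdet1 : IsUnit (!![1, 0; -β / α, 1 / α] : Matrix (Fin 2) (Fin 2) k).det := by
      rw [Matrix.det_fin_two_of]
      simp [hα]
    have hdet2 : IsUnit (!![1, 0; -γ, α] : Matrix (Fin 2) (Fin 2) k).det := by
      rw [Matrix.det_fin_two_of]
      simp [hα]
    refine ⟨Matrix.GeneralLinearGroup.mk'' _ hdet1, Matrix.GeneralLinearGroup.mk'' _ hdet2, ?_⟩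
    simp only [Matrix.GeneralLinearGroup.val_mk'']
    refine Matrix.ext (fun i j => ?_)
    fin_cases i <;> fin_cases j <;>
      simp [Matrix.mul_apply, Fin.sum_univ_two]
    · have : (MvPolynomial.C (-β / α) : MvPolynomial (Fin 3) k) = -(MvPolynomial.C β * MvPolynomial.C (α⁻¹)) := by
        rw [← map_mul, ← map_neg, div_eq_mul_inv, neg_mul]
      rw [this]
      have h2 : (MvPolynomial.C (α⁻¹) : MvPolynomial (Fin 3) k) * MvPolynomial.C α = 1 := by
        rw [← map_mul, inv_mul_cancel₀ hα, map_one]
      linear_combination (MvPolynomial.X 0) * h2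
    · have h2 : (MvPolynomial.C (α⁻¹) : MvPolynomial (Fin 3) k) * MvPolynomial.C α = 1 := by
        rw [← map_mul, inv_mul_cancel₀ hα, map_one]
      linear_combination (MvPolynomial.X 2) * h2

end Groth.Agent.S13916
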