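import Groth.Statements.S13925
import Mathlib

set_option autoImplicit false
universe u v w x
open W4c1limliniiii

namespace Groth.Agent.S13925

/-- Let k be a field and U, E, W vector spaces over k with linear maps f : U → E, g' : E → U, f₂ : E → W
and g : W → E such that g' ∘ f = 0, the kernel of f₂ is contained in the image of g, and the image
of g meets the kernel of g' only in 0 — the conditions holding at a point of a linked Grassmannian
at which the linking scalar vanishes. Let V₁ ≤ U and V₂ ≤ E be subspaces and let C' ≤ V₂ be a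
subspace contained in the kernel of g' and meeting f(V₁) only in 0. Then the subspaces f(V₁), ker f₂
∩ V₂ and C' of E are independent: their sum is direct. (The published statement is for two
consecutive members V_{i-1}, V_i of a point of a linked Grassmannian at which the linking scalar
vanishes and adds the decomposition V_i = f(V_{i-1}) ⊕ (ker f_i ∩ V_i) ⊕ C with C ⊇ C'; this row
states the independence, with only the three conditions the argument uses.) -/
theorem result (k : Type u) [Field k]
    (U : Type v) (E : Type w) (W : Type x) [AddCommGroup U] [Module k U] [AddCommGroup E]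
    [Module k E] [AddCommGroup W] [Module k W]
    (f : U →ₗ[k] E) (g' : E →ₗ[k] U) (f₂ : E →ₗ[k] W) (g : W →ₗ[k] E)
    (hgf : g'.comp f = 0) (hII : LinearMap.ker f₂ ≤ LinearMap.range g)
    (hIII : LinearMap.range g ⊓ LinearMap.ker g' = ⊥)
    (V₁ : Submodule k U) (V₂ : Submodule k E) (C' : Submodule k E) (hC : C' ≤ V₂)
    (hCg : C' ≤ LinearMap.ker g') (hCf : Submodule.map f V₁ ⊓ C' = ⊥) :
    iSupIndep ![Submodule.map f V₁, LinearMap.ker f₂ ⊓ V₂, C'] := by
  classical
  rw [iSupIndep_iff_finsetSum_eq_zero_imp_eq_zero]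
  intro s v hv hsum
  set w : Fin 3 → E := fun i => if i ∈ s then v i else 0 with hw_def
  have hw : ∀ i, w i ∈ (![Submodule.map f V₁, LinearMap.ker f₂ ⊓ V₂, C'] : Fin 3 → Submodule k E) i := by
    intro i
    by_cases h : i ∈ s
    · simp only [hw_def, h, if_true]; exact hv i h
    · simp only [hw_def, h, if_false]; exact Submodule.zero_mem _
  have hwsum : w 0 + w 1 + w 2 = 0 := by
    have h1 : ∑ i, w i = ∑ i ∈ s, v i := by
      simp only [hw_def]
      rw [Finset.sum_ite_mem, Finset.univ_inter]
    rw [← hsum, ← h1, Fin.sum_univ_three]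
  have ha : w 0 ∈ Submodule.map f V₁ := hw 0
  have hb : w 1 ∈ LinearMap.ker f₂ ⊓ V₂ := hw 1
  have hc : w 2 ∈ C' := hw 2
  have hga : g' (w 0) = 0 := by
    obtain ⟨u, _, hu⟩ := ha
    rw [← hu]
    exact LinearMap.congr_fun hgf u
  have hgc : g' (w 2) = 0 := LinearMap.mem_ker.mp (hCg hc)
  have hb_eq : w 1 = -(w 0 + w 2) := by
    have : w 1 = (w 0 + w 1 + w 2) - (w 0 + w 2) := by abel
    rw [this, hwsum, zero_sub]
  have hgb : g' (w 1) = 0 := by
    rw [hb_eq, map_neg, map_add, hga, hgc, add_zero, neg_zero]
  have hb0 : w 1 = 0 := by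
    have h1 : w 1 ∈ LinearMap.range g ⊓ LinearMap.ker g' :=
      ⟨hII hb.1, LinearMap.mem_ker.mpr hgb⟩
    rw [hIII] at h1
    exact (Submodule.mem_bot k).mp h1
  have hac : w 0 = -(w 2) := by
    have : w 0 = (w 0 + w 1 + w 2) - w 1 - w 2 := by abel
    rw [this, hwsum, hb0]; abel
  have ha0 : w 0 = 0 := by
    have h1 : w 0 ∈ Submodule.map f V₁ ⊓ C' := ⟨ha, by rw [hac]; exact C'.neg_mem hc⟩
    rw [hCf] at h1
    exact (Submodule.mem_bot k).mp h1
  have hc0 : w 2 = 0 := by
    have : w 2 = -(w 0) := by rw [hac, neg_neg]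
    rw [this, ha0, neg_zero]
  intro i hi
  have hvi : v i = w i := by simp only [hw_def, hi, if_true]
  rw [hvi]
  fin_cases i
  · exact ha0
  · exact hb0
  · exact hc0

end Groth.Agent.S13925
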