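import Groth.Statements.S13926
import Mathlib
import Groth.Agent.Lib.helper7.LinAlg

set_option autoImplicit false
universe u v w
open W4c1limliniiii

namespace Groth.Agent.S13926

/-- Let k be a field, E₁ and E₂ finite-dimensional vector spaces over k of the same dimension, f : E₁ →
E₂ and g : E₂ → E₁ linear maps whose composite g ∘ f is multiplication by a scalar s, and V₁ a
subspace of E₁. Then there is a subspace V₂ of E₂ of the same dimension as V₁ with f(V₁) ≤ V₂ and
g(V₂) ≤ V₁. (The published statement is the surjectivity of the truncation morphisms of a linked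
Grassmannian, with a further assertion on lifting families; this row is the lifting step over a
field — over a point the chain of linked subspaces V_1, …, V_{n'} extends one index at a time — and
assumes only g ∘ f = s.) -/
theorem result (k : Type u) [Field k]
    (E₁ : Type v) (E₂ : Type w) [AddCommGroup E₁] [Module k E₁] [FiniteDimensional k E₁]
    [AddCommGroup E₂] [Module k E₂] [FiniteDimensional k E₂]
    (hdim : Module.finrank k E₁ = Module.finrank k E₂)
    (f : E₁ →ₗ[k] E₂) (g : E₂ →ₗ[k] E₁) (s : k) (hgf : g.comp f = s • LinearMap.id)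
    (V₁ : Submodule k E₁) :
    ∃ V₂ : Submodule k E₂, Module.finrank k V₂ = Module.finrank k V₁ ∧
      Submodule.map f V₁ ≤ V₂ ∧ Submodule.map g V₂ ≤ V₁ := by
  have hAB : Submodule.map f V₁ ≤ Submodule.comap g V₁ := by
    rw [Submodule.map_le_iff_le_comap]
    intro v hv
    rw [Submodule.mem_comap, Submodule.mem_comap]
    have : g (f v) = s • v := LinearMap.congr_fun hgf v
    rw [this]
    exact V₁.smul_mem s hv
  have h1 : Module.finrank k (Submodule.map f V₁) ≤ Module.finrank k V₁ :=
    Submodule.finrank_map_le f V₁
  have h2 : Module.finrank k V₁ ≤ Module.finrank k (Submodule.comap g V₁) := by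
    set φ : E₂ →ₗ[k] E₁ ⧸ V₁ := V₁.mkQ.comp g with hφ
    have hker : LinearMap.ker φ = Submodule.comap g V₁ := by
      rw [hφ, LinearMap.ker_comp, Submodule.ker_mkQ]
    have e1 := LinearMap.finrank_range_add_finrank_ker φ
    have e2 : Module.finrank k (LinearMap.range φ) ≤ Module.finrank k (E₁ ⧸ V₁) :=
      Submodule.finrank_le _
    have e3 := Submodule.finrank_quotient_add_finrank V₁
    rw [hker] at e1
    omega
  obtain ⟨V₂, hV1, hV2, hV3⟩ := H7_exists_submodule_between _ _ hAB _ h1 h2
  exact ⟨V₂, hV3, hV1, Submodule.map_le_iff_le_comap.mpr hV2⟩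

end Groth.Agent.S13926
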