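import Groth.Statements.S13936
import Mathlib
import Groth.Agent.Lib.helper6.PP16Vanish

set_option autoImplicit false
universe u
open W4c1limliniiii Groth.Agent.Lib.helper6
open scoped TensorProduct
set_option linter.style.haveILetI false

namespace Groth.Agent.S13936

/-- Let R be a commutative ring, S_Y → S_X a homomorphism of R-algebras (an affine piece of a morphism f
: X → Y of schemes over Spec R) and σ : S_X → R an R-algebra retraction (a section of X over the
base) with kernel I. For e ≥ 1 write T^{e−1} for the augmentation ideal of the ring of principal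
parts of order e − 1 (the kernel of P^{e−1} → the algebra; for e = 2 this is the module of
differentials). Then the natural map T^{e−1}(S_Y/R) → T^{e−1}(S_X/R) takes values in I ·
T^{e−1}(S_X/R) — that is, the induced map f^*T^{e−1}_Y → T^{e−1}_X vanishes at the section σ — if
and only if every element of S_Y whose image in S_X lies in I has image in I^e, which says that the
fibre of f through σ contains the e-th order thickening of σ. (The published statement is for a
morphism of separated schemes over a base and sections over an arbitrary base change; this row is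
the affine computation it reduces to.) -/
theorem result (R SY SX : Type u)
    [CommRing R] [CommRing SY] [CommRing SX] [Algebra R SY] [Algebra R SX] [Algebra SY SX]
    [IsScalarTower R SY SX] (σ : SX →ₐ[R] R) (e : ℕ) (he : 1 ≤ e) :
    (∀ y ∈ PP16.augIdeal (e - 1) R SY,
        PP16.map (e - 1) R SY R SX y ∈
          RingHom.ker σ.toRingHom • (PP16.augIdeal (e - 1) R SX).restrictScalars SX) ↔
      (∀ b : SY, algebraMap SY SX b ∈ RingHom.ker σ.toRingHom →
        algebraMap SY SX b ∈ RingHom.ker σ.toRingHom ^ e) := by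
  obtain ⟨n, hn⟩ : ∃ n, n = e - 1 := ⟨_, rfl⟩
  have hne : n + 1 = e := by omega
  rw [← hn, ← hne]
  have hker : ∀ c : SX, c ∈ RingHom.ker σ.toRingHom ↔ c ∈ RingHom.ker σ := fun c => Iff.rfl
  have hkerpow : ∀ c : SX, c ∈ RingHom.ker σ.toRingHom ^ (n + 1) ↔ c ∈ RingHom.ker σ ^ (n + 1) :=
    fun c => Iff.rfl
  have hmapgen : ∀ b : SY, PP16.map n R SY R SX
      (Ideal.Quotient.mk _ ((1 : SY) ⊗ₜ[R] b - b ⊗ₜ[R] (1 : SY))) =
      Ideal.Quotient.mk _ ((1 : SX) ⊗ₜ[R] algebraMap SY SX b - algebraMap SY SX b ⊗ₜ[R] (1 : SX)) := by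
    intro b
    rw [PP16.map_mk, map_sub, PP16.tensorMap_tmul, PP16.tensorMap_tmul, map_one]
  constructor
  · intro h b hb
    have h1 := h _ (H6_mk_mem_aug n R SY b)
    rw [hmapgen] at h1
    have h2 := (H6_smul_aug_le n R SX (RingHom.ker σ.toRingHom) _ h1).1
    have h3 : H6_rhoBar n R SX σ (Ideal.Quotient.mk _
        ((1 : SX) ⊗ₜ[R] algebraMap SY SX b - algebraMap SY SX b ⊗ₜ[R] (1 : SX))) = 0 :=
      H6_L_le_ker n R SX σ h2
    rw [H6_rhoBar_eps] at h3
    have hb' : σ (algebraMap SY SX b) = 0 := hb
    rw [hb', map_zero, sub_zero, Ideal.Quotient.eq_zero_iff_mem] at h3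
    exact h3
  · intro h
    have key : PP16.augIdeal n R SY ≤ Ideal.comap (PP16.map n R SY R SX)
        ((RingHom.ker σ).map (algebraMap SX (PP16.P n R SX)) ⊓ PP16.augIdeal n R SX) := by
      unfold PP16.augIdeal
      rw [Ideal.map_le_iff_le_comap]
      refine le_trans (le_of_eq (KaehlerDifferential.span_range_eq_ideal R SY).symm) ?_
      rw [Ideal.span_le]
      rintro _ ⟨b, rfl⟩
      rw [SetLike.mem_coe, Ideal.mem_comap, Ideal.mem_comap]
      show PP16.map n R SY R SX (Ideal.Quotient.mk _ ((1 : SY) ⊗ₜ[R] b - b ⊗ₜ[R] (1 : SY))) ∈ _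
      rw [hmapgen]
      refine ⟨?_, ?_⟩
      · apply H6_mem_of_rhoBar_eq_zero n R SX σ
        rw [H6_rhoBar_eps, Ideal.Quotient.eq_zero_iff_mem]
        have h1 := h (b - algebraMap R SY (σ (algebraMap SY SX b))) (by
          rw [map_sub, ← IsScalarTower.algebraMap_apply]
          exact H6_sub_mem_ker R SX σ _)
        rw [map_sub, ← IsScalarTower.algebraMap_apply] at h1
        exact h1
      · have := H6_mk_mem_aug n R SX (algebraMap SY SX b)
        unfold PP16.augIdeal at this
        exact this
    intro y hy
    have h1 := key hy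
    rw [Ideal.mem_comap] at h1
    exact H6_splitting n R SX (RingHom.ker σ.toRingHom) _ h1.1 h1.2

end Groth.Agent.S13936
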