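import Groth.Statements.S13953
import Groth.Statements.S13953
import Mathlib

set_option autoImplicit false
universe u
open TateLoc

namespace Groth.Agent.S13953

/-- Let (R_i) be a family of local commutative rings and R = ∏ R_i. Any open cover of Spec R can be
refined by one coming from a finite partition of the index set: there is a map c from the index set
to a finite set such that, for each value m, the basic open subset of Spec R defined by the
idempotent which is 1 at the indices with c i = m and 0 elsewhere (this open is the spectrum of the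
product of the R_i over that class) is contained in some member of the cover. -/
theorem result {ι : Type u} (R : ι → Type u)
    [∀ i, CommRing (R i)] [∀ i, IsLocalRing (R i)] {J : Type u}
    (U : J → TopologicalSpace.Opens (PrimeSpectrum (∀ i, R i))) (hU : ⨆ j, U j = ⊤) :
    ∃ (n : ℕ) (c : ι → Fin n), ∀ m : Fin n, ∃ j : J,
      PrimeSpectrum.basicOpen (fun i => if c i = m then (1 : R i) else 0) ≤ U j := by
  classical
  set 𝒮 : Set (∀ i, R i) := {f | ∃ j, PrimeSpectrum.basicOpen f ≤ U j} with h𝒮
  have hspan : Ideal.span 𝒮 = ⊤ := by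
    by_contra hne
    obtain ⟨M, hM, hle⟩ := Ideal.exists_le_maximal _ hne
    let x : PrimeSpectrum (∀ i, R i) := ⟨M, hM.isPrime⟩
    have hx : x ∈ (⨆ j, U j : TopologicalSpace.Opens _) := by rw [hU]; trivial
    rw [TopologicalSpace.Opens.mem_iSup] at hx
    obtain ⟨j, hj⟩ := hx
    obtain ⟨_, ⟨f, rfl⟩, hxf, hfU⟩ :=
      PrimeSpectrum.isTopologicalBasis_basic_opens.exists_subset_of_mem_open hj (U j).2
    have hf𝒮 : f ∈ 𝒮 := ⟨j, hfU⟩
    exact hxf (hle (Ideal.subset_span hf𝒮))
  have h1 : (1 : ∀ i, R i) ∈ Ideal.span 𝒮 := by rw [hspan]; trivial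
  obtain ⟨t, ht𝒮, ht1⟩ := Submodule.mem_span_finite_of_mem_span h1
  rw [Submodule.mem_span_finset] at ht1
  obtain ⟨a, _, ha⟩ := ht1
  -- for each i some f ∈ t with f i a unit
  have hunit : ∀ i, ∃ f ∈ t, IsUnit (f i) := by
    intro i
    by_contra hcon
    push Not at hcon
    have h2 : (∑ f ∈ t, a f • f) i ∈ IsLocalRing.maximalIdeal (R i) := by
      rw [Finset.sum_apply]
      apply Ideal.sum_mem
      intro f hf
      have : (a f • f) i = a f i * f i := rfl
      rw [this]
      exact Ideal.mul_mem_left _ _ ((IsLocalRing.mem_maximalIdeal _).mpr (hcon f hf))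
    rw [ha] at h2
    exact (IsLocalRing.maximalIdeal.isMaximal (R i)).ne_top
      ((Ideal.eq_top_iff_one _).mpr h2)
  choose F hFt hFu using hunit
  let e : t ≃ Fin t.card := t.equivFin
  refine ⟨t.card, fun i => e ⟨F i, hFt i⟩, fun m => ?_⟩
  obtain ⟨j, hj⟩ := ht𝒮 (e.symm m).2
  refine ⟨j, le_trans ?_ hj⟩
  let g : ∀ i, R i := fun i => if h : e ⟨F i, hFt i⟩ = m then ((hFu i).unit⁻¹ : (R i)ˣ) else 0
  have hfg : (fun i => if e ⟨F i, hFt i⟩ = m then (1 : R i) else 0) = (e.symm m).1 * g := by
    funext i
    simp only [Pi.mul_apply, g]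
    split_ifs with h
    · have h3 : (e.symm m) = ⟨F i, hFt i⟩ := by rw [← h]; simp
      rw [h3]
      exact (IsUnit.mul_val_inv (hFu i)).symm
    · simp
  rw [hfg, PrimeSpectrum.basicOpen_mul]
  exact inf_le_left

end Groth.Agent.S13953
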