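import Groth.Statements.S1396
import Mathlib
import Groth.Agent.Lib.helper1.QuasiAffineHom

set_option autoImplicit false
universe u
open FlatMor

namespace Groth.Agent.S1396

open AlgebraicGeometry CategoryTheory Limits in
/-- (1) ⇔ (4): a morphism f : X → Y is ind-quasi-affine (the preimage of every affine open is a scheme
all of whose quasi-compact opens are quasi-affine) if and only if for every quasi-compact
quasi-separated open V of Y and every quasi-compact open U of the preimage of V, the induced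
morphism U → V is quasi-affine (quasi-compact with quasi-affine preimages of affine opens). -/
theorem result {X Y : Scheme.{u}} (f : X ⟶ Y) :
    MoreMor.IsIndQuasiAffineHom f ↔ ∀ (V : Y.Opens), IsCompact (V : Set ↑Y) → IsQuasiSeparated (V : Set ↑Y) →
      ∀ (U : X.Opens) (hUV : U ≤ f ⁻¹ᵁ V), IsCompact (U : Set ↑X) → MoreMor.IsQuasiAffineHom (f.resLE V U hUV) := by
  rw [Groth.Agent.H1.H1_IQA_iff]
  constructor
  · intro h V hVc hVqs U hUV hUc
    haveI : CompactSpace (U : Scheme.{u}) := isCompact_iff_compactSpace.mp hUc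
    haveI : QuasiSeparatedSpace (V : Scheme.{u}) :=
      (isQuasiSeparated_iff_quasiSeparatedSpace _ V.2).mp hVqs
    haveI : QuasiCompact (f.resLE V U hUV) := inferInstance
    refine ⟨inferInstance, fun V' hV' => ?_⟩
    have hOc : IsCompact (((f.resLE V U hUV) ⁻¹ᵁ V' : (U : Scheme.{u}).Opens) :
        Set (U : Scheme.{u})) :=
      QuasiCompact.isCompact_preimage (f := f.resLE V U hUV) _ V'.2 hV'.isCompact
    have hV1 : IsAffineOpen (V.ι ''ᵁ V') := hV'.image_of_isOpenImmersion V.ι
    have hle : U.ι ''ᵁ ((f.resLE V U hUV) ⁻¹ᵁ V') ≤ f ⁻¹ᵁ (V.ι ''ᵁ V') :=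
      (Scheme.Hom.le_resLE_preimage_iff f hUV V' _).mp le_rfl
    have hc : IsCompact ((U.ι ''ᵁ ((f.resLE V U hUV) ⁻¹ᵁ V') : X.Opens) : Set X) :=
      hOc.image U.ι.continuous
    haveI := h _ hV1 _ hle hc
    exact Groth.Agent.H1.H1_isQuasiAffine_of_iso (U.ι.isoImage ((f.resLE V U hUV) ⁻¹ᵁ V'))
  · intro h V hV U hUV hUc
    obtain ⟨-, h2⟩ := h V hV.isCompact hV.isQuasiSeparated U hUV hUc
    haveI : IsAffine (V : Scheme.{u}) := hV
    haveI := h2 ⊤ (isAffineOpen_top _)
    have h3 : Scheme.IsQuasiAffine (((⊤ : (U : Scheme.{u}).Opens)) : Scheme.{u}) := by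
      have : (f.resLE V U hUV) ⁻¹ᵁ ⊤ = ⊤ := rfl
      rw [← this]; infer_instance
    haveI := h3
    exact Groth.Agent.H1.H1_isQuasiAffine_of_iso ((U : Scheme.{u}).topIso.symm)

end Groth.Agent.S1396
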