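import Groth.Statements.S13963
import Groth.Statements.S13963
import Mathlib

set_option autoImplicit false
universe u
open TateLoc

namespace Groth.Agent.S13963

/-- Let A' → A → A'' be continuous homomorphisms of locally compact, second-countable, Hausdorff abelian
topological groups which form a short exact sequence of abstract groups (the first injective, the
second surjective, image equal to kernel). If A' and A'' are compact, then A is compact. -/
theorem result (A' A A'' : Type u)
    [AddCommGroup A'] [TopologicalSpace A'] [IsTopologicalAddGroup A'] [SecondCountableTopology A'] [T2Space A']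
    [CompactSpace A']
    [AddCommGroup A] [TopologicalSpace A] [IsTopologicalAddGroup A] [LocallyCompactSpace A]
    [SecondCountableTopology A] [T2Space A]
    [AddCommGroup A''] [TopologicalSpace A''] [IsTopologicalAddGroup A''] [SecondCountableTopology A''] [T2Space A'']
    [CompactSpace A'']
    (f : A' →+ A) (g : A →+ A'') (hf : Continuous f) (hg : Continuous g)
    (hinj : Function.Injective f) (hsurj : Function.Surjective g) (hex : g.ker = f.range) :
    CompactSpace A := by
  classical
  have hopen : IsOpenMap g := AddMonoidHom.isOpenMap_of_sigmaCompact g hsurj hg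
  obtain ⟨K, hK, hK0⟩ := exists_compact_mem_nhds (0 : A)
  -- g '' K has nonempty interior
  have hV : (interior (g '' K)).Nonempty := by
    refine ⟨0, ?_⟩
    rw [mem_interior_iff_mem_nhds]
    have := hopen.image_mem_nhds hK0
    rwa [map_zero] at this
  obtain ⟨t, ht⟩ := compact_covered_by_add_left_translates (isCompact_univ (X := A'')) hV
  let s : A'' → A := Function.surjInv hsurj
  have hs : ∀ x, g (s x) = x := Function.surjInv_eq hsurj
  -- the compact set
  let C : Set A := ⋃ x ∈ t, (fun q : A × A' => q.1 + f q.2 - s x) '' (K ×ˢ (Set.univ : Set A'))
  have hC : IsCompact C := by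
    apply t.isCompact_biUnion
    intro x _
    apply (hK.prod isCompact_univ).image
    fun_prop
  have huniv : (Set.univ : Set A) ⊆ C := by
    intro a _
    have h1 := ht (Set.mem_univ (g a))
    simp only [Set.mem_iUnion, Set.mem_preimage] at h1
    obtain ⟨x, hx, u, hu, hgu⟩ := h1
    -- g u = x + g a
    have h2 : g (a + s x - u) = 0 := by
      rw [map_sub, map_add, hs, hgu]; abel
    have h3 : a + s x - u ∈ g.ker := h2
    rw [hex] at h3
    obtain ⟨a', ha'⟩ := h3
    simp only [C, Set.mem_iUnion]
    refine ⟨x, hx, (u, a'), ⟨hu, Set.mem_univ _⟩, ?_⟩
    show u + f a' - s x = a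
    rw [ha']; abel
  exact isCompact_univ_iff.mp (hC.of_isClosed_subset isClosed_univ huniv)

end Groth.Agent.S13963
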