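import Groth.Statements.S1397
import Mathlib
import Groth.Agent.Lib.helper1.QuasiAffineHom

set_option autoImplicit false
universe u
open FlatMor

namespace Groth.Agent.S1397

open AlgebraicGeometry CategoryTheory Limits in
/-- Ind-quasi-affine morphisms are stable under composition. -/
theorem result {X Y Z : Scheme.{u}} (f : X ⟶ Y) (g : Y ⟶ Z) (hf : MoreMor.IsIndQuasiAffineHom f) (hg : MoreMor.IsIndQuasiAffineHom g) :
    MoreMor.IsIndQuasiAffineHom (f ≫ g) := by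
  rw [Groth.Agent.H1.H1_IQA_iff] at hf hg ⊢
  intro W hW U hUW hU
  have hK : IsCompact (f '' (U : Set X)) := hU.image f.continuous
  have hKO : f '' (U : Set X) ⊆ (g ⁻¹ᵁ W : Y.Opens) := by
    rintro _ ⟨x, hx, rfl⟩; exact hUW hx
  obtain ⟨T, hTc, hKT, hTO⟩ := Groth.Agent.H1.H1_exists_compact_open_between hK (g ⁻¹ᵁ W) hKO
  have hT : Scheme.IsQuasiAffine (T : Scheme.{u}) := hg W hW T hTO hTc
  have hUT : U ≤ f ⁻¹ᵁ T := fun x hx => hKT ⟨x, hx, rfl⟩
  refine Groth.Agent.H1.H1_isQuasiAffine_opens_of_cover U hU fun x hx => ?_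
  obtain ⟨r0, hxr0, hr0⟩ := Groth.Agent.H1.H1_exists_affine_basicOpen T hT (f x) (hUT hx)
  refine ⟨f.appLE T U hUT r0, ?_, ?_⟩
  · rw [Scheme.basicOpen_appLE]; exact ⟨hx, hxr0⟩
  · have hcomp : IsCompact (X.basicOpen (f.appLE T U hUT r0) : Set X) :=
      Groth.Agent.H1.H1_isCompact_basicOpen hU _
    refine hf (Y.basicOpen r0) hr0 _ ?_ hcomp
    rw [Scheme.basicOpen_appLE]; exact inf_le_right

end Groth.Agent.S1397
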