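import Groth.Statements.S1398
import Mathlib
import Groth.Agent.Lib.helper1.QuasiAffineHom

set_option autoImplicit false
universe u
open FlatMor

namespace Groth.Agent.S1398

open AlgebraicGeometry CategoryTheory Limits in
/-- An immersion is ind-quasi-affine, and so is any quasi-affine morphism. -/
theorem result {X Y : Scheme.{u}} (f : X ⟶ Y) :
    (IsImmersion f → MoreMor.IsIndQuasiAffineHom f) ∧ (MoreMor.IsQuasiAffineHom f → MoreMor.IsIndQuasiAffineHom f) := by
  constructor
  · intro hf
    rw [Groth.Agent.H1.H1_IQA_iff]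
    intro V hV U hUV hU
    haveI : CompactSpace (U : Scheme.{u}) := isCompact_iff_compactSpace.mp hU
    haveI : IsAffine (V : Scheme.{u}) := hV
    haveI : IsImmersion (f.resLE V U hUV) := by
      haveI : IsImmersion (f.resLE V U hUV ≫ V.ι) := by
        rw [Scheme.Hom.resLE_comp_ι]; infer_instance
      exact IsImmersion.of_comp _ V.ι
    exact Scheme.IsQuasiAffine.of_isImmersion (f.resLE V U hUV)
  · rintro ⟨h1, h2⟩
    rw [Groth.Agent.H1.H1_IQA_iff]
    intro V hV U hUV hU
    exact Groth.Agent.H1.H1_isQuasiAffine_of_le hUV (h2 V hV) hU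

end Groth.Agent.S1398
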