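import Groth.Statements.S13981
import Mathlib
import Groth.Agent.Lib.helper6.CRingLimit
import Groth.Agent.Lib.helper6.ArtSquares
import Groth.Agent.Lib.helper6.ArtPull
import Groth.Agent.Lib.helper6.ArtTan

set_option autoImplicit false
universe u v
open CategoryTheory
open ArtFun

namespace Groth.Agent.S13981

/-- Let F be a functor on Artinian local Λ-algebras with residue field k (Λ Noetherian, Λ → k finite and
surjective) satisfying (RS) — the comparison map for A₁ ×_A A₂ is bijective whenever A₂ → A is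
surjective — and let ξ be a versal family of F over a complete local Noetherian Λ-algebra R with
residue field k. Then the lifting property defining versality also holds along surjections of
complete local Noetherian algebras: if g : A' → A is such a surjection, η' is a formal element of F
over A' (a compatible system over the truncations A'/m^(n+1)) and φ : R → A is a map under which the
formal element of ξ becomes the pushforward of η' along g, then φ lifts to ψ : R → A' with g ∘ ψ = φ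
and with ξ inducing η' along ψ. (The published statement takes Λ complete local Noetherian with
residue field k; its proof does not use completeness of Λ, and this row assumes only Λ Noetherian
with Λ → k surjective.) -/
theorem result {Λ : Type u} {k : Type u} [CommRing Λ] [Field k]
    [Algebra Λ k] [IsNoetherianRing Λ] [Module.Finite Λ k] (hΛ : Function.Surjective (algebraMap Λ k))
    {F : ArtFun.Art Λ k ⥤ Type v}
    (hRS : ∀ ⦃B A A₁ A₂ : ArtFun.Art Λ k⦄ (p₁ : B ⟶ A₁) (p₂ : B ⟶ A₂) (f₁ : A₁ ⟶ A) (f₂ : A₂ ⟶ A)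
        (h : ArtFun.Art.IsFibreProd p₁ p₂ f₁ f₂), Function.Surjective f₂ → Function.Bijective (ArtFun.cmp F h))
    (R : ArtFun.CRing Λ k) (ξ : ArtFun.Family R.carrier R.res F) (hξ : ArtFun.IsVersal ξ)
    (A' A : ArtFun.CRing Λ k) (g : A'.carrier →ₐ[Λ] A.carrier) (hg : A.res.comp g = A'.res)
    (hgs : Function.Surjective g) (η' : ArtFun.FormalElt F A')
    (φ : R.carrier →ₐ[Λ] A.carrier) (hφ : A.res.comp φ = R.res)
    (hsq : (ξ.along φ hφ).toFormalElt = η'.push g hg) :
    ∃ (ψ : R.carrier →ₐ[Λ] A'.carrier) (hψ : A'.res.comp ψ = R.res),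
      g.comp ψ = φ ∧ (ξ.along ψ hψ).toFormalElt = η' := by
  classical
  -- truncated versions of φ
  let φn : ∀ n, ArtFun.HomSet R.carrier R.res (A.trunc n) := fun n =>
    ⟨(A.truncHom n).1.comp φ, by rw [← AlgHom.comp_assoc, (A.truncHom n).2, hφ]⟩
  have hφn : ∀ n, ArtFun.HomSet.map (A.truncMap n) (φn (n + 1)) = φn n := fun n =>
    Subtype.ext (AlgHom.ext fun _ => rfl)
  have hsqn : ∀ n, ξ.app _ (φn n) = F.map (ArtFun.CRing.truncMapOfHom g hg n) (η'.elt n) := fun n =>
    congrArg (fun u : ArtFun.FormalElt F A => u.elt n) hsq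
  -- g maps the powers of the maximal ideal onto the powers of the maximal ideal
  have hmap : ∀ n, A.mpow n ≤ Ideal.map g (A'.mpow n) := by
    intro n
    have h1 : IsLocalRing.maximalIdeal A.carrier ≤ Ideal.map g (IsLocalRing.maximalIdeal A'.carrier) := by
      intro x hx
      obtain ⟨y, rfl⟩ := hgs x
      apply Ideal.mem_map_of_mem
      rw [ArtFun.CRing.mem_maximalIdeal_iff] at hx ⊢
      rw [← ArtFun.CRing.res_comp_apply g hg y]
      exact hx
    show IsLocalRing.maximalIdeal A.carrier ^ (n + 1) ≤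
      Ideal.map g (IsLocalRing.maximalIdeal A'.carrier ^ (n + 1))
    rw [Ideal.map_pow]
    exact Ideal.pow_right_mono h1 _
  have hgn_surj : ∀ n, Function.Surjective (ArtFun.CRing.truncMapOfHom g hg n) := by
    intro n x
    obtain ⟨a, rfl⟩ := Ideal.Quotient.mk_surjective x
    obtain ⟨b, rfl⟩ := hgs a
    exact ⟨Ideal.Quotient.mk _ b, rfl⟩
  have htm : ∀ n, Function.Surjective (A.truncMap n) := by
    intro n x
    obtain ⟨a, rfl⟩ := Ideal.Quotient.mk_surjective x
    exact ⟨Ideal.Quotient.mk _ a, rfl⟩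
  let T : ℕ → Type u := fun n =>
    {ψ : ArtFun.HomSet R.carrier R.res (A'.trunc n) //
      ξ.app _ ψ = η'.elt n ∧ ArtFun.HomSet.map (ArtFun.CRing.truncMapOfHom g hg n) ψ = φn n}
  have base : Nonempty (T 0) := by
    obtain ⟨ψ, h1, h2⟩ := hξ (ArtFun.CRing.truncMapOfHom g hg 0) (hgn_surj 0) (φn 0) (η'.elt 0)
      (hsqn 0).symm
    exact ⟨⟨ψ, h2, h1⟩⟩
  have step : ∀ n (ψ : T n), ∃ ψ' : T (n + 1), ArtFun.HomSet.map (A'.truncMap n) ψ'.1 = ψ.1 := by
    intro n ψ
    obtain ⟨D, p₁, p₂, hD⟩ := Groth.Agent.Lib.helper6.H6_art_pullback_exists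
      (ArtFun.CRing.truncMapOfHom g hg n) (A.truncMap n) (htm n)
    obtain ⟨q, hq1, hq2⟩ := Groth.Agent.Lib.helper6.H6_fibreProd_lift_hom hD (A'.truncMap n)
      (ArtFun.CRing.truncMapOfHom g hg (n + 1)) (ArtFun.CRing.truncMapOfHom_truncMap g hg n).symm
    have hqs : Function.Surjective q := by
      intro d
      obtain ⟨b₀, hb₀⟩ := Ideal.Quotient.mk_surjective (p₁ d)
      obtain ⟨c, hc⟩ := Ideal.Quotient.mk_surjective (p₂ d)
      have hcomp := hD.w_apply d
      rw [← hb₀, ← hc] at hcomp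
      have h1 : Ideal.Quotient.mk (A.mpow n) (g b₀) = Ideal.Quotient.mk (A.mpow n) c := hcomp
      rw [Ideal.Quotient.eq] at h1
      obtain ⟨e, he, hge⟩ := (Ideal.mem_map_iff_of_surjective g hgs).1 (hmap n h1)
      refine ⟨Ideal.Quotient.mk (A'.mpow (n + 1)) (b₀ - e), ?_⟩
      apply hD.inj
      · have : p₁ (q (Ideal.Quotient.mk (A'.mpow (n + 1)) (b₀ - e))) =
            (q ≫ p₁) (Ideal.Quotient.mk (A'.mpow (n + 1)) (b₀ - e)) := rfl
        rw [this, hq1, ← hb₀]
        show Ideal.Quotient.mk (A'.mpow n) (b₀ - e) = Ideal.Quotient.mk (A'.mpow n) b₀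
        rw [Ideal.Quotient.eq]
        simpa using (A'.mpow n).neg_mem he
      · have : p₂ (q (Ideal.Quotient.mk (A'.mpow (n + 1)) (b₀ - e))) =
            (q ≫ p₂) (Ideal.Quotient.mk (A'.mpow (n + 1)) (b₀ - e)) := rfl
        rw [this, hq2, ← hc]
        show Ideal.Quotient.mk (A.mpow (n + 1)) (g (b₀ - e)) = Ideal.Quotient.mk (A.mpow (n + 1)) c
        rw [map_sub, hge]
        congr 1
        ring
    obtain ⟨χ, hχ1, hχ2⟩ := Groth.Agent.Lib.helper6.H6_fibreProd_lift hD ψ.1 (φn (n + 1))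
      (by rw [ψ.2.2, hφn])
    have hRSD := hRS p₁ p₂ (ArtFun.CRing.truncMapOfHom g hg n) (A.truncMap n) hD (htm n)
    have hkey : F.map q (η'.elt (n + 1)) = ξ.app D χ := by
      apply hRSD.1
      apply ArtFun.FibProd.ext
      · show F.map p₁ (F.map q (η'.elt (n + 1))) = F.map p₁ (ξ.app D χ)
        rw [← FunctorToTypes.map_comp_apply, hq1, η'.compat, ← ξ.natural, hχ1, ψ.2.1]
      · show F.map p₂ (F.map q (η'.elt (n + 1))) = F.map p₂ (ξ.app D χ)
        rw [← FunctorToTypes.map_comp_apply, hq2, ← ξ.natural, hχ2, hsqn]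
    obtain ⟨ψ', h1, h2⟩ := hξ q hqs χ (η'.elt (n + 1)) hkey
    refine ⟨⟨ψ', h2, ?_⟩, ?_⟩
    · rw [← hq2, Groth.Agent.Lib.helper6.H6_homSet_map_comp, h1, hχ2]
    · show ArtFun.HomSet.map (A'.truncMap n) ψ' = ψ.1
      rw [← hq1, Groth.Agent.Lib.helper6.H6_homSet_map_comp, h1, hχ1]
  choose next hnext using step
  obtain ⟨t0⟩ := base
  let seq : ∀ n, T n := fun n => Nat.rec (motive := T) t0 (fun n u => next n u) n
  have hseq : ∀ n, seq (n + 1) = next n (seq n) := fun n => rfl
  obtain ⟨ψ, hψ, hψn⟩ := Groth.Agent.Lib.helper6.H6_cring_limit_hom R.res A' (fun n => (seq n).1)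
    (fun n => by rw [hseq]; exact hnext n (seq n))
  refine ⟨ψ, hψ, ?_, ?_⟩
  · apply Groth.Agent.Lib.helper6.H6_cring_hom_ext A
    intro n r
    have h1 := congrArg (fun χ : ArtFun.HomSet R.carrier R.res (A.trunc n) => χ.1 r) (seq n).2.2
    have h2 : Ideal.Quotient.mk (A.mpow n) (g (ψ r)) =
        (ArtFun.CRing.truncMapOfHom g hg n) (Ideal.Quotient.mk (A'.mpow n) (ψ r)) := rfl
    show Ideal.Quotient.mk (A.mpow n) (g (ψ r)) = Ideal.Quotient.mk (A.mpow n) (φ r)
    rw [h2, hψn n r]
    exact h1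
  · apply ArtFun.FormalElt.ext'
    intro n
    show ξ.app _ _ = η'.elt n
    rw [← (seq n).2.1]
    congr 1
    apply Subtype.ext
    apply AlgHom.ext
    intro r
    exact hψn n r

end Groth.Agent.S13981
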