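import Groth.Statements.S13985
import Mathlib

set_option autoImplicit false
universe u
open CategoryTheory
open CohGab

namespace Groth.Agent.S13985

/-- For a ring A, the canonical map from the centre of A to the centre of the category of finitely
generated left A-modules (the endomorphism ring of its identity functor), sending a to
multiplication by a, is bijective: every natural endomorphism of the identity functor acts on each
finitely generated module as multiplication by a unique element of A, and that element is central.
(The published statement calls this map an isomorphism of commutative rings; this row states its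
bijectivity.) -/
theorem result (A : Type u) [Ring A]
    (φ : 𝟭 (FGModuleCat.{u} A) ⟶ 𝟭 (FGModuleCat.{u} A)) :
    ∃! a : A, a ∈ Subring.center A ∧
      ∀ (M : FGModuleCat.{u} A) (x : M), (φ.app M).hom.hom x = a • x := by
  classical
  let M₀ : FGModuleCat.{u} A := FGModuleCat.of A A
  let a : A := (φ.app M₀).hom.hom (1 : A)
  have hnat : ∀ (M : FGModuleCat.{u} A) (x : M), (φ.app M).hom.hom x = a • x := by
    intro M x
    let fx : M₀ ⟶ M :=
      ObjectProperty.homMk (ModuleCat.ofHom (LinearMap.toSpanSingleton A M x))
    have h1 := φ.naturality fx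
    have h2 : (fx ≫ φ.app M).hom.hom (1 : A) = (φ.app M₀ ≫ fx).hom.hom (1 : A) := by
      have h3 : (𝟭 (FGModuleCat.{u} A)).map fx ≫ φ.app M = φ.app M₀ ≫ (𝟭 (FGModuleCat.{u} A)).map fx := h1
      simp only [Functor.id_map] at h3
      rw [h3]
    have h4 : (fx ≫ φ.app M).hom.hom (1 : A) = (φ.app M).hom.hom x := by
      show (φ.app M).hom.hom ((LinearMap.toSpanSingleton A M x) (1 : A)) = _
      rw [LinearMap.toSpanSingleton_apply, one_smul]
    have h5 : (φ.app M₀ ≫ fx).hom.hom (1 : A) = a • x := by
      show (LinearMap.toSpanSingleton A M x) a = _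
      rw [LinearMap.toSpanSingleton_apply]
    rw [← h4, h2, h5]
  have hcen : a ∈ Subring.center A := by
    rw [Subring.mem_center_iff]
    intro r
    have h1 : (φ.app M₀).hom.hom (r : A) = a • (r : A) := hnat M₀ r
    have h2 : (φ.app M₀).hom.hom (r • (1 : A)) = r • a := by
      rw [map_smul]
    rw [smul_eq_mul, mul_one] at h2
    rw [h2, smul_eq_mul, smul_eq_mul] at h1
    exact h1
  refine ⟨a, ⟨hcen, hnat⟩, ?_⟩
  rintro b ⟨_, hb⟩
  have h1 : (φ.app M₀).hom.hom (1 : A) = b • (1 : A) := hb M₀ (1 : A)
  rw [smul_eq_mul, mul_one] at h1
  exact h1.symm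

end Groth.Agent.S13985
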