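import Groth.Statements.S1399
import Mathlib
import Groth.Agent.Lib.helper1.QuasiAffineHom

set_option autoImplicit false
universe u
open FlatMor

namespace Groth.Agent.S1399

open AlgebraicGeometry CategoryTheory Limits in
/-- If g ∘ f is ind-quasi-affine then so is f. -/
theorem result {X Y Z : Scheme.{u}} (f : X ⟶ Y) (g : Y ⟶ Z) (h : MoreMor.IsIndQuasiAffineHom (f ≫ g)) :
    MoreMor.IsIndQuasiAffineHom f := by
  rw [Groth.Agent.H1.H1_IQA_iff] at h ⊢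
  intro V hV U hUV hU
  refine Groth.Agent.H1.H1_isQuasiAffine_of_basicOpen_cover f U hU V hUV fun x hx => ?_
  obtain ⟨_, ⟨W, hW, rfl⟩, hyW, -⟩ := Z.isBasis_affineOpens.exists_subset_of_mem_open
    (Set.mem_univ (g (f x))) isOpen_univ
  obtain ⟨b, hbN, hxb⟩ := hV.exists_basicOpen_le (V := g ⁻¹ᵁ W) ⟨f x, hyW⟩ (hUV hx)
  refine ⟨b, hxb, ?_⟩
  have hle : U ⊓ f ⁻¹ᵁ (Y.basicOpen b) ≤ (f ≫ g) ⁻¹ᵁ W := fun z hz => hbN hz.2
  have hcomp : IsCompact ((U ⊓ f ⁻¹ᵁ (Y.basicOpen b) : X.Opens) : Set X) := by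
    rw [← Scheme.basicOpen_appLE f U V hUV b]
    exact Groth.Agent.H1.H1_isCompact_basicOpen hU _
  exact h W hW _ hle hcomp

end Groth.Agent.S1399
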