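import Groth.Statements.S13996
import Mathlib

set_option autoImplicit false
universe u
open CAlg

namespace Groth.Agent.S13996

/-- Let R be a reduced Noetherian local ring of Krull dimension one with maximal ideal m, and M a
non-zero finitely generated R-module. Then M is torsion-free in the sense that no element of m which
is a non-zero-divisor on R is a zero-divisor on M, if and only if M has depth one, i.e. some element
of m is a non-zero-divisor on M. (The published statement is for a non-zero coherent sheaf F on a
connected reduced projective curve over a characteristic-zero algebraically closed field and asserts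
the equivalence of: F torsion-free in the above sense at every closed point; F pure of dimension
one; depth of F_p equal to one at every closed point p. This row is the equivalence of the first and
third conditions at a single closed point p with F_p ≠ 0; at points outside the support the third
condition as published cannot hold, so the row assumes the stalk non-zero.) -/
theorem result (R : Type u) [CommRing R] [IsLocalRing R] [IsNoetherianRing R] [IsReduced R] (hdim : ringKrullDim R = 1) (M : Type u) [AddCommGroup M] [Module R M] [Module.Finite R M] [Nontrivial M] : (∀ r : R, r ∈ IsLocalRing.maximalIdeal R → IsSMulRegular R r → IsSMulRegular M r) ↔ (∃ x : R, x ∈ IsLocalRing.maximalIdeal R ∧ IsSMulRegular M x) := by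
  classical
  set m := IsLocalRing.maximalIdeal R with hm
  have hmne : m ≠ ⊥ := by
    intro h
    have hf : IsField R := (IsLocalRing.isField_iff_maximalIdeal_eq).2 h
    have := ringKrullDim_eq_zero_of_isField hf
    rw [hdim] at this
    exact one_ne_zero this
  constructor
  · intro h
    -- find an R-regular element in m
    have hex : ∃ r ∈ m, IsSMulRegular R r := by
      by_contra hcon
      push Not at hcon
      have hsub : (m : Set R) ⊆ ⋃ p ∈ associatedPrimes R R, (p : Set R) := by
        rw [biUnion_associatedPrimes_eq_compl_regular R R]
        intro r hr
        exact hcon r hr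
      obtain ⟨Ia, hIa⟩ := associatedPrimes.nonempty R R
      obtain ⟨P, hP, hmP⟩ := (Ideal.subset_union_prime_finite (associatedPrimes.finite R R) Ia Ia
        (fun I hin _ _ => IsAssociatedPrime.isPrime hin)).1 hsub
      have hPprime : P.IsPrime := IsAssociatedPrime.isPrime hP
      have hPm : P = m := by
        have := (IsLocalRing.maximalIdeal.isMaximal R).eq_of_le hPprime.ne_top hmP
        exact this.symm
      obtain ⟨-, x, hx⟩ := (isAssociatedPrime_iff).1 hP
      rw [hPm] at hx
      by_cases hxm : x ∈ m
      · have h1 : x ∈ (⊥ : Submodule R R).colon {x} := hx ▸ hxm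
        rw [Submodule.mem_colon_singleton, Submodule.mem_bot, smul_eq_mul] at h1
        have hx0 : x = 0 := by
          have : IsNilpotent x := ⟨2, by rw [sq]; exact h1⟩
          exact this.eq_zero
        apply hmne
        rw [eq_bot_iff]
        -- colon ⊥ {0} = ⊤, contradiction
        have h2 : (1 : R) ∈ (⊥ : Submodule R R).colon {x} := by
          rw [Submodule.mem_colon_singleton, hx0, smul_zero]; exact Submodule.zero_mem _
        rw [← hx] at h2
        exact absurd ((Ideal.eq_top_iff_one _).2 h2) (IsLocalRing.maximalIdeal.isMaximal R).ne_top
      · have hu : IsUnit x := by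
          by_contra hnu
          exact hxm ((IsLocalRing.mem_maximalIdeal x).2 hnu)
        apply hmne
        rw [eq_bot_iff]
        intro r hr
        rw [hx, Submodule.mem_colon_singleton, Submodule.mem_bot, smul_eq_mul] at hr
        rw [Submodule.mem_bot]
        exact (hu.mul_left_eq_zero).1 hr
    obtain ⟨r, hrm, hr⟩ := hex
    exact ⟨r, hrm, h r hrm hr⟩
  · rintro ⟨x, hxm, hx⟩ r hrm hr
    by_contra hnr
    have hmem : r ∈ ⋃ p ∈ associatedPrimes R M, (p : Set R) := by
      rw [biUnion_associatedPrimes_eq_compl_regular R M]
      exact hnr
    simp only [Set.mem_iUnion, SetLike.mem_coe, exists_prop] at hmem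
    obtain ⟨P, hP, hrP⟩ := hmem
    have hPprime : P.IsPrime := IsAssociatedPrime.isPrime hP
    have hxP : x ∉ P := by
      intro hxP
      have : x ∈ ⋃ p ∈ associatedPrimes R M, (p : Set R) := by
        simp only [Set.mem_iUnion, SetLike.mem_coe, exists_prop]
        exact ⟨P, hP, hxP⟩
      rw [biUnion_associatedPrimes_eq_compl_regular R M] at this
      exact this hx
    have hPm : P < m := by
      refine lt_of_le_of_ne (IsLocalRing.le_maximalIdeal hPprime.ne_top) ?_
      intro h
      exact hxP (h ▸ hxm)
    obtain ⟨Q, hQ, hQP⟩ := Ideal.exists_minimalPrimes_le (I := ⊥) (J := P) bot_le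
    have hQprime : Q.IsPrime := hQ.1.1
    have hQeq : Q = P := by
      by_contra hne
      have hQP' : Q < P := lt_of_le_of_ne hQP hne
      have h1 : Q.height < P.height := Ideal.height_strict_mono_of_isPrime hQP'
      have h2 : P.height < m.height := Ideal.height_strict_mono_of_isPrime hPm
      have h3 : (m.height : WithBot ℕ∞) ≤ ringKrullDim R :=
        Ideal.height_le_ringKrullDim_of_ne_top (IsLocalRing.maximalIdeal.isMaximal R).ne_top
      rw [hdim] at h3
      have h4 : m.height ≤ 1 := by exact_mod_cast h3
      have h5 : P.height < 1 := lt_of_lt_of_le h2 h4
      have h6 : P.height = 0 := Order.lt_one_iff.1 h5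
      rw [h6] at h1
      exact not_lt_zero h1
    rw [← hQeq] at hrP
    exact IsSMulRegular.notMem_of_mem_minimalPrimes (M := R) hr
      (by rw [Module.annihilator_eq_bot.2 inferInstance]; exact hQ) hrP

end Groth.Agent.S13996
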