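import Groth.Statements.S1400
import Mathlib
import Groth.Agent.Lib.helper1.QuasiAffineHom

set_option autoImplicit false
universe u
open FlatMor


open CategoryTheory CategoryTheory.Limits AlgebraicGeometry in
theorem Groth.Agent.H1.H1_IQA_of_iso {X' X'' S' : Scheme.{u}} (e : X' ≅ X'') (f'' : X'' ⟶ S')
    (h : Groth.Agent.H1.H1_IQA f'') : Groth.Agent.H1.H1_IQA (e.hom ≫ f'') := by
  intro V' hV' U' hU'V' hU'
  have hle : e.hom ''ᵁ U' ≤ f'' ⁻¹ᵁ V' := by
    rintro _ ⟨z, hz, rfl⟩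
    exact hU'V' hz
  have hc : IsCompact ((e.hom ''ᵁ U' : X''.Opens) : Set X'') := hU'.image e.hom.continuous
  haveI := h V' hV' (e.hom ''ᵁ U') hle hc
  exact Groth.Agent.H1.H1_isQuasiAffine_of_iso (e.hom.isoImage U')

open CategoryTheory CategoryTheory.Limits AlgebraicGeometry in
theorem Groth.Agent.H1.H1_IQA_pullback_snd {X S S' : Scheme.{u}} (f : X ⟶ S) (g : S' ⟶ S)
    (hf : Groth.Agent.H1.H1_IQA f) : Groth.Agent.H1.H1_IQA (pullback.snd f g) := by
  intro V' hV' U' hU'V' hU'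
  refine Groth.Agent.H1.H1_isQuasiAffine_of_basicOpen_cover (pullback.snd f g) U' hU' V' hU'V'
    fun x hx => ?_
  obtain ⟨_, ⟨V, hV, rfl⟩, hyV, -⟩ := S.isBasis_affineOpens.exists_subset_of_mem_open
    (Set.mem_univ (g (pullback.snd f g x))) isOpen_univ
  obtain ⟨b, hbN, hxb⟩ := hV'.exists_basicOpen_le (V := g ⁻¹ᵁ V) ⟨pullback.snd f g x, hyV⟩
    (hU'V' hx)
  refine ⟨b, hxb, ?_⟩
  have hcomp : IsCompact ((U' ⊓ (pullback.snd f g) ⁻¹ᵁ (S'.basicOpen b) : (pullback f g).Opens) :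
      Set ↥(pullback f g)) := by
    rw [← Scheme.basicOpen_appLE (pullback.snd f g) U' V' hU'V' b]
    exact Groth.Agent.H1.H1_isCompact_basicOpen hU' _
  have hK : IsCompact ((pullback.fst f g) ''
      ((U' ⊓ (pullback.snd f g) ⁻¹ᵁ (S'.basicOpen b) : (pullback f g).Opens) :
        Set ↥(pullback f g))) := hcomp.image (pullback.fst f g).continuous
  have hKO : (pullback.fst f g) ''
      ((U' ⊓ (pullback.snd f g) ⁻¹ᵁ (S'.basicOpen b) : (pullback f g).Opens) :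
        Set ↥(pullback f g)) ⊆ (f ⁻¹ᵁ V : X.Opens) := by
    rintro _ ⟨z, ⟨-, hz2⟩, rfl⟩
    change f (pullback.fst f g z) ∈ V
    rw [← Scheme.Hom.comp_apply, pullback.condition]
    exact hbN hz2
  obtain ⟨T, hTc, hKT, hTO⟩ := Groth.Agent.H1.H1_exists_compact_open_between hK (f ⁻¹ᵁ V) hKO
  have hT : Scheme.IsQuasiAffine (T : Scheme.{u}) := hf V hV T hTO hTc
  have hq := Groth.Agent.H1.H1_isQuasiAffine_pullback f g hT (hV'.basicOpen b) hV hTO hbN
  refine Groth.Agent.H1.H1_isQuasiAffine_of_le ?_ hq hcomp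
  intro z hz
  exact ⟨hKT ⟨z, hz, rfl⟩, hz.2⟩

namespace Groth.Agent.S1400

open AlgebraicGeometry CategoryTheory Limits in
/-- The base change of an ind-quasi-affine morphism is ind-quasi-affine. -/
theorem result {X S X' S' : Scheme.{u}} (f : X ⟶ S) (f' : X' ⟶ S') (g' : X' ⟶ X) (g : S' ⟶ S)
    (hc : IsPullback g' f' f g) (hf : MoreMor.IsIndQuasiAffineHom f) : MoreMor.IsIndQuasiAffineHom f' := by
  rw [Groth.Agent.H1.H1_IQA_iff] at hf ⊢
  have h1 := Groth.Agent.H1.H1_IQA_pullback_snd f g hf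
  have h2 := Groth.Agent.H1.H1_IQA_of_iso hc.isoPullback (pullback.snd f g) h1
  have heq : hc.isoPullback.hom ≫ pullback.snd f g = f' := hc.isoPullback_hom_snd
  rw [heq] at h2
  exact h2

end Groth.Agent.S1400
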