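import Groth.Statements.S14018
import Mathlib.CategoryTheory.Sites.Limits
import Mathlib.CategoryTheory.Sites.LocallySurjective

set_option autoImplicit false
open CategoryTheory CategoryTheory.Limits Opposite
universe w v u
open CohSite

namespace Groth.Agent.S14018


variable {C : Type u} [Category.{v} C] (J : GrothendieckTopology C)

/-- sections functor to types -/
noncomputable abbrev secT (U : C) : Sheaf J (Type w) ⥤ Type w :=
  sheafToPresheaf J (Type w) ⋙ (evaluation Cᵒᵖ (Type w)).obj (op U)

example (U : C) : PreservesLimitsOfShape ℕᵒᵖ (secT.{w} J U) := inferInstance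

lemma exists_section (F : ℕᵒᵖ ⥤ Sheaf J (Type w)) (c : Cone F) (hc : IsLimit c) (U : C)
    (y : ∀ k : ℕ, (F.obj (op k)).obj.obj (op U))
    (hy : ∀ k : ℕ, (F.map (homOfLE (Nat.le_succ k)).op).hom.app (op U) (y (k + 1)) = y k) :
    ∃ x : c.pt.obj.obj (op U), ∀ k, (c.π.app (op k)).hom.app (op U) x = y k := by
  have hall : ∀ (k l : ℕ) (h : k ≤ l), (F.map (homOfLE h).op).hom.app (op U) (y l) = y k := by
    intro k l h
    induction l, h using Nat.le_induction with
    | base =>
      have : (homOfLE (le_refl k)).op = 𝟙 (op k) := rfl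
      rw [this, F.map_id]; rfl
    | succ l h ih =>
      have : (homOfLE (h.trans (Nat.le_succ l))).op =
          (homOfLE (Nat.le_succ l)).op ≫ (homOfLE h).op := rfl
      rw [this, F.map_comp]
      change (F.map (homOfLE h).op).hom.app (op U)
        ((F.map (homOfLE (Nat.le_succ l)).op).hom.app (op U) (y (l + 1))) = _
      rw [hy, ih]
  have hc' := isLimitOfPreserves (secT.{w} J U) hc
  let s : (F ⋙ secT.{w} J U).sections := ⟨fun k => y k.unop, by
    intro k l f
    have h : l.unop ≤ k.unop := leOfHom f.unop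
    have : f = (homOfLE h).op := Subsingleton.elim _ _
    subst this
    exact hall _ _ h⟩
  refine ⟨(Types.isLimitEquivSections hc').symm s, fun k => ?_⟩
  exact Types.isLimitEquivSections_symm_apply hc' s (op k)


theorem main
    (hwc : ∀ V : C, ∃ S : Sieve V, S ∈ J V ∧ ∀ ⦃W : C⦄ (f : W ⟶ V), S.arrows f →
      ∃ (U : C) (g : W ⟶ U) (h : U ⟶ V), (∀ (A B : Sheaf J (Type w)) (ψ : A ⟶ B), Epi ψ → Function.Surjective (ψ.hom.app (op U))) ∧ g ≫ h = f)
    (F : ℕᵒᵖ ⥤ Sheaf J (Type w))
    (hF : ∀ n : ℕ, Epi (F.map (homOfLE (Nat.le_succ n)).op))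
    (c : Cone F) (hc : IsLimit c) (n : ℕ) :
    Epi (c.π.app (op n)) := by
  -- lifting over a weakly contractible object
  have key : ∀ (U : C), (∀ (A B : Sheaf J (Type w)) (ψ : A ⟶ B), Epi ψ →
      Function.Surjective (ψ.hom.app (op U))) → ∀ s : (F.obj (op n)).obj.obj (op U),
      ∃ x : c.pt.obj.obj (op U), (c.π.app (op n)).hom.app (op U) x = s := by
    intro U hU s
    have hsurj : ∀ k : ℕ, Function.Surjective ((F.map (homOfLE (Nat.le_succ k)).op).hom.app (op U)) :=
      fun k => hU _ _ _ (hF k)
    let z : ∀ j : ℕ, (F.obj (op (n + j))).obj.obj (op U) :=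
      fun j => Nat.rec s (fun j y => Classical.choose (hsurj (n + j) y)) j
    have hz : ∀ j, (F.map (homOfLE (Nat.le_succ (n + j))).op).hom.app (op U) (z (j + 1)) = z j :=
      fun j => Classical.choose_spec (hsurj (n + j) (z j))
    have hmap : ∀ {a b d : ℕ} (h1 : a ≤ b) (h2 : b ≤ d) (t : (F.obj (op d)).obj.obj (op U)),
        (F.map (homOfLE (h1.trans h2)).op).hom.app (op U) t =
          (F.map (homOfLE h1).op).hom.app (op U) ((F.map (homOfLE h2).op).hom.app (op U) t) := by
      intro a b d h1 h2 t
      have : (homOfLE (h1.trans h2)).op = (homOfLE h2).op ≫ (homOfLE h1).op := rfl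
      rw [this, F.map_comp]
      rfl
    let y : ∀ m : ℕ, (F.obj (op m)).obj.obj (op U) :=
      fun m => (F.map (homOfLE (Nat.le_add_left m n)).op).hom.app (op U) (z m)
    have hy : ∀ m : ℕ, (F.map (homOfLE (Nat.le_succ m)).op).hom.app (op U) (y (m + 1)) = y m := by
      intro m
      change (F.map (homOfLE (Nat.le_succ m)).op).hom.app (op U)
        ((F.map (homOfLE (Nat.le_add_left (m + 1) n)).op).hom.app (op U) (z (m + 1))) =
        (F.map (homOfLE (Nat.le_add_left m n)).op).hom.app (op U) (z m)
      rw [← hmap, ← hz m, ← hmap]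
    have hn : ∀ j : ℕ, (F.map (homOfLE (Nat.le_add_right n j)).op).hom.app (op U) (z j) = s := by
      intro j
      induction j with
      | zero =>
        have e : F.map (homOfLE (Nat.le_add_right n 0)).op = 𝟙 (F.obj (op n)) := F.map_id (op n)
        rw [e]; rfl
      | succ j ih =>
        rw [← ih, ← hz j, ← hmap]
    obtain ⟨x, hx⟩ := exists_section J F c hc U y hy
    refine ⟨x, ?_⟩
    rw [hx]
    exact hn n
  have : Sheaf.IsLocallySurjective (c.π.app (op n)) := by
    refine ⟨fun {V} s => ?_⟩
    obtain ⟨S, hS, hfac⟩ := hwc V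
    refine J.superset_covering ?_ hS
    intro W f hf
    obtain ⟨U, g, h, hU, rfl⟩ := hfac f hf
    obtain ⟨x, hx⟩ := key U hU ((F.obj (op n)).obj.map h.op s)
    refine ⟨c.pt.obj.map g.op x, ?_⟩
    have h1 := ConcreteCategory.congr_hom ((c.π.app (op n)).hom.naturality g.op) x
    have h2 : (F.obj (op n)).obj.map (g ≫ h).op s =
        (F.obj (op n)).obj.map g.op ((F.obj (op n)).obj.map h.op s) := by
      rw [op_comp, Functor.map_comp]; rfl
    rw [h2, ← hx]
    exact h1
  infer_instance

/-- Let (C, J) be a site with enough weakly contractible objects — every object V has a covering sieve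
all of whose arrows factor through some weakly contractible object, an object U being weakly
contractible when every epimorphism of sheaves of sets (valued in a fixed universe) is surjective on
sections over U. Then the topos of sheaves of sets is replete: if (F_n) is an inverse system of
sheaves of sets indexed by ℕ with every transition map F_(n+1) ⟶ F_n an epimorphism, then each
projection lim_n F_n ⟶ F_n is an epimorphism; the limit is taken as any limit cone. (The small
pro-étale site of a scheme is such a site.) -/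
theorem result
    {C : Type u} [Category.{v} C] (J : GrothendieckTopology C)
    (hwc : ∀ V : C, ∃ S : Sieve V, S ∈ J V ∧ ∀ ⦃W : C⦄ (f : W ⟶ V), S.arrows f →
      ∃ (U : C) (g : W ⟶ U) (h : U ⟶ V), (∀ (A B : Sheaf J (Type w)) (ψ : A ⟶ B), Epi ψ → Function.Surjective (ψ.hom.app (op U))) ∧ g ≫ h = f)
    (F : ℕᵒᵖ ⥤ Sheaf J (Type w))
    (hF : ∀ n : ℕ, Epi (F.map (homOfLE (Nat.le_succ n)).op))
    (c : Cone F) (hc : IsLimit c) (n : ℕ) :
    Epi (c.π.app (op n)) := by
  exact main J hwc F hF c hc n

end Groth.Agent.S14018
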