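import Groth.Statements.S14020
import Mathlib

set_option autoImplicit false
universe u
open CAlg

namespace Groth.Agent.S14020

/-- Let R be a commutative ring and I a finitely generated ideal such that the quotient ring R/I is
artinian. Then R/I^n is artinian for every n. -/
theorem result
    (R : Type u) [CommRing R] (I : Ideal R) (hI : I.FG) [IsArtinianRing (R ⧸ I)] (n : ℕ) :
    IsArtinianRing (R ⧸ I ^ n) := by
  have hRI : IsArtinian R (R ⧸ I) :=
    isArtinian_of_surjective_algebraMap (S := R) (R := R ⧸ I) (M := R ⧸ I)
      (Ideal.Quotient.mk_surjective (I := I))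
  have key : ∀ n : ℕ, IsArtinian R (R ⧸ I ^ n) := by
    intro n
    induction n with
    | zero =>
      have : Subsingleton (R ⧸ I ^ 0) := by
        rw [pow_zero, Ideal.one_eq_top]
        exact Submodule.Quotient.subsingleton_iff.mpr rfl
      infer_instance
    | succ n ih =>
      have hle : I ^ (n + 1) ≤ Submodule.comap (LinearMap.id : R →ₗ[R] R) (I ^ n) := by
        rw [Submodule.comap_id]; exact Ideal.pow_le_pow_right (Nat.le_succ n)
      set ψ : (R ⧸ I ^ (n + 1)) →ₗ[R] (R ⧸ I ^ n) :=
        Submodule.mapQ (I ^ (n + 1)) (I ^ n) LinearMap.id hle with hψ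
      set K := LinearMap.ker ψ with hK
      have hKmap : K = Submodule.map (I ^ (n + 1)).mkQ (I ^ n) := by
        rw [hK, hψ, Submodule.ker_mapQ, Submodule.comap_id]
      have htors : Module.IsTorsionBySet R K (I : Set R) := by
        rintro ⟨k, hk⟩ ⟨a, ha⟩
        rw [hKmap] at hk
        obtain ⟨b, hb, rfl⟩ := hk
        apply Subtype.ext
        simp only [Submodule.coe_smul, Submodule.coe_zero]
        rw [Submodule.mkQ_apply, ← Submodule.Quotient.mk_smul, Submodule.Quotient.mk_eq_zero,
          smul_eq_mul, pow_succ']
        exact Ideal.mul_mem_mul ha hb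
      let : Module (R ⧸ I) K := htors.module
      have : IsScalarTower R (R ⧸ I) K := htors.isScalarTower
      have hKfg : (⊤ : Submodule R K).FG := by
        have h1 : K.FG := by
          rw [hKmap]; exact Submodule.FG.map _ (Ideal.FG.pow (n := n) hI)
        exact Module.Finite.fg_top (self := Module.Finite.iff_fg.mpr h1)
      have : Module.Finite R K := ⟨hKfg⟩
      have : Module.Finite (R ⧸ I) K := Module.Finite.of_restrictScalars_finite R (R ⧸ I) K
      have : IsArtinian (R ⧸ I) K := isArtinian_of_fg_of_artinian' 
      have : IsArtinian R K :=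
        isArtinian_of_surjective_algebraMap (S := R) (R := R ⧸ I) (M := K)
          (Ideal.Quotient.mk_surjective (I := I))
      have := ih
      exact isArtinian_of_range_eq_ker K.subtype ψ (by rw [Submodule.range_subtype])
  exact isArtinian_of_tower R (key n)

end Groth.Agent.S14020
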