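import Groth.Statements.S14023
import Mathlib

set_option autoImplicit false
open CategoryTheory CategoryTheory.Limits Opposite
universe v u
open ARSys

namespace Groth.Agent.S14023


open CategoryTheory CategoryTheory.Limits Opposite

noncomputable section
open ZeroObject

variable {A : Type u} [Category.{v} A] [Abelian A]

def skyObj (X : A) : ℕ → A
  | 0 => X
  | _ + 1 => 0

noncomputable def sky (X : A) : ℕᵒᵖ ⥤ A :=
  Functor.ofOpSequence (X := skyObj X) (fun n => (0 : skyObj X (n + 1) ⟶ skyObj X n))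

def skyApp {X Y : A} (f : X ⟶ Y) : ∀ n, skyObj X n ⟶ skyObj Y n
  | 0 => f
  | _ + 1 => 0

noncomputable def skyMap {X Y : A} (f : X ⟶ Y) : sky X ⟶ sky Y :=
  NatTrans.ofOpSequence (skyApp f) (fun n => by
    have hz : IsZero ((sky X).obj (op (n + 1))) := isZero_zero A
    exact hz.eq_of_src _ _)

def toIApp (I : ℕᵒᵖ ⥤ A) {X : A} (g : X ⟶ I.obj (op 0)) : ∀ n, skyObj X n ⟶ I.obj (op n)
  | 0 => g
  | _ + 1 => 0

noncomputable def toI (I : ℕᵒᵖ ⥤ A) {X : A} (g : X ⟶ I.obj (op 0)) : sky X ⟶ I :=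
  NatTrans.ofOpSequence (toIApp I g) (fun n => by
    have hz : IsZero ((sky X).obj (op (n + 1))) := isZero_zero A
    exact hz.eq_of_src _ _)

instance skyMap_mono {X Y : A} (f : X ⟶ Y) [Mono f] : Mono (skyMap f) := by
  haveI : ∀ n : ℕᵒᵖ, Mono ((skyMap f).app n) := by
    rintro ⟨n⟩
    cases n with
    | zero => exact (inferInstance : Mono f)
    | succ k =>
      have hz : IsZero ((sky X).obj (op (k + 1))) := isZero_zero A
      exact hz.mono _
  exact NatTrans.mono_of_mono_app _

lemma inj0 (I : ℕᵒᵖ ⥤ A) [Injective I] : Injective (I.obj (op 0)) where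
  factors {X Y} g f _ := by
    refine ⟨(Injective.factorThru (toI I g) (skyMap f)).app (op 0), ?_⟩
    have := congr_app (Injective.comp_factorThru (toI I g) (skyMap f)) (op 0)
    exact this

lemma fwd (h : EnoughInjectives (ℕᵒᵖ ⥤ A)) : EnoughInjectives A where
  presentation X := by
    obtain ⟨P⟩ := h.presentation (sky X)
    haveI := P.injective
    haveI := P.mono
    haveI := inj0 P.J
    have hm : Mono (P.f.app (op 0)) := (NatTrans.mono_iff_mono_app P.f).1 P.mono _
    exact ⟨{ J := P.J.obj (op 0), f := P.f.app (op 0), mono := hm }⟩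

section bwd
variable (I : ℕ → A)

noncomputable def JObj (n : ℕ) : A := ∏ᶜ (fun k : Fin (n + 1) => I k)

noncomputable def Jp (n : ℕ) : JObj I (n + 1) ⟶ JObj I n :=
  Pi.lift (fun k : Fin (n + 1) => Pi.π (fun k : Fin (n + 1 + 1) => I k) (Fin.castSucc k))

noncomputable def Jf : ℕᵒᵖ ⥤ A := Functor.ofOpSequence (Jp I)

noncomputable def proj (n : ℕ) (j : Fin (n + 1)) : (Jf I).obj (op n) ⟶ I j :=
  Pi.π (fun k : Fin (n + 1) => I k) j

lemma proj_ext {T : A} {n : ℕ} (f g : T ⟶ (Jf I).obj (op n))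
    (h : ∀ j, f ≫ proj I n j = g ≫ proj I n j) : f = g :=
  Pi.hom_ext (f := fun k : Fin (n + 1) => I k) f g h

noncomputable def mkJ {T : A} (n : ℕ) (f : ∀ j : Fin (n + 1), T ⟶ I j) :
    T ⟶ (Jf I).obj (op n) :=
  Pi.lift f

lemma mkJ_proj {T : A} (n : ℕ) (f : ∀ j : Fin (n + 1), T ⟶ I j) (j : Fin (n + 1)) :
    mkJ I n f ≫ proj I n j = f j :=
  Pi.lift_π f j

lemma Jf_succ_proj (n : ℕ) (j : Fin (n + 1)) :
    (Jf I).map (homOfLE (Nat.le_add_right n 1)).op ≫ proj I n j =
      proj I (n + 1) (Fin.castSucc j) := by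
  have h1 : (Jf I).map (homOfLE (Nat.le_add_right n 1)).op = Jp I n :=
    Functor.ofOpSequence_map_homOfLE_succ _ _
  rw [h1]
  exact Pi.lift_π (fun k : Fin (n + 1) => Pi.π (fun k : Fin (n + 1 + 1) => I k) (Fin.castSucc k)) j

lemma Jf_map_proj (n k : ℕ) (hk : k ≤ n) (j : Fin (k + 1)) :
    (Jf I).map (homOfLE hk).op ≫ proj I k j =
      proj I n (Fin.castLE (Nat.succ_le_succ hk) j) := by
  induction n, hk using Nat.le_induction with
  | base =>
    have : (homOfLE (le_refl k)).op = 𝟙 (op k) := Subsingleton.elim _ _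
    rw [this, CategoryTheory.Functor.map_id, Category.id_comp]
    rfl
  | succ n hk ih =>
    have : (homOfLE (Nat.le_succ_of_le hk)).op =
        ((homOfLE (Nat.le_add_right n 1)).op : (op (n + 1) : ℕᵒᵖ) ⟶ op n) ≫ (homOfLE hk).op :=
      Subsingleton.elim _ _
    rw [this, CategoryTheory.Functor.map_comp, Category.assoc, ih, Jf_succ_proj]
    rfl

noncomputable def lift {V : ℕᵒᵖ ⥤ A} (h : ∀ k, V.obj (op k) ⟶ I k) : V ⟶ Jf I :=
  NatTrans.ofOpSequence
    (fun n => mkJ I n (fun k : Fin (n + 1) =>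
      V.map (homOfLE (Nat.lt_succ_iff.mp k.isLt)).op ≫ h k))
    (fun n => by
      apply proj_ext
      intro k
      rw [Category.assoc, Category.assoc, Jf_succ_proj, mkJ_proj, mkJ_proj,
        ← Category.assoc, ← V.map_comp]
      rfl)

lemma lift_app_proj {V : ℕᵒᵖ ⥤ A} (h : ∀ k, V.obj (op k) ⟶ I k) (n : ℕ) (k : Fin (n + 1)) :
    (lift I h).app (op n) ≫ proj I n k =
      V.map (homOfLE (Nat.lt_succ_iff.mp k.isLt)).op ≫ h k :=
  mkJ_proj I n _ k

lemma lift_app_top {V : ℕᵒᵖ ⥤ A} (h : ∀ k, V.obj (op k) ⟶ I k) (n : ℕ) :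
    (lift I h).app (op n) ≫ proj I n (Fin.last n) = h n := by
  rw [lift_app_proj]
  have : (homOfLE (Nat.lt_succ_iff.mp (Fin.last n).isLt)).op = 𝟙 (op n) := Subsingleton.elim _ _
  erw [this, CategoryTheory.Functor.map_id, Category.id_comp]
  rfl

lemma eq_lift {V : ℕᵒᵖ ⥤ A} (φ : V ⟶ Jf I) :
    φ = lift I (fun k => φ.app (op k) ≫ proj I k (Fin.last k)) := by
  ext ⟨n⟩
  apply proj_ext
  intro k
  rw [lift_app_proj, ← Category.assoc, φ.naturality, Category.assoc, Jf_map_proj]
  rfl

lemma comp_lift {U V : ℕᵒᵖ ⥤ A} (f : U ⟶ V) (h : ∀ k, V.obj (op k) ⟶ I k) :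
    f ≫ lift I h = lift I (fun k => f.app (op k) ≫ h k) := by
  ext ⟨n⟩
  apply proj_ext
  intro k
  rw [NatTrans.comp_app, Category.assoc, lift_app_proj, lift_app_proj, ← Category.assoc,
    ← f.naturality, Category.assoc]

lemma Jf_injective (hI : ∀ n, Injective (I n)) : Injective (Jf I) where
  factors {U V} g f _ := by
    haveI : ∀ k, Mono (f.app (op k)) := fun k => (NatTrans.mono_iff_mono_app f).1 inferInstance _
    let h : ∀ k, V.obj (op k) ⟶ I k := fun k =>
      Injective.factorThru (g.app (op k) ≫ proj I k (Fin.last k)) (f.app (op k))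
    refine ⟨lift I h, ?_⟩
    rw [comp_lift, eq_lift I g]
    congr 1
    funext k
    simp only [h, Injective.comp_factorThru]

lemma bwdDir (h : EnoughInjectives A) : EnoughInjectives (ℕᵒᵖ ⥤ A) where
  presentation Y := by
    let I : ℕ → A := fun n => Injective.under (Y.obj (op n))
    let ι : ∀ n, Y.obj (op n) ⟶ I n := fun n => Injective.ι _
    haveI : ∀ n, Mono (ι n) := fun n => by dsimp [ι]; infer_instance
    haveI : Injective (Jf I) := Jf_injective I (fun n => by dsimp [I]; infer_instance)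
    refine ⟨{ J := Jf I, f := lift I ι, mono := ?_ }⟩
    haveI : ∀ n : ℕᵒᵖ, Mono ((lift I ι).app n) := by
      rintro ⟨n⟩
      haveI : Mono ((lift I ι).app (op n) ≫ proj I n (Fin.last n)) := by
        rw [lift_app_top]; infer_instance
      exact mono_of_mono _ (proj I n (Fin.last n))
    exact NatTrans.mono_of_mono_app _

end bwd

theorem main : EnoughInjectives (ℕᵒᵖ ⥤ A) ↔ EnoughInjectives A :=
  ⟨fwd, bwdDir⟩

end

/-- For an abelian category A, the category of inverse systems (A_n)_n indexed by ℕ, i.e. of functors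
ℕᵒᵖ ⥤ A, has enough injectives if and only if A has enough injectives. (The second assertion of the
published proposition, describing the injective systems, is not part of this row.) -/
theorem result
    (A : Type u) [Category.{v} A] [Abelian A] :
    EnoughInjectives (ℕᵒᵖ ⥤ A) ↔ EnoughInjectives A := by
  exact main

end Groth.Agent.S14023
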