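import Groth.Statements.S14029
import Groth.Agent.S14026

set_option autoImplicit false
open CategoryTheory CategoryTheory.Limits Opposite
universe v u
open CohSite

namespace Groth.Agent.S14029

/-- Let (C, J) be a site and U an object such that every object has at most one morphism to U; assume
extension by the empty set j_! from sheaves of sets on the localized site C/U to sheaves of sets on
C exists (through sheafification on C and left Kan extensions along C/U → C). If V is weakly
contractible in C — every epimorphism of sheaves of sets on C is surjective on sections over V —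
then for any morphism a : V ⟶ U the object V → U of C/U is weakly contractible in C/U: every
epimorphism of sheaves of sets on C/U is surjective on sections over it. Hence C/U has enough weakly
contractible objects when C does. -/
theorem result
    {C : Type u} [Category.{v} C] (J : GrothendieckTopology C) (U : C)
    (hU : ∀ W : C, Subsingleton (W ⟶ U))
    [HasWeakSheafify J (Type (max u v))]
    [∀ (P : (Over U)ᵒᵖ ⥤ Type (max u v)), (Over.forget U).op.HasLeftKanExtension P]
    (V : C) (hV : (∀ (A B : Sheaf J (Type (max u v))) (ψ : A ⟶ B), Epi ψ → Function.Surjective (ψ.hom.app (op V)))) (a : V ⟶ U) :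
    ∀ (A B : Sheaf (J.over U) (Type (max u v))) (ψ : A ⟶ B), Epi ψ →
      Function.Surjective (ψ.hom.app (op (Over.mk a))) := by
  intro A B ψ hψ
  let adj := (Over.forget U).sheafAdjunctionContinuous (Type (max u v)) (J.over U) J
  let L := (Over.forget U).sheafPullback (Type (max u v)) (J.over U) J
  let R := (Over.forget U).sheafPushforwardContinuous (Type (max u v)) (J.over U) J
  have hepi : Epi (L.map ψ) := by
    have : L.PreservesEpimorphisms := Functor.preservesEpimorphisms_of_adjunction adj
    infer_instance
  have hsurj := hV _ _ (L.map ψ) hepi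
  have hA : IsIso (adj.unit.app A) := Groth.Agent.S14026.result J U hU A
  have hB : IsIso (adj.unit.app B) := Groth.Agent.S14026.result J U hU B
  let X : (Over U)ᵒᵖ := op (Over.mk a)
  have nat : ψ.hom.app X ≫ (adj.unit.app B).hom.app X =
      (adj.unit.app A).hom.app X ≫ (R.map (L.map ψ)).hom.app X :=
    congrArg (fun t => t.hom.app X) (adj.unit.naturality ψ)
  have hinv : (inv (adj.unit.app A)).hom.app X ≫ (adj.unit.app A).hom.app X = 𝟙 _ :=
    congrArg (fun t => t.hom.app X) (IsIso.inv_hom_id (adj.unit.app A))
  have hinvB : (adj.unit.app B).hom.app X ≫ (inv (adj.unit.app B)).hom.app X = 𝟙 _ :=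
    congrArg (fun t => t.hom.app X) (IsIso.hom_inv_id (adj.unit.app B))
  intro b
  obtain ⟨x, hx⟩ := hsurj ((adj.unit.app B).hom.app X b)
  refine ⟨(inv (adj.unit.app A)).hom.app X x, ?_⟩
  have h1 : (adj.unit.app B).hom.app X (ψ.hom.app X ((inv (adj.unit.app A)).hom.app X x)) =
      (adj.unit.app B).hom.app X b := by
    have e1 := ConcreteCategory.congr_hom nat ((inv (adj.unit.app A)).hom.app X x)
    have e2 := ConcreteCategory.congr_hom hinv x
    change (adj.unit.app B).hom.app X (ψ.hom.app X ((inv (adj.unit.app A)).hom.app X x)) =
      (R.map (L.map ψ)).hom.app X ((adj.unit.app A).hom.app X ((inv (adj.unit.app A)).hom.app X x)) at e1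
    change (adj.unit.app A).hom.app X ((inv (adj.unit.app A)).hom.app X x) = x at e2
    rw [e1, e2]
    exact hx
  have h2 := congrArg ((inv (adj.unit.app B)).hom.app X) h1
  have e3 : ∀ y, (inv (adj.unit.app B)).hom.app X ((adj.unit.app B).hom.app X y) = y :=
    fun y => ConcreteCategory.congr_hom hinvB y
  rw [e3, e3] at h2
  exact h2

end Groth.Agent.S14029
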