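import Groth.Statements.S14039
import Mathlib

set_option autoImplicit false
open W4c1frobunstiva

namespace Groth.Agent.S14039

theorem geo {R : Type*} [CommRing R] (x : R) (p : ℕ) (hp : 1 ≤ p) :
    (∑ e ∈ Finset.range p, (if 1 ≤ e then x ^ e else 0)) * (1 - x) = x - x ^ p := by
  induction p, hp using Nat.le_induction with
  | base => simp
  | succ p hp ih =>
    rw [Finset.sum_range_succ, add_mul, ih, if_pos hp]
    ring


/-- For natural numbers p, n ≥ 1 and s, the number of monomials of degree s in n variables in which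
every variable occurs with a positive exponent strictly less than p — that is, of exponent vectors
(e_1, …, e_n) with sum s and 1 ≤ e_i ≤ p − 1 — equals the inclusion–exclusion sum over i from 0 to n
of (−1)^i · C(n, i) · C(s − i(p − 1) − 1, n − 1), the last factor counting monomials of degree s −
i(p − 1) − n in n variables and read as 0 when s < i(p − 1) + n. (A companion count, by how many
exponents lie below p/2, and a remark on polynomiality in s and p are not part of this row.) -/
theorem result (p n s : ℕ)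
    (hn : 1 ≤ n) :
    (Fintype.card {e : Fin n → Fin p // (∀ i, 1 ≤ (e i : ℕ)) ∧ ∑ i, (e i : ℕ) = s} : ℤ) =
      ∑ i ∈ Finset.range (n + 1),
        (-1 : ℤ) ^ i * (n.choose i : ℤ) *
          (if i * (p - 1) + n ≤ s then (((s - i * (p - 1) - 1).choose (n - 1) : ℕ) : ℤ) else 0) := by
  rcases Nat.eq_zero_or_pos p with hp0 | hppos
  · subst hp0
    have hemp : IsEmpty {e : Fin n → Fin 0 // (∀ i, 1 ≤ (e i : ℕ)) ∧ ∑ i, (e i : ℕ) = s} := by
      constructor
      rintro ⟨e, -, -⟩
      exact (e ⟨0, hn⟩).elim0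
    rw [Fintype.card_eq_zero_iff.mpr hemp]
    have h1 : ∀ i ∈ Finset.range (n + 1), (-1 : ℤ) ^ i * (n.choose i : ℤ) *
          (if i * (0 - 1) + n ≤ s then (((s - i * (0 - 1) - 1).choose (n - 1) : ℕ) : ℤ) else 0)
        = (-1 : ℤ) ^ i * (n.choose i : ℤ) *
          (if n ≤ s then (((s - 1).choose (n - 1) : ℕ) : ℤ) else 0) := by
      intro i _
      simp
    rw [Finset.sum_congr rfl h1, ← Finset.sum_mul, Int.alternating_sum_range_choose,
      if_neg (by omega), zero_mul]
    simp
  · obtain ⟨d, hd⟩ : ∃ d, n = d + 1 := ⟨n - 1, by omega⟩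
    obtain ⟨S, hS⟩ : ∃ S : Finset (Fin p), S = Finset.univ.filter (fun e : Fin p => 1 ≤ (e : ℕ)) :=
      ⟨_, rfl⟩
    obtain ⟨G, hG⟩ : ∃ G : PowerSeries ℤ,
      G = ∑ e ∈ S, (PowerSeries.X : PowerSeries ℤ) ^ (e : ℕ) := ⟨_, rfl⟩
    have hcount : (Fintype.card {e : Fin n → Fin p //
        (∀ i, 1 ≤ (e i : ℕ)) ∧ ∑ i, (e i : ℕ) = s} : ℤ) = PowerSeries.coeff s (G ^ n) := by
      have h1 : G ^ n = ∑ f ∈ Fintype.piFinset (fun _ : Fin n => S),
          (PowerSeries.X : PowerSeries ℤ) ^ (∑ i, (f i : ℕ)) := by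
        have h2 : G ^ n = ∏ _i : Fin n, G := by
          rw [Finset.prod_const, Finset.card_univ, Fintype.card_fin]
        rw [h2, hG, Finset.prod_univ_sum]
        apply Finset.sum_congr rfl
        intro f _
        rw [Finset.prod_pow_eq_pow_sum]
      rw [h1, map_sum]
      simp only [PowerSeries.coeff_X_pow]
      rw [Finset.sum_boole, Fintype.card_subtype]
      refine congrArg _ (congrArg Finset.card ?_)
      ext f
      simp only [Finset.mem_filter, Finset.mem_univ, true_and, Fintype.mem_piFinset, hS]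
      constructor
      · rintro ⟨h1, h2⟩; exact ⟨h1, h2.symm⟩
      · rintro ⟨h1, h2⟩; exact ⟨h1, h2.symm⟩
    have hgeo : G * (1 - PowerSeries.X) = PowerSeries.X - PowerSeries.X ^ p := by
      have h1 : G = ∑ e ∈ Finset.range p,
          (if 1 ≤ e then (PowerSeries.X : PowerSeries ℤ) ^ e else 0) := by
        rw [hG, hS, Finset.sum_filter]
        exact Fin.sum_univ_eq_sum_range
          (fun e => if 1 ≤ e then (PowerSeries.X : PowerSeries ℤ) ^ e else 0) p
      rw [h1]
      exact geo _ p hppos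
    have hmk : (PowerSeries.mk (1 : ℕ → ℤ)) * (1 - PowerSeries.X) = 1 :=
      PowerSeries.mk_one_mul_one_sub_eq_one ℤ
    have hGeq : G = (PowerSeries.X - PowerSeries.X ^ p) * PowerSeries.mk 1 := by
      calc G = G * (PowerSeries.mk 1 * (1 - PowerSeries.X)) := by rw [hmk, mul_one]
        _ = (G * (1 - PowerSeries.X)) * PowerSeries.mk 1 := by ring
        _ = _ := by rw [hgeo]
    have hX : (PowerSeries.X : PowerSeries ℤ) - PowerSeries.X ^ p
        = PowerSeries.X * (1 - PowerSeries.X ^ (p - 1)) := by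
      obtain ⟨q, rfl⟩ : ∃ q, p = q + 1 := ⟨p - 1, by omega⟩
      rw [Nat.add_sub_cancel, pow_succ]
      ring
    have hH : (PowerSeries.mk (1 : ℕ → ℤ)) ^ n
        = PowerSeries.mk (fun k => ((d + k).choose d : ℤ)) := by
      rw [hd]; exact PowerSeries.mk_one_pow_eq_mk_choose_add ℤ d
    rw [hcount, hGeq, mul_pow, hX, mul_pow, hH]
    have hexp : ((1 : PowerSeries ℤ) - PowerSeries.X ^ (p - 1)) ^ n
        = ∑ m ∈ Finset.range (n + 1), PowerSeries.C ((-1 : ℤ) ^ m * (n.choose m : ℤ)) *
            PowerSeries.X ^ (m * (p - 1)) := by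
      have h1 : (1 : PowerSeries ℤ) - PowerSeries.X ^ (p - 1)
          = -PowerSeries.X ^ (p - 1) + 1 := by ring
      rw [h1, add_pow]
      apply Finset.sum_congr rfl
      intro m _
      rw [map_mul, map_pow, map_neg, map_one, map_natCast,
        neg_pow (PowerSeries.X ^ (p - 1) : PowerSeries ℤ) m, one_pow, mul_one, ← pow_mul,
        mul_comm (p - 1) m]
      ring
    rw [hexp, Finset.mul_sum, Finset.sum_mul, map_sum]
    apply Finset.sum_congr rfl
    intro m _
    have h2 : PowerSeries.X ^ n * (PowerSeries.C ((-1 : ℤ) ^ m * (n.choose m : ℤ)) *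
          PowerSeries.X ^ (m * (p - 1))) * PowerSeries.mk (fun k => ((d + k).choose d : ℤ))
        = PowerSeries.C ((-1 : ℤ) ^ m * (n.choose m : ℤ)) * (PowerSeries.X ^ (m * (p - 1) + n) *
          PowerSeries.mk (fun k => ((d + k).choose d : ℤ))) := by
      rw [pow_add]; ring
    rw [h2, PowerSeries.coeff_C_mul, PowerSeries.coeff_X_pow_mul']
    congr 1
    by_cases hle : m * (p - 1) + n ≤ s
    · rw [if_pos hle, if_pos hle, PowerSeries.coeff_mk]
      have h3 : d + (s - (m * (p - 1) + n)) = s - m * (p - 1) - 1 := by omega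
      have hd' : n - 1 = d := by omega
      rw [h3, hd']
    · rw [if_neg hle, if_neg hle]

end Groth.Agent.S14039
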