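import Groth.Statements.S14046
import Mathlib
import Groth.Agent.Lib.helper4.FlatCoker

set_option autoImplicit false
universe u v w
open W4c1frobunstiva

namespace Groth.Agent.S14046

open TensorProduct in
/-- Let R → A be a homomorphism of commutative rings and I, J ideals of A with I ∩ J = 0 — so that A is
the fibre product of A/I and A/J over A/(I + J), i.e. Spec A is the union of the two closed
subschemes in the strong sense — and suppose A/(I + J) is flat over R. Then this persists under
every base change: for every commutative R-algebra R', the ideals generated by I and J in R' ⊗_R A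
again meet in 0. (This is the ideal-theoretic, affine form of the base-change step; the exact
sequence of unit sheaves deduced from it in the published statement — restriction of units to a
closed subscheme being surjective locally — is not restated. Without flatness of A/(I + J) the
conclusion fails: for A = k[x, y]/(xy) over R = k[u] with u ↦ x + y, I = (x) and J = (y), the base
change to R/(u) gives k[x]/(x²), in which both ideals become (x).) -/
theorem result (R : Type u) (A : Type v)
    [CommRing R] [CommRing A] [Algebra R A] (I J : Ideal A) (hIJ : I ⊓ J = ⊥)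
    [Module.Flat R (A ⧸ (I ⊔ J))] (R' : Type w) [CommRing R'] [Algebra R R'] :
    I.map (Algebra.TensorProduct.includeRight : A →ₐ[R] R' ⊗[R] A) ⊓
      J.map (Algebra.TensorProduct.includeRight : A →ₐ[R] R' ⊗[R] A) = ⊥ := by
  classical
  have hI : I ≤ I ⊔ J := le_sup_left
  have hJ : J ≤ I ⊔ J := le_sup_right
  let pI : A →ₗ[R] A ⧸ I := (Ideal.Quotient.mkₐ R I).toLinearMap
  let pJ : A →ₗ[R] A ⧸ J := (Ideal.Quotient.mkₐ R J).toLinearMap
  let qI : A ⧸ I →ₗ[R] A ⧸ (I ⊔ J) := (Ideal.Quotient.factorₐ R hI).toLinearMap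
  let qJ : A ⧸ J →ₗ[R] A ⧸ (I ⊔ J) := (Ideal.Quotient.factorₐ R hJ).toLinearMap
  let f : A →ₗ[R] (A ⧸ I) × (A ⧸ J) := pI.prod pJ
  let g : (A ⧸ I) × (A ⧸ J) →ₗ[R] A ⧸ (I ⊔ J) :=
    qI ∘ₗ LinearMap.fst R _ _ - qJ ∘ₗ LinearMap.snd R _ _
  have hpI : ∀ a, pI a = Ideal.Quotient.mk I a := fun a => rfl
  have hpJ : ∀ a, pJ a = Ideal.Quotient.mk J a := fun a => rfl
  have hqI : ∀ a, qI (Ideal.Quotient.mk I a) = Ideal.Quotient.mk (I ⊔ J) a := fun a => rfl
  have hqJ : ∀ a, qJ (Ideal.Quotient.mk J a) = Ideal.Quotient.mk (I ⊔ J) a := fun a => rfl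
  have hf : Function.Injective f := by
    rw [injective_iff_map_eq_zero]
    intro a ha
    have h1 : pI a = 0 := congrArg Prod.fst ha
    have h2 : pJ a = 0 := congrArg Prod.snd ha
    rw [hpI, Ideal.Quotient.eq_zero_iff_mem] at h1
    rw [hpJ, Ideal.Quotient.eq_zero_iff_mem] at h2
    have : a ∈ I ⊓ J := ⟨h1, h2⟩
    rw [hIJ] at this
    exact this
  have hg : Function.Surjective g := by
    intro y
    obtain ⟨a, rfl⟩ := Ideal.Quotient.mk_surjective y
    refine ⟨(Ideal.Quotient.mk I a, 0), ?_⟩
    change qI (Ideal.Quotient.mk I a) - qJ 0 = _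
    rw [hqI, map_zero, sub_zero]
  have hfg : Function.Exact f g := by
    intro y
    constructor
    · intro hy
      obtain ⟨y1, y2⟩ := y
      obtain ⟨a, rfl⟩ := Ideal.Quotient.mk_surjective y1
      obtain ⟨b, rfl⟩ := Ideal.Quotient.mk_surjective y2
      change qI (Ideal.Quotient.mk I a) - qJ (Ideal.Quotient.mk J b) = 0 at hy
      rw [hqI, hqJ, ← map_sub, Ideal.Quotient.eq_zero_iff_mem, Submodule.mem_sup] at hy
      obtain ⟨i, hi, j, hj, hij⟩ := hy
      refine ⟨a - i, ?_⟩
      change (pI (a - i), pJ (a - i)) = _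
      rw [hpI, hpJ]
      congr 1
      · rw [map_sub, (Ideal.Quotient.eq_zero_iff_mem).2 hi, sub_zero]
      · have : a - i = b + j := by
          have h3 : a = i + j + b := by rw [hij]; ring
          rw [h3]; ring
        rw [this, map_add, (Ideal.Quotient.eq_zero_iff_mem).2 hj, add_zero]
    · rintro ⟨a, rfl⟩
      change qI (pI a) - qJ (pJ a) = 0
      rw [hpI, hpJ, hqI, hqJ, sub_self]
  have hinj : Function.Injective (f.lTensor R') :=
    Groth.Agent.H4.H4_lTensor_injective_of_flat_coker f g hf hg hfg R'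
  -- kernels
  let φI : TensorProduct R R' A →ₐ[R] TensorProduct R R' (A ⧸ I) :=
    Algebra.TensorProduct.map (AlgHom.id R R') (Ideal.Quotient.mkₐ R I)
  let φJ : TensorProduct R R' A →ₐ[R] TensorProduct R R' (A ⧸ J) :=
    Algebra.TensorProduct.map (AlgHom.id R R') (Ideal.Quotient.mkₐ R J)
  have hφI : ∀ x, φI x = pI.lTensor R' x := by
    intro x
    induction x using TensorProduct.induction_on with
    | zero => simp
    | tmul r a => rfl
    | add x y hx hy => rw [map_add, map_add, hx, hy]
  have hφJ : ∀ x, φJ x = pJ.lTensor R' x := by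
    intro x
    induction x using TensorProduct.induction_on with
    | zero => simp
    | tmul r a => rfl
    | add x y hx hy => rw [map_add, map_add, hx, hy]
  have hkI : I.map (Algebra.TensorProduct.includeRight : A →ₐ[R] TensorProduct R R' A) ≤
      RingHom.ker φI.toRingHom := by
    rw [Ideal.map_le_iff_le_comap]
    intro a ha
    rw [Ideal.mem_comap, RingHom.mem_ker]
    change φI (TensorProduct.tmul R 1 a) = 0
    rw [Algebra.TensorProduct.map_tmul]
    have : (Ideal.Quotient.mkₐ R I) a = 0 := (Ideal.Quotient.eq_zero_iff_mem).2 ha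
    rw [this, TensorProduct.tmul_zero]
  have hkJ : J.map (Algebra.TensorProduct.includeRight : A →ₐ[R] TensorProduct R R' A) ≤
      RingHom.ker φJ.toRingHom := by
    rw [Ideal.map_le_iff_le_comap]
    intro a ha
    rw [Ideal.mem_comap, RingHom.mem_ker]
    change φJ (TensorProduct.tmul R 1 a) = 0
    rw [Algebra.TensorProduct.map_tmul]
    have : (Ideal.Quotient.mkₐ R J) a = 0 := (Ideal.Quotient.eq_zero_iff_mem).2 ha
    rw [this, TensorProduct.tmul_zero]
  rw [eq_bot_iff]
  rintro x ⟨hx1, hx2⟩
  have h1 : pI.lTensor R' x = 0 := by rw [← hφI]; exact hkI hx1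
  have h2 : pJ.lTensor R' x = 0 := by rw [← hφJ]; exact hkJ hx2
  have hfdecomp : f = LinearMap.inl R _ _ ∘ₗ pI + LinearMap.inr R _ _ ∘ₗ pJ := by
    apply LinearMap.ext
    intro a
    simp [f]
  have : f.lTensor R' x = 0 := by
    rw [hfdecomp, LinearMap.lTensor_add, LinearMap.add_apply, LinearMap.lTensor_comp,
      LinearMap.lTensor_comp, LinearMap.comp_apply, LinearMap.comp_apply, h1, h2, map_zero,
      map_zero, add_zero]
  rw [Submodule.mem_bot]
  apply hinj
  rw [this, map_zero]

end Groth.Agent.S14046
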