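import Groth.Statements.S14051
import Mathlib

set_option autoImplicit false
universe u
open CAlg

namespace Groth.Agent.S14051

/-- Let A be a commutative ℕ-graded algebra over a base ring R which is generated by A_1 as an
A_0-algebra, written as A_{n+1} = A_1 · A_n for every n, and let M be a graded A-module: an A-module
with R-submodules M_n giving a direct-sum decomposition and A_i · M_j ⊆ M_{i+j}. If M is spanned
over A by a set of homogeneous elements all of degree at most n₀, then for every n ≥ n₀ and every k
≥ 0 the degree-(n+k) part of M is A_k · M_n. -/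
theorem result
    (R : Type u) [CommRing R] (A : Type u) [CommRing A] [Algebra R A]
    (𝒜 : ℕ → Submodule R A) [GradedAlgebra 𝒜]
    (hA : ∀ n : ℕ, 𝒜 (n + 1) = 𝒜 1 * 𝒜 n)
    (M : Type u) [AddCommGroup M] [Module R M] [Module A M] [IsScalarTower R A M]
    (ℳ : ℕ → Submodule R M) [DirectSum.Decomposition ℳ] [SetLike.GradedSMul 𝒜 ℳ]
    (s : Set M) (n₀ : ℕ) (hs : ∀ y ∈ s, ∃ d : ℕ, d ≤ n₀ ∧ y ∈ ℳ d)
    (hspan : Submodule.span A s = ⊤)
    (n k : ℕ) (hn : n₀ ≤ n) :
    ℳ (n + k) = 𝒜 k • ℳ n := by
  classical
  have hgr : ∀ (i j : ℕ) (a : A) (m : M), a ∈ 𝒜 i → m ∈ ℳ j → a • m ∈ ℳ (i + j) := by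
    intro i j a m ha hm
    have h1 := SetLike.GradedSMul.smul_mem (A := 𝒜) (B := ℳ) ha hm
    simpa [vadd_eq_add] using h1
  have hge : ∀ i j : ℕ, 𝒜 i • ℳ j ≤ ℳ (j + i) := by
    intro i j
    rw [Submodule.smul_le]
    intro a ha m hm
    rw [add_comm]
    exact hgr i j a m ha hm
  -- key step
  have key : ∀ n : ℕ, n₀ ≤ n → ℳ (n + 1) ≤ 𝒜 1 • ℳ n := by
    intro n hn
    let S : AddSubmonoid M :=
      { carrier := {x | (DirectSum.decompose ℳ x (n + 1) : M) ∈ 𝒜 1 • ℳ n}
        zero_mem' := by
          show ((DirectSum.decompose ℳ (0 : M)) (n + 1) : M) ∈ 𝒜 1 • ℳ n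
          rw [DirectSum.decompose_zero]
          exact Submodule.zero_mem _
        add_mem' := by
          intro x y hx hy
          show ((DirectSum.decompose ℳ (x + y)) (n + 1) : M) ∈ 𝒜 1 • ℳ n
          rw [DirectSum.decompose_add, DirectSum.add_apply, AddMemClass.coe_add]
          exact Submodule.add_mem _ hx hy }
    have hS : ∀ x, x ∈ S ↔ (DirectSum.decompose ℳ x (n + 1) : M) ∈ 𝒜 1 • ℳ n := fun x => Iff.rfl
    have hall : ∀ x ∈ Submodule.span A s, ∀ a : A, a • x ∈ S := by
      intro x hx
      induction hx using Submodule.span_induction with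
      | mem y hy =>
        intro a
        obtain ⟨d, hd, hyd⟩ := hs y hy
        rw [← DirectSum.sum_support_decompose 𝒜 a, Finset.sum_smul]
        refine S.sum_mem (fun p _ => ?_)
        rw [hS]
        have hpd : (DirectSum.decompose 𝒜 a p : A) • y ∈ ℳ (p + d) := hgr p d _ y (SetLike.coe_mem _) hyd
        by_cases hpn : p + d = n + 1
        · rw [DirectSum.decompose_of_mem_same ℳ (hpn ▸ hpd)]
          obtain ⟨p', rfl⟩ : ∃ p', p = p' + 1 := ⟨p - 1, by omega⟩
          have hap : (DirectSum.decompose 𝒜 a (p' + 1) : A) ∈ 𝒜 1 * 𝒜 p' := by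
            rw [← hA p']; exact SetLike.coe_mem _
          refine Submodule.mul_induction_on hap ?_ ?_
          · intro r hr t ht
            rw [mul_smul]
            refine Submodule.smul_mem_smul hr ?_
            have : p' + d = n := by omega
            rw [← this]
            exact hgr p' d t y ht hyd
          · intro x y hx hy
            rw [add_smul]
            exact Submodule.add_mem _ hx hy
        · rw [DirectSum.decompose_of_mem_ne ℳ hpd hpn]
          exact Submodule.zero_mem _
      | zero => intro a; rw [smul_zero]; exact S.zero_mem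
      | add x y _ _ hx hy => intro a; rw [smul_add]; exact S.add_mem (hx a) (hy a)
      | smul b x _ hx => intro a; rw [smul_smul]; exact hx (a * b)
    intro m hm
    have h1 : (1 : A) • m ∈ S := hall m (by rw [hspan]; trivial) 1
    rw [one_smul, hS, DirectSum.decompose_of_mem_same ℳ hm] at h1
    exact h1
  induction k with
  | zero =>
    apply le_antisymm
    · intro m hm
      have : m = (1 : A) • m := (one_smul A m).symm
      rw [this]
      exact Submodule.smul_mem_smul (SetLike.GradedOne.one_mem) hm
    · exact hge 0 n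
  | succ k ih =>
    apply le_antisymm
    · have h1 : ℳ (n + (k + 1)) ≤ 𝒜 1 • ℳ (n + k) := by
        have := key (n + k) (by omega)
        rw [add_assoc] at this
        exact this
      refine h1.trans ?_
      rw [ih, Submodule.smul_le]
      intro r hr x hx
      refine Submodule.smul_induction_on hx ?_ ?_
      · intro a ha m hm
        rw [← mul_smul]
        refine Submodule.smul_mem_smul ?_ hm
        rw [hA k]
        exact Submodule.mul_mem_mul hr ha
      · intro x y hx hy
        rw [smul_add]
        exact Submodule.add_mem _ hx hy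
    · exact hge (k + 1) n

end Groth.Agent.S14051
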