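import Groth.Statements.S14053
import Mathlib
import Groth.Agent.Lib.helper7.Veronese

set_option autoImplicit false
universe u
open CAlg

namespace Groth.Agent.S14053

/-- Let k be a field and R a commutative ℕ-graded k-algebra with R_0 = k · 1 which is generated as a
k-algebra by R_1, R_2 and R_3, each a finite-dimensional k-vector space, of dimensions d_1, d_2,
d_3. Then for every natural number e ≥ 5 d_1 + 4 d_2 + 3 d_3 the (6e)-th Veronese subring of R is
generated in degree one over k: R_{6em} = (R_{6e})^m for every m > 0. -/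
theorem result
    (k : Type u) [Field k] (R : Type u) [CommRing R] [Algebra k R]
    (ℛ : ℕ → Submodule k R) [GradedAlgebra ℛ]
    (h0 : ℛ 0 = 1)
    (hgen : Algebra.adjoin k ((ℛ 1 : Set R) ∪ (ℛ 2 : Set R) ∪ (ℛ 3 : Set R)) = ⊤)
    [Module.Finite k (ℛ 1)] [Module.Finite k (ℛ 2)] [Module.Finite k (ℛ 3)]
    (e : ℕ) (he : 5 * Module.finrank k (ℛ 1) + 4 * Module.finrank k (ℛ 2) + 3 * Module.finrank k (ℛ 3) ≤ e)
    (m : ℕ) (hm : 0 < m) :
    ℛ (m * (6 * e)) = ℛ (6 * e) ^ m := by
  classical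
  let b1 := Module.finBasis k (ℛ 1)
  let b2 := Module.finBasis k (ℛ 2)
  let b3 := Module.finBasis k (ℛ 3)
  let gen : (Fin (Module.finrank k (ℛ 1)) ⊕ (Fin (Module.finrank k (ℛ 2)) ⊕ Fin (Module.finrank k (ℛ 3)))) → R :=
    Sum.elim (fun i => (b1 i : R)) (Sum.elim (fun i => (b2 i : R)) (fun i => (b3 i : R)))
  have hsp : ∀ (n : ℕ) [Module.Finite k (ℛ n)] (x : R), x ∈ ℛ n →
      x ∈ Submodule.span k (Set.range (fun i => ((Module.finBasis k (ℛ n)) i : R))) := by
    intro n _ x hx
    have h1 : (⟨x, hx⟩ : ℛ n) ∈ Submodule.span k (Set.range (Module.finBasis k (ℛ n))) := by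
      rw [Module.Basis.span_eq]; trivial
    have h2 := Submodule.mem_map_of_mem (f := (ℛ n).subtype) h1
    rw [Submodule.map_span, ← Set.range_comp] at h2
    exact h2
  refine Groth.Agent.Lib.helper7.H7_veronese ℛ gen (Sum.elim (fun _ => 1) (Sum.elim (fun _ => 2) (fun _ => 3)))
    (Sum.elim (fun _ => 6) (Sum.elim (fun _ => 3) (fun _ => 2))) 6 (by norm_num) ?_ ?_ ?_ e ?_ m hm
  · rintro (i | i | i) <;> simp
  · rintro (i | i | i)
    · exact (b1 i).2
    · exact (b2 i).2
    · exact (b3 i).2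
  · rw [eq_top_iff, ← hgen]
    refine Algebra.adjoin_le ?_
    have hle : ∀ (n : ℕ) [Module.Finite k (ℛ n)],
        Set.range (fun i => ((Module.finBasis k (ℛ n)) i : R)) ⊆ Set.range gen →
        (ℛ n : Set R) ⊆ (Algebra.adjoin k (Set.range gen) : Subalgebra k R) := by
      intro n _ hsub x hx
      have := hsp n x hx
      have h3 : Submodule.span k (Set.range (fun i => ((Module.finBasis k (ℛ n)) i : R)))
          ≤ Subalgebra.toSubmodule (Algebra.adjoin k (Set.range gen)) :=
        Submodule.span_le.2 (fun y hy => Algebra.subset_adjoin (hsub hy))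
      exact h3 this
    refine Set.union_subset (Set.union_subset ?_ ?_) ?_
    · refine hle 1 ?_
      rintro _ ⟨i, rfl⟩
      exact ⟨Sum.inl i, rfl⟩
    · refine hle 2 ?_
      rintro _ ⟨i, rfl⟩
      exact ⟨Sum.inr (Sum.inl i), rfl⟩
    · refine hle 3 ?_
      rintro _ ⟨i, rfl⟩
      exact ⟨Sum.inr (Sum.inr i), rfl⟩
  · refine le_trans (le_of_eq ?_) he
    simp [Fintype.sum_sum_type]
    ring

end Groth.Agent.S14053
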