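import Groth.Statements.S14060
import Mathlib

set_option autoImplicit false
universe u
open CategoryTheory CategoryTheory.Limits TopologicalSpace
open CohTop

namespace Groth.Agent.S14060


open CategoryTheory CategoryTheory.Limits Opposite

open CategoryTheory.Abelian

abbrev Shv (X : TopCat.{u}) := Sheaf (Opens.grothendieckTopology X) AddCommGrpCat.{u}

section
variable {X : TopCat.{u}}
  [HasExt.{u} (Sheaf (Opens.grothendieckTopology X) AddCommGrpCat.{u})]

/-- the constant sheaf ℤ -/
noncomputable abbrev cZ (X : TopCat.{u}) : Sheaf (Opens.grothendieckTopology X) AddCommGrpCat.{u} :=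
  (constantSheaf (Opens.grothendieckTopology X) AddCommGrpCat.{u}).obj (AddCommGrpCat.of (ULift ℤ))

def isTerminalTop' : IsTerminal (⊤ : Opens X) :=
  IsTerminal.ofUniqueHom (fun _ => homOfLE le_top) (fun _ _ => Subsingleton.elim _ _)

noncomputable def constEquiv (F : Shv X) : (cZ X ⟶ F) ≃ F.obj.obj (op (⊤ : Opens X)) :=
  (Ext.addEquiv₀.symm.toEquiv).trans (Sheaf.H.equiv₀ F isTerminalTop').toEquiv

lemma constEquiv_comp {F G : Shv X} (a : cZ X ⟶ F) (φ : F ⟶ G) :
    constEquiv G (a ≫ φ) = φ.hom.app (op ⊤) (constEquiv F a) := by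
  show Sheaf.H.equiv₀ G isTerminalTop' (Ext.mk₀ (a ≫ φ)) =
    φ.hom.app (op ⊤) (Sheaf.H.equiv₀ F isTerminalTop' (Ext.mk₀ a))
  rw [Sheaf.H.equiv₀_naturality, Sheaf.H.map_apply, Ext.mk₀_comp_mk₀]

/-- L1 -/
lemma sections_surjective (S : ShortComplex (Shv X)) (hS : S.ShortExact)
    (h : Subsingleton (Ext (cZ X) S.X₁ 1)) :
    Function.Surjective (S.g.hom.app (op (⊤ : Opens X))) := by
  intro s
  obtain ⟨a, rfl⟩ := (constEquiv S.X₃).surjective s
  obtain ⟨x₂, hx₂⟩ := Ext.covariant_sequence_exact₃ (cZ X) hS (Ext.mk₀ a) (n₁ := 1) rfl (Subsingleton.elim _ _)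
  obtain ⟨a', rfl⟩ := (Ext.mk₀_bijective _ _).surjective x₂
  rw [Ext.mk₀_comp_mk₀] at hx₂
  have : a' ≫ S.g = a := (Ext.mk₀_bijective _ _).injective hx₂
  refine ⟨constEquiv S.X₂ a', ?_⟩
  rw [← constEquiv_comp, this]

/-- L2 -/
lemma ext_subsingleton (S : ShortComplex (Shv X)) (hS : S.ShortExact) (j : ℕ)
    (h2 : Subsingleton (Ext (cZ X) S.X₂ j)) (h1 : Subsingleton (Ext (cZ X) S.X₁ (j + 1))) :
    Subsingleton (Ext (cZ X) S.X₃ j) := by
  refine ⟨fun x y => ?_⟩
  have hz : ∀ x : Ext (cZ X) S.X₃ j, x = 0 := by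
    intro x
    obtain ⟨x₂, hx₂⟩ := Ext.covariant_sequence_exact₃ (cZ X) hS x (n₁ := j + 1) rfl (Subsingleton.elim _ _)
    rw [← hx₂, Subsingleton.elim x₂ 0, Ext.zero_comp]
  rw [hz x, hz y]

end


section main
variable {X : TopCat.{u}} [HasExt.{u} (Sheaf (Opens.grothendieckTopology X) AddCommGrpCat.{u})]
  (F : ChainComplex (Shv X) ℕ)

/-- cycles in degree `j+1` -/
noncomputable abbrev Zc (j : ℕ) : Shv X := kernel (F.d (j+1) j)

noncomputable def sesZ (j : ℕ) : ShortComplex (Shv X) :=
  ShortComplex.mk (kernel.ι (F.d (j+2) (j+1)))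
    (kernel.lift (F.d (j+1) j) (F.d (j+2) (j+1)) (F.d_comp_d _ _ _)) (by
      rw [← cancel_mono (kernel.ι (F.d (j+1) j)), Category.assoc, kernel.lift_ι, kernel.condition,
        zero_comp])

lemma sesZ_shortExact (j : ℕ) (hex : F.ExactAt (j+1)) : (sesZ F j).ShortExact := by
  have h1 : (F.sc' (j+2) (j+1) j).Exact := (F.exactAt_iff' (j+2) (j+1) j (by simp) (by simp)).1 hex
  have hepi : Epi (kernel.lift (F.d (j+1) j) (F.d (j+2) (j+1)) (F.d_comp_d _ _ _)) :=
    (ShortComplex.exact_iff_epi_kernel_lift _).1 h1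
  have hker : IsLimit (KernelFork.ofι (sesZ F j).f (sesZ F j).zero) :=
    KernelFork.IsLimit.ofι _ _
      (fun {W} t ht => kernel.lift (F.d (j+2) (j+1)) t (by
        have h2 : t ≫ kernel.lift (F.d (j+1) j) (F.d (j+2) (j+1)) (F.d_comp_d _ _ _) = 0 := ht
        calc t ≫ F.d (j+2) (j+1)
            = (t ≫ kernel.lift (F.d (j+1) j) (F.d (j+2) (j+1)) (F.d_comp_d _ _ _)) ≫
                kernel.ι (F.d (j+1) j) := by rw [Category.assoc, kernel.lift_ι]
          _ = 0 := by rw [h2, zero_comp]))
      (fun {W} t ht => kernel.lift_ι _ _ _)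
      (fun {W} t ht m hm => by
        apply (cancel_mono (kernel.ι (F.d (j+2) (j+1)))).1
        rw [kernel.lift_ι]
        exact hm)
  exact
    { exact := ShortComplex.exact_of_f_is_kernel _ hker
      mono_f := by show Mono (kernel.ι (F.d (j+2) (j+1))); infer_instance
      epi_g := hepi }

noncomputable def ses0 : ShortComplex (Shv X) :=
  ShortComplex.mk (kernel.ι (F.d 1 0)) (F.d 1 0) (kernel.condition _)

lemma ses0_shortExact (hepi : Epi (F.d 1 0)) : (ses0 F).ShortExact :=
  { exact := ShortComplex.exact_kernel _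
    mono_f := by show Mono (kernel.ι (F.d 1 0)); infer_instance
    epi_g := hepi }

theorem main (r : ℕ) (hr : 1 ≤ r)
    (hmono : Mono (F.d r (r - 1))) (hepi : Epi (F.d 1 0))
    (hex : ∀ j : ℕ, 1 ≤ j → j < r → F.ExactAt j)
    (hvan : ∀ j : ℕ, 2 ≤ j → j ≤ r → Subsingleton (Sheaf.H (F.X j) (j - 1))) :
    Function.Surjective ((F.d 1 0).hom.app (Opposite.op ⊤)) := by
  obtain ⟨r', rfl⟩ : ∃ r', r = r' + 1 := ⟨r - 1, by omega⟩
  have hmono' : Mono (F.d (r'+1) r') := by simpa using hmono
  have Q : ∀ d i : ℕ, i + d = r' → Subsingleton (Ext (cZ X) (Zc F i) (i + 1)) := by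
    intro d
    induction d with
    | zero =>
      intro i hi
      obtain rfl : i = r' := by omega
      have hz : IsZero (Zc F i) := by
        apply IsZero.of_mono_eq_zero (kernel.ι (F.d (i+1) i))
        rw [← cancel_mono (F.d (i+1) i), kernel.condition, zero_comp]
      have hzero : ∀ x : Ext (cZ X) (Zc F i) (i + 1), x = 0 := by
        intro x
        rw [← Ext.comp_mk₀_id x, hz.eq_of_src (𝟙 _) 0, Ext.mk₀_zero, Ext.comp_zero]
      exact ⟨fun x y => by rw [hzero x, hzero y]⟩
    | succ d ih =>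
      intro i hi
      have h1 := ih (i+1) (by omega)
      have hS := sesZ_shortExact F i (hex (i+1) (by omega) (by omega))
      have h2 : Subsingleton (Ext (cZ X) (F.X (i+2)) (i+1)) := by
        have := hvan (i+2) (by omega) (by omega)
        simpa using this
      exact ext_subsingleton (sesZ F i) hS (i+1) h2 h1
  have h0 := Q r' 0 (by omega)
  exact sections_surjective (ses0 F) (ses0_shortExact F hepi) h0

end main

/-- Let X be a topological space, r ≥ 1 an integer and 0 → F_r → ⋯ → F_2 → F_1 → F_0 → 0 an exact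
sequence of sheaves of abelian groups on X, presented as a chain complex F of abelian sheaves
indexed by the natural numbers whose differential F_r → F_{r−1} is a monomorphism, whose
differential F_1 → F_0 is an epimorphism of sheaves, and which is exact at F_j for 1 ≤ j ≤ r − 1
(for r = 1 the single map F_1 → F_0 is mono and epi). Assume the sheaf cohomology groups H^{j−1}(X,
F_j) vanish for 2 ≤ j ≤ r. Then the map on global sections F_1(X) → F_0(X) is surjective. (The
instance hypothesis that the category of abelian sheaves on X has Ext groups in the universe of X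
holds for every X, abelian sheaves on a space forming a Grothendieck abelian category; it is the
setting in which sheaf cohomology is defined.) -/
theorem result (X : TopCat.{u})
    [HasExt.{u} (Sheaf (Opens.grothendieckTopology X) AddCommGrpCat.{u})]
    (r : ℕ) (hr : 1 ≤ r)
    (F : ChainComplex (Sheaf (Opens.grothendieckTopology X) AddCommGrpCat.{u}) ℕ)
    (hmono : Mono (F.d r (r - 1))) (hepi : Epi (F.d 1 0))
    (hex : ∀ j : ℕ, 1 ≤ j → j < r → F.ExactAt j)
    (hvan : ∀ j : ℕ, 2 ≤ j → j ≤ r → Subsingleton (Sheaf.H (F.X j) (j - 1))) :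
    Function.Surjective ((F.d 1 0).hom.app (Opposite.op ⊤)) := by
  exact main F r hr hmono hepi hex hvan

end Groth.Agent.S14060
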