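import Groth.Statements.S14088
import Mathlib

set_option autoImplicit false
universe u
open ArSing

namespace Groth.Agent.S14088

/-- The identity behind the torus-equivariant classes h_i = h_0 + i τ of the coordinate hyperplanes of a
projective space of binary forms, stated in an arbitrary commutative ring: for n ≤ m, (h_0 ⋯
h_(n-1))^2 · h_n ⋯ h_(m-1) equals the sum over s = 0, …, n of (-1)^s s! (n choose s) (m choose s)
τ^s h_0 ⋯ h_(m+n-s-1), where h_i = h + i τ. (The published statement is in the equivariant Chow ring
of that projective space; only the relations h_i = h_j + (j - i) τ are used, so it holds in any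
commutative ring.) -/
theorem result (A : Type u) [CommRing A] (h τ : A) (n m : ℕ) (hnm : n ≤ m) :
    (∏ i ∈ Finset.range n, (h + (i : A) * τ) ^ 2) * ∏ i ∈ Finset.Ico n m, (h + (i : A) * τ) =
      ∑ s ∈ Finset.range (n + 1), (-1 : A) ^ s * (Nat.factorial s : A) * (Nat.choose n s : A) *
        (Nat.choose m s : A) * τ ^ s * ∏ i ∈ Finset.range (m + n - s), (h + (i : A) * τ) := by
  classical
  have hkey : ∀ t : ℕ, (Nat.choose m t : A) * ((m : A) - t) =
      ((t : A) + 1) * (Nat.choose m (t+1) : A) := by
    intro t
    by_cases ht : t ≤ m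
    · have := Nat.choose_succ_right_eq m t
      have h2 : ((m.choose (t+1) * (t+1) : ℕ) : A) = ((m.choose t * (m - t) : ℕ) : A) := by
        rw [this]
      push_cast [Nat.cast_sub ht] at h2
      linear_combination -h2
    · push Not at ht
      rw [Nat.choose_eq_zero_of_lt ht, Nat.choose_eq_zero_of_lt (by omega)]; simp
  set P : ℕ → A := fun k => ∏ i ∈ Finset.range k, (h + (i : A) * τ) with hP
  have hPs : ∀ k, P (k+1) = P k * (h + (k:A) * τ) := fun k => Finset.prod_range_succ _ k
  set c : ℕ → ℕ → A := fun n s => (-1 : A) ^ s * (Nat.factorial s : A) * (Nat.choose n s : A) *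
        (Nat.choose m s : A) with hc
  have hc0 : ∀ n, c n 0 = 1 := by intro n; simp [hc]
  have hcn : ∀ n, c n (n+1) = 0 := by intro n; simp [hc]
  have hcs : ∀ n s, c n (s+1) - c n s * ((m:A) - s) = c (n+1) (s+1) := by
    intro n s
    simp only [hc]
    rw [Nat.choose_succ_succ n s, Nat.factorial_succ]
    push_cast
    have := hkey s
    linear_combination (-((-1 : A) ^ s * (s.factorial : A) * (n.choose s : A))) * this
  have main : ∀ n : ℕ, P n * P m = ∑ s ∈ Finset.range (n + 1), c n s * τ ^ s * P (m + n - s) := by
    intro n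
    induction n with
    | zero => simp [hc0, hP]
    | succ n ih =>
      rw [hPs, mul_right_comm, ih, Finset.sum_mul]
      have e1 : ∀ s ∈ Finset.range (n+1), c n s * τ ^ s * P (m + n - s) * (h + (n:A) * τ) =
          c n s * τ ^ s * P (m + (n + 1) - s) - c n s * ((m:A) - s) * τ ^ (s+1) * P (m + n - s) := by
        intro s hs
        have hs' : s ≤ n := Nat.lt_succ_iff.1 (Finset.mem_range.1 hs)
        have e : m + (n + 1) - s = (m + n - s) + 1 := by omega
        rw [e, hPs]
        have hcast : ((m + n - s : ℕ) : A) = (m:A) + n - s := by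
          rw [Nat.cast_sub (by omega)]; push_cast; ring
        rw [hcast]; ring
      rw [Finset.sum_congr rfl e1, Finset.sum_sub_distrib]
      have e2 : ∑ s ∈ Finset.range (n+1), c n s * τ ^ s * P (m + (n + 1) - s) =
          ∑ s ∈ Finset.range (n+1), c n (s+1) * τ ^ (s+1) * P (m + n - s) + P (m + (n+1)) := by
        have : ∑ s ∈ Finset.range (n+1), c n s * τ ^ s * P (m + (n + 1) - s) =
            ∑ s ∈ Finset.range (n+1+1), c n s * τ ^ s * P (m + (n + 1) - s) := by
          rw [Finset.sum_range_succ _ (n+1), hcn]; simp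
        rw [this, Finset.sum_range_succ' _ (n+1)]
        congr 1
        · refine Finset.sum_congr rfl fun s hs => ?_
          have : m + (n + 1) - (s + 1) = m + n - s := by omega
          rw [this]
        · simp [hc0]
      rw [e2, Finset.sum_range_succ' _ (n+1)]
      have e3 : ∑ s ∈ Finset.range (n+1), c (n+1) (s+1) * τ ^ (s+1) * P (m + (n + 1) - (s + 1)) =
          ∑ s ∈ Finset.range (n+1), (c n (s+1) * τ ^ (s+1) * P (m + n - s) -
            c n s * ((m:A) - s) * τ ^ (s+1) * P (m + n - s)) := by
        refine Finset.sum_congr rfl fun s hs => ?_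
        have : m + (n + 1) - (s + 1) = m + n - s := by omega
        rw [this, ← hcs]; ring
      rw [e3, Finset.sum_sub_distrib]
      simp only [hc0, pow_zero, Nat.sub_zero, one_mul]
      ring
  have hsplit : (∏ i ∈ Finset.range n, (h + (i : A) * τ) ^ 2) * ∏ i ∈ Finset.Ico n m, (h + (i : A) * τ)
      = P n * P m := by
    rw [Finset.prod_pow, hP]
    simp only
    rw [← Finset.prod_range_mul_prod_Ico _ hnm]; ring
  rw [hsplit, main n]

end Groth.Agent.S14088
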