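import Groth.Statements.S14097
import Groth.Statements.S14097
import Mathlib

set_option autoImplicit false
universe u
open ArSing

namespace Groth.Agent.S14097

/-- In any commutative ring, if h_0, …, h_(k-1) (k ≥ 2) and τ satisfy h_i^2 + τ h_i = 0, then ∏_(i ≤
k-2) (h_i + h_(i+1) + τ) = Σ_(j ≤ k-1) τ^(k-1-j) e_j(h), e_j the elementary symmetric functions.
(The published statement is the resulting formula for the class of the small diagonal in the Chow
ring of (P^1)^k, where the h_i are the hyperplane classes of the factors and satisfy these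
relations; only the ring identity is asserted here.) -/
theorem result (A : Type u) [CommRing A] (k : ℕ) (hk : 2 ≤ k) (τ : A)
    (h : ℕ → A) (hrel : ∀ i, i < k → h i ^ 2 + τ * h i = 0) :
    ∏ i ∈ Finset.range (k - 1), (h i + h (i + 1) + τ) =
      ∑ j ∈ Finset.range k, τ ^ (k - 1 - j) * (((Finset.range k).val.map h).esymm j) := by
  classical
  have es_cons : ∀ (a : A) (s : Multiset A) (j : ℕ),
      (a ::ₘ s).esymm (j + 1) = s.esymm (j + 1) + a * s.esymm j := by
    intro a s j
    simp only [Multiset.esymm, Multiset.powersetCard_cons, Multiset.map_add, Multiset.sum_add,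
      Multiset.map_map, Function.comp_def, Multiset.prod_cons]
    rw [Multiset.sum_map_mul_left]
  have es_zero : ∀ s : Multiset A, s.esymm 0 = 1 := by intro s; simp [Multiset.esymm]
  have es_card : ∀ s : Multiset A, s.esymm (Multiset.card s) = s.prod := by
    intro s; simp [Multiset.esymm, Multiset.powersetCard_self]
  let s : ℕ → Multiset A := fun m => (Finset.range (m + 1)).val.map h
  let S : ℕ → A := fun m => ∑ j ∈ Finset.range (m + 1), τ ^ (m - j) * (s m).esymm j
  have hs : ∀ m, s (m + 1) = h (m + 1) ::ₘ s m := by
    intro m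
    simp only [s, Finset.range_val, Multiset.range_succ (m + 1), Multiset.map_cons]
  have hcard : ∀ m, Multiset.card (s m) = m + 1 := by intro m; simp [s]
  have hrec : ∀ m, S (m + 1) = (τ + h (m + 1)) * S m + (s m).prod := by
    intro m
    have h1 : ∑ j ∈ Finset.range (m + 1), τ ^ (m - j) * (s m).esymm (j + 1) + τ ^ (m + 1) =
        τ * ∑ j ∈ Finset.range (m + 1), τ ^ (m - j) * (s m).esymm j + (s m).prod := by
      have h2 : ∑ j ∈ Finset.range (m + 2), τ ^ (m + 1 - j) * (s m).esymm j =
          ∑ j ∈ Finset.range (m + 1), τ ^ (m - j) * (s m).esymm (j + 1) + τ ^ (m + 1) := by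
        rw [Finset.sum_range_succ']
        simp [es_zero]
      rw [← h2, Finset.sum_range_succ, Finset.mul_sum]
      congr 1
      · apply Finset.sum_congr rfl
        intro j hj
        rw [Finset.mem_range] at hj
        rw [show m + 1 - j = (m - j) + 1 by omega, pow_succ]
        ring
      · rw [Nat.sub_self, pow_zero, one_mul, ← hcard m, es_card]
    simp only [S]
    rw [Finset.sum_range_succ' _ (m + 1)]
    simp only [hs, es_cons, es_zero, Nat.add_sub_add_right, Nat.sub_zero, mul_one, mul_add,
      Finset.sum_add_distrib]
    have h3 : ∑ x ∈ Finset.range (m + 1), τ ^ (m - x) * (h (m + 1) * (s m).esymm x) =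
        h (m + 1) * ∑ x ∈ Finset.range (m + 1), τ ^ (m - x) * (s m).esymm x := by
      rw [Finset.mul_sum]
      apply Finset.sum_congr rfl
      intro j _
      ring
    rw [h3]
    linear_combination h1
  have main : ∀ m, (∀ i, i < m + 1 → h i ^ 2 + τ * h i = 0) →
      ∏ i ∈ Finset.range m, (h i + h (i + 1) + τ) = S m ∧ h m * S m = (s m).prod := by
    intro m
    induction m with
    | zero =>
      intro _
      simp [S, s, es_zero]
    | succ m ih =>
      intro hr
      obtain ⟨ih1, ih2⟩ := ih (fun i hi => hr i (by omega))
      have hr1 := hr (m + 1) (by omega)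
      constructor
      · rw [Finset.prod_range_succ, ih1, hrec]
        linear_combination ih2
      · rw [hrec, hs, Multiset.prod_cons]
        linear_combination (S m) * hr1
  obtain ⟨m, rfl⟩ : ∃ m, k = m + 1 := ⟨k - 1, by omega⟩
  have := (main m hrel).1
  simp only [Nat.add_sub_cancel]
  rw [this]

end Groth.Agent.S14097
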