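import Groth.Statements.S14115
import Mathlib

set_option autoImplicit false
universe u v
open SuperComm

namespace Groth.Agent.S14115

/-- Let S be an associative unital algebra over a commutative ring R, x an element and y_0, …, y_n
elements such that the anticommutator x y_i + y_i x equals r_i · 1 for scalars r_i ∈ R. Then the
graded commutator of x with the ordered product y_0 ⋯ y_n, namely x (y_0 ⋯ y_n) + (-1)^n (y_0 ⋯ y_n)
x, equals the sum over p of (-1)^p r_p times the ordered product of the y_q with q ≠ p. (The
published statement takes x homogeneous of degree 1 and the y_i homogeneous of degree -1 in a graded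
algebra with unit in degree 0, the signs being those of the supercommutator; this row states the
identity for arbitrary elements satisfying the anticommutation relations, which is what the
computation proves.) -/
theorem result {R : Type u} {S : Type v} [CommRing R] [Ring S]
    [Algebra R S] (n : ℕ) (x : S) (y : Fin (n + 1) → S) (r : Fin (n + 1) → R)
    (h : ∀ i : Fin (n + 1), x * y i + y i * x = algebraMap R S (r i)) :
    x * (List.ofFn y).prod + (-1 : S) ^ n * ((List.ofFn y).prod * x) =
      ∑ p : Fin (n + 1), (-1 : S) ^ (p : ℕ) * (r p • (List.ofFn (fun q : Fin n => y (p.succAbove q))).prod) := by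
  have term : ∀ (k : ℕ) (c : R) (a b : S),
      (-1 : S) ^ (k + 1) * (c • (a * b)) = -(a * ((-1) ^ k * (c • b))) := by
    intro k c a b
    rcases neg_one_pow_eq_or S k with h | h <;> simp [pow_succ, h]
  induction n with
  | zero =>
    have h0 := h 0
    rw [Fin.sum_univ_succ, Fin.sum_univ_zero]
    simp only [List.ofFn_succ, List.ofFn_zero, List.prod_cons, List.prod_nil, mul_one, pow_zero,
      one_mul, Fin.val_zero, add_zero]
    rw [h0, Algebra.algebraMap_eq_smul_one]
  | succ n ih =>
    have ih' := ih (fun i => y i.succ) (fun i => r i.succ) (fun i => h i.succ)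
    have h0 := h 0
    rw [Fin.sum_univ_succ]
    have hP0 : (List.ofFn (fun q : Fin (n + 1) => y ((0 : Fin (n + 2)).succAbove q))).prod =
        (List.ofFn (fun i : Fin (n + 1) => y i.succ)).prod := by
      simp only [Fin.succAbove_zero]
    have hPs : ∀ p : Fin (n + 1),
        (List.ofFn (fun q : Fin (n + 1) => y (p.succ.succAbove q))).prod =
          y 0 * (List.ofFn (fun q : Fin n => y (p.succAbove q).succ)).prod := by
      intro p
      rw [List.ofFn_succ, List.prod_cons, Fin.succ_succAbove_zero]
      simp only [Fin.succ_succAbove_succ]
    rw [hP0]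
    simp only [hPs, Fin.val_succ, term, Fin.val_zero, pow_zero, one_mul]
    rw [Finset.sum_neg_distrib, ← Finset.mul_sum, ← ih', List.ofFn_succ, List.prod_cons]
    set Y' := (List.ofFn (fun i : Fin (n + 1) => y i.succ)).prod with hY'
    have hx : x * y 0 = algebraMap R S (r 0) - y 0 * x := by rw [← h0]; abel
    rw [Algebra.smul_def]
    have e1 : x * (y 0 * Y') = algebraMap R S (r 0) * Y' - y 0 * (x * Y') := by
      rw [← mul_assoc, hx, sub_mul, mul_assoc]
    rw [e1]
    rcases neg_one_pow_eq_or S n with hn | hn <;> simp [pow_succ, hn] <;> noncomm_ring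

end Groth.Agent.S14115
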