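import Groth.Statements.S14118
import Mathlib

set_option autoImplicit false
universe u v w
open SuperComm

namespace Groth.Agent.S14118

/-- Let R be a commutative ring and M a finitely ℤ-graded R-module with finitely many nonzero graded
pieces, each finite free, presented as a finite family of finite free R-modules M_i with integer
degrees deg i (the piece of degree n being the product of the M_i with deg i = n); an endomorphism φ
of the total module Π_i M_i has degree a when its (i, j) block vanishes unless deg j = deg i + a;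
the supertrace of an endomorphism is the trace of its composite with the grading involution ε = Σ_i
(-1)^{deg i} pr_i. If φ and ψ have degrees a and b, the supertrace of the supercommutator φψ -
(-1)^{ab} ψφ vanishes. (The published statement allows the graded pieces to be finitely generated
projective; this row takes them finite free, where the trace is the ordinary trace of a free
module.) -/
theorem result {R : Type u} [CommRing R] {ι : Type v} [Fintype ι] [DecidableEq ι]
    (deg : ι → ℤ) (M : ι → Type w) [∀ i, AddCommGroup (M i)] [∀ i, Module R (M i)]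
    [∀ i, Module.Free R (M i)] [∀ i, Module.Finite R (M i)]
    (a b : ℤ) (φ ψ : (Π k, M k) →ₗ[R] (Π k, M k))
    (hφ : ∀ i j : ι, deg j ≠ deg i + a → (LinearMap.proj j) ∘ₗ φ ∘ₗ (LinearMap.single R M i) = 0)
    (hψ : ∀ i j : ι, deg j ≠ deg i + b → (LinearMap.proj j) ∘ₗ ψ ∘ₗ (LinearMap.single R M i) = 0) :
    LinearMap.trace R (Π k, M k)
      ((∑ i : ι, (LinearMap.single R M i) ∘ₗ (((-1 : R) ^ (deg i).natAbs) • (LinearMap.proj i : (Π k, M k) →ₗ[R] M i))) ∘ₗ (φ ∘ₗ ψ - ((-1 : R) ^ (a * b).natAbs) • (ψ ∘ₗ φ))) = 0 := by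
  have str : ∀ T : (Π k, M k) →ₗ[R] (Π k, M k),
      LinearMap.trace R (Π k, M k) ((∑ i : ι, (LinearMap.single R M i) ∘ₗ
        (((-1 : R) ^ (deg i).natAbs) • (LinearMap.proj i : (Π k, M k) →ₗ[R] M i))) ∘ₗ T) =
      ∑ i : ι, ((-1 : R) ^ (deg i).natAbs) *
        LinearMap.trace R (M i) ((LinearMap.proj i) ∘ₗ T ∘ₗ (LinearMap.single R M i)) := by
    intro T
    have e1 : (∑ i : ι, (LinearMap.single R M i) ∘ₗ
        (((-1 : R) ^ (deg i).natAbs) • (LinearMap.proj i : (Π k, M k) →ₗ[R] M i))) ∘ₗ T =
        ∑ i : ι, (LinearMap.single R M i) ∘ₗ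
          ((((-1 : R) ^ (deg i).natAbs) • (LinearMap.proj i : (Π k, M k) →ₗ[R] M i)) ∘ₗ T) := by
      ext x j
      simp
    rw [e1, map_sum]
    apply Finset.sum_congr rfl
    intro i _
    rw [LinearMap.trace_comp_comm']
    have e2 : ((((-1 : R) ^ (deg i).natAbs) • (LinearMap.proj i : (Π k, M k) →ₗ[R] M i)) ∘ₗ T) ∘ₗ
        (LinearMap.single R M i) =
        ((-1 : R) ^ (deg i).natAbs) • ((LinearMap.proj i) ∘ₗ T ∘ₗ (LinearMap.single R M i)) := by
      ext x
      simp
    rw [e2, map_smul, smul_eq_mul]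
  -- block decomposition of a composite
  have blk : ∀ (S T : (Π k, M k) →ₗ[R] (Π k, M k)) (i : ι),
      (LinearMap.proj i) ∘ₗ (S ∘ₗ T) ∘ₗ (LinearMap.single R M i) =
      ∑ j : ι, ((LinearMap.proj i) ∘ₗ S ∘ₗ (LinearMap.single R M j)) ∘ₗ
        ((LinearMap.proj j) ∘ₗ T ∘ₗ (LinearMap.single R M i)) := by
    intro S T i
    ext x
    simp only [LinearMap.coe_comp, Function.comp_apply, LinearMap.coe_proj, Function.eval,
      LinearMap.coe_sum, Finset.sum_apply]
    have : T (LinearMap.single R M i x) =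
        ∑ j : ι, LinearMap.single R M j ((T (LinearMap.single R M i x)) j) := by
      ext k
      simp [Finset.sum_apply, Pi.single_apply]
    conv_lhs => rw [this]
    rw [map_sum, Finset.sum_apply]
  have hsgn : ∀ n : ℤ, (-1 : R) ^ n.natAbs = if Even n then 1 else -1 := by
    intro n
    split_ifs with hn
    · exact Even.neg_one_pow (Int.natAbs_even.mpr hn)
    · exact Odd.neg_one_pow (Int.natAbs_odd.mpr (Int.not_even_iff_odd.mp hn))
  rw [LinearMap.comp_sub, map_sub, LinearMap.comp_smul, map_smul, str, str, smul_eq_mul,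
    Finset.mul_sum, ← Finset.sum_sub_distrib]
  simp only [blk, map_sum, Finset.mul_sum]
  -- reorganise the second double sum
  have swap : ∑ i : ι, ∑ j : ι, (-1 : R) ^ (a * b).natAbs * ((-1 : R) ^ (deg i).natAbs *
      LinearMap.trace R (M i) (((LinearMap.proj i) ∘ₗ ψ ∘ₗ (LinearMap.single R M j)) ∘ₗ
        ((LinearMap.proj j) ∘ₗ φ ∘ₗ (LinearMap.single R M i)))) =
      ∑ i : ι, ∑ j : ι, (-1 : R) ^ (a * b).natAbs * ((-1 : R) ^ (deg j).natAbs *
      LinearMap.trace R (M i) (((LinearMap.proj i) ∘ₗ φ ∘ₗ (LinearMap.single R M j)) ∘ₗ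
        ((LinearMap.proj j) ∘ₗ ψ ∘ₗ (LinearMap.single R M i)))) := by
    rw [Finset.sum_comm]
    apply Finset.sum_congr rfl
    intro i _
    apply Finset.sum_congr rfl
    intro j _
    rw [LinearMap.trace_comp_comm']
  rw [Finset.sum_sub_distrib, swap, ← Finset.sum_sub_distrib]
  apply Finset.sum_eq_zero
  intro i _
  rw [← Finset.sum_sub_distrib]
  apply Finset.sum_eq_zero
  intro j _
  by_cases h1 : deg i = deg j + a
  · by_cases h2 : deg j = deg i + b
    · have hb : b = -a := by omega
      have : (-1 : R) ^ (deg i).natAbs = (-1 : R) ^ (a * b).natAbs * (-1 : R) ^ (deg j).natAbs := by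
        rw [hsgn, hsgn, hsgn, h1, hb]
        by_cases ha : Even a <;> by_cases hj : Even (deg j) <;>
          simp [Int.even_add, Int.even_mul, ha, hj]
      rw [this]; ring
    · rw [hψ i j h2]; simp
  · rw [hφ j i h1]; simp

end Groth.Agent.S14118
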