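import Groth.Statements.S14175
import Mathlib

set_option autoImplicit false
universe u v w
open GalCoh

namespace Groth.Agent.S14175

/-- Let G be a finite cyclic group generated by t, let m be a natural number dividing the order of G,
and let ρ be a linear representation of G on a module V over a commutative ring k such that m·V = 0
and every element of G whose m-th power is the identity acts trivially on V. Then evaluating a
crossed homomorphism at t induces a bijection from the first cohomology of G with values in V
(crossed homomorphisms f, i.e. f(gh) = ρ(g)f(h) + f(g), modulo the principal ones g ↦ ρ(g)x − x)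
onto the coinvariants V_G (the quotient of V by the span of all ρ(g)v − v): the class of f(t) in V_G
vanishes exactly when f is principal, and every class of V_G is the class of f(t) for some crossed
homomorphism f. The bijection depends on the choice of the generator t. -/
theorem result
    {k : Type u} {G : Type v} {V : Type w} [CommRing k] [Group G] [Finite G]
    [AddCommGroup V] [Module k V] (ρ : Representation k G V)
    (t : G) (ht : ∀ g : G, g ∈ Subgroup.zpowers t)
    (m : ℕ) (hm : m ∣ Nat.card G) (htors : ∀ v : V, m • v = 0)
    (htriv : ∀ g : G, g ^ m = 1 → ∀ v : V, ρ g v = v) :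
    (∀ f : G → V, (∀ g h : G, f (g * h) = ρ g (f h) + f g) →
        (Representation.Coinvariants.mk ρ (f t) = 0 ↔ ∃ x : V, ∀ g : G, f g = ρ g x - x)) ∧
    (∀ v : V, ∃ f : G → V, (∀ g h : G, f (g * h) = ρ g (f h) + f g) ∧
        Representation.Coinvariants.mk ρ (f t) = Representation.Coinvariants.mk ρ v) := by
  classical
  set T : Module.End k V := ρ t with hT
  have hpow : ∀ i : ℕ, ρ (t ^ i) = T ^ i := fun i => by rw [map_pow]
  have hnat : ∀ g : G, ∃ i : ℕ, t ^ i = g := by
    intro g
    have h1 := ht g
    rw [← mem_powers_iff_mem_zpowers, Submonoid.mem_powers_iff] at h1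
    exact h1
  let S : ℕ → Module.End k V := fun i => ∑ j ∈ Finset.range i, T ^ j
  have hS_add : ∀ a b, S (a + b) = S a + T ^ a * S b := by
    intro a b
    simp only [S]
    rw [Finset.sum_range_add, Finset.mul_sum]
    congr 1
    apply Finset.sum_congr rfl
    intro j _
    rw [pow_add]
  have hS1 : ∀ i, (T - 1) * S i = T ^ i - 1 := fun i => mul_geom_sum T i
  have hS2 : ∀ i, S i * (T - 1) = T ^ i - 1 := fun i => geom_sum_mul T i
  refine ⟨?_, ?_⟩
  · intro f hf
    have hf1 : f 1 = 0 := by
      have := hf 1 1
      simp only [mul_one, map_one, Module.End.one_apply] at this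
      simpa using this
    have hfi : ∀ i : ℕ, f (t ^ i) = S i (f t) := by
      intro i
      induction i with
      | zero => simp [S, hf1]
      | succ i ih =>
        rw [pow_succ', hf, ih, add_comm i 1, hS_add]
        simp [S, hT, add_comm]
    constructor
    · intro h0
      have hmem : f t ∈ Representation.Coinvariants.ker ρ := by
        rwa [← Representation.Coinvariants.mk_eq_zero]
      have hle : Representation.Coinvariants.ker ρ ≤ LinearMap.range (T - 1) := by
        rw [Representation.Coinvariants.ker]
        apply Submodule.span_le.2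
        rintro _ ⟨⟨g, x⟩, rfl⟩
        obtain ⟨i, rfl⟩ := hnat g
        refine ⟨S i x, ?_⟩
        have := congrArg (fun φ : Module.End k V => φ x) (hS1 i)
        simp only [Module.End.mul_apply, LinearMap.sub_apply, Module.End.one_apply] at this
        simp only [LinearMap.sub_apply, Module.End.one_apply, hpow]
        exact this
      obtain ⟨x, hx⟩ := hle hmem
      refine ⟨x, fun g => ?_⟩
      obtain ⟨i, rfl⟩ := hnat g
      rw [hfi, ← hx]
      have := congrArg (fun φ : Module.End k V => φ x) (hS2 i)
      simp only [Module.End.mul_apply, LinearMap.sub_apply, Module.End.one_apply] at this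
      rw [hpow]
      exact this
    · rintro ⟨x, hx⟩
      rw [hx t, map_sub, Representation.Coinvariants.mk_self_apply, sub_self]
  · intro v
    -- norm vanishes
    have hcard : orderOf t = Nat.card G := orderOf_eq_card_of_forall_mem_zpowers ht
    obtain ⟨e, he⟩ := hm
    have hTe : T ^ e = 1 := by
      rw [← hpow]
      ext x
      apply htriv
      rw [← pow_mul, mul_comm, ← he, ← hcard, pow_orderOf_eq_one]
    have hSmul : ∀ a : ℕ, T ^ a = 1 → ∀ q : ℕ, S (a * q) = q • S a := by
      intro a ha q
      induction q with
      | zero => simp [S]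
      | succ q ih =>
        rw [mul_add, mul_one, hS_add, ih, pow_mul, ha, one_pow, one_mul, succ_nsmul]
    have hSn : ∀ x : V, S (Nat.card G) x = 0 := by
      intro x
      rw [he, mul_comm, hSmul e hTe m]
      rw [LinearMap.smul_apply]
      exact htors _
    have hTn : T ^ (Nat.card G) = 1 := by
      rw [he, mul_comm, pow_mul, hTe, one_pow]
    have hSd : ∀ d : ℕ, t ^ d = 1 → ∀ x : V, S d x = 0 := by
      intro d hd x
      have hdvd : Nat.card G ∣ d := by
        rw [← hcard]; exact orderOf_dvd_of_pow_eq_one hd
      obtain ⟨q, rfl⟩ := hdvd
      rw [hSmul _ hTn q, LinearMap.smul_apply, hSn, smul_zero]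
    have hwd : ∀ a b : ℕ, a ≤ b → t ^ a = t ^ b → ∀ x : V, S a x = S b x := by
      intro a b hab h x
      obtain ⟨d, rfl⟩ := Nat.exists_eq_add_of_le hab
      have hd : t ^ d = 1 := by
        rw [pow_add] at h
        exact (mul_eq_left.mp h.symm)
      rw [hS_add, LinearMap.add_apply, Module.End.mul_apply, hSd d hd, map_zero, add_zero]
    have hwd' : ∀ a b : ℕ, t ^ a = t ^ b → ∀ x : V, S a x = S b x := by
      intro a b h x
      rcases le_total a b with hab | hab
      · exact hwd a b hab h x
      · exact (hwd b a hab h.symm x).symm
    choose idx hidx using hnat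
    refine ⟨fun g => S (idx g) v, ?_, ?_⟩
    · intro g h
      have h1 : t ^ idx (g * h) = t ^ (idx g + idx h) := by
        rw [hidx, pow_add, hidx, hidx]
      have h2 := hwd' _ _ h1 v
      simp only
      rw [h2, hS_add, LinearMap.add_apply, Module.End.mul_apply, ← hpow, hidx, add_comm]
    · have h1 : t ^ idx t = t ^ 1 := by rw [hidx, pow_one]
      have h2 := hwd' _ _ h1 v
      simp only
      rw [h2]
      simp [S]

end Groth.Agent.S14175
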