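import Groth.Statements.S14192
import Groth.Statements.S14192
import Mathlib
import Groth.Agent.Lib.helper9.H9_DlogSeries

set_option autoImplicit false
open PowerSeries
open StackCount

namespace Groth.Agent.S14192

/-- Let R = Σ_n r_n X^n be a Laurent polynomial with integer coefficients and q > 1 an integer. In the
ring of formal power series in t over ℚ, the exponential of Σ_{v ≥ 1} R(q^v) t^v / v equals the
finite product Π_n (1 - q^n t)^(-r_n). Stated here with denominators cleared: the exponential series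
multiplied by Π_{n : r_n > 0} (1 - q^n t)^(r_n) equals Π_{n : r_n < 0} (1 - q^n t)^(-r_n) (each
factor 1 - q^n t is a unit, so this is equivalent). -/
theorem result (R : LaurentPolynomial ℤ) (q : ℤ) (hq : 1 < q) :
    (PowerSeries.exp ℚ).subst
        (PowerSeries.mk fun v : ℕ => if v = 0 then (0 : ℚ)
          else (R.coeff.sum fun (n : ℤ) (r : ℤ) => (r : ℚ) * (q : ℚ) ^ (n * (v : ℤ))) / (v : ℚ))
      * ∏ n ∈ R.coeff.support, (1 - PowerSeries.C ((q : ℚ) ^ n) * PowerSeries.X) ^ (R.coeff n).toNat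
    = ∏ n ∈ R.coeff.support, (1 - PowerSeries.C ((q : ℚ) ^ n) * PowerSeries.X) ^ (-(R.coeff n)).toNat := by
  classical
  open PowerSeries Groth.Agent.H9Dlog in
  set L : ℚ⟦X⟧ := PowerSeries.mk fun v : ℕ => if v = 0 then (0 : ℚ)
          else (R.coeff.sum fun (n : ℤ) (r : ℤ) => (r : ℚ) * (q : ℚ) ^ (n * (v : ℤ))) / (v : ℚ)
    with hLdef
  have hL0 : PowerSeries.constantCoeff L = 0 := by
    rw [← PowerSeries.coeff_zero_eq_constantCoeff_apply, hLdef, PowerSeries.coeff_mk, if_pos rfl]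
  let Gs : ℤ → ℚ⟦X⟧ := fun n => PowerSeries.mk fun v : ℕ => ((q : ℚ) ^ n) ^ (v + 1)
  have hDL : d⁄dX ℚ L = ∑ n ∈ R.coeff.support, ((R.coeff n : ℤ) : ℚ⟦X⟧) * Gs n := by
    ext v
    rw [coeff_derivative, hLdef, coeff_mk, if_neg (Nat.succ_ne_zero v), map_sum, Finsupp.sum]
    have hv : ((v : ℚ) + 1) ≠ 0 := by positivity
    have hv' : (((v + 1 : ℕ)) : ℚ) = (v : ℚ) + 1 := by push_cast; ring
    rw [hv', div_mul_cancel₀ _ hv]
    refine Finset.sum_congr rfl fun n _ => ?_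
    rw [← map_intCast (C (R := ℚ)), coeff_C_mul, coeff_mk, zpow_mul, zpow_natCast]
  have hA : ∀ n : ℤ, d⁄dX ℚ (1 - C ((q : ℚ) ^ n) * X) =
      (1 - C ((q : ℚ) ^ n) * X) * (-(Gs n)) := fun n => dlog_one_sub _
  have hF := dlog_mul (dlog_exp_subst hL0) (dlog_prod R.coeff.support
    (fun n => (1 - C ((q : ℚ) ^ n) * X) ^ (R.coeff n).toNat)
    (fun n => (R.coeff n).toNat • (-(Gs n))) (fun n _ => dlog_pow (hA n) _))
  have hG := dlog_prod R.coeff.support
    (fun n => (1 - C ((q : ℚ) ^ n) * X) ^ (-(R.coeff n)).toNat)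
    (fun n => (-(R.coeff n)).toNat • (-(Gs n))) (fun n _ => dlog_pow (hA n) _)
  have hg : d⁄dX ℚ L + ∑ n ∈ R.coeff.support, (R.coeff n).toNat • (-(Gs n)) =
      ∑ n ∈ R.coeff.support, (-(R.coeff n)).toNat • (-(Gs n)) := by
    rw [hDL, ← Finset.sum_add_distrib]
    refine Finset.sum_congr rfl fun n _ => ?_
    have := Int.toNat_sub_toNat_neg (R.coeff n)
    have h' : ((R.coeff n : ℤ) : ℚ⟦X⟧) =
        (((R.coeff n).toNat : ℕ) : ℚ⟦X⟧) - (((-(R.coeff n)).toNat : ℕ) : ℚ⟦X⟧) := by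
      conv_lhs => rw [← this]
      push_cast; ring
    rw [h', nsmul_eq_mul, nsmul_eq_mul]; ring
  rw [hg] at hF
  refine dlog_unique hF hG ?_
  rw [map_mul, constantCoeff_exp_subst hL0, map_prod, map_prod, one_mul]
  simp

end Groth.Agent.S14192
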