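import Groth.Statements.S14205
import Mathlib
import Groth.Agent.Lib.helper6.BrauerCalc

set_option autoImplicit false
universe u v
open scoped TensorProduct
open Brauer Groth.Agent.Lib.helper6
set_option linter.style.haveILetI false

namespace Groth.Agent.S14205

/-- Let A be a finite-dimensional central simple algebra over a field k with period p: p is the least
positive integer for which the p-fold tensor power of A over k is a full matrix algebra over k. Then
for every r ≥ 1 the r-fold tensor power of A has period p / gcd(p, r) (the order of the r-th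
multiple of an element of order p). -/
theorem result (k : Type u) [Field k] (A : Type v) [Ring A] [Algebra k A]
    [Algebra.IsCentral k A] [IsSimpleRing A] [FiniteDimensional k A] (p : ℕ)
    (hp : CSAGal.IsPeriod k A p) (r : ℕ) (hr : 0 < r) :
    CSAGal.IsPeriod k (CSAGal.tpow k A r) (p / Nat.gcd p r) := by
  have hp0 : 0 < p := hp.1
  have key := H6_splits_tpow_iff_dvd A p hp
  have hiff : ∀ e, Curves.Splits k (CSAGal.tpow k (CSAGal.tpow k A r) e) k ↔ p ∣ r * e := by
    intro e
    rw [← key (r * e)]
    have hBr := H6_tpow_tpow (k := k) A r e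
    obtain ⟨c1, c2, c3⟩ := H6_csa_tpow (k := k) A r
    obtain ⟨d1, d2, d3⟩ := H6_csa_tpow (k := k) (CSAGal.tpow k A r) e
    obtain ⟨f1, f2, f3⟩ := H6_csa_tpow (k := k) A (r * e)
    exact ⟨fun h => hBr.splits h, fun h => hBr.symm.splits h⟩
  have hg : 0 < Nat.gcd p r := Nat.gcd_pos_of_pos_left r hp0
  obtain ⟨p', hp'⟩ := Nat.gcd_dvd_left p r
  obtain ⟨r', hr'⟩ := Nat.gcd_dvd_right p r
  have hcop : Nat.Coprime p' r' := by
    have := Nat.coprime_div_gcd_div_gcd hg
    rwa [Nat.div_eq_of_eq_mul_right hg hp', Nat.div_eq_of_eq_mul_right hg hr'] at this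
  have hdiv : p / Nat.gcd p r = p' := Nat.div_eq_of_eq_mul_right hg hp'
  have hp'0 : 0 < p' := by
    rcases Nat.eq_zero_or_pos p' with h | h
    · rw [h, mul_zero] at hp'
      omega
    · exact h
  rw [hdiv]
  refine ⟨hp'0, (hiff _).2 ?_, fun e' he' hlt h => ?_⟩
  · refine ⟨r', ?_⟩
    calc r * p' = Nat.gcd p r * r' * p' := by rw [← hr']
      _ = Nat.gcd p r * p' * r' := by ring
      _ = p * r' := by rw [← hp']
  · have h1 := (hiff e').1 h
    have h2 : Nat.gcd p r * p' ∣ Nat.gcd p r * (r' * e') := by
      rw [← hp', ← mul_assoc, ← hr']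
      exact h1
    have h3 : p' ∣ r' * e' := Nat.dvd_of_mul_dvd_mul_left hg h2
    have h4 : p' ∣ e' := hcop.dvd_of_dvd_mul_left h3
    exact absurd (Nat.le_of_dvd he' h4) (by omega)

end Groth.Agent.S14205
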