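import Groth.Statements.S14211
import Mathlib
import Groth.Agent.Lib.helper6.QuatPeriod

set_option autoImplicit false
universe u v
open scoped TensorProduct
open Brauer Groth.Agent.Lib.helper6
set_option linter.style.haveILetI false

namespace Groth.Agent.S14211

/-- Let k be a field in which 2 ≠ 0 and A a finite-dimensional central simple k-algebra. Then A has
period 2 and index 2 (its Severi–Brauer variety has type (2, 2, 2m)) if and only if A is isomorphic
over k to a matrix algebra M_m(Q), m ≥ 1, over a quaternion algebra Q = (a, b)_k (the k-algebra with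
basis 1, i, j, ij, i² = a, j² = b, ij = −ji) which is a division ring; moreover such a quaternion
algebra is unique up to k-isomorphism. -/
theorem result (k : Type u) [Field k] (h2 : (2 : k) ≠ 0)
    (A : Type v) [Ring A] [Algebra k A] [Algebra.IsCentral k A] [IsSimpleRing A]
    [FiniteDimensional k A] :
    ((CSAGal.IsPeriod k A 2 ∧ CSAGal.IsIndex k A 2) ↔
      ∃ (a b : k) (m : ℕ), 0 < m ∧ (∀ x : QuaternionAlgebra k a 0 b, x ≠ 0 → IsUnit x) ∧
        Nonempty (A ≃ₐ[k] Matrix (Fin m) (Fin m) (QuaternionAlgebra k a 0 b))) ∧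
    (∀ (a b a' b' : k) (m m' : ℕ),
      (∀ x : QuaternionAlgebra k a 0 b, x ≠ 0 → IsUnit x) →
      (∀ x : QuaternionAlgebra k a' 0 b', x ≠ 0 → IsUnit x) →
      Nonempty (A ≃ₐ[k] Matrix (Fin m) (Fin m) (QuaternionAlgebra k a 0 b)) →
      Nonempty (A ≃ₐ[k] Matrix (Fin m') (Fin m') (QuaternionAlgebra k a' 0 b')) →
      Nonempty (QuaternionAlgebra k a 0 b ≃ₐ[k] QuaternionAlgebra k a' 0 b')) := by
  classical
  have hdiv : ∀ (a b : k), (∀ x : QuaternionAlgebra k a 0 b, x ≠ 0 → IsUnit x) →
      ∀ x : QuaternionAlgebra k a 0 b, IsUnit x ∨ x = 0 := by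
    intro a b h x
    by_cases hx : x = 0
    · exact Or.inr hx
    · exact Or.inl (h x hx)
  have hfr : ∀ a b : k, Module.finrank k (QuaternionAlgebra k a 0 b) = 4 :=
    fun a b => QuaternionAlgebra.finrank_eq_four a 0 b
  haveI hfd : ∀ a b : k, FiniteDimensional k (QuaternionAlgebra k a 0 b) := fun a b =>
    Module.finite_of_finrank_pos (by rw [hfr]; norm_num)
  have hAnt : Nontrivial A := inferInstance
  refine ⟨⟨?_, ?_⟩, ?_⟩
  · -- period 2 and index 2 ⇒ matrices over a division quaternion algebra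
    rintro ⟨-, hidx⟩
    obtain ⟨-, m, D, _, _, hm, hd, ⟨e⟩⟩ := hidx
    haveI : NeZero m := ⟨hm.ne'⟩
    haveI : Algebra.IsCentral k (Matrix (Fin m) (Fin m) D) := H6_isCentral_of_algEquiv e
    haveI : Algebra.IsCentral k D := H6_isCentral_of_matrix m
    obtain ⟨a, b, ⟨ε⟩⟩ := H6_quat_of_dim4 h2 (D := D) (by rw [hd]; norm_num)
    refine ⟨a, b, m, hm, ?_, ⟨e.trans (AlgEquiv.mapMatrix ε.symm)⟩⟩
    intro x hx
    have h1 : ε x ≠ 0 := fun h => hx (by rw [← ε.symm_apply_apply x, h, map_zero])
    have h3 := (IsUnit.mk0 _ h1).map ε.symm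
    rwa [ε.symm_apply_apply] at h3
  · rintro ⟨a, b, m, hm, hQ, ⟨e⟩⟩
    letI : DivisionRing (QuaternionAlgebra k a 0 b) := DivisionRing.ofIsUnitOrEqZero (hdiv a b hQ)
    haveI : NeZero m := ⟨hm.ne'⟩
    haveI : Algebra.IsCentral k (Matrix (Fin m) (Fin m) (QuaternionAlgebra k a 0 b)) :=
      H6_isCentral_of_algEquiv e
    haveI : Algebra.IsCentral k (QuaternionAlgebra k a 0 b) := H6_isCentral_of_matrix m
    have hBr : H6_BrEq k A (QuaternionAlgebra k a 0 b) :=
      (H6_BrEq.of_algEquiv e).trans (H6_BrEq.matrix _ m hm.ne')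
    constructor
    · refine ⟨by norm_num, ?_, ?_⟩
      · obtain ⟨c1, c2, c3⟩ := H6_csa_tpow (k := k) A 2
        rw [← H6_brEq_self_iff_splits]
        exact (hBr.tpow_congr 2).trans (H6_tpow_two_triv _ QuaternionAlgebra.starAe)
      · intro e' he' hlt hsp
        have he1 : e' = 1 := by omega
        subst he1
        have h1 : Curves.Splits k A k := H6_splits_of_algEquiv (H6_tpowOne k A) hsp
        rw [H6_splits_self_iff] at h1
        obtain ⟨r, hr, ⟨φ⟩⟩ := h1
        obtain ⟨-, h3⟩ := H6_wedderburn_unique_dim m r hm.ne' hr (e.symm.trans φ)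
        rw [hfr, Module.finrank_self] at h3
        norm_num at h3
    · obtain ⟨d, hd⟩ := H6_exists_isIndex (k := k) A
      have hd' := hd
      obtain ⟨hd0, m'', D'', _, _, hm'', hd'', ⟨e''⟩⟩ := hd'
      haveI : FiniteDimensional k D'' := Module.finite_of_finrank_pos (by rw [hd'']; positivity)
      obtain ⟨-, h3⟩ := H6_wedderburn_unique_dim m m'' hm.ne' hm''.ne' (e.symm.trans e'')
      rw [hfr, hd''] at h3
      have h4 : d = 2 := by
        have : d ^ 2 = 2 ^ 2 := by rw [← h3]; norm_num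
        exact Nat.pow_left_injective (by norm_num : 2 ≠ 0) this
      rw [← h4]
      exact hd
  · intro a b a' b' m m' hQ hQ' ⟨e⟩ ⟨e'⟩
    letI : DivisionRing (QuaternionAlgebra k a 0 b) := DivisionRing.ofIsUnitOrEqZero (hdiv a b hQ)
    letI : DivisionRing (QuaternionAlgebra k a' 0 b') :=
      DivisionRing.ofIsUnitOrEqZero (hdiv a' b' hQ')
    have hm : m ≠ 0 := by
      rintro rfl
      exact not_subsingleton A e.toEquiv.subsingleton
    have hm' : m' ≠ 0 := by
      rintro rfl
      exact not_subsingleton A e'.toEquiv.subsingleton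
    haveI : NeZero m := ⟨hm⟩
    haveI : NeZero m' := ⟨hm'⟩
    haveI : Algebra.IsCentral k (Matrix (Fin m) (Fin m) (QuaternionAlgebra k a 0 b)) :=
      H6_isCentral_of_algEquiv e
    haveI : Algebra.IsCentral k (QuaternionAlgebra k a 0 b) := H6_isCentral_of_matrix m
    haveI : Algebra.IsCentral k (Matrix (Fin m') (Fin m') (QuaternionAlgebra k a' 0 b')) :=
      H6_isCentral_of_algEquiv e'
    haveI : Algebra.IsCentral k (QuaternionAlgebra k a' 0 b') := H6_isCentral_of_matrix m'
    obtain ⟨hmm, -⟩ := H6_wedderburn_unique_dim m m' hm hm' (e.symm.trans e')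
    subst hmm
    exact Groth.Agent.S13268.result k _ _ m hm (e.symm.trans e')

end Groth.Agent.S14211
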