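import Groth.Statements.S14256
import Mathlib
import Groth.Agent.Lib.helper7.PRad

set_option autoImplicit false
universe u
open FrobAlg

namespace Groth.Agent.S14256

/-- Let p be a prime, φ : A → B a map of commutative rings of characteristic p, i : A → A' and j : B →
B' perfect closures (A', B' perfect rings of characteristic p, every element of A' resp. B' has a
p^n-th power in the image of i resp. j, the kernels of i and j consist of nilpotent elements), and
φ' : A' → B' the induced map, φ' ∘ i = j ∘ φ. Then φ is integral if and only if φ' is integral. (The
published statement is that a morphism of schemes over the prime field is integral exactly when its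
perfection is; this row is its affine case, to which the published proof reduces.) -/
theorem result (p : ℕ) [Fact p.Prime]
    {A B A' B' : Type u} [CommRing A] [CommRing B] [CommRing A'] [CommRing B']
    [CharP A p] [CharP B p] [CharP A' p] [CharP B' p] [PerfectRing A' p] [PerfectRing B' p]
    (φ : A →+* B) (i : A →+* A') (j : B →+* B') [IsPerfectClosure i p] [IsPerfectClosure j p]
    (φ' : A' →+* B') (hφ : φ'.comp i = j.comp φ) : φ.IsIntegral ↔ φ'.IsIntegral := by
  have hi : i.IsIntegral := Groth.Agent.Lib.helper7.H7_pradical_integral p i
  have hj : j.IsIntegral := Groth.Agent.Lib.helper7.H7_pradical_integral p j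
  constructor
  · intro h
    have h1 : (j.comp φ).IsIntegral := RingHom.IsIntegral.trans _ _ h hj
    rw [← hφ] at h1
    intro x
    exact RingHom.IsIntegralElem.of_comp (h1 x)
  · intro h
    have h1 : (φ'.comp i).IsIntegral := RingHom.IsIntegral.trans _ _ hi h
    rw [hφ] at h1
    intro b
    obtain ⟨Q, hQ, hQ0⟩ := h1 (j b)
    rw [← Polynomial.hom_eval₂] at hQ0
    have hker : Polynomial.eval₂ φ b Q ∈ RingHom.ker j := hQ0
    have := IsPRadical.ker_le j p hker
    rw [mem_pNilradical] at this
    obtain ⟨m, hm⟩ := this
    refine ⟨Q ^ p ^ m, hQ.pow _, ?_⟩
    rw [Polynomial.eval₂_pow, hm]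

end Groth.Agent.S14256
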