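import Groth.Statements.S14280
import Mathlib

set_option autoImplicit false
universe u
open SpSeq

namespace Groth.Agent.S14280

/-- Let E^{p,q} (p, q ≥ 0) be finite-dimensional complex vector spaces each carrying an endomorphism Φ,
and suppose that for a natural number N and functions a, c ≥ 0 (real) and b, d (natural numbers) one
has E^{p,q} = 0 for q > N, |μ| ≤ a(q)c(p) for every eigenvalue μ of Φ on E^{p,q}, and dim E^{p,q} ≤
b(q)d(p). If Σ_p c(p)d(p) converges then the family of traces tr(Φ | E^{p,q}) is absolutely summable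
over all pairs (p, q). (The published statement takes a and b defined on {0, …, N} only; here they
are functions on all natural numbers, which changes nothing since E^{p,q} = 0 for q > N.) -/
theorem result
    (E : ℕ → ℕ → Type u) [∀ p q, AddCommGroup (E p q)] [∀ p q, Module ℂ (E p q)]
    [∀ p q, FiniteDimensional ℂ (E p q)] (Φ : ∀ p q, E p q →ₗ[ℂ] E p q)
    (N : ℕ) (a c : ℕ → ℝ) (b d : ℕ → ℕ) (ha : ∀ q, 0 ≤ a q) (hc : ∀ p, 0 ≤ c p)
    (h1 : ∀ p q, N < q → Subsingleton (E p q))
    (h2 : ∀ p q (μ : ℂ), Module.End.HasEigenvalue (Φ p q) μ → ‖μ‖ ≤ a q * c p)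
    (h3 : ∀ p q, Module.finrank ℂ (E p q) ≤ b q * d p)
    (hsum : Summable fun p : ℕ => c p * (d p : ℝ)) :
    Summable fun pq : ℕ × ℕ => ‖LinearMap.trace ℂ (E pq.1 pq.2) (Φ pq.1 pq.2)‖ := by
  classical
  have hb1 : ∀ p q, ‖LinearMap.trace ℂ (E p q) (Φ p q)‖
      ≤ (Module.finrank ℂ (E p q) : ℝ) * (a q * c p) := by
    intro p q
    have hsp : (Φ p q).charpoly.Splits := IsAlgClosed.splits _
    rw [Module.End.trace_eq_sum_roots_charpoly_of_splits hsp]
    have hroots : ∀ μ ∈ (Φ p q).charpoly.roots, ‖μ‖ ≤ a q * c p := by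
      intro μ hμ
      have hr : (Φ p q).charpoly.IsRoot μ := Polynomial.isRoot_of_mem_roots hμ
      exact h2 p q μ ((Module.End.hasEigenvalue_iff_isRoot_charpoly _ _).2 hr)
    calc ‖(Φ p q).charpoly.roots.sum‖ ≤ ((Φ p q).charpoly.roots.map norm).sum :=
          norm_multiset_sum_le _
      _ ≤ Multiset.card ((Φ p q).charpoly.roots.map norm) • (a q * c p) := by
          apply Multiset.sum_le_card_nsmul
          intro x hx
          obtain ⟨μ, hμ, rfl⟩ := Multiset.mem_map.1 hx
          exact hroots μ hμ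
      _ = (Multiset.card (Φ p q).charpoly.roots : ℝ) * (a q * c p) := by
          rw [Multiset.card_map, nsmul_eq_mul]
      _ ≤ (Module.finrank ℂ (E p q) : ℝ) * (a q * c p) := by
          apply mul_le_mul_of_nonneg_right _ (mul_nonneg (ha q) (hc p))
          have : Multiset.card (Φ p q).charpoly.roots ≤ Module.finrank ℂ (E p q) :=
            (Polynomial.card_roots' _).trans (LinearMap.charpoly_natDegree _).le
          exact_mod_cast this
  let f : ℕ → ℝ := fun p => c p * (d p : ℝ)
  let g : ℕ → ℝ := fun q => if q ≤ N then (b q : ℝ) * a q else 0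
  have hg : Summable g :=
    summable_of_ne_finset_zero (s := Finset.range (N + 1))
      (fun q hq => if_neg (fun hle => hq (Finset.mem_range.2 (Nat.lt_succ_of_le hle))))
  have hf0 : 0 ≤ f := fun p => mul_nonneg (hc p) (Nat.cast_nonneg _)
  have hg0 : 0 ≤ g := fun q => by
    show 0 ≤ (if q ≤ N then (b q : ℝ) * a q else 0)
    split_ifs
    · exact mul_nonneg (Nat.cast_nonneg _) (ha q)
    · exact le_refl _
  have hmaj : Summable (fun x : ℕ × ℕ => f x.1 * g x.2) :=
    Summable.mul_of_nonneg hsum hg hf0 hg0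
  refine Summable.of_nonneg_of_le (fun _ => norm_nonneg _) (fun pq => ?_) hmaj
  obtain ⟨p, q⟩ := pq
  show ‖LinearMap.trace ℂ (E p q) (Φ p q)‖
    ≤ c p * (d p : ℝ) * (if q ≤ N then (b q : ℝ) * a q else 0)
  by_cases hq : q ≤ N
  · rw [if_pos hq]
    calc ‖LinearMap.trace ℂ (E p q) (Φ p q)‖
        ≤ (Module.finrank ℂ (E p q) : ℝ) * (a q * c p) := hb1 p q
      _ ≤ ((b q * d p : ℕ) : ℝ) * (a q * c p) :=
          mul_le_mul_of_nonneg_right (by exact_mod_cast h3 p q) (mul_nonneg (ha q) (hc p))
      _ = c p * (d p : ℝ) * ((b q : ℝ) * a q) := by push_cast; ring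
  · rw [if_neg hq, mul_zero]
    haveI := h1 p q (not_le.1 hq)
    have h0 : Module.finrank ℂ (E p q) = 0 := Module.finrank_zero_of_subsingleton
    have := hb1 p q
    rw [h0, Nat.cast_zero, zero_mul] at this
    exact this

end Groth.Agent.S14280
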