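import Groth.Statements.S14295
import Mathlib

set_option autoImplicit false
universe u v
open PtDeg

namespace Groth.Agent.S14295

/-- Let A and G be abelian groups, written additively, and f : A → G a map which is pointed of degree 2,
that is f(x+y+z) + f(x) + f(y) + f(z) = f(x+y) + f(x+z) + f(y+z) for all x, y, z in A. Then for
every integer n and every x in A one has f(n·x) = (n(n+1)/2)·f(x) + (n(n−1)/2)·f(−x) (the two
coefficients are the integers n(n+1)/2 and n(n−1)/2). -/
theorem result {A : Type u} {G : Type v} [AddCommGroup A] [AddCommGroup G]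
    (f : A → G) (hf : ∀ x y z : A, f (x + y + z) + f x + f y + f z = f (x + y) + f (x + z) + f (y + z))
    (n : ℤ) (x : A) :
    f (n • x) = (n * (n + 1) / 2) • f x + (n * (n - 1) / 2) • f (-x) := by
  have hT : ∀ k : ℤ, 2 * (k * (k + 1) / 2) = k * (k + 1) := fun k =>
    Int.mul_ediv_cancel' (Int.even_mul_succ_self k).two_dvd
  have hS : ∀ k : ℤ, 2 * (k * (k - 1) / 2) = k * (k - 1) := fun k => by
    have h := (Int.even_mul_succ_self (k - 1)).two_dvd
    have h' : (k - 1) * (k - 1 + 1) = k * (k - 1) := by ring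
    rw [h'] at h
    exact Int.mul_ediv_cancel' h
  have hf0 : f 0 = 0 := by
    have h := hf 0 0 0
    simp only [add_zero] at h
    have h2 : f 0 = (f 0 + f 0 + f 0 + f 0) - (f 0 + f 0 + f 0) := by abel
    rw [h2, h, sub_self]
  -- recurrence
  have hrec : ∀ c : ℤ, f ((c + 1) • x) + f ((c - 1) • x) = f (c • x) + f (c • x) + f x + f (-x) := by
    intro c
    have h := hf (c • x) x (-x)
    have e1 : c • x + x + -x = c • x := by abel
    have e2 : c • x + x = (c + 1) • x := by rw [add_smul, one_smul]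
    have e3 : c • x + -x = (c - 1) • x := by rw [sub_smul, one_smul, sub_eq_add_neg]
    have e4 : x + -x = 0 := by abel
    rw [e1, e2, e3, e4, hf0, add_zero] at h
    exact h.symm
  set P : ℤ → Prop := fun k => f (k • x) = (k * (k + 1) / 2) • f x + (k * (k - 1) / 2) • f (-x) with hP
  -- coefficient recurrences
  have cT : ∀ c : ℤ, (c + 1) * (c + 1 + 1) / 2 + (c - 1) * (c - 1 + 1) / 2 = 2 * (c * (c + 1) / 2) + 1 := by
    intro c
    have h1 := hT (c + 1); have h2 := hT c; have h3 := hT (c - 1)
    have : 2 * ((c + 1) * (c + 1 + 1) / 2 + (c - 1) * (c - 1 + 1) / 2) = 2 * (2 * (c * (c + 1) / 2) + 1) := by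
      rw [mul_add, h1, h3, mul_add, h2]; ring
    exact mul_left_cancel₀ two_ne_zero this
  have cS : ∀ c : ℤ, (c + 1) * (c + 1 - 1) / 2 + (c - 1) * (c - 1 - 1) / 2 = 2 * (c * (c - 1) / 2) + 1 := by
    intro c
    have h1 := hS (c + 1); have h2 := hS c; have h3 := hS (c - 1)
    have : 2 * ((c + 1) * (c + 1 - 1) / 2 + (c - 1) * (c - 1 - 1) / 2) = 2 * (2 * (c * (c - 1) / 2) + 1) := by
      rw [mul_add, h1, h3, mul_add, h2]; ring
    exact mul_left_cancel₀ two_ne_zero this
  -- step lemmas
  have stepUp : ∀ c : ℤ, P (c - 1) → P c → P (c + 1) := by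
    intro c h1 h2
    simp only [hP] at h1 h2 ⊢
    have hr := hrec c
    have e : f ((c + 1) • x) = f (c • x) + f (c • x) + f x + f (-x) - f ((c - 1) • x) := by
      rw [← hr]; abel
    rw [e, h1, h2]
    have a := cT c
    have b := cS c
    have a' : (c + 1) * (c + 1 + 1) / 2 = 2 * (c * (c + 1) / 2) + 1 - (c - 1) * (c - 1 + 1) / 2 := by omega
    have b' : (c + 1) * (c + 1 - 1) / 2 = 2 * (c * (c - 1) / 2) + 1 - (c - 1) * (c - 1 - 1) / 2 := by omega
    rw [a', b']
    module
  have stepDown : ∀ c : ℤ, P (c + 1) → P c → P (c - 1) := by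
    intro c h1 h2
    simp only [hP] at h1 h2 ⊢
    have hr := hrec c
    have e : f ((c - 1) • x) = f (c • x) + f (c • x) + f x + f (-x) - f ((c + 1) • x) := by
      rw [← hr]; abel
    rw [e, h1, h2]
    have a := cT c
    have b := cS c
    have a' : (c - 1) * (c - 1 + 1) / 2 = 2 * (c * (c + 1) / 2) + 1 - (c + 1) * (c + 1 + 1) / 2 := by omega
    have b' : (c - 1) * (c - 1 - 1) / 2 = 2 * (c * (c - 1) / 2) + 1 - (c + 1) * (c + 1 - 1) / 2 := by omega
    rw [a', b']
    module
  have hP0 : P 0 := by simp [hP, hf0]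
  have hP1 : P 1 := by simp [hP]
  have key : ∀ k : ℤ, P k ∧ P (k + 1) := by
    intro k
    induction k using Int.induction_on with
    | zero => exact ⟨hP0, by simpa using hP1⟩
    | succ i ih =>
      refine ⟨ih.2, ?_⟩
      have := stepUp ((i : ℤ) + 1) (by simpa using ih.1) ih.2
      exact this
    | pred i ih =>
      refine ⟨?_, by simpa using ih.1⟩
      have := stepDown (-(i : ℤ)) ih.2 ih.1
      exact this
  exact (key n).1

end Groth.Agent.S14295
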