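import Groth.Statements.S14294
import Mathlib
import Groth.Agent.S14295

set_option autoImplicit false
universe u v
open PtDeg

namespace Groth.Agent.S14294

/-- Let A and G be abelian groups, written additively, and f : A → G a map which is pointed of degree 2,
that is f(x+y+z) + f(x) + f(y) + f(z) = f(x+y) + f(x+z) + f(y+z) for all x, y, z in A. If an integer
n satisfies n·x = 0 for every x in A, then 2n·f(x) = 0 for every x in A, and if moreover n is odd
then n·f(x) = 0 for every x in A. -/
theorem result {A : Type u} {G : Type v} [AddCommGroup A] [AddCommGroup G]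
    (f : A → G) (hf : ∀ x y z : A, f (x + y + z) + f x + f y + f z = f (x + y) + f (x + z) + f (y + z))
    (n : ℤ) (hn : ∀ x : A, n • x = 0) :
    (∀ x : A, (2 * n) • f x = 0) ∧ (Odd n → ∀ x : A, n • f x = 0) := by
  have hT : ∀ k : ℤ, 2 * (k * (k + 1) / 2) = k * (k + 1) := fun k =>
    Int.mul_ediv_cancel' (Int.even_mul_succ_self k).two_dvd
  have hS : ∀ k : ℤ, 2 * (k * (k - 1) / 2) = k * (k - 1) := fun k => by
    have h := (Int.even_mul_succ_self (k - 1)).two_dvd
    have h' : (k - 1) * (k - 1 + 1) = k * (k - 1) := by ring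
    rw [h'] at h
    exact Int.mul_ediv_cancel' h
  have hf0 : f 0 = 0 := by
    have h := hf 0 0 0
    simp only [add_zero] at h
    have h2 : f 0 = (f 0 + f 0 + f 0 + f 0) - (f 0 + f 0 + f 0) := by abel
    rw [h2, h, sub_self]
  set T := n * (n + 1) / 2 with hTdef
  set S := n * (n - 1) / 2 with hSdef
  have hTS : T = S + n := by
    have h1 := hT n; have h2 := hS n
    have : 2 * T = 2 * (S + n) := by rw [mul_add, h1, h2]; ring
    exact mul_left_cancel₀ two_ne_zero this
  -- T' = (n+1)(n+2)/2 = T + n + 1, S' = (n+1) n / 2 = T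
  have hT' : (n + 1) * (n + 1 + 1) / 2 = T + n + 1 := by
    have h1 := hT (n + 1); have h2 := hT n
    have : 2 * ((n + 1) * (n + 1 + 1) / 2) = 2 * (T + n + 1) := by
      rw [h1]; linear_combination (-1 : ℤ) * h2
    exact mul_left_cancel₀ two_ne_zero this
  have hS' : (n + 1) * (n + 1 - 1) / 2 = T := by
    have : (n + 1) * (n + 1 - 1) = n * (n + 1) := by ring
    rw [this]
  have E2 : ∀ x : A, T • f x + S • f (-x) = 0 := by
    intro x
    have := Groth.Agent.S14295.result f hf n x
    rw [hn x, hf0] at this
    exact this.symm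
  have E1 : ∀ x : A, (T + n) • f x + T • f (-x) = 0 := by
    intro x
    have := Groth.Agent.S14295.result f hf (n + 1) x
    rw [add_smul, hn x, one_smul, zero_add, hT', hS'] at this
    have h2 : (T + n) • f x + T • f (-x) = ((T + n + 1) • f x + T • f (-x)) - f x := by module
    rw [h2, ← this, sub_self]
  have main : ∀ x : A, (2 * n) • f x = 0 := by
    intro x
    have e1 := E1 x
    have e3 := E2 (-x)
    rw [neg_neg] at e3
    have : (2 * n) • f x = ((T + n) • f x + T • f (-x)) - (T • f (-x) + S • f x) := by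
      rw [hTS]; module
    rw [this, e1, e3, sub_zero]
  refine ⟨main, ?_⟩
  rintro ⟨m, hm⟩ x
  have hTm : T = n * (m + 1) := by
    have h1 := hT n
    have : 2 * T = 2 * (n * (m + 1)) := by rw [h1, hm]; ring
    exact mul_left_cancel₀ two_ne_zero this
  have hSm : S = n * m := by
    have h1 := hS n
    have : 2 * S = 2 * (n * m) := by rw [h1, hm]; ring
    exact mul_left_cancel₀ two_ne_zero this
  have e2 := E2 x
  have e3 := E2 (-x)
  rw [neg_neg] at e3
  have mx := main x
  have mx' := main (-x)
  rw [hTm, hSm] at e2 e3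
  -- u = n • f x, v = n • f (-x)
  have hu2 : (2:ℤ) • (n • f x) = 0 := by rw [smul_smul]; exact mx
  have hv2 : (2:ℤ) • (n • f (-x)) = 0 := by rw [smul_smul]; exact mx'
  have hsum : n • f x + n • f (-x) = 0 := by
    have : n • f x + n • f (-x) =
        ((n * (m + 1)) • f x + (n * m) • f (-x)) + ((n * (m + 1)) • f (-x) + (n * m) • f x)
          - m • ((2:ℤ) • (n • f x)) - m • ((2:ℤ) • (n • f (-x))) := by
      rw [hm]; module
    rw [this, e2, e3, hu2, hv2]; simp
  have : n • f x = ((n * (m + 1)) • f x + (n * m) • f (-x)) - m • (n • f x + n • f (-x)) := by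
    module
  rw [this, e2, hsum]
  simp

end Groth.Agent.S14294
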