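import Groth.Statements.S14296
import Mathlib
import Groth.Agent.S14295

set_option autoImplicit false
universe u v
open PtDeg

namespace Groth.Agent.S14296

/-- Let G and H be abelian groups, written additively, n an integer such that 2n²·x = 0 for every x in
G, and d : G → H a quadratic map, meaning that d is pointed of degree 2 (d(x+y+z) + d(x) + d(y) +
d(z) = d(x+y) + d(x+z) + d(y+z) for all x, y, z) and even (d(−x) = d(x) for all x). Then d(2n·x) = 0
for every x in G. -/
theorem result {G : Type u} {H : Type v} [AddCommGroup G] [AddCommGroup H]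
    (n : ℤ) (hn : ∀ x : G, (2 * n ^ 2) • x = 0)
    (d : G → H) (hd : ∀ x y z : G, d (x + y + z) + d x + d y + d z = d (x + y) + d (x + z) + d (y + z))
    (heven : ∀ x : G, d (-x) = d x) (x : G) :
    d ((2 * n) • x) = 0 := by
  have hT : ∀ k : ℤ, 2 * (k * (k + 1) / 2) = k * (k + 1) := fun k =>
    Int.mul_ediv_cancel' (Int.even_mul_succ_self k).two_dvd
  have hS : ∀ k : ℤ, 2 * (k * (k - 1) / 2) = k * (k - 1) := fun k => by
    have h := (Int.even_mul_succ_self (k - 1)).two_dvd
    have h' : (k - 1) * (k - 1 + 1) = k * (k - 1) := by ring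
    rw [h'] at h
    exact Int.mul_ediv_cancel' h
  have hd0 : d 0 = 0 := by
    have h := hd 0 0 0
    simp only [add_zero] at h
    have h2 : d 0 = (d 0 + d 0 + d 0 + d 0) - (d 0 + d 0 + d 0) := by abel
    rw [h2, h, sub_self]
  -- d (N • x) = N^2 • d x
  have hsq : ∀ (N : ℤ) (y : G), d (N • y) = (N ^ 2) • d y := by
    intro N y
    have := Groth.Agent.S14295.result d hd N y
    rw [heven, ← add_smul] at this
    rw [this]
    congr 1
    have h1 := hT N; have h2 := hS N
    have : 2 * (N * (N + 1) / 2 + N * (N - 1) / 2) = 2 * N ^ 2 := by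
      rw [mul_add, h1, h2]; ring
    exact mul_left_cancel₀ two_ne_zero this
  -- bilinear form
  set B : G → G → H := fun a b => d (a + b) - d a - d b with hB
  have Badd : ∀ a a' z : G, B (a + a') z = B a z + B a' z := by
    intro a a' z
    simp only [hB]
    have h := hd a a' z
    have : d (a + a' + z) = d (a + a') + d (a + z) + d (a' + z) - d a - d a' - d z := by
      rw [← h]; abel
    rw [this]; abel
  have B0 : ∀ z : G, B 0 z = 0 := by
    intro z; simp [hB, hd0]
  have Bneg : ∀ a z : G, B (-a) z = - B a z := by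
    intro a z
    have h := Badd a (-a) z
    rw [add_neg_cancel, B0] at h
    exact (neg_eq_of_add_eq_zero_right h.symm).symm
  have Bnat : ∀ (k : ℕ) (a z : G), B (k • a) z = k • B a z := by
    intro k a z
    induction k with
    | zero => simp [B0]
    | succ k ih => rw [succ_nsmul, Badd, ih, succ_nsmul]
  have Bint : ∀ (N : ℤ) (a z : G), B (N • a) z = N • B a z := by
    intro N a z
    cases N with
    | ofNat k => simpa using Bnat k a z
    | negSucc k =>
      rw [negSucc_zsmul, negSucc_zsmul, Bneg, Bnat]
  have hBxx : B x x = (2 : ℤ) • d x := by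
    simp only [hB]
    have h2 : x + x = (2 : ℤ) • x := by rw [two_smul]
    rw [h2, hsq]
    module
  have h1 : d ((2 * n) • x) = (2 * n ^ 2) • B x x := by
    rw [hsq, hBxx, smul_smul]
    congr 1; ring
  rw [h1, ← Bint, hn x, B0]

end Groth.Agent.S14296
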