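import Groth.Statements.S14305
import Mathlib

set_option autoImplicit false
universe u v
open PtDeg

namespace Groth.Agent.S14305

theorem sum_powerset_image {ι κ M : Type*} [DecidableEq ι] [DecidableEq κ] [AddCommMonoid M]
    (e : ι → κ) (he : Function.Injective e) (s : Finset ι) (g : Finset κ → M) :
    ∑ I ∈ (s.image e).powerset, g I = ∑ J ∈ s.powerset, g (J.image e) := by
  rw [Finset.powerset_image]
  exact Finset.sum_image (fun a _ b _ hab => Finset.image_injective he hab)

theorem star {A : Type*} {G : Type*} [AddCommGroup A] [AddCommGroup G] {n : ℕ} (f : A → G) (c : ℕ)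
    (j : Fin n) (y : Fin n → A) (w : A) :
    ∑ J ∈ (Finset.univ : Finset (Fin n)).powerset,
        ((-1 : ℤ) ^ (c + J.card)) • f (∑ i ∈ J, Function.update y j w i) =
    ∑ J ∈ ((Finset.univ : Finset (Fin n)).erase j).powerset,
      (((-1 : ℤ) ^ (c + J.card)) • f (∑ i ∈ J, y i) +
        ((-1 : ℤ) ^ (c + (J.card + 1))) • f (w + ∑ i ∈ J, y i)) := by
  classical
  have hu : (Finset.univ : Finset (Fin n)) = insert j (Finset.univ.erase j) :=
    (Finset.insert_erase (Finset.mem_univ j)).symm
  conv_lhs => rw [hu]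
  rw [Finset.sum_powerset_insert (Finset.notMem_erase j _), ← Finset.sum_add_distrib]
  apply Finset.sum_congr rfl
  intro J hJ
  have hjJ : j ∉ J := fun h => (Finset.notMem_erase j Finset.univ) (Finset.mem_powerset.mp hJ h)
  have h1 : ∑ i ∈ J, Function.update y j w i = ∑ i ∈ J, y i := by
    apply Finset.sum_congr rfl
    intro i hi
    apply Function.update_of_ne
    rintro rfl
    exact hjJ hi
  rw [Finset.sum_insert hjJ, Finset.card_insert_of_notMem hjJ, h1, Function.update_self]

theorem snocdec {A : Type*} {G : Type*} [AddCommGroup A] [AddCommGroup G] {n : ℕ} (f : A → G) (c : ℕ)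
    (x : Fin (n + 1) → A) :
    ∑ I ∈ (Finset.univ : Finset (Fin (n + 1))).powerset,
        ((-1 : ℤ) ^ (c + I.card)) • f (∑ i ∈ I, x i) =
    ∑ J ∈ (Finset.univ : Finset (Fin n)).powerset,
        ((-1 : ℤ) ^ (c + J.card)) • f (∑ i ∈ J, x (Fin.castSucc i)) +
    ∑ J ∈ (Finset.univ : Finset (Fin n)).powerset,
        ((-1 : ℤ) ^ (c + 1 + J.card)) • f (x (Fin.last n) + ∑ i ∈ J, x (Fin.castSucc i)) := by
  classical
  have hu : (Finset.univ : Finset (Fin (n + 1))) =
      insert (Fin.last n) ((Finset.univ : Finset (Fin n)).image Fin.castSucc) := by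
    rw [Fin.image_castSucc]
    ext i
    by_cases h : i = Fin.last n <;> simp [h]
  have hlast : Fin.last n ∉ (Finset.univ : Finset (Fin n)).image Fin.castSucc := by
    rw [Fin.image_castSucc]
    simp
  rw [hu, Finset.sum_powerset_insert hlast, sum_powerset_image _ (Fin.castSucc_injective n),
    sum_powerset_image _ (Fin.castSucc_injective n)]
  congr 1
  · apply Finset.sum_congr rfl
    intro J _
    rw [Finset.card_image_of_injective _ (Fin.castSucc_injective n),
      Finset.sum_image (Fin.castSucc_injective n).injOn]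
  · apply Finset.sum_congr rfl
    intro J _
    have hJ : Fin.last n ∉ J.image Fin.castSucc := by
      intro h
      obtain ⟨i, _, hi⟩ := Finset.mem_image.mp h
      exact (Fin.castSucc_lt_last i).ne hi
    have hc : c + (J.card + 1) = c + 1 + J.card := by omega
    rw [Finset.card_insert_of_notMem hJ, Finset.sum_insert hJ,
      Finset.card_image_of_injective _ (Fin.castSucc_injective n),
      Finset.sum_image (Fin.castSucc_injective n).injOn, hc]

theorem key {A : Type*} {G : Type*} [AddCommGroup A] [AddCommGroup G] (f : A → G) (n : ℕ)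
    (j : Fin n) (y : Fin n → A) (a b : A)
    (x : Fin (n + 1) → A) (hx : ∀ i : Fin n, x (Fin.castSucc i) = Function.update y j a i)
    (hxl : x (Fin.last n) = b) :
    ∑ I ∈ ((Finset.univ : Finset (Fin (n + 1))).powerset.erase ∅),
        ((-1 : ℤ) ^ (n + 1 + I.card)) • f (∑ i ∈ I, x i) =
      ∑ I ∈ ((Finset.univ : Finset (Fin n)).powerset.erase ∅),
          ((-1 : ℤ) ^ (n + I.card)) • f (∑ i ∈ I, (Function.update y j (a + b)) i)
      - ∑ I ∈ ((Finset.univ : Finset (Fin n)).powerset.erase ∅),
          ((-1 : ℤ) ^ (n + I.card)) • f (∑ i ∈ I, (Function.update y j a) i)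
      - ∑ I ∈ ((Finset.univ : Finset (Fin n)).powerset.erase ∅),
          ((-1 : ℤ) ^ (n + I.card)) • f (∑ i ∈ I, (Function.update y j b) i) := by
  classical
  have hE : ∑ I ∈ (Finset.univ : Finset (Fin (n + 1))).powerset,
        ((-1 : ℤ) ^ (n + 1 + I.card)) • f (∑ i ∈ I, x i) =
      ∑ I ∈ (Finset.univ : Finset (Fin n)).powerset,
          ((-1 : ℤ) ^ (n + I.card)) • f (∑ i ∈ I, (Function.update y j (a + b)) i)
      - ∑ I ∈ (Finset.univ : Finset (Fin n)).powerset,
          ((-1 : ℤ) ^ (n + I.card)) • f (∑ i ∈ I, (Function.update y j a) i)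
      - ∑ I ∈ (Finset.univ : Finset (Fin n)).powerset,
          ((-1 : ℤ) ^ (n + I.card)) • f (∑ i ∈ I, (Function.update y j b) i) := by
    rw [snocdec f (n + 1) x]
    simp only [hx, hxl]
    have h2 := star (fun t => f (b + t)) (n + 1 + 1) j y a
    beta_reduce at h2
    rw [star f (n + 1) j y a, h2, star f n j y (a + b), star f n j y a, star f n j y b]
    rw [← Finset.sum_add_distrib, ← Finset.sum_sub_distrib, ← Finset.sum_sub_distrib]
    apply Finset.sum_congr rfl
    intro J _
    have e1 : ((-1 : ℤ)) ^ (n + 1 + J.card) = -((-1) ^ (n + J.card)) := by ring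
    have e2 : ((-1 : ℤ)) ^ (n + 1 + (J.card + 1)) = (-1) ^ (n + J.card) := by ring
    have e3 : ((-1 : ℤ)) ^ (n + 1 + 1 + J.card) = (-1) ^ (n + J.card) := by ring
    have e4 : ((-1 : ℤ)) ^ (n + 1 + 1 + (J.card + 1)) = -((-1) ^ (n + J.card)) := by ring
    have e5 : ((-1 : ℤ)) ^ (n + (J.card + 1)) = -((-1) ^ (n + J.card)) := by ring
    have hab : b + (a + ∑ i ∈ J, y i) = a + b + ∑ i ∈ J, y i := by abel
    rw [e1, e2, e3, e4, e5, hab]
    simp only [neg_smul]
    abel
  rw [Finset.sum_erase_eq_sub (Finset.empty_mem_powerset _),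
    Finset.sum_erase_eq_sub (Finset.empty_mem_powerset _),
    Finset.sum_erase_eq_sub (Finset.empty_mem_powerset _),
    Finset.sum_erase_eq_sub (Finset.empty_mem_powerset _), hE]
  simp only [Finset.card_empty, Finset.sum_empty, add_zero]
  have e6 : ((-1 : ℤ)) ^ (n + 1) = -((-1) ^ n) := by ring
  rw [e6]
  simp only [neg_smul]
  abel

/-- Let A and G be abelian groups, written additively, f : A → G a map and n ≥ 1. For k ≥ 0 the k-th
deviation of f is the map A^k → G, (y_1, …, y_k) ↦ Σ_{∅ ≠ I ⊆ {1,…,k}} (−1)^{k+|I|} f(Σ_{i ∈ I}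
y_i). Then f is pointed of degree n, meaning that its (n+1)-st deviation vanishes identically, if
and only if its n-th deviation is additive in each variable separately (with the other variables
fixed). -/
theorem result {A : Type u} {G : Type v} [AddCommGroup A] [AddCommGroup G]
    (f : A → G) (n : ℕ) (hn : 1 ≤ n) :
    (∀ x : Fin (n + 1) → A, ∑ I ∈ ((Finset.univ : Finset (Fin (n + 1))).powerset.erase ∅), ((-1 : ℤ) ^ (n + 1 + I.card)) • f (∑ i ∈ I, x i) = 0) ↔
      (∀ (j : Fin n) (y : Fin n → A) (a b : A),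
        ∑ I ∈ ((Finset.univ : Finset (Fin n)).powerset.erase ∅), ((-1 : ℤ) ^ (n + I.card)) • f (∑ i ∈ I, (Function.update y j (a + b)) i) =
          ∑ I ∈ ((Finset.univ : Finset (Fin n)).powerset.erase ∅), ((-1 : ℤ) ^ (n + I.card)) • f (∑ i ∈ I, (Function.update y j a) i) + ∑ I ∈ ((Finset.univ : Finset (Fin n)).powerset.erase ∅), ((-1 : ℤ) ^ (n + I.card)) • f (∑ i ∈ I, (Function.update y j b) i)) := by
  constructor
  · intro hD j y a b
    have hk := key f n j y a b (@Fin.snoc n (fun _ => A) (Function.update y j a) b)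
      (fun i => by simp) (by simp)
    rw [hD] at hk
    exact sub_eq_iff_eq_add'.mp (sub_eq_zero.mp hk.symm)
  · intro hadd x
    have hn0 : 0 < n := hn
    have hk := key f n ⟨0, hn0⟩ (fun i => x (Fin.castSucc i)) (x (Fin.castSucc ⟨0, hn0⟩))
      (x (Fin.last n)) x (fun i => by rw [Function.update_eq_self]) rfl
    rw [hk, hadd ⟨0, hn0⟩ (fun i => x (Fin.castSucc i)) (x (Fin.castSucc ⟨0, hn0⟩)) (x (Fin.last n))]
    abel

end Groth.Agent.S14305
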