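import Groth.Statements.S14307
import Mathlib

set_option autoImplicit false
universe u v
open PtDeg

namespace Groth.Agent.S14307

/-- Let A and G be abelian groups, written additively, f : A → G a map and n ≥ 1. If a tuple x ∈ A^n has
some coordinate equal to 0, then the n-th deviation of f at x, namely Σ_{∅ ≠ I ⊆ {1,…,n}}
(−1)^{n+|I|} f(Σ_{i ∈ I} x_i), equals (−1)^{n+1} f(0). -/
theorem result {A : Type u} {G : Type v} [AddCommGroup A] [AddCommGroup G]
    (f : A → G) (n : ℕ) (hn : 1 ≤ n) (x : Fin n → A) (i : Fin n) (hx : x i = 0) :
    ∑ I ∈ ((Finset.univ : Finset (Fin n)).powerset.erase ∅), ((-1 : ℤ) ^ (n + I.card)) • f (∑ j ∈ I, x j) =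
      ((-1 : ℤ) ^ (n + 1)) • f 0 := by
  classical
  set s := (Finset.univ : Finset (Fin n)).powerset.erase ∅ with hs
  have hi : ({i} : Finset (Fin n)) ∈ s := by
    simp [hs]
  rw [← Finset.add_sum_erase s _ hi]
  have hzero : ∑ I ∈ s.erase {i}, ((-1 : ℤ) ^ (n + I.card)) • f (∑ j ∈ I, x j) = 0 := by
    refine Finset.sum_involution (fun I _ => if i ∈ I then I.erase i else insert i I) ?_ ?_ ?_ ?_
    · intro I _
      by_cases hI : i ∈ I
      · simp only [hI, if_true]
        have h1 : ∑ j ∈ I.erase i, x j = ∑ j ∈ I, x j := by
          rw [← Finset.add_sum_erase I x hI, hx, zero_add]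
        have h2 : I.card = (I.erase i).card + 1 := by
          rw [Finset.card_erase_of_mem hI]
          have := Finset.card_pos.mpr ⟨i, hI⟩
          omega
        rw [h1, h2, ← add_smul]
        have : (-1 : ℤ) ^ (n + ((I.erase i).card + 1)) + (-1) ^ (n + (I.erase i).card) = 0 := by
          rw [← add_assoc, pow_succ]; ring
        rw [this, zero_smul]
      · simp only [hI, if_false]
        have h1 : ∑ j ∈ insert i I, x j = ∑ j ∈ I, x j := by
          rw [Finset.sum_insert hI, hx, zero_add]
        rw [h1, Finset.card_insert_of_notMem hI, ← add_smul]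
        have : (-1 : ℤ) ^ (n + I.card) + (-1) ^ (n + (I.card + 1)) = 0 := by
          rw [← add_assoc, pow_succ]; ring
        rw [this, zero_smul]
    · intro I _ _ h
      by_cases hI : i ∈ I
      · simp only [hI, if_true] at h
        have : i ∈ I.erase i := by rw [h]; exact hI
        simp at this
      · simp only [hI, if_false] at h
        exact hI (h ▸ Finset.mem_insert_self i I)
    · intro I hI
      simp only [hs, Finset.mem_erase, Finset.mem_powerset, Finset.subset_univ, and_true, ne_eq] at hI ⊢
      obtain ⟨h1, h2⟩ := hI
      by_cases hiI : i ∈ I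
      · simp only [hiI, if_true]
        refine ⟨?_, ?_⟩
        · intro h
          have : i ∈ ({i} : Finset (Fin n)) := Finset.mem_singleton_self i
          rw [← h] at this
          simp at this
        · intro h
          apply h1
          rw [Finset.erase_eq_empty_iff] at h
          rcases h with h | h
          · exact absurd h h2
          · exact h
      · simp only [hiI, if_false]
        refine ⟨?_, Finset.insert_ne_empty i I⟩
        intro h
        apply h2
        ext a
        constructor
        · intro ha
          have : a ∈ insert i I := Finset.mem_insert_of_mem ha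
          rw [h, Finset.mem_singleton] at this
          exact absurd (this ▸ ha) hiI
        · intro ha; simp at ha
    · intro I _
      by_cases hI : i ∈ I
      · simp [hI, Finset.insert_erase hI]
      · simp [hI, Finset.erase_insert hI]
  rw [hzero, add_zero, Finset.sum_singleton, Finset.card_singleton, hx]

end Groth.Agent.S14307
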