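import Groth.Statements.S14309
import Mathlib
import Groth.Agent.Lib.helper7.OptDecomp

set_option autoImplicit false
universe u v w x y
open CAlg

namespace Groth.Agent.S14309

/-- Let R be a commutative ring; A, B, C commutative R-algebras; i : A → B and j : A → C jointly
injective R-algebra maps; c a non-zero-divisor of B; u : C → B/(c) a ring map with u ∘ j equal to i
followed by reduction modulo c; ζ in A with i ζ = c and j ζ = 0; η : R[X_σ, Z] → A an R-algebra map
with η(Z) = ζ; a : R[Y_τ] → B a surjective R-algebra map; η_Z : R[X_σ, Z] → R[Y_τ] a surjective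
R-algebra map with a ∘ η_Z = i ∘ η. Fix c̃ in R[Y_τ] with a(c̃) = c, a family (p_h) generating the
kernel of the composite R[X_σ] → R[X_σ, Z] → A → C, a family (q'_h) generating the kernel of a
together with lifts q_h along η_Z, a family (v_h) generating the kernel of η_Z, and elements g'_h of
R[Y_τ] with η_Z(p_h) + g'_h c̃ in the ideal (q'_h), together with lifts g_h along η_Z. Then the
kernel of η is the ideal generated by the elements Z q_h, Z v_h and p_h + Z g_h. (The published
statement is for the rings of cycle classes, with coefficients ℤ[1/6], of a smooth quotient stack, a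
smooth closed substack whose normal bundle has top Chern class c a non-zero-divisor, and the open
complement; this row states the ring-theoretic content for any such square of commutative rings in
which A embeds in B × C.) -/
theorem result
    {R : Type u} [CommRing R] {A : Type v} {B : Type w} {C : Type x}
    [CommRing A] [CommRing B] [CommRing C] [Algebra R A] [Algebra R B] [Algebra R C]
    (i : A →ₐ[R] B) (j : A →ₐ[R] C)
    (hinj : ∀ t : A, i t = 0 → j t = 0 → t = 0)
    (c : B) (hc : c ∈ nonZeroDivisors B) (u : C →+* B ⧸ Ideal.span ({c} : Set B))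
    (hu : ∀ t : A, u (j t) = Ideal.Quotient.mk (Ideal.span ({c} : Set B)) (i t))
    (ζ : A) (hiζ : i ζ = c) (hjζ : j ζ = 0)
    {σ τ ιp ιq ιv : Type y}
    (η : MvPolynomial (Option σ) R →ₐ[R] A) (hη : η (MvPolynomial.X none) = ζ)
    (a : MvPolynomial τ R →ₐ[R] B) (ha : Function.Surjective a)
    (ηZ : MvPolynomial (Option σ) R →ₐ[R] MvPolynomial τ R)
    (hcomm : ∀ t, a (ηZ t) = i (η t)) (hηZ : Function.Surjective ηZ)
    (cZ : MvPolynomial τ R) (hcZ : a cZ = c)
    (p : ιp → MvPolynomial σ R)
    (hp : Ideal.span (Set.range p) =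
      RingHom.ker ((j.comp η).comp (MvPolynomial.rename (Option.some : σ → Option σ))))
    (q' : ιq → MvPolynomial τ R) (hq' : Ideal.span (Set.range q') = RingHom.ker a)
    (q : ιq → MvPolynomial (Option σ) R) (hq : ∀ h, ηZ (q h) = q' h)
    (v : ιv → MvPolynomial (Option σ) R) (hv : Ideal.span (Set.range v) = RingHom.ker ηZ)
    (g' : ιp → MvPolynomial τ R)
    (hg' : ∀ h, ηZ (MvPolynomial.rename (Option.some : σ → Option σ) (p h)) + g' h * cZ ∈
      Ideal.span (Set.range q'))
    (g : ιp → MvPolynomial (Option σ) R) (hg : ∀ h, ηZ (g h) = g' h) :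
    RingHom.ker η = Ideal.span
      (Set.range (fun h : ιq => MvPolynomial.X none * q h) ∪
        Set.range (fun h : ιv => MvPolynomial.X none * v h) ∪
        Set.range (fun h : ιp =>
          MvPolynomial.rename (Option.some : σ → Option σ) (p h) + MvPolynomial.X none * g h)) := by
  set J := Ideal.span
      (Set.range (fun h : ιq => MvPolynomial.X none * q h) ∪
        Set.range (fun h : ιv => MvPolynomial.X none * v h) ∪
        Set.range (fun h : ιp =>
          MvPolynomial.rename (Option.some : σ → Option σ) (p h) + MvPolynomial.X none * g h)) with hJ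
  have hXker : ∀ G : MvPolynomial (Option σ) R, a (ηZ G) = 0 → η (MvPolynomial.X none * G) = 0 := by
    intro G hG
    apply hinj
    · rw [map_mul, map_mul, hη, hiζ, ← hcomm, hG, mul_zero]
    · rw [map_mul, map_mul, hη, hjζ, zero_mul]
  have hJle : J ≤ RingHom.ker η := by
    rw [hJ, Ideal.span_le]
    rintro _ ((⟨h, rfl⟩ | ⟨h, rfl⟩) | ⟨h, rfl⟩)
    · apply hXker
      rw [hq]
      have : q' h ∈ Ideal.span (Set.range q') := Ideal.subset_span ⟨h, rfl⟩
      rw [hq'] at this
      exact this
    · apply hXker
      have : v h ∈ Ideal.span (Set.range v) := Ideal.subset_span ⟨h, rfl⟩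
      rw [hv] at this
      have h0 : ηZ (v h) = 0 := this
      rw [h0, map_zero]
    · show η _ = 0
      apply hinj
      · rw [map_add, map_add, map_mul, map_mul, hη, hiζ, ← hcomm, ← hcomm, hg, ← hcZ, ← map_mul,
          ← map_add, mul_comm]
        have := hg' h
        rw [hq'] at this
        exact this
      · rw [map_add, map_add, map_mul, map_mul, hη, hjζ, zero_mul, add_zero]
        have : p h ∈ Ideal.span (Set.range p) := Ideal.subset_span ⟨h, rfl⟩
        rw [hp] at this
        exact this
  apply le_antisymm _ hJle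
  -- step 1
  have step1 : ∀ F₀ ∈ Ideal.span (Set.range p), ∃ G₀ : MvPolynomial (Option σ) R,
      MvPolynomial.rename (Option.some : σ → Option σ) F₀ + MvPolynomial.X none * G₀ ∈ J := by
    intro F₀ hF₀
    induction hF₀ using Submodule.span_induction with
    | mem x hx =>
      obtain ⟨h, rfl⟩ := hx
      exact ⟨g h, Ideal.subset_span (Or.inr ⟨h, rfl⟩)⟩
    | zero => exact ⟨0, by simp⟩
    | add x y _ _ hx hy =>
      obtain ⟨Gx, hGx⟩ := hx
      obtain ⟨Gy, hGy⟩ := hy
      refine ⟨Gx + Gy, ?_⟩
      have := J.add_mem hGx hGy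
      rw [map_add]
      convert this using 1
      ring
    | smul r x _ hx =>
      obtain ⟨Gx, hGx⟩ := hx
      refine ⟨MvPolynomial.rename (Option.some : σ → Option σ) r * Gx, ?_⟩
      have := J.mul_mem_left (MvPolynomial.rename (Option.some : σ → Option σ) r) hGx
      rw [smul_eq_mul, map_mul]
      convert this using 1
      ring
  have step3 : ∀ W ∈ Ideal.span (Set.range v), MvPolynomial.X none * W ∈ J := by
    intro W hW
    induction hW using Submodule.span_induction with
    | mem x hx =>
      obtain ⟨h, rfl⟩ := hx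
      exact Ideal.subset_span (Or.inl (Or.inr ⟨h, rfl⟩))
    | zero => simp
    | add x y _ _ hx hy => rw [mul_add]; exact J.add_mem hx hy
    | smul r x _ hx =>
      rw [smul_eq_mul, mul_left_comm]
      exact J.mul_mem_left _ hx
  have step2a : ∀ H' ∈ Ideal.span (Set.range q'), ∃ G₁ : MvPolynomial (Option σ) R,
      ηZ G₁ = H' ∧ MvPolynomial.X none * G₁ ∈ J := by
    intro H' hH'
    induction hH' using Submodule.span_induction with
    | mem x hx =>
      obtain ⟨h, rfl⟩ := hx
      exact ⟨q h, hq h, Ideal.subset_span (Or.inl (Or.inl ⟨h, rfl⟩))⟩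
    | zero => exact ⟨0, by simp, by simp⟩
    | add x y _ _ hx hy =>
      obtain ⟨Gx, hGx1, hGx2⟩ := hx
      obtain ⟨Gy, hGy1, hGy2⟩ := hy
      exact ⟨Gx + Gy, by rw [map_add, hGx1, hGy1], by rw [mul_add]; exact J.add_mem hGx2 hGy2⟩
    | smul r x _ hx =>
      obtain ⟨Gx, hGx1, hGx2⟩ := hx
      obtain ⟨r₀, hr₀⟩ := hηZ r
      refine ⟨r₀ * Gx, by rw [map_mul, hr₀, hGx1, smul_eq_mul], ?_⟩
      rw [mul_left_comm]
      exact J.mul_mem_left _ hGx2
  have step2 : ∀ G : MvPolynomial (Option σ) R, a (ηZ G) = 0 → MvPolynomial.X none * G ∈ J := by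
    intro G hG
    have h1 : ηZ G ∈ Ideal.span (Set.range q') := by rw [hq']; exact hG
    obtain ⟨G₁, hG₁, hG₁J⟩ := step2a _ h1
    have h2 : G - G₁ ∈ Ideal.span (Set.range v) := by
      rw [hv]
      show ηZ (G - G₁) = 0
      rw [map_sub, hG₁, sub_self]
    have := J.add_mem hG₁J (step3 _ h2)
    convert this using 1
    ring
  intro F hF
  have hF0 : η F = 0 := hF
  obtain ⟨F₀, F₁, rfl⟩ := Groth.Agent.Lib.helper7.H7_option_decomp F
  have hF₀ : F₀ ∈ Ideal.span (Set.range p) := by
    rw [hp]
    show j (η (MvPolynomial.rename (Option.some : σ → Option σ) F₀)) = 0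
    have := congrArg j hF0
    rw [map_add, map_add, map_mul, map_mul, hη, hjζ, zero_mul, add_zero, map_zero] at this
    exact this
  obtain ⟨G₀, hG₀⟩ := step1 F₀ hF₀
  have h3 : η (MvPolynomial.X none * (F₁ - G₀)) = 0 := by
    have h4 : η (MvPolynomial.rename (Option.some : σ → Option σ) F₀ + MvPolynomial.X none * G₀) = 0 :=
      hJle hG₀
    have : MvPolynomial.X none * (F₁ - G₀) =
        (MvPolynomial.rename (Option.some : σ → Option σ) F₀ + MvPolynomial.X none * F₁) -
        (MvPolynomial.rename (Option.some : σ → Option σ) F₀ + MvPolynomial.X none * G₀) := by ring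
    rw [this, map_sub, hF0, h4, sub_zero]
  have h5 : a (ηZ (F₁ - G₀)) = 0 := by
    have := congrArg i h3
    rw [map_mul, map_mul, hη, hiζ, map_zero, ← hcomm] at this
    rw [mul_comm] at this
    exact (mem_nonZeroDivisors_iff_right.mp hc) _ this
  have h6 := step2 _ h5
  have := J.add_mem hG₀ h6
  convert this using 1
  ring

end Groth.Agent.S14309
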