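import Groth.Statements.S1434
import Groth.Agent.Lib.helper1.SqZero

set_option autoImplicit false
universe u
open FlatMor

namespace Groth.Agent.S1434

open AlgebraicGeometry CategoryTheory Limits in
/-- Part (1), for a closed subscheme: let Z ⊂ X be the closed subscheme cut out by an ideal sheaf I and
Z' the one cut out by I², its first order infinitesimal neighbourhood. Given a first order
thickening T → T', a morphism a : T → Z and a morphism b : T' → X compatible with them, there is a
unique morphism T' → Z' through which b factors (compatibility with a is then automatic). -/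
theorem result {X T T' : Scheme.{u}} (I : X.IdealSheafData) (t : T ⟶ T') (ht : MoreMor.IsFirstOrderThickening t)
    (a : T ⟶ I.subscheme) (b : T' ⟶ X) (w : a ≫ I.subschemeι = t ≫ b) :
    ∃! a' : T' ⟶ (I ^ 2).subscheme, a' ≫ (I ^ 2).subschemeι = b := by
  obtain ⟨⟨h1, -⟩, h2⟩ := ht
  haveI := h1
  have hI : I ≤ (t ≫ b).ker := by
    rw [← w]
    calc I = I.subschemeι.ker := I.ker_subschemeι.symm
      _ ≤ (a ≫ I.subschemeι).ker := Scheme.Hom.le_ker_comp a I.subschemeι
  have key : I ^ 2 ≤ b.ker := by
    rw [Scheme.Hom.ker, Scheme.IdealSheafData.le_ofIdeals_iff]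
    intro U
    change (I.ideal U) ^ 2 ≤ _
    rw [sq, Ideal.mul_le]
    intro r hr s hs
    have hz : ∀ r ∈ I.ideal U, (t.app (b ⁻¹ᵁ U.1)).hom ((b.app U.1).hom r) = 0 := by
      intro r hr
      have h3 := Scheme.Hom.ideal_ker_le (t ≫ b) U (hI U hr)
      rw [RingHom.mem_ker, Scheme.Hom.comp_app] at h3
      exact h3
    rw [RingHom.mem_ker, map_mul]
    exact Groth.Agent.H1.H1_mul_eq_zero_of_app_eq_zero t h2 _ _ _ (hz r hr) (hz s hs)
  refine ⟨IsClosedImmersion.lift (I ^ 2).subschemeι b (by rw [Scheme.IdealSheafData.ker_subschemeι]; exact key),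
    IsClosedImmersion.lift_fac _ _ _, ?_⟩
  intro a' ha'
  rw [← cancel_mono (I ^ 2).subschemeι, ha', IsClosedImmersion.lift_fac]

end Groth.Agent.S1434
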