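import Groth.Statements.S14350
import Groth.Agent.Lib.GSS.PshSS

set_option autoImplicit false
universe u
open CategoryTheory
open CohTop

namespace Groth.Agent.S14350

open TopologicalSpace in
/-- For a sheaf of abelian groups F on a topological space X and p ≥ 0, the value at F of the p-th right
derived functor of the (left exact) forgetful functor from abelian sheaves to abelian presheaves on
X is isomorphic, as a presheaf, to the cohomology presheaf U ↦ H^p(U, F). Existence of an
isomorphism of presheaves only. (The published statement is for O_X-modules and presheaves of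
O_X-modules on a scheme X; this row is the case of sheaves of abelian groups on a topological
space.) -/
theorem result {X : TopCat.{u}}
    (F : CohTop.Ab X) (p : ℕ) :
    Nonempty (((sheafToPresheaf (Opens.grothendieckTopology X) AddCommGrpCat.{u}).rightDerived p).obj F ≅
      Sheaf.cohomologyPresheaf.{u} F p) := by
  let J := Opens.grothendieckTopology X
  let E := sheafToPresheaf (⊥ : GrothendieckTopology (Opens X)) AddCommGrpCat.{u}
  have hE : E.IsEquivalence := (sheafBotEquivalence (C := Opens X) AddCommGrpCat.{u}).isEquivalence_functor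
  let α : sheafToPresheaf J AddCommGrpCat.{u} ≅ Groth.Agent.PshExt.Ψ J ⋙ E := Iso.refl _
  obtain ⟨e1⟩ := Groth.Agent.GSS.nonempty_Ψ_rightDerived_iso J F p
  let R := injectiveResolution F
  let L := ((Groth.Agent.PshExt.Ψ J).mapHomologicalComplex (ComplexShape.up ℕ)).obj R.cocomplex
  have e2 : ((Groth.Agent.PshExt.Ψ J ⋙ E).rightDerived p).obj F ≅
      E.obj (((Groth.Agent.PshExt.Ψ J).rightDerived p).obj F) :=
    R.isoRightDerivedObj (Groth.Agent.PshExt.Ψ J ⋙ E) p ≪≫ (L.sc p).mapHomologyIso E ≪≫
      E.mapIso (R.isoRightDerivedObj (Groth.Agent.PshExt.Ψ J) p).symm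
  exact ⟨(Groth.Agent.GSS.rightDerivedNatIso α p).app F ≪≫ e2 ≪≫ E.mapIso e1⟩


end Groth.Agent.S14350
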