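import Groth.Statements.S14351
import Mathlib

set_option autoImplicit false
universe u
open CAlg

namespace Groth.Agent.S14351

/-- For ring maps A → B → C with C faithfully flat over B and C faithfully flat over A, the ring B is
faithfully flat over A. -/
theorem result (A B C : Type u) [CommRing A] [CommRing B]
    [CommRing C] [Algebra A B] [Algebra B C] [Algebra A C] [IsScalarTower A B C]
    [Module.FaithfullyFlat B C] [Module.FaithfullyFlat A C] : Module.FaithfullyFlat A B := by
  have hflat : Module.Flat A B := by
    rw [Module.Flat.iff_lTensor_preserves_injective_linearMap]
    intro N P _ _ _ _ f hf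
    have h1 : Function.Injective ((f.baseChange B).lTensor C) := by
      let eN := TensorProduct.AlgebraTensorModule.cancelBaseChange A B C C N
      let eP := TensorProduct.AlgebraTensorModule.cancelBaseChange A B C C P
      have key : ∀ x, eP (((f.baseChange B).lTensor C) x) = (f.lTensor C) (eN x) := by
        intro x
        induction x using TensorProduct.induction_on with
        | zero => simp
        | tmul c y =>
          induction y using TensorProduct.induction_on with
          | zero => simp
          | tmul b n => simp [eN, eP]
          | add y₁ y₂ h₁ h₂ =>
            rw [TensorProduct.tmul_add, map_add, map_add, h₁, h₂, map_add, map_add]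
        | add x₁ x₂ h₁ h₂ => rw [map_add, map_add, h₁, h₂, map_add, map_add]
      have h2 : Function.Injective (f.lTensor C) :=
        Module.Flat.lTensor_preserves_injective_linearMap f hf
      intro x y hxy
      have := congrArg eP hxy
      rw [key, key] at this
      exact eN.injective (h2 this)
    have h3 := (Module.FaithfullyFlat.lTensor_injective_iff_injective B C (f.baseChange B)).mp h1
    exact h3
  apply Module.FaithfullyFlat.of_comap_surjective
  intro p
  obtain ⟨q, hq⟩ := PrimeSpectrum.comap_surjective_of_faithfullyFlat (A := A) (B := C) p
  refine ⟨PrimeSpectrum.comap (algebraMap B C) q, ?_⟩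
  rw [← hq]
  ext x
  simp [IsScalarTower.algebraMap_apply A B C]

end Groth.Agent.S14351
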