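import Groth.Statements.S14357
import Mathlib
import Groth.Agent.Lib.helper5.ProjIntegral
import Groth.Agent.Lib.helper5.ProjSpaceProper
import Groth.Agent.S9576

set_option autoImplicit false
universe u
open AlgebraicGeometry
open Proj

namespace Groth.Agent.S14357

/-- For a field k the projective line over k is not an affine scheme. (The projective line is taken here
as Proj of the polynomial ring in two variables over k with its standard grading; the book builds it
by gluing two affine lines and identifies the two constructions later.) -/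
theorem result (k : Type u) [Field k] :
    ¬ IsAffine (CohB1.ProjSpace 1 k) := by
  intro haff
  haveI := haff
  have hX0 : (MvPolynomial.X 0 : MvPolynomial (Fin (1 + 1)) k) ∈ CohB1.polyGrading 1 k 1 :=
    MvPolynomial.isHomogeneous_X k 0
  have hne : (HomogeneousIdeal.irrelevant (CohB1.polyGrading 1 k)).toIdeal ≠ ⊥ := by
    intro h
    have h1 : (MvPolynomial.X 0 : MvPolynomial (Fin (1 + 1)) k) ∈
        (HomogeneousIdeal.irrelevant (CohB1.polyGrading 1 k)).toIdeal :=
      HomogeneousIdeal.mem_irrelevant_of_mem _ Nat.one_pos hX0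
    rw [h] at h1
    exact MvPolynomial.X_ne_zero 0 ((Ideal.mem_bot).mp h1)
  haveI hint : IsIntegral (CohB1.ProjSpace 1 k) :=
    H5PI.proj_integral (CohB1.polyGrading 1 k) hne
  haveI hprop : IsProper (CohB1.ProjSpace.toSpec 1 k) := H5PP.toSpec_isProper 1 k
  have hF : IsField Γ(CohB1.ProjSpace 1 k, ⊤) :=
    isField_of_universallyClosed k (CohB1.ProjSpace.toSpec 1 k)
  have hbot : ∀ p : PrimeSpectrum Γ(CohB1.ProjSpace 1 k, ⊤), p.asIdeal = ⊥ := by
    intro p
    rw [eq_bot_iff]
    intro x hx
    by_contra hx0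
    have hx0' : x ≠ 0 := fun h => hx0 (by rw [h]; exact Ideal.zero_mem _)
    obtain ⟨y, hy⟩ := hF.mul_inv_cancel hx0'
    exact p.isPrime.ne_top ((Ideal.eq_top_iff_one _).mpr (hy ▸ p.asIdeal.mul_mem_right y hx))
  have hsubS : Subsingleton (Spec Γ(CohB1.ProjSpace 1 k, ⊤)) :=
    ⟨fun p q => PrimeSpectrum.ext (by rw [hbot p, hbot q])⟩
  have hsub : Subsingleton (CohB1.ProjSpace 1 k) :=
    ((CohB1.ProjSpace 1 k).isoSpec.hom.isOpenEmbedding.injective).subsingleton
  haveI hsub' : Subsingleton (Proj (CohB1.polyGrading 1 k)) := hsub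
  have hsubA : Subsingleton (Spec (CommRingCat.of (HomogeneousLocalization.Away
      (CohB1.polyGrading 1 k) (MvPolynomial.X 0)))) :=
    (Proj.awayι (CohB1.polyGrading 1 k) (MvPolynomial.X 0) hX0
      Nat.one_pos).isOpenEmbedding.injective.subsingleton
  have hbij := (Groth.Agent.S9576.result 1 k).2 0
  obtain ⟨g, hg⟩ : ∃ g : MvPolynomial {j : Fin (1 + 1) // j ≠ 0} k →+*
      HomogeneousLocalization.Away (CohB1.polyGrading 1 k) (MvPolynomial.X 0),
      Function.Bijective g := ⟨_, hbij⟩
  have hsubP : Subsingleton (PrimeSpectrum (MvPolynomial {j : Fin (1 + 1) // j ≠ 0} k)) := by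
    haveI : Subsingleton (PrimeSpectrum (HomogeneousLocalization.Away
      (CohB1.polyGrading 1 k) (MvPolynomial.X 0))) := hsubA
    exact (PrimeSpectrum.comap_injective_of_surjective
      (RingEquiv.ofBijective g hg).symm.toRingHom
      (RingEquiv.ofBijective g hg).symm.surjective).subsingleton
  have h12 : (⟨⊥, inferInstance⟩ : PrimeSpectrum (MvPolynomial {j : Fin (1 + 1) // j ≠ 0} k))
      = ⟨RingHom.ker (MvPolynomial.eval (fun _ => (0 : k)) :
          MvPolynomial {j : Fin (1 + 1) // j ≠ 0} k →+* k), RingHom.ker_isPrime _⟩ :=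
    Subsingleton.elim _ _
  have h3 : (⊥ : Ideal (MvPolynomial {j : Fin (1 + 1) // j ≠ 0} k))
      = RingHom.ker (MvPolynomial.eval (fun _ => (0 : k)) :
          MvPolynomial {j : Fin (1 + 1) // j ≠ 0} k →+* k) :=
    congrArg PrimeSpectrum.asIdeal h12
  have hmem : (MvPolynomial.X ⟨1, by decide⟩ : MvPolynomial {j : Fin (1 + 1) // j ≠ 0} k) ∈
      RingHom.ker (MvPolynomial.eval (fun _ => (0 : k)) :
          MvPolynomial {j : Fin (1 + 1) // j ≠ 0} k →+* k) := by
    rw [RingHom.mem_ker]; simp
  rw [← h3] at hmem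
  exact MvPolynomial.X_ne_zero _ ((Ideal.mem_bot).mp hmem)

end Groth.Agent.S14357
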