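import Groth.Statements.S14363
import Mathlib

set_option autoImplicit false
universe u
open CAlg

namespace Groth.Agent.S14363

/-- Let A be a Noetherian ring and 0 → M' → M → M'' → 0 a short exact sequence of A-modules. If a prime
p of A is an associated prime of M'' and is not in the support of M', then p is an associated prime
of M. -/
theorem result (A : Type u) [CommRing A] [IsNoetherianRing A]
    (M' M M'' : Type u) [AddCommGroup M'] [Module A M'] [AddCommGroup M] [Module A M]
    [AddCommGroup M''] [Module A M'']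
    (f : M' →ₗ[A] M) (g : M →ₗ[A] M'') (hf : Function.Injective f) (hg : Function.Surjective g)
    (hfg : Function.Exact f g)
    (p : PrimeSpectrum A) (hp : p.asIdeal ∈ associatedPrimes A M'') (hsupp : p ∉ Module.support A M') :
    p.asIdeal ∈ associatedPrimes A M := by
  classical
  rw [AssociatedPrimes.mem_iff, isAssociatedPrime_iff] at hp ⊢
  obtain ⟨hprime, x'', hx''⟩ := hp
  obtain ⟨x, rfl⟩ := hg x''
  rw [Module.notMem_support_iff'] at hsupp
  have hmem : ∀ a : A, a ∈ p.asIdeal ↔ a • g x = 0 := by
    intro a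
    rw [hx'', Submodule.mem_colon_singleton, Submodule.mem_bot]
  -- each a ∈ p kills x up to some s ∉ p
  have h1 : ∀ a ∈ p.asIdeal, ∃ s ∉ p.asIdeal, s • a • x = 0 := by
    intro a ha
    have : g (a • x) = 0 := by rw [map_smul]; exact (hmem a).mp ha
    obtain ⟨m', hm'⟩ := (hfg (a • x)).mp this
    obtain ⟨s, hs, hsm⟩ := hsupp m'
    refine ⟨s, hs, ?_⟩
    rw [← hm', ← map_smul, hsm, map_zero]
  have h2 : ∀ T : Finset A, (∀ a ∈ T, a ∈ p.asIdeal) → ∃ s ∉ p.asIdeal, ∀ a ∈ T, s • a • x = 0 := by
    intro T
    induction T using Finset.induction_on with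
    | empty => intro _; exact ⟨1, hprime.one_notMem, by simp⟩
    | insert b T hbT ih =>
      intro hT
      obtain ⟨s, hs, hsT⟩ := ih (fun a ha => hT a (Finset.mem_insert_of_mem ha))
      obtain ⟨t, ht, htb⟩ := h1 b (hT b (Finset.mem_insert_self b T))
      refine ⟨s * t, fun h => (hprime.mem_or_mem h).elim hs ht, ?_⟩
      intro a ha
      rcases Finset.mem_insert.mp ha with rfl | ha
      · rw [mul_smul, htb, smul_zero]
      · rw [mul_comm, mul_smul, hsT a ha, smul_zero]
  obtain ⟨T, hT⟩ := (isNoetherianRing_iff_ideal_fg A).mp inferInstance p.asIdeal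
  obtain ⟨s, hs, hsT⟩ := h2 T (fun a ha => by rw [← hT]; exact Submodule.subset_span ha)
  have h3 : ∀ b ∈ p.asIdeal, s • b • x = 0 := by
    intro b hb
    rw [← hT] at hb
    refine Submodule.span_induction (p := fun b _ => s • b • x = 0) ?_ ?_ ?_ ?_ hb
    · intro a ha; exact hsT a ha
    · simp
    · intro a b _ _ ha hb; rw [add_smul, smul_add, ha, hb, add_zero]
    · intro c a _ ha
      rw [smul_eq_mul, mul_smul, smul_comm s c, ha, smul_zero]
  refine ⟨hprime, s • x, ?_⟩
  ext b
  rw [Submodule.mem_colon_singleton, Submodule.mem_bot]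
  constructor
  · intro hb
    rw [smul_comm]; exact h3 b hb
  · intro hb
    have : (b * s) • g x = 0 := by
      rw [mul_smul, ← map_smul, ← map_smul, hb, map_zero]
    have h4 : b * s ∈ p.asIdeal := (hmem _).mpr this
    exact (hprime.mem_or_mem h4).resolve_right hs

end Groth.Agent.S14363
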