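import Groth.Statements.S14401
import Mathlib
import Groth.Agent.Lib.helper2.MaxPt

set_option autoImplicit false
universe u
open CategoryTheory AlgebraicGeometry
open Props

namespace Groth.Agent.S14401

/-- Let X be a Noetherian scheme all of whose local rings are integral domains. Then each irreducible
component of X is an open subset of X, and each point of X lies on exactly one irreducible component
(so the irreducible components of X are pairwise disjoint, open and closed, and coincide with the
connected components). (The published statement assumes X regular and Noetherian; its argument uses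
only that the local rings of X are domains, which is the hypothesis taken here.) -/
theorem result (X : Scheme.{u}) [AlgebraicGeometry.IsNoetherian X]
    (hX : ∀ x : X, IsDomain (X.presheaf.stalk x)) :
    (∀ Z ∈ irreducibleComponents (X : Type u), IsOpen Z) ∧
      ∀ x : X, ∃! Z, Z ∈ irreducibleComponents (X : Type u) ∧ x ∈ Z := by
  have huniq : ∀ x : X, ∀ Z₁ ∈ irreducibleComponents (X : Type u),
      ∀ Z₂ ∈ irreducibleComponents (X : Type u), x ∈ Z₁ → x ∈ Z₂ → Z₁ = Z₂ := by
    intro x Z₁ h₁ Z₂ h₂ hx₁ hx₂
    haveI := hX x
    let b : Spec (X.presheaf.stalk x) := ⟨⊥, Ideal.isPrime_bot⟩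
    have key : ∀ Z ∈ irreducibleComponents (X : Type u), x ∈ Z →
        Z = closure {(X.fromSpecStalk x).base b} := by
      intro Z hZ hx
      obtain ⟨η, hη⟩ := QuasiSober.sober hZ.1 (isClosed_of_mem_irreducibleComponents _ hZ)
      have s : η ⤳ x := hη.specializes hx
      have r : η ∈ Set.range (X.fromSpecStalk x).base := by
        rw [Scheme.range_fromSpecStalk]; exact s
      obtain ⟨q, hq⟩ := r
      have hb : b ⤳ q := by
        have : (b : PrimeSpectrum (X.presheaf.stalk x)).asIdeal ≤ (q : PrimeSpectrum (X.presheaf.stalk x)).asIdeal := bot_le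
        exact (PrimeSpectrum.le_iff_specializes (R := X.presheaf.stalk x) b q).mp this
      have hξ : (X.fromSpecStalk x).base b ⤳ η := hq ▸ hb.map (X.fromSpecStalk x).base.hom.2
      have hmax : closure {η} ∈ irreducibleComponents (X : Type u) := by
        rw [hη.def]; exact hZ
      have := (Groth.Agent.H2.H2_closure_singleton_mem_irreducibleComponents_iff η).mp hmax _ hξ
      rw [this, hη.def]
    rw [key Z₁ h₁ hx₁, key Z₂ h₂ hx₂]
  have hfin : (irreducibleComponents (X : Type u)).Finite :=
    TopologicalSpace.NoetherianSpace.finite_irreducibleComponents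
  refine ⟨fun Z hZ => ?_, fun x => ?_⟩
  · have hcompl : Zᶜ = ⋃ W ∈ (irreducibleComponents (X : Type u)) \ {Z}, W := by
      ext y
      simp only [Set.mem_compl_iff, Set.mem_iUnion, Set.mem_diff, Set.mem_singleton_iff,
        exists_prop]
      constructor
      · intro hy
        obtain ⟨W, hW, hyW⟩ := exists_mem_irreducibleComponents_subset_of_isIrreducible {y}
          isIrreducible_singleton
        refine ⟨W, ⟨hW, ?_⟩, hyW rfl⟩
        rintro rfl
        exact hy (hyW rfl)
      · rintro ⟨W, ⟨hW, hne⟩, hyW⟩ hyZ
        exact hne (huniq y W hW Z hZ hyW hyZ)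
    have hcl : IsClosed (Zᶜ) := by
      rw [hcompl]
      exact (hfin.subset Set.diff_subset).isClosed_biUnion
        (fun W hW => isClosed_of_mem_irreducibleComponents _ hW.1)
    simpa using hcl.isOpen_compl
  · obtain ⟨W, hW, hxW⟩ := exists_mem_irreducibleComponents_subset_of_isIrreducible {x}
      isIrreducible_singleton
    exact ⟨W, ⟨hW, hxW rfl⟩, fun W' hW' => huniq x W' hW'.1 W hW hW'.2 (hxW rfl)⟩

end Groth.Agent.S14401
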