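import Groth.Statements.S14402
import Groth.Agent.Lib.CohTopClosedEmb
import Groth.Agent.Lib.Acyclic

set_option autoImplicit false
universe u
open CategoryTheory CategoryTheory.Limits
open CohTop

namespace Groth.Agent.S14402

/-- If a continuous map f : X → Y is a closed embedding (a homeomorphism onto a closed subset), then for
every abelian sheaf F on X and every q ≥ 0 the higher direct image R^{q+1} f_* F is zero. (The
published statement is for modules over a sheaf of rings on X along a morphism of ringed spaces;
this row is the case of abelian sheaves, the sheaf of rings being the constant sheaf ℤ.) -/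
theorem result {X Y : TopCat.{u}} (f : X ⟶ Y)
    (hf : Topology.IsClosedEmbedding f) (F : CohTop.Ab X) (q : ℕ) :
    IsZero ((CohTop.Rpush f (q + 1)).obj F) := by
  exact Groth.Agent.Acyclic.isZero_rightDerived_succ (G := CohTop.push f) (P := fun _ => True)
    (fun _ _ => trivial) (fun _ _ _ _ => trivial)
    (fun S hS _ => by
      have := hS.epi_g
      exact Groth.Agent.CohTopBasics.push_epi_of_isClosedEmbedding f hf S.g) F trivial q

end Groth.Agent.S14402
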