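import Groth.Statements.S14405
import Mathlib
import Groth.Agent.Lib.helper7.AntiDiff

set_option autoImplicit false
open Polynomial
open HilbNum

namespace Groth.Agent.S14405

/-- Let φ be a function from the integers to the rationals and Q a nonzero polynomial with rational
coefficients of degree d such that φ(m) - φ(m-1) = Q(m) for every integer m. Then there is a
polynomial P with rational coefficients, of degree d + 1, such that φ(m) = P(m) for every integer m.
(The explicit form of P in the binomial basis is not part of this statement.) -/
theorem result (φ : ℤ → ℚ) (d : ℕ) (Q : ℚ[X]) (hQ : Q ≠ 0)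
    (hd : Q.natDegree = d) (h : ∀ m : ℤ, φ m - φ (m - 1) = Q.eval (m : ℚ)) :
    ∃ P : ℚ[X], P.natDegree = d + 1 ∧ ∀ m : ℤ, φ m = P.eval (m : ℚ) := by
  classical
  obtain ⟨S, hS, hSd⟩ := Groth.Agent.Lib.helper7.H7_antidiff (Q.natDegree + 1) Q (Nat.lt_succ_self _)
  have hSdeg : S.natDegree = d + 1 := by
    apply le_antisymm (by rw [← hd]; exact hSd)
    by_contra hlt
    push Not at hlt
    have hS0 : S ≠ 0 := by
      rintro rfl
      simp at hS
      exact hQ hS.symm
    have hcomp_deg : (S.comp (X - C 1)).natDegree = S.natDegree := by
      rw [natDegree_comp, natDegree_X_sub_C, mul_one]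
    by_cases hSc : S.natDegree = 0
    · rw [eq_C_of_natDegree_eq_zero hSc] at hS
      simp at hS
      exact hQ hS.symm
    · have hcomp0 : S.comp (X - C 1) ≠ 0 := by
        intro h0
        rw [h0, natDegree_zero] at hcomp_deg
        exact hSc hcomp_deg.symm
      have hltdeg : (S - S.comp (X - C 1)).degree < S.degree := by
        apply degree_sub_lt_left
        · rw [degree_eq_natDegree hS0, degree_eq_natDegree hcomp0, hcomp_deg]
        · exact hS0
        · rw [leadingCoeff_comp (by rw [natDegree_X_sub_C]; exact one_ne_zero), leadingCoeff_X_sub_C, one_pow, mul_one]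
      rw [hS] at hltdeg
      have := natDegree_lt_natDegree hQ hltdeg
      omega
  refine ⟨S + C (φ 0 - S.eval 0), ?_, ?_⟩
  · rw [natDegree_add_C, hSdeg]
  · have hψ : ∀ m : ℤ, φ m - S.eval (m : ℚ) = φ (m - 1) - S.eval ((m - 1 : ℤ) : ℚ) := by
      intro m
      have h1 := h m
      have h2 := congrArg (eval (m : ℚ)) hS
      rw [eval_sub, eval_comp, eval_sub, eval_X, eval_C] at h2
      push_cast
      linarith
    have hconst : ∀ m : ℤ, φ m - S.eval (m : ℚ) = φ 0 - S.eval 0 := by
      intro m
      induction m using Int.induction_on with
      | zero => simp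
      | succ i ih =>
        have := hψ (i + 1)
        rw [this]
        simpa using ih
      | pred i ih =>
        have := hψ (-i)
        rw [← this]
        exact ih
    intro m
    rw [eval_add, eval_C]
    linarith [hconst m]

end Groth.Agent.S14405
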