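import Groth.Statements.S14410
import Mathlib

set_option autoImplicit false
universe u
open CategoryTheory TopologicalSpace
open CohTop

namespace Groth.Agent.S14410

/-- Let X be a topological space and 0 → F₁ → F₂ → F₃ → 0 a short exact sequence of sheaves of abelian
groups on X. If F₁ and F₃ are flasque (every restriction map is surjective), then F₂ is flasque.
(The published statement is for O_X-modules on a ringed space and is an equivalence; this row states
the implication from the outer terms to the middle term, for the underlying abelian sheaves.) -/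
theorem result (X : TopCat.{u})
    (S : ShortComplex (TopCat.Sheaf AddCommGrpCat.{u} X)) (hS : S.ShortExact)
    [S.X₁.IsFlasque] [S.X₃.IsFlasque] : S.X₂.IsFlasque := by
  constructor
  intro U V i
  rw [AddCommGrpCat.epi_iff_surjective]
  intro s
  -- lift g(s) to U
  obtain ⟨t'', ht''⟩ := (AddCommGrpCat.epi_iff_surjective (S.X₃.obj.map i)).mp inferInstance
    (S.g.hom.app V s)
  haveI := hS.mono_f
  obtain ⟨t, ht⟩ := (AddCommGrpCat.epi_iff_surjective (S.g.hom.app U)).mp
    (TopCat.Sheaf.IsFlasque.epi_of_shortExact (U := U.unop) hS) t''
  have h1 : S.g.hom.app V (s - S.X₂.obj.map i t) = 0 := by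
    rw [map_sub]
    have := congrArg (fun f => f t) (S.g.hom.naturality i)
    simp only [ConcreteCategory.comp_apply] at this
    rw [this, ht, ht'', sub_self]
  obtain ⟨r, hr⟩ := TopCat.Sheaf.sections_exact_of_left_exact (U := V.unop) hS.1 hS.2 _ h1
  obtain ⟨r', hr'⟩ := (AddCommGrpCat.epi_iff_surjective (S.X₁.obj.map i)).mp inferInstance r
  refine ⟨t + S.f.hom.app U r', ?_⟩
  rw [map_add]
  have := congrArg (fun f => f r') (S.f.hom.naturality i)
  simp only [ConcreteCategory.comp_apply] at this
  rw [← this, hr', hr]
  abel

end Groth.Agent.S14410
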