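import Groth.Statements.S14416
import Mathlib

set_option autoImplicit false
universe u
open scoped TensorProduct
open CAlg

namespace Groth.Agent.S14416

/-- Let B → A be a ring map with A a finitely generated B-module such that for every prime ideal p of B
the fibre κ(p) ⊗_B A has dimension at most one over the residue field κ(p). Then B → A is
surjective. In scheme language: a finite morphism whose degree at every point of the target is 0 or
1 is a closed immersion. (The published statement assumes the two schemes Noetherian; that
hypothesis plays no role and is dropped here.) -/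
theorem result
    (B A : Type u) [CommRing B] [CommRing A] [Algebra B A] [Module.Finite B A]
    (h : ∀ p : PrimeSpectrum B,
      Module.finrank p.asIdeal.ResidueField (p.asIdeal.ResidueField ⊗[B] A) ≤ 1) :
    Function.Surjective (algebraMap B A) := by
  classical
  set N : Submodule B A := LinearMap.range (Algebra.linearMap B A) with hN
  have hsub : Subsingleton (A ⧸ N) := by
    rw [← Module.support_eq_empty_iff (R := B)]
    by_contra hne
    obtain ⟨p, hp⟩ := Set.nonempty_iff_ne_empty.mpr hne
    rw [Module.mem_support_iff_nontrivial_residueField_tensorProduct] at hp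
    have hsurj : Function.Surjective (LinearMap.lTensor p.asIdeal.ResidueField N.mkQ) :=
      LinearMap.lTensor_surjective _ N.mkQ_surjective
    have hspan : ∀ t : p.asIdeal.ResidueField ⊗[B] A, ∃ c : p.asIdeal.ResidueField,
        t = c ⊗ₜ[B] (1 : A) := by
      intro t
      have hle := h p
      rcases Nat.lt_or_ge (Module.finrank p.asIdeal.ResidueField (p.asIdeal.ResidueField ⊗[B] A)) 1 with h0 | h1
      · have h0' : Module.finrank p.asIdeal.ResidueField (p.asIdeal.ResidueField ⊗[B] A) = 0 := by omega
        have := Module.finrank_zero_iff.mp h0'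
        exact ⟨0, Subsingleton.elim _ _⟩
      · have h1' : Module.finrank p.asIdeal.ResidueField (p.asIdeal.ResidueField ⊗[B] A) = 1 := by omega
        have hnt : Nontrivial (p.asIdeal.ResidueField ⊗[B] A) :=
          Module.nontrivial_of_finrank_pos (R := p.asIdeal.ResidueField) (by omega)
        have he : (1 : p.asIdeal.ResidueField ⊗[B] A) ≠ 0 := one_ne_zero
        obtain ⟨c, hc⟩ := (finrank_eq_one_iff_of_nonzero' _ he).mp h1' t
        refine ⟨c, ?_⟩
        rw [← hc, Algebra.TensorProduct.one_def, TensorProduct.smul_tmul', smul_eq_mul, mul_one]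
    apply not_subsingleton (p.asIdeal.ResidueField ⊗[B] (A ⧸ N))
    refine ⟨fun x y => ?_⟩
    have hz : ∀ z : p.asIdeal.ResidueField ⊗[B] (A ⧸ N), z = 0 := by
      intro z
      obtain ⟨t, rfl⟩ := hsurj z
      obtain ⟨c, rfl⟩ := hspan t
      rw [LinearMap.lTensor_tmul]
      have : N.mkQ (1 : A) = 0 := by
        rw [Submodule.mkQ_apply, Submodule.Quotient.mk_eq_zero]
        exact ⟨1, by simp⟩
      rw [this, TensorProduct.tmul_zero]
    rw [hz x, hz y]
  have htop : N = ⊤ := Submodule.Quotient.subsingleton_iff.mp hsub
  intro a
  have : a ∈ N := by rw [htop]; trivial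
  obtain ⟨b, hb⟩ := this
  exact ⟨b, hb⟩

end Groth.Agent.S14416
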