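import Groth.Statements.S14433
import Mathlib

set_option autoImplicit false
universe u
open Koszul3

namespace Groth.Agent.S14433


open CategoryTheory CategoryTheory.Limits Opposite


open CategoryTheory CategoryTheory.Limits Opposite CochainComplex HomComplex

noncomputable section
section
variable {R : Type u} [CommRing R]

lemma ofHom_smul {F G : CochainComplex (ModuleCat.{u} R) ℤ} (x : R) (f : F ⟶ G) :
    Cochain.ofHom (x • f) = x • Cochain.ofHom f := by
  ext p
  simp

/-- Case A: multiplication by `x` on the cone of `x • 𝟙` is null-homotopic. -/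
def homotopyA (K : CochainComplex (ModuleCat.{u} R) ℤ) (x : R) :
    Homotopy (x • 𝟙 (mappingCone (x • 𝟙 K))) 0 :=
  mappingCone.descHomotopy (x • 𝟙 K) _ _ 0 (mappingCone.inl _)
    (by
      simp only [δ_zero, zero_add, Cochain.ofHom_zero, Cochain.comp_zero, add_zero, ofHom_smul,
        Cochain.comp_smul, Cochain.smul_comp, Cochain.comp_id, Cochain.id_comp])
    (by
      simp only [mappingCone.δ_inl, Linear.comp_smul, Linear.smul_comp, Category.comp_id,
        Category.id_comp, comp_zero, Cochain.ofHom_zero, add_zero])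

/-- Case B: a null-homotopy of `a • 𝟙 K` induces one of `a • 𝟙` on the cone of `x • 𝟙 K`. -/
def homotopyB (K : CochainComplex (ModuleCat.{u} R) ℤ) (x a : R) (H : Homotopy (a • 𝟙 K) 0) :
    Homotopy (a • 𝟙 (mappingCone (x • 𝟙 K))) 0 :=
  mappingCone.descHomotopy (x • 𝟙 K) _ _
    (-((Cochain.ofHomotopy H).comp (mappingCone.inl (x • 𝟙 K)) (by norm_num : (-1 : ℤ) + -1 = -2)))
    ((Cochain.ofHomotopy H).comp (Cochain.ofHom (mappingCone.inr (x • 𝟙 K))) (add_zero (-1)))
    (by
      rw [δ_neg, δ_comp (Cochain.ofHomotopy H) (mappingCone.inl (x • 𝟙 K))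
        (by norm_num : (-1 : ℤ) + -1 = -2) 0 0 (-1) (by norm_num) (by norm_num) (by norm_num)]
      simp only [mappingCone.δ_inl, δ_ofHomotopy, Cochain.ofHom_zero, sub_zero, Cochain.comp_zero,
        add_zero, ofHom_smul, Cochain.comp_smul, Cochain.smul_comp, 
        Cochain.comp_id, Cochain.id_comp, Linear.smul_comp, Category.id_comp]
      rw [Int.negOnePow_neg, Int.negOnePow_one, Units.neg_smul, one_smul]
      abel)
    (by
      rw [δ_comp_ofHom]
      simp only [δ_ofHomotopy, Cochain.ofHom_zero, sub_zero, comp_zero, add_zero,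
        Linear.comp_smul, Category.comp_id, ofHom_smul, Cochain.smul_comp, 
        Cochain.id_comp])


abbrev P (L : CochainComplex (ModuleCat.{u} R) ℤ) (a : R) : Prop := Nonempty (Homotopy (a • 𝟙 L) 0)

lemma P_zero (L : CochainComplex (ModuleCat.{u} R) ℤ) : P L 0 :=
  ⟨Homotopy.ofEq (zero_smul R _)⟩

lemma P_add (L : CochainComplex (ModuleCat.{u} R) ℤ) {a b : R} (ha : P L a) (hb : P L b) :
    P L (a + b) := by
  obtain ⟨ha⟩ := ha
  obtain ⟨hb⟩ := hb
  exact ⟨(Homotopy.ofEq (add_smul a b (𝟙 L))).trans ((ha.add hb).trans (Homotopy.ofEq (add_zero 0)))⟩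

lemma P_smul (L : CochainComplex (ModuleCat.{u} R) ℤ) (r : R) {a : R} (ha : P L a) :
    P L (r • a) := by
  obtain ⟨ha⟩ := ha
  refine ⟨(Homotopy.ofEq ?_).trans ((ha.compLeft (r • 𝟙 L)).trans (Homotopy.ofEq comp_zero))⟩
  rw [Linear.smul_comp, Category.id_comp, smul_eq_mul, mul_smul]

theorem main (M : Type u) [AddCommGroup M] [Module R M] :
    ∀ (xs : List R) (a : R), a ∈ Ideal.span {x | x ∈ xs} →
      Nonempty (Homotopy (a • 𝟙 (CohIII.koszulCx (ModuleCat.of R M) xs)) 0)
  | [], a, ha => by
    have : a = 0 := by simpa using ha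
    subst this
    exact P_zero _
  | x :: xs, a, ha => by
    have key : ∀ y ∈ {z | z ∈ x :: xs}, P (CohIII.koszulCx (ModuleCat.of R M) (x :: xs)) y := by
      intro y hy
      rcases List.mem_cons.1 hy with rfl | hy
      · exact ⟨homotopyA _ y⟩
      · obtain ⟨H⟩ := main M xs y (Ideal.subset_span hy)
        exact ⟨homotopyB _ x y H⟩
    exact Submodule.span_induction (p := fun a _ => P (CohIII.koszulCx (ModuleCat.of R M) (x :: xs)) a)
      (fun y hy => key y hy) (P_zero _) (fun _ _ _ _ h1 h2 => P_add _ h1 h2)
      (fun r _ _ h => P_smul _ r h) ha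

end
end

open CategoryTheory CategoryTheory.Limits in
/-- Let R be a commutative ring, M an R-module, x = (x_1, …, x_n) elements of R and a an element of the
ideal (x_1, …, x_n). Then multiplication by a on the Koszul complex K(x; M) is homotopic to the zero
map (so a annihilates every Koszul cohomology module, and K(x; M) is exact when the x_i generate the
unit ideal). (The published statement is for the Koszul complex of a linear form φ : E → R and a ∈
φ(E); stated here for E free of finite rank, with the Koszul complex realised by iterated mapping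
cones as in the prelude, which is isomorphic to the exterior-algebra complex.) -/
theorem result {R : Type u} [CommRing R] (M : Type u) [AddCommGroup M] [Module R M]
    (xs : List R) (a : R) (ha : a ∈ Ideal.span {x | x ∈ xs}) :
    Nonempty (Homotopy (a • 𝟙 (CohIII.koszulCx (ModuleCat.of R M) xs)) 0) := by
  exact main M xs a ha

end Groth.Agent.S14433
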