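import Groth.Statements.S14434
import Groth.Statements.S14434
import Mathlib
import Groth.Agent.Lib.helper9.H9_TorShift

set_option autoImplicit false
universe u
open CAlg

namespace Groth.Agent.S14434

/-- Let R be a commutative ring, M an R-module and x ∈ R a non-zero-divisor on R and on M. Then
Tor_i^R(M, R/(x)) = 0 for all i ≥ 1 (Tor computed as the left derived functors of the tensor product
on R-modules). -/
theorem result {R : Type u} [CommRing R] (M : Type u) [AddCommGroup M] [Module R M]
    (x : R) (hxR : IsSMulRegular R x) (hxM : IsSMulRegular M x) (i : ℕ) (hi : 1 ≤ i) :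
    Subsingleton (DRing.Tor R i M (R ⧸ Ideal.span {x})) := by
  exact ModuleCat.subsingleton_of_isZero
    (Groth.Agent.H9TorShift.tor_quot_regular R M x hxR hxM i hi)

end Groth.Agent.S14434
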