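import Groth.Statements.S14442
import Mathlib

set_option autoImplicit false
universe u
open GrNak

namespace Groth.Agent.S14442

/-- Let R be a commutative ℕ-graded ring with irrelevant ideal R_+ = ⊕_{i>0} R_i, M an ℕ-graded R-module
and N a graded submodule of M (closed under taking homogeneous components). If M = R_+ M + N then N
= M. (The published statement is for finitely generated ℤ-graded modules over a graded quotient of a
polynomial ring, whose degrees are then bounded below; stated here for non-negatively graded modules
over any ℕ-graded commutative ring, where the same lowest-degree argument applies without finite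
generation.) -/
theorem result {R : Type u} [CommRing R] {σ : Type u} [SetLike σ R] [AddSubmonoidClass σ R]
    (𝒜 : ℕ → σ) [GradedRing 𝒜]
    {M : Type u} [AddCommGroup M] [Module R M] {τ : Type u} [SetLike τ M] [AddSubmonoidClass τ M]
    (ℳ : ℕ → τ) [DirectSum.Decomposition ℳ] [SetLike.GradedSMul 𝒜 ℳ]
    (N : Submodule R M) (hN : ∀ x ∈ N, ∀ i : ℕ, (DirectSum.decompose ℳ x i : M) ∈ N)
    (h : (HomogeneousIdeal.irrelevant 𝒜).toIdeal • (⊤ : Submodule R M) ⊔ N = ⊤) :
    N = ⊤ := by
  classical
  have key : ∀ n : ℕ, ∀ m ∈ ℳ n, m ∈ N := by
    intro n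
    induction n using Nat.strong_induction_on with
    | _ n ih =>
    let S : AddSubmonoid M :=
      { carrier := {x | (DirectSum.decompose ℳ x n : M) ∈ N}
        zero_mem' := by
          show ((DirectSum.decompose ℳ (0 : M)) n : M) ∈ N
          rw [DirectSum.decompose_zero]
          exact N.zero_mem
        add_mem' := by
          intro x y hx hy
          show ((DirectSum.decompose ℳ (x + y)) n : M) ∈ N
          rw [DirectSum.decompose_add, DirectSum.add_apply, AddMemClass.coe_add]
          exact N.add_mem hx hy }
    have hS : ∀ x, x ∈ S ↔ (DirectSum.decompose ℳ x n : M) ∈ N := fun x => Iff.rfl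
    have hcomp : ∀ x : M, x ∈ S := by
      intro x
      have hx : x ∈ (HomogeneousIdeal.irrelevant 𝒜).toIdeal • (⊤ : Submodule R M) ⊔ N := by
        rw [h]; trivial
      obtain ⟨z, hz, y, hy, rfl⟩ := Submodule.mem_sup.mp hx
      refine S.add_mem ?_ ((hS y).mpr (hN y hy n))
      refine Submodule.smul_induction_on hz ?_ ?_
      · intro a ha m _
        have ha0 : (DirectSum.decompose 𝒜 a 0 : R) = 0 := ha
        rw [← DirectSum.sum_support_decompose 𝒜 a, ← DirectSum.sum_support_decompose ℳ m]
        rw [Finset.sum_smul]
        refine S.sum_mem (fun p _ => ?_)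
        rw [Finset.smul_sum]
        refine S.sum_mem (fun q _ => ?_)
        rw [hS]
        have hpq : (DirectSum.decompose 𝒜 a p : R) • (DirectSum.decompose ℳ m q : M) ∈ ℳ (p + q) := by
          have h1 := SetLike.GradedSMul.smul_mem (A := 𝒜) (B := ℳ)
            (SetLike.coe_mem (DirectSum.decompose 𝒜 a p)) (SetLike.coe_mem (DirectSum.decompose ℳ m q))
          simpa [vadd_eq_add] using h1
        by_cases hn : p + q = n
        · rw [DirectSum.decompose_of_mem_same ℳ (hn ▸ hpq)]
          by_cases hp : p = 0
          · subst hp
            rw [ha0, zero_smul]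
            exact N.zero_mem
          · refine N.smul_mem _ (ih q (by omega) _ (SetLike.coe_mem _))
        · rw [DirectSum.decompose_of_mem_ne ℳ hpq hn]
          exact N.zero_mem
      · intro z1 z2 h1 h2
        exact S.add_mem h1 h2
    intro m hm
    rw [← DirectSum.decompose_of_mem_same ℳ hm]
    exact (hS m).mp (hcomp m)
  rw [eq_top_iff]
  intro x _
  rw [← DirectSum.sum_support_decompose ℳ x]
  exact N.sum_mem (fun i _ => key i _ (SetLike.coe_mem _))

end Groth.Agent.S14442
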