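import Groth.Statements.S14458
import Mathlib

set_option autoImplicit false
universe u
open CAlg

namespace Groth.Agent.S14458

open TensorProduct in
/-- Let R be an Artinian local ring with residue field k and M an R-module, not necessarily finitely
generated. If M ⊗_R k = 0 then M = 0. -/
theorem result {R : Type u} [CommRing R]
    [IsArtinianRing R] [IsLocalRing R] (M : Type u) [AddCommGroup M] [Module R M]
    (h : Subsingleton ((IsLocalRing.ResidueField R) ⊗[R] M)) : Subsingleton M := by
  set m := IsLocalRing.maximalIdeal R with hm
  have e := TensorProduct.quotTensorEquivQuotSMul M m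
  have hsub : Subsingleton (M ⧸ (m • (⊤ : Submodule R M))) := by
    have h' : Subsingleton ((R ⧸ m) ⊗[R] M) := h
    exact e.symm.toEquiv.subsingleton
  have htop : m • (⊤ : Submodule R M) = ⊤ := Submodule.Quotient.subsingleton_iff.mp hsub
  have hpow : ∀ n : ℕ, m ^ n • (⊤ : Submodule R M) = ⊤ := by
    intro n
    induction n with
    | zero => simp
    | succ n ih => rw [pow_succ, mul_smul, htop, ih]
  obtain ⟨n, hn⟩ : IsNilpotent m := by
    have := IsArtinianRing.isNilpotent_jacobson_bot (R := R)
    rwa [IsLocalRing.jacobson_eq_maximalIdeal (⊥ : Ideal R) bot_ne_top] at this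
  have h0 := hpow n
  rw [hn, Submodule.zero_eq_bot, Submodule.bot_smul] at h0
  have : Subsingleton (Submodule R M) := subsingleton_iff_bot_eq_top.mp h0
  exact (Submodule.subsingleton_iff R).mp this

end Groth.Agent.S14458
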