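import Groth.Statements.S14479
import Mathlib

set_option autoImplicit false
universe u
open CharCyc

namespace Groth.Agent.S14479

/-- Let V be a finite-dimensional vector space over a field k. If dim V is even or the characteristic of
k is different from 2, there is a bilinear form B on V such that the bilinear form (v, w) ↦ B(v, w)
+ B(w, v) (B plus its transpose, as a map V → V^∨) is nondegenerate. -/
theorem result (k V : Type u) [Field k] [AddCommGroup V] [Module k V]
    [FiniteDimensional k V] (h : Even (Module.finrank k V) ∨ ringChar k ≠ 2) :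
    ∃ B : LinearMap.BilinForm k V, (B + B.flip).Nondegenerate := by
  classical
  have key : ∀ {ι : Type} [Fintype ι] [DecidableEq ι] (b : Module.Basis ι k V) (M : Matrix ι ι k),
      (M + M.transpose).det ≠ 0 → ∃ B : LinearMap.BilinForm k V, (B + B.flip).Nondegenerate := by
    intro ι _ _ b M hM
    refine ⟨Matrix.toBilin b M, ?_⟩
    rw [LinearMap.BilinForm.nondegenerate_iff_det_ne_zero b]
    have : LinearMap.BilinForm.toMatrix b (Matrix.toBilin b M + (Matrix.toBilin b M).flip) = M + M.transpose := by
      ext i j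
      rw [LinearMap.BilinForm.toMatrix_apply, LinearMap.add_apply, LinearMap.add_apply,
        Matrix.add_apply, Matrix.transpose_apply]
      have hfl : ((Matrix.toBilin b M).flip (b i)) (b j) = (Matrix.toBilin b M) (b j) (b i) := rfl
      rw [hfl]
      have e : ∀ i j, (Matrix.toBilin b M) (b i) (b j) = M i j := by
        intro i j
        rw [← LinearMap.BilinForm.toMatrix_apply, LinearMap.BilinForm.toMatrix_toBilin]
      rw [e, e]
    rw [this]
    exact hM
  rcases h with h | h
  · obtain ⟨m, hm⟩ := h
    let b := Module.finBasis k V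
    have e : Fin (Module.finrank k V) ≃ Fin m ⊕ Fin m := by
      rw [hm]
      exact finSumFinEquiv.symm
    refine key (b.reindex e) (Matrix.fromBlocks (0 : Matrix (Fin m) (Fin m) k) (1 : Matrix (Fin m) (Fin m) k) (0 : Matrix (Fin m) (Fin m) k) (0 : Matrix (Fin m) (Fin m) k)) ?_
    have h1 : (Matrix.fromBlocks (0 : Matrix (Fin m) (Fin m) k) (1 : Matrix (Fin m) (Fin m) k) (0 : Matrix (Fin m) (Fin m) k) (0 : Matrix (Fin m) (Fin m) k) +
        (Matrix.fromBlocks (0 : Matrix (Fin m) (Fin m) k) (1 : Matrix (Fin m) (Fin m) k) (0 : Matrix (Fin m) (Fin m) k) (0 : Matrix (Fin m) (Fin m) k)).transpose) = Matrix.fromBlocks (0 : Matrix (Fin m) (Fin m) k) (1 : Matrix (Fin m) (Fin m) k) (1 : Matrix (Fin m) (Fin m) k) (0 : Matrix (Fin m) (Fin m) k) := by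
      rw [Matrix.fromBlocks_transpose, Matrix.fromBlocks_add]
      simp
    rw [h1]
    have h2 : (Matrix.fromBlocks (0 : Matrix (Fin m) (Fin m) k) (1 : Matrix (Fin m) (Fin m) k) (1 : Matrix (Fin m) (Fin m) k) (0 : Matrix (Fin m) (Fin m) k)) * Matrix.fromBlocks (0 : Matrix (Fin m) (Fin m) k) (1 : Matrix (Fin m) (Fin m) k) (1 : Matrix (Fin m) (Fin m) k) (0 : Matrix (Fin m) (Fin m) k) = 1 := by
      rw [Matrix.fromBlocks_multiply]
      simp [Matrix.fromBlocks_one]
    intro h0
    have := congrArg Matrix.det h2
    rw [Matrix.det_mul, h0, zero_mul, Matrix.det_one] at this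
    exact zero_ne_one this
  · let b := Module.finBasis k V
    refine key b 1 ?_
    have h2 : (2 : k) ≠ 0 := Ring.two_ne_zero h
    rw [Matrix.transpose_one, ← two_smul k (1 : Matrix _ _ k), Matrix.det_smul, Matrix.det_one, mul_one]
    exact pow_ne_zero _ h2

end Groth.Agent.S14479
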