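import Groth.Statements.S14498
import Mathlib

set_option autoImplicit false
universe v u
open AbDiag

namespace Groth.Agent.S14498

open CategoryTheory CategoryTheory.Limits in
/-- In an abelian category, let 0 → F → W → E' → 0 (maps a, b) and 0 → E → W → F' → G → G' → 0 (maps c,
d, e, g) be exact sequences such that the composite F → W → F' is a monomorphism. Then the composite
E → W → E' is a monomorphism, and there is a short exact sequence 0 → Coker(E → E') → Coker(F → F')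
→ Ker(G → G') → 0 whose first map is induced by d (through the quotient map b) and whose second map
is induced by e. -/
theorem result
    {V : Type u} [Category.{v} V] [Abelian V] {F W E' E F' G G' : V}
    (a : F ⟶ W) (b : W ⟶ E') (c : E ⟶ W) (d : W ⟶ F') (e : F' ⟶ G) (g : G ⟶ G')
    [Mono a] [Epi b] (wab : a ≫ b = 0) (hab : (ShortComplex.mk a b wab).Exact)
    [Mono c] (wcd : c ≫ d = 0) (hcd : (ShortComplex.mk c d wcd).Exact)
    (wde : d ≫ e = 0) (hde : (ShortComplex.mk d e wde).Exact)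
    (weg : e ≫ g = 0) (heg : (ShortComplex.mk e g weg).Exact) [Epi g]
    (hmono : Mono (a ≫ d)) :
    Mono (c ≫ b) ∧
      ∃ (φ : cokernel (c ≫ b) ⟶ cokernel (a ≫ d)) (ψ : cokernel (a ≫ d) ⟶ kernel g)
        (w : φ ≫ ψ = 0),
        b ≫ cokernel.π (c ≫ b) ≫ φ = d ≫ cokernel.π (a ≫ d) ∧
        cokernel.π (a ≫ d) ≫ ψ ≫ kernel.ι g = e ∧
        (ShortComplex.mk φ ψ w).ShortExact := by
  have hπ'0 : (a ≫ d) ≫ cokernel.π (a ≫ d) = 0 := cokernel.condition _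
  -- (1)
  have hmono1 : Mono (c ≫ b) := by
    rw [Preadditive.mono_iff_cancel_zero]
    intro T x hx
    have hx' : (x ≫ c) ≫ b = 0 := by rw [Category.assoc]; exact hx
    obtain ⟨T', π, hπ, y, hy⟩ :=
      (ShortComplex.exact_iff_exact_up_to_refinements _).1 hab (x ≫ c) hx'
    have hy' : π ≫ x ≫ c = y ≫ a := hy
    have hy0 : y ≫ (a ≫ d) = 0 := by
      rw [← Category.assoc, ← hy', Category.assoc, Category.assoc, wcd, comp_zero, comp_zero]
    have hy00 : y = 0 := (cancel_mono (a ≫ d)).1 (hy0.trans zero_comp.symm)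
    have h1 : π ≫ x ≫ c = 0 := by rw [hy', hy00, zero_comp]
    have h2 : (π ≫ x) ≫ c = 0 := by rw [Category.assoc]; exact h1
    have h3 : π ≫ x = 0 := (cancel_mono c).1 (h2.trans zero_comp.symm)
    exact (cancel_epi π).1 (h3.trans comp_zero.symm)
  refine ⟨hmono1, ?_⟩
  -- φ
  have hexab : (ShortComplex.mk a b wab).Exact := hab
  haveI : Epi (ShortComplex.mk a b wab).g := (inferInstance : Epi b)
  have h0 : a ≫ (d ≫ cokernel.π (a ≫ d)) = 0 := by rw [← Category.assoc]; exact hπ'0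
  let φ₀ : E' ⟶ cokernel (a ≫ d) := hexab.desc (d ≫ cokernel.π (a ≫ d)) h0
  have hφ₀ : b ≫ φ₀ = d ≫ cokernel.π (a ≫ d) := hexab.g_desc _ h0
  have h1 : (c ≫ b) ≫ φ₀ = 0 := by
    rw [Category.assoc, hφ₀, ← Category.assoc, wcd, zero_comp]
  let φ : cokernel (c ≫ b) ⟶ cokernel (a ≫ d) := cokernel.desc (c ≫ b) φ₀ h1
  have hφ : cokernel.π (c ≫ b) ≫ φ = φ₀ := cokernel.π_desc _ _ _
  -- ψ
  have h2 : (a ≫ d) ≫ e = 0 := by rw [Category.assoc, wde, comp_zero]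
  let ψ₀ : cokernel (a ≫ d) ⟶ G := cokernel.desc (a ≫ d) e h2
  have hψ₀ : cokernel.π (a ≫ d) ≫ ψ₀ = e := cokernel.π_desc _ _ _
  have h3 : ψ₀ ≫ g = 0 := by
    rw [← cancel_epi (cokernel.π (a ≫ d)), ← Category.assoc, hψ₀, weg, comp_zero]
  let ψ : cokernel (a ≫ d) ⟶ kernel g := kernel.lift g ψ₀ h3
  have hψ : ψ ≫ kernel.ι g = ψ₀ := kernel.lift_ι _ _ _
  have hbπφ : b ≫ cokernel.π (c ≫ b) ≫ φ = d ≫ cokernel.π (a ≫ d) := by rw [hφ, hφ₀]
  have hπψι : cokernel.π (a ≫ d) ≫ ψ ≫ kernel.ι g = e := by rw [hψ, hψ₀]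
  have w : φ ≫ ψ = 0 := by
    rw [← cancel_mono (kernel.ι g), ← cancel_epi (cokernel.π (c ≫ b)), ← cancel_epi b,
      zero_comp, comp_zero, comp_zero, Category.assoc, hψ]
    rw [← Category.assoc (cokernel.π (c ≫ b)), hφ, ← Category.assoc, hφ₀, Category.assoc, hψ₀, wde]
  refine ⟨φ, ψ, w, hbπφ, hπψι, ?_⟩
  haveI : Epi (b ≫ cokernel.π (c ≫ b)) := epi_comp _ _
  have hexπ' : (ShortComplex.mk (a ≫ d) (cokernel.π (a ≫ d)) hπ'0).Exact :=
    ShortComplex.exact_cokernel _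
  -- φ mono
  haveI hφm : Mono φ := by
    rw [Preadditive.mono_iff_cancel_zero]
    intro T z hz
    obtain ⟨T₁, π₁, hπ₁, w₁, hw₁⟩ :=
      surjective_up_to_refinements_of_epi (b ≫ cokernel.π (c ≫ b)) z
    have h4 : (w₁ ≫ d) ≫ cokernel.π (a ≫ d) = 0 := by
      calc (w₁ ≫ d) ≫ cokernel.π (a ≫ d) = w₁ ≫ (b ≫ cokernel.π (c ≫ b) ≫ φ) := by
            rw [hbπφ, Category.assoc]
        _ = (w₁ ≫ b ≫ cokernel.π (c ≫ b)) ≫ φ := by simp only [Category.assoc]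
        _ = (π₁ ≫ z) ≫ φ := by rw [hw₁]
        _ = 0 := by rw [Category.assoc, hz, comp_zero]
    obtain ⟨T₂, π₂, hπ₂, y, hy⟩ :=
      (ShortComplex.exact_iff_exact_up_to_refinements _).1 hexπ' (w₁ ≫ d) h4
    have hy' : π₂ ≫ w₁ ≫ d = y ≫ a ≫ d := hy
    have h5 : (π₂ ≫ w₁ - y ≫ a) ≫ d = 0 := by
      rw [Preadditive.sub_comp, Category.assoc, Category.assoc, hy', sub_self]
    obtain ⟨T₃, π₃, hπ₃, x, hx⟩ :=
      (ShortComplex.exact_iff_exact_up_to_refinements _).1 hcd _ h5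
    have hx' : π₃ ≫ (π₂ ≫ w₁ - y ≫ a) = x ≫ c := hx
    have h6 : π₃ ≫ π₂ ≫ w₁ = x ≫ c + π₃ ≫ y ≫ a := by
      rw [← hx', Preadditive.comp_sub]; abel
    have h7 : (π₃ ≫ π₂ ≫ π₁) ≫ z = 0 := by
      calc (π₃ ≫ π₂ ≫ π₁) ≫ z = π₃ ≫ π₂ ≫ (π₁ ≫ z) := by simp only [Category.assoc]
        _ = (π₃ ≫ π₂ ≫ w₁) ≫ b ≫ cokernel.π (c ≫ b) := by
            rw [hw₁]; simp only [Category.assoc]
        _ = x ≫ (c ≫ b) ≫ cokernel.π (c ≫ b) + π₃ ≫ y ≫ (a ≫ b) ≫ cokernel.π (c ≫ b) := by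
            rw [h6, Preadditive.add_comp]; simp only [Category.assoc]
        _ = 0 := by rw [cokernel.condition, wab, zero_comp, comp_zero, comp_zero, comp_zero,
            add_zero]
    exact (cancel_epi (π₃ ≫ π₂ ≫ π₁)).1 (h7.trans comp_zero.symm)
  -- ψ epi
  haveI hψe : Epi ψ := by
    rw [epi_iff_surjective_up_to_refinements]
    intro T t
    have h4 : (t ≫ kernel.ι g) ≫ g = 0 := by rw [Category.assoc, kernel.condition, comp_zero]
    obtain ⟨T₁, π₁, hπ₁, y, hy⟩ :=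
      (ShortComplex.exact_iff_exact_up_to_refinements _).1 heg _ h4
    have hy' : π₁ ≫ t ≫ kernel.ι g = y ≫ e := hy
    refine ⟨T₁, π₁, hπ₁, y ≫ cokernel.π (a ≫ d), ?_⟩
    rw [← cancel_mono (kernel.ι g), Category.assoc, hy', Category.assoc, Category.assoc, hπψι]
  refine { exact := ?_, mono_f := hφm, epi_g := hψe }
  rw [ShortComplex.exact_iff_exact_up_to_refinements]
  intro T z hz
  have hz' : z ≫ ψ = 0 := hz
  obtain ⟨T₁, π₁, hπ₁, y, hy⟩ := surjective_up_to_refinements_of_epi (cokernel.π (a ≫ d)) z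
  have h4 : y ≫ e = 0 := by
    rw [← hπψι, ← Category.assoc, ← hy, Category.assoc, ← Category.assoc z, hz', zero_comp,
      comp_zero]
  obtain ⟨T₂, π₂, hπ₂, w₂, hw₂⟩ :=
    (ShortComplex.exact_iff_exact_up_to_refinements _).1 hde y h4
  have hw₂' : π₂ ≫ y = w₂ ≫ d := hw₂
  refine ⟨T₂, π₂ ≫ π₁, inferInstance, w₂ ≫ b ≫ cokernel.π (c ≫ b), ?_⟩
  change (π₂ ≫ π₁) ≫ z = (w₂ ≫ b ≫ cokernel.π (c ≫ b)) ≫ φ
  calc (π₂ ≫ π₁) ≫ z = (π₂ ≫ y) ≫ cokernel.π (a ≫ d) := by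
        rw [Category.assoc, hy, Category.assoc]
    _ = w₂ ≫ (b ≫ cokernel.π (c ≫ b) ≫ φ) := by rw [hw₂', Category.assoc, hbπφ]
    _ = (w₂ ≫ b ≫ cokernel.π (c ≫ b)) ≫ φ := by simp only [Category.assoc]

end Groth.Agent.S14498
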