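import Groth.Statements.S14509
import Mathlib
import Groth.Agent.H8Todd4

set_option autoImplicit false
open IntTh

namespace Groth.Agent.S14509

/-- Let f(t) ∈ ℚ⟦t⟧ be the Todd series, characterised by f(t)·(e^t − 1) = t·e^t, i.e. f(t) = t/(1 −
e^(−t)). Then for every m ∈ ℤ and n ∈ ℕ the coefficient of t^n in e^(mt)·f(t)^(n+1) is the binomial
coefficient C(m+n, n), understood as the polynomial (m+n)(m+n−1)⋯(m+1)/n! in m (so for all integers
m). (The published statement is the Hirzebruch–Riemann–Roch formula χ(E) = ∫ ch(E)·td for vector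
bundles on projective n-space; this row is the identity of formal power series to which its proof
reduces it for E = O(m): the degree-n part of ch(O(m))·td(P^n) = e^(mζ)(ζ/(1 − e^(−ζ)))^(n+1)
against χ(P^n, O(m)) = C(m+n, n).) -/
theorem result (f : PowerSeries ℚ)
    (hf : f * (PowerSeries.exp ℚ - 1) = PowerSeries.X * PowerSeries.exp ℚ) (m : ℤ) (n : ℕ) :
    PowerSeries.coeff n (PowerSeries.rescale (m : ℚ) (PowerSeries.exp ℚ) * f ^ (n + 1)) =
      ((Ring.choose (m + n : ℤ) n : ℤ) : ℚ) := by
  induction n with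
  | zero =>
    have h0 := H8Todd4.todd_const f hf
    rw [zero_add, pow_one, PowerSeries.coeff_zero_eq_constantCoeff_apply, map_mul, h0]
    have hE : PowerSeries.constantCoeff (PowerSeries.rescale (m : ℚ) (PowerSeries.exp ℚ)) = 1 := by
      rw [← PowerSeries.coeff_zero_eq_constantCoeff_apply, PowerSeries.coeff_rescale]
      simp
    simp [hE]
  | succ k ih =>
    have hrec := H8Todd4.recurrence f hf (m : ℚ) k
    rw [ih] at hrec
    have hch : ((k : ℤ) + 1) * Ring.choose (m + ((k + 1 : ℕ) : ℤ)) (k + 1) =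
        (m + k + 1) * Ring.choose (m + (k : ℤ)) k := by
      have h := Ring.choose_smul_choose (m + ((k + 1 : ℕ) : ℤ)) (n := k + 1) (k := 1) (by omega)
      rw [Nat.choose_one_right, Ring.choose_one_right, Nat.add_sub_cancel, nsmul_eq_mul] at h
      have h2 : m + ((k + 1 : ℕ) : ℤ) - ((1 : ℕ) : ℤ) = m + (k : ℤ) := by push_cast; ring
      rw [h2] at h
      push_cast at h ⊢
      linear_combination h
    have hch' := congrArg (fun z : ℤ => (z : ℚ)) hch
    simp only [Int.cast_mul, Int.cast_add, Int.cast_natCast, Int.cast_one] at hch'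
    have hk : ((k : ℚ) + 1) ≠ 0 := by positivity
    apply mul_left_cancel₀ hk
    have e1 : k + 1 + 1 = k + 2 := rfl
    rw [e1, hrec, hch']

end Groth.Agent.S14509
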