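import Groth.Statements.S14506
import Mathlib
import Groth.Agent.S14509

set_option autoImplicit false
open IntTh

namespace Groth.Agent.S14506

/-- A formal power series f(t) ∈ ℚ⟦t⟧ satisfies, for every n ≥ 0, that the coefficient of t^n in
f(t)^(n+1) is 1, if and only if f(t)·(e^t − 1) = t·e^t, that is f(t) = t/(1 − e^(−t)) = 1 + t/2 +
t²/12 − ⋯. (The published statement is the existence and uniqueness of the Todd class of vector
bundles normalised by multiplicativity, td(O) = 1 and the Riemann–Roch identity for the structure
sheaf of every projective space; this row is the power-series fact its proof establishes: the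
normalisation forces exactly these coefficient conditions on the one-variable series.) -/
theorem result (f : PowerSeries ℚ) :
    (∀ n : ℕ, PowerSeries.coeff n (f ^ (n + 1)) = 1) ↔
      f * (PowerSeries.exp ℚ - 1) = PowerSeries.X * PowerSeries.exp ℚ := by
  have huniq : ∀ f g : PowerSeries ℚ, (∀ n : ℕ, PowerSeries.coeff n (f ^ (n + 1)) = 1) →
      (∀ n : ℕ, PowerSeries.coeff n (g ^ (n + 1)) = 1) → f = g := by
    intro f g hf hg
    have hf0 : PowerSeries.constantCoeff f = 1 := by
      have := hf 0
      rwa [zero_add, pow_one, PowerSeries.coeff_zero_eq_constantCoeff_apply] at this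
    have hg0 : PowerSeries.constantCoeff g = 1 := by
      have := hg 0
      rwa [zero_add, pow_one, PowerSeries.coeff_zero_eq_constantCoeff_apply] at this
    ext n
    induction n using Nat.strong_induction_on with
    | _ n ih =>
      have hdvd : (PowerSeries.X : PowerSeries ℚ) ^ n ∣ f - g := by
        rw [PowerSeries.X_pow_dvd_iff]
        intro m hm
        rw [map_sub, ih m hm, sub_self]
      obtain ⟨h, hh⟩ := hdvd
      have hgeom := geom_sum₂_mul f g (n + 1)
      have hc := congrArg (PowerSeries.coeff n) hgeom
      rw [map_sub, hf n, hg n, sub_self, hh] at hc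
      have hre : (∑ i ∈ Finset.range (n + 1), f ^ i * g ^ (n + 1 - 1 - i)) * (PowerSeries.X ^ n * h)
          = PowerSeries.X ^ n * ((∑ i ∈ Finset.range (n + 1), f ^ i * g ^ (n + 1 - 1 - i)) * h) := by
        ring
      rw [hre] at hc
      have hc2 := PowerSeries.coeff_X_pow_mul
        ((∑ i ∈ Finset.range (n + 1), f ^ i * g ^ (n + 1 - 1 - i)) * h) n 0
      rw [zero_add] at hc2
      rw [hc2, PowerSeries.coeff_zero_eq_constantCoeff_apply, map_mul, map_sum] at hc
      have hS : ∑ i ∈ Finset.range (n + 1),
          PowerSeries.constantCoeff (f ^ i * g ^ (n + 1 - 1 - i)) = (n : ℚ) + 1 := by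
        have : ∀ i ∈ Finset.range (n + 1),
            PowerSeries.constantCoeff (f ^ i * g ^ (n + 1 - 1 - i)) = (1 : ℚ) := by
          intro i _
          rw [map_mul, map_pow, map_pow, hf0, hg0, one_pow, one_pow, one_mul]
        rw [Finset.sum_congr rfl this]
        simp
      rw [hS] at hc
      have hh0 : PowerSeries.constantCoeff h = 0 := by
        have hk : ((n : ℚ) + 1) ≠ 0 := by positivity
        exact (mul_eq_zero.mp hc).resolve_left hk
      have hfg : PowerSeries.coeff n (f - g) = 0 := by
        rw [hh]
        have := PowerSeries.coeff_X_pow_mul h n 0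
        rw [zero_add] at this
        rw [this, PowerSeries.coeff_zero_eq_constantCoeff_apply, hh0]
      rw [map_sub] at hfg
      exact sub_eq_zero.mp hfg
  have hbern := bernoulli'PowerSeries_mul_exp_sub_one ℚ
  have hbern_coeff : ∀ n : ℕ, PowerSeries.coeff n ((bernoulli'PowerSeries ℚ) ^ (n + 1)) = 1 := by
    intro n
    have := Groth.Agent.S14509.result (bernoulli'PowerSeries ℚ) hbern 0 n
    rw [Int.cast_zero, PowerSeries.rescale_zero] at this
    simp only [RingHom.comp_apply, PowerSeries.constantCoeff_exp, map_one, one_mul, zero_add] at this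
    rw [this, Ring.choose_natCast]
    simp
  constructor
  · intro h
    rw [huniq f _ h hbern_coeff]
    exact hbern
  · intro h n
    have := Groth.Agent.S14509.result f h 0 n
    rw [Int.cast_zero, PowerSeries.rescale_zero] at this
    simp only [RingHom.comp_apply, PowerSeries.constantCoeff_exp, map_one, one_mul, zero_add] at this
    rw [this, Ring.choose_natCast]
    simp

end Groth.Agent.S14506
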