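import Groth.Statements.S14511
import Mathlib
import Groth.Agent.Lib.helper7.MonoAlt

set_option autoImplicit false
universe u
open CAlgX

namespace Groth.Agent.S14511

/-- Let R be a commutative ring and P ∈ R[x_1, …, x_r] a polynomial of total degree at most r. Then the
coefficient of the monomial x_1 ⋯ x_r in P equals Σ_J (−1)^{|J|} P(δ_J), the sum over all subsets J
⊆ {1, …, r} (the empty one included), where δ_J is the point with coordinate −1 at the indices in J
and 0 at the others. -/
theorem result (R : Type u) [CommRing R] (r : ℕ)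
    (P : MvPolynomial (Fin r) R) (hP : P.totalDegree ≤ r) :
    MvPolynomial.coeff (∑ i : Fin r, Finsupp.single i 1) P =
      ∑ J : Finset (Fin r), (-1 : R) ^ J.card * MvPolynomial.eval (fun j => if j ∈ J then (-1 : R) else 0) P := by
  classical
  have h1 : ∀ J : Finset (Fin r), (-1 : R) ^ J.card * MvPolynomial.eval (fun j => if j ∈ J then (-1 : R) else 0) P =
      ∑ a ∈ P.support, (-1 : R) ^ J.card *
        MvPolynomial.eval (fun j => if j ∈ J then (-1 : R) else 0) (MvPolynomial.monomial a (MvPolynomial.coeff a P)) := by
    intro J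
    conv_lhs => rw [← MvPolynomial.support_sum_monomial_coeff P]
    rw [map_sum, Finset.mul_sum]
  rw [Finset.sum_congr rfl (fun J _ => h1 J), Finset.sum_comm]
  have h2 : ∀ a ∈ P.support, ∑ J : Finset (Fin r), (-1 : R) ^ J.card *
        MvPolynomial.eval (fun j => if j ∈ J then (-1 : R) else 0) (MvPolynomial.monomial a (MvPolynomial.coeff a P)) =
      if a = ∑ i : Fin r, Finsupp.single i 1 then MvPolynomial.coeff a P else 0 := by
    intro a ha
    exact Groth.Agent.Lib.helper7.H7_mono_alt R r a _ ((MvPolynomial.le_totalDegree ha).trans hP)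
  rw [Finset.sum_congr rfl h2, Finset.sum_ite_eq']
  split_ifs with h
  · rfl
  · exact MvPolynomial.notMem_support_iff.mp h

end Groth.Agent.S14511
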