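import Groth.Statements.S1460
import Mathlib
import Groth.Agent.Lib.helper1.NoethApprox

set_option autoImplicit false
universe u
open FlatMor

namespace Groth.Agent.S1460

open AlgebraicGeometry CategoryTheory Limits in
/-- Let f : X → S be a morphism of finite presentation between affine schemes. Then f is the base change
of a morphism of finite type f₀ : X₀ → S₀ between affine schemes with S₀ of finite type over ℤ. -/
theorem result {X S : Scheme.{u}} (f : X ⟶ S) [IsAffine X] [IsAffine S] [LocallyOfFinitePresentation f] :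
    ∃ (X₀ S₀ : Scheme.{u}) (f₀ : X₀ ⟶ S₀) (g : S ⟶ S₀) (g' : X ⟶ X₀), IsAffine X₀ ∧ IsAffine S₀ ∧ IsPullback g' f f₀ g ∧
      Algebra.FiniteType ℤ Γ(S₀, ⊤) ∧ LocallyOfFiniteType f₀ := by
  obtain ⟨R₀, B₀, φ₀, g, g', hpb, hft, hφ₀⟩ := Groth.Agent.H1.H1_noeth_approx_scheme f
  refine ⟨Spec B₀, Spec R₀, Spec.map φ₀, g, g', inferInstance, inferInstance, hpb, ?_, ?_⟩
  · exact Algebra.FiniteType.equiv hft
      (Scheme.ΓSpecIso R₀).symm.commRingCatIsoToRingEquiv.toIntAlgEquiv
  · have : LocallyOfFinitePresentation (Spec.map φ₀) :=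
      (HasRingHomProperty.Spec_iff (P := @LocallyOfFinitePresentation)).mpr hφ₀
    infer_instance

end Groth.Agent.S1460
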