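import Groth.Statements.S14613
import Mathlib
import Groth.Agent.Lib.helper2.FlatTensorQis

set_option autoImplicit false
universe u
open FlatCx

namespace Groth.Agent.S14613

open CategoryTheory CategoryTheory.Limits in
/-- Let A be a commutative ring (not necessarily Noetherian), C and D cochain complexes of flat
A-modules that are bounded above (zero in all large degrees), φ : C → D a quasi-isomorphism and M an
arbitrary A-module. Then φ ⊗ id_M : C ⊗_A M → D ⊗_A M, the tensor product taken degreewise, is a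
quasi-isomorphism. Boundedness cannot be dropped. -/
theorem result (A : Type u) [CommRing A]
    (C D : CochainComplex (ModuleCat.{u} A) ℤ)
    (hC : ∀ i, Module.Flat A (C.X i)) (hD : ∀ i, Module.Flat A (D.X i))
    (bC : ∃ b : ℤ, ∀ i, b < i → IsZero (C.X i)) (bD : ∃ b : ℤ, ∀ i, b < i → IsZero (D.X i))
    (φ : C ⟶ D) [QuasiIso φ] (M : ModuleCat.{u} A) :
    QuasiIso (((MonoidalCategory.tensorRight M).mapHomologicalComplex (ComplexShape.up ℤ)).map φ) := by
  letI : HasDerivedCategory.{u + 1} (ModuleCat.{u} A) := HasDerivedCategory.standard _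
  rw [Groth.Agent.H2.H2_quasiIso_iff_acyclic_cone]
  have hcone := (Groth.Agent.H2.H2_quasiIso_iff_acyclic_cone φ).mp inferInstance
  have hX : ∀ i : ℤ, (CochainComplex.mappingCone φ).X i ≅ C.X (i + 1) ⊞ D.X i :=
    fun i => HomologicalComplex.homotopyCofiber.XIsoBiprod φ i (i + 1) rfl
  have hflat : ∀ i, Module.Flat A ((CochainComplex.mappingCone φ).X i) := by
    intro i
    haveI := hC (i + 1)
    haveI := hD i
    haveI : Module.Flat A (C.X (i + 1) × D.X i) := Groth.Agent.H2.H2_flat_prod
    exact Module.Flat.of_linearEquiv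
      ((hX i) ≪≫ ModuleCat.biprodIsoProd (C.X (i + 1)) (D.X i)).toLinearEquiv
  have hbdd : ∃ b : ℤ, ∀ i, b < i → IsZero ((CochainComplex.mappingCone φ).X i) := by
    obtain ⟨b₁, hb₁⟩ := bC
    obtain ⟨b₂, hb₂⟩ := bD
    refine ⟨max b₁ b₂, fun i hi => ?_⟩
    have h5 := le_max_left b₁ b₂
    have h6 := le_max_right b₁ b₂
    refine IsZero.of_iso ?_ (hX i)
    rw [IsZero.iff_id_eq_zero]
    apply biprod.hom_ext
    · exact (hb₁ (i + 1) (by omega)).eq_of_tgt _ _
    · exact (hb₂ i (by omega)).eq_of_tgt _ _
  intro n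
  have h1 := Groth.Agent.H2.H2_tensor_acyclic (CochainComplex.mappingCone φ) hflat hbdd hcone M n
  let e := CochainComplex.mappingCone.mapHomologicalComplexIso φ (MonoidalCategory.tensorRight M)
  exact IsZero.of_iso h1
    ((HomologicalComplex.homologyFunctor (ModuleCat.{u} A) (ComplexShape.up ℤ) n).mapIso e).symm

end Groth.Agent.S14613
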