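import Groth.Statements.S14615
import Mathlib

set_option autoImplicit false
universe u
open Formal2

namespace Groth.Agent.S14615

/-- Let … → G_2 → G_1 → G_0 be an inverse system of abelian groups with transition maps t_n : G_{n+1} →
G_n, and suppose that for every i there is j ≥ i such that the composite transition map G_j → G_i is
zero; this is expressed by asking that every sequence (x_n) ∈ ∏ G_n satisfying x_n = t_n(x_{n+1})
for i ≤ n < j has x_i = 0. Then both lim G_n and lim¹ G_n vanish: the map (x_n) ↦ (x_n −
t_n(x_{n+1})) on ∏ G_n, whose kernel is lim and whose cokernel is lim¹, is injective and surjective. -/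
theorem result (G : ℕ → Type u)
    [∀ n, AddCommGroup (G n)] (t : ∀ n, G (n + 1) →+ G n)
    (h : ∀ i : ℕ, ∃ j : ℕ, i ≤ j ∧
      ∀ x : ∀ n, G n, (∀ n, i ≤ n → n < j → x n = t n (x (n + 1))) → x i = 0) :
    Formal2.limZero G t = ⊥ ∧ Function.Surjective (Formal2.towerDiff G t) := by
  classical
  -- the shift operator
  let S : (∀ n, G n) →+ (∀ n, G n) :=
    { toFun := fun x n => t n (x (n + 1))
      map_zero' := by ext n; simp
      map_add' := by intro x y; ext n; simp }
  have hS : ∀ x n, S x n = t n (x (n + 1)) := fun _ _ => rfl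
  -- vanishing of high iterates
  have hvan : ∀ i : ℕ, ∃ K : ℕ, ∀ k, K ≤ k → ∀ z : ∀ n, G n, (S^[k] z) i = 0 := by
    intro i
    obtain ⟨j, hij, hj⟩ := h i
    refine ⟨j - i, ?_⟩
    intro k hk z
    have hk' : k = (j - i) + (k - (j - i)) := by omega
    rw [hk', Function.iterate_add_apply]
    set w := S^[k - (j - i)] z with hw
    have := hj (fun n => (S^[j - n] w) n) ?_
    · simpa using this
    · intro n hin hnj
      have e : j - n = (j - (n + 1)) + 1 := by omega
      show (S^[j - n] w) n = t n ((S^[j - (n + 1)] w) (n + 1))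
      rw [e, Function.iterate_succ_apply', hS]
  choose K hK using hvan
  constructor
  · rw [eq_bot_iff]
    intro x hx
    rw [AddMonoidHom.mem_ker] at hx
    have hx' : ∀ n, x n = t n (x (n + 1)) := by
      intro n
      have := congrFun hx n
      simp only [Formal2.towerDiff, AddMonoidHom.coe_mk, ZeroHom.coe_mk, Pi.zero_apply] at this
      exact sub_eq_zero.mp this
    rw [AddSubgroup.mem_bot]
    ext i
    obtain ⟨j, hij, hj⟩ := h i
    exact hj x (fun n _ _ => hx' n)
  · intro y
    have hsum : ∀ i N, K i ≤ N →
        ∑ k ∈ Finset.range N, (S^[k] y) i = ∑ k ∈ Finset.range (K i), (S^[k] y) i := by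
      intro i N hN
      obtain ⟨d, rfl⟩ := Nat.exists_eq_add_of_le hN
      induction d with
      | zero => rfl
      | succ d ih =>
        rw [← add_assoc, Finset.sum_range_succ, ih (Nat.le_add_right _ _),
          hK i _ (Nat.le_add_right _ _), add_zero]
    refine ⟨fun i => ∑ k ∈ Finset.range (K i), (S^[k] y) i, ?_⟩
    ext i
    simp only [Formal2.towerDiff, AddMonoidHom.coe_mk, ZeroHom.coe_mk]
    set N := max (K i) (K (i + 1)) with hN
    rw [← hsum i (N + 1) (by omega), ← hsum (i + 1) N (by omega), map_sum,
      Finset.sum_range_succ']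
    have : ∀ k, t i ((S^[k] y) (i + 1)) = (S^[k + 1] y) i := by
      intro k
      rw [Function.iterate_succ_apply', hS]
    simp only [this]
    simp

end Groth.Agent.S14615
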