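import Groth.Statements.S14616
import Mathlib

set_option autoImplicit false
universe u
open Formal2

namespace Groth.Agent.S14616


open CategoryTheory CategoryTheory.Limits Opposite

variable (G : ℕ → Type u) [∀ n, AddCommGroup (G n)] (t : ∀ n, G (n + 1) →+ G n)

abbrev F : ℕᵒᵖ ⥤ AddCommGrpCat.{u} :=
  Functor.ofOpSequence (X := fun n => AddCommGrpCat.of (G n)) (fun n => AddCommGrpCat.ofHom (t n))

def T {n m : ℕ} (h : n ≤ m) : G m →+ G n := ((F G t).map (homOfLE h).op).hom

lemma T_refl (n : ℕ) (x : G n) : T G t (le_refl n) x = x := by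
  have : (homOfLE (le_refl n)).op = 𝟙 (op n) := Subsingleton.elim _ _
  simp only [T, this]
  rw [(F G t).map_id]; rfl

lemma T_trans {n m k : ℕ} (h : n ≤ m) (h' : m ≤ k) (x : G k) :
    T G t h (T G t h' x) = T G t (h.trans h') x := by
  have : (homOfLE (h.trans h')).op = (homOfLE h').op ≫ (homOfLE h).op := Subsingleton.elim _ _
  simp only [T, this]
  rw [(F G t).map_comp]; rfl

lemma T_succ (n : ℕ) (x : G (n+1)) : T G t (Nat.le_succ n) x = t n x := by
  have := Functor.ofOpSequence_map_homOfLE_succ (X := fun n => AddCommGrpCat.of (G n))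
    (fun n => AddCommGrpCat.ofHom (t n)) n
  simp only [T]
  erw [this]; rfl

lemma F'_map {n m : ℕ} (f : op m ⟶ op n) (h : n ≤ m) (c : G m) :
    ((F G t ⋙ forget AddCommGrpCat).map f) c = T G t h c := by
  have : f = (homOfLE h).op := Subsingleton.elim _ _
  subst this
  rfl


def s (y : ∀ n, G n) : ℕ → ∀ n, G n
  | 0, _ => 0
  | d+1, n => y n + t n (s y d (n+1))

lemma tail (y : ∀ n, G n) : ∀ (d e n m : ℕ) (h : n ≤ m), m ≤ n + d →
    ∃ c : G m, s G t y (d + e) n - s G t y d n = T G t h c := by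
  intro d
  induction d with
  | zero =>
    intro e n m h hm
    have : m = n := le_antisymm (by simpa using hm) h
    subst this
    exact ⟨_, (T_refl G t m _).symm⟩
  | succ d ih =>
    intro e n m h hm
    by_cases hmn : m = n
    · subst hmn
      exact ⟨_, (T_refl G t m _).symm⟩
    · have h' : n + 1 ≤ m := by omega
      obtain ⟨c, hc⟩ := ih e (n+1) m h' (by omega)
      refine ⟨c, ?_⟩
      have e1 : d + 1 + e = d + e + 1 := Nat.add_right_comm d 1 e
      rw [e1]
      show (y n + t n (s G t y (d + e) (n+1))) - (y n + t n (s G t y d (n+1))) = _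
      rw [add_sub_add_left_eq_sub, ← map_sub, hc, ← T_succ, T_trans]

abbrev F' : ℕᵒᵖ ⥤ Type u := F G t ⋙ forget AddCommGrpCat

abbrev E (n : ℕ) : Set (G n) := (F' G t).eventualRange (op n)

lemma mem_E_iff (n : ℕ) (x : G n) :
    x ∈ E G t n ↔ ∀ (m : ℕ) (h : n ≤ m), ∃ c : G m, T G t h c = x := by
  constructor
  · intro hx m h
    obtain ⟨c, hc⟩ := ((F' G t).mem_eventualRange_iff.1 hx) (homOfLE h).op
    exact ⟨c, (F'_map G t _ h c).symm.trans hc⟩
  · intro hx
    refine (F' G t).mem_eventualRange_iff.2 ?_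
    rintro ⟨m⟩ f
    have h : n ≤ m := f.unop.le
    obtain ⟨c, hc⟩ := hx m h
    exact ⟨c, (F'_map G t f h c).trans hc⟩

lemma E_zero (n : ℕ) : (0 : G n) ∈ E G t n :=
  (mem_E_iff G t n 0).2 (fun m h => ⟨0, map_zero _⟩)

lemma E_sub (n : ℕ) (a b : G n) (ha : a ∈ E G t n) (hb : b ∈ E G t n) : a - b ∈ E G t n := by
  rw [mem_E_iff] at ha hb ⊢
  intro m h
  obtain ⟨c, hc⟩ := ha m h
  obtain ⟨c', hc'⟩ := hb m h
  exact ⟨c - c', by rw [map_sub, hc, hc']⟩

lemma E_surj (hML : (F' G t).IsMittagLeffler) (n : ℕ) (a : G n) (ha : a ∈ E G t n) :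
    ∃ b : G (n+1), b ∈ E G t (n+1) ∧ t n b = a := by
  obtain ⟨b, hb, hba⟩ := hML.subset_image_eventualRange (F' G t) (homOfLE (Nat.le_succ n)).op ha
  refine ⟨b, hb, ?_⟩
  rw [← T_succ]
  exact (F'_map G t _ (Nat.le_succ n) b).symm.trans hba

lemma E_range (hML : (F' G t).IsMittagLeffler) (n : ℕ) :
    ∃ (j : ℕ) (hj : n ≤ j), ∀ c : G j, T G t hj c ∈ E G t n := by
  obtain ⟨⟨j⟩, f, hf⟩ := (F' G t).isMittagLeffler_iff_eventualRange.1 hML (op n)
  have hj : n ≤ j := f.unop.le
  refine ⟨j, hj, fun c => ?_⟩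
  show T G t hj c ∈ (F' G t).eventualRange (op n)
  rw [hf]
  exact ⟨c, F'_map G t f hj c⟩

lemma stepA (hML : (F' G t).IsMittagLeffler) (y : ∀ n, G n) :
    ∃ (w z : ∀ n, G n), (∀ n, w n ∈ E G t n) ∧ ∀ n, z n - t n (z (n+1)) = y n - w n := by
  choose j hjn hjE using E_range G t hML
  let J : ℕ → ℕ := fun n => Nat.rec (j 0) (fun k r => max r (j (k+1))) n
  have hJ1 : ∀ n, j n ≤ J n := by
    intro n
    cases n with
    | zero => exact le_rfl
    | succ k => exact le_max_right _ _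
  have hJ2 : ∀ n, J n ≤ J (n+1) := fun n => le_max_left _ _
  refine ⟨fun n => s G t y (J (n+1) + 1) n - s G t y (J n) n, fun n => s G t y (J n) n, ?_, ?_⟩
  · intro n
    obtain ⟨e, he⟩ : ∃ e, J (n+1) + 1 = J n + e :=
      ⟨J (n+1) + 1 - J n, by have := hJ2 n; omega⟩
    obtain ⟨c, hc⟩ := tail G t y (J n) e n (j n) (hjn n) (by have := hJ1 n; omega)
    show s G t y (J (n+1) + 1) n - s G t y (J n) n ∈ E G t n
    rw [he, hc]
    exact hjE n c
  · intro n
    show s G t y (J n) n - t n (s G t y (J (n+1)) (n+1)) =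
      y n - (s G t y (J (n+1) + 1) n - s G t y (J n) n)
    have : s G t y (J (n+1) + 1) n = y n + t n (s G t y (J (n+1)) (n+1)) := rfl
    rw [this]
    abel

lemma stepB (hML : (F' G t).IsMittagLeffler) (w : ∀ n, G n) (hw : ∀ n, w n ∈ E G t n) :
    ∃ x' : ∀ n, G n, ∀ n, x' n - t n (x' (n+1)) = w n := by
  have hs : ∀ n (a : {a : G n // a ∈ E G t n}),
      ∃ b : G (n+1), b ∈ E G t (n+1) ∧ t n b = a.1 - w n := fun n a =>
    E_surj G t hML n _ (E_sub G t n _ _ a.2 (hw n))
  let step : ∀ n, {a : G n // a ∈ E G t n} → {b : G (n+1) // b ∈ E G t (n+1)} := fun n a =>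
    ⟨Classical.choose (hs n a), (Classical.choose_spec (hs n a)).1⟩
  let X : ∀ n, {a : G n // a ∈ E G t n} := fun n =>
    Nat.rec (motive := fun n => {a : G n // a ∈ E G t n}) ⟨0, E_zero G t 0⟩ (fun k r => step k r) n
  refine ⟨fun n => (X n).1, fun n => ?_⟩
  have : t n (X (n+1)).1 = (X n).1 - w n := (Classical.choose_spec (hs n (X n))).2
  show (X n).1 - t n (X (n+1)).1 = w n
  rw [this]
  abel

theorem main (hML : (F' G t).IsMittagLeffler) : Function.Surjective (Formal2.towerDiff G t) := by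
  intro y
  obtain ⟨w, z, hw, hz⟩ := stepA G t hML y
  obtain ⟨x', hx'⟩ := stepB G t hML w hw
  refine ⟨fun n => z n + x' n, ?_⟩
  funext n
  show (z n + x' n) - t n (z (n+1) + x' (n+1)) = y n
  rw [map_add]
  have e1 := hz n
  have e2 := hx' n
  calc z n + x' n - (t n (z (n+1)) + t n (x' (n+1)))
      = (z n - t n (z (n+1))) + (x' n - t n (x' (n+1))) := by abel
    _ = y n := by rw [e1, e2]; abel

open CategoryTheory in
/-- Let … → G_2 → G_1 → G_0 be an inverse system of abelian groups with transition maps t_n : G_{n+1} →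
G_n which satisfies the Mittag-Leffler condition: for every i there is j ≥ i such that for all k ≥ j
the images of G_k → G_i and G_j → G_i coincide. Then lim¹ G_n = 0, i.e. the map (x_n) ↦ (x_n −
t_n(x_{n+1})) on ∏ G_n is surjective. -/
theorem result (G : ℕ → Type u) [∀ n, AddCommGroup (G n)]
    (t : ∀ n, G (n + 1) →+ G n)
    (h : (Functor.ofOpSequence (X := fun n => AddCommGrpCat.of (G n))
      (fun n => AddCommGrpCat.ofHom (t n)) ⋙ forget AddCommGrpCat).IsMittagLeffler) :
    Function.Surjective (Formal2.towerDiff G t) := by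
  exact main G t h

end Groth.Agent.S14616
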