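import Groth.Statements.S14676
import Mathlib
import Groth.Agent.Lib.helper7.Hensel

set_option autoImplicit false
universe u
open CAlg

namespace Groth.Agent.S14676

/-- Let A be a commutative ring which is separated and complete for the I-adic topology of an ideal I,
let P be any polynomial over A (not assumed monic) and a₀ an element of A such that P(a₀) lies in I
and P'(a₀) is a unit modulo I. Then there is a unique a in A congruent to a₀ modulo I with P(a) = 0. -/
theorem result (A : Type u) [CommRing A] (I : Ideal A) [IsAdicComplete I A]
    (P : Polynomial A) (a₀ : A) (h₀ : P.eval a₀ ∈ I)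
    (h₁ : IsUnit (Ideal.Quotient.mk I (P.derivative.eval a₀))) :
    ∃! a : A, a - a₀ ∈ I ∧ P.IsRoot a := by
  obtain ⟨a, ha, haI⟩ := Groth.Agent.Lib.helper7.H7_hensel_exists A I P a₀ h₀ h₁
  refine ⟨a, ⟨haI, ha⟩, ?_⟩
  rintro b ⟨hbI, hb⟩
  obtain ⟨c, hc⟩ := Polynomial.exists_mul_sq_add_linear_part_eq_eval_add P a (b - a)
  have hab : b - a ∈ I := by
    have : b - a = (b - a₀) - (a - a₀) := by ring
    rw [this]
    exact I.sub_mem hbI haI
  have e1 : Polynomial.eval a P = 0 := ha
  have e2 : Polynomial.eval b P = 0 := hb
  rw [add_sub_cancel, e1, e2] at hc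
  have hc' : (c * (b - a) + Polynomial.eval a (Polynomial.derivative P)) * (b - a) = 0 := by
    linear_combination hc
  have hloc := isLocalHom_of_le_jacobson_bot I (IsAdicComplete.le_jacobson_bot I)
  have hu : IsUnit (c * (b - a) + Polynomial.eval a (Polynomial.derivative P)) := by
    apply IsUnit.of_map (Ideal.Quotient.mk I)
    have h3 : Ideal.Quotient.mk I (c * (b - a) + Polynomial.eval a (Polynomial.derivative P))
        = Ideal.Quotient.mk I (Polynomial.eval a₀ (Polynomial.derivative P)) := by
      rw [Ideal.Quotient.eq]
      have h4 : Polynomial.eval a (Polynomial.derivative P)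
          - Polynomial.eval a₀ (Polynomial.derivative P) ∈ I := by
        have := (SModEq.sub_mem.mpr haI).eval (Polynomial.derivative P)
        exact SModEq.sub_mem.mp this
      have h5 : c * (b - a) ∈ I := I.mul_mem_left c hab
      have : c * (b - a) + Polynomial.eval a (Polynomial.derivative P)
          - Polynomial.eval a₀ (Polynomial.derivative P)
          = c * (b - a) + (Polynomial.eval a (Polynomial.derivative P)
          - Polynomial.eval a₀ (Polynomial.derivative P)) := by ring
      rw [this]
      exact I.add_mem h5 h4
    rw [h3]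
    exact h₁
  have := (hu.mul_right_eq_zero).mp hc'
  exact sub_eq_zero.mp this

end Groth.Agent.S14676
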