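import Groth.Statements.S14677
import Groth.Statements.S14677
import Mathlib

set_option autoImplicit false
universe u
open CAlg

namespace Groth.Agent.S14677

/-- Let A be a Noetherian commutative ring, I and J ideals of A and M a finitely generated A-module.
Then the map of I-adic completions induced by the inclusion of the submodule JM into M is injective
with image exactly J·M̂, where M̂ is the I-adic completion of M; that is, the completion of JM is J
times the completion of M. (The published statement does not say that A is Noetherian; its proof
uses exactness of completion on finitely generated modules, which needs it, so this row assumes A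
Noetherian.) -/
theorem result (A : Type u) [CommRing A] [IsNoetherianRing A] (I J : Ideal A)
    (M : Type u) [AddCommGroup M] [Module A M] [Module.Finite A M] :
    Function.Injective (AdicCompletion.map I (J • (⊤ : Submodule A M)).subtype) ∧
      LinearMap.range (AdicCompletion.map I (J • (⊤ : Submodule A M)).subtype) =
        (J.map (algebraMap A (AdicCompletion I A))) • (⊤ : Submodule (AdicCompletion I A) (AdicCompletion I M)) := by
  classical
  refine ⟨AdicCompletion.map_injective I (Submodule.injective_subtype _), ?_⟩
  apply le_antisymm
  · rintro _ ⟨z, rfl⟩
    obtain ⟨t, rfl⟩ := AdicCompletion.ofTensorProduct_surjective_of_finite I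
      (↥(J • (⊤ : Submodule A M))) z
    induction t using TensorProduct.induction_on with
    | zero =>
      rw [map_zero, map_zero]
      exact Submodule.zero_mem _
    | tmul r x =>
      rw [AdicCompletion.ofTensorProduct_tmul, map_smul, AdicCompletion.map_of]
      apply Submodule.smul_mem
      have hx : ((J • (⊤ : Submodule A M)).subtype x) ∈ (J • (⊤ : Submodule A M)) := x.2
      refine Submodule.smul_induction_on hx ?_ ?_
      · intro j hj m _
        rw [map_smul, ← algebraMap_smul (AdicCompletion I A) j]
        exact Submodule.smul_mem_smul (Ideal.mem_map_of_mem _ hj) Submodule.mem_top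
      · intro u v hu hv
        rw [map_add]
        exact Submodule.add_mem _ hu hv
    | add a b ha hb =>
      rw [map_add, map_add]
      exact Submodule.add_mem _ ha hb
  · rw [Submodule.smul_le]
    intro r hr y _
    rw [Ideal.map] at hr
    refine Submodule.span_induction (p := fun r _ => r • y ∈
      LinearMap.range (AdicCompletion.map I (J • (⊤ : Submodule A M)).subtype)) ?_ ?_ ?_ ?_ hr
    · rintro _ ⟨j, hj, rfl⟩
      let μ : M →ₗ[A] ↥(J • (⊤ : Submodule A M)) :=
        LinearMap.codRestrict _ (j • LinearMap.id) (fun m => by
          show j • m ∈ _
          exact Submodule.smul_mem_smul hj Submodule.mem_top)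
      refine ⟨AdicCompletion.map I μ y, ?_⟩
      rw [AdicCompletion.map_comp_apply]
      have h1 : (J • (⊤ : Submodule A M)).subtype ∘ₗ μ = j • LinearMap.id := by
        ext m
        rfl
      rw [h1, algebraMap_smul]
      obtain ⟨a, rfl⟩ := AdicCompletion.mk_surjective I M y
      rw [AdicCompletion.map_mk, ← map_smul]
      rfl
    · rw [zero_smul]
      exact Submodule.zero_mem _
    · intro u v _ _ hu hv
      rw [add_smul]
      exact Submodule.add_mem _ hu hv
    · intro c u _ hu
      rw [smul_eq_mul, mul_smul]
      exact Submodule.smul_mem _ c hu

end Groth.Agent.S14677
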