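import Groth.Statements.S14728
import Mathlib
import Groth.Agent.Lib.helper7.ValSurj

set_option autoImplicit false
universe u
open ValPrufer

namespace Groth.Agent.S14728

/-- Let R be a Prüfer domain, i.e. a domain all of whose local rings at primes are valuation rings. (a)
For a multiplicative subset S, any localisation B = S⁻¹R that is a domain (S not containing 0) is a
Prüfer domain. (b) For a prime ideal I, the quotient R/I is a Prüfer domain. -/
theorem result
    (R : Type u) [CommRing R] [IsDomain R]
    (hR : ∀ (p : Ideal R) [p.IsPrime], ValuationRing (Localization.AtPrime p))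
    (S : Submonoid R) (B : Type u) [CommRing B] [IsDomain B] [Algebra R B] [IsLocalization S B]
    (I : Ideal R) [I.IsPrime] :
    (∀ (q : Ideal B) [q.IsPrime], ValuationRing (Localization.AtPrime q)) ∧
      (∀ (q : Ideal (R ⧸ I)) [q.IsPrime], ValuationRing (Localization.AtPrime q)) := by
  constructor
  · intro q _
    haveI : (q.comap (algebraMap R B)).IsPrime := Ideal.comap_isPrime _ _
    haveI := hR (q.comap (algebraMap R B))
    refine Groth.Agent.Lib.helper7.H7_valRing_of_surj
      (Localization.localRingHom (q.comap (algebraMap R B)) q (algebraMap R B) rfl) ?_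
    intro y
    obtain ⟨b, t, rfl⟩ := IsLocalization.exists_mk'_eq q.primeCompl y
    obtain ⟨r, s, rfl⟩ := IsLocalization.exists_mk'_eq S b
    obtain ⟨r', s', ht⟩ := IsLocalization.exists_mk'_eq S (t : B)
    have hs : ∀ s : S, algebraMap R B s ∉ q := by
      intro s hs
      have := IsLocalization.map_units B s
      exact (Ideal.IsPrime.ne_top inferInstance) (Ideal.eq_top_of_isUnit_mem _ hs this)
    have h1 : (t : B) * algebraMap R B s' = algebraMap R B r' := by
      rw [← ht]; exact IsLocalization.mk'_spec _ _ _
    have hmem : r' * s ∈ (q.comap (algebraMap R B)).primeCompl := by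
      intro hmem
      have hmem : algebraMap R B (r' * s) ∈ q := hmem
      rw [map_mul] at hmem
      rcases Ideal.IsPrime.mem_or_mem inferInstance hmem with h | h
      · rw [← h1] at h
        rcases Ideal.IsPrime.mem_or_mem inferInstance h with h' | h'
        · exact t.2 h'
        · exact hs s' h'
      · exact hs s h
    refine ⟨IsLocalization.mk' _ (r * s') ⟨r' * s, hmem⟩, ?_⟩
    rw [Localization.localRingHom_mk', IsLocalization.mk'_eq_iff_eq]
    congr 1
    simp only [map_mul]
    have h2 : IsLocalization.mk' B r s * algebraMap R B s = algebraMap R B r := IsLocalization.mk'_spec _ _ _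
    calc (t : B) * (algebraMap R B r * algebraMap R B s') = ((t : B) * algebraMap R B s') * algebraMap R B r := by ring
      _ = algebraMap R B r' * (IsLocalization.mk' B r s * algebraMap R B s) := by rw [h1, h2]
      _ = algebraMap R B r' * algebraMap R B s * IsLocalization.mk' B r s := by ring
  · intro q _
    haveI : (q.comap (Ideal.Quotient.mk I)).IsPrime := Ideal.comap_isPrime _ _
    haveI := hR (q.comap (Ideal.Quotient.mk I))
    refine Groth.Agent.Lib.helper7.H7_valRing_of_surj
      (Localization.localRingHom (q.comap (Ideal.Quotient.mk I)) q (Ideal.Quotient.mk I) rfl) ?_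
    intro y
    obtain ⟨b, t, rfl⟩ := IsLocalization.exists_mk'_eq q.primeCompl y
    obtain ⟨b', rfl⟩ := Ideal.Quotient.mk_surjective b
    obtain ⟨t', ht'⟩ := Ideal.Quotient.mk_surjective (t : R ⧸ I)
    have hmem : t' ∈ (q.comap (Ideal.Quotient.mk I)).primeCompl := by
      intro hmem
      have hmem : Ideal.Quotient.mk I t' ∈ q := hmem
      rw [ht'] at hmem
      exact t.2 hmem
    refine ⟨IsLocalization.mk' _ b' ⟨t', hmem⟩, ?_⟩
    rw [Localization.localRingHom_mk']
    congr 1
    exact Subtype.ext ht'

end Groth.Agent.S14728
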