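import Groth.Statements.S15542
import Mathlib
import Groth.Agent.Lib.helper4.ProConsScheme

set_option autoImplicit false
open CategoryTheory AlgebraicGeometry
universe u
open ProCons

namespace Groth.Agent.S15542

/-- The pro-constructible case. Let f : X ⟶ Y be any morphism of schemes and T a pro-constructible
subset of Y (locally on Y an intersection of locally constructible subsets). Then the preimage of T
under f is pro-constructible in X. -/
theorem result {X Y : Scheme.{u}} (f : X ⟶ Y) (T : Set Y)
    (hT : ProCons.IsProConstructible T) :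
    ProCons.IsProConstructible (f.base ⁻¹' T) := by
  apply Groth.Agent.H4.H4_pro_of_PC
  intro x
  obtain ⟨W, hW, hfxW, -⟩ := Groth.Agent.H4.H4_exists_affine_nhd Y ⊤ (f x) trivial
  obtain ⟨V, hV, hxV, hVW⟩ := Groth.Agent.H4.H4_exists_affine_nhd X (f ⁻¹ᵁ W) x hfxW
  haveI := Groth.Agent.H4.H4_spectral_affineOpen X V hV
  haveI := Groth.Agent.H4.H4_spectral_affineOpen Y W hW
  refine ⟨V, V.isOpen, hxV, inferInstance, ?_⟩
  have hPCW : Groth.Agent.H4.H4_PC (W : Set Y) T := Groth.Agent.H4.H4_PC_of_pro hT W.isOpen
  have hc := _root_.H4.H4_continuous_constr_of_isSpectralMap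
    (Groth.Agent.H4.H4_isSpectralMap_resMap f V W hV hW hVW)
  exact @IsClosed.preimage _ _ (constructibleTopology _) (constructibleTopology _) _ hc _ hPCW

end Groth.Agent.S15542
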