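import Groth.Statements.S14788
import Mathlib
import Groth.Agent.Lib.helper4.ProConsScheme
import Groth.Agent.S15542

set_option autoImplicit false
universe u
open CategoryTheory CategoryTheory.Limits AlgebraicGeometry
open Subtr

namespace Groth.Agent.S14788

/-- (i) ⇔ (iv): a morphism of schemes f : X ⟶ Y has the lifting property for ordered pairs of points if
and only if, for every pro-constructible subset Z ⊆ Y, the image under f of the closure of f⁻¹(Z) is
the closure of Z. (In the published item (iv) the right-hand side is printed as Z itself; the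
closure is meant, as the case of a non-closed point shows and as the proof uses.) -/
theorem result {X Y : Scheme.{u}} (f : X ⟶ Y) :
    Subtr.IsSSubtrusive f ↔
      ∀ Z : Set Y, ProCons.IsProConstructible Z → f '' closure (f ⁻¹' Z) = closure Z := by
  have hXsp : ∀ (S : Scheme.{u}) (x : S), ∃ W : Set S, IsOpen W ∧ x ∈ W ∧ SpectralSpace ↥W := by
    intro S x
    obtain ⟨W, hW, hxW, -⟩ := Groth.Agent.H4.H4_exists_affine_nhd S ⊤ x trivial
    exact ⟨W, W.isOpen, hxW, Groth.Agent.H4.H4_spectral_affineOpen S W hW⟩
  have hspec : ∀ (S : Scheme.{u}) (E : Set S), ProCons.IsProConstructible E → ∀ y ∈ closure E,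
      ∃ z ∈ E, z ⤳ y := by
    intro S E hE y hy
    obtain ⟨W, hW, hyW, -⟩ := Groth.Agent.H4.H4_exists_affine_nhd S ⊤ y trivial
    haveI := Groth.Agent.H4.H4_spectral_affineOpen S W hW
    exact Groth.Agent.H4.H4_pro_exists_specializes hE W.isOpen hyW hy
  constructor
  · intro hf Z hZ
    apply Set.Subset.antisymm
    · rintro _ ⟨x, hx, rfl⟩
      have h1 : f x ∈ closure (f '' (f ⁻¹' Z)) := image_closure_subset_closure_image f.continuous
        ⟨x, hx, rfl⟩
      exact closure_mono (Set.image_preimage_subset _ _) h1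
    · intro y hy
      obtain ⟨z, hzZ, hzy⟩ := hspec Y Z hZ y hy
      obtain ⟨x, x', hx'x, hfx, hfx'⟩ := hf hzy
      refine ⟨x, ?_, hfx⟩
      have hx'Z : x' ∈ f ⁻¹' Z := by
        show f x' ∈ Z
        rw [hfx']; exact hzZ
      exact closure_mono (Set.singleton_subset_iff.2 hx'Z) (specializes_iff_mem_closure.1 hx'x)
  · intro h y y' hy'y
    have hpro : ProCons.IsProConstructible ({y'} : Set Y) :=
      Groth.Agent.H4.H4_pro_singleton (hXsp Y) y'
    have h1 := h {y'} hpro
    have hy : y ∈ f '' closure (f ⁻¹' ({y'} : Set Y)) := by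
      rw [h1]; exact specializes_iff_mem_closure.1 hy'y
    obtain ⟨x, hx, hfx⟩ := hy
    have hpro' : ProCons.IsProConstructible (f.base ⁻¹' ({y'} : Set Y)) :=
      Groth.Agent.S15542.result f {y'} hpro
    obtain ⟨x', hx', hx'x⟩ := hspec X _ hpro' x hx
    exact ⟨x, x', hx'x, hfx, hx'⟩

end Groth.Agent.S14788
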