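import Groth.Statements.S14798
import Mathlib
import Groth.Agent.Lib.helper7.HJ

set_option autoImplicit false
open Finset
open HJFrac

namespace Groth.Agent.S14798

/-- Let 0 < r < n be coprime integers and n/r = b₁ - 1/(b₂ - 1/(⋯ - 1/b_λ)) the Hirzebruch–Jung
expansion (λ ≥ 1, every b_i ≥ 2); let m₁, m₂ be positive integers prime to n with r m₂ + m₁ ≡ 0 mod
n, and let μ₁, …, μ_λ be positive integers solving the tridiagonal system b_i μ_i - μ_{i-1} -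
μ_{i+1} = 0 (1 ≤ i ≤ λ) with the conventions μ₀ = m₂ and μ_{λ+1} = m₁ (the multiplicity vector
attached to (n, r, m₂, m₁)). Then n/(m₁ m₂) = 1/(m₂ μ₁) + 1/(μ₁ μ₂) + ⋯ + 1/(μ_{λ-1} μ_λ) + 1/(μ_λ
m₁). -/
theorem result (l : ℕ) (hl : 1 ≤ l) (b : ℕ → ℤ)
    (hb : ∀ i, 1 ≤ i → i ≤ l → 2 ≤ b i)
    (n r : ℕ) (hr : 0 < r) (hrn : r < n) (hcop : Nat.Coprime r n)
    (hhj : (n : ℚ) / r = HJFrac.hjVal ((List.range l).map fun i => b (i + 1)))
    (m₁ m₂ : ℕ) (hm₁ : 0 < m₁) (hm₂ : 0 < m₂) (h₁ : Nat.Coprime m₁ n) (h₂ : Nat.Coprime m₂ n)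
    (hdvd : (n : ℤ) ∣ r * m₂ + m₁)
    (μ : ℕ → ℤ) (hμ0 : μ 0 = m₂) (hμl : μ (l + 1) = m₁) (hμpos : ∀ i, i ≤ l + 1 → 0 < μ i)
    (hsys : ∀ i, 1 ≤ i → i ≤ l → b i * μ i = μ (i - 1) + μ (i + 1)) :
    (n : ℚ) / ((m₁ : ℚ) * m₂) = ∑ i ∈ Finset.range (l + 1), 1 / ((μ i : ℚ) * (μ (i + 1) : ℚ)) := by
  open Groth.Agent.Lib.helper7 in
  set L := (List.range l).map fun i => b (i + 1) with hL
  have hLlen : L.length = l := by simp [hL]
  have hLne : L ≠ [] := by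
    intro h
    rw [h] at hLlen
    simp at hLlen
    omega
  have hLdig : ∀ x ∈ L, (2 : ℤ) ≤ x := by
    intro x hx
    rw [hL, List.mem_map] at hx
    obtain ⟨i, hi, rfl⟩ := hx
    rw [List.mem_range] at hi
    exact hb (i + 1) (by omega) (by omega)
  have hval : (((n : ℕ) : ℤ) : ℚ) / (((r : ℕ) : ℤ) : ℚ) = HJFrac.hjVal L := by
    rw [← hhj]; push_cast; rfl
  obtain ⟨_, m2, m3⟩ := H7_hjSeq_main L hLne hLdig (n : ℤ) (r : ℤ) (by exact_mod_cast hr) hval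
  rw [hLlen] at m2 m3
  rw [Int.gcd_natCast_natCast, Nat.gcd_comm, Nat.Coprime.gcd_eq_one hcop] at m3
  set ν := H7_hjSeq L n r with hν
  have hWall := H7_wronskian l b μ ν hsys (H7_hjSeq_rec l b n r)
  have hW := hWall l le_rfl
  set cW : ℤ := μ 0 * ν 1 - μ 1 * ν 0 with hcW
  have hcval : cW = -(m₁ : ℤ) := by
    rw [← hW, m2, m3, hμl]; push_cast; ring
  have hμne : ∀ i, i ≤ l + 1 → (μ i : ℚ) ≠ 0 := by
    intro i hi
    have := hμpos i hi
    exact_mod_cast this.ne'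
  have tele : ∀ k, k ≤ l + 1 → (cW : ℚ) * ∑ i ∈ Finset.range k, 1 / ((μ i : ℚ) * (μ (i + 1) : ℚ)) =
      (ν k : ℚ) / (μ k) - (ν 0 : ℚ) / (μ 0) := by
    intro k
    induction k with
    | zero => intro _; simp
    | succ k ih =>
      intro hk
      rw [Finset.sum_range_succ, mul_add, ih (by omega)]
      have h1 := hμne k (by omega)
      have h2 := hμne (k + 1) hk
      have h0 := hμne 0 (by omega)
      have hWk : (μ k : ℚ) * ν (k + 1) - (μ (k + 1) : ℚ) * ν k = cW := by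
        have := hWall k (by omega)
        exact_mod_cast this
      rw [← hWk]
      field_simp
      ring
  have hfin := tele (l + 1) le_rfl
  rw [m2, hcval, hν, H7_hjSeq_zero, hμ0, hμl] at hfin
  have hm1 : (m₁ : ℚ) ≠ 0 := by exact_mod_cast hm₁.ne'
  have hm2 : (m₂ : ℚ) ≠ 0 := by exact_mod_cast hm₂.ne'
  push_cast at hfin
  rw [zero_div, zero_sub] at hfin
  have : ∑ i ∈ Finset.range (l + 1), 1 / ((μ i : ℚ) * (μ (i + 1) : ℚ)) = (n : ℚ) / m₂ / m₁ := by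
    have h3 : (m₁ : ℚ) * ∑ i ∈ Finset.range (l + 1), 1 / ((μ i : ℚ) * (μ (i + 1) : ℚ)) = (n : ℚ) / m₂ := by
      linarith
    rw [← h3]; field_simp
  rw [this]
  field_simp

end Groth.Agent.S14798
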