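import Groth.Statements.S14799
import Mathlib
import Groth.Agent.Lib.helper7.HJ

set_option autoImplicit false
open HJFrac

namespace Groth.Agent.S14799

/-- Let 0 < r < n be coprime integers and n/r = b₁ - 1/(b₂ - 1/(⋯ - 1/b_λ)) the Hirzebruch–Jung
expansion (λ ≥ 1, every b_i ≥ 2); let m₁, m₂ be positive integers prime to n with r m₂ + m₁ ≡ 0 mod
n, and let μ₁, …, μ_λ be positive integers with b_i μ_i = μ_{i-1} + μ_{i+1} for 1 ≤ i ≤ λ, where μ₀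
= m₂ and μ_{λ+1} = m₁. Then gcd(m₁, μ₁, …, μ_λ, m₂) = gcd(m₁, m₂); equivalently gcd(m₁, m₂) divides
every μ_i. -/
theorem result (l : ℕ) (hl : 1 ≤ l) (b : ℕ → ℤ)
    (hb : ∀ i, 1 ≤ i → i ≤ l → 2 ≤ b i)
    (n r : ℕ) (hr : 0 < r) (hrn : r < n) (hcop : Nat.Coprime r n)
    (hhj : (n : ℚ) / r = HJFrac.hjVal ((List.range l).map fun i => b (i + 1)))
    (m₁ m₂ : ℕ) (hm₁ : 0 < m₁) (hm₂ : 0 < m₂) (h₁ : Nat.Coprime m₁ n) (h₂ : Nat.Coprime m₂ n)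
    (hdvd : (n : ℤ) ∣ r * m₂ + m₁)
    (μ : ℕ → ℤ) (hμ0 : μ 0 = m₂) (hμl : μ (l + 1) = m₁) (hμpos : ∀ i, i ≤ l + 1 → 0 < μ i)
    (hsys : ∀ i, 1 ≤ i → i ≤ l → b i * μ i = μ (i - 1) + μ (i + 1)) :
    ∀ i, i ≤ l + 1 → ((Nat.gcd m₁ m₂ : ℕ) : ℤ) ∣ μ i := by
  open Groth.Agent.Lib.helper7 in
  set L := (List.range l).map fun i => b (i + 1) with hL
  have hLlen : L.length = l := by simp [hL]
  have hLne : L ≠ [] := by
    intro h
    rw [h] at hLlen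
    simp at hLlen
    omega
  have hLdig : ∀ x ∈ L, (2 : ℤ) ≤ x := by
    intro x hx
    rw [hL, List.mem_map] at hx
    obtain ⟨i, hi, rfl⟩ := hx
    rw [List.mem_range] at hi
    exact hb (i + 1) (by omega) (by omega)
  have hval : (((n : ℕ) : ℤ) : ℚ) / (((r : ℕ) : ℤ) : ℚ) = HJFrac.hjVal L := by
    rw [← hhj]; push_cast; rfl
  obtain ⟨_, m2, m3⟩ := H7_hjSeq_main L hLne hLdig (n : ℤ) (r : ℤ) (by exact_mod_cast hr) hval
  rw [hLlen] at m2 m3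
  rw [Int.gcd_natCast_natCast, Nat.gcd_comm, Nat.Coprime.gcd_eq_one hcop] at m3
  have hW := H7_wronskian l b μ (H7_hjSeq L n r) hsys (H7_hjSeq_rec l b n r) l le_rfl
  rw [m2, m3, H7_hjSeq_zero, H7_hjSeq_one, hμ0, hμl] at hW
  have hkey : (n : ℤ) * μ 1 = m₁ + r * m₂ := by push_cast at hW; linarith
  set d := Nat.gcd m₁ m₂ with hd
  have hd1 : (d : ℤ) ∣ (m₁ : ℤ) := by exact_mod_cast Nat.gcd_dvd_left m₁ m₂
  have hd2 : (d : ℤ) ∣ (m₂ : ℤ) := by exact_mod_cast Nat.gcd_dvd_right m₁ m₂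
  have hdμ1 : (d : ℤ) ∣ μ 1 := by
    have h1 : (d : ℤ) ∣ (n : ℤ) * μ 1 := by
      rw [hkey]; exact dvd_add hd1 (Dvd.dvd.mul_left hd2 _)
    apply Int.dvd_of_dvd_mul_right_of_gcd_one h1
    rw [Int.gcd_natCast_natCast]
    exact Nat.Coprime.coprime_dvd_left (Nat.gcd_dvd_left m₁ m₂) h₁
  have hall : ∀ i, i ≤ l → (d : ℤ) ∣ μ i ∧ (d : ℤ) ∣ μ (i + 1) := by
    intro i
    induction i with
    | zero => intro _; exact ⟨by rw [hμ0]; exact hd2, hdμ1⟩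
    | succ i ih =>
      intro hi
      obtain ⟨h1, h2⟩ := ih (by omega)
      refine ⟨h2, ?_⟩
      have h3 := hsys (i + 1) (by omega) hi
      simp only [Nat.add_sub_cancel] at h3
      have e : μ (i + 1 + 1) = b (i + 1) * μ (i + 1) - μ i := by linarith
      rw [e]
      exact dvd_sub (Dvd.dvd.mul_left h2 _) h1
  intro i hi
  rcases Nat.eq_zero_or_pos i with h0 | h0
  · subst h0; exact (hall 0 (by omega)).1
  · obtain ⟨j, rfl⟩ : ∃ j, i = j + 1 := ⟨i - 1, by omega⟩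
    exact (hall j (by omega)).2

end Groth.Agent.S14799
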