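import Groth.Statements.S14807
import Mathlib

set_option autoImplicit false
universe u
open CAlg

namespace Groth.Agent.S14807

/-- Let G be a finite abelian group, written additively, and ℓ a prime number. Every sequence (g_n)_{n ≥
0} of elements of G with ℓ^n · g_n = 0 and ℓ · g_{n+1} = g_n for all n is identically zero; in other
words the inverse limit of the subgroups of ℓ^n-torsion elements, with transition maps
multiplication by ℓ, vanishes. -/
theorem result (G : Type u) [AddCommGroup G] [Finite G]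
    (ℓ : ℕ) (hℓ : ℓ.Prime) (g : ℕ → G) (htor : ∀ n : ℕ, ℓ ^ n • g n = 0)
    (hcomp : ∀ n : ℕ, ℓ • g (n + 1) = g n) (n : ℕ) : g n = 0 := by
  classical
  haveI : Fintype G := Fintype.ofFinite G
  -- key: any x with ℓ^m • x = 0 satisfies ℓ^(card G) • x = 0
  have key : ∀ (m : ℕ) (x : G), ℓ ^ m • x = 0 → ℓ ^ (Fintype.card G) • x = 0 := by
    intro m x hx
    have hdvd : addOrderOf x ∣ ℓ ^ m := addOrderOf_dvd_of_nsmul_eq_zero hx
    obtain ⟨j, hj, hjeq⟩ := (Nat.dvd_prime_pow hℓ).mp hdvd
    have hle : addOrderOf x ≤ Fintype.card G := addOrderOf_le_card_univ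
    have hlt : ℓ ^ j < ℓ ^ (Fintype.card G) := by
      calc ℓ ^ j = addOrderOf x := hjeq.symm
        _ ≤ Fintype.card G := hle
        _ < ℓ ^ (Fintype.card G) := Nat.lt_pow_self hℓ.one_lt
    have hjlt : j < Fintype.card G := (Nat.pow_lt_pow_iff_right hℓ.one_lt).mp hlt
    have : addOrderOf x ∣ ℓ ^ (Fintype.card G) := by
      rw [hjeq]; exact pow_dvd_pow ℓ hjlt.le
    exact addOrderOf_dvd_iff_nsmul_eq_zero.mp this
  have hiter : ∀ (k n : ℕ), ℓ ^ k • g (n + k) = g n := by
    intro k
    induction k with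
    | zero => intro n; simp
    | succ k ih =>
      intro n
      rw [pow_succ, mul_smul, ← add_assoc, hcomp, ih]
  rw [← hiter (Fintype.card G) n]
  exact key _ _ (htor _)

end Groth.Agent.S14807
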