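import Groth.Statements.S14839
import Mathlib
import Groth.Prelude.Def_ComodSub
import Groth.Agent.Lib.helper9.H9_Subcoalg

set_option autoImplicit false
universe u v
open HopfRep

namespace Groth.Agent.S14839

open TensorProduct in
/-- Over a field K, every simple coalgebra is finite-dimensional. Here a subcoalgebra of C is a subspace
B whose comultiplication lands in the image of B ⊗ B in C ⊗ C, and C is simple when it is nonzero
and its only subcoalgebras are 0 and C. -/
theorem result {K : Type u} {C : Type v} [Field K] [AddCommGroup C]
    [Module K C] [Coalgebra K C] [Nontrivial C]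
    (hsimple : ∀ B : Submodule K C,
      (∀ b ∈ B, CoalgebraStruct.comul (R := K) b ∈ LinearMap.range (TensorProduct.map B.subtype B.subtype)) →
        B = ⊥ ∨ B = ⊤) :
    Module.Finite K C := by
  classical
  obtain ⟨c, hc⟩ := exists_ne (0 : C)
  obtain ⟨W, hWfin, hcW, hW⟩ := Groth.Agent.S7952.result K C C c
  letI cW : HopfRep.Comod K C ↥W := ComodSub.Comod.restr inferInstance W hW
  haveI := hWfin
  have hsub : H9_Subcoalg.IsSubcoalg (H9_Subcoalg.coefSpace K C ↥W) :=
    H9_Subcoalg.isSubcoalg_coefSpace
  have hle : W ≤ H9_Subcoalg.coefSpace K C ↥W := by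
    have := H9_Subcoalg.range_le_coefSpace (K := K) (C := C) W.subtype
      (ComodSub.isComodHom_subtype inferInstance W hW)
    rwa [Submodule.range_subtype] at this
  have hfin : Module.Finite K (H9_Subcoalg.coefSpace K C ↥W) := H9_Subcoalg.finite_coefSpace
  rcases hsimple _ hsub with h | h
  · exfalso
    have : c ∈ (⊥ : Submodule K C) := h ▸ hle hcW
    exact hc ((Submodule.mem_bot K).1 this)
  · rw [h] at hfin
    exact Module.Finite.equiv (Submodule.topEquiv (R := K) (M := C))

end Groth.Agent.S14839
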