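import Groth.Statements.S1484
import Mathlib

set_option autoImplicit false
universe u
open FlatMor


theorem H1_S1484_aux {R : Type*} [CommRing R] (P : Ideal R) [P.IsPrime] (k : Subfield P.ResidueField)
    (hk : ¬ Algebra.IsAlgebraic ↥k P.ResidueField) (y : R) (hy : y ∉ P) :
    ∃ t : R, Transcendental ↥k (algebraMap R P.ResidueField (y * t)) := by
  by_contra hcon
  push Not at hcon
  apply hk
  have hy0 : algebraMap R P.ResidueField y ≠ 0 := by
    rwa [Ne, Ideal.algebraMap_residueField_eq_zero]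
  have halg : ∀ t : R, IsAlgebraic ↥k (algebraMap R P.ResidueField t) := by
    intro t
    have h1 : IsAlgebraic ↥k (algebraMap R P.ResidueField (y * 1)) := by
      have := hcon 1; rwa [Transcendental, not_not] at this
    have ht : IsAlgebraic ↥k (algebraMap R P.ResidueField (y * t)) := by
      have := hcon t; rwa [Transcendental, not_not] at this
    rw [mul_one] at h1
    rw [map_mul] at ht
    have := h1.inv.mul ht
    rwa [← mul_assoc, inv_mul_cancel₀ hy0, one_mul] at this
  constructor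
  intro z
  obtain ⟨a, b, hb, rfl⟩ := IsFractionRing.div_surjective (A := R ⧸ P) z
  obtain ⟨a, rfl⟩ := Ideal.Quotient.mk_surjective a
  obtain ⟨b, rfl⟩ := Ideal.Quotient.mk_surjective b
  have e : ∀ c : R, algebraMap (R ⧸ P) P.ResidueField (Ideal.Quotient.mk P c) = algebraMap R P.ResidueField c := by
    intro c; rfl
  rw [e, e, div_eq_mul_inv]
  exact (halg a).mul (halg b).inv

theorem H1_S1484_aux2 {R : Type*} [CommRing R] {ι : Type*} [Fintype ι] [DecidableEq ι] (p : ι → Ideal R) [∀ i, (p i).IsPrime]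
    (hp : ∀ i j, i ≠ j → ¬ p i ≤ p j) (J : Ideal R) (hJ : ∀ i, ¬ J ≤ p i) (i : ι) :
    ∃ y ∈ J, (∀ j, j ≠ i → y ∈ p j) ∧ y ∉ p i := by
  have hnle : ¬ (J * ∏ j ∈ Finset.univ.erase i, p j) ≤ p i := by
    intro hle
    rcases (Ideal.IsPrime.mul_le inferInstance).1 hle with h | h
    · exact hJ i h
    · obtain ⟨j, hj, hji⟩ := (Ideal.IsPrime.prod_le inferInstance).1 h
      exact hp j i (Finset.ne_of_mem_erase hj) hji
  obtain ⟨y, hy, hyn⟩ := SetLike.not_le_iff_exists.1 hnle
  have hyJ : y ∈ J := Ideal.mul_le_left hy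
  refine ⟨y, hyJ, ?_, hyn⟩
  intro j hj
  have h1 : (J * ∏ j ∈ Finset.univ.erase i, p j) ≤ ∏ j ∈ Finset.univ.erase i, p j := Ideal.mul_le_right
  have h2 : (∏ j ∈ Finset.univ.erase i, p j) ≤ p j := by
    refine Ideal.prod_le_inf.trans ?_
    exact Finset.inf_le (Finset.mem_erase.2 ⟨hj, Finset.mem_univ j⟩)
  exact h2 (h1 hy)

namespace Groth.Agent.S1484

/-- Let R be a ring, p_1, …, p_r primes of R none of which is contained in another, k_i ⊆ κ(p_i)
subfields over which κ(p_i) is not algebraic, and J an ideal of R contained in none of the p_i. Then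
some x ∈ J has image in κ(p_i) transcendental over k_i for every i. -/
theorem result {R : Type u} [CommRing R] {r : ℕ} (p : Fin r → Ideal R) [∀ i, (p i).IsPrime]
    (hp : ∀ i j, i ≠ j → ¬ p i ≤ p j) (k : ∀ i, Subfield (p i).ResidueField)
    (hk : ∀ i, ¬ Algebra.IsAlgebraic ↥(k i) (p i).ResidueField) (J : Ideal R) (hJ : ∀ i, ¬ J ≤ p i) :
    ∃ x ∈ J, ∀ i, Transcendental ↥(k i) (algebraMap R (p i).ResidueField x) := by
  classical
  choose y hyJ hyp hyn using H1_S1484_aux2 p hp J hJ
  have h2 : ∀ i, ∃ t : R, Transcendental ↥(k i) (algebraMap R (p i).ResidueField (y i * t)) := by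
    intro i
    exact H1_S1484_aux (p i) (k i) (hk i) (y i) (hyn i)
  choose t ht using h2
  refine ⟨∑ i, y i * t i, Ideal.sum_mem _ (fun i _ => Ideal.mul_mem_right _ _ (hyJ i)), ?_⟩
  intro i
  rw [map_sum, Finset.sum_eq_single i]
  · exact ht i
  · intro j _ hj
    rw [Ideal.algebraMap_residueField_eq_zero]
    exact Ideal.mul_mem_right _ _ (hyp j i hj.symm)
  · intro h; exact absurd (Finset.mem_univ i) h

end Groth.Agent.S1484
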