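import Groth.Statements.S14844
import Mathlib
import Groth.Agent.Lib.helper9.H9_CoalgSum
open scoped TensorProduct

set_option autoImplicit false
universe u v w w'
open HopfRep

namespace Groth.Agent.S14844

open TensorProduct in
/-- Let R be a commutative ring and C an R-coalgebra, flat over R, which is the internal direct sum of
subcoalgebras D_i (submodules whose comultiplication lands in the image of D_i ⊗ D_i, independent
and with supremum C). Then every right C-comodule V is the internal direct sum of the subcomodules
V_i, where V_i is the preimage under the coaction of the image of V ⊗ D_i in V ⊗ C, and the coaction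
maps V_i into the image of V_i ⊗ D_i, so that the comodule structure of V_i reduces to a
D_i-comodule structure. (The published statement is for a flat sheaf of coalgebras over a base
scheme and left comodules on a scheme over it; this row is the case of an affine base with modules
of global sections, for right comodules.) -/
theorem result {R : Type u} {C : Type v} [CommRing R]
    [AddCommGroup C] [Module R C] [Coalgebra R C] [Module.Flat R C]
    {ι : Type w} (D : ι → Submodule R C)
    (hD : ∀ i, ∀ d ∈ D i, CoalgebraStruct.comul (R := R) d ∈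
      LinearMap.range (TensorProduct.map (D i).subtype (D i).subtype))
    (hind : iSupIndep D) (htop : iSup D = ⊤)
    {V : Type w'} [AddCommGroup V] [Module R V] [HopfRep.Comod R C V] :
    (∀ i, HopfRep.IsSubcomod (k := R) (A := C) ((LinearMap.range (LinearMap.lTensor V (D i).subtype)).comap
        (HopfRep.Comod.coact (k := R) (A := C) (V := V)))) ∧
    iSupIndep (fun i => ((LinearMap.range (LinearMap.lTensor V (D i).subtype)).comap
        (HopfRep.Comod.coact (k := R) (A := C) (V := V)))) ∧
    (⨆ i, ((LinearMap.range (LinearMap.lTensor V (D i).subtype)).comap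
        (HopfRep.Comod.coact (k := R) (A := C) (V := V)))) = ⊤ ∧
    ∀ i, ∀ v ∈ ((LinearMap.range (LinearMap.lTensor V (D i).subtype)).comap
        (HopfRep.Comod.coact (k := R) (A := C) (V := V))),
      HopfRep.Comod.coact (k := R) (A := C) v ∈
        LinearMap.range (TensorProduct.map ((LinearMap.range (LinearMap.lTensor V (D i).subtype)).comap
        (HopfRep.Comod.coact (k := R) (A := C) (V := V))).subtype (D i).subtype) := by
  classical
  set ρ : V →ₗ[R] V ⊗[R] C := HopfRep.Comod.coact (k := R) (A := C) (V := V) with hρ
  set Vi : ι → Submodule R V := fun i =>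
    (LinearMap.range (LinearMap.lTensor V (D i).subtype)).comap ρ with hVi
  -- abbreviations
  let π : ι → (C →ₗ[R] C) := fun i => H9_CoalgSum.proj D hind htop i
  let π' : ∀ i, (C →ₗ[R] D i) := fun i => H9_CoalgSum.proj' D hind htop i
  let P : ι → (V →ₗ[R] V) := fun i => H9_CoalgSum.p D hind htop V i
  have hππ' : ∀ i, π i = (D i).subtype ∘ₗ π' i := fun i => rfl
  have hC1 : ∀ i v, ρ (P i v) = (π i).lTensor V (ρ v) := H9_CoalgSum.C1 D hind htop hD V
  have hC2 : ∀ i v, (P i).rTensor C (ρ v) = (π i).lTensor V (ρ v) := H9_CoalgSum.C2 D hind htop hD V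
  -- `ρ` is injective
  have hρinj : Function.Injective ρ := by
    have hcu := HopfRep.Comod.counit_comp (k := R) (A := C) (V := V)
    intro a b hab
    have h1 := LinearMap.congr_fun hcu a
    have h2 := LinearMap.congr_fun hcu b
    simp only [LinearMap.comp_apply, LinearMap.flip_apply, TensorProduct.mk_apply] at h1 h2
    have h3 : a ⊗ₜ[R] (1 : R) = b ⊗ₜ[R] (1 : R) := by rw [← h1, ← h2]; exact congrArg _ hab
    have := congrArg (TensorProduct.rid R V) h3
    simpa using this
  -- (a) `P i v ∈ Vi i`
  have hPmem : ∀ i v, P i v ∈ Vi i := by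
    intro i v
    show ρ (P i v) ∈ LinearMap.range (LinearMap.lTensor V (D i).subtype)
    rw [hC1, hππ', LinearMap.lTensor_comp]
    exact ⟨_, rfl⟩
  -- `(id ⊗ π j)` on the image of `V ⊗ D i`
  have hπsame : ∀ i (z : V ⊗[R] ↥(D i)), (π i).lTensor V ((D i).subtype.lTensor V z) =
      (D i).subtype.lTensor V z := by
    intro i z
    induction z using TensorProduct.induction_on with
    | zero => simp
    | tmul v d =>
      simp only [LinearMap.lTensor_tmul, Submodule.subtype_apply]
      rw [show π i (d : C) = d from H9_CoalgSum.proj_self D hind htop i d d.2]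
    | add x y hx hy => simp only [map_add, hx, hy]
  have hπne : ∀ i j, j ≠ i → ∀ (z : V ⊗[R] ↥(D j)), (π i).lTensor V ((D j).subtype.lTensor V z) = 0 := by
    intro i j hji z
    induction z using TensorProduct.induction_on with
    | zero => simp
    | tmul v d =>
      simp only [LinearMap.lTensor_tmul, Submodule.subtype_apply]
      rw [show π i (d : C) = 0 from H9_CoalgSum.proj_ne D hind htop i j hji d d.2,
        TensorProduct.tmul_zero]
    | add x y hx hy => simp only [map_add, hx, hy, add_zero]
  -- (b) on `Vi i`
  have hPself : ∀ i v, v ∈ Vi i → P i v = v := by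
    intro i v hv
    obtain ⟨z, hz⟩ := hv
    apply hρinj
    rw [hC1, ← hz, hπsame]
  have hPne : ∀ i j, j ≠ i → ∀ v, v ∈ Vi j → P i v = 0 := by
    intro i j hji v hv
    obtain ⟨z, hz⟩ := hv
    apply hρinj
    rw [hC1, ← hz, hπne i j hji, map_zero]
  -- codomain restriction of `P i`
  let P' : ∀ i, (V →ₗ[R] Vi i) := fun i => (P i).codRestrict (Vi i) (hPmem i)
  have hPP' : ∀ i, P i = (Vi i).subtype ∘ₗ P' i := fun i => rfl
  refine ⟨?_, ?_, ?_, ?_⟩
  · -- subcomodules
    intro i v hv
    have h1 : ρ v = (P i).rTensor C (ρ v) := by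
      rw [hC2, ← hC1, hPself i v hv]
    show ρ v ∈ LinearMap.range ((Vi i).subtype.rTensor C)
    rw [h1, hPP', LinearMap.rTensor_comp]
    exact ⟨_, rfl⟩
  · -- independence
    rw [iSupIndep_def]
    intro i
    rw [Submodule.disjoint_def]
    intro v hv hv'
    have h0 : (⨆ (j) (_ : j ≠ i), Vi j) ≤ LinearMap.ker (P i) := by
      refine iSup₂_le ?_
      intro j hji w hw
      exact hPne i j hji w hw
    have := h0 hv'
    rw [LinearMap.mem_ker, hPself i v hv] at this
    exact this
  · -- the sum is everything
    rw [eq_top_iff]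
    intro v _
    -- decompose `ρ v`
    have hsup : (⨆ i, LinearMap.range (LinearMap.lTensor V (D i).subtype)) = ⊤ := by
      rw [eq_top_iff]
      intro x hxtop
      clear hxtop
      induction x using TensorProduct.induction_on with
      | zero => exact Submodule.zero_mem _
      | tmul v' c =>
        have hc : c ∈ ⨆ j, D j := by rw [htop]; exact Submodule.mem_top
        refine Submodule.iSup_induction D (motive := fun c => v' ⊗ₜ[R] c ∈
          ⨆ i, LinearMap.range (LinearMap.lTensor V (D i).subtype)) hc ?_ ?_ ?_
        · intro j d hd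
          exact Submodule.mem_iSup_of_mem j ⟨v' ⊗ₜ[R] (⟨d, hd⟩ : D j), by simp⟩
        · rw [TensorProduct.tmul_zero]; exact Submodule.zero_mem _
        · intro a b ha hb
          rw [TensorProduct.tmul_add]; exact Submodule.add_mem _ ha hb
      | add x y hx hy => exact Submodule.add_mem _ hx hy
    have hρv : ρ v ∈ ⨆ i, LinearMap.range (LinearMap.lTensor V (D i).subtype) := by
      rw [hsup]; exact Submodule.mem_top
    obtain ⟨f, hf⟩ := (Submodule.mem_iSup_iff_exists_dfinsupp' _ _).1 hρv
    -- `ρ (P j v) = f j`
    have hfj : ∀ j, ρ (P j v) = (f j : V ⊗[R] C) := by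
      intro j
      rw [hC1, ← hf, DFinsupp.sum, map_sum]
      rw [Finset.sum_eq_single j]
      · obtain ⟨z, hz⟩ := (f j).2
        rw [← hz, hπsame]
      · intro i _ hij
        obtain ⟨z, hz⟩ := (f i).2
        rw [← hz, hπne j i hij]
      · intro hj
        have : f j = 0 := by simpa using hj
        rw [this]; simp
    have hsum : v = ∑ j ∈ f.support, P j v := by
      apply hρinj
      rw [map_sum, ← hf, DFinsupp.sum]
      exact Finset.sum_congr rfl fun j _ => (hfj j).symm
    rw [hsum]
    exact Submodule.sum_mem _ fun j _ => Submodule.mem_iSup_of_mem j (hPmem j v)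
  · -- the coaction of `Vi i` lands in `Vi i ⊗ D i`
    intro i v hv
    have h1 : ρ v = (P i).rTensor C (ρ v) := by
      rw [hC2, ← hC1, hPself i v hv]
    have h2 : ρ v = (π i).lTensor V (ρ v) := by
      rw [← hC1, hPself i v hv]
    have h3 : ρ v = TensorProduct.map (P i) (π i) (ρ v) := by
      conv_lhs => rw [h1]
      conv_lhs => rw [h2]
      rw [← LinearMap.comp_apply, LinearMap.rTensor_comp_lTensor]
    show ρ v ∈ LinearMap.range (TensorProduct.map (Vi i).subtype (D i).subtype)
    rw [h3, hPP', hππ', TensorProduct.map_comp]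
    exact ⟨_, rfl⟩

end Groth.Agent.S14844
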