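import Groth.Statements.S14848
import Mathlib
import Groth.Agent.Lib.helper7.Companion

set_option autoImplicit false
universe u v
open McKay

namespace Groth.Agent.S14848

/-- Let K be a field of characteristic zero, L an extension field of K and ξ ∈ L a primitive n-th root
of unity (n ≥ 1) with ξ + ξ⁻¹ ∈ K, say ξ + ξ⁻¹ = 2c with c ∈ K (the character of the natural
two-dimensional representation of the cyclic group of order n takes values in K). Then the cyclic
group of order n is realisable over K as a subgroup of SL(2, K): there is an element of SL(2, K) of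
order n. -/
theorem result {K : Type u} {L : Type v} [Field K] [Field L]
    [CharZero K] [Algebra K L] (n : ℕ) (hn : 1 ≤ n) (ξ : L) (hξ : IsPrimitiveRoot ξ n) (c : K)
    (hc : algebraMap K L (2 * c) = ξ + ξ⁻¹) :
    ∃ M : Matrix.SpecialLinearGroup (Fin 2) K, orderOf M = n := by
  classical
  open Groth.Agent.Lib.helper7 in
  have hn0 : n ≠ 0 := by omega
  have hξ0 : ξ ≠ 0 := hξ.ne_zero hn0
  set η := ξ⁻¹ with hη
  have hξη : ξ * η = 1 := mul_inv_cancel₀ hξ0
  by_cases hne : ξ - η = 0
  · have h2 : ξ ^ 2 = 1 := by
      have e : ξ = η := sub_eq_zero.mp hne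
      rw [pow_two]; nth_rewrite 2 [e]; exact hξη
    have hdvd : n ∣ 2 := hξ.dvd_of_pow_eq_one 2 h2
    have hle := Nat.le_of_dvd (by norm_num) hdvd
    have hcases : n = 1 ∨ n = 2 := by omega
    rcases hcases with rfl | rfl
    · exact ⟨1, orderOf_one⟩
    · have hdet : (-1 : Matrix (Fin 2) (Fin 2) K).det = 1 := by
        rw [Matrix.det_fin_two]; simp
      refine ⟨⟨-1, hdet⟩, ?_⟩
      apply orderOf_eq_prime
      · apply Subtype.ext
        rw [Matrix.SpecialLinearGroup.coe_pow]
        simp
      · intro h
        have := congrArg (fun g : Matrix.SpecialLinearGroup (Fin 2) K =>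
          (g : Matrix (Fin 2) (Fin 2) K) 0 0) h
        simp at this
        have h2K : (2 : K) ≠ 0 := two_ne_zero
        apply h2K
        linear_combination (-1 : K) * this
  · have hMdet : (!![0, -1; 1, 2 * c] : Matrix (Fin 2) (Fin 2) K).det = 1 := by
      rw [Matrix.det_fin_two_of]; ring
    let A : Matrix.SpecialLinearGroup (Fin 2) K := ⟨!![0, -1; 1, 2 * c], hMdet⟩
    have hAc : (A : Matrix (Fin 2) (Fin 2) K) = !![0, -1; 1, 2 * c] := rfl
    refine ⟨A, ?_⟩
    have key : ∀ k : ℕ, A ^ k = 1 ↔ ξ ^ k = 1 := by
      intro k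
      rw [← H7_companion_pow_eq_one_iff c ξ η hξη hc hne k]
      constructor
      · intro h
        have := congrArg (fun g : Matrix.SpecialLinearGroup (Fin 2) K =>
          (g : Matrix (Fin 2) (Fin 2) K)) h
        simpa [Matrix.SpecialLinearGroup.coe_pow, hAc] using this
      · intro h
        apply Subtype.ext
        rw [Matrix.SpecialLinearGroup.coe_pow, hAc]
        exact h
    rw [orderOf_eq_iff (by omega : 0 < n)]
    refine ⟨(key n).mpr hξ.pow_eq_one, fun m hm hm0 h => ?_⟩
    have h1 := hξ.dvd_of_pow_eq_one m ((key m).mp h)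
    have := Nat.le_of_dvd hm0 h1
    omega

end Groth.Agent.S14848
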