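import Groth.Statements.S14849
import Mathlib
import Groth.Agent.Lib.helper7.QuatHom

set_option autoImplicit false
universe u v
open McKay

namespace Groth.Agent.S14849

/-- Let K be a field of characteristic zero, L an extension field of K, n ≥ 2, and ξ ∈ L a primitive
2n-th root of unity with ξ + ξ⁻¹ = 2c for some c ∈ K. If the Hilbert symbol of -1 and c² - 1 over K
equals 1, i.e. x² - (c² - 1) y² = -1 has a solution in K, then the binary dihedral group of order 4n
(generators σ, τ with τ² = σⁿ = (τσ)²) is isomorphic to a subgroup of SL(2, K). (The published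
statement is an equivalence; this row is the direction realising the group from a solution of the
conic.) -/
theorem result {K : Type u} {L : Type v}
    [Field K] [Field L] [CharZero K] [Algebra K L] (n : ℕ) (hn : 2 ≤ n) (ξ : L)
    (hξ : IsPrimitiveRoot ξ (2 * n)) (c : K) (hc : algebraMap K L (2 * c) = ξ + ξ⁻¹)
    (hsol : ∃ x y : K, x ^ 2 - (c ^ 2 - 1) * y ^ 2 = -1) :
    ∃ f : QuaternionGroup n →* Matrix.SpecialLinearGroup (Fin 2) K, Function.Injective f := by
  classical
  open Groth.Agent.Lib.helper7 QuaternionGroup in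
  obtain ⟨x, y, hxy⟩ := hsol
  have hn0 : n ≠ 0 := by omega
  have hne : NeZero (2 * n) := ⟨by omega⟩
  have hξ0 : ξ ≠ 0 := hξ.ne_zero (by omega)
  have hξn : ξ ^ n = -1 := by
    have h := hξ.pow_of_dvd hn0 (Dvd.intro_left 2 rfl)
    rw [Nat.mul_div_cancel _ (by omega : 0 < n)] at h
    exact h.eq_neg_one_of_two_right
  set η := ξ⁻¹ with hη
  have hξη : ξ * η = 1 := mul_inv_cancel₀ hξ0
  have hηn : η ^ n = -1 := by
    rw [hη, inv_pow, hξn]; norm_num
  have hξne : ξ - η ≠ 0 := by
    intro h
    have h2 : ξ ^ 2 = 1 := by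
      have e : ξ = η := sub_eq_zero.mp h
      rw [pow_two]; nth_rewrite 2 [e]; exact hξη
    have h3 := hξ.dvd_of_pow_eq_one 2 h2
    have := Nat.le_of_dvd (by norm_num) h3
    omega
  have hc' : algebraMap K L 2 * algebraMap K L c = ξ + η := by rw [← map_mul]; exact hc
  have hinj : Function.Injective (algebraMap K L) := (algebraMap K L).injective
  -- the recursive sequence
  let s : ℕ → K × K := fun k => Nat.rec (0, 1) (fun _ q => (q.2, 2 * c * q.2 - q.1)) k
  have hs0 : s 0 = (0, 1) := rfl
  have hss : ∀ k, s (k + 1) = ((s k).2, 2 * c * (s k).2 - (s k).1) := fun k => rfl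
  have hclaim2 : ∀ k, algebraMap K L (s k).1 * (ξ - η) = ξ ^ k - η ^ k ∧
      algebraMap K L (s k).2 * (ξ - η) = ξ ^ (k + 1) - η ^ (k + 1) := by
    intro k
    induction k with
    | zero => rw [hs0]; simp
    | succ k ih =>
      obtain ⟨ih1, ih2⟩ := ih
      rw [hss]
      refine ⟨ih2, ?_⟩
      simp only [map_sub, map_mul]
      rw [hc']
      linear_combination (ξ + η) * ih2 - ih1 + (ξ ^ k - η ^ k) * hξη
  have hsn1 : (s n).1 = 0 := by
    apply hinj
    have := (hclaim2 n).1
    rw [hξn, hηn, sub_self] at this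
    rw [map_zero]
    exact (mul_eq_zero.mp this).resolve_right hξne
  have hsn2 : (s n).2 = -1 := by
    apply hinj
    have := (hclaim2 n).2
    rw [pow_succ, pow_succ, hξn, hηn] at this
    rw [map_neg, map_one]
    have h4 : (algebraMap K L (s n).2 + 1) * (ξ - η) = 0 := by linear_combination this
    have := (mul_eq_zero.mp h4).resolve_right hξne
    linear_combination this
  -- matrices
  set M : Matrix (Fin 2) (Fin 2) K := !![0, -1; 1, 2 * c] with hM
  set Bm : Matrix (Fin 2) (Fin 2) K :=
    !![x + c * y, y; y - 2 * c * (x + c * y), -(x + c * y)] with hBm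
  have hMdet : M.det = 1 := by rw [hM, Matrix.det_fin_two_of]; ring
  have hBdet : Bm.det = 1 := by
    rw [hBm, Matrix.det_fin_two_of]; linear_combination (-1) * hxy
  have hM2 : M * M = (2 * c) • M - 1 := by
    rw [hM]
    ext i j
    fin_cases i <;> fin_cases j <;> simp [Matrix.mul_apply, Fin.sum_univ_two] <;> ring
  have hclaim1 : ∀ k, M ^ k = (s k).1 • M + ((s k).2 - 2 * c * (s k).1) • (1 : Matrix (Fin 2) (Fin 2) K) := by
    intro k
    induction k with
    | zero => rw [hs0]; simp
    | succ k ih =>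
      rw [pow_succ, ih, hss, add_mul, smul_mul_assoc, smul_mul_assoc, hM2, one_mul]
      module
  have hMn : M ^ n = -1 := by
    rw [hclaim1 n, hsn1, hsn2]; simp
  have hBB : Bm * Bm = -1 := by
    rw [hBm]
    ext i j
    fin_cases i <;> fin_cases j <;> simp [Matrix.mul_apply, Fin.sum_univ_two] <;>
      first | linear_combination hxy | ring1
  have hMBM : M * Bm * M = Bm := by
    rw [hM, hBm]
    ext i j
    fin_cases i <;> fin_cases j <;> simp [Matrix.mul_apply, Fin.sum_univ_two] <;> ring
  set A : Matrix.SpecialLinearGroup (Fin 2) K := ⟨M, hMdet⟩ with hA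
  set B : Matrix.SpecialLinearGroup (Fin 2) K := ⟨Bm, hBdet⟩ with hB
  have hApow : ∀ k : ℕ, ((A ^ k : Matrix.SpecialLinearGroup (Fin 2) K) : Matrix (Fin 2) (Fin 2) K) = M ^ k := by
    intro k; rw [Matrix.SpecialLinearGroup.coe_pow]
  have hABA : A * B * A = B := by
    apply Subtype.ext
    show M * Bm * M = Bm
    exact hMBM
  have h3 : A * B = B * A⁻¹ := by
    rw [eq_mul_inv_iff_mul_eq]; exact hABA
  have h2 : B * B = A ^ n := by
    apply Subtype.ext
    rw [hApow, hMn]
    show Bm * Bm = -1
    exact hBB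
  have h1 : A ^ (2 * n) = 1 := by
    apply Subtype.ext
    rw [hApow, mul_comm, pow_mul, hMn]
    simp
  obtain ⟨f, hfa, hfxa⟩ := H7_quaternion_hom n A B h1 h2 h3
  have h2K : (2 : K) ≠ 0 := two_ne_zero
  -- key: M^k = 1 with k < 2n forces k = 0
  have hZ : ∀ k : ℕ, k < 2 * n → M ^ k = 1 → k = 0 := by
    intro k hk hMk
    have e01 := congrFun (congrFun hMk 0) 1
    rw [hclaim1 k] at e01
    simp [hM] at e01
    -- e01 : (s k).1 = 0
    have hsk : algebraMap K L (s k).1 = 0 := by rw [e01, map_zero]
    have h5 := (hclaim2 k).1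
    rw [hsk, zero_mul] at h5
    have h6 : ξ ^ (2 * k) = 1 := by
      have : ξ ^ k = η ^ k := (sub_eq_zero.mp h5.symm)
      rw [two_mul, pow_add]
      nth_rewrite 2 [this]
      rw [← mul_pow, hξη, one_pow]
    have h7 := hξ.dvd_of_pow_eq_one _ h6
    have h8 : n ∣ k := (Nat.mul_dvd_mul_iff_left (by norm_num : 0 < 2)).mp h7
    obtain ⟨t, rfl⟩ := h8
    rcases Nat.eq_zero_or_pos t with h0 | h0
    · rw [h0, mul_zero]
    · exfalso
      have ht : t = 1 := by
        by_contra hne1
        have : 2 ≤ t := by omega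
        have : 2 * n ≤ n * t := by rw [mul_comm]; exact Nat.mul_le_mul_left n this
        omega
      rw [ht, mul_one, hMn] at hMk
      have e00 := congrFun (congrFun hMk 0) 0
      simp at e00
      apply h2K
      linear_combination (-1) * e00
  have hA2 : A * A ≠ 1 := by
    intro h
    have hM2' : M ^ 2 = 1 := by
      have := congrArg (fun g : Matrix.SpecialLinearGroup (Fin 2) K => (g : Matrix (Fin 2) (Fin 2) K)) h
      simp only [Matrix.SpecialLinearGroup.coe_mul, Matrix.SpecialLinearGroup.coe_one] at this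
      rw [pow_two]; exact this
    have := hZ 2 (by omega) hM2'
    omega
  refine ⟨f, ?_⟩
  rw [injective_iff_map_eq_one]
  rintro (i | i) hg
  · have hi : ((i.val : ℤ) : ZMod (2 * n)) = i := by
      rw [Int.cast_natCast, ZMod.natCast_zmod_val]
    rw [← hi, hfa, zpow_natCast] at hg
    have hMk : M ^ i.val = 1 := by
      rw [← hApow, hg]; rfl
    have := hZ i.val (ZMod.val_lt i) hMk
    have hi0 : i = 0 := (ZMod.val_eq_zero i).mp this
    rw [hi0]; rfl
  · exfalso
    have hi : ((i.val : ℤ) : ZMod (2 * n)) = i := by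
      rw [Int.cast_natCast, ZMod.natCast_zmod_val]
    rw [← hi, hfxa, zpow_natCast] at hg
    -- B = (A^k)⁻¹ commutes with A
    have hBeq : B = (A ^ i.val)⁻¹ := eq_inv_of_mul_eq_one_left hg
    have hcomm : A * B = B * A := by
      rw [hBeq]
      have : Commute A ((A ^ i.val)⁻¹) := (Commute.pow_right (Commute.refl A) _).inv_right
      exact this.eq
    apply hA2
    have h9 : B * A * A = B := by rw [← hcomm]; exact hABA
    have h10 : B * (A * A) = B * 1 := by rw [← mul_assoc, h9, mul_one]
    exact mul_left_cancel h10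

end Groth.Agent.S14849
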