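import Groth.Statements.S14850
import Mathlib
import Groth.Agent.Lib.helper9.H9_Isotyp
import Groth.Agent.S14842

set_option autoImplicit false
universe u v
open HopfRep

namespace Groth.Agent.S14850

open TensorProduct in
/-- Over a field K, a nonzero coalgebra C is simple if and only if C is isotypic as a right comodule
over itself, i.e. C is the internal direct sum of the images of a family of injective comodule maps
from one simple right C-comodule E. Here a subcoalgebra of C is a subspace B whose comultiplication
lands in the image of B ⊗ B, and C is simple when its only subcoalgebras are 0 and C. (Stated for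
the right regular comodule; the published statement allows left or right.) -/
theorem result {K : Type u} {C : Type v} [Field K] [AddCommGroup C]
    [Module K C] [Coalgebra K C] [Nontrivial C] :
    (∀ B : Submodule K C, (∀ b ∈ B, CoalgebraStruct.comul (R := K) b ∈ LinearMap.range (TensorProduct.map B.subtype B.subtype)) → B = ⊥ ∨ B = ⊤) ↔
    ∃ (E : Type v) (_ : AddCommGroup E) (_ : Module K E) (_ : HopfRep.Comod K C E),
      HopfRep.IsSimpleComod K C E ∧
      ∃ (ι : Type v) (f : ι → (E →ₗ[K] C)),
        (∀ i, Hoch.IsComodHom C (f i) ∧ Function.Injective (f i)) ∧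
        iSupIndep (fun i => LinearMap.range (f i)) ∧ (⨆ i, LinearMap.range (f i)) = ⊤ := by
  classical
  constructor
  · intro hsimple
    obtain ⟨E, -, hEne, hEsub, hEmin, hleast⟩ := Groth.Agent.S14842.result (K := K) (C := C) ⊤
      top_ne_bot (fun b _ => H9_Subcoalg.isSubcoalg_top b Submodule.mem_top)
      (fun B _ hB => hsimple B hB)
    letI cE : HopfRep.Comod K C ↥E := ComodSub.Comod.restr inferInstance E hEsub
    have hsub := ComodSub.isComodHom_subtype (k := K) (A := C) inferInstance E hEsub
    have hEsimple : HopfRep.IsSimpleComod K C ↥E := by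
      refine ⟨(Submodule.nontrivial_iff_ne_bot).2 hEne, fun W' hW' => ?_⟩
      have h1 := H9_Isotyp.isSubcomod_map E.subtype hsub W' hW'
      rcases hEmin _ (Submodule.map_subtype_le E W') h1 with h | h
      · left
        apply Submodule.map_injective_of_injective E.injective_subtype
        rw [h, Submodule.map_bot]
      · right
        apply Submodule.map_injective_of_injective E.injective_subtype
        rw [h, Submodule.map_subtype_top]
    have htop : H9_Subcoalg.coefSpace K C ↥E = ⊤ := by
      rw [eq_top_iff]
      exact hleast.2 ((H9_Subcoalg.coefSpace_restr_le_iff E hEsub _).2 le_rfl)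
    obtain ⟨ι, f, hf, hind, hsup⟩ := H9_Isotyp.exists_family_of_coefSpace_eq_top hEsimple htop
    exact ⟨↥E, inferInstance, inferInstance, cE, hEsimple, ι, f, hf, hind, hsup⟩
  · rintro ⟨E, _, _, _, hE, ι, f, hf, -, hsup⟩ B hB
    by_cases hne : B = ⊥
    · exact Or.inl hne
    · right
      have htop : H9_Subcoalg.coefSpace K C E = ⊤ := by
        rw [eq_top_iff, ← hsup]
        exact iSup_le fun i => H9_Subcoalg.range_le_coefSpace (f i) (hf i).1
      rw [← htop]
      exact H9_Isotyp.eq_coefSpace_of_le hE B hB hne (htop ▸ le_top)

end Groth.Agent.S14850
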