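import Groth.Statements.S14852
import Mathlib
import Groth.Agent.Lib.helper9.H9_Subcoalg

set_option autoImplicit false
universe u v w w'
open HopfRep

namespace Groth.Agent.S14852

open TensorProduct in
/-- Over a field K, let C be a cosemisimple coalgebra and D₁ ≠ D₂ simple subcoalgebras of C. If V is a
right C-comodule whose coaction lands in V ⊗ D₁ and W one whose coaction lands in W ⊗ D₂, then the
only comodule map V → W is zero. Here a subcoalgebra of C is a subspace B whose comultiplication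
lands in the image of B ⊗ B, and a simple subcoalgebra is a nonzero subcoalgebra D whose only
subcoalgebras contained in D are 0 and D; cosemisimple means C is the internal direct sum of a
family of simple subcoalgebras. (The published statement is for quasi-coherent G-sheaves on a scheme
with trivial action of G = Spec C; this row is the statement on spaces of sections to which its
proof reduces.) -/
theorem result {K : Type u} {C : Type v} [Field K]
    [AddCommGroup C] [Module K C] [Coalgebra K C]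
    (hC : ∃ (ι : Type v) (D : ι → Submodule K C), iSupIndep D ∧ iSup D = ⊤ ∧ ∀ i,
        D i ≠ ⊥ ∧ (∀ b ∈ (D i), CoalgebraStruct.comul (R := K) b ∈ LinearMap.range (TensorProduct.map (D i).subtype (D i).subtype)) ∧
        ∀ B : Submodule K C, B ≤ D i → (∀ b ∈ B, CoalgebraStruct.comul (R := K) b ∈ LinearMap.range (TensorProduct.map B.subtype B.subtype)) → B = ⊥ ∨ B = D i)
    (D₁ D₂ : Submodule K C) (hne : D₁ ≠ D₂)
    (h₁ : D₁ ≠ ⊥ ∧ (∀ b ∈ D₁, CoalgebraStruct.comul (R := K) b ∈ LinearMap.range (TensorProduct.map D₁.subtype D₁.subtype)) ∧ ∀ B : Submodule K C, B ≤ D₁ → (∀ b ∈ B, CoalgebraStruct.comul (R := K) b ∈ LinearMap.range (TensorProduct.map B.subtype B.subtype)) → B = ⊥ ∨ B = D₁)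
    (h₂ : D₂ ≠ ⊥ ∧ (∀ b ∈ D₂, CoalgebraStruct.comul (R := K) b ∈ LinearMap.range (TensorProduct.map D₂.subtype D₂.subtype)) ∧ ∀ B : Submodule K C, B ≤ D₂ → (∀ b ∈ B, CoalgebraStruct.comul (R := K) b ∈ LinearMap.range (TensorProduct.map B.subtype B.subtype)) → B = ⊥ ∨ B = D₂)
    {V : Type w} [AddCommGroup V] [Module K V] [HopfRep.Comod K C V]
    {W : Type w'} [AddCommGroup W] [Module K W] [HopfRep.Comod K C W]
    (hV : ∀ v : V, HopfRep.Comod.coact (k := K) (A := C) v ∈ LinearMap.range (LinearMap.lTensor V D₁.subtype))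
    (hW : ∀ w : W, HopfRep.Comod.coact (k := K) (A := C) w ∈ LinearMap.range (LinearMap.lTensor W D₂.subtype))
    (φ : V →ₗ[K] W) (hφ : Hoch.IsComodHom C φ) : φ = 0 := by
  classical
  have hB : H9_Subcoalg.IsSubcoalg (D₁ ⊓ D₂) := H9_Subcoalg.isSubcoalg_inf D₁ D₂ h₁.2.1 h₂.2.1
  have hbot : D₁ ⊓ D₂ = ⊥ := by
    rcases h₁.2.2 (D₁ ⊓ D₂) inf_le_left hB with h | h
    · exact h
    · rcases h₂.2.2 (D₁ ⊓ D₂) inf_le_right hB with h' | h'
      · exact h'
      · exact absurd (h.symm.trans h') hne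
  apply LinearMap.ext
  intro v
  rw [LinearMap.zero_apply]
  apply H9_Subcoalg.coact_injective (K := K) (C := C)
  rw [map_zero]
  apply H9_Slice.eq_zero_of_forall_lslice
  intro g
  have hφv := LinearMap.congr_fun hφ v
  simp only [LinearMap.comp_apply] at hφv
  have h1 : H9_Slice.lslice g (HopfRep.Comod.coact (k := K) (A := C) (φ v)) ∈ D₂ :=
    (H9_Slice.mem_range_lTensor_subtype_iff D₂ _).1 (hW (φ v)) g
  have h2 : H9_Slice.lslice g (HopfRep.Comod.coact (k := K) (A := C) (φ v)) ∈ D₁ := by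
    rw [hφv, H9_Slice.lslice_rTensor]
    exact (H9_Slice.mem_range_lTensor_subtype_iff D₁ _).1 (hV v) (g ∘ₗ φ)
  have h3 : H9_Slice.lslice g (HopfRep.Comod.coact (k := K) (A := C) (φ v)) ∈ D₁ ⊓ D₂ := ⟨h2, h1⟩
  rw [hbot, Submodule.mem_bot] at h3
  exact h3

end Groth.Agent.S14852
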