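import Groth.Statements.S14859
import Groth.Statements.S14859
import Mathlib

set_option autoImplicit false
universe u v w
open Disp

namespace Groth.Agent.S14859

/-- Let p be a prime, R a commutative ring with p-typical Witt vectors W = W(R), and (P, Q, F, V⁻¹) a
3n-display over R with a normal decomposition P = L ⊕ T, Q = L + I_R·T. Then V⁻¹ ⊕ F : L ⊕ T → P is
a Frobenius-linear isomorphism; stated here in the case where L and T are free with bases (l_i) and
(t_j): the family consisting of the V⁻¹(l_i) and the F(t_j) is a basis of the W-module P, i.e. it is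
linearly independent over W and spans P. -/
theorem result (p : ℕ) [Fact p.Prime] (R : Type u) [CommRing R]
    (P : Type v) [AddCommGroup P] [Module (WittVector p R) P] (D : W4c1extbt610.Display3n p R P)
    (L T : Submodule (WittVector p R) P) (hLT : IsCompl L T)
    (hQ : D.Q = L ⊔ W4c1extbt610.IV p R • T) (hLQ : L ≤ D.Q)
    (ιL ιT : Type w) (bL : Module.Basis ιL (WittVector p R) L) (bT : Module.Basis ιT (WittVector p R) T) :
    LinearIndependent (WittVector p R)
        (Sum.elim (fun i : ιL => D.Vinv ⟨(bL i : P), hLQ (bL i).2⟩) (fun j : ιT => D.F (bT j : P))) ∧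
      Submodule.span (WittVector p R)
        (Set.range (Sum.elim (fun i : ιL => D.Vinv ⟨(bL i : P), hLQ (bL i).2⟩) (fun j : ιT => D.F (bT j : P)))) = ⊤ := by
  classical
  set v : ιL ⊕ ιT → P :=
    Sum.elim (fun i : ιL => D.Vinv ⟨(bL i : P), hLQ (bL i).2⟩) (fun j : ιT => D.F (bT j : P)) with hv
  set S : Submodule (WittVector p R) P := Submodule.span (WittVector p R) (Set.range v) with hS
  -- range of V is IV
  have hIV : ∀ r ∈ W4c1extbt610.IV p R, ∃ w : WittVector p R, WittVector.verschiebung w = r := by
    intro r hr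
    unfold W4c1extbt610.IV at hr
    induction hr using Submodule.span_induction with
    | mem x hx => obtain ⟨w, rfl⟩ := hx; exact ⟨w, rfl⟩
    | zero => exact ⟨0, map_zero _⟩
    | add x y _ _ hx hy =>
      obtain ⟨a, rfl⟩ := hx; obtain ⟨b, rfl⟩ := hy
      exact ⟨a + b, map_add _ _ _⟩
    | smul c x _ hx =>
      obtain ⟨a, rfl⟩ := hx
      refine ⟨a * WittVector.frobenius c, ?_⟩
      rw [WittVector.verschiebung_mul_frobenius, smul_eq_mul, mul_comm]
  -- F maps T into S
  have hFT : T ≤ S.comap D.F := by
    have hT : T = Submodule.span (WittVector p R) (Set.range fun j : ιT => (bT j : P)) := by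
      have h1 : (⊤ : Submodule (WittVector p R) T) = Submodule.span _ (Set.range bT) := bT.span_eq.symm
      have h2 := congrArg (Submodule.map T.subtype) h1
      rw [Submodule.map_subtype_top, Submodule.map_span, ← Set.range_comp] at h2
      exact h2
    rw [hT, Submodule.span_le]
    rintro _ ⟨j, rfl⟩
    exact Submodule.subset_span ⟨Sum.inr j, rfl⟩
  -- Q' := image of comap
  set Q' : Submodule (WittVector p R) P := (S.comap D.Vinv).map D.Q.subtype with hQ'
  have hLQ' : L ≤ Q' := by
    have hL : L = Submodule.span (WittVector p R) (Set.range fun i : ιL => (bL i : P)) := by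
      have h1 : (⊤ : Submodule (WittVector p R) L) = Submodule.span _ (Set.range bL) := bL.span_eq.symm
      have h2 := congrArg (Submodule.map L.subtype) h1
      rw [Submodule.map_subtype_top, Submodule.map_span, ← Set.range_comp] at h2
      exact h2
    rw [hL, Submodule.span_le]
    rintro _ ⟨i, rfl⟩
    refine ⟨⟨(bL i : P), hLQ (bL i).2⟩, ?_, rfl⟩
    show D.Vinv ⟨(bL i : P), hLQ (bL i).2⟩ ∈ S
    exact Submodule.subset_span ⟨Sum.inl i, rfl⟩
  have hIT : W4c1extbt610.IV p R • T ≤ Q' := by
    rw [Submodule.smul_le]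
    intro r hr t ht
    obtain ⟨w, rfl⟩ := hIV r hr
    refine ⟨⟨WittVector.verschiebung w • t, D.IV_smul_le (Submodule.smul_mem_smul
      (W4c1extbt610.verschiebung_mem_IV p R w) Submodule.mem_top)⟩, ?_, rfl⟩
    show D.Vinv _ ∈ S
    rw [D.Vinv_verschiebung_smul]
    exact S.smul_mem _ (hFT ht)
  have hQQ' : D.Q ≤ Q' := by
    rw [hQ]
    exact sup_le hLQ' hIT
  have hspan : S = ⊤ := by
    rw [eq_top_iff, ← D.span_range_Vinv, Submodule.span_le]
    rintro _ ⟨y, rfl⟩
    obtain ⟨y', hy', hyy'⟩ := hQQ' y.2
    have : y' = y := Subtype.ext hyy'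
    rw [← this]
    exact hy'
  refine ⟨?_, hspan⟩
  -- linear independence
  let b : Module.Basis (ιL ⊕ ιT) (WittVector p R) P :=
    (bL.prod bT).map (Submodule.prodEquivOfIsCompl L T hLT)
  let f : P →ₗ[WittVector p R] P := b.constr (WittVector p R) v
  have hfb : ∀ i, f (b i) = v i := fun i => b.constr_basis (WittVector p R) v i
  have hsurj : Function.Surjective f := by
    rw [← LinearMap.range_eq_top, eq_top_iff, ← hspan, hS, Submodule.span_le]
    rintro _ ⟨i, rfl⟩
    exact ⟨b i, hfb i⟩
  haveI := D.finite
  have hinj : Function.Injective f := OrzechProperty.injective_of_surjective_endomorphism f hsurj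
  have hli := b.linearIndependent.map' f (LinearMap.ker_eq_bot.mpr hinj)
  have : (f ∘ b) = v := funext hfb
  rw [this] at hli
  exact hli

end Groth.Agent.S14859
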