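import Groth.Statements.S14869
import Mathlib

set_option autoImplicit false
universe u v w
open CAlg

namespace Groth.Agent.S14869

open TensorProduct in
/-- Let S → R be a surjective homomorphism of commutative rings, let π : P_1 → P_2 be a surjective
homomorphism of S-modules with P_2 projective, and let π̄ : R ⊗_S P_1 → R ⊗_S P_2 be its base
change. Then every R-linear section σ̄ of π̄ lifts to a section of π: there is an S-linear map σ :
P_2 → P_1 with π ∘ σ = id whose base change R ⊗_S σ is σ̄. -/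
theorem result (S R : Type u) [CommRing S] [CommRing R] [Algebra S R]
    (hSR : Function.Surjective (algebraMap S R))
    (P₁ : Type v) [AddCommGroup P₁] [Module S P₁]
    (P₂ : Type w) [AddCommGroup P₂] [Module S P₂] [Module.Projective S P₂]
    (π : P₁ →ₗ[S] P₂) (hπ : Function.Surjective π)
    (σ' : R ⊗[S] P₂ →ₗ[R] R ⊗[S] P₁) (hσ' : (π.baseChange R).comp σ' = LinearMap.id) :
    ∃ σ : P₂ →ₗ[S] P₁, π.comp σ = LinearMap.id ∧ σ.baseChange R = σ' := by
  obtain ⟨σ₀, hσ₀⟩ := Module.projective_lifting_property π LinearMap.id hπ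
  let mk1 : P₁ →ₗ[S] R ⊗[S] P₁ := TensorProduct.mk S R P₁ 1
  have hmk1 : Function.Surjective mk1 := by
    intro z
    induction z using TensorProduct.induction_on with
    | zero => exact ⟨0, by simp⟩
    | tmul r x =>
      obtain ⟨s, rfl⟩ := hSR r
      refine ⟨s • x, ?_⟩
      simp only [mk1, TensorProduct.mk_apply]
      rw [Algebra.algebraMap_eq_smul_one, TensorProduct.smul_tmul]
    | add a b ha hb =>
      obtain ⟨x, rfl⟩ := ha
      obtain ⟨y, rfl⟩ := hb
      exact ⟨x + y, map_add _ _ _⟩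
  set δ' : R ⊗[S] P₂ →ₗ[R] R ⊗[S] P₁ := σ' - σ₀.baseChange R with hδ'
  let φ : P₂ →ₗ[S] R ⊗[S] P₁ := (δ'.restrictScalars S) ∘ₗ (TensorProduct.mk S R P₂ 1)
  obtain ⟨τ₀, hτ₀⟩ := Module.projective_lifting_property mk1 φ hmk1
  set ρ : P₁ →ₗ[S] P₁ := LinearMap.id - σ₀ ∘ₗ π with hρ
  have hπρ : π ∘ₗ ρ = 0 := by
    rw [hρ, LinearMap.comp_sub, LinearMap.comp_id, ← LinearMap.comp_assoc, hσ₀, LinearMap.id_comp,
      sub_self]
  have hτR : τ₀.baseChange R = δ' := by
    ext y
    have := LinearMap.congr_fun hτ₀ y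
    simpa [mk1, φ] using this
  have hπδ : (π.baseChange R) ∘ₗ δ' = 0 := by
    rw [hδ', LinearMap.comp_sub, hσ', ← LinearMap.baseChange_comp, hσ₀, LinearMap.baseChange_id]
    ext; simp
  refine ⟨σ₀ + ρ ∘ₗ τ₀, ?_, ?_⟩
  · rw [LinearMap.comp_add, hσ₀, ← LinearMap.comp_assoc, hπρ, LinearMap.zero_comp, add_zero]
  · rw [LinearMap.baseChange_add, LinearMap.baseChange_comp, hτR, hρ, LinearMap.baseChange_sub,
      LinearMap.baseChange_id, LinearMap.baseChange_comp, LinearMap.sub_comp, LinearMap.id_comp,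
      LinearMap.comp_assoc, hπδ, LinearMap.comp_zero, hδ']
    ext; simp

end Groth.Agent.S14869
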