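import Groth.Statements.S14871
import Mathlib

set_option autoImplicit false
universe u v
open PLie

namespace Groth.Agent.S14871

/-- Let `L` be a finite-dimensional Lie algebra over a field of characteristic `p` equipped with a
`p`-mapping `φ`. Then the solvable radical of `L` is stable under `φ` (it is a `p`-subalgebra). -/
theorem result
    (k : Type u) [Field k] (p : ℕ) [Fact p.Prime] [CharP k p]
    (L : Type v) [LieRing L] [LieAlgebra k L] [Module.Finite k L]
    (φ : PLie.PMap k p L) (x : L) (hx : x ∈ LieAlgebra.radical k L) :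
    φ x ∈ LieAlgebra.radical k L := by
  have hp : p ≠ 0 := (Fact.out : p.Prime).ne_zero
  have hkey : ∀ y : L, ⁅y, φ x⁆ ∈ LieAlgebra.radical k L := by
    intro y
    rw [← lie_skew]
    apply (LieAlgebra.radical k L).neg_mem
    have h1 : ⁅φ x, y⁆ = (LieAlgebra.ad k L x ^ p) y := by
      rw [← φ.ad_map]; rfl
    rw [h1]
    obtain ⟨q, rfl⟩ := Nat.exists_eq_succ_of_ne_zero hp
    rw [pow_succ', Module.End.mul_apply, LieAlgebra.ad_apply, ← lie_skew]
    exact (LieAlgebra.radical k L).neg_mem ((LieAlgebra.radical k L).lie_mem hx)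
  let J : LieIdeal k L :=
    { toSubmodule := (LieAlgebra.radical k L).toSubmodule ⊔ Submodule.span k {φ x}
      lie_mem := by
        intro y m hm
        obtain ⟨r, hr, s, hs, rfl⟩ := Submodule.mem_sup.mp hm
        obtain ⟨c, rfl⟩ := Submodule.mem_span_singleton.mp hs
        apply Submodule.mem_sup_left
        rw [lie_add, lie_smul]
        exact (LieAlgebra.radical k L).add_mem ((LieAlgebra.radical k L).lie_mem hr)
          ((LieAlgebra.radical k L).smul_mem c (hkey y)) }
  have hxJ : φ x ∈ J := by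
    show φ x ∈ (LieAlgebra.radical k L).toSubmodule ⊔ Submodule.span k {φ x}
    exact Submodule.mem_sup_right (Submodule.mem_span_singleton_self _)
  have hJJ : ⁅J, J⁆ ≤ LieAlgebra.radical k L := by
    rw [LieSubmodule.lieIdeal_oper_eq_span, LieSubmodule.lieSpan_le]
    rintro _ ⟨⟨a, ha⟩, ⟨b, hb⟩, rfl⟩
    have hb' : b ∈ (LieAlgebra.radical k L).toSubmodule ⊔ Submodule.span k {φ x} := hb
    obtain ⟨r, hr, s, hs, rfl⟩ := Submodule.mem_sup.mp hb'
    obtain ⟨c, rfl⟩ := Submodule.mem_span_singleton.mp hs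
    show ⁅a, r + c • φ x⁆ ∈ LieAlgebra.radical k L
    rw [lie_add, lie_smul]
    exact (LieAlgebra.radical k L).add_mem ((LieAlgebra.radical k L).lie_mem hr)
      ((LieAlgebra.radical k L).smul_mem c (hkey a))
  have hsolv : LieAlgebra.IsSolvable J := by
    obtain ⟨n, hn⟩ := LieAlgebra.IsSolvable.solvable k (LieAlgebra.radical k L)
    rw [LieIdeal.derivedSeries_eq_bot_iff] at hn
    apply LieAlgebra.IsSolvable.mk (R := k) (k := n + 1)
    rw [LieIdeal.derivedSeries_eq_bot_iff, LieAlgebra.derivedSeriesOfIdeal_add, eq_bot_iff, ← hn]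
    apply LieAlgebra.derivedSeriesOfIdeal_mono
    rw [LieAlgebra.derivedSeriesOfIdeal_succ, LieAlgebra.derivedSeriesOfIdeal_zero]
    exact hJJ
  exact (LieAlgebra.LieIdeal.solvable_iff_le_radical k L J).mp hsolv hxJ

end Groth.Agent.S14871
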