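import Groth.Statements.S14879
import Mathlib

set_option autoImplicit false
universe u
open Finset
open AlgGrp

namespace Groth.Agent.S14879

open Equiv Finset

section part1
variable {k : Type u} [Field k]

theorem det_cols {m : ℕ} (X : Matrix (Fin m) (Fin m) k) :
    X.det = ∑ σ : Perm (Fin m), (((Perm.sign σ : ℤˣ) : ℤ) : k) * ∏ i, X i (σ i) := by
  rw [← Matrix.det_transpose, Matrix.det_apply']
  rfl

def theta (p r : ℕ) (α : Perm (Fin p)) (β : Perm (Fin r)) : Perm (Fin (p + r)) :=
  finSumFinEquiv.permCongr (Equiv.Perm.sumCongr α β)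

theorem theta_castAdd (p r : ℕ) (α : Perm (Fin p)) (β : Perm (Fin r)) (s : Fin p) :
    theta p r α β (Fin.castAdd r s) = Fin.castAdd r (α s) := by
  unfold theta
  rw [Equiv.permCongr_apply]
  simp

theorem theta_natAdd (p r : ℕ) (α : Perm (Fin p)) (β : Perm (Fin r)) (t : Fin r) :
    theta p r α β (Fin.natAdd p t) = Fin.natAdd p (β t) := by
  unfold theta
  rw [Equiv.permCongr_apply]
  simp

theorem sign_theta (p r : ℕ) (α : Perm (Fin p)) (β : Perm (Fin r)) :
    Perm.sign (theta p r α β) = Perm.sign α * Perm.sign β := by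
  unfold theta
  rw [Equiv.Perm.sign_permCongr, Equiv.Perm.sign_sumCongr]

theorem coreA (p r : ℕ) (M : Matrix (Fin (p + r)) (Fin (p + r)) k)
    (a : Fin p → Fin (p + r)) (b : Fin r → Fin (p + r))
    (α : Perm (Fin p)) (β : Perm (Fin r)) :
    ∑ π : Perm (Fin (p + r)), (((Perm.sign π : ℤˣ) : ℤ) : k) *
      ((((Perm.sign α : ℤˣ) : ℤ) : k) * ∏ s, M (a s) (π.symm (Fin.castAdd r (α s)))) *
      ((((Perm.sign β : ℤˣ) : ℤ) : k) * ∏ t, M (b t) (π.symm (Fin.natAdd p (β t))))
    = (M.submatrix (Fin.addCases a b) id).det := by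
  rw [det_cols]
  refine Fintype.sum_equiv ((Equiv.inv (Perm (Fin (p + r)))).trans
    (Equiv.mulRight (theta p r α β))) _ _ (fun π => ?_)
  have e0 : ((Equiv.inv (Perm (Fin (p + r)))).trans (Equiv.mulRight (theta p r α β))) π
      = π⁻¹ * theta p r α β := rfl
  rw [e0]
  have hs : ∀ s : Fin p, (M.submatrix (Fin.addCases a b) id) (Fin.castAdd r s)
      ((π⁻¹ * theta p r α β) (Fin.castAdd r s)) = M (a s) (π.symm (Fin.castAdd r (α s))) := by
    intro s
    rw [Matrix.submatrix_apply, Fin.addCases_left, Equiv.Perm.mul_apply, theta_castAdd]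
    rfl
  have ht : ∀ t : Fin r, (M.submatrix (Fin.addCases a b) id) (Fin.natAdd p t)
      ((π⁻¹ * theta p r α β) (Fin.natAdd p t)) = M (b t) (π.symm (Fin.natAdd p (β t))) := by
    intro t
    rw [Matrix.submatrix_apply, Fin.addCases_right, Equiv.Perm.mul_apply, theta_natAdd]
    rfl
  rw [Fin.prod_univ_add, Finset.prod_congr rfl (fun s _ => hs s),
    Finset.prod_congr rfl (fun t _ => ht t)]
  rw [Equiv.Perm.sign_mul, Equiv.Perm.sign_inv, sign_theta]
  push_cast
  ring

theorem part1 (p r : ℕ) (M : Matrix (Fin (p + r)) (Fin (p + r)) k)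
    (a : Fin p → Fin (p + r)) (b : Fin r → Fin (p + r)) :
    ∑ π : Perm (Fin (p + r)), (((Perm.sign π : ℤˣ) : ℤ) : k) *
      ((M.submatrix id π.symm).submatrix a (Fin.castAdd r)).det *
      ((M.submatrix id π.symm).submatrix b (Fin.natAdd p)).det
    = ((p.factorial * r.factorial : ℕ) : k) * (M.submatrix (Fin.addCases a b) id).det := by
  have h1 : ∀ π : Perm (Fin (p + r)), (((Perm.sign π : ℤˣ) : ℤ) : k) *
      ((M.submatrix id π.symm).submatrix a (Fin.castAdd r)).det *
      ((M.submatrix id π.symm).submatrix b (Fin.natAdd p)).det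
      = ∑ α : Perm (Fin p), ∑ β : Perm (Fin r), (((Perm.sign π : ℤˣ) : ℤ) : k) *
      ((((Perm.sign α : ℤˣ) : ℤ) : k) * ∏ s, M (a s) (π.symm (Fin.castAdd r (α s)))) *
      ((((Perm.sign β : ℤˣ) : ℤ) : k) * ∏ t, M (b t) (π.symm (Fin.natAdd p (β t)))) := by
    intro π
    rw [det_cols, det_cols, mul_assoc, Finset.sum_mul_sum, Finset.mul_sum]
    apply Finset.sum_congr rfl
    intro α _
    rw [Finset.mul_sum]
    apply Finset.sum_congr rfl
    intro β _
    rw [← mul_assoc]
    rfl
  rw [Finset.sum_congr rfl (fun π _ => h1 π), Finset.sum_comm]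
  have h2 : ∀ α : Perm (Fin p), ∑ π : Perm (Fin (p + r)), ∑ β : Perm (Fin r),
      (((Perm.sign π : ℤˣ) : ℤ) : k) *
      ((((Perm.sign α : ℤˣ) : ℤ) : k) * ∏ s, M (a s) (π.symm (Fin.castAdd r (α s)))) *
      ((((Perm.sign β : ℤˣ) : ℤ) : k) * ∏ t, M (b t) (π.symm (Fin.natAdd p (β t))))
      = ((r.factorial : ℕ) : k) * (M.submatrix (Fin.addCases a b) id).det := by
    intro α
    rw [Finset.sum_comm, Finset.sum_congr rfl (fun β _ => coreA p r M a b α β),
      Finset.sum_const, Finset.card_univ, Fintype.card_perm, Fintype.card_fin, nsmul_eq_mul]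
  rw [Finset.sum_congr rfl (fun α _ => h2 α), Finset.sum_const, Finset.card_univ,
    Fintype.card_perm, Fintype.card_fin, nsmul_eq_mul]
  push_cast
  ring

end part1

section part2
variable {k : Type u} [Field k]

theorem cast_ne_nat (p r : ℕ) (s : Fin p) (t : Fin r) : Fin.castAdd r s ≠ Fin.natAdd p t := by
  intro h
  have h3 := congrArg Fin.val h
  simp at h3
  have := s.isLt
  omega

theorem part2_zero (p r : ℕ) (M : Matrix (Fin (p + r)) (Fin (p + r)) k)
    (A B : Finset (Fin (p + r))) (hA : A.card = p) (hB : B.card = r) (hne : B ≠ Aᶜ) :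
    (M.submatrix (Fin.addCases (⇑(A.orderEmbOfFin hA)) (⇑(B.orderEmbOfFin hB))) id).det = 0 := by
  have hx : ∃ x, x ∈ A ∧ x ∈ B := by
    by_contra hcon
    push Not at hcon
    apply hne
    apply Finset.eq_of_subset_of_card_le
    · intro y hy
      rw [Finset.mem_compl]
      exact fun hyA => hcon y hyA hy
    · rw [Finset.card_compl, Fintype.card_fin, hA, hB]; omega
  obtain ⟨x, hxA, hxB⟩ := hx
  obtain ⟨s, hs⟩ : ∃ s, A.orderEmbOfFin hA s = x := by
    have h3 : x ∈ Set.range (A.orderEmbOfFin hA) := by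
      rw [Finset.range_orderEmbOfFin]; exact Finset.mem_coe.mpr hxA
    exact h3
  obtain ⟨t, ht⟩ : ∃ t, B.orderEmbOfFin hB t = x := by
    have h3 : x ∈ Set.range (B.orderEmbOfFin hB) := by
      rw [Finset.range_orderEmbOfFin]; exact Finset.mem_coe.mpr hxB
    exact h3
  apply Matrix.det_zero_of_row_eq (cast_ne_nat p r s t)
  funext j
  rw [Matrix.submatrix_apply, Matrix.submatrix_apply, Fin.addCases_left, Fin.addCases_right,
    hs, ht]

theorem part2_sign (p r : ℕ) (M : Matrix (Fin (p + r)) (Fin (p + r)) k)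
    (A : Finset (Fin (p + r))) (hA : A.card = p) (hB : (Aᶜ).card = r) :
    (M.submatrix (Fin.addCases (⇑(A.orderEmbOfFin hA)) (⇑((Aᶜ).orderEmbOfFin hB))) id).det
      = (-1 : k) ^ ((A ×ˢ Aᶜ).filter (fun ab => ab.2 < ab.1)).card * M.det := by
  obtain ⟨ρ, hρ⟩ : ∃ ρ : Fin (p + r) → Fin (p + r),
      ρ = Fin.addCases (⇑(A.orderEmbOfFin hA)) (⇑((Aᶜ).orderEmbOfFin hB)) := ⟨_, rfl⟩
  have hl : ∀ s, ρ (Fin.castAdd r s) = A.orderEmbOfFin hA s := by
    intro s; rw [hρ]; exact Fin.addCases_left _
  have hr : ∀ t, ρ (Fin.natAdd p t) = (Aᶜ).orderEmbOfFin hB t := by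
    intro t; rw [hρ]; exact Fin.addCases_right _
  have hlA : ∀ s, ρ (Fin.castAdd r s) ∈ A := fun s => by
    rw [hl]; exact Finset.orderEmbOfFin_mem A hA s
  have hrA : ∀ t, ρ (Fin.natAdd p t) ∉ A := fun t => by
    rw [hr]; exact Finset.mem_compl.mp (Finset.orderEmbOfFin_mem (Aᶜ) hB t)
  have hinj : Function.Injective ρ := by
    intro i j h
    induction i using Fin.addCases with
    | left s =>
      induction j using Fin.addCases with
      | left s' =>
        rw [hl, hl] at h
        rw [(A.orderEmbOfFin hA).injective h]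
      | right t' =>
        exact absurd (h ▸ hlA s) (hrA t')
    | right t =>
      induction j using Fin.addCases with
      | left s' =>
        exact absurd (h.symm ▸ hlA s') (hrA t)
      | right t' =>
        rw [hr, hr] at h
        rw [((Aᶜ).orderEmbOfFin hB).injective h]
  obtain ⟨ρ', hρ'⟩ : ∃ ρ' : Perm (Fin (p + r)), ∀ i, ρ' i = ρ i :=
    ⟨Equiv.ofBijective ρ ⟨hinj, Finite.injective_iff_surjective.mp hinj⟩, fun _ => rfl⟩
  have hfun : (⇑ρ' : Fin (p + r) → Fin (p + r)) = ρ := funext hρ'
  rw [← hρ, ← hfun, Matrix.det_permute]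
  congr 1
  -- the sign
  rw [Equiv.Perm.sign_eq_prod_prod_Ioi, Finset.prod_sigma', Finset.prod_ite,
    Finset.prod_const_one, one_mul, Finset.prod_const]
  have hcard : ((univ.sigma fun i : Fin (p + r) => Finset.Ioi i).filter
      (fun x => ¬ ρ' x.1 < ρ' x.2)).card
      = ((A ×ˢ Aᶜ).filter (fun ab => ab.2 < ab.1)).card := by
    apply Finset.card_bij (fun x _ => (ρ x.1, ρ x.2))
    · rintro ⟨i, j⟩ hx
      rw [Finset.mem_filter, Finset.mem_sigma, Finset.mem_Ioi] at hx
      obtain ⟨⟨-, hij⟩, hnot⟩ := hx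
      rw [hρ' i, hρ' j] at hnot
      simp only at hij hnot ⊢
      have hne : ρ i ≠ ρ j := fun h => (ne_of_lt hij) (hinj h)
      have hlt : ρ j < ρ i := lt_of_le_of_ne (not_lt.mp hnot) (Ne.symm hne)
      rw [Finset.mem_filter, Finset.mem_product, Finset.mem_compl]
      refine ⟨?_, hlt⟩
      induction i using Fin.addCases with
      | left s =>
        induction j using Fin.addCases with
        | left s' =>
          exfalso
          apply hnot
          rw [hl, hl]
          apply (A.orderEmbOfFin hA).strictMono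
          exact hij
        | right t' => exact ⟨hlA s, hrA t'⟩
      | right t =>
        induction j using Fin.addCases with
        | left s' =>
          exfalso
          have h3 := Fin.lt_def.mp hij
          simp at h3
          have := s'.isLt
          omega
        | right t' =>
          exfalso
          apply hnot
          rw [hr, hr]
          apply ((Aᶜ).orderEmbOfFin hB).strictMono
          have h3 := Fin.lt_def.mp hij
          simp at h3
          exact h3
    · rintro ⟨i, j⟩ _ ⟨i', j'⟩ _ h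
      have h1 : ρ i = ρ i' := congrArg Prod.fst h
      have h2 : ρ j = ρ j' := congrArg Prod.snd h
      rw [hinj h1, hinj h2]
    · rintro ⟨u, v⟩ huv
      rw [Finset.mem_filter, Finset.mem_product, Finset.mem_compl] at huv
      obtain ⟨⟨hu, hv⟩, hvu⟩ := huv
      simp only at hvu
      obtain ⟨s, hs⟩ : ∃ s, A.orderEmbOfFin hA s = u := by
        have h3 : u ∈ Set.range (A.orderEmbOfFin hA) := by
          rw [Finset.range_orderEmbOfFin]; exact Finset.mem_coe.mpr hu
        exact h3
      obtain ⟨t, ht⟩ : ∃ t, (Aᶜ).orderEmbOfFin hB t = v := by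
        have h3 : v ∈ Set.range ((Aᶜ).orderEmbOfFin hB) := by
          rw [Finset.range_orderEmbOfFin]; exact Finset.mem_coe.mpr (Finset.mem_compl.mpr hv)
        exact h3
      refine ⟨⟨Fin.castAdd r s, Fin.natAdd p t⟩, ?_, ?_⟩
      · rw [Finset.mem_filter, Finset.mem_sigma, Finset.mem_Ioi]
        refine ⟨⟨Finset.mem_univ _, ?_⟩, ?_⟩
        · rw [Fin.lt_def]
          simp
          have := s.isLt
          omega
        · rw [hρ', hρ']
          simp only
          rw [hl, hr, hs, ht]
          exact not_lt.mpr (le_of_lt hvu)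
      · simp only
        rw [hl, hr, hs, ht]
  rw [hcard]
  simp

end part2

/-- Let k be a field of characteristic zero, n = p + r with p, r ≥ 1, M an n × n matrix over k, A a set
of p row indices and B a set of r row indices, both listed increasingly. For a permutation π of the
indices, with permutation matrix P_π, let Y_A(M·P_π) be the minor of M·P_π on the rows A and the
first p columns, and Z_B(M·P_π) the minor on the rows B and the last r columns. Then the sum over
all π of sign(π)·Y_A(M·P_π)·Z_B(M·P_π) equals p!·r!·(−1)^N·det M when B is the complement of A,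
where N is the number of pairs (a, b) with a in A, b outside A and b < a, and equals 0 otherwise.
Taking det M = 1 this says that the pairing (f, h) ↦ Σ_π sign(π) f(π) h(π) between the spans of the
left p-minors and of the right r-minors is invariant under left translation by matrices of
determinant one and pairs Y_A with the signed complementary minor to p!·r!. (The published statement
asserts that the two families of minors are dual bases for this pairing, that is, the value 1 in
place of p!·r!; the p!·r! permutations preserving the two column blocks each contribute the same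
signed term, so this row carries that factor, which is 1 only for n = 2.) -/
theorem result (k : Type u) [Field k] [CharZero k]
    (p r : ℕ) (hp : 1 ≤ p) (hr : 1 ≤ r) (M : Matrix (Fin (p + r)) (Fin (p + r)) k)
    (A : Finset (Fin (p + r))) (hA : A.card = p) (B : Finset (Fin (p + r))) (hB : B.card = r) :
    ∑ π : Equiv.Perm (Fin (p + r)), (((Equiv.Perm.sign π : ℤˣ) : ℤ) : k) *
      ((M * π.permMatrix k).submatrix (A.orderEmbOfFin hA) (Fin.castAdd r)).det *
      ((M * π.permMatrix k).submatrix (B.orderEmbOfFin hB) (Fin.natAdd p)).det =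
    if B = Aᶜ then ((p.factorial * r.factorial : ℕ) : k) *
      (-1 : k) ^ ((A ×ˢ Aᶜ).filter (fun ab => ab.2 < ab.1)).card * M.det else 0 := by
  have hsum : ∀ π : Equiv.Perm (Fin (p + r)), M * π.permMatrix k = M.submatrix id π.symm :=
    fun π => PEquiv.mul_toMatrix_toPEquiv M π
  have h1 := part1 p r M ⇑(A.orderEmbOfFin hA) ⇑(B.orderEmbOfFin hB)
  have h2 : ∑ π : Equiv.Perm (Fin (p + r)), (((Equiv.Perm.sign π : ℤˣ) : ℤ) : k) *
      ((M * π.permMatrix k).submatrix (A.orderEmbOfFin hA) (Fin.castAdd r)).det *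
      ((M * π.permMatrix k).submatrix (B.orderEmbOfFin hB) (Fin.natAdd p)).det
      = ∑ π : Equiv.Perm (Fin (p + r)), (((Equiv.Perm.sign π : ℤˣ) : ℤ) : k) *
      ((M.submatrix id π.symm).submatrix (A.orderEmbOfFin hA) (Fin.castAdd r)).det *
      ((M.submatrix id π.symm).submatrix (B.orderEmbOfFin hB) (Fin.natAdd p)).det := by
    apply Finset.sum_congr rfl
    intro π _
    rw [hsum π]
  rw [h2, h1]
  by_cases hBA : B = Aᶜ
  · subst hBA
    rw [if_pos rfl, part2_sign p r M A hA hB]
    ring
  · rw [if_neg hBA, part2_zero p r M A B hA hB hBA, mul_zero]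

end Groth.Agent.S14879
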