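import Groth.Statements.S14955
import Mathlib

set_option autoImplicit false
universe u
open TensorProduct
open EtAlg

namespace Groth.Agent.S14955

/-- Let B' = B ×_A A' be a fibre product of commutative rings with A' → A surjective. Then the square is
also a pushout of commutative rings: the canonical map B ⊗_{B'} A' → A is an isomorphism. -/
theorem result (B' B A' A : Type u) [CommRing B'] [CommRing B] [CommRing A'] [CommRing A]
    [Algebra B' B] [Algebra B' A'] [Algebra B A] [Algebra A' A] [Algebra B' A] [IsScalarTower B' B A] [IsScalarTower B' A' A]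
    (hsq : EtMil.IsFibreSquare B' B A' A) : Algebra.IsPushout B' B A' A := by
  obtain ⟨hsurjA, hfib⟩ := hsq
  have hsurjB : Function.Surjective (algebraMap B' B) := by
    intro b
    obtain ⟨a', ha'⟩ := hsurjA (algebraMap B A b)
    obtain ⟨b', ⟨hb', _⟩, _⟩ := hfib b a' ha'.symm
    exact ⟨b', hb'⟩
  constructor
  unfold IsBaseChange IsTensorProduct
  set G := TensorProduct.lift
    (((Algebra.linearMap B (Module.End B (A' →ₗ[B'] A))).flip
      (IsScalarTower.toAlgHom B' A' A).toLinearMap).restrictScalars B') with hG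
  have hGt : ∀ (b : B) (a' : A'), G (b ⊗ₜ[B'] a') = b • algebraMap A' A a' := by
    intro b a'
    simp [hG]
  have hform : ∀ z : B ⊗[B'] A', ∃ a' : A', z = (1 : B) ⊗ₜ[B'] a' := by
    intro z
    induction z using TensorProduct.induction_on with
    | zero => exact ⟨0, by simp⟩
    | tmul b a' =>
      obtain ⟨b', rfl⟩ := hsurjB b
      refine ⟨b' • a', ?_⟩
      rw [TensorProduct.tmul_smul, TensorProduct.smul_tmul', Algebra.smul_def, mul_one]
    | add x y hx hy =>
      obtain ⟨x', rfl⟩ := hx
      obtain ⟨y', rfl⟩ := hy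
      exact ⟨x' + y', by rw [TensorProduct.tmul_add]⟩
  constructor
  · rw [injective_iff_map_eq_zero]
    intro z hz
    obtain ⟨a', rfl⟩ := hform z
    rw [hGt, one_smul] at hz
    obtain ⟨j, ⟨hj1, hj2⟩, _⟩ := hfib 0 a' (by rw [map_zero, hz])
    rw [← hj2, Algebra.algebraMap_eq_smul_one, TensorProduct.tmul_smul, TensorProduct.smul_tmul',
      Algebra.smul_def, mul_one, hj1, TensorProduct.zero_tmul]
  · intro a
    obtain ⟨a', rfl⟩ := hsurjA a
    exact ⟨(1 : B) ⊗ₜ[B'] a', by rw [hGt, one_smul]⟩

end Groth.Agent.S14955
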