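import Groth.Statements.S14966
import Mathlib

set_option autoImplicit false
universe u
open EtAlg

namespace Groth.Agent.S14966

/-- Let A → A' be an injective homomorphism of commutative rings and let I ⊆ A be the conductor, i.e.
the annihilator of the A-module A'/A. Then the conductor square formed by A → A/I, A → A', A/I →
A'/IA' and A' → A'/IA' is a fibre product square of rings with A' → A'/IA' surjective: A = A/I
×_{A'/IA'} A'. (The published Lemma is for the conductor square of a finite modification of schemes;
this row is the underlying statement for one injective ring map, which needs no finiteness.) -/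
theorem result (A A' : Type u) [CommRing A] [CommRing A'] [Algebra A A']
    (hinj : Function.Injective (algebraMap A A')) :
    EtMil.IsFibreSquare A (A ⧸ Module.annihilator A (A' ⧸ LinearMap.range (Algebra.linearMap A A'))) A'
      (A' ⧸ Ideal.map (algebraMap A A') (Module.annihilator A (A' ⧸ LinearMap.range (Algebra.linearMap A A')))) := by
  set c := Module.annihilator A (A' ⧸ LinearMap.range (Algebra.linearMap A A')) with hc
  have hcmem : ∀ y : A, y ∈ c ↔ ∀ a' : A', ∃ w : A, algebraMap A A' w = algebraMap A A' y * a' := by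
    intro y
    rw [hc, Module.mem_annihilator]
    constructor
    · intro h a'
      have := h (Submodule.Quotient.mk a')
      rw [← Submodule.Quotient.mk_smul, Submodule.Quotient.mk_eq_zero] at this
      obtain ⟨w, hw⟩ := this
      exact ⟨w, by rw [Algebra.smul_def] at hw; exact hw⟩
    · intro h m
      obtain ⟨a', rfl⟩ := Submodule.Quotient.mk_surjective _ m
      rw [← Submodule.Quotient.mk_smul, Submodule.Quotient.mk_eq_zero]
      obtain ⟨w, hw⟩ := h a'
      exact ⟨w, by rw [Algebra.smul_def]; exact hw⟩
  have key : ∀ z ∈ Ideal.map (algebraMap A A') c, ∃ y ∈ c, algebraMap A A' y = z := by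
    intro z hz
    unfold Ideal.map at hz
    induction hz using Submodule.span_induction with
    | mem x hx =>
      obtain ⟨y, hy, rfl⟩ := hx
      exact ⟨y, hy, rfl⟩
    | zero => exact ⟨0, c.zero_mem, map_zero _⟩
    | add x y _ _ hx hy =>
      obtain ⟨x0, hx0, rfl⟩ := hx
      obtain ⟨y0, hy0, rfl⟩ := hy
      exact ⟨x0 + y0, c.add_mem hx0 hy0, map_add _ _ _⟩
    | smul a' x _ hx =>
      obtain ⟨y, hy, rfl⟩ := hx
      obtain ⟨w, hw⟩ := (hcmem y).mp hy a'
      refine ⟨w, ?_, ?_⟩
      · rw [hcmem]
        intro a''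
        obtain ⟨w', hw'⟩ := (hcmem y).mp hy (a' * a'')
        exact ⟨w', by rw [hw', hw, mul_assoc]⟩
      · rw [hw, smul_eq_mul, mul_comm]
  refine ⟨Ideal.Quotient.mk_surjective, fun b a' h => ?_⟩
  obtain ⟨b0, rfl⟩ := Ideal.Quotient.mk_surjective b
  have h' : Ideal.Quotient.mk (Ideal.map (algebraMap A A') c) (algebraMap A A' b0)
      = Ideal.Quotient.mk (Ideal.map (algebraMap A A') c) a' := h
  rw [Ideal.Quotient.eq] at h'
  obtain ⟨y, hy, hyz⟩ := key _ h'
  refine ⟨b0 - y, ⟨?_, ?_⟩, ?_⟩
  · show Ideal.Quotient.mk c (b0 - y) = Ideal.Quotient.mk c b0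
    rw [Ideal.Quotient.eq]
    have : b0 - y - b0 = -y := by ring
    rw [this]
    exact c.neg_mem hy
  · rw [map_sub, hyz]
    ring
  · rintro b'' ⟨_, hb''⟩
    apply hinj
    rw [hb'', map_sub, hyz]
    ring

end Groth.Agent.S14966
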