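import Groth.Statements.S6870
import Mathlib

set_option autoImplicit false
universe u
open CAlg

namespace Groth.Agent.S6870

/-- Let `R` be a domain, `M` a finite `R`-module and `j : M → M**` the evaluation map into the double
dual. Then one nonzero `c ∈ R` kills the kernel of `j` and multiplies `M**` into the image of `j`.
(The published statement says only that the kernel and cokernel of `j` are torsion; this row gives
one such `c` for both.) -/
theorem result (R : Type u) [CommRing R] [IsDomain R] (M : Type u)
    [AddCommGroup M] [Module R M] [Module.Finite R M] :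
    ∃ c : R, c ≠ 0 ∧ (∀ x : M, Module.Dual.eval R M x = 0 → c • x = 0) ∧
      ∀ y : Module.Dual R (Module.Dual R M), c • y ∈ LinearMap.range (Module.Dual.eval R M) := by
  classical
  obtain ⟨f, hf⟩ := exists_linearIndependent_of_le_finrank (R := R) (M := M) (le_refl _)
  let F : Submodule R M := Submodule.span R (Set.range f)
  have hFrank : Module.finrank R F = Module.finrank R M := by
    simpa using finrank_span_eq_card hf
  have hQ : Module.finrank R (M ⧸ F) = 0 := by
    have := Submodule.finrank_quotient_add_finrank F
    omega
  have htors : Module.IsTorsion R (M ⧸ F) := Module.finrank_eq_zero_iff_isTorsion.mp hQ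
  obtain ⟨c, hcann, hc⟩ := Submodule.annihilator_top_inter_nonZeroDivisors htors
  have hc0 : c ≠ 0 := nonZeroDivisors.ne_zero hc
  have hcM : ∀ m : M, c • m ∈ F := by
    intro m
    have := Submodule.mem_annihilator.mp hcann (Submodule.Quotient.mk m) trivial
    rwa [← Submodule.Quotient.mk_smul, Submodule.Quotient.mk_eq_zero] at this
  let b : Module.Basis (Fin (Module.finrank R M)) R F := Module.Basis.span hf
  let cm : M →ₗ[R] F := (LinearMap.lsmul R M c).codRestrict F hcM
  let g : Fin (Module.finrank R M) → Module.Dual R M := fun i => (b.coord i).comp cm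
  have key : ∀ m : M, c • m = ∑ i, g i m • f i := by
    intro m
    have h1 := b.sum_repr (cm m)
    have h2 := congrArg (Subtype.val) h1
    simp only [Submodule.coe_sum, Submodule.coe_smul] at h2
    have h3 : ∀ i, ((b i : F) : M) = f i := by
      intro i
      exact Module.Basis.coe_span_apply hf i
    simp only [h3] at h2
    exact h2.symm
  refine ⟨c, hc0, ?_, ?_⟩
  · intro x hx
    rw [key x]
    apply Finset.sum_eq_zero
    intro i _
    have : g i x = 0 := by
      have := LinearMap.congr_fun hx (g i)
      simpa using this
    rw [this, zero_smul]
  · intro y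
    refine ⟨∑ i, y (g i) • f i, ?_⟩
    ext φ
    have hφ : c • φ = ∑ i, φ (f i) • g i := by
      ext m
      simp only [LinearMap.smul_apply, LinearMap.sum_apply, smul_eq_mul]
      rw [← smul_eq_mul, ← map_smul, key m, map_sum]
      apply Finset.sum_congr rfl
      intro i _
      rw [map_smul, smul_eq_mul, mul_comm]
    simp only [map_sum, map_smul, Module.Dual.eval_apply, LinearMap.smul_apply, smul_eq_mul,
      LinearMap.sum_apply]
    rw [← smul_eq_mul, ← map_smul, hφ, map_sum]
    apply Finset.sum_congr rfl
    intro i _
    rw [map_smul, smul_eq_mul, mul_comm]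

end Groth.Agent.S6870
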