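import Groth.Statements.S14994
import Mathlib
import Groth.Agent.S6869
import Groth.Agent.S6870

set_option autoImplicit false
universe u
open CAlg

namespace Groth.Agent.S14994

/-- Let A be a Noetherian integrally closed domain, M a finitely generated torsion-free A-module, N a
submodule of M and ι : M → M** the canonical map to the double dual. Write N** → M** for the double
dual of the inclusion N → M. Then every m ∈ M whose image ι(m) lies in the image of N** is a torsion
element modulo N: some nonzero a ∈ A satisfies a·m ∈ N. In other words the preimage of N** under ι
is contained in the saturation of N in M (the preimage of the torsion submodule of M/N), and the two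
coincide when M/N is torsion-free. (The published statement asserts equality of the preimage with
the saturation for every N; for N = xA inside M = A = k[x] the saturation is all of M while N** has
image xA = N under the identification M** = M, so only the inclusion stated here holds, and it is
the inclusion later used, for saturated N, where the two sides agree.) -/
theorem result (A : Type u) [CommRing A] [IsDomain A]
    [IsNoetherianRing A] [IsIntegrallyClosed A]
    (M : Type u) [AddCommGroup M] [Module A M] [Module.Finite A M] [NoZeroSMulDivisors A M]
    (N : Submodule A M) :
    (LinearMap.range N.subtype.dualMap.dualMap).comap (Module.Dual.eval A M) ≤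
      (Submodule.torsion A (M ⧸ N)).comap N.mkQ := by
  classical
  intro m hm
  rw [Submodule.mem_comap] at hm ⊢
  obtain ⟨y, hy⟩ := hm
  haveI : Module.Finite A N := Module.IsNoetherian.finite A N
  haveI : Module.IsTorsionFree A M := by
    rw [Module.isTorsionFree_iff_smul_eq_zero]
    intro r x h
    exact smul_eq_zero.mp h
  have hjM : Function.Injective (Module.Dual.eval A M) :=
    (Groth.Agent.S6869.result A M).mpr inferInstance
  obtain ⟨c, hc0, -, hc⟩ := Groth.Agent.S6870.result A N
  obtain ⟨n, hn⟩ := hc y
  have hnat : (Module.Dual.eval A N n).comp N.subtype.dualMap = Module.Dual.eval A M (N.subtype n) := by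
    ext φ
    simp
  have h1 : Module.Dual.eval A M (c • m) = Module.Dual.eval A M (N.subtype n) := by
    rw [map_smul, ← hy, ← hnat, hn]
    ext φ
    simp
  have h2 : c • m = (n : M) := hjM h1
  rw [Submodule.mem_torsion_iff]
  refine ⟨⟨c, mem_nonZeroDivisors_of_ne_zero hc0⟩, ?_⟩
  show c • N.mkQ m = 0
  rw [← map_smul, h2]
  simp

end Groth.Agent.S14994
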