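import Groth.Statements.S14997
import Mathlib

set_option autoImplicit false
open HilbPol

namespace Groth.Agent.S14997

open Polynomial in
theorem coeff_comp_sub (P : ℚ[X]) (a : ℚ) (n : ℕ) :
    (P.comp (X - C a)).coeff n = ∑ m ∈ Finset.range (P.natDegree + 1),
      P.coeff m * ((-a) ^ (m - n) * (m.choose n : ℚ)) := by
  rw [Polynomial.comp, Polynomial.eval₂_eq_sum_range, Polynomial.finsetSum_coeff]
  refine Finset.sum_congr rfl (fun m _ => ?_)
  rw [Polynomial.coeff_C_mul, sub_eq_add_neg, ← C_neg, Polynomial.coeff_X_add_C_pow]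

open Polynomial in
theorem coeff_delta (P : ℚ[X]) (a : ℚ) (d n : ℕ) (hP : P.natDegree = d) (hn : n ≤ d) :
    (P - P.comp (X - C a)).coeff n =
      -∑ m ∈ Finset.Ico (n + 1) (d + 1), P.coeff m * ((-a) ^ (m - n) * (m.choose n : ℚ)) := by
  rw [coeff_sub, coeff_comp_sub, hP, Finset.range_eq_Ico,
    ← Finset.sum_Ico_consecutive _ (Nat.zero_le n) (by omega : n ≤ d + 1),
    Finset.sum_eq_sum_Ico_succ_bot (by omega : n < d + 1)]
  have h0 : ∑ m ∈ Finset.Ico 0 n, P.coeff m * ((-a) ^ (m - n) * (m.choose n : ℚ)) = 0 := by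
    apply Finset.sum_eq_zero
    intro m hm
    rw [Finset.mem_Ico] at hm
    rw [Nat.choose_eq_zero_of_lt hm.2, Nat.cast_zero, mul_zero, mul_zero]
  rw [h0, Nat.sub_self, pow_zero, Nat.choose_self, Nat.cast_one]
  ring

open Polynomial in
theorem coeff_delta_top (P : ℚ[X]) (a : ℚ) (d : ℕ) (hP : P.natDegree = d) (hd : 1 ≤ d) :
    (P - P.comp (X - C a)).coeff (d - 1) = a * d * P.coeff d := by
  rw [coeff_delta P a d (d - 1) hP (by omega)]
  have h : d - 1 + 1 = d := by omega
  rw [h, Nat.Ico_succ_singleton, Finset.sum_singleton]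
  have h1 : d - (d - 1) = 1 := by omega
  have h2 : d.choose (d - 1) = d := by
    obtain ⟨e, rfl⟩ : ∃ e, d = e + 1 := ⟨d - 1, by omega⟩
    rw [Nat.add_sub_cancel, Nat.choose_succ_self_right]
  rw [h1, h2, pow_one]; ring

open Polynomial in
theorem ratio_formula (P : ℚ[X]) (a : ℚ) (ha : a ≠ 0) (d n : ℕ) (hP : P.natDegree = d)
    (hd : 1 ≤ d) (hn : n + 1 ≤ d) (hL : P.coeff d ≠ 0) :
    ((P - P.comp (X - C a)).coeff n * (n.factorial : ℚ)) /
        ((P - P.comp (X - C a)).coeff (d - 1) * ((d - 1).factorial : ℚ))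
      = ∑ m ∈ Finset.Ico (n + 1) (d + 1),
          (P.coeff m * (m.factorial : ℚ) / (P.coeff d * (d.factorial : ℚ))) *
            ((-a) ^ (m - n - 1) / ((m - n).factorial : ℚ)) := by
  rw [coeff_delta_top P a d hP hd, coeff_delta P a d n hP (by omega), neg_mul, Finset.sum_mul,
    neg_div, Finset.sum_div, ← Finset.sum_neg_distrib]
  refine Finset.sum_congr rfl (fun m hm => ?_)
  rw [Finset.mem_Ico] at hm
  have hdf : (d.factorial : ℚ) = d * ((d - 1).factorial : ℚ) := by
    obtain ⟨e, rfl⟩ : ∃ e, d = e + 1 := ⟨d - 1, by omega⟩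
    rw [Nat.factorial_succ, Nat.add_sub_cancel]; push_cast; ring
  have hch : (m.choose n : ℚ) = (m.factorial : ℚ) / ((n.factorial : ℚ) * ((m - n).factorial : ℚ)) :=
    Nat.cast_choose ℚ (by omega)
  have hpow : (-a) ^ (m - n) = (-a) * (-a) ^ (m - n - 1) := by
    rw [← pow_succ']; congr 1; omega
  rw [hch, hpow, hdf]
  have h1 : ((d - 1).factorial : ℚ) ≠ 0 := Nat.cast_ne_zero.mpr (Nat.factorial_ne_zero _)
  have h2 : (n.factorial : ℚ) ≠ 0 := Nat.cast_ne_zero.mpr (Nat.factorial_ne_zero _)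
  have h3 : ((m - n).factorial : ℚ) ≠ 0 := Nat.cast_ne_zero.mpr (Nat.factorial_ne_zero _)
  have h4 : (d : ℚ) ≠ 0 := by exact_mod_cast (by omega : d ≠ 0)
  field_simp

theorem lexlemma (ℓ : ℕ) (u w u' w' : Fin ℓ → ℚ)
    (H : ∀ j : Fin ℓ, (∀ i : Fin ℓ, i < j → u i = w i) → u' j - w' j = u j - w j) :
    toLex u ≤ toLex w ↔ toLex u' ≤ toLex w' := by
  have K1 : ∀ j : Fin ℓ, (∀ i : Fin ℓ, i < j → u i = w i) →
      (∀ i : Fin ℓ, i < j → u' i = w' i) := by
    intro j hj i hij
    have := H i (fun i' hi' => hj i' (lt_trans hi' hij))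
    rw [hj i hij, sub_self] at this
    exact sub_eq_zero.mp this
  have K2 : ∀ j : Fin ℓ, (∀ i : Fin ℓ, i < j → u' i = w' i) →
      (∀ i : Fin ℓ, i < j → u i = w i) := by
    intro j hj
    have : ∀ n : ℕ, ∀ i : Fin ℓ, (i : ℕ) = n → i < j → u i = w i := by
      intro n
      induction n using Nat.strong_induction_on with
      | _ n ih =>
        intro i hin hij
        have h1 := H i (fun i' hi' =>
          ih i'.val (by rw [← hin]; exact hi') i' rfl (lt_trans hi' hij))
        rw [hj i hij, sub_self] at h1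
        exact sub_eq_zero.mp h1.symm
    intro i hij; exact this i.val i rfl hij
  have E1 : u = w → u' = w' := by
    intro h
    funext j
    have := H j (fun i _ => congrFun h i)
    rw [congrFun h j, sub_self] at this
    exact sub_eq_zero.mp this
  have E2 : u' = w' → u = w := by
    intro h
    funext j
    have h1 := K2 j (fun i _ => congrFun h i)
    have := H j h1
    rw [congrFun h j, sub_self] at this
    exact sub_eq_zero.mp this.symm
  rw [le_iff_lt_or_eq, le_iff_lt_or_eq]
  constructor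
  · rintro (h | h)
    · left
      obtain ⟨j, hj1, hj2⟩ := h
      refine ⟨j, K1 j hj1, ?_⟩
      have := H j hj1
      change u j < w j at hj2
      change u' j < w' j
      linarith
    · right
      have huw : u = w := toLex.injective h
      rw [E1 huw]
  · rintro (h | h)
    · left
      obtain ⟨j, hj1, hj2⟩ := h
      refine ⟨j, K2 j hj1, ?_⟩
      have := H j (K2 j hj1)
      change u' j < w' j at hj2
      change u j < w j
      linarith
    · right
      have huw : u' = w' := toLex.injective h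
      rw [E2 huw]


open Polynomial in
/-- Let d and ℓ be natural numbers with ℓ + 1 ≤ d, let a be a nonzero rational number and let P, Q be
polynomials with rational coefficients, both of degree exactly d. For a polynomial R of degree e
write R(m) = Σ_i α_i(R) m^i / i! (so α_i(R) = i! · coeff_i(R)) and let r_ℓ(R) ∈ ℚ^ℓ be the vector
(α_{e−1}(R)/α_e(R), …, α_{e−ℓ}(R)/α_e(R)) of the ℓ coefficients after the leading one of the reduced
polynomial R/α_e(R), ordered lexicographically. The polynomials P(m) − P(m − a) and Q(m) − Q(m − a)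
have degree d − 1, and r_ℓ(P) ≤ r_ℓ(Q) lexicographically if and only if r_ℓ(P(m) − P(m − a)) ≤
r_ℓ(Q(m) − Q(m − a)) lexicographically (hence the same with strict inequalities, by exchanging P and
Q). When P and Q are the Hilbert polynomials of pure d-dimensional coherent sheaves E → F on a
polarized projective scheme and D is a hypersurface section of degree a containing no associated
point of E or F, the Hilbert polynomials of E|_D and F|_D are P(m) − P(m − a) and Q(m) − Q(m − a),
and the two sides are the comparisons of the ℓ-truncated reduced Hilbert polynomials p_ℓ(E) ≥ p_ℓ(F)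
and p_ℓ(E|_D) ≥ p_ℓ(F|_D). (The published statement is phrased for the sheaves; this row is the
statement about their Hilbert polynomials that the displayed coefficient formula yields.) -/
theorem result (d ℓ : ℕ) (hℓ : ℓ + 1 ≤ d) (a : ℚ) (ha : a ≠ 0)
    (P Q : ℚ[X]) (hP : P.natDegree = d) (hQ : Q.natDegree = d) (hP0 : P ≠ 0) (hQ0 : Q ≠ 0) :
    toLex (fun j : Fin ℓ => ((P).coeff (d - 1 - (j : ℕ)) * (Nat.factorial (d - 1 - (j : ℕ)) : ℚ)) / ((P).coeff (d) * (Nat.factorial (d) : ℚ))) ≤ toLex (fun j : Fin ℓ => ((Q).coeff (d - 1 - (j : ℕ)) * (Nat.factorial (d - 1 - (j : ℕ)) : ℚ)) / ((Q).coeff (d) * (Nat.factorial (d) : ℚ))) ↔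
      toLex (fun j : Fin ℓ => ((P - P.comp (X - C a)).coeff ((d - 1) - 1 - (j : ℕ)) * (Nat.factorial ((d - 1) - 1 - (j : ℕ)) : ℚ)) / ((P - P.comp (X - C a)).coeff ((d - 1)) * (Nat.factorial ((d - 1)) : ℚ))) ≤
        toLex (fun j : Fin ℓ => ((Q - Q.comp (X - C a)).coeff ((d - 1) - 1 - (j : ℕ)) * (Nat.factorial ((d - 1) - 1 - (j : ℕ)) : ℚ)) / ((Q - Q.comp (X - C a)).coeff ((d - 1)) * (Nat.factorial ((d - 1)) : ℚ))) := by
  have hd : 1 ≤ d := by omega
  have hLP : P.coeff d ≠ 0 := by
    rw [← hP, Polynomial.coeff_natDegree]; exact Polynomial.leadingCoeff_ne_zero.mpr hP0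
  have hLQ : Q.coeff d ≠ 0 := by
    rw [← hQ, Polynomial.coeff_natDegree]; exact Polynomial.leadingCoeff_ne_zero.mpr hQ0
  have hdf0 : (d.factorial : ℚ) ≠ 0 := Nat.cast_ne_zero.mpr (Nat.factorial_ne_zero _)
  apply lexlemma
  intro j hj
  beta_reduce at hj ⊢
  have hjl : (j : ℕ) < ℓ := j.2
  obtain ⟨n, hn⟩ : ∃ n, n = d - 1 - 1 - (j : ℕ) := ⟨_, rfl⟩
  have hn1 : n + 1 = d - 1 - (j : ℕ) := by omega
  rw [← hn, ← hn1]
  rw [ratio_formula P a ha d n hP hd (by omega) hLP, ratio_formula Q a ha d n hQ hd (by omega) hLQ]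
  rw [← Finset.sum_sub_distrib, Finset.sum_eq_sum_Ico_succ_bot (by omega : n + 1 < d + 1)]
  have e1 : n + 1 - n - 1 = 0 := by omega
  have e2 : n + 1 - n = 1 := by omega
  rw [Finset.sum_eq_zero, add_zero, e1, e2, pow_zero, Nat.factorial_one, Nat.cast_one, div_one,
    mul_one, mul_one]
  intro m hm
  rw [Finset.mem_Ico] at hm
  have key : P.coeff m * (m.factorial : ℚ) / (P.coeff d * (d.factorial : ℚ))
      = Q.coeff m * (m.factorial : ℚ) / (Q.coeff d * (d.factorial : ℚ)) := by
    rcases Nat.lt_or_ge m d with hmd | hmd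
    · have hi : d - 1 - m < ℓ := by omega
      have h1 := hj ⟨d - 1 - m, hi⟩ (by rw [Fin.lt_def]; show d - 1 - m < (j : ℕ); omega)
      have e : d - 1 - (d - 1 - m) = m := by omega
      simp only [e] at h1
      exact h1
    · have hmd' : m = d := by omega
      subst hmd'
      rw [div_self (mul_ne_zero hLP hdf0), div_self (mul_ne_zero hLQ hdf0)]
  rw [key, sub_self]

end Groth.Agent.S14997
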