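import Groth.Statements.S15004
import Mathlib

set_option autoImplicit false
universe u v
open Harb

namespace Groth.Agent.S15004

/-- Let C be a finite family of d curves, recorded as an incidence relation between a type of points and
a finite index type, such that any two distinct curves of the family meet in exactly h points; for a
point p write r_p for the number of curves of the family through p. Then for every curve C_i of the
family, Σ_{p ∈ C_i} (r_p − 1) = h (d − 1), the sum being finitely supported. (The published
statement is for a transversal arrangement of curves on a geometrically ruled surface with invariant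
e, all numerically equivalent to a C₀ + b f, where any two of the curves meet transversally in h =
2ab − a²e points; only this common pairwise intersection count enters the proof, and this row states
the identity for an abstract incidence relation.) -/
theorem result (P : Type u) (ι : Type v) [Fintype ι]
    (inc : P → ι → Prop) (h : ℕ)
    (hfin : ∀ i j : ι, i ≠ j → {p : P | inc p i ∧ inc p j}.Finite)
    (hcount : ∀ i j : ι, i ≠ j → {p : P | inc p i ∧ inc p j}.ncard = h) (i : ι) :
    ∑ᶠ p ∈ {p : P | inc p i}, (Nat.card {j : ι // inc p j} - 1) = h * (Fintype.card ι - 1) := by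
  classical
  let T : Finset P := Finset.univ.biUnion (fun j => if hj : i ≠ j then (hfin i j hj).toFinset else ∅)
  have hT : ∀ p, p ∈ T ↔ inc p i ∧ ∃ j, i ≠ j ∧ inc p j := by
    intro p
    simp only [T, Finset.mem_biUnion, Finset.mem_univ, true_and]
    constructor
    · rintro ⟨j, hj⟩
      by_cases hij : i ≠ j
      · rw [dif_pos hij, Set.Finite.mem_toFinset] at hj
        exact ⟨hj.1, j, hij, hj.2⟩
      · rw [dif_neg hij] at hj; simp at hj
    · rintro ⟨hp, j, hij, hpj⟩
      refine ⟨j, ?_⟩
      rw [dif_pos hij, Set.Finite.mem_toFinset]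
      exact ⟨hp, hpj⟩
  have hm : ∀ p, inc p i → Nat.card {j : ι // inc p j} - 1 = ∑ j ∈ Finset.univ.erase i, if inc p j then 1 else 0 := by
    intro p hp
    rw [Nat.card_eq_fintype_card, Fintype.card_subtype, ← Finset.card_filter,
      Finset.filter_erase, Finset.card_erase_of_mem (by simp [hp])]
  have h1 : {p : P | inc p i} ∩ Function.support (fun p => Nat.card {j : ι // inc p j} - 1) ⊆ (T : Set P) := by
    rintro p ⟨hp, hsupp⟩
    rw [Function.mem_support, hm p hp] at hsupp
    obtain ⟨j, hj, hne⟩ := Finset.exists_ne_zero_of_sum_ne_zero hsupp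
    have hpj : inc p j := by by_contra hc; simp [hc] at hne
    exact (hT p).2 ⟨hp, j, (Finset.ne_of_mem_erase hj).symm, hpj⟩
  have h2 : (T : Set P) ⊆ {p : P | inc p i} := fun p hp => ((hT p).1 hp).1
  rw [finsum_mem_eq_sum_of_subset _ h1 h2]
  rw [Finset.sum_congr rfl (fun p hp => hm p ((hT p).1 hp).1), Finset.sum_comm]
  have h3 : ∀ j ∈ Finset.univ.erase i, ∑ p ∈ T, (if inc p j then 1 else 0) = h := by
    intro j hj
    have hij : i ≠ j := (Finset.ne_of_mem_erase hj).symm
    rw [← Finset.card_filter, ← hcount i j hij, Set.ncard_eq_toFinset_card _ (hfin i j hij)]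
    congr 1
    ext p
    simp only [Finset.mem_filter, hT, Set.Finite.mem_toFinset, Set.mem_ofPred_eq]
    constructor
    · rintro ⟨⟨hp, _⟩, hpj⟩; exact ⟨hp, hpj⟩
    · rintro ⟨hp, hpj⟩; exact ⟨⟨hp, j, hij, hpj⟩, hpj⟩
  rw [Finset.sum_congr rfl h3, Finset.sum_const, Finset.card_erase_of_mem (Finset.mem_univ i),
    Finset.card_univ, smul_eq_mul, mul_comm]

end Groth.Agent.S15004
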