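import Groth.Statements.S15005
import Mathlib
import Groth.Agent.S15004

set_option autoImplicit false
universe u v
open Harb

namespace Groth.Agent.S15005

/-- Let C be a finite family of d curves, recorded as an incidence relation between a type of points and
a finite index type, such that any two distinct curves of the family meet in exactly h points; let
t_k be the number of k-fold points (points lying on exactly k curves of the family). Then f₂ − f₁ =
Σ_{k ≥ 2} k(k − 1) t_k equals h d(d − 1), where f_i = Σ_{k ≥ 2} k^i t_k. (The published statement is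
for a transversal arrangement of curves on a geometrically ruled surface with invariant e, all
numerically equivalent to a C₀ + b f, where any two of the curves meet transversally in h = 2ab −
a²e points; only this common pairwise intersection count enters the proof, and this row states the
identity for an abstract incidence relation.) -/
theorem result (P : Type u) (ι : Type v) [Fintype ι]
    (inc : P → ι → Prop) (h : ℕ)
    (hfin : ∀ i j : ι, i ≠ j → {p : P | inc p i ∧ inc p j}.Finite)
    (hcount : ∀ i j : ι, i ≠ j → {p : P | inc p i ∧ inc p j}.ncard = h) :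
    ∑ k ∈ Finset.Icc 2 (Fintype.card ι), k * (k - 1) * Nat.card {p : P // Nat.card {j : ι // inc p j} = k} =
      h * (Fintype.card ι * (Fintype.card ι - 1)) := by
  classical
  let T : Finset P := Finset.univ.biUnion (fun ij : ι × ι => if hj : ij.1 ≠ ij.2 then (hfin ij.1 ij.2 hj).toFinset else ∅)
  have hmc : ∀ p, Nat.card {j : ι // inc p j} = (Finset.univ.filter (fun j => inc p j)).card := by
    intro p
    rw [Nat.card_eq_fintype_card, Fintype.card_subtype]
  have hT : ∀ p, p ∈ T ↔ 2 ≤ Nat.card {j : ι // inc p j} := by
    intro p
    rw [hmc]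
    simp only [T, Finset.mem_biUnion, Finset.mem_univ, true_and]
    constructor
    · rintro ⟨⟨i, j⟩, hj⟩
      by_cases hij : i ≠ j
      · rw [dif_pos hij, Set.Finite.mem_toFinset] at hj
        show 1 < _
        rw [Finset.one_lt_card]
        exact ⟨i, by simpa using hj.1, j, by simpa using hj.2, hij⟩
      · rw [dif_neg hij] at hj; simp at hj
    · intro h2
      have h2' : 1 < (Finset.univ.filter (fun j => inc p j)).card := h2
      rw [Finset.one_lt_card] at h2'
      obtain ⟨i, hi, j, hj, hij⟩ := h2'
      refine ⟨(i, j), ?_⟩
      rw [dif_pos hij, Set.Finite.mem_toFinset]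
      exact ⟨by simpa using hi, by simpa using hj⟩
  have hle : ∀ p, Nat.card {j : ι // inc p j} ≤ Fintype.card ι := by
    intro p; rw [hmc]; exact Finset.card_le_univ _
  -- step 1: each Nat.card is the card of a filter of T
  have hk : ∀ k ∈ Finset.Icc 2 (Fintype.card ι), Nat.card {p : P // Nat.card {j : ι // inc p j} = k} =
      (T.filter (fun p => Nat.card {j : ι // inc p j} = k)).card := by
    intro k hk
    rw [Finset.mem_Icc] at hk
    rw [← Nat.card_eq_finsetCard]
    apply Nat.card_congr
    refine Equiv.subtypeEquivRight ?_
    intro p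
    simp only [Finset.mem_filter, hT]
    constructor
    · intro hp; exact ⟨by rw [hp]; exact hk.1, hp⟩
    · intro hp; exact hp.2
  rw [Finset.sum_congr rfl (fun k hk' => by rw [hk k hk'])]
  -- step 2: fiberwise
  have h2 : ∑ k ∈ Finset.Icc 2 (Fintype.card ι), k * (k - 1) * (T.filter (fun p => Nat.card {j : ι // inc p j} = k)).card
      = ∑ p ∈ T, Nat.card {j : ι // inc p j} * (Nat.card {j : ι // inc p j} - 1) := by
    rw [← Finset.sum_fiberwise_of_maps_to (s := T) (t := Finset.Icc 2 (Fintype.card ι))
      (g := fun p => Nat.card {j : ι // inc p j}) (fun p hp => Finset.mem_Icc.2 ⟨(hT p).1 hp, hle p⟩)]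
    apply Finset.sum_congr rfl
    intro k _
    rw [Finset.sum_congr rfl (fun p hp => by rw [(Finset.mem_filter.1 hp).2]), Finset.sum_const,
      smul_eq_mul, mul_comm]
  rw [h2]
  -- step 3: double count
  have h3 : ∀ p ∈ T, Nat.card {j : ι // inc p j} * (Nat.card {j : ι // inc p j} - 1)
      = ∑ i : ι, if inc p i then (Nat.card {j : ι // inc p j} - 1) else 0 := by
    intro p _
    rw [← Finset.sum_filter, Finset.sum_const, smul_eq_mul, ← hmc]
  rw [Finset.sum_congr rfl h3, Finset.sum_comm]
  have h4 : ∀ i : ι, ∑ p ∈ T, (if inc p i then (Nat.card {j : ι // inc p j} - 1) else 0) = h * (Fintype.card ι - 1) := by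
    intro i
    rw [← Groth.Agent.S15004.result P ι inc h hfin hcount i, ← Finset.sum_filter]
    symm
    apply finsum_mem_eq_sum_of_subset
    · rintro p ⟨hp, hsupp⟩
      rw [Function.mem_support] at hsupp
      rw [Finset.coe_filter]
      refine ⟨(hT p).2 ?_, hp⟩
      omega
    · intro p hp
      rw [Finset.coe_filter] at hp
      exact hp.2
  rw [Finset.sum_congr rfl (fun i _ => h4 i), Finset.sum_const, Finset.card_univ, smul_eq_mul]
  ring

end Groth.Agent.S15005
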