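import Groth.Statements.S15006
import Mathlib
import Groth.Agent.Lib.helper7.Harb

set_option autoImplicit false
universe u v
open Harb

namespace Groth.Agent.S15006

/-- Let C be a finite family of d ≥ 2 curves, recorded as an incidence relation between a type of points
and a finite index type, such that any two distinct curves of the family meet in exactly h ≥ 1
points and no point lies on every curve of the family. Then f₀ ≥ d: the number of multiple points
(points lying on at least two of the curves) is at least the number of curves. (The published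
statement is for a transversal arrangement of d ≥ 4 curves on a geometrically ruled surface with
invariant e ≥ 4, all numerically equivalent to a C₀ + b f with a ≥ 1 and b ≥ ae and with no point
common to all of them, satisfying in addition either a ≥ 2, or a = 1 with some four of the curves
having no point in common, where any two of the curves meet transversally in h = 2ab − a²e ≥ 1
points; only d ≥ 2, h ≥ 1 and the absence of a common point enter the proof, and this row states the
bound for an abstract incidence relation.) -/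
theorem result (P : Type u) (ι : Type v) [Fintype ι]
    (inc : P → ι → Prop) (h : ℕ) (hh : 0 < h) (hd : 2 ≤ Fintype.card ι)
    (hfin : ∀ i j : ι, i ≠ j → {p : P | inc p i ∧ inc p j}.Finite)
    (hcount : ∀ i j : ι, i ≠ j → {p : P | inc p i ∧ inc p j}.ncard = h)
    (hnone : ∀ p : P, ∃ i : ι, ¬ inc p i) :
    Fintype.card ι ≤ Nat.card {p : P // 2 ≤ Nat.card {j : ι // inc p j}} := by
  classical
  obtain ⟨T, A, hcard, hA, hAA, hAc⟩ := Groth.Agent.Lib.helper7.H7_harb_setup P ι inc h hh hd hfin hcount hnone
  rw [hcard]
  have hsub : ∀ i, A i ⊆ T := fun i p hp => ((hA i p).1 hp).1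
  let v : ι → (↥T → ℝ) := fun i p => if (p : P) ∈ A i then 1 else 0
  have hinner : ∀ i j, ∑ p ∈ T, ((if p ∈ A i then (1:ℝ) else 0) * (if p ∈ A j then (1:ℝ) else 0))
      = ((A i ∩ A j).card : ℝ) := by
    intro i j
    have : ∀ p, ((if p ∈ A i then (1:ℝ) else 0) * (if p ∈ A j then (1:ℝ) else 0)) = if p ∈ A i ∩ A j then 1 else 0 := by
      intro p
      by_cases h1 : p ∈ A i <;> by_cases h2 : p ∈ A j <;> simp [h1, h2]
    simp_rw [this]
    rw [Finset.sum_ite_mem, Finset.sum_const, nsmul_eq_mul, mul_one]
    congr 2
    exact Finset.inter_eq_right.2 (Finset.inter_subset_left.trans (hsub i))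
  have key : ∀ g : ι → ℝ, ∑ p ∈ T, (∑ i, g i * (if p ∈ A i then (1:ℝ) else 0)) ^ 2
      = ∑ i, g i ^ 2 * (((A i).card : ℝ) - h) + h * (∑ i, g i) ^ 2 := by
    intro g
    have e1 : ∀ p, (∑ i, g i * (if p ∈ A i then (1:ℝ) else 0)) ^ 2
        = ∑ i, ∑ j, (g i * g j) * ((if p ∈ A i then (1:ℝ) else 0) * (if p ∈ A j then (1:ℝ) else 0)) := by
      intro p
      rw [pow_two, Finset.sum_mul_sum]
      apply Finset.sum_congr rfl; intro i _
      apply Finset.sum_congr rfl; intro j _
      ring
    simp_rw [e1]
    rw [Finset.sum_comm]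
    have e2 : ∀ i, ∑ p ∈ T, ∑ j, (g i * g j) * ((if p ∈ A i then (1:ℝ) else 0) * (if p ∈ A j then (1:ℝ) else 0))
        = ∑ j, (g i * g j) * ((A i ∩ A j).card : ℝ) := by
      intro i
      rw [Finset.sum_comm]
      apply Finset.sum_congr rfl; intro j _
      rw [← Finset.mul_sum, hinner]
    simp_rw [e2]
    have e3 : ∀ i j, ((A i ∩ A j).card : ℝ) = (h : ℝ) + if i = j then (((A i).card : ℝ) - h) else 0 := by
      intro i j
      by_cases hij : i = j
      · subst hij; simp
      · rw [hAA i j hij]; simp [hij]
    simp_rw [e3, mul_add, Finset.sum_add_distrib]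
    have e4 : ∑ i, ∑ j, g i * g j * (h : ℝ) = h * (∑ i, g i) ^ 2 := by
      rw [pow_two, Finset.sum_mul_sum, Finset.mul_sum]
      apply Finset.sum_congr rfl; intro i _
      rw [Finset.mul_sum]
      apply Finset.sum_congr rfl; intro j _
      ring
    have e5 : ∑ i, ∑ j, g i * g j * (if i = j then (((A i).card : ℝ) - h) else 0) = ∑ i, g i ^ 2 * (((A i).card : ℝ) - h) := by
      apply Finset.sum_congr rfl; intro i _
      simp [pow_two]
    rw [e4, e5]; ring
  have hli : LinearIndependent ℝ v := by
    rw [Fintype.linearIndependent_iff]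
    intro g hg i
    have hp : ∀ p : ↥T, ∑ i, g i * (if (p : P) ∈ A i then (1:ℝ) else 0) = 0 := by
      intro p
      have := congrFun hg p
      simpa [v, Finset.sum_apply] using this
    have h0 : ∑ p ∈ T, (∑ i, g i * (if p ∈ A i then (1:ℝ) else 0)) ^ 2 = 0 := by
      apply Finset.sum_eq_zero
      intro p hp'
      rw [hp ⟨p, hp'⟩]; ring
    rw [key g] at h0
    have hpos : ∀ i, (0:ℝ) < ((A i).card : ℝ) - h := by
      intro i
      have := hAc i
      have : ((h + 1 : ℕ) : ℝ) ≤ ((A i).card : ℝ) := by exact_mod_cast this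
      push_cast at this
      linarith
    have hnn : ∀ i ∈ Finset.univ, 0 ≤ g i ^ 2 * (((A i).card : ℝ) - h) :=
      fun i _ => mul_nonneg (sq_nonneg _) (hpos i).le
    have hsum0 : ∑ i, g i ^ 2 * (((A i).card : ℝ) - h) = 0 := by
      have h1 := Finset.sum_nonneg hnn
      have h2 : (0:ℝ) ≤ h * (∑ i, g i) ^ 2 := mul_nonneg (Nat.cast_nonneg h) (sq_nonneg _)
      linarith
    have h3 := (Finset.sum_eq_zero_iff_of_nonneg hnn).1 hsum0 i (Finset.mem_univ i)
    rcases mul_eq_zero.1 h3 with h4 | h4
    · exact pow_eq_zero_iff (two_ne_zero) |>.1 h4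
    · exact absurd h4 (hpos i).ne'
  have := hli.fintype_card_le_finrank
  rw [Module.finrank_fintype_fun_eq_card, Fintype.card_coe] at this
  exact this

end Groth.Agent.S15006
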