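import Groth.Statements.S15007
import Mathlib
import Groth.Agent.Lib.helper7.Harb

set_option autoImplicit false
universe u v
open Harb

namespace Groth.Agent.S15007

/-- Let C be a finite family of d ≥ 2 curves, recorded as an incidence relation between a type of points
and a finite index type, such that any two distinct curves of the family meet in exactly h ≥ 1
points and no point lies on every curve of the family. Then f₀ ≥ h + 2: the number of multiple
points (points lying on at least two of the curves) is at least h + 2. (The published claim reads f₀
≥ 2ab − a²e + 2 for a transversal arrangement of d ≥ 4 curves on a geometrically ruled surface with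
invariant e ≥ 4, all numerically equivalent to a C₀ + b f with a ≥ 1 and b ≥ ae and with no point
common to all of them, satisfying in addition either a ≥ 2, or a = 1 with some four of the curves
having no point in common, where any two of the curves meet transversally in h = 2ab − a²e ≥ 1
points; only d ≥ 2, h ≥ 1 and the absence of a common point enter the proof, and this row states the
bound for an abstract incidence relation.) -/
theorem result (P : Type u) (ι : Type v) [Fintype ι]
    (inc : P → ι → Prop) (h : ℕ) (hh : 0 < h) (hd : 2 ≤ Fintype.card ι)
    (hfin : ∀ i j : ι, i ≠ j → {p : P | inc p i ∧ inc p j}.Finite)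
    (hcount : ∀ i j : ι, i ≠ j → {p : P | inc p i ∧ inc p j}.ncard = h)
    (hnone : ∀ p : P, ∃ i : ι, ¬ inc p i) :
    h + 2 ≤ Nat.card {p : P // 2 ≤ Nat.card {j : ι // inc p j}} := by
  classical
  obtain ⟨T, A, hcard, hA, hAA, hAc⟩ := Groth.Agent.Lib.helper7.H7_harb_setup P ι inc h hh hd hfin hcount hnone
  rw [hcard]
  obtain ⟨i, j, hij⟩ : ∃ i j : ι, i ≠ j := by
    have : 1 < Fintype.card ι := hd
    rw [Fintype.one_lt_card_iff] at this
    exact this
  have h1 : ∃ p ∈ A j, p ∉ A i := by
    by_contra hcon
    push Not at hcon
    have h2 : A i ∩ A j = A j := by
      ext p; rw [Finset.mem_inter]; constructor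
      · exact fun hp => hp.2
      · exact fun hp => ⟨hcon p hp, hp⟩
    have := hAA i j hij
    rw [h2] at this
    have := hAc j
    omega
  obtain ⟨p, hpj, hpi⟩ := h1
  have h3 : insert p (A i) ⊆ T := by
    intro q hq
    rw [Finset.mem_insert] at hq
    rcases hq with rfl | hq
    · exact ((hA j q).1 hpj).1
    · exact ((hA i q).1 hq).1
  have h4 := Finset.card_le_card h3
  rw [Finset.card_insert_of_notMem hpi] at h4
  have := hAc i
  omega

end Groth.Agent.S15007
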