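import Groth.Statements.S15015
import Mathlib

set_option autoImplicit false
universe u
open TFCurv

namespace Groth.Agent.S15015

/-- Let k be an algebraically closed field and A ≠ k[[t]] a k-subalgebra of k[[t]] that is closed in the
t-adic topology, over which k[[t]] is a finite module, and such that every power series is carried
into A by multiplication with some nonzero element of A (so k[[t]] lies in the fraction field of A
and is its normalisation, as for the complete local ring of a unibranch curve singularity), and let
Γ ⊆ ℕ be the set of t-orders of the nonzero elements of A (its value semigroup). Then ℕ ∖ Γ is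
finite and the k-dimension of k[[t]]/A equals the number of gaps of Γ. -/
theorem result (k : Type u) [Field k] [IsAlgClosed k] (A : Subalgebra k (PowerSeries k)) (hA : Module.Finite ↥A (PowerSeries k)) (hcl : ∀ f : PowerSeries k, (∀ n : ℕ, ∃ g ∈ A, (n : ℕ∞) ≤ PowerSeries.order (f - g)) → f ∈ A) (hsing : A ≠ ⊤) (hbir : ∀ f : PowerSeries k, ∃ a ∈ A, a ≠ 0 ∧ a * f ∈ A) (Γ : Set ℕ) (hΓ : ∀ n : ℕ, n ∈ Γ ↔ ∃ f ∈ A, PowerSeries.order f = n) : Γᶜ.Finite ∧ Module.finrank k (PowerSeries k ⧸ Subalgebra.toSubmodule A) = Γᶜ.ncard := by
  classical
  -- Step 1: a nonzero conductor element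
  have step1 : ∀ T : Finset (PowerSeries k), ∃ a ∈ A, a ≠ 0 ∧
      ∀ g ∈ Submodule.span ↥A (↑T : Set (PowerSeries k)), a * g ∈ A := by
    intro T
    induction T using Finset.induction_on with
    | empty =>
      refine ⟨1, A.one_mem, one_ne_zero, ?_⟩
      intro g hg
      simp only [Finset.coe_empty, Submodule.span_empty, Submodule.mem_bot] at hg
      rw [hg, mul_zero]; exact A.zero_mem
    | insert f T hfT ih =>
      obtain ⟨a, ha, ha0, haT⟩ := ih
      obtain ⟨b, hb, hb0, hbf⟩ := hbir f
      refine ⟨a * b, A.mul_mem ha hb, mul_ne_zero ha0 hb0, ?_⟩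
      intro g hg
      rw [Finset.coe_insert, Submodule.mem_span_insert] at hg
      obtain ⟨r, z, hz, rfl⟩ := hg
      have e : a * b * (r • f + z) = (a * (r : PowerSeries k)) * (b * f) + b * (a * z) := by
        rw [Subalgebra.smul_def]; ring
      rw [e]
      exact A.add_mem (A.mul_mem (A.mul_mem ha r.2) hbf) (A.mul_mem hb (haT z hz))
  obtain ⟨T, hT⟩ := hA.fg_top
  obtain ⟨a, ha, ha0, haT⟩ := step1 T
  have hcond : ∀ g : PowerSeries k, a * g ∈ A := fun g => haT g (by rw [hT]; trivial)
  -- Step 2: everything of order ≥ N lies in A
  set N := (PowerSeries.order a).toNat with hN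
  have hbig : ∀ h : PowerSeries k, (N : ℕ∞) ≤ PowerSeries.order h → h ∈ A := by
    intro h hh
    have hdvd : (PowerSeries.X : PowerSeries k) ^ N ∣ h := by
      rw [PowerSeries.X_pow_dvd_iff]
      intro m hm
      exact PowerSeries.coeff_of_lt_order m (lt_of_lt_of_le (by exact_mod_cast hm) hh)
    obtain ⟨h', rfl⟩ := hdvd
    obtain ⟨u, hu⟩ := PowerSeries.isUnit_divided_by_X_pow_order ha0
    have ea : a = PowerSeries.X ^ N * (u : PowerSeries k) := by
      rw [hu, hN]; exact PowerSeries.X_pow_order_mul_divXPowOrder.symm
    have e : PowerSeries.X ^ N * h' = a * ((↑u⁻¹ : PowerSeries k) * h') := by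
      rw [ea]
      have : (u : PowerSeries k) * (↑u⁻¹ : PowerSeries k) = 1 := Units.mul_inv u
      calc PowerSeries.X ^ N * h' = PowerSeries.X ^ N * (((u : PowerSeries k) * ↑u⁻¹) * h') := by
            rw [this, one_mul]
        _ = _ := by ring
    rw [e]; exact hcond _
  have hΓN : ∀ n, N ≤ n → n ∈ Γ := by
    intro n hn
    rw [hΓ]
    refine ⟨PowerSeries.X ^ n, hbig _ ?_, PowerSeries.order_X_pow n⟩
    rw [PowerSeries.order_X_pow]; exact_mod_cast hn
  have hfin : Γᶜ.Finite := by
    apply Set.Finite.subset (Set.finite_lt_nat N)
    intro x hx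
    by_contra hlt
    exact hx (hΓN x (by simpa using hlt))
  refine ⟨hfin, ?_⟩
  -- Step 4: a basis of the quotient
  letI : Fintype ↥Γᶜ := hfin.fintype
  let Q := PowerSeries k ⧸ Subalgebra.toSubmodule A
  let v : ↥Γᶜ → Q := fun g => Submodule.Quotient.mk ((PowerSeries.X : PowerSeries k) ^ (g : ℕ))
  have hli : LinearIndependent k v := by
    rw [Fintype.linearIndependent_iff]
    intro cf hsum
    by_contra hne
    push Not at hne
    -- the polynomial p
    set p : PowerSeries k := ∑ g : ↥Γᶜ, cf g • (PowerSeries.X : PowerSeries k) ^ (g : ℕ) with hp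
    have hpA : p ∈ A := by
      have : (Submodule.Quotient.mk p : Q) = 0 := by
        have e1 : (Submodule.Quotient.mk p : Q) = (Subalgebra.toSubmodule A).mkQ p := rfl
        rw [e1, hp, map_sum, ← hsum]
        apply Finset.sum_congr rfl
        intro g _
        rw [map_smul]
        rfl
      rw [Submodule.Quotient.mk_eq_zero] at this
      exact this
    have hcoeff : ∀ n : ℕ, PowerSeries.coeff n p = if h : n ∈ Γᶜ then cf ⟨n, h⟩ else 0 := by
      intro n
      rw [hp, map_sum]
      simp only [PowerSeries.coeff_smul, PowerSeries.coeff_X_pow]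
      split_ifs with h
      · rw [Finset.sum_eq_single ⟨n, h⟩]
        · simp
        · intro b _ hb
          have : n ≠ (b : ℕ) := fun e => hb (Subtype.ext e.symm)
          simp [this]
        · intro h'; exact absurd (Finset.mem_univ _) h'
      · apply Finset.sum_eq_zero
        intro b _
        have : n ≠ (b : ℕ) := fun e => h (e ▸ b.2)
        simp [this]
    -- minimal index with nonzero coefficient
    have hex : ∃ n : ℕ, ∃ h : n ∈ Γᶜ, cf ⟨n, h⟩ ≠ 0 := by
      obtain ⟨g, hg⟩ := hne
      exact ⟨g.1, g.2, hg⟩
    set n0 := Nat.find hex with hn0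
    obtain ⟨hn0mem, hn0ne⟩ := Nat.find_spec hex
    have hord : PowerSeries.order p = n0 := by
      rw [PowerSeries.order_eq_nat]
      constructor
      · rw [hcoeff, dif_pos hn0mem]; exact hn0ne
      · intro i hi
        rw [hcoeff]
        split_ifs with h
        · by_contra hc
          exact Nat.find_min hex hi ⟨h, hc⟩
        · rfl
    exact hn0mem ((hΓ n0).mpr ⟨p, hpA, hord⟩)
  have hspan : ⊤ ≤ Submodule.span k (Set.range v) := by
    have key : ∀ d : ℕ, ∀ f : PowerSeries k, (N : ℕ∞) ≤ PowerSeries.order f + d →
        (Submodule.Quotient.mk f : Q) ∈ Submodule.span k (Set.range v) := by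
      intro d
      induction d with
      | zero =>
        intro f hf
        have : (Submodule.Quotient.mk f : Q) = 0 := by
          rw [Submodule.Quotient.mk_eq_zero]
          exact hbig f (by simpa using hf)
        rw [this]; exact Submodule.zero_mem _
      | succ d ih =>
        intro f hf
        by_cases hbigf : (N : ℕ∞) ≤ PowerSeries.order f
        · have : (Submodule.Quotient.mk f : Q) = 0 := by
            rw [Submodule.Quotient.mk_eq_zero]
            exact hbig f hbigf
          rw [this]; exact Submodule.zero_mem _
        · push Not at hbigf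
          obtain ⟨n, hn⟩ := ENat.ne_top_iff_exists.mp (ne_top_of_lt hbigf)
          have hnN : n < N := by rw [← hn] at hbigf; exact_mod_cast hbigf
          have hNle : N ≤ n + 1 + d := by
            rw [← hn] at hf
            have : ((N : ℕ) : ℕ∞) ≤ ((n + (d + 1) : ℕ) : ℕ∞) := by
              simpa using hf
            have := (Nat.cast_le (α := ℕ∞)).mp this
            omega
          by_cases hnΓ : n ∈ Γ
          · obtain ⟨b, hb, hbord⟩ := (hΓ n).mp hnΓ
            have hbn : PowerSeries.coeff n b ≠ 0 := (PowerSeries.order_eq_nat.mp hbord).1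
            set r := PowerSeries.coeff n f / PowerSeries.coeff n b with hr
            have hord' : ((n + 1 : ℕ) : ℕ∞) ≤ PowerSeries.order (f - r • b) := by
              apply PowerSeries.nat_le_order
              intro i hi
              rw [map_sub, PowerSeries.coeff_smul]
              rcases Nat.lt_succ_iff_lt_or_eq.mp hi with hlt | heq
              · rw [PowerSeries.coeff_of_lt_order i (by rw [← hn]; exact_mod_cast hlt),
                  PowerSeries.coeff_of_lt_order i (by rw [hbord]; exact_mod_cast hlt)]
                simp
              · subst heq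
                rw [hr, smul_eq_mul, div_mul_cancel₀ _ hbn, sub_self]
            have h1 := ih (f - r • b) (le_trans (by exact_mod_cast hNle) (add_le_add_left hord' _))
            have e : (Submodule.Quotient.mk f : Q) = Submodule.Quotient.mk (f - r • b) := by
              rw [Submodule.Quotient.eq]
              have : f - (f - r • b) = r • b := by ring
              rw [this]
              exact A.smul_mem hb r
            rw [e]; exact h1
          · set r := PowerSeries.coeff n f with hr
            have hord' : ((n + 1 : ℕ) : ℕ∞) ≤ PowerSeries.order (f - r • PowerSeries.X ^ n) := by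
              apply PowerSeries.nat_le_order
              intro i hi
              rw [map_sub, PowerSeries.coeff_smul, PowerSeries.coeff_X_pow]
              rcases Nat.lt_succ_iff_lt_or_eq.mp hi with hlt | heq
              · rw [PowerSeries.coeff_of_lt_order i (by rw [← hn]; exact_mod_cast hlt)]
                have : i ≠ n := by omega
                simp [this]
              · subst heq
                simp [hr]
            have h1 := ih (f - r • PowerSeries.X ^ n)
              (le_trans (by exact_mod_cast hNle) (add_le_add_left hord' _))
            have e : (Submodule.Quotient.mk f : Q) =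
                Submodule.Quotient.mk (f - r • PowerSeries.X ^ n) + r • v ⟨n, hnΓ⟩ := by
              simp only [v]
              rw [← Submodule.Quotient.mk_smul, ← Submodule.Quotient.mk_add]
              congr 1
              ring
            rw [e]
            exact Submodule.add_mem _ h1
              (Submodule.smul_mem _ _ (Submodule.subset_span ⟨_, rfl⟩))
    rintro x -
    obtain ⟨f, rfl⟩ := Submodule.Quotient.mk_surjective _ x
    exact key N f le_add_self
  have hb := Module.finrank_eq_nat_card_basis (Module.Basis.mk hli hspan)
  rw [hb, Nat.card_coe_set_eq]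

end Groth.Agent.S15015
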