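import Groth.Statements.S15016
import Mathlib

set_option autoImplicit false
universe u
open TFCurv

namespace Groth.Agent.S15016

/-- Let k be an algebraically closed field and A ≠ k[[t]] a k-subalgebra of k[[t]] that is closed in the
t-adic topology and over which k[[t]] is a finite module (as for the complete local ring of a
unibranch curve singularity inside its normalisation), and let Γ ⊆ ℕ be the set of t-orders of the
nonzero elements of A (its value semigroup); let c be the conductor of Γ, so that every n ≥ c lies
in Γ and c − 1 does not. Then for a power series f, f · k[[t]] ⊆ A holds exactly when the order of f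
is at least c: the conductor of A in k[[t]] is t^c · k[[t]], of codimension c. -/
theorem result (k : Type u) [Field k] [IsAlgClosed k] (A : Subalgebra k (PowerSeries k)) (hA : Module.Finite ↥A (PowerSeries k)) (hcl : ∀ f : PowerSeries k, (∀ n : ℕ, ∃ g ∈ A, (n : ℕ∞) ≤ PowerSeries.order (f - g)) → f ∈ A) (hsing : A ≠ ⊤) (Γ : Set ℕ) (hΓ : ∀ n : ℕ, n ∈ Γ ↔ ∃ f ∈ A, PowerSeries.order f = n) (c : ℕ) (hc : ∀ n : ℕ, c ≤ n → n ∈ Γ) (hc0 : c ≠ 0) (hc1 : c - 1 ∉ Γ) (f : PowerSeries k) : (∀ g : PowerSeries k, g * f ∈ A) ↔ (c : ℕ∞) ≤ PowerSeries.order f := by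
  constructor
  · intro h
    by_contra hlt
    push Not at hlt
    -- order f < c, so order f = n for some n < c
    have hne : PowerSeries.order f ≠ ⊤ := ne_top_of_lt hlt
    obtain ⟨n, hn⟩ := ENat.ne_top_iff_exists.mp hne
    rw [← hn] at hlt
    have hnc : n < c := by exact_mod_cast hlt
    have hmem := h (PowerSeries.X ^ (c - 1 - n))
    apply hc1
    rw [hΓ]
    refine ⟨_, hmem, ?_⟩
    rw [PowerSeries.order_mul, PowerSeries.order_X_pow, ← hn]
    norm_cast
    omega
  · intro hf g
    set h := g * f with hh
    have hord : (c : ℕ∞) ≤ PowerSeries.order h := by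
      rw [hh, PowerSeries.order_mul]
      exact le_trans hf le_add_self
    have key : ∀ N : ℕ, c ≤ N → ∃ a ∈ A, (N : ℕ∞) ≤ PowerSeries.order (h - a) := by
      intro N hN
      induction N, hN using Nat.le_induction with
      | base => exact ⟨0, A.zero_mem, by simpa using hord⟩
      | succ N hN ih =>
        obtain ⟨a, ha, hle⟩ := ih
        obtain ⟨b, hb, hbord⟩ := (hΓ N).mp (hc N hN)
        have hbN : PowerSeries.coeff N b ≠ 0 := (PowerSeries.order_eq_nat.mp hbord).1
        set d := h - a with hd
        set r := PowerSeries.coeff N d / PowerSeries.coeff N b with hr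
        refine ⟨a + r • b, A.add_mem ha (A.smul_mem hb r), ?_⟩
        have e : h - (a + r • b) = d - r • b := by rw [hd]; ring
        rw [e]
        apply PowerSeries.nat_le_order
        intro i hi
        rw [map_sub, PowerSeries.coeff_smul]
        rcases Nat.lt_succ_iff_lt_or_eq.mp hi with hlt | heq
        · rw [PowerSeries.coeff_of_lt_order i (lt_of_lt_of_le (by exact_mod_cast hlt) hle),
            PowerSeries.coeff_of_lt_order i (by rw [hbord]; exact_mod_cast hlt)]
          simp
        · subst heq
          rw [hr, smul_eq_mul, div_mul_cancel₀ _ hbN, sub_self]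
    apply hcl
    intro n
    obtain ⟨a, ha, hle⟩ := key (max n c) (le_max_right _ _)
    refine ⟨a, ha, le_trans ?_ hle⟩
    exact_mod_cast le_max_left n c

end Groth.Agent.S15016
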