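import Groth.Statements.S15017
import Mathlib

set_option autoImplicit false
open TFCurv

namespace Groth.Agent.S15017

/-- Let Γ be a numerical semigroup (a submonoid of (ℕ, +) with finite complement), Γ ≠ ℕ, with conductor
c (every n ≥ c lies in Γ, c − 1 does not). If Γ is symmetric (for x < c, x is a gap exactly when c −
1 − x ∈ Γ) and has multiplicity greater than 2 (neither 1 nor 2 lies in Γ), then Γ is generated by
its elements smaller than c: every minimal generator of Γ is less than the conductor. -/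
theorem result (Γ : AddSubmonoid ℕ) (c : ℕ) (hc : ∀ n : ℕ, c ≤ n → n ∈ Γ) (hc0 : c ≠ 0) (hc1 : c - 1 ∉ Γ) (hsymm : ∀ x : ℕ, x < c → (x ∉ Γ ↔ c - 1 - x ∈ Γ)) (he : (1 : ℕ) ∉ Γ ∧ (2 : ℕ) ∉ Γ) : AddSubmonoid.closure {γ : ℕ | γ ∈ Γ ∧ γ < c} = Γ := by
  classical
  apply le_antisymm
  · rw [AddSubmonoid.closure_le]
    rintro γ ⟨hγ, _⟩
    exact hγ
  -- basic facts
  have hcΓ : c ∈ Γ := hc c le_rfl
  have hc3 : 3 ≤ c := by
    by_contra hlt
    have : c = 1 ∨ c = 2 := by omega
    rcases this with h | h
    · exact he.1 (h ▸ hcΓ)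
    · exact he.2 (h ▸ hcΓ)
  have hF1 : c - 1 - 1 ∈ Γ := (hsymm 1 (by omega)).mp he.1
  have hF2 : c - 1 - 2 ∈ Γ := (hsymm 2 (by omega)).mp he.2
  -- the multiplicity
  have hex : ∃ γ, γ ∈ Γ ∧ γ ≠ 0 := ⟨c, hcΓ, hc0⟩
  set e := Nat.find hex with he_def
  have heΓ : e ∈ Γ := (Nat.find_spec hex).1
  have he0 : e ≠ 0 := (Nat.find_spec hex).2
  have hemin : ∀ γ, γ ∈ Γ → γ ≠ 0 → e ≤ γ := fun γ h1 h2 => Nat.find_min' hex ⟨h1, h2⟩
  have he3 : 3 ≤ e := by
    by_contra hlt
    have : e = 1 ∨ e = 2 := by omega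
    rcases this with h | h
    · exact he.1 (h ▸ heΓ)
    · exact he.2 (h ▸ heΓ)
  have hF1ne : c - 1 - 1 ≠ 0 := by
    intro h0
    have : c - 1 - 2 = 0 := by omega
    have hc' : c = 2 := by omega
    omega
  have hec : e < c := by
    have := hemin _ hF1 hF1ne
    omega
  -- the key decomposition
  have key : ∀ n, n ∈ Γ → c ≤ n → ∃ a b, a ∈ Γ ∧ b ∈ Γ ∧ a ≠ 0 ∧ b ≠ 0 ∧ a + b = n := by
    intro n hn hcn
    by_cases hne : n - e ∈ Γ
    · exact ⟨e, n - e, heΓ, hne, he0, by omega, by omega⟩
    · -- n - e is a gap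
      have hlt : n - e < c := by
        by_contra h; exact hne (hc _ (by omega))
      have h1 : c - 1 - (n - e) ∈ Γ := (hsymm _ hlt).mp hne
      have h2 : c - 1 - (n - e) = 0 := by
        by_contra h0
        have := hemin _ h1 h0
        omega
      have hnF : n = c - 1 + e := by omega
      -- least element of Γ not divisible by e
      have hex2 : ∃ w, w ∈ Γ ∧ ¬ e ∣ w := by
        by_cases hd : e ∣ c
        · refine ⟨c + 1, hc _ (by omega), fun hd2 => ?_⟩
          have : e ∣ 1 := (Nat.dvd_add_right hd).mp hd2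
          have := Nat.le_of_dvd one_pos this
          omega
        · exact ⟨c, hcΓ, hd⟩
      set w := Nat.find hex2 with hw_def
      have hwΓ : w ∈ Γ := (Nat.find_spec hex2).1
      have hwd : ¬ e ∣ w := (Nat.find_spec hex2).2
      have hwmin : ∀ v, v ∈ Γ → ¬ e ∣ v → w ≤ v := fun v h1 h2 => Nat.find_min' hex2 ⟨h1, h2⟩
      have hw0 : w ≠ 0 := by rintro h; exact hwd (h ▸ dvd_zero e)
      have hwe : e ≤ w := hemin _ hwΓ hw0
      have hwne : w ≠ e := by rintro h; exact hwd (h ▸ dvd_rfl)
      have hwgap : w - e ∉ Γ := by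
        intro hmem
        have hnd : ¬ e ∣ w - e := by
          intro hd
          apply hwd
          have : w = (w - e) + e := by omega
          rw [this]
          exact Dvd.dvd.add hd dvd_rfl
        have := hwmin _ hmem hnd
        omega
      have hwlt : w - e < c := by
        by_contra h; exact hwgap (hc _ (by omega))
      have h3 : c - 1 - (w - e) ∈ Γ := (hsymm _ hwlt).mp hwgap
      have hwn : w ≠ n := by
        intro hwn
        -- then F-1 and F-2 are both multiples of e
        have d1 : e ∣ c - 1 - 1 := by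
          by_contra hnd
          have := hwmin _ hF1 hnd
          omega
        have d2 : e ∣ c - 1 - 2 := by
          by_contra hnd
          have := hwmin _ hF2 hnd
          omega
        have e1 : c - 1 - 1 = (c - 1 - 2) + 1 := by omega
        rw [e1] at d1
        have : e ∣ 1 := (Nat.dvd_add_right d2).mp d1
        have := Nat.le_of_dvd one_pos this
        omega
      refine ⟨w, c - 1 - (w - e), hwΓ, h3, hw0, by omega, by omega⟩
  -- strong induction
  intro n
  induction n using Nat.strong_induction_on with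
  | _ n ih =>
    intro hn
    by_cases hlt : n < c
    · exact AddSubmonoid.subset_closure ⟨hn, hlt⟩
    · obtain ⟨a, b, ha, hb, ha0, hb0, hab⟩ := key n hn (by omega)
      rw [← hab]
      exact AddSubmonoid.add_mem _ (ih a (by omega) ha) (ih b (by omega) hb)

end Groth.Agent.S15017
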