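import Groth.Statements.S15018
import Mathlib

set_option autoImplicit false
open TFCurv

namespace Groth.Agent.S15018

/-- Let Γ be a numerical semigroup (a submonoid of (ℕ, +) with finite complement), Γ ≠ ℕ, with conductor
c (every n ≥ c lies in Γ, c − 1 does not). Then Γ is symmetric (for x < c, x is a gap exactly when c
− 1 − x ∈ Γ) if and only if there is exactly one gap n of Γ such that Γ ∪ {n} is again stable under
adding elements of Γ, i.e. n + γ ∈ Γ for every nonzero γ ∈ Γ. -/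
theorem result (Γ : AddSubmonoid ℕ) (c : ℕ) (hc : ∀ n : ℕ, c ≤ n → n ∈ Γ) (hc0 : c ≠ 0) (hc1 : c - 1 ∉ Γ) : (∀ x : ℕ, x < c → (x ∉ Γ ↔ c - 1 - x ∈ Γ)) ↔ ∃! n : ℕ, n ∉ Γ ∧ ∀ γ : ℕ, γ ∈ Γ → γ ≠ 0 → n + γ ∈ Γ := by
  have hF : ∀ γ : ℕ, γ ∈ Γ → γ ≠ 0 → c - 1 + γ ∈ Γ := fun γ _ h0 => hc _ (by omega)
  have hgap : ∀ x : ℕ, x ∉ Γ → x < c := fun x hx => by
    by_contra hlt
    exact hx (hc x (by omega))
  constructor
  · intro hsymm
    refine ⟨c - 1, ⟨hc1, hF⟩, ?_⟩
    rintro n ⟨hn, hn2⟩
    have hnc := hgap n hn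
    have h1 := (hsymm n hnc).mp hn
    by_contra hne
    have h2 := hn2 (c - 1 - n) h1 (by omega)
    have e : n + (c - 1 - n) = c - 1 := by omega
    rw [e] at h2
    exact hc1 h2
  · rintro ⟨n, ⟨hn, hn2⟩, huniq⟩
    have hnF : c - 1 = n := huniq (c - 1) ⟨hc1, hF⟩
    have key : ∀ d x : ℕ, c - x = d → x < c → x ∉ Γ → c - 1 - x ∉ Γ → False := by
      intro d
      induction d using Nat.strong_induction_on with
      | _ d ih =>
        intro x hd hxc hx hFx
        have hprop : ∀ γ : ℕ, γ ∈ Γ → γ ≠ 0 → x + γ ∈ Γ := by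
          intro γ hγ hγ0
          by_contra hxγ
          have hlt := hgap _ hxγ
          have h3 : c - 1 - (x + γ) ∈ Γ := by
            by_contra h4
            exact ih (c - (x + γ)) (by omega) (x + γ) rfl hlt hxγ h4
          have e : c - 1 - x = c - 1 - (x + γ) + γ := by omega
          rw [e] at hFx
          exact hFx (Γ.add_mem h3 hγ)
        have hxn : x = n := huniq x ⟨hx, hprop⟩
        rw [hxn, ← hnF, Nat.sub_self] at hFx
        exact hFx Γ.zero_mem
    intro x hxc
    constructor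
    · intro hx
      by_contra hFx
      exact key _ x rfl hxc hx hFx
    · intro hFx hx
      have e : c - 1 = x + (c - 1 - x) := by omega
      apply hc1
      rw [e]
      exact Γ.add_mem hx hFx

end Groth.Agent.S15018
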