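import Groth.Statements.S15019
import Mathlib

set_option autoImplicit false
open TFCurv

namespace Groth.Agent.S15019

/-- Let Γ be a numerical semigroup (a submonoid of (ℕ, +) with finite complement), Γ ≠ ℕ, with conductor
c (every n ≥ c lies in Γ, c − 1 does not), let e be its multiplicity (the least nonzero element of
Γ), and let S ⊆ ℕ be a Γ-module in normal form: 0 ∈ S and γ + s ∈ S for all γ ∈ Γ, s ∈ S. Then the
set of gaps n of S with S ∪ {n} again a Γ-module (n + γ ∈ S for every nonzero γ ∈ Γ) has at most e −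
1 elements, and so does the set of nonzero s ∈ S with S ∖ {s} again a Γ-module (s − γ ∉ S for every
nonzero γ ∈ Γ with γ ≤ s). -/
theorem result (Γ : AddSubmonoid ℕ) (c : ℕ) (hc : ∀ n : ℕ, c ≤ n → n ∈ Γ) (hc0 : c ≠ 0) (hc1 : c - 1 ∉ Γ) (e : ℕ) (he : e ∈ Γ) (he0 : e ≠ 0) (hemin : ∀ γ : ℕ, γ ∈ Γ → γ ≠ 0 → e ≤ γ) (S : Set ℕ) (hS0 : (0 : ℕ) ∈ S) (hS : ∀ γ : ℕ, γ ∈ Γ → ∀ s : ℕ, s ∈ S → γ + s ∈ S) : {n : ℕ | n ∉ S ∧ ∀ γ : ℕ, γ ∈ Γ → γ ≠ 0 → n + γ ∈ S}.encard ≤ ((e - 1 : ℕ) : ℕ∞) ∧ {s : ℕ | s ∈ S ∧ s ≠ 0 ∧ ∀ γ : ℕ, γ ∈ Γ → γ ≠ 0 → γ ≤ s → s - γ ∉ S}.encard ≤ ((e - 1 : ℕ) : ℕ∞) := by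
  have hmul : ∀ k : ℕ, k * e ∈ Γ := fun k => by
    have := Γ.nsmul_mem he k
    simpa [smul_eq_mul] using this
  have hcard : (↑(Finset.Ioo 0 e) : Set ℕ).encard = ((e - 1 : ℕ) : ℕ∞) := by
    rw [Set.encard_coe_eq_coe_finsetCard, Nat.card_Ioo]
    simp
  have hepos : 0 < e := Nat.pos_of_ne_zero he0
  constructor
  · rw [← hcard]
    apply Set.encard_le_encard_of_injOn (f := fun n => n % e)
    · rintro n ⟨hn, hn2⟩
      simp only [Finset.coe_Ioo, Set.mem_Ioo]
      refine ⟨Nat.pos_of_ne_zero ?_, Nat.mod_lt _ hepos⟩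
      intro h0
      apply hn
      have e1 : n = (n / e) * e + 0 := by
        have := Nat.div_add_mod n e
        rw [h0] at this
        rw [mul_comm]; omega
      rw [e1]
      exact hS _ (hmul _) 0 hS0
    · rintro n ⟨hn, hn2⟩ m ⟨hm, hm2⟩ hnm
      simp only at hnm
      by_contra hne
      rcases Nat.lt_or_gt_of_ne hne with hlt | hlt
      · have hdvd : e ∣ m - n := (Nat.modEq_iff_dvd' hlt.le).mp hnm
        obtain ⟨k, hk⟩ := hdvd
        have hk0 : k ≠ 0 := by rintro rfl; omega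
        have := hn2 (k * e) (hmul k) (by positivity)
        apply hm
        have e2 : m = n + k * e := by rw [mul_comm k e, ← hk]; omega
        rw [e2]; exact this
      · have hdvd : e ∣ n - m := (Nat.modEq_iff_dvd' hlt.le).mp hnm.symm
        obtain ⟨k, hk⟩ := hdvd
        have hk0 : k ≠ 0 := by rintro rfl; omega
        have := hm2 (k * e) (hmul k) (by positivity)
        apply hn
        have e2 : n = m + k * e := by rw [mul_comm k e, ← hk]; omega
        rw [e2]; exact this
  · rw [← hcard]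
    apply Set.encard_le_encard_of_injOn (f := fun n => n % e)
    · rintro n ⟨hn, hn0, hn2⟩
      simp only [Finset.coe_Ioo, Set.mem_Ioo]
      refine ⟨Nat.pos_of_ne_zero ?_, Nat.mod_lt _ hepos⟩
      intro h0
      have e1 : n = (n / e) * e := by
        have := Nat.div_add_mod n e
        rw [h0] at this
        rw [mul_comm]; omega
      have hk0 : n / e ≠ 0 := by
        intro h; rw [h] at e1; omega
      have := hn2 ((n / e) * e) (hmul _) (by positivity) (by omega)
      rw [← e1, Nat.sub_self] at this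
      exact this hS0
    · rintro n ⟨hn, hn0, hn2⟩ m ⟨hm, hm0, hm2⟩ hnm
      simp only at hnm
      by_contra hne
      rcases Nat.lt_or_gt_of_ne hne with hlt | hlt
      · have hdvd : e ∣ m - n := (Nat.modEq_iff_dvd' hlt.le).mp hnm
        obtain ⟨k, hk⟩ := hdvd
        have hk0 : k ≠ 0 := by rintro rfl; omega
        have e2 : m - k * e = n := by rw [mul_comm k e, ← hk]; omega
        have := hm2 (k * e) (hmul k) (by positivity) (by rw [mul_comm k e, ← hk]; omega)
        rw [e2] at this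
        exact this hn
      · have hdvd : e ∣ n - m := (Nat.modEq_iff_dvd' hlt.le).mp hnm.symm
        obtain ⟨k, hk⟩ := hdvd
        have hk0 : k ≠ 0 := by rintro rfl; omega
        have e2 : n - k * e = m := by rw [mul_comm k e, ← hk]; omega
        have := hn2 (k * e) (hmul k) (by positivity) (by rw [mul_comm k e, ← hk]; omega)
        rw [e2] at this
        exact this hm

end Groth.Agent.S15019
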