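import Groth.Statements.S15036
import Mathlib

set_option autoImplicit false
open TFCurv

namespace Groth.Agent.S15036

/-- Let Γ be a numerical semigroup (a submonoid of (ℕ, +) with finite complement), Γ ≠ ℕ, with conductor
c (every n ≥ c lies in Γ, c − 1 does not); let S ⊆ ℕ be a Γ-module in normal form (0 ∈ S, γ + s ∈ S
for γ ∈ Γ, s ∈ S) with conductor c(S) (all n ≥ c(S) in S, c(S) − 1 ∉ S), and let s be a gap of S
such that S ∪ {s} is again a Γ-module. Enumerate S increasingly as s_0 < s_1 < ⋯ and put τ_i(S) =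
s_i + ℓ(S), where ℓ counts the gaps of Γ filled; since ℓ(S ∪ {s}) = ℓ(S) + 1, the termwise
comparison τ(S) ≤ τ(S ∪ {s}) says that the i-th element of S is at most one more than the i-th
element of S ∪ {s} for every i. This holds if and only if s = c(S) − 1, the largest gap of S. -/
theorem result (Γ : AddSubmonoid ℕ) (c : ℕ) (hc : ∀ n : ℕ, c ≤ n → n ∈ Γ) (hc0 : c ≠ 0) (hc1 : c - 1 ∉ Γ) (S : Set ℕ) (hS0 : (0 : ℕ) ∈ S) (hS : ∀ γ : ℕ, γ ∈ Γ → ∀ s : ℕ, s ∈ S → γ + s ∈ S) (cS : ℕ) (hcS : ∀ n : ℕ, cS ≤ n → n ∈ S) (hcS0 : cS ≠ 0) (hcS1 : cS - 1 ∉ S) (s : ℕ) (hs : s ∉ S) (hs' : ∀ γ : ℕ, γ ∈ Γ → γ ≠ 0 → s + γ ∈ S) : (∀ i : ℕ, Nat.nth (fun m => m ∈ S) i ≤ Nat.nth (fun m => m ∈ insert s S) i + 1) ↔ s + 1 = cS := by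
  classical
  obtain ⟨P, hP⟩ : ∃ P : ℕ → Prop, P = fun m => m ∈ S := ⟨_, rfl⟩
  obtain ⟨Q, hQ⟩ : ∃ Q : ℕ → Prop, Q = fun m => m ∈ insert s S := ⟨_, rfl⟩
  rw [← hP, ← hQ]
  have hPm : ∀ m, P m ↔ m ∈ S := fun m => by rw [hP]
  have hQm : ∀ m, Q m ↔ (m = s ∨ m ∈ S) := fun m => by rw [hQ]; exact Set.mem_insert_iff
  have hPinf : (Set.ofPred P).Infinite := by
    apply Set.infinite_of_forall_exists_gt
    intro n
    exact ⟨max n cS + 1, (hPm _).mpr (hcS _ (by omega)), by omega⟩
  have hQinf : (Set.ofPred Q).Infinite := by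
    apply Set.infinite_of_forall_exists_gt
    intro n
    exact ⟨max n cS + 1, (hQm _).mpr (Or.inr (hcS _ (by omega))), by omega⟩
  have hcount : ∀ n, Nat.count Q n = Nat.count P n + (if s < n then 1 else 0) := by
    intro n
    induction n with
    | zero => simp
    | succ n ih =>
      rw [Nat.count_succ, Nat.count_succ, ih]
      by_cases hns : n = s
      · have h1 : Q n := (hQm n).mpr (Or.inl hns)
        have h2 : ¬ P n := fun h => hs (hns ▸ (hPm n).mp h)
        rw [if_pos h1, if_neg h2, if_neg (by omega), if_pos (by omega)]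
      · have h1 : Q n ↔ P n := by
          rw [hQm, hPm]
          constructor
          · rintro (h | h)
            · exact absurd h hns
            · exact h
          · exact fun h => Or.inr h
        by_cases hPn : P n
        · rw [if_pos (h1.mpr hPn), if_pos hPn]
          by_cases hsn : s < n
          · rw [if_pos hsn, if_pos (by omega)]
          · rw [if_neg hsn, if_neg (by omega)]
        · rw [if_neg (fun h => hPn (h1.mp h)), if_neg hPn]
          by_cases hsn : s < n
          · rw [if_pos hsn, if_pos (by omega)]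
          · rw [if_neg hsn, if_neg (by omega)]
  have hsc : s < cS := by
    by_contra h
    exact hs (hcS s (by omega))
  constructor
  · intro h
    by_contra hne
    have hg : s < cS - 1 := by omega
    have hgS : ¬ P (cS - 1) := fun h => hcS1 ((hPm _).mp h)
    have hi : Nat.count Q (cS - 1) = Nat.count P (cS - 1) + 1 := by
      rw [hcount, if_pos hg]
    have h1 : Nat.nth Q (Nat.count P (cS - 1)) < cS - 1 := by
      apply Nat.nth_lt_of_lt_count
      omega
    have h2 : cS - 1 ≤ Nat.nth P (Nat.count P (cS - 1)) := Nat.le_nth_count hPinf _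
    have h3 : P (Nat.nth P (Nat.count P (cS - 1))) := Nat.nth_mem_of_infinite hPinf _
    have h4 : Nat.nth P (Nat.count P (cS - 1)) ≠ cS - 1 := fun h => hgS (h ▸ h3)
    have h5 := h (Nat.count P (cS - 1))
    omega
  · intro hsc1 i
    have hx : Q (Nat.nth Q i) := Nat.nth_mem_of_infinite hQinf i
    have hci : Nat.count Q (Nat.nth Q i) = i := Nat.count_nth_of_infinite hQinf i
    obtain ⟨x, hxdef⟩ : ∃ x, x = Nat.nth Q i := ⟨_, rfl⟩
    rw [← hxdef] at hx hci ⊢
    have hgoal : Nat.nth P i < x + 1 + 1 := by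
      apply Nat.nth_lt_of_lt_count
      rw [Nat.count_succ, Nat.count_succ]
      have hcx := hcount x
      rcases lt_trichotomy x s with hlt | heq | hgt
      · have hxS : P x := by
          rcases (hQm x).mp hx with h | h
          · omega
          · exact (hPm x).mpr h
        rw [if_neg (by omega)] at hcx
        rw [if_pos hxS]
        generalize (if P (x + 1) then 1 else 0) = w
        omega
      · have hx1 : P (x + 1) := (hPm _).mpr (hcS _ (by omega))
        rw [if_neg (by omega)] at hcx
        rw [if_pos hx1]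
        generalize (if P x then 1 else 0) = w
        omega
      · have hx0 : P x := (hPm _).mpr (hcS _ (by omega))
        have hx1 : P (x + 1) := (hPm _).mpr (hcS _ (by omega))
        rw [if_pos hgt] at hcx
        rw [if_pos hx0, if_pos hx1]
        omega
    omega

end Groth.Agent.S15036
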