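import Groth.Statements.S15037
import Mathlib

set_option autoImplicit false
open TFCurv

namespace Groth.Agent.S15037

theorem key (S : Set ℕ) (cS : ℕ) (hcS : ∀ n : ℕ, cS ≤ n → n ∈ S) (hcS1 : cS = 0 ∨ cS - 1 ∉ S) :
    (∀ i, Nat.nth (fun m => m ∈ S) i ≤ i + Sᶜ.ncard) ∧
    (∀ i, (S ∩ Set.Iio cS).ncard ≤ i → Nat.nth (fun m => m ∈ S) i = i + Sᶜ.ncard) ∧
    (∀ i, i < (S ∩ Set.Iio cS).ncard → Nat.nth (fun m => m ∈ S) i + 1 ≤ i + Sᶜ.ncard) := by
  classical
  obtain ⟨P, hP⟩ : ∃ P : ℕ → Prop, P = fun m => m ∈ S := ⟨_, rfl⟩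
  obtain ⟨N, hN⟩ : ∃ N : ℕ → Prop, N = fun m => m ∉ S := ⟨_, rfl⟩
  rw [← hP]
  have hPm : ∀ m, P m ↔ m ∈ S := fun m => by rw [hP]
  have hNm : ∀ m, N m ↔ m ∉ S := fun m => by rw [hN]
  have hPinf : (Set.ofPred P).Infinite := by
    apply Set.infinite_of_forall_exists_gt
    intro n
    exact ⟨max n cS + 1, (hPm _).mpr (hcS _ (by omega)), by omega⟩
  have hadd : ∀ n, Nat.count P n + Nat.count N n = n := by
    intro n
    induction n with
    | zero => simp
    | succ n ih =>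
      rw [Nat.count_succ, Nat.count_succ]
      by_cases h : n ∈ S
      · rw [if_pos ((hPm n).mpr h), if_neg (fun h' => (hNm n).mp h' h)]; omega
      · rw [if_neg (fun h' => h ((hPm n).mp h')), if_pos ((hNm n).mpr h)]; omega
  have hNconst : ∀ n, cS ≤ n → Nat.count N n = Nat.count N cS := by
    intro n hn
    induction n, hn using Nat.le_induction with
    | base => rfl
    | succ n hn ih =>
      rw [Nat.count_succ, if_neg (fun h' => (hNm n).mp h' (hcS n hn)), ih, add_zero]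
  have hNle : ∀ n, Nat.count N n ≤ Nat.count N cS := by
    intro n
    rcases le_total n cS with h | h
    · exact Nat.count_monotone N h
    · exact (hNconst n h).le
  have hδ : Sᶜ.ncard = Nat.count N cS := by
    have : Sᶜ = ↑((Finset.range cS).filter N) := by
      ext m
      simp only [Set.mem_compl_iff, Finset.coe_filter, Finset.mem_range, Set.mem_ofPred_eq]
      rw [hNm]
      constructor
      · intro h
        refine ⟨?_, h⟩
        by_contra h'
        exact h (hcS m (by omega))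
      · exact fun h => h.2
    rw [this, Set.ncard_coe_finset, Nat.count_eq_card_filter_range]
  have hr : (S ∩ Set.Iio cS).ncard = Nat.count P cS := by
    have : S ∩ Set.Iio cS = ↑((Finset.range cS).filter P) := by
      ext m
      simp only [Set.mem_inter_iff, Set.mem_Iio, Finset.coe_filter, Finset.mem_range,
        Set.mem_ofPred_eq]
      rw [hPm]
      tauto
    rw [this, Set.ncard_coe_finset, Nat.count_eq_card_filter_range]
  rw [hδ, hr]
  refine ⟨?_, ?_, ?_⟩
  · intro i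
    have h1 := hadd (Nat.nth P i)
    rw [Nat.count_nth_of_infinite hPinf] at h1
    have h2 := hNle (Nat.nth P i)
    omega
  · intro i hi
    have hy : cS ≤ i + Nat.count N cS := by
      have := hadd cS
      omega
    have hyS : P (i + Nat.count N cS) := (hPm _).mpr (hcS _ hy)
    have h1 := hadd (i + Nat.count N cS)
    rw [hNconst _ hy] at h1
    have h2 : Nat.count P (i + Nat.count N cS) = i := by omega
    have h3 := Nat.nth_count hyS
    rw [h2] at h3
    exact h3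
  · intro i hi
    have hx : Nat.nth P i < cS := Nat.nth_lt_of_lt_count hi
    have hxS : P (Nat.nth P i) := Nat.nth_mem_of_infinite hPinf i
    have hc0 : cS ≠ 0 := by omega
    have hc1 : cS - 1 ∉ S := by
      rcases hcS1 with h | h
      · exact absurd h hc0
      · exact h
    have hne : Nat.nth P i ≠ cS - 1 := fun h => hc1 (h ▸ (hPm _).mp hxS)
    have hlt : Nat.nth P i ≤ cS - 1 := by omega
    have h1 := hadd (Nat.nth P i)
    rw [Nat.count_nth_of_infinite hPinf] at h1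
    have h2 : Nat.count N (Nat.nth P i) ≤ Nat.count N (cS - 1) := Nat.count_monotone N hlt
    have h3 : Nat.count N cS = Nat.count N (cS - 1) + 1 := by
      have h4 : cS = (cS - 1) + 1 := by omega
      conv_lhs => rw [h4]
      rw [Nat.count_succ, if_pos ((hNm _).mpr hc1)]
    omega


/-- Let Γ be a numerical semigroup (a submonoid of (ℕ, +) with finite complement), Γ ≠ ℕ, with conductor
c (every n ≥ c lies in Γ, c − 1 does not); let S and S' ⊆ ℕ be Γ-modules in normal form with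
conductors c(S), c(S'), let δ(S), δ(S') be their numbers of gaps and r(S), r(S') their numbers of
elements below the conductor, and enumerate them increasingly as s_i, s'_i (i ≥ 0). With τ_i(S) =
s_i + ℓ(S) and ℓ(S) = δ(Γ) − δ(S), the termwise order τ(S) ≤ τ(S') reads s_i + δ(S') ≤ s'_i + δ(S)
for all i. It holds if and only if r(S') ≤ r(S) and s_i + δ(S') ≤ s'_i + δ(S) for all i < r(S')
(beyond r(S) the entries τ_i(S) = i + δ(Γ) are the largest possible). -/
theorem result (Γ : AddSubmonoid ℕ) (c : ℕ) (hc : ∀ n : ℕ, c ≤ n → n ∈ Γ) (hc0 : c ≠ 0) (hc1 : c - 1 ∉ Γ) (S : Set ℕ) (hS0 : (0 : ℕ) ∈ S) (hS : ∀ γ : ℕ, γ ∈ Γ → ∀ s : ℕ, s ∈ S → γ + s ∈ S) (cS : ℕ) (hcS : ∀ n : ℕ, cS ≤ n → n ∈ S) (hcS1 : cS = 0 ∨ cS - 1 ∉ S) (S' : Set ℕ) (hS'0 : (0 : ℕ) ∈ S') (hS' : ∀ γ : ℕ, γ ∈ Γ → ∀ s : ℕ, s ∈ S' → γ + s ∈ S') (cS' : ℕ) (hcS' : ∀ n : ℕ, cS' ≤ n → n ∈ S') (hcS'1 : cS' = 0 ∨ cS' - 1 ∉ S') : (∀ i : ℕ, Nat.nth (fun m => m ∈ S) i + S'ᶜ.ncard ≤ Nat.nth (fun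 m => m ∈ S') i + Sᶜ.ncard) ↔ ((S' ∩ Set.Iio cS').ncard ≤ (S ∩ Set.Iio cS).ncard ∧ ∀ i : ℕ, i < (S' ∩ Set.Iio cS').ncard → Nat.nth (fun m => m ∈ S) i + S'ᶜ.ncard ≤ Nat.nth (fun m => m ∈ S') i + Sᶜ.ncard) := by
  obtain ⟨a1, a2, a3⟩ := key S cS hcS hcS1
  obtain ⟨b1, b2, b3⟩ := key S' cS' hcS' hcS'1
  constructor
  · intro h
    refine ⟨?_, fun i _ => h i⟩
    by_contra hlt
    push Not at hlt
    have hi : (S' ∩ Set.Iio cS').ncard - 1 < (S' ∩ Set.Iio cS').ncard := by omega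
    have h1 := b3 _ hi
    have h2 := a2 ((S' ∩ Set.Iio cS').ncard - 1) (by omega)
    have h3 := h ((S' ∩ Set.Iio cS').ncard - 1)
    omega
  · rintro ⟨hr, h⟩ i
    by_cases hi : i < (S' ∩ Set.Iio cS').ncard
    · exact h i hi
    · have h1 := b2 i (by omega)
      have h2 := a1 i
      omega

end Groth.Agent.S15037
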