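import Groth.Statements.S15038
import Mathlib

set_option autoImplicit false
open TFCurv

namespace Groth.Agent.S15038

/-- Let Γ be a numerical semigroup (a submonoid of (ℕ, +) with finite complement), Γ ≠ ℕ, with conductor
c (every n ≥ c lies in Γ, c − 1 does not). If Γ is symmetric (for x < c, x is a gap exactly when c −
1 − x ∈ Γ) and its multiplicity e, the least nonzero element of Γ, is greater than 2, then Γ is
generated as an additive monoid by at most e − 1 elements. -/
theorem result (Γ : AddSubmonoid ℕ) (c : ℕ) (hc : ∀ n : ℕ, c ≤ n → n ∈ Γ) (hc0 : c ≠ 0) (hc1 : c - 1 ∉ Γ) (hsymm : ∀ x : ℕ, x < c → (x ∉ Γ ↔ c - 1 - x ∈ Γ)) (e : ℕ) (he : e ∈ Γ) (he0 : e ≠ 0) (hemin : ∀ γ : ℕ, γ ∈ Γ → γ ≠ 0 → e ≤ γ) (he2 : 2 < e) : ∃ G : Finset ℕ, G.card ≤ e - 1 ∧ AddSubmonoid.closure (↑G : Set ℕ) = Γ := by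
  classical
  have hmul : ∀ k : ℕ, e * k ∈ Γ := by
    intro k
    have := Γ.nsmul_mem he k
    rwa [smul_eq_mul, mul_comm] at this
  have hap : ∀ w w' : ℕ, w ∈ Γ → w' - e ∉ Γ → w % e = w' % e → w < w' → False := by
    intro w w' hw hw' hmod hlt
    have h1 : (w' - w) % e = 0 := Nat.sub_mod_eq_zero_of_mod_eq hmod.symm
    obtain ⟨k, hk⟩ := Nat.dvd_of_mod_eq_zero h1
    rcases Nat.eq_zero_or_pos k with hk0 | hkpos
    · rw [hk0, mul_zero] at hk; omega
    · obtain ⟨k', rfl⟩ := Nat.exists_eq_succ_of_ne_zero (by omega : k ≠ 0)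
      rw [Nat.mul_succ] at hk
      apply hw'
      have h2 : w' - e = w + e * k' := by omega
      rw [h2]
      exact Γ.add_mem hw (hmul k')
  have hF : c - 1 + e - e ∉ Γ := by
    rw [Nat.add_sub_cancel]; exact hc1
  have hwmaxΓ : c - 1 + e ∈ Γ := hc _ (by omega)
  have hwmax_mod : (c - 1 + e) % e ≠ 0 := by
    intro h
    have h1 : (c - 1) % e = 0 := by rwa [Nat.add_mod_right] at h
    obtain ⟨k, hk⟩ := Nat.dvd_of_mod_eq_zero h1
    apply hc1
    rw [hk]; exact hmul k
  have hmod_lt : ∀ w, w % e < e := fun w => Nat.mod_lt _ (by omega)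
  obtain ⟨Ap, hAp⟩ : ∃ Ap : Finset ℕ, Ap = (Finset.range (c + e)).filter
      (fun w => w ∈ Γ ∧ w ≠ 0 ∧ w - e ∉ Γ ∧ w ≠ c - 1 + e) := ⟨_, rfl⟩
  have hApm : ∀ w, w ∈ Ap ↔ (w < c + e ∧ w ∈ Γ ∧ w ≠ 0 ∧ w - e ∉ Γ ∧ w ≠ c - 1 + e) := by
    intro w; rw [hAp, Finset.mem_filter, Finset.mem_range]
  have hres0 : ∀ w, w ∈ Γ → w ≠ 0 → w - e ∉ Γ → w % e ≠ 0 := by
    intro w hw hw0 hwe h
    obtain ⟨k, hk⟩ := Nat.dvd_of_mod_eq_zero h
    rcases Nat.eq_zero_or_pos k with hk0 | hkpos
    · rw [hk0, mul_zero] at hk; exact hw0 hk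
    · obtain ⟨k', rfl⟩ := Nat.exists_eq_succ_of_ne_zero (by omega : k ≠ 0)
      rw [Nat.mul_succ] at hk
      apply hwe
      have h2 : w - e = e * k' := by omega
      rw [h2]; exact hmul k'
  have hcardAp : Ap.card ≤ e - 2 := by
    have hT : (((Finset.range e).erase 0).erase ((c - 1 + e) % e)).card = e - 2 := by
      rw [Finset.card_erase_of_mem, Finset.card_erase_of_mem, Finset.card_range]
      · omega
      · rw [Finset.mem_range]; omega
      · rw [Finset.mem_erase, Finset.mem_range]; exact ⟨hwmax_mod, hmod_lt _⟩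
    rw [← hT]
    apply Finset.card_le_card_of_injOn (fun w => w % e)
    · intro w hw
      have hw' := (hApm w).mp (Finset.mem_coe.mp hw)
      obtain ⟨-, hwΓ, hw0, hwe, hwne⟩ := hw'
      refine Finset.mem_coe.mpr ?_
      show w % e ∈ ((Finset.range e).erase 0).erase ((c - 1 + e) % e)
      rw [Finset.mem_erase, Finset.mem_erase, Finset.mem_range]
      refine ⟨?_, hres0 w hwΓ hw0 hwe, hmod_lt w⟩
      intro hmod
      rcases lt_trichotomy w (c - 1 + e) with h | h | h
      · exact hap w (c - 1 + e) hwΓ hF hmod h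
      · exact hwne h
      · exact hap (c - 1 + e) w hwmaxΓ hwe hmod.symm h
    · intro w hw w' hw' hmod
      have h1 := (hApm w).mp (Finset.mem_coe.mp hw)
      have h2 := (hApm w').mp (Finset.mem_coe.mp hw')
      obtain ⟨-, hwΓ, hw0, hwe, hwne⟩ := h1
      obtain ⟨-, hwΓ', hw0', hwe', hwne'⟩ := h2
      have hmod' : w % e = w' % e := hmod
      rcases lt_trichotomy w w' with h | h | h
      · exact (hap w w' hwΓ hwe' hmod' h).elim
      · exact h
      · exact (hap w' w hwΓ' hwe hmod'.symm h).elim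
  -- existence of a third Apéry element
  have hexa : ∃ a, a ∈ Γ ∧ a ≠ 0 ∧ a - e ∉ Γ ∧ a ≠ c - 1 + e := by
    obtain ⟨ρ, hρ0, hρe, hρne⟩ : ∃ ρ, ρ ≠ 0 ∧ ρ < e ∧ ρ ≠ (c - 1 + e) % e := by
      by_cases h1 : (c - 1 + e) % e = 1
      · exact ⟨2, by omega, by omega, by omega⟩
      · exact ⟨1, by omega, by omega, fun h => h1 h.symm⟩
    have hex : ∃ x, x ∈ Γ ∧ x % e = ρ := by
      refine ⟨ρ + e * c, hc _ ?_, ?_⟩
      · have : c ≤ e * c := Nat.le_mul_of_pos_left c (by omega)
        omega
      · rw [Nat.add_mul_mod_self_left, Nat.mod_eq_of_lt hρe]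
    have ha := Nat.find_spec hex
    have hmin := fun m => @Nat.find_min _ _ hex m
    obtain ⟨a, haeq⟩ : ∃ a, a = Nat.find hex := ⟨_, rfl⟩
    rw [← haeq] at ha hmin
    obtain ⟨haΓ, hamod⟩ := ha
    have ha0 : a ≠ 0 := by
      intro h
      rw [h, Nat.zero_mod] at hamod
      exact hρ0 hamod.symm
    have hae : e ≤ a := hemin a haΓ ha0
    refine ⟨a, haΓ, ha0, ?_, ?_⟩
    · intro h
      have h1 : a % e = (a - e) % e := by
        conv_lhs => rw [← Nat.sub_add_cancel hae]
        exact Nat.add_mod_right _ _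
      exact hmin (a - e) (by omega) ⟨h, by rw [← h1]; exact hamod⟩
    · intro h
      rw [h] at hamod
      exact hρne hamod.symm
  refine ⟨insert e Ap, ?_, ?_⟩
  · have := Finset.card_insert_le e Ap
    omega
  · apply le_antisymm
    · rw [AddSubmonoid.closure_le]
      intro w hw
      rw [Finset.mem_coe, Finset.mem_insert] at hw
      rcases hw with h | h
      · rw [h]; exact he
      · exact ((hApm w).mp h).2.1
    · intro n hn
      induction n using Nat.strong_induction_on with
      | _ n ih =>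
        by_cases hn0 : n = 0
        · rw [hn0]; exact zero_mem _
        · have hge : e ≤ n := hemin n hn hn0
          have heG : e ∈ AddSubmonoid.closure (↑(insert e Ap) : Set ℕ) :=
            AddSubmonoid.subset_closure (Finset.mem_coe.mpr (Finset.mem_insert_self e Ap))
          by_cases h1 : n - e ∈ Γ
          · have h2 := add_mem (ih (n - e) (by omega) h1) heG
            rwa [Nat.sub_add_cancel hge] at h2
          · by_cases h2 : n = c - 1 + e
            · obtain ⟨a, haΓ, ha0, hae, hane⟩ := hexa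
              have hae' : e ≤ a := hemin a haΓ ha0
              have hxc : a - e < c := by
                by_contra hcon
                exact hae (hc _ (by omega))
              have hb : c - 1 - (a - e) ∈ Γ := (hsymm (a - e) hxc).mp hae
              have hxne : a - e ≠ c - 1 := by omega
              have h3 := add_mem (ih a (by omega) haΓ) (ih (c - 1 - (a - e)) (by omega) hb)
              have h4 : a + (c - 1 - (a - e)) = n := by omega
              rwa [h4] at h3
            · apply AddSubmonoid.subset_closure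
              rw [Finset.mem_coe, Finset.mem_insert]
              right
              rw [hApm]
              refine ⟨?_, hn, hn0, h1, h2⟩
              by_contra hcon
              exact h1 (hc _ (by omega))

end Groth.Agent.S15038
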