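import Groth.Statements.S15078
import Mathlib

set_option autoImplicit false
universe u v
open MovLem

namespace Groth.Agent.S15078

noncomputable def phi {k : Type*} [Field k] {K : Type*} [Field K] [Algebra k K] (r N : ℕ)
    (g : Fin r → K) : MvPolynomial (Fin r) k →ₐ[k] Polynomial (MvPolynomial (Fin r) K) :=
  MvPolynomial.aeval (fun i : Fin r => Polynomial.C (MvPolynomial.X i) +
    Polynomial.C (MvPolynomial.C (g i)) * Polynomial.X ^ N)

def Q {k : Type*} [Field k] {K : Type*} [Field K] [Algebra k K] (r N : ℕ) (g : Fin r → K)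
    (u : MvPolynomial (Fin r) k) (d : ℕ) : Prop :=
  (phi r N g u).natDegree ≤ N * d ∧
    (phi r N g u).coeff (N * d) = MvPolynomial.C (MvPolynomial.aeval g u)

section
variable {k : Type*} [Field k] {K : Type*} [Field K] [Algebra k K] (r N : ℕ) (g : Fin r → K)

theorem Q_C (c : k) : Q r N g (MvPolynomial.C c) 0 := by
  have h : phi r N g (MvPolynomial.C c) = Polynomial.C (MvPolynomial.C (algebraMap k K c)) := by
    unfold phi
    rw [MvPolynomial.aeval_C, Polynomial.algebraMap_apply, MvPolynomial.algebraMap_apply]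
  constructor
  · rw [h, mul_zero, Polynomial.natDegree_C]
  · rw [h, mul_zero, Polynomial.coeff_C_zero, MvPolynomial.aeval_C]

theorem Q_X (hN : 1 ≤ N) (i : Fin r) : Q r N g (MvPolynomial.X i : MvPolynomial (Fin r) k) 1 := by
  have h : phi r N g (MvPolynomial.X i : MvPolynomial (Fin r) k) = Polynomial.C (MvPolynomial.X i) +
      Polynomial.C (MvPolynomial.C (g i)) * Polynomial.X ^ N := by
    unfold phi; rw [MvPolynomial.aeval_X]
  constructor
  · rw [h, mul_one]
    refine (Polynomial.natDegree_add_le _ _).trans (max_le ?_ ?_)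
    · rw [Polynomial.natDegree_C]; exact Nat.zero_le _
    · exact Polynomial.natDegree_C_mul_X_pow_le _ _
  · rw [h, mul_one, Polynomial.coeff_add, Polynomial.coeff_C_mul_X_pow, if_pos rfl,
      Polynomial.coeff_C, if_neg (by omega), zero_add, MvPolynomial.aeval_X]

theorem Q_mul {u v : MvPolynomial (Fin r) k} {d e : ℕ} (hu : Q r N g u d) (hv : Q r N g v e) :
    Q r N g (u * v) (d + e) := by
  constructor
  · rw [map_mul (phi r N g) u v, mul_add]; exact Polynomial.natDegree_mul_le_of_le hu.1 hv.1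
  · rw [map_mul (phi r N g) u v, mul_add, Polynomial.coeff_mul_add_eq_of_natDegree_le hu.1 hv.1,
      hu.2, hv.2, map_mul (MvPolynomial.aeval g) u v, map_mul]

theorem Q_one : Q r N g (1 : MvPolynomial (Fin r) k) 0 := by
  have := Q_C r N g (1 : k)
  rwa [map_one] at this

theorem Q_pow {u : MvPolynomial (Fin r) k} {d : ℕ} (hu : Q r N g u d) (e : ℕ) :
    Q r N g (u ^ e) (d * e) := by
  induction e with
  | zero => rw [pow_zero, mul_zero]; exact Q_one r N g
  | succ e ih => rw [pow_succ, Nat.mul_succ]; exact Q_mul r N g ih hu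

theorem Q_prod (s : Finset (Fin r)) (u : Fin r → MvPolynomial (Fin r) k) (d : Fin r → ℕ)
    (h : ∀ i ∈ s, Q r N g (u i) (d i)) : Q r N g (∏ i ∈ s, u i) (∑ i ∈ s, d i) := by
  classical
  induction s using Finset.induction_on with
  | empty => rw [Finset.prod_empty, Finset.sum_empty]; exact Q_one r N g
  | insert a s ha ih =>
    rw [Finset.prod_insert ha, Finset.sum_insert ha]
    exact Q_mul r N g (h a (Finset.mem_insert_self a s))
      (ih (fun i hi => h i (Finset.mem_insert_of_mem hi)))

theorem Q_monomial (hN : 1 ≤ N) (α : Fin r →₀ ℕ) (c : k) :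
    Q r N g (MvPolynomial.monomial α c) α.degree := by
  rw [MvPolynomial.monomial_eq, Finsupp.prod_fintype _ _ (fun i => pow_zero _)]
  have hdeg : α.degree = 0 + ∑ i ∈ Finset.univ, 1 * α i := by
    rw [zero_add, Finsupp.degree_eq_sum]
    apply Finset.sum_congr rfl
    intro i _
    rw [one_mul]
  rw [hdeg]
  exact Q_mul r N g (Q_C r N g c)
    (Q_prod r N g Finset.univ _ _ (fun i _ => Q_pow r N g (Q_X r N g hN i) (α i)))

theorem L (hN : 1 ≤ N) (u : MvPolynomial (Fin r) k) (d : ℕ)
    (hu : ∀ α ∈ u.support, α.degree ≤ d) :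
    (phi r N g u).natDegree ≤ N * d ∧ (phi r N g u).coeff (N * d) =
      MvPolynomial.C (MvPolynomial.aeval g (MvPolynomial.homogeneousComponent d u)) := by
  classical
  have hsum : phi r N g u = ∑ α ∈ u.support,
      phi r N g (MvPolynomial.monomial α (MvPolynomial.coeff α u)) := by
    conv_lhs => rw [← MvPolynomial.support_sum_monomial_coeff u]
    rw [map_sum]
  constructor
  · rw [hsum]
    apply Polynomial.natDegree_sum_le_of_forall_le
    intro α hα
    exact (Q_monomial r N g hN α _).1.trans (Nat.mul_le_mul_left N (hu α hα))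
  · rw [hsum, Polynomial.finsetSum_coeff, MvPolynomial.homogeneousComponent_apply, map_sum,
      map_sum, Finset.sum_filter]
    apply Finset.sum_congr rfl
    intro α hα
    by_cases hd : α.degree = d
    · rw [if_pos hd]
      have := (Q_monomial r N g hN α (MvPolynomial.coeff α u)).2
      rw [hd] at this
      exact this
    · rw [if_neg hd]
      apply Polynomial.coeff_eq_zero_of_natDegree_lt
      have hlt : α.degree < d := lt_of_le_of_ne (hu α hα) hd
      calc (phi r N g (MvPolynomial.monomial α (MvPolynomial.coeff α u))).natDegree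
          ≤ N * α.degree := (Q_monomial r N g hN α _).1
        _ < N * d := (Nat.mul_lt_mul_left (show 0 < N by omega)).mpr hlt

end

/-- Let k be an infinite perfect field, r, m ≥ 1, and let f be a nonzero polynomial in the variable t
with coefficients in the polynomial ring k[x_1, …, x_r]. Then there are a nonzero polynomial h in
k[x_1, …, x_r] and an integer s₀ such that for every s ≥ s₀, every field K over k and every point g
of K^r with h(g) ≠ 0, the polynomial obtained from f by the substitution x_i ↦ x_i + t^{s(m+1)} g_i,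
t ↦ t has as leading coefficient in t a nonzero constant of K; in particular, after dividing by that
constant it is monic in t over K[x_1, …, x_r]. (The published statement asks for a nonempty open
subset of affine r-space over k, independent of s, such that this holds at each of its points g with
residue field K = k(g); the locus h ≠ 0 used here is such an open subset, and every nonempty open
subset contains one of this form.) -/
theorem result
    {k : Type u} [Field k] [Infinite k] [PerfectField k] (r m : ℕ) (hr : 1 ≤ r) (hm : 1 ≤ m)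
    (f : Polynomial (MvPolynomial (Fin r) k)) (hf : f ≠ 0) :
    ∃ h : MvPolynomial (Fin r) k, h ≠ 0 ∧ ∃ s₀ : ℕ, ∀ s : ℕ, s₀ ≤ s →
      ∀ (K : Type v) [Field K] [Algebra k K] (g : Fin r → K), MvPolynomial.aeval g h ≠ 0 →
        ∃ c : K, c ≠ 0 ∧
          (Polynomial.eval₂ (MvPolynomial.aeval (fun i : Fin r => Polynomial.C (MvPolynomial.X i) + Polynomial.C (MvPolynomial.C (g i)) * Polynomial.X ^ (s * (m + 1))) : MvPolynomial (Fin r) k →ₐ[k] Polynomial (MvPolynomial (Fin r) K)).toRingHom Polynomial.X f).leadingCoeff = MvPolynomial.C c := by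
  classical
  have hsupp : f.support.Nonempty :=
    Finset.nonempty_iff_ne_empty.mpr (mt Polynomial.support_eq_empty.mp hf)
  obtain ⟨P, hP⟩ : ∃ P : Finset (Σ _ : ℕ, (Fin r →₀ ℕ)),
      P = f.support.sigma (fun j => (f.coeff j).support) := ⟨_, rfl⟩
  have hmemP : ∀ (j : ℕ) (α : Fin r →₀ ℕ), (⟨j, α⟩ : Σ _ : ℕ, (Fin r →₀ ℕ)) ∈ P ↔
      j ∈ f.support ∧ α ∈ (f.coeff j).support := by
    intro j α; rw [hP, Finset.mem_sigma]
  have hPne : P.Nonempty := by
    obtain ⟨j, hj⟩ := hsupp
    have hcj : f.coeff j ≠ 0 := Polynomial.mem_support_iff.mp hj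
    obtain ⟨α, hα⟩ : (f.coeff j).support.Nonempty :=
      Finset.nonempty_iff_ne_empty.mpr (mt MvPolynomial.support_eq_empty.mp hcj)
    exact ⟨⟨j, α⟩, (hmemP j α).mpr ⟨hj, hα⟩⟩
  obtain ⟨x1, hx1P, hx1⟩ := Finset.exists_mem_eq_sup P hPne (fun x => x.2.degree)
  obtain ⟨dstar, hdstar⟩ : ∃ d : ℕ, d = P.sup (fun x => x.2.degree) := ⟨_, rfl⟩
  rw [← hdstar] at hx1
  have hF1 : ∀ j ∈ f.support, ∀ α ∈ (f.coeff j).support, α.degree ≤ dstar := by
    intro j hj α hα
    rw [hdstar]
    exact Finset.le_sup (f := fun x : (Σ _ : ℕ, (Fin r →₀ ℕ)) => x.2.degree)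
      ((hmemP j α).mpr ⟨hj, hα⟩)
  obtain ⟨P', hP'⟩ : ∃ P' : Finset (Σ _ : ℕ, (Fin r →₀ ℕ)),
      P' = P.filter (fun x => x.2.degree = dstar) := ⟨_, rfl⟩
  have hP'ne : P'.Nonempty := ⟨x1, by rw [hP']; exact Finset.mem_filter.mpr ⟨hx1P, hx1.symm⟩⟩
  obtain ⟨x2, hx2P', hx2⟩ := Finset.exists_mem_eq_sup P' hP'ne (fun x => x.1)
  obtain ⟨jstar, hjstar⟩ : ∃ j : ℕ, j = P'.sup (fun x => x.1) := ⟨_, rfl⟩
  rw [← hjstar] at hx2
  have hF2 : ∀ j ∈ f.support, ∀ α ∈ (f.coeff j).support, α.degree = dstar → j ≤ jstar := by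
    intro j hj α hα hd
    rw [hjstar]
    have hmem : (⟨j, α⟩ : Σ _ : ℕ, (Fin r →₀ ℕ)) ∈ P' := by
      rw [hP']; exact Finset.mem_filter.mpr ⟨(hmemP j α).mpr ⟨hj, hα⟩, hd⟩
    exact Finset.le_sup (f := fun x : (Σ _ : ℕ, (Fin r →₀ ℕ)) => x.1) hmem
  obtain ⟨j2, α2⟩ := x2
  rw [hP', Finset.mem_filter, hmemP] at hx2P'
  obtain ⟨⟨hj2, hα2⟩, hα2d⟩ := hx2P'
  have hj2' : jstar = j2 := hx2
  subst hj2'
  simp only at hα2 hα2d
  refine ⟨MvPolynomial.homogeneousComponent dstar (f.coeff jstar), ?_, f.natDegree + 1, ?_⟩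
  · intro h0
    have hc := congrArg (MvPolynomial.coeff α2) h0
    rw [MvPolynomial.coeff_homogeneousComponent, if_pos hα2d, MvPolynomial.coeff_zero] at hc
    exact (MvPolynomial.mem_support_iff.mp hα2) hc
  intro s hs K _ _ g hg
  obtain ⟨N, hNdef⟩ : ∃ N : ℕ, N = s * (m + 1) := ⟨_, rfl⟩
  have hNlt : f.natDegree < N := by
    rw [hNdef]
    calc f.natDegree < s := hs
      _ = s * 1 := (mul_one s).symm
      _ ≤ s * (m + 1) := Nat.mul_le_mul_left s (by omega)
  have hN1 : 1 ≤ N := by omega
  refine ⟨MvPolynomial.aeval g (MvPolynomial.homogeneousComponent dstar (f.coeff jstar)), hg, ?_⟩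
  rw [← hNdef]
  have hΦ : Polynomial.eval₂ (MvPolynomial.aeval (fun i : Fin r => Polynomial.C (MvPolynomial.X i) +
      Polynomial.C (MvPolynomial.C (g i)) * Polynomial.X ^ N) :
      MvPolynomial (Fin r) k →ₐ[k] Polynomial (MvPolynomial (Fin r) K)).toRingHom Polynomial.X f
      = ∑ j ∈ f.support, phi r N g (f.coeff j) * Polynomial.X ^ j := by
    rw [Polynomial.eval₂_eq_sum, Polynomial.sum_def]; rfl
  rw [hΦ]
  have hjlt : ∀ j ∈ f.support, j < N := fun j hj =>
    (Polynomial.le_natDegree_of_mem_supp j hj).trans_lt hNlt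
  obtain ⟨M, hM⟩ : ∃ M : ℕ, M = N * dstar := ⟨_, rfl⟩
  have hdeg : ∀ j ∈ f.support,
      (phi r N g (f.coeff j) * Polynomial.X ^ j).natDegree ≤ M + jstar ∧
      (phi r N g (f.coeff j) * Polynomial.X ^ j).coeff (M + jstar) =
        if j = jstar then MvPolynomial.C (MvPolynomial.aeval g
          (MvPolynomial.homogeneousComponent dstar (f.coeff jstar))) else 0 := by
    intro j hj
    have hjN := hjlt j hj
    by_cases hcase : ∃ α ∈ (f.coeff j).support, α.degree = dstar
    · obtain ⟨α, hα, hαd⟩ := hcase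
      have hjle : j ≤ jstar := hF2 j hj α hα hαd
      obtain ⟨hL1, hL2⟩ := L r N g hN1 (f.coeff j) dstar (hF1 j hj)
      rw [← hM] at hL1 hL2
      constructor
      · refine (Polynomial.natDegree_mul_le_of_le hL1 (Polynomial.natDegree_X_pow_le j)).trans ?_
        omega
      · rw [Polynomial.coeff_mul_X_pow', if_pos (by omega)]
        by_cases hjj : j = jstar
        · rw [if_pos hjj, hjj, Nat.add_sub_cancel, ← hjj, hL2]
        · rw [if_neg hjj]
          apply Polynomial.coeff_eq_zero_of_natDegree_lt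
          omega
    · push Not at hcase
      have hlt : ∀ α ∈ (f.coeff j).support, α.degree < dstar := fun α hα =>
        lt_of_le_of_ne (hF1 j hj α hα) (hcase α hα)
      have hcj : f.coeff j ≠ 0 := Polynomial.mem_support_iff.mp hj
      obtain ⟨α0, hα0⟩ : (f.coeff j).support.Nonempty :=
        Finset.nonempty_iff_ne_empty.mpr (mt MvPolynomial.support_eq_empty.mp hcj)
      have hd1 : 1 ≤ dstar := by have := hlt α0 hα0; omega
      obtain ⟨d', hd'⟩ : ∃ d', dstar = d' + 1 := ⟨dstar - 1, by omega⟩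
      have hjne : j ≠ jstar := by
        intro hjj
        rw [hjj] at hcase
        exact hcase α2 hα2 hα2d
      obtain ⟨hL1, _⟩ := L r N g hN1 (f.coeff j) d' (fun α hα => by have := hlt α hα; omega)
      have hMd : M = N * d' + N := by rw [hM, hd', Nat.mul_succ]
      constructor
      · refine (Polynomial.natDegree_mul_le_of_le hL1 (Polynomial.natDegree_X_pow_le j)).trans ?_
        omega
      · rw [if_neg hjne, Polynomial.coeff_mul_X_pow']
        split_ifs with hle
        · apply Polynomial.coeff_eq_zero_of_natDegree_lt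
          omega
        · rfl
  have hnat : (∑ j ∈ f.support, phi r N g (f.coeff j) * Polynomial.X ^ j).natDegree ≤ M + jstar :=
    Polynomial.natDegree_sum_le_of_forall_le _ _ (fun j hj => (hdeg j hj).1)
  have hcoeff : (∑ j ∈ f.support, phi r N g (f.coeff j) * Polynomial.X ^ j).coeff (M + jstar) =
      MvPolynomial.C (MvPolynomial.aeval g
        (MvPolynomial.homogeneousComponent dstar (f.coeff jstar))) := by
    rw [Polynomial.finsetSum_coeff, Finset.sum_eq_single_of_mem jstar hj2
      (fun j hj hne => by rw [(hdeg j hj).2, if_neg hne]), (hdeg jstar hj2).2, if_pos rfl]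
  have hne : (∑ j ∈ f.support, phi r N g (f.coeff j) * Polynomial.X ^ j).coeff (M + jstar) ≠ 0 := by
    rw [hcoeff]
    intro h0
    apply hg
    apply MvPolynomial.C_injective (Fin r) K
    rw [h0, map_zero]
  have hE : (∑ j ∈ f.support, phi r N g (f.coeff j) * Polynomial.X ^ j).natDegree = M + jstar :=
    le_antisymm hnat (Polynomial.le_natDegree_of_ne_zero hne)
  rw [Polynomial.leadingCoeff, hE, hcoeff]

end Groth.Agent.S15078
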