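import Groth.Statements.S15079
import Mathlib
import Groth.Agent.S15078

set_option autoImplicit false
universe u v
open MovLem

namespace Groth.Agent.S15079

open Groth.Agent.S15078 in
theorem strong {k : Type u} [Field k] (r m : ℕ)
    (f : Polynomial (MvPolynomial (Fin r) k)) (hf : f ≠ 0) :
    ∃ h : MvPolynomial (Fin r) k, h ≠ 0 ∧ ∃ s₀ : ℕ, ∀ s : ℕ, s₀ ≤ s →
      ∀ (K : Type v) [Field K] [Algebra k K] (g : Fin r → K), MvPolynomial.aeval g h ≠ 0 →
        ∃ c : K, c ≠ 0 ∧
          (Polynomial.eval₂ (MvPolynomial.aeval (fun i : Fin r => Polynomial.C (MvPolynomial.X i) + Polynomial.C (MvPolynomial.C (g i)) * Polynomial.X ^ (s * (m + 1))) : MvPolynomial (Fin r) k →ₐ[k] Polynomial (MvPolynomial (Fin r) K)).toRingHom Polynomial.X f).leadingCoeff = MvPolynomial.C c ∧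
          f.natDegree ≤ (Polynomial.eval₂ (MvPolynomial.aeval (fun i : Fin r => Polynomial.C (MvPolynomial.X i) + Polynomial.C (MvPolynomial.C (g i)) * Polynomial.X ^ (s * (m + 1))) : MvPolynomial (Fin r) k →ₐ[k] Polynomial (MvPolynomial (Fin r) K)).toRingHom Polynomial.X f).natDegree := by
  classical
  have hsupp : f.support.Nonempty :=
    Finset.nonempty_iff_ne_empty.mpr (mt Polynomial.support_eq_empty.mp hf)
  obtain ⟨P, hP⟩ : ∃ P : Finset (Σ _ : ℕ, (Fin r →₀ ℕ)),
      P = f.support.sigma (fun j => (f.coeff j).support) := ⟨_, rfl⟩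
  have hmemP : ∀ (j : ℕ) (α : Fin r →₀ ℕ), (⟨j, α⟩ : Σ _ : ℕ, (Fin r →₀ ℕ)) ∈ P ↔
      j ∈ f.support ∧ α ∈ (f.coeff j).support := by
    intro j α; rw [hP, Finset.mem_sigma]
  have hPne : P.Nonempty := by
    obtain ⟨j, hj⟩ := hsupp
    have hcj : f.coeff j ≠ 0 := Polynomial.mem_support_iff.mp hj
    obtain ⟨α, hα⟩ : (f.coeff j).support.Nonempty :=
      Finset.nonempty_iff_ne_empty.mpr (mt MvPolynomial.support_eq_empty.mp hcj)
    exact ⟨⟨j, α⟩, (hmemP j α).mpr ⟨hj, hα⟩⟩
  obtain ⟨x1, hx1P, hx1⟩ := Finset.exists_mem_eq_sup P hPne (fun x => x.2.degree)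
  obtain ⟨dstar, hdstar⟩ : ∃ d : ℕ, d = P.sup (fun x => x.2.degree) := ⟨_, rfl⟩
  rw [← hdstar] at hx1
  have hF1 : ∀ j ∈ f.support, ∀ α ∈ (f.coeff j).support, α.degree ≤ dstar := by
    intro j hj α hα
    rw [hdstar]
    exact Finset.le_sup (f := fun x : (Σ _ : ℕ, (Fin r →₀ ℕ)) => x.2.degree)
      ((hmemP j α).mpr ⟨hj, hα⟩)
  obtain ⟨P', hP'⟩ : ∃ P' : Finset (Σ _ : ℕ, (Fin r →₀ ℕ)),
      P' = P.filter (fun x => x.2.degree = dstar) := ⟨_, rfl⟩
  have hP'ne : P'.Nonempty := ⟨x1, by rw [hP']; exact Finset.mem_filter.mpr ⟨hx1P, hx1.symm⟩⟩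
  obtain ⟨x2, hx2P', hx2⟩ := Finset.exists_mem_eq_sup P' hP'ne (fun x => x.1)
  obtain ⟨jstar, hjstar⟩ : ∃ j : ℕ, j = P'.sup (fun x => x.1) := ⟨_, rfl⟩
  rw [← hjstar] at hx2
  have hF2 : ∀ j ∈ f.support, ∀ α ∈ (f.coeff j).support, α.degree = dstar → j ≤ jstar := by
    intro j hj α hα hd
    rw [hjstar]
    have hmem : (⟨j, α⟩ : Σ _ : ℕ, (Fin r →₀ ℕ)) ∈ P' := by
      rw [hP']; exact Finset.mem_filter.mpr ⟨(hmemP j α).mpr ⟨hj, hα⟩, hd⟩
    exact Finset.le_sup (f := fun x : (Σ _ : ℕ, (Fin r →₀ ℕ)) => x.1) hmem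
  obtain ⟨j2, α2⟩ := x2
  rw [hP', Finset.mem_filter, hmemP] at hx2P'
  obtain ⟨⟨hj2, hα2⟩, hα2d⟩ := hx2P'
  have hj2' : jstar = j2 := hx2
  subst hj2'
  simp only at hα2 hα2d
  refine ⟨MvPolynomial.homogeneousComponent dstar (f.coeff jstar), ?_, f.natDegree + 1, ?_⟩
  · intro h0
    have hc := congrArg (MvPolynomial.coeff α2) h0
    rw [MvPolynomial.coeff_homogeneousComponent, if_pos hα2d, MvPolynomial.coeff_zero] at hc
    exact (MvPolynomial.mem_support_iff.mp hα2) hc
  intro s hs K _ _ g hg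
  obtain ⟨N, hNdef⟩ : ∃ N : ℕ, N = s * (m + 1) := ⟨_, rfl⟩
  have hNlt : f.natDegree < N := by
    rw [hNdef]
    calc f.natDegree < s := hs
      _ = s * 1 := (mul_one s).symm
      _ ≤ s * (m + 1) := Nat.mul_le_mul_left s (by omega)
  have hN1 : 1 ≤ N := by omega
  refine ⟨MvPolynomial.aeval g (MvPolynomial.homogeneousComponent dstar (f.coeff jstar)), hg, ?_⟩
  rw [← hNdef]
  have hΦ : Polynomial.eval₂ (MvPolynomial.aeval (fun i : Fin r => Polynomial.C (MvPolynomial.X i) +
      Polynomial.C (MvPolynomial.C (g i)) * Polynomial.X ^ N) :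
      MvPolynomial (Fin r) k →ₐ[k] Polynomial (MvPolynomial (Fin r) K)).toRingHom Polynomial.X f
      = ∑ j ∈ f.support, phi r N g (f.coeff j) * Polynomial.X ^ j := by
    rw [Polynomial.eval₂_eq_sum, Polynomial.sum_def]; rfl
  rw [hΦ]
  have hjlt : ∀ j ∈ f.support, j < N := fun j hj =>
    (Polynomial.le_natDegree_of_mem_supp j hj).trans_lt hNlt
  obtain ⟨M, hM⟩ : ∃ M : ℕ, M = N * dstar := ⟨_, rfl⟩
  have hdeg : ∀ j ∈ f.support,
      (phi r N g (f.coeff j) * Polynomial.X ^ j).natDegree ≤ M + jstar ∧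
      (phi r N g (f.coeff j) * Polynomial.X ^ j).coeff (M + jstar) =
        if j = jstar then MvPolynomial.C (MvPolynomial.aeval g
          (MvPolynomial.homogeneousComponent dstar (f.coeff jstar))) else 0 := by
    intro j hj
    have hjN := hjlt j hj
    by_cases hcase : ∃ α ∈ (f.coeff j).support, α.degree = dstar
    · obtain ⟨α, hα, hαd⟩ := hcase
      have hjle : j ≤ jstar := hF2 j hj α hα hαd
      obtain ⟨hL1, hL2⟩ := L r N g hN1 (f.coeff j) dstar (hF1 j hj)
      rw [← hM] at hL1 hL2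
      constructor
      · refine (Polynomial.natDegree_mul_le_of_le hL1 (Polynomial.natDegree_X_pow_le j)).trans ?_
        omega
      · rw [Polynomial.coeff_mul_X_pow', if_pos (by omega)]
        by_cases hjj : j = jstar
        · rw [if_pos hjj, hjj, Nat.add_sub_cancel, ← hjj, hL2]
        · rw [if_neg hjj]
          apply Polynomial.coeff_eq_zero_of_natDegree_lt
          omega
    · push Not at hcase
      have hlt : ∀ α ∈ (f.coeff j).support, α.degree < dstar := fun α hα =>
        lt_of_le_of_ne (hF1 j hj α hα) (hcase α hα)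
      have hcj : f.coeff j ≠ 0 := Polynomial.mem_support_iff.mp hj
      obtain ⟨α0, hα0⟩ : (f.coeff j).support.Nonempty :=
        Finset.nonempty_iff_ne_empty.mpr (mt MvPolynomial.support_eq_empty.mp hcj)
      have hd1 : 1 ≤ dstar := by have := hlt α0 hα0; omega
      obtain ⟨d', hd'⟩ : ∃ d', dstar = d' + 1 := ⟨dstar - 1, by omega⟩
      have hjne : j ≠ jstar := by
        intro hjj
        rw [hjj] at hcase
        exact hcase α2 hα2 hα2d
      obtain ⟨hL1, _⟩ := L r N g hN1 (f.coeff j) d' (fun α hα => by have := hlt α hα; omega)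
      have hMd : M = N * d' + N := by rw [hM, hd', Nat.mul_succ]
      constructor
      · refine (Polynomial.natDegree_mul_le_of_le hL1 (Polynomial.natDegree_X_pow_le j)).trans ?_
        omega
      · rw [if_neg hjne, Polynomial.coeff_mul_X_pow']
        split_ifs with hle
        · apply Polynomial.coeff_eq_zero_of_natDegree_lt
          omega
        · rfl
  have hnat : (∑ j ∈ f.support, phi r N g (f.coeff j) * Polynomial.X ^ j).natDegree ≤ M + jstar :=
    Polynomial.natDegree_sum_le_of_forall_le _ _ (fun j hj => (hdeg j hj).1)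
  have hcoeff : (∑ j ∈ f.support, phi r N g (f.coeff j) * Polynomial.X ^ j).coeff (M + jstar) =
      MvPolynomial.C (MvPolynomial.aeval g
        (MvPolynomial.homogeneousComponent dstar (f.coeff jstar))) := by
    rw [Polynomial.finsetSum_coeff, Finset.sum_eq_single_of_mem jstar hj2
      (fun j hj hne => by rw [(hdeg j hj).2, if_neg hne]), (hdeg jstar hj2).2, if_pos rfl]
  have hne : (∑ j ∈ f.support, phi r N g (f.coeff j) * Polynomial.X ^ j).coeff (M + jstar) ≠ 0 := by
    rw [hcoeff]
    intro h0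
    apply hg
    apply MvPolynomial.C_injective (Fin r) K
    rw [h0, map_zero]
  have hE : (∑ j ∈ f.support, phi r N g (f.coeff j) * Polynomial.X ^ j).natDegree = M + jstar :=
    le_antisymm hnat (Polynomial.le_natDegree_of_ne_zero hne)
  refine ⟨by rw [Polynomial.leadingCoeff, hE, hcoeff], ?_⟩
  rw [hE]
  have hjn : f.natDegree ∈ f.support := Polynomial.natDegree_mem_support_of_nonzero hf
  have hcn : f.coeff f.natDegree ≠ 0 := Polynomial.mem_support_iff.mp hjn
  obtain ⟨α0, hα0⟩ : (f.coeff f.natDegree).support.Nonempty :=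
    Finset.nonempty_iff_ne_empty.mpr (mt MvPolynomial.support_eq_empty.mp hcn)
  by_cases hα0d : α0.degree = dstar
  · have := hF2 _ hjn α0 hα0 hα0d
    omega
  · have hlt : α0.degree < dstar := lt_of_le_of_ne (hF1 _ hjn α0 hα0) hα0d
    have hd1 : 1 ≤ dstar := by omega
    have hNM : N ≤ M := by rw [hM]; exact Nat.le_mul_of_pos_right N hd1
    omega

/-- Let k be an infinite perfect field, r, m ≥ 1, and let f be an irreducible polynomial in t over
k[x_1, …, x_r] whose constant term in t is a unit of k[x_1, …, x_r], so that the hypersurface Z : f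
= 0 in affine (r+1)-space with coordinates x_1, …, x_r, t is integral and does not meet the divisor
t = 0 (the modulus condition in cubical degree one). Then there are a nonzero polynomial h in k[x_1,
…, x_r] and an integer s₀ such that for every s ≥ s₀, every field K over k and every point g of K^r
with h(g) ≠ 0, the translate of Z_K by the automorphism x_i ↦ x_i + t^{s(m+1)} g_i, t ↦ t is finite
and surjective over affine r-space over K: the quotient of K[x_1, …, x_r][t] by the translated
equation is a finitely generated K[x_1, …, x_r]-module and K[x_1, …, x_r] maps injectively into it.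
(The published statement allows every nonzero point g of affine r-space; for r = 2 and f = x_1 t − 1
the point g = (0, 1) translates Z to itself, which is not finite over the affine plane, so the
conclusion is stated here for g in a nonempty open subset h ≠ 0, which is what the published proof
establishes.) -/
theorem result
    {k : Type u} [Field k] [Infinite k] [PerfectField k] (r m : ℕ) (hr : 1 ≤ r) (hm : 1 ≤ m)
    (f : Polynomial (MvPolynomial (Fin r) k)) (hirr : Irreducible f) (h0 : IsUnit (f.coeff 0)) :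
    ∃ h : MvPolynomial (Fin r) k, h ≠ 0 ∧ ∃ s₀ : ℕ, ∀ s : ℕ, s₀ ≤ s →
      ∀ (K : Type v) [Field K] [Algebra k K] (g : Fin r → K), MvPolynomial.aeval g h ≠ 0 →
        ∀ F : Polynomial (MvPolynomial (Fin r) K),
          F = Polynomial.eval₂ (MvPolynomial.aeval (fun i : Fin r => Polynomial.C (MvPolynomial.X i) + Polynomial.C (MvPolynomial.C (g i)) * Polynomial.X ^ (s * (m + 1))) : MvPolynomial (Fin r) k →ₐ[k] Polynomial (MvPolynomial (Fin r) K)).toRingHom Polynomial.X f →
          Module.Finite (MvPolynomial (Fin r) K) (Polynomial (MvPolynomial (Fin r) K) ⧸ Ideal.span {F}) ∧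
          Function.Injective ((Ideal.Quotient.mk (Ideal.span {F})).comp (algebraMap (MvPolynomial (Fin r) K) (Polynomial (MvPolynomial (Fin r) K)))) := by
  have hf : f ≠ 0 := hirr.ne_zero
  have hdegf : 1 ≤ f.natDegree := by
    by_contra hlt
    have h0' : f.natDegree = 0 := by omega
    have hfC : f = Polynomial.C (f.coeff 0) := Polynomial.eq_C_of_natDegree_eq_zero h0'
    apply hirr.not_isUnit
    rw [hfC]
    exact Polynomial.isUnit_C.mpr h0
  obtain ⟨h, hh, s₀, hs₀⟩ := strong.{u, v} r m f hf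
  refine ⟨h, hh, s₀, fun s hs K _ _ g hg F hF => ?_⟩
  obtain ⟨c, hc, hlead, hnat⟩ := hs₀ s hs K g hg
  rw [← hF] at hlead hnat
  have hFdeg : 1 ≤ F.natDegree := hdegf.trans hnat
  constructor
  · have hu : IsUnit (Polynomial.C (MvPolynomial.C c⁻¹) : Polynomial (MvPolynomial (Fin r) K)) := by
      apply Polynomial.isUnit_C.mpr
      exact (IsUnit.mk0 _ (inv_ne_zero hc)).map MvPolynomial.C
    have hmonic : (F * Polynomial.C (MvPolynomial.C c⁻¹)).Monic := by
      rw [Polynomial.Monic, Polynomial.leadingCoeff_mul, Polynomial.leadingCoeff_C, hlead,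
        ← map_mul, mul_inv_cancel₀ hc, map_one]
    have hspan : Ideal.span {F * Polynomial.C (MvPolynomial.C c⁻¹)} = Ideal.span {F} :=
      Ideal.span_singleton_mul_right_unit hu F
    rw [← hspan]
    exact hmonic.finite_quotient
  · rw [injective_iff_map_eq_zero]
    intro a ha
    rw [RingHom.comp_apply, Ideal.Quotient.eq_zero_iff_mem, Ideal.mem_span_singleton,
      ← Polynomial.C_eq_algebraMap] at ha
    have h1 := Polynomial.eq_zero_of_dvd_of_natDegree_lt ha
      (by rw [Polynomial.natDegree_C]; omega)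
    exact Polynomial.C_eq_zero.mp h1

end Groth.Agent.S15079
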