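import Groth.Statements.S15115
import Mathlib
import Groth.Agent.Lib.helper9.H9_ReynLR

set_option autoImplicit false
universe u
open HopfRep

namespace Groth.Agent.S15115

open TensorProduct in
/-- Let k be an algebraically closed field, H a finite-dimensional commutative Hopf algebra over k all
of whose finite-dimensional comodules are semisimple (a finite linearly reductive group scheme G
over k), A a commutative k-algebra, and M an A-module with an H-coaction that is A-linear (G acts on
M by A-module maps, A carrying the trivial action). Let A' be a commutative A-algebra and N = A' ⊗_A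
M its base change, exhibited by an A-linear map φ : M → N, with the induced coaction: A'-linear and
compatible with φ. Then invariants commute with this base change: writing M^G for the A-submodule of
coinvariant elements of M, the natural map A' ⊗_A M^G → N, a' ⊗ m ↦ a' φ(m), is injective and its
image is exactly the set of coinvariant elements of N. (The published statement is the isomorphism
ρ^* π_* F → π'_* σ^* F for a tame Deligne–Mumford stack with coarse moduli space π and any base
change ρ of the coarse space; this row is the statement about invariants to which its proof reduces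
it, for modules that need not be finitely generated.) -/
theorem result (k : Type u) [Field k] [IsAlgClosed k]
    (H : Type u) [CommRing H] [HopfAlgebra k H] [Module.Finite k H] (hred : HopfRep.IsLinearlyReductive k H)
    (A : Type u) [CommRing A] [Algebra k A]
    (M : Type u) [AddCommGroup M] [Module k M] [Module A M] [IsScalarTower k A M] [HopfRep.Comod k H M]
    (hlin : ∀ (a : A) (m : M), HopfRep.Comod.coact (k := k) (A := H) (a • m) = a • HopfRep.Comod.coact (k := k) (A := H) m)
    (A' : Type u) [CommRing A'] [Algebra k A'] [Algebra A A'] [IsScalarTower k A A']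
    (N : Type u) [AddCommGroup N] [Module k N] [Module A N] [Module A' N]
    [IsScalarTower k A N] [IsScalarTower A A' N] [IsScalarTower k A' N] [HopfRep.Comod k H N]
    (φ : M →ₗ[A] N) (hφ : IsBaseChange A' φ)
    (hcomp : ∀ m : M, HopfRep.Comod.coact (k := k) (A := H) (φ m) =
      LinearMap.rTensor H (φ.restrictScalars k) (HopfRep.Comod.coact (k := k) (A := H) m))
    (hlinN : ∀ (a' : A') (n : N), HopfRep.Comod.coact (k := k) (A := H) (a' • n) = a' • HopfRep.Comod.coact (k := k) (A := H) n)
    (P : Submodule A M) (hP : (P : Set M) = (HopfRep.fixedPts k H M : Set M)) :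
    Function.Injective (TensorProduct.lift (((Algebra.lsmul A A N : A' →ₐ[A] Module.End A N).toLinearMap).compl₂ (φ ∘ₗ P.subtype))) ∧
      Set.range (TensorProduct.lift (((Algebra.lsmul A A N : A' →ₐ[A] Module.End A N).toLinearMap).compl₂ (φ ∘ₗ P.subtype))) =
        (HopfRep.fixedPts k H N : Set N) := by
  classical
  obtain ⟨α₀, hα₀1, hα₀⟩ := H9_RInt.exists_integral hred
  set EM : M →ₗ[k] M := TameAct.reynolds k H k M α₀ with hEM
  set EN : N →ₗ[k] N := TameAct.reynolds k H k N α₀ with hEN
  have hEMmem : ∀ m, EM m ∈ HopfRep.fixedPts k H M := H9_ReynLR.reynolds_triv_mem α₀ hα₀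
  have hEMfix : ∀ m ∈ HopfRep.fixedPts k H M, EM m = m :=
    H9_ReynLR.reynolds_triv_of_mem α₀ hα₀1
  have hENfix : ∀ n ∈ HopfRep.fixedPts k H N, EN n = n :=
    H9_ReynLR.reynolds_triv_of_mem α₀ hα₀1
  have hφE : ∀ m, φ (EM m) = EN (φ m) := by
    intro m
    have hf : Hoch.IsComodHom H (φ.restrictScalars k) := by
      apply LinearMap.ext
      intro m
      exact hcomp m
    exact H9_ReynLR.map_reynolds_triv α₀ (φ.restrictScalars k) hf m
  have hEMA : ∀ (a : A) (m : M), EM (a • m) = a • EM m :=
    fun a m => H9_ReynLR.reynolds_triv_smul α₀ a m (hlin a m)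
  have hENA' : ∀ (a' : A') (n : N), EN (a' • n) = a' • EN n :=
    fun a' n => H9_ReynLR.reynolds_triv_smul α₀ a' n (hlinN a' n)
  have hPmem : ∀ m : M, m ∈ P ↔ m ∈ HopfRep.fixedPts k H M := by
    intro m
    rw [← SetLike.mem_coe, hP, SetLike.mem_coe]
  let EA : M →ₗ[A] M :=
    { toFun := EM, map_add' := EM.map_add, map_smul' := fun a m => hEMA a m }
  have hEAmem : ∀ m, EA m ∈ P := fun m => (hPmem _).2 (hEMmem m)
  let pr : M →ₗ[A] P := EA.codRestrict P hEAmem
  have hpr : pr ∘ₗ P.subtype = LinearMap.id := by
    apply LinearMap.ext
    intro p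
    apply Subtype.ext
    show EM (p : M) = p
    exact hEMfix _ ((hPmem _).1 p.2)
  have hsub : P.subtype ∘ₗ pr = EA := by
    apply LinearMap.ext
    intro m
    rfl
  set L := TensorProduct.lift (((Algebra.lsmul A A N : A' →ₐ[A] Module.End A N).toLinearMap).compl₂
    (φ ∘ₗ P.subtype)) with hLdef
  have hLt : ∀ (a' : A') (p : P), L (a' ⊗ₜ[A] p) = a' • φ (p : M) := by
    intro a' p
    simp [L]
  have hL : ∀ x, L x = hφ.equiv (P.subtype.lTensor A' x) := by
    intro x
    induction x using TensorProduct.induction_on with
    | zero => simp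
    | tmul a' p => rw [hLt, LinearMap.lTensor_tmul, IsBaseChange.equiv_tmul]; rfl
    | add x y hx hy => simp only [map_add, hx, hy]
  have hEq : ∀ y : A' ⊗[A] M, hφ.equiv (EA.lTensor A' y) = EN (hφ.equiv y) := by
    intro y
    induction y using TensorProduct.induction_on with
    | zero => simp
    | tmul a' m =>
      rw [LinearMap.lTensor_tmul, IsBaseChange.equiv_tmul, IsBaseChange.equiv_tmul, hENA', ← hφE]
      rfl
    | add x y hx hy => simp only [map_add, hx, hy]
  refine ⟨?_, ?_⟩
  · have hinj : Function.Injective (P.subtype.lTensor A') := by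
      apply Function.LeftInverse.injective (g := pr.lTensor A')
      intro x
      rw [← LinearMap.comp_apply, ← LinearMap.lTensor_comp, hpr, LinearMap.lTensor_id]
      rfl
    intro x y hxy
    rw [hL, hL] at hxy
    exact hinj (hφ.equiv.injective hxy)
  · ext n
    constructor
    · rintro ⟨x, rfl⟩
      show L x ∈ HopfRep.fixedPts k H N
      induction x using TensorProduct.induction_on with
      | zero => rw [map_zero]; exact Submodule.zero_mem _
      | tmul a' p =>
        rw [hLt]
        show HopfRep.Comod.coact (k := k) (A := H) (a' • φ (p : M)) = (a' • φ (p : M)) ⊗ₜ[k] (1 : H)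
        have hp : HopfRep.Comod.coact (k := k) (A := H) (p : M) = (p : M) ⊗ₜ[k] (1 : H) :=
          (hPmem _).1 p.2
        rw [hlinN, hcomp, hp, LinearMap.rTensor_tmul, TensorProduct.smul_tmul']
        rfl
      | add x y hx hy => rw [map_add]; exact Submodule.add_mem _ hx hy
    · intro hn
      have hn' : n ∈ HopfRep.fixedPts k H N := hn
      refine ⟨pr.lTensor A' (hφ.equiv.symm n), ?_⟩
      show L _ = n
      rw [hL, ← LinearMap.comp_apply, ← LinearMap.lTensor_comp, hsub, hEq,
        LinearEquiv.apply_symm_apply, hENfix n hn']

end Groth.Agent.S15115
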