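import Groth.Statements.S15117
import Mathlib

set_option autoImplicit false
universe u v w
open TensorProduct
open NRGIT

namespace Groth.Agent.S15117

/-- Let k be a field, π : A → B a map of commutative bialgebras over k, W a right A-comodule and V ⊆ W a
subcomodule all of whose elements are coinvariant for the B-coaction induced through π. Then the
coaction of every v ∈ V lies in V ⊗ A' ⊆ W ⊗ A, where A' ⊆ A is the set of elements a with (π ⊗
id)(Δ a) = 1 ⊗ a, i.e. coinvariant for the coaction of B on A through π on the left factor; the row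
states membership in the span of the pure tensors w ⊗ a with w ∈ V and a ∈ A'. (The published
statement is for a linear algebraic group H over an algebraically closed field of characteristic
zero, a normal subgroup N and an H-stable space V of N-invariant sections of a linearised line
bundle, with the coaction landing in O(H)^N ⊗ V, where O(H)^N is the ring of functions on H
invariant under N acting by right multiplication; this row is the comodule form, for any bialgebra
map over a field, where normality of N is not needed.) -/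
theorem result (k : Type u) [Field k]
    (A B : Type v) [CommRing A] [CommRing B] [Bialgebra k A] [Bialgebra k B] (π : A →ₐc[k] B)
    (W : Type w) [AddCommGroup W] [Module k W] [HopfRep.Comod k A W]
    (V : Submodule k W) (hV : HopfRep.IsSubcomod (k := k) (A := A) V)
    (hfix : ∀ v ∈ V, (π.toLinearMap.lTensor W) (HopfRep.Comod.coact (k := k) (A := A) v) = v ⊗ₜ[k] (1 : B))
    (v : W) (hv : v ∈ V) :
    HopfRep.Comod.coact (k := k) (A := A) v ∈
      Submodule.span k {x : W ⊗[k] A | ∃ w ∈ V, ∃ a : A,
        (π.toLinearMap.rTensor A) (Coalgebra.comul (R := k) a) = (1 : B) ⊗ₜ[k] a ∧ x = w ⊗ₜ[k] a} := by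
  classical
  set ι : ↥V →ₗ[k] W := V.subtype with hι
  set ρ : W →ₗ[k] W ⊗[k] A := HopfRep.Comod.coact (k := k) (A := A) with hρ
  set Δ : A →ₗ[k] A ⊗[k] A := Coalgebra.comul (R := k) (A := A) with hΔ
  let Ψ : A →ₗ[k] B ⊗[k] A := π.toLinearMap.rTensor A ∘ₗ Δ - TensorProduct.mk k B A 1
  obtain ⟨y, hy⟩ := hV v hv
  have hy' : ι.rTensor A y = ρ v := hy
  -- auxiliary identity
  have haux : ∀ (x : W ⊗[k] A) (a : A),
      (π.toLinearMap.rTensor A).lTensor W (TensorProduct.assoc k W A A (x ⊗ₜ[k] a)) =
        TensorProduct.assoc k W B A ((π.toLinearMap.lTensor W x) ⊗ₜ[k] a) := by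
    intro x a
    induction x using TensorProduct.induction_on with
    | zero => simp
    | tmul w a' => simp
    | add x x' hx hx' => simp only [TensorProduct.add_tmul, map_add, hx, hx']
  -- the two maps agree on `V ⊗ A`
  have hF : ((π.toLinearMap.rTensor A).lTensor W ∘ₗ (TensorProduct.assoc k W A A).toLinearMap ∘ₗ
      (ρ ∘ₗ ι).rTensor A) = (TensorProduct.mk k B A 1).lTensor W ∘ₗ ι.rTensor A := by
    apply TensorProduct.ext'
    intro v' a
    simp only [LinearMap.comp_apply, LinearMap.rTensor_tmul, LinearEquiv.coe_coe,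
      LinearMap.lTensor_tmul, TensorProduct.mk_apply]
    rw [haux, hfix (ι v') v'.2]
    simp
  -- hence `Ψ` kills the coaction of `v`
  have hΨ : Ψ.lTensor W (ρ v) = 0 := by
    have hco := LinearMap.congr_fun (HopfRep.Comod.coassoc (k := k) (A := A) (V := W)) v
    simp only [LinearMap.comp_apply, LinearEquiv.coe_coe] at hco
    have h1 : (π.toLinearMap.rTensor A ∘ₗ Δ).lTensor W (ρ v) =
        (π.toLinearMap.rTensor A).lTensor W (TensorProduct.assoc k W A A (ρ.rTensor A (ρ v))) := by
      rw [LinearMap.lTensor_comp, LinearMap.comp_apply, hco]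
    have h2 : ρ.rTensor A (ρ v) = (ρ ∘ₗ ι).rTensor A y := by
      rw [LinearMap.rTensor_comp, LinearMap.comp_apply, hy']
    have h3 := LinearMap.congr_fun hF y
    simp only [LinearMap.comp_apply, LinearEquiv.coe_coe] at h3
    show (π.toLinearMap.rTensor A ∘ₗ Δ - TensorProduct.mk k B A 1).lTensor W (ρ v) = 0
    rw [LinearMap.lTensor_sub, LinearMap.sub_apply, h1, h2, h3, hy', sub_self]
  -- pull back to `V ⊗ A`
  have hΨy : Ψ.lTensor ↥V y = 0 := by
    have hinj : Function.Injective (ι.rTensor (B ⊗[k] A)) :=
      Module.Flat.rTensor_preserves_injective_linearMap _ V.injective_subtype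
    apply hinj
    rw [map_zero, ← hΨ, ← hy']
    rw [← LinearMap.comp_apply, ← LinearMap.comp_apply, LinearMap.rTensor_comp_lTensor,
      LinearMap.lTensor_comp_rTensor]
  have hex := Module.Flat.lTensor_exact ↥V (LinearMap.exact_subtype_ker_map Ψ)
  obtain ⟨z, hz⟩ := (hex y).1 hΨy
  show ρ v ∈ _
  rw [← hy', ← hz]
  clear hz
  induction z using TensorProduct.induction_on with
  | zero => simp
  | tmul w a =>
    refine Submodule.subset_span ⟨(w : W), w.2, (a : A), ?_, ?_⟩
    · have ha : Ψ (a : A) = 0 := a.2
      have ha' : π.toLinearMap.rTensor A (Δ (a : A)) - (1 : B) ⊗ₜ[k] (a : A) = 0 := ha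
      exact sub_eq_zero.1 ha'
    · simp [ι]
  | add z z' hz hz' =>
    rw [map_add, map_add]
    exact Submodule.add_mem _ hz hz'

end Groth.Agent.S15117
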