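import Groth.Statements.S15131
import Mathlib
import Groth.Agent.Lib.helper6.ArtTan

set_option autoImplicit false
universe u v
open CategoryTheory
open ArtFun

namespace Groth.Agent.S15131

/-- Let k be a field and F a functor on local Artinian k-algebras with residue field k with F(k) a
single point, satisfying (H1) (the comparison map of A₁ ×_A A₂ is surjective when A₂ → A is a small
extension) and (H2) (it is bijective when A = k and A₂ = k[ε]). If the tangent space F(k[ε]) is a
single point then F is the one-point functor: every F(A) has exactly one element. (The converse is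
clear.) -/
theorem result
    {k : Type u} [Field k] (F : ArtFun.Art k k ⥤ Type v)
    (h0 : ArtFun.H0 F) (h1 : ArtFun.Hbar F) (h2 : ArtFun.Heps F)
    (ht : Subsingleton (ArtFun.TangentSpace F)) (A : ArtFun.Art k k) :
    Nonempty (F.obj A) ∧ Subsingleton (F.obj A) := by
  classical
  constructor
  · obtain ⟨x₀⟩ := h0.1
    let ι : ArtFun.Art.base k k ⟶ A := ArtFun.Art.homMk (Algebra.ofId k A) (by
      apply AlgHom.ext
      intro c
      show A.res (algebraMap k A c) = c
      rw [AlgHom.commutes]; rfl)
    exact ⟨F.map ι x₀⟩
  · have key := Groth.Agent.Lib.helper6.H6_surjective_induction (Λ := k) (k := k)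
      (fun A B f => ∀ x y : F.obj B, F.map f x = F.map f y → x = y)
      ?_ ?_ ?_ (ArtFun.Art.toBase A) A.res_surjective
    · exact ⟨fun x y => key x y (h0.2.elim _ _)⟩
    · intro A B e he x y hx
      have := congrArg (F.map (inv e)) hx
      rwa [← FunctorToTypes.map_comp_apply, ← FunctorToTypes.map_comp_apply, IsIso.hom_inv_id,
        FunctorToTypes.map_id_apply, FunctorToTypes.map_id_apply] at this
    · intro A A' μ hμ x y hxy
      obtain ⟨C, π₁, π₂, α, δ, hC, hsq, hδ1, hδα, hδ2⟩ :=
        Groth.Agent.Lib.helper6.H6_smallExt_tangent μ hμ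
      obtain ⟨w, hw⟩ := h1 π₁ α μ μ hsq hμ ⟨(x, y), hxy⟩
      have hw1 : F.map π₁ w = x := congrArg (fun t => t.1.1) hw
      have hw2 : F.map α w = y := congrArg (fun t => t.1.2) hw
      have hww : w = F.map δ x := by
        apply (h2 π₁ π₂ hC).1
        apply ArtFun.FibProd.ext
        · show F.map π₁ w = F.map π₁ (F.map δ x)
          rw [← FunctorToTypes.map_comp_apply, hδ1, FunctorToTypes.map_id_apply, hw1]
        · exact ht.elim _ _
      rw [← hw2, hww, ← FunctorToTypes.map_comp_apply, hδα, FunctorToTypes.map_id_apply]
    · intro A B C p q hp hq x y hxy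
      apply hp
      apply hq
      rw [← FunctorToTypes.map_comp_apply, ← FunctorToTypes.map_comp_apply]
      exact hxy

end Groth.Agent.S15131
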