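import Groth.Statements.S15146
import Mathlib

set_option autoImplicit false
universe u
open HilbZeta

namespace Groth.Agent.S15146

theorem div_ps {k : Type*} [Field k] (f g : PowerSeries k) (l c : ℕ) (hf : f.order = (l : ℕ∞))
    (hg : ((l + c : ℕ) : ℕ∞) ≤ g.order) :
    ∃ q : PowerSeries k, q * f = g ∧ ((c : ℕ) : ℕ∞) ≤ q.order := by
  obtain ⟨hfl, hflt⟩ := PowerSeries.order_eq_nat.mp hf
  obtain ⟨u, hu⟩ : (PowerSeries.X : PowerSeries k) ^ l ∣ f :=
    PowerSeries.X_pow_dvd_iff.mpr (fun m hm => hflt m hm)
  have hu0 : PowerSeries.constantCoeff u ≠ 0 := by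
    rw [← PowerSeries.coeff_zero_eq_constantCoeff_apply, ← PowerSeries.coeff_X_pow_mul u l 0,
      zero_add, ← hu]
    exact hfl
  have huu : IsUnit u := PowerSeries.isUnit_iff_constantCoeff.mpr (IsUnit.mk0 _ hu0)
  obtain ⟨v, hv⟩ := huu.exists_left_inv
  obtain ⟨g', hg'⟩ : (PowerSeries.X : PowerSeries k) ^ (l + c) ∣ g :=
    PowerSeries.X_pow_dvd_iff.mpr (fun m hm =>
      PowerSeries.coeff_of_lt_order m (lt_of_lt_of_le (by exact_mod_cast hm) hg))
  refine ⟨PowerSeries.X ^ c * (g' * v), ?_, ?_⟩
  · rw [hu, hg', pow_add]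
    linear_combination ((PowerSeries.X : PowerSeries k) ^ c * g' * PowerSeries.X ^ l) * hv
  · apply PowerSeries.nat_le_order
    intro i hi
    exact PowerSeries.X_pow_dvd_iff.mp ⟨g' * v, rfl⟩ i hi


/-- Let k be a field, s a natural number and R a k-subalgebra of the product of s copies of the power
series ring k[[x]], of finite codimension δ over k and local with residue field k (all components of
an element of R have the same constant term); write v_i for the x-adic order of the i-th component
of an s-tuple, and let c = (c_1, …, c_s) be the conductor exponents, so that an s-tuple f satisfies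
f·g ∈ R for every s-tuple g exactly when v_i(f) ≥ c_i for all i (over an algebraically closed field
such an R is precisely the completed local ring of a reduced curve singularity having s branches
sitting inside its normalisation, δ is its delta invariant and the conductor ideal is generated by
the x_i^{c_i}). If J is an ideal of R of finite colength which contains, for each i, an element f_i
with v_i(f_i) = l_i, then every s-tuple g with v_i(g) ≥ l_i + c_i for all i lies in R and belongs to
J. (The published statement is over an algebraically closed field; this row allows any field.) -/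
theorem result (k : Type u) [Field k] (s : ℕ)
    (R : Subalgebra k (Fin s → PowerSeries k))
    (hfin : Module.Finite k ((Fin s → PowerSeries k) ⧸ Subalgebra.toSubmodule R))
    (hloc : ∀ f ∈ R, ∀ i j : Fin s, PowerSeries.constantCoeff (f i) = PowerSeries.constantCoeff (f j))
    (c : Fin s → ℕ)
    (hc : ∀ f : Fin s → PowerSeries k,
      (∀ g : Fin s → PowerSeries k, g * f ∈ R) ↔ ∀ i, ((c i : ℕ) : ℕ∞) ≤ (f i).order)
    (J : Ideal ↥R) (hJ : Module.Finite k (↥R ⧸ J))
    (l : Fin s → ℕ) (hl : ∀ i : Fin s, ∃ f ∈ J, ((f : Fin s → PowerSeries k) i).order = ((l i : ℕ) : ℕ∞))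
    (g : Fin s → PowerSeries k) (hg : ∀ i : Fin s, ((l i + c i : ℕ) : ℕ∞) ≤ (g i).order) :
    ∃ hgR : g ∈ R, (⟨g, hgR⟩ : ↥R) ∈ J := by
  classical
  choose f hfJ hford using hl
  have hq : ∀ i, ∃ q : PowerSeries k, q * ((f i : Fin s → PowerSeries k) i) = g i ∧
      ((c i : ℕ) : ℕ∞) ≤ q.order :=
    fun i => div_ps _ _ _ _ (hford i) (hg i)
  choose q hqf hqc using hq
  have hQR : ∀ i, (Pi.single i (q i) : Fin s → PowerSeries k) ∈ R := by
    intro i
    have h := (hc (Pi.single i (q i))).mpr (by
      intro j
      by_cases hji : j = i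
      · subst hji; rw [Pi.single_eq_same]; exact hqc j
      · rw [Pi.single_eq_of_ne hji, PowerSeries.order_zero]; exact le_top)
    have h1 := h 1
    rwa [one_mul] at h1
  have hsum : g = ∑ i, (Pi.single i (q i) : Fin s → PowerSeries k) *
      (f i : Fin s → PowerSeries k) := by
    funext j
    rw [Finset.sum_apply]
    simp only [Pi.mul_apply]
    rw [Finset.sum_eq_single j]
    · rw [Pi.single_eq_same, hqf]
    · intro i _ hij
      rw [Pi.single_eq_of_ne (Ne.symm hij), zero_mul]
    · intro h; exact absurd (Finset.mem_univ j) h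
  have hmemJ : ∑ i, (⟨Pi.single i (q i), hQR i⟩ : ↥R) * f i ∈ J :=
    Ideal.sum_mem _ (fun i _ => Ideal.mul_mem_left _ _ (hfJ i))
  have hcoeT : ∀ (t : Finset (Fin s)),
      ((∑ i ∈ t, (⟨Pi.single i (q i), hQR i⟩ : ↥R) * f i : ↥R) : Fin s → PowerSeries k)
        = ∑ i ∈ t, (Pi.single i (q i) : Fin s → PowerSeries k) *
            (f i : Fin s → PowerSeries k) := by
    intro t
    induction t using Finset.induction_on with
    | empty => simp
    | insert a t ha ih =>
      rw [Finset.sum_insert ha, Finset.sum_insert ha, Subalgebra.coe_add, Subalgebra.coe_mul, ih]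
  have hcoe : ((∑ i, (⟨Pi.single i (q i), hQR i⟩ : ↥R) * f i : ↥R) : Fin s → PowerSeries k)
      = g := by
    rw [hcoeT, ← hsum]
  have hgR : g ∈ R := by
    rw [← hcoe]; exact SetLike.coe_mem _
  refine ⟨hgR, ?_⟩
  have he : (⟨g, hgR⟩ : ↥R) = ∑ i, (⟨Pi.single i (q i), hQR i⟩ : ↥R) * f i :=
    Subtype.ext hcoe.symm
  rw [he]; exact hmemJ

end Groth.Agent.S15146
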