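import Groth.Statements.S15148
import Mathlib
import Groth.Agent.S15147

set_option autoImplicit false
universe u
open HilbZeta

namespace Groth.Agent.S15148

noncomputable def Tn (k : Type u) [Field k] {s : ℕ} (n : Fin s → ℕ) :
    (Fin s → PowerSeries k) →ₗ[k] (∀ i : Fin s, Fin (n i) → k) :=
  LinearMap.pi fun i => LinearMap.pi fun j =>
    (PowerSeries.coeff (R := k) (j : ℕ)) ∘ₗ (LinearMap.proj i)

theorem Tn_apply (k : Type u) [Field k] {s : ℕ} (n : Fin s → ℕ) (f : Fin s → PowerSeries k)
    (i : Fin s) (j : Fin (n i)) : Tn k n f i j = PowerSeries.coeff (j : ℕ) (f i) := rfl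

theorem Tn_surj (k : Type u) [Field k] {s : ℕ} (n : Fin s → ℕ) :
    Function.Surjective (Tn k n) := by
  intro y
  refine ⟨fun i => PowerSeries.mk (fun m => if h : m < n i then y i ⟨m, h⟩ else 0), ?_⟩
  funext i j
  rw [Tn_apply, PowerSeries.coeff_mk, dif_pos j.2]


/-- Let k be a field, s a natural number and R a k-subalgebra of the product of s copies of the power
series ring k[[x]], of finite codimension δ over k and local with residue field k (all components of
an element of R have the same constant term); write v_i for the x-adic order of the i-th component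
of an s-tuple, and let c = (c_1, …, c_s) be the conductor exponents, so that an s-tuple f satisfies
f·g ∈ R for every s-tuple g exactly when v_i(f) ≥ c_i for all i (over an algebraically closed field
such an R is precisely the completed local ring of a reduced curve singularity having s branches
sitting inside its normalisation, δ is its delta invariant and the conductor ideal is generated by
the x_i^{c_i}), and put C = c_1 + ⋯ + c_s. Let I be an ideal of R of finite colength d with
branch-length vector a (for every i the ideal of k[[x]] generated by the i-th components of the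
elements of I is (x^{a_i})). Then −δ ≤ d − Σ a_i ≤ C − δ, and the second inequality is strict when R
is not the whole product (the singularity is not smooth). (The published statement is over an
algebraically closed field; this row allows any field.) -/
theorem result (k : Type u) [Field k] (s : ℕ)
    (R : Subalgebra k (Fin s → PowerSeries k))
    (hfin : Module.Finite k ((Fin s → PowerSeries k) ⧸ Subalgebra.toSubmodule R))
    (hloc : ∀ f ∈ R, ∀ i j : Fin s, PowerSeries.constantCoeff (f i) = PowerSeries.constantCoeff (f j))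
    (c : Fin s → ℕ)
    (hc : ∀ f : Fin s → PowerSeries k,
      (∀ g : Fin s → PowerSeries k, g * f ∈ R) ↔ ∀ i, ((c i : ℕ) : ℕ∞) ≤ (f i).order)
    (I : Ideal ↥R) (hI : Module.Finite k (↥R ⧸ I)) (a : Fin s → ℕ)
    (ha : (∀ i : Fin s, Ideal.map ((Pi.evalAlgHom k (fun _ : Fin s => PowerSeries k) i).comp R.val) I = Ideal.span {PowerSeries.X ^ (a i)})) :
    (∑ i, a i) ≤ Module.finrank k (↥R ⧸ I) + Module.finrank k ((Fin s → PowerSeries k) ⧸ Subalgebra.toSubmodule R) ∧
    Module.finrank k (↥R ⧸ I) + Module.finrank k ((Fin s → PowerSeries k) ⧸ Subalgebra.toSubmodule R) ≤ (∑ i, a i) + ∑ i, c i ∧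
    (R ≠ ⊤ → Module.finrank k (↥R ⧸ I) + Module.finrank k ((Fin s → PowerSeries k) ⧸ Subalgebra.toSubmodule R) < (∑ i, a i) + ∑ i, c i) := by
  classical
  obtain ⟨hmem, hord⟩ := Groth.Agent.S15147.result k s R hfin hloc c hc I hI a ha
  have hdvd : ∀ i, ∀ f ∈ I, (PowerSeries.X : PowerSeries k) ^ (a i) ∣
      (f : Fin s → PowerSeries k) i := by
    intro i f hf
    have h1 : (f : Fin s → PowerSeries k) i ∈
        Ideal.span {(PowerSeries.X : PowerSeries k) ^ (a i)} := by
      rw [← ha i]
      exact Ideal.mem_map_of_mem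
        ((Pi.evalAlgHom k (fun _ : Fin s => PowerSeries k) i).comp R.val) hf
    exact Ideal.mem_span_singleton.mp h1
  have hex : ∀ i, ∃ f ∈ I, ((f : Fin s → PowerSeries k) i).order = ((a i : ℕ) : ℕ∞) := by
    intro i
    by_contra hne
    push Not at hne
    have hall : ∀ f ∈ I, (PowerSeries.X : PowerSeries k) ^ (a i + 1) ∣
        (f : Fin s → PowerSeries k) i := by
      intro f hf
      have h1 := hdvd i f hf
      rw [PowerSeries.X_pow_dvd_iff] at h1 ⊢
      intro m hm
      rcases Nat.lt_succ_iff_lt_or_eq.mp hm with h | h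
      · exact h1 m h
      · subst h
        by_contra hcoef
        exact hne f hf (PowerSeries.order_eq_nat.mpr ⟨hcoef, fun j hj => h1 j hj⟩)
    have hle : Ideal.span {(PowerSeries.X : PowerSeries k) ^ (a i)} ≤
        Ideal.span {(PowerSeries.X : PowerSeries k) ^ (a i + 1)} := by
      rw [← ha i, Ideal.map_le_iff_le_comap]
      intro f hf
      rw [Ideal.mem_comap, Ideal.mem_span_singleton]
      exact hall f hf
    have h2 : (PowerSeries.X : PowerSeries k) ^ (a i) ∈
        Ideal.span {(PowerSeries.X : PowerSeries k) ^ (a i + 1)} :=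
      hle (Ideal.mem_span_singleton_self _)
    rw [Ideal.mem_span_singleton, PowerSeries.X_pow_dvd_iff] at h2
    have h3 := h2 (a i) (Nat.lt_succ_self _)
    rw [PowerSeries.coeff_X_pow_self] at h3
    exact one_ne_zero h3
  have hV : Module.finrank k (∀ i : Fin s, Fin (a i + c i) → k) = ∑ i, a i + ∑ i, c i := by
    rw [Module.finrank_pi_fintype]
    simp only [Module.finrank_fin_fun]
    rw [← Finset.sum_add_distrib]
  have hkerT : ∀ f : Fin s → PowerSeries k, Tn k (fun i => a i + c i) f = 0 →
      ∃ hfR : f ∈ R, (⟨f, hfR⟩ : ↥R) ∈ I := by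
    intro f hf
    apply hmem
    intro i
    apply PowerSeries.nat_le_order
    intro j hj
    exact congrFun (congrFun hf i) ⟨j, hj⟩
  obtain ⟨TR, hTR⟩ : ∃ TR : ↥R →ₗ[k] (∀ i : Fin s, Fin (a i + c i) → k),
      ∀ r : ↥R, TR r = Tn k (fun i => a i + c i) (r : Fin s → PowerSeries k) :=
    ⟨(Tn k (fun i => a i + c i)) ∘ₗ R.val.toLinearMap, fun r => rfl⟩
  obtain ⟨W, hW⟩ : ∃ W : Submodule k (∀ i : Fin s, Fin (a i + c i) → k),
      W = LinearMap.range TR := ⟨_, rfl⟩
  obtain ⟨J, hJ⟩ : ∃ J : Submodule k (∀ i : Fin s, Fin (a i + c i) → k),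
      J = Submodule.map TR (I.restrictScalars k) := ⟨_, rfl⟩
  have hJW : J ≤ W := by rw [hJ, hW]; exact LinearMap.map_le_range
  have hα : Module.finrank k ((Fin s → PowerSeries k) ⧸ Subalgebra.toSubmodule R)
      + Module.finrank k W = ∑ i, a i + ∑ i, c i := by
    have hg : Function.Surjective (W.mkQ ∘ₗ Tn k (fun i => a i + c i)) :=
      (Submodule.mkQ_surjective W).comp (Tn_surj k _)
    have hker : LinearMap.ker (W.mkQ ∘ₗ Tn k (fun i => a i + c i))
        = Subalgebra.toSubmodule R := by
      ext f
      rw [LinearMap.mem_ker, LinearMap.comp_apply, Submodule.mkQ_apply,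
        Submodule.Quotient.mk_eq_zero, hW, LinearMap.mem_range, Subalgebra.mem_toSubmodule]
      constructor
      · rintro ⟨r, hr⟩
        rw [hTR] at hr
        have h0 : Tn k (fun i => a i + c i) (f - (r : Fin s → PowerSeries k)) = 0 := by
          rw [map_sub, hr, sub_self]
        obtain ⟨h1, _⟩ := hkerT _ h0
        have h2 : f = (f - (r : Fin s → PowerSeries k)) + (r : Fin s → PowerSeries k) := by
          abel
        rw [h2]; exact R.add_mem h1 r.2
      · intro hf
        exact ⟨⟨f, hf⟩, hTR _⟩
    have e : ((Fin s → PowerSeries k) ⧸ Subalgebra.toSubmodule R) ≃ₗ[k]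
        ((∀ i : Fin s, Fin (a i + c i) → k) ⧸ W) :=
      (Submodule.quotEquivOfEq _ _ hker).symm.trans
        ((W.mkQ ∘ₗ Tn k (fun i => a i + c i)).quotKerEquivOfSurjective hg)
    rw [e.finrank_eq, ← hV]
    exact Submodule.finrank_quotient_add_finrank W
  have hβ : Module.finrank k (↥R ⧸ I) + Module.finrank k J = Module.finrank k W := by
    have hker : LinearMap.ker (J.mkQ ∘ₗ TR) = I.restrictScalars k := by
      ext r
      rw [LinearMap.mem_ker, LinearMap.comp_apply, Submodule.mkQ_apply,
        Submodule.Quotient.mk_eq_zero, hJ, Submodule.mem_map, Submodule.restrictScalars_mem]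
      constructor
      · rintro ⟨r', hr', hrr⟩
        rw [Submodule.restrictScalars_mem] at hr'
        rw [hTR, hTR] at hrr
        have h0 : Tn k (fun i => a i + c i)
            ((r : Fin s → PowerSeries k) - (r' : Fin s → PowerSeries k)) = 0 := by
          rw [map_sub, hrr, sub_self]
        obtain ⟨h1, h2⟩ := hkerT _ h0
        have h3 : r = ⟨(r : Fin s → PowerSeries k) - (r' : Fin s → PowerSeries k), h1⟩ + r' := by
          apply Subtype.ext
          show (r : Fin s → PowerSeries k)
            = ((r : Fin s → PowerSeries k) - (r' : Fin s → PowerSeries k))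
              + (r' : Fin s → PowerSeries k)
          abel
        rw [h3]; exact I.add_mem h2 hr'
      · intro hr
        exact ⟨r, (Submodule.restrictScalars_mem _ _ _).mpr hr, rfl⟩
    have hrange : LinearMap.range (J.mkQ ∘ₗ TR) = W.map J.mkQ := by
      rw [hW]; exact LinearMap.range_comp TR J.mkQ
    have e1 : (↥R ⧸ I) ≃ₗ[k] LinearMap.range (J.mkQ ∘ₗ TR) :=
      (Submodule.Quotient.restrictScalarsEquiv k I).symm.trans
        ((Submodule.quotEquivOfEq _ _ hker).symm.trans (J.mkQ ∘ₗ TR).quotKerEquivRange)
    rw [e1.finrank_eq, hrange]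
    have h4 := LinearMap.finrank_range_add_finrank_ker (J.mkQ.domRestrict W)
    rw [LinearMap.range_domRestrict, LinearMap.ker_domRestrict, Submodule.ker_mkQ] at h4
    rw [← h4]
    congr 1
    exact (Submodule.comapSubtypeEquivOfLe hJW).finrank_eq.symm
  have hJle : Module.finrank k J ≤ ∑ i, c i := by
    obtain ⟨S, hS⟩ : ∃ S : (∀ i : Fin s, Fin (a i + c i) → k) →ₗ[k] (∀ i : Fin s, Fin (c i) → k),
        ∀ y i j, S y i j = y i (Fin.natAdd (a i) j) :=
      ⟨LinearMap.pi fun i => LinearMap.pi fun j =>
        (LinearMap.proj (Fin.natAdd (a i) j)) ∘ₗ (LinearMap.proj i), fun y i j => rfl⟩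
    have hinj : Function.Injective (S.domRestrict J) := by
      rw [← LinearMap.ker_eq_bot, LinearMap.ker_eq_bot']
      rintro ⟨y, hy⟩ hSy
      have hSy' : S y = 0 := hSy
      rw [hJ] at hy
      obtain ⟨r, hr, rfl⟩ := hy
      rw [SetLike.mem_coe, Submodule.restrictScalars_mem] at hr
      apply Subtype.ext
      show TR r = 0
      funext i m
      rw [hTR, Tn_apply]
      by_cases hm : (m : ℕ) < a i
      · exact PowerSeries.coeff_of_lt_order _
          (lt_of_lt_of_le (by exact_mod_cast hm) (hord r hr i))
      · have hm2 : (m : ℕ) - a i < c i := by have := m.2; omega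
        have h5 := congrFun (congrFun hSy' i) ⟨(m : ℕ) - a i, hm2⟩
        rw [hS, hTR, Tn_apply] at h5
        have hidx : ((Fin.natAdd (a i) ⟨(m : ℕ) - a i, hm2⟩ : Fin (a i + c i)) : ℕ) = (m : ℕ) := by
          rw [Fin.val_natAdd]; show a i + ((m : ℕ) - a i) = (m : ℕ); omega
        rw [hidx] at h5
        exact h5
    have h6 := LinearMap.finrank_le_finrank_of_injective hinj
    rw [Module.finrank_pi_fintype] at h6
    simp only [Module.finrank_fin_fun] at h6
    exact h6
  refine ⟨by omega, by omega, ?_⟩
  intro hRtop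
  have hcpos : ∃ i, 0 < c i := by
    by_contra hno
    push Not at hno
    apply hRtop
    rw [Algebra.eq_top_iff]
    intro x
    have h7 := (hc 1).mpr (fun i => by
      have : c i = 0 := Nat.le_zero.mp (hno i)
      rw [this]; simp)
    have h8 := h7 x
    rwa [mul_one] at h8
  obtain ⟨i₀, hi₀⟩ := hcpos
  obtain ⟨f, hfI, hford⟩ := hex i₀
  have hJpos : 0 < Module.finrank k J := by
    rw [Module.finrank_pos_iff_exists_ne_zero (R := k) (M := ↥J)]
    have hTRf : TR f ∈ J := by
      rw [hJ]
      exact Submodule.mem_map_of_mem ((Submodule.restrictScalars_mem _ _ _).mpr hfI)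
    refine ⟨⟨TR f, hTRf⟩, ?_⟩
    intro h0
    have h9 : TR f = 0 := congrArg Subtype.val h0
    have h10 := congrFun (congrFun h9 i₀) ⟨a i₀, by omega⟩
    rw [hTR, Tn_apply] at h10
    exact (PowerSeries.order_eq_nat.mp hford).1 h10
  omega

end Groth.Agent.S15148
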