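import Groth.Statements.S15150
import Mathlib

set_option autoImplicit false
universe u
open HilbZeta

namespace Groth.Agent.S15150

theorem nilp_list {K V : Type*} [Field K] [AddCommGroup V] [Module K V] [FiniteDimensional K V]
    (l : List (Module.End K V)) (hnil : ∀ a ∈ l, IsNilpotent a)
    (hcomm : ∀ a ∈ l, ∀ b ∈ l, Commute a b) :
    l.prod = 0 ∨ Module.finrank K (LinearMap.range l.prod) + l.length ≤ Module.finrank K V := by
  induction l with
  | nil =>
    right
    rw [List.length_nil, add_zero]
    exact Submodule.finrank_le _
  | cons a l ih =>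
    have hnil' : ∀ b ∈ l, IsNilpotent b := fun b hb => hnil b (List.mem_cons_of_mem _ hb)
    have hcomm' : ∀ b ∈ l, ∀ c ∈ l, Commute b c := fun b hb c hc =>
      hcomm b (List.mem_cons_of_mem _ hb) c (List.mem_cons_of_mem _ hc)
    rw [List.prod_cons]
    rcases ih hnil' hcomm' with h0 | hle
    · left; rw [h0, mul_zero]
    · have hac : Commute a l.prod := Commute.list_prod_right _ _
        (fun b hb => hcomm a List.mem_cons_self b (List.mem_cons_of_mem _ hb))
      have hrange : LinearMap.range (a * l.prod) = Submodule.map a (LinearMap.range l.prod) := by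
        rw [Module.End.mul_eq_comp]; exact LinearMap.range_comp _ _
      have hsub : LinearMap.range (a * l.prod) ≤ LinearMap.range l.prod := by
        rw [hac.eq, Module.End.mul_eq_comp]; exact LinearMap.range_comp_le_range _ _
      rcases hsub.lt_or_eq with hlt | heq
      · right
        have := Submodule.finrank_lt_finrank_of_lt hlt
        rw [List.length_cons]; omega
      · left
        have hmap : Submodule.map a (LinearMap.range l.prod) = LinearMap.range l.prod := by
          rw [← hrange]; exact heq
        obtain ⟨N, hN⟩ := hnil a List.mem_cons_self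
        have hpow : ∀ j : ℕ, Submodule.map (a ^ j) (LinearMap.range l.prod)
            = LinearMap.range l.prod := by
          intro j
          induction j with
          | zero => rw [pow_zero]; exact Submodule.map_id _
          | succ j ihj =>
            rw [pow_succ, Module.End.mul_eq_comp, Submodule.map_comp, hmap, ihj]
        have hWbot : LinearMap.range l.prod = ⊥ := by
          rw [← hpow N, hN]; exact Submodule.map_zero _
        have hP : l.prod = 0 := LinearMap.range_eq_bot.mp hWbot
        rw [hP, mul_zero]

/-- Let A be a reduced commutative ring, S an A-algebra together with an A-algebra homomorphism π : S →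
A (a section of Spec S → Spec A), with kernel m, and I an ideal of S such that S/I is a finite
projective A-module of constant rank d and m is contained in the radical of I (the finite flat
subscheme Spec S/I of degree d lies, as a set, on the section). Then m^d ⊆ I: the subscheme lies in
the (d−1)-st infinitesimal neighbourhood of the section. (The published statement is for a closed
subscheme, flat and proper of degree d over a Noetherian base, of a family of reduced curve
singularities with a section, with no reducedness assumption on the base; over the dual numbers k[ε]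
the ideal (x − ε) of k[ε][x] has quotient free of rank one and radical containing x but does not
contain x, so the base is taken reduced here, and the statement is given in its affine form, to
which the argument reduces at once; the curve hypotheses play no role and are dropped; the condition
that Spec S/I lies set-theoretically on the section, which the published argument deduces from
properness of Z inside the germ, is a hypothesis here.) -/
theorem result (A : Type u) [CommRing A] [IsReduced A]
    (S : Type u) [CommRing S] [Algebra A S] (π : S →ₐ[A] A) (I : Ideal S) (d : ℕ)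
    [Module.Finite A (S ⧸ I)] [Module.Projective A (S ⧸ I)]
    (hrank : ∀ p : PrimeSpectrum A, Module.rankAtStalk (R := A) (S ⧸ I) p = d)
    (hsupp : RingHom.ker π ≤ I.radical) :
    RingHom.ker π ^ d ≤ I := by
  classical
  obtain ⟨Φ, hΦ⟩ : ∃ Φ : S →ₐ[A] Module.End A (S ⧸ I),
      ∀ (x : S) (m : S ⧸ I), Φ x m = Ideal.Quotient.mk I x * m :=
    ⟨(Algebra.lmul A (S ⧸ I)).comp (Ideal.Quotient.mkₐ A I), fun x m => rfl⟩
  rw [Submodule.pow_eq_span_pow_set, Submodule.span_le]
  intro y hy
  rw [Set.mem_pow] at hy
  obtain ⟨f, rfl⟩ := hy
  rw [SetLike.mem_coe, ← Ideal.Quotient.eq_zero_iff_mem]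
  have key : ∀ p : PrimeSpectrum A, (1 : p.asIdeal.ResidueField) ⊗ₜ[A]
      (Ideal.Quotient.mk I (List.ofFn fun i => (f i : S)).prod) = 0 := by
    intro p
    obtain ⟨Ψ, hΨ⟩ : ∃ Ψ : S →ₐ[A] Module.End p.asIdeal.ResidueField
        (TensorProduct A p.asIdeal.ResidueField (S ⧸ I)),
        ∀ x : S, Ψ x = (Φ x).baseChange p.asIdeal.ResidueField :=
      ⟨(Module.End.baseChangeHom A p.asIdeal.ResidueField (S ⧸ I)).comp Φ, fun x => rfl⟩
    have hfin : Module.finrank p.asIdeal.ResidueField
        (TensorProduct A p.asIdeal.ResidueField (S ⧸ I)) = d :=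
      (Module.rankAtStalk_eq p).symm.trans (hrank p)
    have hnil : ∀ a ∈ List.ofFn (fun i => Ψ (f i : S)), IsNilpotent a := by
      intro a ha
      rw [List.mem_ofFn] at ha
      obtain ⟨i, rfl⟩ := ha
      obtain ⟨N, hN⟩ := hsupp (f i).2
      refine ⟨N, ?_⟩
      rw [← map_pow, hΨ]
      have h0 : Φ ((f i : S) ^ N) = 0 := by
        apply LinearMap.ext
        intro m
        rw [hΦ, Ideal.Quotient.eq_zero_iff_mem.mpr hN, zero_mul]; rfl
      rw [h0, LinearMap.baseChange_zero]
    have hcomm : ∀ a ∈ List.ofFn (fun i => Ψ (f i : S)),
        ∀ b ∈ List.ofFn (fun i => Ψ (f i : S)), Commute a b := by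
      intro a ha b hb
      rw [List.mem_ofFn] at ha hb
      obtain ⟨i, rfl⟩ := ha
      obtain ⟨j, rfl⟩ := hb
      exact (Commute.all (f i : S) (f j : S)).map Ψ
    have hprod : (List.ofFn (fun i => Ψ (f i : S))).prod = 0 := by
      rcases nilp_list _ hnil hcomm with h | h
      · exact h
      · rw [List.length_ofFn, hfin] at h
        have h0 : Module.finrank p.asIdeal.ResidueField
            (LinearMap.range (List.ofFn (fun i => Ψ (f i : S))).prod) = 0 := by omega
        rw [Submodule.finrank_eq_zero] at h0
        exact LinearMap.range_eq_bot.mp h0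
    have hΨy : Ψ (List.ofFn fun i => (f i : S)).prod = 0 := by
      rw [map_list_prod, List.map_ofFn]; exact hprod
    have h2 : Ψ (List.ofFn fun i => (f i : S)).prod
        ((1 : p.asIdeal.ResidueField) ⊗ₜ[A] (1 : S ⧸ I))
        = (1 : p.asIdeal.ResidueField) ⊗ₜ[A]
          (Ideal.Quotient.mk I (List.ofFn fun i => (f i : S)).prod * 1) := by
      rw [hΨ, LinearMap.baseChange_tmul, hΦ]
    rw [mul_one] at h2
    rw [← h2, hΨy]; rfl
  obtain ⟨s, hs⟩ := Module.projective_def'.mp (inferInstance : Module.Projective A (S ⧸ I))
  have hs' : ∀ m : S ⧸ I, Finsupp.linearCombination A id (s m) = m :=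
    fun m => LinearMap.congr_fun hs m
  have hzero : s (Ideal.Quotient.mk I (List.ofFn fun i => (f i : S)).prod) = 0 := by
    apply Finsupp.ext
    intro m
    rw [Finsupp.zero_apply]
    have hmem : ∀ J : Ideal A, J.IsPrime →
        s (Ideal.Quotient.mk I (List.ofFn fun i => (f i : S)).prod) m ∈ J := by
      intro J hJ
      have h1 := congrArg
        (((Finsupp.lapply m) ∘ₗ s : (S ⧸ I) →ₗ[A] A).baseChange
          (PrimeSpectrum.mk J hJ).asIdeal.ResidueField) (key ⟨J, hJ⟩)
      rw [LinearMap.baseChange_tmul, map_zero] at h1
      have h3 := congrArg (TensorProduct.rid A (PrimeSpectrum.mk J hJ).asIdeal.ResidueField) h1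
      rw [TensorProduct.rid_tmul, map_zero, Algebra.smul_def, mul_one] at h3
      exact (Ideal.algebraMap_residueField_eq_zero).mp h3
    have hnilr : s (Ideal.Quotient.mk I (List.ofFn fun i => (f i : S)).prod) m ∈ nilradical A := by
      rw [nilradical_eq_sInf, Ideal.mem_sInf]
      intro J hJ; exact hmem J hJ
    exact (mem_nilradical.mp hnilr).eq_zero
  rw [← hs' (Ideal.Quotient.mk I (List.ofFn fun i => (f i : S)).prod), hzero, map_zero]

end Groth.Agent.S15150
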