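import Groth.Statements.S15162
import Mathlib
import Groth.Agent.Lib.helper7.GL2Z

set_option autoImplicit false
open Matrix
open BddFin

namespace Groth.Agent.S15162

/-- Let Γ be a finite subgroup of GL_2(ℤ) acting on ℤ² by matrix multiplication. If every element of Γ
has a non-zero fixed vector in ℤ², then there is a non-zero vector of ℤ² fixed by all of Γ. -/
theorem result
    (Γ : Subgroup (Matrix.GeneralLinearGroup (Fin 2) ℤ)) [Finite Γ]
    (h : ∀ γ ∈ Γ, ∃ v : Fin 2 → ℤ, v ≠ 0 ∧ (γ : Matrix (Fin 2) (Fin 2) ℤ) *ᵥ v = v) :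
    ∃ v : Fin 2 → ℤ, v ≠ 0 ∧ ∀ γ ∈ Γ, (γ : Matrix (Fin 2) (Fin 2) ℤ) *ᵥ v = v := by
  classical
  -- every element of Γ has finite order as a matrix
  have hfin : ∀ γ ∈ Γ, ∃ n : ℕ, 0 < n ∧ (γ : Matrix (Fin 2) (Fin 2) ℤ) ^ n = 1 := by
    intro γ hγ
    obtain ⟨n, hn, hpow⟩ := (isOfFinOrder_of_finite (⟨γ, hγ⟩ : Γ)).exists_pow_eq_one
    refine ⟨n, hn, ?_⟩
    have h1 : γ ^ n = 1 := by
      have := congrArg Subtype.val hpow
      simpa using this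
    have h2 := congrArg Units.val h1
    rw [Units.val_pow_eq_pow_val] at h2
    exact h2
  have hdetcases : ∀ γ : Matrix.GeneralLinearGroup (Fin 2) ℤ,
      (γ : Matrix (Fin 2) (Fin 2) ℤ).det = 1 ∨ (γ : Matrix (Fin 2) (Fin 2) ℤ).det = -1 := by
    intro γ
    have : IsUnit (γ : Matrix (Fin 2) (Fin 2) ℤ).det := by
      rw [← Matrix.isUnit_iff_isUnit_det]
      exact γ.isUnit
    exact Int.isUnit_iff.mp this
  have hone : ∀ γ ∈ Γ, (γ : Matrix (Fin 2) (Fin 2) ℤ).det = 1 → γ = 1 := by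
    intro γ hγ hdet
    obtain ⟨v, hv, hfix⟩ := h γ hγ
    obtain ⟨n, hn, hpow⟩ := hfin γ hγ
    apply Units.ext
    exact Groth.Agent.Lib.helper7.H7_eq_one_of_det_one _ v hv hfix hdet n hn hpow
  by_cases hex : ∃ γ₀ ∈ Γ, (γ₀ : Matrix (Fin 2) (Fin 2) ℤ).det = -1
  · obtain ⟨γ₀, hγ₀, hdet₀⟩ := hex
    obtain ⟨v, hv, hfix⟩ := h γ₀ hγ₀
    refine ⟨v, hv, ?_⟩
    intro γ hγ
    rcases hdetcases γ with hd | hd
    · rw [hone γ hγ hd]; simp
    · have hmem : γ₀⁻¹ * γ ∈ Γ := Γ.mul_mem (Γ.inv_mem hγ₀) hγ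
      have hdet' : ((γ₀⁻¹ * γ : Matrix.GeneralLinearGroup (Fin 2) ℤ) : Matrix (Fin 2) (Fin 2) ℤ).det = 1 := by
        have e1 : ((γ₀⁻¹ * γ : Matrix.GeneralLinearGroup (Fin 2) ℤ) : Matrix (Fin 2) (Fin 2) ℤ) =
            ((γ₀⁻¹ : Matrix.GeneralLinearGroup (Fin 2) ℤ) : Matrix (Fin 2) (Fin 2) ℤ) * (γ : Matrix (Fin 2) (Fin 2) ℤ) := rfl
        have e2 : ((γ₀⁻¹ : Matrix.GeneralLinearGroup (Fin 2) ℤ) : Matrix (Fin 2) (Fin 2) ℤ).det *
            (γ₀ : Matrix (Fin 2) (Fin 2) ℤ).det = 1 := by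
          rw [← Matrix.det_mul, ← Units.val_mul, inv_mul_cancel, Units.val_one, Matrix.det_one]
        rw [e1, Matrix.det_mul, hd]
        rw [hdet₀] at e2
        linarith
      have := hone _ hmem hdet'
      have hγeq : γ = γ₀ := by
        have h3 : γ₀ * (γ₀⁻¹ * γ) = γ₀ * 1 := by rw [this]
        rw [← mul_assoc, mul_inv_cancel, one_mul, mul_one] at h3
        exact h3
      rw [hγeq]; exact hfix
  · push Not at hex
    refine ⟨![1, 0], by simp, ?_⟩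
    intro γ hγ
    rcases hdetcases γ with hd | hd
    · rw [hone γ hγ hd]; simp
    · exact absurd hd (hex γ hγ)

end Groth.Agent.S15162
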