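import Groth.Statements.S15163
import Mathlib
import Groth.Agent.S15162
import Groth.Agent.Lib.helper7.GL2Z2

set_option autoImplicit false
open Matrix
open BddFin

namespace Groth.Agent.S15163

/-- Let Γ be a finite subgroup of GL_2(ℤ) and d > 6 an integer. Suppose some vector w of (ℤ/dℤ)², with
m·w ≠ 0 for all 0 < m < d, is fixed by the reduction modulo d of every element of Γ. Then some
non-zero vector of ℤ² is fixed by all of Γ. -/
theorem result
    (Γ : Subgroup (Matrix.GeneralLinearGroup (Fin 2) ℤ)) [Finite Γ] (d : ℕ) (hd : 6 < d)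
    (w : Fin 2 → ZMod d) (hw : ∀ m : ℕ, 0 < m → m < d → m • w ≠ 0)
    (hfix : ∀ γ ∈ Γ, ((γ : Matrix (Fin 2) (Fin 2) ℤ).map (Int.castRingHom (ZMod d))) *ᵥ w = w) :
    ∃ v : Fin 2 → ℤ, v ≠ 0 ∧ ∀ γ ∈ Γ, (γ : Matrix (Fin 2) (Fin 2) ℤ) *ᵥ v = v := by
  classical
  apply Groth.Agent.S15162.result Γ
  intro γ hγ
  have hfin : ∃ n : ℕ, 0 < n ∧ (γ : Matrix (Fin 2) (Fin 2) ℤ) ^ n = 1 := by
    obtain ⟨n, hn, hpow⟩ := (isOfFinOrder_of_finite (⟨γ, hγ⟩ : Γ)).exists_pow_eq_one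
    refine ⟨n, hn, ?_⟩
    have h1 : γ ^ n = 1 := by
      have := congrArg Subtype.val hpow
      simpa using this
    have h2 := congrArg Units.val h1
    rw [Units.val_pow_eq_pow_val] at h2
    exact h2
  have hdetcases : (γ : Matrix (Fin 2) (Fin 2) ℤ).det = 1 ∨ (γ : Matrix (Fin 2) (Fin 2) ℤ).det = -1 := by
    have : IsUnit (γ : Matrix (Fin 2) (Fin 2) ℤ).det := by
      rw [← Matrix.isUnit_iff_isUnit_det]
      exact γ.isUnit
    exact Int.isUnit_iff.mp this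
  obtain ⟨n, hn, hpow⟩ := hfin
  exact Groth.Agent.Lib.helper7.H7_fixvec_of_mod _ hdetcases n hn hpow d hd w hw (hfix γ hγ)

end Groth.Agent.S15163
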