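import Groth.Statements.S15164
import Mathlib

set_option autoImplicit false
universe u v
open BddFin

namespace Groth.Agent.S15164

/-- Let K be a field of characteristic p > 2, V a finite-dimensional K-vector space and q a quadratic
form on V that does not represent zero (q x = 0 only for x = 0). Then the group of K-linear
automorphisms of V preserving q has no element of order p: if g preserves q and g ^ p = 1 then g =
1. (Non-degeneracy of q, also assumed in the published statement, follows from anisotropy since 2 is
invertible, so it is not repeated here.) -/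
theorem result
    (K : Type u) [Field K] (p : ℕ) [Fact p.Prime] [CharP K p] (hp : p ≠ 2)
    (V : Type v) [AddCommGroup V] [Module K V] [FiniteDimensional K V]
    (q : QuadraticForm K V) (hq : q.Anisotropic)
    (g : V ≃ₗ[K] V) (hg : ∀ x : V, q (g x) = q x) (hgp : g ^ p = 1) : g = 1 := by
  set G : Module.End K V := g.toLinearMap with hGdef
  have hGp : G ^ p = 1 := by
    have h := congrArg (LinearEquiv.automorphismGroup.toLinearMapMonoidHom (R := K) (M := V)) hgp
    rw [map_pow, map_one] at h
    exact h
  set N : Module.End K V := G - 1 with hN
  have hNp : N ^ p = 0 := by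
    have hpoly : ((Polynomial.X : Polynomial K) - 1) ^ p = Polynomial.X ^ p - 1 := by
      rw [sub_pow_char, one_pow]
    have h := congrArg (Polynomial.aeval G) hpoly
    simp only [map_pow, map_sub, Polynomial.aeval_X, map_one] at h
    rw [hN, h, hGp, sub_self]
  have hNapp : ∀ x, N x = g x - x := by
    intro x; simp [hN, hGdef]
  have h2 : (2 : K) ≠ 0 := by
    intro h
    have h' : ((2 : ℕ) : K) = 0 := by exact_mod_cast h
    rw [CharP.cast_eq_zero_iff K p 2] at h'
    have hp2 := (Nat.prime_dvd_prime_iff_eq (Fact.out : p.Prime) Nat.prime_two).mp h'
    exact hp hp2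
  have key : ∀ v', N (N v') = 0 → N v' = 0 := by
    intro v' hv'
    set w := N v' with hw
    have hgw : g w = w := by
      have := hNapp w
      rw [hv'] at this
      exact (sub_eq_zero.mp this.symm)
    have hgv : g v' = v' + w := by
      rw [hw, hNapp]; abel
    have e1 : q (v' + w) = q v' := by rw [← hgv, hg]
    have e2 : q (v' + w + w) = q (v' + w) := by
      have : g (v' + w) = v' + w + w := by rw [map_add, hgv, hgw]
      rw [← this, hg]
    have p1 : q (v' + w) = q v' + q w + QuadraticMap.polar q v' w := by
      simp [QuadraticMap.polar]
    have p2 : q (v' + w + w) = q v' + 4 * q w + 2 * QuadraticMap.polar q v' w := by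
      have hww : v' + w + w = v' + (2 : K) • w := by rw [two_smul, add_assoc]
      have h3 : q (v' + (2 : K) • w) = q v' + q ((2 : K) • w) + QuadraticMap.polar q v' ((2 : K) • w) := by
        simp [QuadraticMap.polar]
      rw [hww, h3, QuadraticMap.map_smul, QuadraticMap.polar_smul_right]
      simp only [smul_eq_mul]
      ring
    have hqw : q w = 0 := by
      have h4 : (2 : K) * q w = 0 := by
        have : q v' + 4 * q w + 2 * QuadraticMap.polar q v' w = q v' := by
          rw [← p2, e2, e1]
        have h5 : q v' + q w + QuadraticMap.polar q v' w = q v' := by rw [← p1, e1]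
        linear_combination this - 2 * h5
      rcases mul_eq_zero.mp h4 with h | h
      · exact absurd h h2
      · exact h
    exact hq w hqw
  have stepB : ∀ j : ℕ, ∀ x, (N ^ (j + 1)) x = 0 → N x = 0 := by
    intro j
    induction j with
    | zero => intro x hx; simpa using hx
    | succ j ih =>
      intro x hx
      rw [pow_succ, Module.End.mul_apply] at hx
      exact key x (ih (N x) hx)
  have hN0 : ∀ x, N x = 0 := by
    intro x
    have hp1 : 1 ≤ p := (Fact.out : p.Prime).one_lt.le
    obtain ⟨j, rfl⟩ := Nat.exists_eq_add_of_le' hp1
    apply stepB j x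
    rw [hNp]; rfl
  ext x
  have := hN0 x
  rw [hNapp] at this
  simpa using sub_eq_zero.mp this

end Groth.Agent.S15164
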