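import Groth.Statements.S15165
import Mathlib
import Groth.Agent.Lib.helper7.IsoSq
import Groth.Agent.S15164

set_option autoImplicit false
universe u v
open Polynomial
open BddFin

namespace Groth.Agent.S15165

/-- Let K be a field of characteristic different from 2 such that K contains all roots of unity (for
every n ≥ 1 the polynomial X^n − 1 splits into linear factors over K), V a finite-dimensional
K-vector space and q a quadratic form on V that does not represent zero. If a K-linear automorphism
g of V preserves q and has finite order (g ^ d = 1 for some d ≥ 1), then g ^ 2 = 1. (The published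
statement also covers perfect fields of characteristic 2; this row is the case of characteristic ≠
2.) -/
theorem result
    (K : Type u) [Field K] (hK : ∀ n : ℕ, 0 < n → (X ^ n - 1 : K[X]).Splits) (h2 : (2 : K) ≠ 0)
    (V : Type v) [AddCommGroup V] [Module K V] [FiniteDimensional K V]
    (q : QuadraticForm K V) (hq : q.Anisotropic)
    (g : V ≃ₗ[K] V) (hg : ∀ x : V, q (g x) = q x) (d : ℕ) (hd : 0 < d) (hgd : g ^ d = 1) :
    g ^ 2 = 1 := by
  classical
  have hpowiso : ∀ (h : V ≃ₗ[K] V), (∀ x, q (h x) = q x) → ∀ n : ℕ, ∀ x, q ((h ^ n) x) = q x := by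
    intro h hh n
    induction n with
    | zero => intro x; simp
    | succ n ih =>
      intro x
      rw [pow_succ, LinearEquiv.mul_apply, ih, hh]
  -- reduce to an exponent invertible in K
  have hred : ∃ d' : ℕ, 0 < d' ∧ (d' : K) ≠ 0 ∧ g ^ d' = 1 := by
    obtain ⟨p, hchar⟩ := CharP.exists K
    rcases CharP.char_is_prime_or_zero K p with hp | hp0
    · have : Fact p.Prime := ⟨hp⟩
      have hp2 : p ≠ 2 := by
        rintro rfl
        apply h2
        have := CharP.cast_eq_zero K 2
        exact_mod_cast this
      obtain ⟨e, d', hd', hdd⟩ := Nat.exists_eq_pow_mul_and_not_dvd hd.ne' p hp.ne_one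
      have hppow : ∀ e : ℕ, ∀ h : V ≃ₗ[K] V, (∀ x, q (h x) = q x) → h ^ (p ^ e) = 1 → h = 1 := by
        intro e
        induction e with
        | zero => intro h _ hh; simpa using hh
        | succ e ih =>
          intro h hh hpow
          apply ih h hh
          apply Groth.Agent.S15164.result K p hp2 V q hq (h ^ (p ^ e)) (hpowiso h hh _)
          rw [← pow_mul, ← pow_succ]; exact hpow
      refine ⟨d', Nat.pos_of_ne_zero (by rintro rfl; simp at hd'), ?_, ?_⟩
      · rw [Ne, CharP.cast_eq_zero_iff K p]; exact hd'
      · apply hppow e (g ^ d') (hpowiso g hg d')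
        rw [← pow_mul, mul_comm, ← hdd]; exact hgd
    · subst hp0
      have : CharZero K := CharP.charP_to_charZero K
      exact ⟨d, hd, by exact_mod_cast hd.ne', hgd⟩
  obtain ⟨d', hd'pos, hd'K, hgd'⟩ := hred
  obtain ⟨ζ, hζ⟩ := Groth.Agent.Lib.helper7.H7_exists_primitiveRoot K d' hd'pos hd'K (hK d' hd'pos)
  have hTd : (g.toLinearMap : Module.End K V) ^ d' = 1 := by
    have h := congrArg (LinearEquiv.automorphismGroup.toLinearMapMonoidHom (R := K) (M := V)) hgd'
    rw [map_pow, map_one] at h
    exact h
  have hsq := Groth.Agent.Lib.helper7.H7_isometry_sq K V q hq g.toLinearMap (fun x => hg x) d' hd'pos ζ hζ hTd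
  ext x
  have := LinearMap.congr_fun hsq x
  rw [pow_two, Module.End.mul_apply, Module.End.one_apply] at this
  rw [pow_two, LinearEquiv.mul_apply]
  exact this

end Groth.Agent.S15165
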