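import Groth.Statements.S1517
import Mathlib

set_option autoImplicit false
universe u
open Brauer

namespace Groth.Agent.S1517

/-- Let A be a ring with no nontrivial two-sided ideals and M a nonzero right ideal, viewed as a right
A-module with endomorphism ring A'. Then every A'-linear endomorphism of M is right multiplication
by exactly one element of A; that is, the natural map from A to the bicommutant of M is a bijection. -/
theorem result (A : Type u) [Ring A] [IsSimpleRing A]
    (M : Submodule Aᵐᵒᵖ A) (hM : M ≠ ⊥)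
    (g : Module.End (Module.End Aᵐᵒᵖ M) M) :
    ∃! a : A, ∀ m : M, (g m : A) = (m : A) * a := by
  classical
  have hmul : ∀ (u : M) (x : A), (u : A) * x ∈ M := fun u x => by
    have := M.smul_mem (MulOpposite.op x) u.2
    simpa using this
  let lam : M → Module.End Aᵐᵒᵖ M := fun u =>
    { toFun := fun m => ⟨(u : A) * (m : A), hmul u m⟩
      map_add' := fun m m' => by ext; simp [mul_add]
      map_smul' := fun a m => by ext; simp [mul_assoc] }
  have hg : ∀ (u m : M), (g ⟨(u : A) * (m : A), hmul u m⟩ : A) = (u : A) * (g m : A) := by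
    intro u m
    have := g.map_smul (lam u) m
    exact congrArg Subtype.val this
  let I : Ideal A := Ideal.span (M : Set A)
  have hIr : ∀ x ∈ I, ∀ b : A, x * b ∈ I := by
    intro x hx b
    induction hx using Submodule.span_induction with
    | mem u hu => exact Ideal.subset_span (hmul ⟨u, hu⟩ b)
    | zero => simp
    | add x y _ _ hx hy => rw [add_mul]; exact I.add_mem hx hy
    | smul a x _ hx => rw [smul_eq_mul, mul_assoc]; exact I.mul_mem_left a hx
  let T : TwoSidedIdeal A := TwoSidedIdeal.mk' (I : Set A) I.zero_mem I.add_mem I.neg_mem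
    (fun h => I.mul_mem_left _ h) (fun h => hIr _ h _)
  have hT : T = ⊤ := by
    rcases eq_bot_or_eq_top T with h | h
    · exfalso
      apply hM
      rw [eq_bot_iff]
      intro u hu
      have hu' : u ∈ T := (TwoSidedIdeal.mem_mk' _ _ _ _ _ _ _).mpr (Ideal.subset_span hu)
      rw [h] at hu'
      simpa using hu'
    · exact h
  have h1 : (1 : A) ∈ I := by
    have : (1 : A) ∈ T := by rw [hT]; trivial
    exact (TwoSidedIdeal.mem_mk' _ _ _ _ _ _ _).mp this
  have hP : ∀ x ∈ I, ∃ y : A, ∀ m : M, (m : A) * y = (g ⟨(m : A) * x, hmul m x⟩ : A) := by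
    intro x hx
    induction hx using Submodule.span_induction with
    | mem u hu => exact ⟨(g ⟨u, hu⟩ : A), fun m => (hg m ⟨u, hu⟩).symm⟩
    | zero =>
      refine ⟨0, fun m => ?_⟩
      have : (⟨(m : A) * 0, hmul m 0⟩ : M) = 0 := by ext; simp
      rw [this, map_zero]; simp
    | add x y _ _ hx hy =>
      obtain ⟨y1, h1⟩ := hx
      obtain ⟨y2, h2⟩ := hy
      refine ⟨y1 + y2, fun m => ?_⟩
      have : (⟨(m : A) * (x + y), hmul m (x + y)⟩ : M) =
          ⟨(m : A) * x, hmul m x⟩ + ⟨(m : A) * y, hmul m y⟩ := by ext; simp [mul_add]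
      rw [this, map_add, mul_add, h1, h2]; rfl
    | smul a x _ hx =>
      obtain ⟨y, hy⟩ := hx
      refine ⟨a * y, fun m => ?_⟩
      have h3 := hy ⟨(m : A) * a, hmul m a⟩
      have : (⟨(m : A) * (a • x), hmul m (a • x)⟩ : M) =
          ⟨((⟨(m : A) * a, hmul m a⟩ : M) : A) * x, hmul _ x⟩ := by ext; simp [mul_assoc]
      rw [this, ← h3, mul_assoc]
  obtain ⟨y, hy⟩ := hP 1 h1
  have hy' : ∀ m : M, (g m : A) = (m : A) * y := by
    intro m
    rw [hy m]
    congr 2
    ext; simp
  refine ⟨y, hy', ?_⟩
  intro y' hy''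
  have hz : ∀ x ∈ I, x * (y' - y) = 0 := by
    intro x hx
    induction hx using Submodule.span_induction with
    | mem u hu =>
      have a1 := hy'' ⟨u, hu⟩
      have a2 := hy' ⟨u, hu⟩
      rw [mul_sub, ← a1, ← a2, sub_self]
    | zero => simp
    | add x y _ _ hx hy => rw [add_mul, hx, hy, add_zero]
    | smul a x _ hx => rw [smul_eq_mul, mul_assoc, hx, mul_zero]
  have := hz 1 h1
  rw [one_mul, sub_eq_zero] at this
  exact this

end Groth.Agent.S1517
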