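import Groth.Statements.S15170
import Mathlib
import Groth.Agent.Lib.helper7.DivAlg

set_option autoImplicit false
universe u v
open BddFin

namespace Groth.Agent.S15170

/-- (2) ⇒ (3): let K be a field with char K = p > 0 and A a central division K-algebra with dim_K A = p
^ 2. If v, u in A satisfy v ^ p ∈ K, u ^ p ∈ K and v * u - u * v = 1, then some Galois extension L
of K with [L : K] = p admits a K-algebra embedding into A (so A has a Galois subfield of degree p
over K). -/
theorem result
    (K : Type u) [Field K] (p : ℕ) [Fact p.Prime] [CharP K p]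
    (A : Type v) [DivisionRing A] [Algebra K A] [Algebra.IsCentral K A] [FiniteDimensional K A]
    (hA : Module.finrank K A = p ^ 2) (v u : A) (hv : v ^ p ∈ (algebraMap K A).range)
    (hu : u ^ p ∈ (algebraMap K A).range) (hvu : v * u - u * v = 1) :
    ∃ (L : Type v) (_ : Field L) (_ : Algebra K L), IsGalois K L ∧ Module.finrank K L = p ∧
      Nonempty (L →ₐ[K] A) := by
  classical
  open Groth.Agent.Lib.helper7 Polynomial in
  have hp : p.Prime := Fact.out
  have hnc : ∃ a b : A, a * b ≠ b * a := by
    refine ⟨v, u, fun h => ?_⟩
    rw [h, sub_self] at hvu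
    exact zero_ne_one hvu
  have hv0 : v ≠ 0 := by
    rintro rfl
    simp at hvu
  set w := u * v with hw
  have hvu' : v * u = u * v + 1 := by
    rw [← hvu]; abel
  have hconj : v * w * v⁻¹ = w + 1 := by
    rw [hw, ← mul_assoc, mul_assoc (v * u), mul_inv_cancel₀ hv0, mul_one, hvu']
  set f := minpoly K w with hf
  have hint : IsIntegral K w := Algebra.IsIntegral.isIntegral w
  have hirr : Fact (Irreducible f) := ⟨minpoly.irreducible hint⟩
  have hroot : ∀ i : ℕ, aeval (w + (i : A)) f = 0 := by
    intro i
    induction i with
    | zero => simp [hf, minpoly.aeval]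
    | succ i ih =>
      have hci : v * (i : A) * v⁻¹ = (i : A) := by
        rw [(Nat.cast_commute i v).symm.eq, mul_assoc, mul_inv_cancel₀ hv0, mul_one]
      have : w + ((i + 1 : ℕ) : A) = v * (w + (i : A)) * v⁻¹ := by
        rw [mul_add, add_mul, hconj, hci]; push_cast; abel
      rw [this, H7_conj_aeval K A v hv0, ih, mul_zero, zero_mul]
  set φ := H7_phi K A w with hφ
  set r := AdjoinRoot.root f with hr
  have hφr : φ r = w := H7_phi_root K A w
  have hinj : Function.Injective φ := H7_phi_injective K A w
  have hrootF : ∀ i : ℕ, aeval (r + (i : AdjoinRoot f)) f = 0 := by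
    intro i
    apply hinj
    rw [map_zero, ← Polynomial.aeval_algHom_apply, map_add, map_natCast, hφr]
    exact hroot i
  have hchar : CharP (AdjoinRoot f) p :=
    charP_of_injective_algebraMap (algebraMap K (AdjoinRoot f)).injective p
  set s : Finset (AdjoinRoot f) :=
    (Finset.range p).image (fun i : ℕ => r + (i : AdjoinRoot f)) with hs
  have hscard : s.card = p := by
    rw [hs, Finset.card_image_of_injOn, Finset.card_range]
    intro i hi j hj hij
    simp only [add_right_inj] at hij
    exact CharP.natCast_injOn_Iio (AdjoinRoot f) p (by simpa using hi) (by simpa using hj) hij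
  have hfm : f.map (algebraMap K (AdjoinRoot f)) ≠ 0 :=
    (Polynomial.map_ne_zero_iff (algebraMap K (AdjoinRoot f)).injective).mpr
      (minpoly.ne_zero hint)
  have hsub : s.val ≤ (f.map (algebraMap K (AdjoinRoot f))).roots := by
    rw [Multiset.le_iff_subset s.nodup]
    intro x hx
    rw [Finset.mem_val, hs, Finset.mem_image] at hx
    obtain ⟨i, _, rfl⟩ := hx
    rw [mem_roots hfm, IsRoot.def, eval_map_algebraMap]
    exact hrootF i
  have hdeg_ge : p ≤ f.natDegree := by
    calc p = s.card := hscard.symm
      _ = Multiset.card s.val := rfl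
      _ ≤ Multiset.card (f.map (algebraMap K (AdjoinRoot f))).roots := Multiset.card_le_card hsub
      _ ≤ (f.map (algebraMap K (AdjoinRoot f))).natDegree := card_roots' _
      _ = f.natDegree := natDegree_map _
  have hdeg : f.natDegree = p := by
    rcases H7_natDegree_minpoly_of_prime_sq K A p hp hA hnc w with h | h
    · have := hp.two_le
      rw [← hf] at h
      omega
    · exact h
  have hfin : Module.finrank K (AdjoinRoot f) = p := by
    rw [(AdjoinRoot.powerBasis (minpoly.ne_zero hint)).finrank, AdjoinRoot.powerBasis_dim, hdeg]
  have hroots : (f.map (algebraMap K (AdjoinRoot f))).roots = s.val := by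
    symm
    apply Multiset.eq_of_le_of_card_le hsub
    rw [Finset.card_val, hscard]
    calc Multiset.card (f.map (algebraMap K (AdjoinRoot f))).roots
        ≤ (f.map (algebraMap K (AdjoinRoot f))).natDegree := card_roots' _
      _ = p := by rw [natDegree_map, hdeg]
  have hsplits : (f.map (algebraMap K (AdjoinRoot f))).Splits := by
    rw [splits_iff_card_roots, hroots, Finset.card_val, hscard, natDegree_map, hdeg]
  have hsep : f.Separable := by
    rw [← Polynomial.separable_map (algebraMap K (AdjoinRoot f)),
      ← nodup_roots_iff_of_splits hfm hsplits, hroots]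
    exact s.nodup
  have hsf : f.IsSplittingField K (AdjoinRoot f) := by
    refine ⟨hsplits, ?_⟩
    rw [eq_top_iff, ← AdjoinRoot.adjoinRoot_eq_top (f := f)]
    apply Algebra.adjoin_mono
    rw [Set.singleton_subset_iff, Polynomial.mem_rootSet]
    refine ⟨minpoly.ne_zero hint, ?_⟩
    have := hrootF 0
    simpa using this
  have hgal : IsGalois K (AdjoinRoot f) := IsGalois.of_separable_splitting_field hsep
  exact H7_transfer_galois K A p (AdjoinRoot f) hfin φ

end Groth.Agent.S15170
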