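import Groth.Statements.S15172
import Mathlib

set_option autoImplicit false
universe u v
open Polynomial
open BddFin

namespace Groth.Agent.S15172

/-- Let L be a field of characteristic p > 0 and s a finite subset of L containing 0 and closed under
addition (a finite additive subgroup). Then the polynomial f = ∏_{a ∈ s} (X - a) is additive: f (x +
y) = f x + f y for all x, y in any commutative L-algebra (equivalently, as an identity of
polynomials in two variables). -/
theorem result
    (L : Type u) [Field L] (p : ℕ) [Fact p.Prime] [CharP L p] (s : Finset L) (h0 : (0 : L) ∈ s)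
    (hadd : ∀ a ∈ s, ∀ b ∈ s, a + b ∈ s) (R : Type v) [CommRing R] [Algebra L R] (x y : R) :
    aeval (x + y) (∏ a ∈ s, (X - C a)) = aeval x (∏ a ∈ s, (X - C a)) + aeval y (∏ a ∈ s, (X - C a)) := by
  classical
  -- closure under nsmul and negation
  have hnsmul : ∀ (n : ℕ) (b : L), b ∈ s → n • b ∈ s := by
    intro n b hb
    induction n with
    | zero => simpa using h0
    | succ n ih => rw [succ_nsmul]; exact hadd _ ih _ hb
  have hneg : ∀ b ∈ s, -b ∈ s := by
    intro b hb
    have hp1 : 1 ≤ p := (Fact.out : p.Prime).one_lt.le
    have h1 := hnsmul (p - 1) b hb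
    have h2 : (p - 1) • b = -b := by
      have h3 : ((p - 1) + 1) • b = 0 := by
        rw [Nat.sub_add_cancel hp1, nsmul_eq_mul, CharP.cast_eq_zero, zero_mul]
      rw [add_nsmul, one_nsmul] at h3
      exact eq_neg_of_add_eq_zero_left h3
    rwa [h2] at h1
  have hsub : ∀ a ∈ s, ∀ b ∈ s, a - b ∈ s := by
    intro a ha b hb
    rw [sub_eq_add_neg]; exact hadd _ ha _ (hneg _ hb)
  -- universal polynomials
  let Y : Polynomial L := Polynomial.X
  let F : Polynomial (Polynomial L) := ∏ a ∈ s, (X + C Y - C (C a))
  let G : Polynomial (Polynomial L) := ∏ a ∈ s, (X - C (C a))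
  let H : Polynomial L := ∏ a ∈ s, (X - C a)
  have hn : 0 < s.card := Finset.card_pos.mpr ⟨0, h0⟩
  have hFmonic : F.Monic := by
    apply Polynomial.monic_prod_of_monic
    intro a _
    have : (X + C Y - C (C a) : Polynomial (Polynomial L)) = X - C (C a - Y) := by
      rw [C_sub]; ring
    rw [this]; exact Polynomial.monic_X_sub_C _
  have hGmonic : G.Monic := Polynomial.monic_prod_of_monic _ _ fun a _ => Polynomial.monic_X_sub_C _
  have hFdeg : F.natDegree = s.card := by
    rw [Polynomial.natDegree_prod_of_monic]
    · have : ∀ a ∈ s, (X + C Y - C (C a) : Polynomial (Polynomial L)).natDegree = 1 := by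
        intro a _
        have : (X + C Y - C (C a) : Polynomial (Polynomial L)) = X - C (C a - Y) := by
          rw [C_sub]; ring
        rw [this]; exact Polynomial.natDegree_X_sub_C _
      rw [Finset.sum_congr rfl this]; simp
    · intro a _
      have : (X + C Y - C (C a) : Polynomial (Polynomial L)) = X - C (C a - Y) := by
        rw [C_sub]; ring
      rw [this]; exact Polynomial.monic_X_sub_C _
  have hGdeg : G.natDegree = s.card := by
    rw [Polynomial.natDegree_prod_of_monic _ _ fun a _ => Polynomial.monic_X_sub_C _]
    simp
  have hQ : F - G - C H = 0 := by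
    apply Polynomial.eq_zero_of_degree_lt_of_eval_index_eq_zero (v := (C : L → Polynomial L)) s
      (Polynomial.C_injective.injOn)
    · have hF0 : F ≠ 0 := hFmonic.ne_zero
      have hd : F.degree = G.degree := by
        rw [Polynomial.degree_eq_natDegree hF0, Polynomial.degree_eq_natDegree hGmonic.ne_zero,
          hFdeg, hGdeg]
      have h1 : (F - G).degree < F.degree :=
        Polynomial.degree_sub_lt_left hd hF0 (by rw [hFmonic.leadingCoeff, hGmonic.leadingCoeff])
      have hFd : F.degree = (s.card : WithBot ℕ) := by
        rw [Polynomial.degree_eq_natDegree hF0, hFdeg]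
      rw [hFd] at h1
      have h2 : (C H : Polynomial (Polynomial L)).degree < (s.card : WithBot ℕ) :=
        lt_of_le_of_lt Polynomial.degree_C_le (by exact_mod_cast hn)
      exact lt_of_le_of_lt (Polynomial.degree_sub_le _ _) (max_lt h1 h2)
    · intro b hb
      have e1 : Polynomial.eval (C b) F = H := by
        simp only [F, H, Polynomial.eval_prod, Polynomial.eval_sub, Polynomial.eval_add,
          Polynomial.eval_X, Polynomial.eval_C]
        refine Finset.prod_nbij' (fun a => a - b) (fun a => a + b) ?_ ?_ ?_ ?_ ?_
        · intro a ha; exact hsub a ha b hb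
        · intro a ha; exact hadd a ha b hb
        · intro a _; ring
        · intro a _; ring
        · intro a _
          simp only [Y, C_sub]; ring
      have e2 : Polynomial.eval (C b) G = 0 := by
        simp only [G, Polynomial.eval_prod, Polynomial.eval_sub, Polynomial.eval_X,
          Polynomial.eval_C]
        exact Finset.prod_eq_zero hb (sub_self _)
      rw [Polynomial.eval_sub, Polynomial.eval_sub, e1, e2, Polynomial.eval_C]
      ring
  -- specialize
  let ψ : Polynomial (Polynomial L) →+* R := Polynomial.eval₂RingHom (Polynomial.aeval y : Polynomial L →ₐ[L] R).toRingHom x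
  have hψX : ψ X = x := by simp [ψ]
  have hψCY : ψ (C Y) = y := by simp [ψ, Y]
  have hψCC : ∀ a : L, ψ (C (C a)) = algebraMap L R a := by intro a; simp [ψ]
  have hψF : ψ F = aeval (x + y) (∏ a ∈ s, (X - C a)) := by
    simp only [F, map_prod, map_sub, map_add, hψX, hψCY, hψCC, Polynomial.aeval_X,
      Polynomial.aeval_C]
  have hψG : ψ G = aeval x (∏ a ∈ s, (X - C a)) := by
    simp only [G, map_prod, map_sub, hψX, hψCC, Polynomial.aeval_X, Polynomial.aeval_C]
  have hψH : ψ (C H) = aeval y (∏ a ∈ s, (X - C a)) := by
    simp [ψ, H]
  have := congrArg ψ hQ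
  rw [map_sub, map_sub, map_zero, hψF, hψG, hψH] at this
  linear_combination this

end Groth.Agent.S15172
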