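import Groth.Statements.S15177
import Mathlib
import Groth.Agent.S7987
import Groth.Agent.Lib.helper9.H9_ActHom

set_option autoImplicit false
universe u v
open BddFin

namespace Groth.Agent.S15177

/-- Let K be a field and Γ a unipotent linear algebraic group over K, given here by its coordinate Hopf
algebra A (a finitely generated, formally smooth commutative Hopf algebra over K all of whose
non-zero finite-dimensional comodules have a non-zero fixed vector). Then the group Γ(K) of K-points
(K-algebra maps A → K under convolution) has no non-trivial element of finite order coprime to the
characteristic of K: an element of finite order whose order is non-zero in K is the identity. -/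
theorem result
    (K : Type u) [Field K] (A : Type v) [CommRing A] [HopfAlgebra K A] [Algebra.FiniteType K A]
    [Algebra.FormallySmooth K A] (hU : HopfRep.IsUnipotent K A)
    (g : WithConv (A →ₐ[K] K)) (hg : IsOfFinOrder g) (hcop : ((orderOf g : ℕ) : K) ≠ 0) : g = 1 := by
  apply H9_ActHom.eq_one_of_act_eq_one
  intro W _ _ _ hfin
  haveI := hfin
  have h1 : H9_ActHom.actHom W g ^ orderOf g = 1 := by
    rw [← map_pow, pow_orderOf_eq_one, map_one]
  have h2 : IsNilpotent (H9_ActHom.actHom W g - 1) :=
    Groth.Agent.S7987.result K A hU g.ofConv W
  exact H9_ActHom.eq_one_of_pow_eq_one (K := K) _ h2 _ h1 hcop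

end Groth.Agent.S15177
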