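import Groth.Statements.S15183
import Mathlib
import Groth.Agent.Lib.helper7.PrimRoot

set_option autoImplicit false
universe u v
open Polynomial
open BddFin

namespace Groth.Agent.S15183

/-- Let K be a field such that K contains all roots of unity (for every n ≥ 1 the polynomial X^n − 1
splits into linear factors over K), and A a finite-dimensional central simple K-algebra which is not
a division algebra (some non-zero element is not a unit). Then the quotient of the unit group of A
by that of K has elements of every finite order invertible in K: for every d ≥ 1 with d ≠ 0 in K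
there is a unit x of A with x ^ d in K and x ^ k not in K for 0 < k < d. (The published assertion is
phrased for the automorphism group of the Severi–Brauer variety of A, which is isomorphic to the
units of A modulo those of K; this row is the algebra-side statement its proof establishes.) -/
theorem result
    (K : Type u) [Field K] (hK : ∀ n : ℕ, 0 < n → (X ^ n - 1 : K[X]).Splits)
    (A : Type v) [Ring A] [Algebra K A] [Algebra.IsCentral K A] [IsSimpleRing A] [FiniteDimensional K A]
    (hA : ∃ y : A, y ≠ 0 ∧ ¬ IsUnit y) (d : ℕ) (hd : 0 < d) (hdK : (d : K) ≠ 0) :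
    ∃ x : A, IsUnit x ∧ x ^ d ∈ (algebraMap K A).range ∧
      ∀ k : ℕ, 0 < k → k < d → x ^ k ∉ (algebraMap K A).range := by
  classical
  obtain ⟨y, hy0, hyu⟩ := hA
  have : IsArtinianRing A := IsArtinianRing.of_finite K A
  obtain ⟨e, he, hI⟩ := IsSemisimpleRing.ideal_eq_span_idempotent (Ideal.span ({y} : Set A))
  have he0 : e ≠ 0 := by
    rintro rfl
    have : y ∈ Ideal.span ({y} : Set A) := Ideal.subset_span rfl
    rw [hI, Ideal.span_singleton_eq_bot.mpr rfl] at this
    exact hy0 ((Submodule.mem_bot A).mp this)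
  have he1 : e ≠ 1 := by
    rintro rfl
    have : (1 : A) ∈ Ideal.span ({y} : Set A) := by rw [hI]; exact Ideal.subset_span rfl
    rw [Ideal.mem_span_singleton'] at this
    obtain ⟨a, ha⟩ := this
    exact hyu ⟨⟨y, a, mul_eq_one_comm.mp ha, ha⟩, rfl⟩
  have hinj : Function.Injective (algebraMap K A) := (algebraMap K A).injective
  have heK : e ∉ (algebraMap K A).range := by
    rintro ⟨c, rfl⟩
    have hc : c * c = c := by
      apply hinj
      rw [map_mul]
      exact he
    have : c = 0 ∨ c = 1 := by
      have h : c * (c - 1) = 0 := by rw [mul_sub, hc, mul_one, sub_self]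
      rcases mul_eq_zero.mp h with h | h
      · left; exact h
      · right; exact sub_eq_zero.mp h
    rcases this with rfl | rfl
    · exact he0 (map_zero _)
    · exact he1 (map_one _)
  obtain ⟨ζ, hζ⟩ := Groth.Agent.Lib.helper7.H7_exists_primitiveRoot K d hd hdK (hK d hd)
  have hpow : ∀ k : ℕ, (1 + (ζ - 1) • e) ^ k = 1 + (ζ ^ k - 1) • e := by
    intro k
    induction k with
    | zero => simp
    | succ k ih =>
      rw [pow_succ, ih]
      have hee : e * e = e := he
      have : (1 + (ζ ^ k - 1) • e) * (1 + (ζ - 1) • e) =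
          1 + ((ζ ^ k - 1) + (ζ - 1) + (ζ ^ k - 1) * (ζ - 1)) • e := by
        simp only [mul_add, add_mul, mul_one, one_mul, smul_mul_smul_comm, hee, add_smul]
        abel
      rw [this]
      congr 2
      ring
  have hd1 : (1 + (ζ - 1) • e) ^ d = 1 := by
    rw [hpow, hζ.pow_eq_one, sub_self, zero_smul, add_zero]
  refine ⟨1 + (ζ - 1) • e, ?_, ?_, ?_⟩
  · obtain ⟨d', rfl⟩ : ∃ d', d = d' + 1 := ⟨d - 1, by omega⟩
    refine ⟨⟨1 + (ζ - 1) • e, (1 + (ζ - 1) • e) ^ d', ?_, ?_⟩, rfl⟩
    · rw [← pow_succ']; exact hd1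
    · rw [← pow_succ]; exact hd1
  · rw [hd1]; exact ⟨1, map_one _⟩
  · intro k hk0 hkd hmem
    rw [hpow] at hmem
    obtain ⟨c, hc⟩ := hmem
    have hne : ζ ^ k - 1 ≠ 0 := sub_ne_zero.mpr (hζ.pow_ne_one_of_pos_of_lt hk0.ne' hkd)
    apply heK
    refine ⟨(ζ ^ k - 1)⁻¹ * (c - 1), ?_⟩
    have h1 : (ζ ^ k - 1) • e = algebraMap K A (c - 1) := by
      rw [map_sub, map_one, hc]; abel
    have h2 : e = (ζ ^ k - 1)⁻¹ • ((ζ ^ k - 1) • e) := by
      rw [smul_smul, inv_mul_cancel₀ hne, one_smul]
    rw [h2, h1, map_mul, Algebra.smul_def]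

end Groth.Agent.S15183
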