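import Groth.Statements.S15224
import Mathlib

set_option autoImplicit false
open Finset
open W4c2rk2extmaps

namespace Groth.Agent.S15224

/-- In a commutative ℚ-algebra R let y be an element and put c_k = y^k / k! for every k. Then for k ≥ 2,
Σ_{i=1}^{k-1} (-1)^(i-1) c_i c_(k-i) + (-1)^(k-1) c_k = c_k. (The published statement concerns the
Chern classes of a specific vector bundle on a Jacobian, which are of the form c_k = (4θ)^k / k!;
the printed argument establishes the identity for every sequence of this form in a commutative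
ℚ-algebra, which is the form stated here.) -/
theorem result (R : Type*) [CommRing R] [Algebra ℚ R] (y : R)
    (c : ℕ → R) (hc : ∀ k : ℕ, c k = ((Nat.factorial k : ℚ)⁻¹) • y ^ k)
    (k : ℕ) (hk : 2 ≤ k) :
    (∑ i ∈ Finset.Ico 1 k, (-1 : R) ^ (i - 1) * c i * c (k - i)) + (-1 : R) ^ (k - 1) * c k = c k := by
  have hk1 : 1 ≤ k := by omega
  -- rational identity
  have hrat : (∑ i ∈ Finset.Ico 1 k, (-1 : ℚ) ^ (i - 1) * (k.choose i : ℚ)) + (-1 : ℚ) ^ (k - 1) = 1 := by
    have h := Int.alternating_sum_range_choose (n := k)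
    have hk0 : k ≠ 0 := by omega
    rw [if_neg hk0] at h
    have hq : (∑ m ∈ Finset.range (k + 1), ((-1 : ℚ) ^ m * (k.choose m : ℚ))) = 0 := by
      have := congrArg (Int.cast : ℤ → ℚ) h
      push_cast at this
      exact this
    rw [Finset.range_eq_Ico, Finset.sum_Ico_succ_top (Nat.zero_le k),
      Finset.sum_eq_sum_Ico_succ_bot (by omega : 0 < k)] at hq
    simp only [pow_zero, Nat.choose_zero_right, Nat.cast_one, mul_one, Nat.choose_self, zero_add] at hq
    have e1 : ∀ i ∈ Finset.Ico 1 k, (-1 : ℚ) ^ (i - 1) * (k.choose i : ℚ) = -((-1 : ℚ) ^ i * (k.choose i : ℚ)) := by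
      intro i hi
      rw [Finset.mem_Ico] at hi
      obtain ⟨j, rfl⟩ := Nat.exists_eq_add_of_le' hi.1
      rw [Nat.add_sub_cancel, pow_succ]; ring
    rw [Finset.sum_congr rfl e1, Finset.sum_neg_distrib]
    obtain ⟨j, rfl⟩ := Nat.exists_eq_add_of_le' hk1
    rw [Nat.add_sub_cancel]
    rw [pow_succ] at hq
    linarith
  set z : R := c k with hz
  have hprod : ∀ i ∈ Finset.Ico 1 k, (-1 : R) ^ (i - 1) * c i * c (k - i) =
      ((-1 : ℚ) ^ (i - 1) * (k.choose i : ℚ)) • z := by
    intro i hi
    rw [Finset.mem_Ico] at hi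
    have hik : i ≤ k := hi.2.le
    rw [hz, hc i, hc (k - i), hc k]
    have hy : y ^ k = y ^ i * y ^ (k - i) := by rw [← pow_add]; congr 1; omega
    have hch : (k.choose i : ℚ) = (k.factorial : ℚ) / ((i.factorial : ℚ) * ((k - i).factorial : ℚ)) := by
      rw [Nat.cast_choose ℚ hik]
    have hfi : (i.factorial : ℚ) ≠ 0 := by exact_mod_cast Nat.factorial_ne_zero i
    have hfk : (k.factorial : ℚ) ≠ 0 := by exact_mod_cast Nat.factorial_ne_zero k
    have hfki : ((k - i).factorial : ℚ) ≠ 0 := by exact_mod_cast Nat.factorial_ne_zero (k - i)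
    have hneg : (-1 : R) ^ (i - 1) = ((-1 : ℚ) ^ (i - 1)) • (1 : R) := by
      rw [Algebra.smul_def, mul_one, map_pow, map_neg, map_one]
    rw [hneg, hy, hch]
    simp only [smul_mul_assoc, mul_smul_comm, one_mul, smul_smul]
    congr 1
    field_simp
  rw [Finset.sum_congr rfl hprod, ← Finset.sum_smul]
  have hneg : (-1 : R) ^ (k - 1) = ((-1 : ℚ) ^ (k - 1)) • (1 : R) := by
    rw [Algebra.smul_def, mul_one, map_pow, map_neg, map_one]
  rw [hneg, smul_mul_assoc, one_mul, ← add_smul, hrat, one_smul]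

end Groth.Agent.S15224
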