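import Groth.Statements.S15229
import Mathlib

set_option autoImplicit false
open Finset
open W4c2rk2extmaps

namespace Groth.Agent.S15229

/-- In a commutative ℚ-algebra R let θ, η be elements and g a natural number, and put c_k = (4θ)^k / k!.
Suppose θ^(g+1) = 0 and that η satisfies the relation η^(g+1) = Σ_{i=1}^{g+1} (-1)^(i-1) c_i
η^(g+1-i). Then η^(g+k) θ^(g-k) = c_k η^g θ^(g-k) for every 1 ≤ k ≤ g. (The published statement
concerns the first Chern class η of the tautological line bundle on a projective bundle P(U) over a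
g-dimensional Jacobian, with c_k the Chern classes of U, which are (4θ)^k / k!; there θ^(g+1)
vanishes for dimension reasons and the displayed relation is the projective-bundle relation, and the
printed argument derives the identity from exactly these three inputs, which is the form stated
here.) -/
theorem result (R : Type*) [CommRing R] [Algebra ℚ R]
    (θ η : R) (g : ℕ) (c : ℕ → R) (hc : ∀ k : ℕ, c k = ((Nat.factorial k : ℚ)⁻¹) • ((4 : R) * θ) ^ k)
    (hθ : θ ^ (g + 1) = 0)
    (hrel : η ^ (g + 1) = ∑ i ∈ Finset.Ico 1 (g + 2), (-1 : R) ^ (i - 1) * c i * η ^ (g + 1 - i))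
    (k : ℕ) (hk1 : 1 ≤ k) (hkg : k ≤ g) :
    η ^ (g + k) * θ ^ (g - k) = c k * η ^ g * θ ^ (g - k) := by
  classical
  obtain ⟨q, hq⟩ : ∃ q : ℕ → ℚ, ∀ i, q i = (4 : ℚ) ^ i / (Nat.factorial i : ℚ) := ⟨_, fun _ => rfl⟩
  have hc' : ∀ i, c i = q i • θ ^ i := by
    intro i
    rw [hc, hq, mul_pow, div_eq_inv_mul, mul_smul]
    congr 1
    rw [Algebra.smul_def, map_pow, map_ofNat]
  have hbin : ∀ k : ℕ, 1 ≤ k → ∑ i ∈ Ico 1 (k + 1), (-1 : ℚ) ^ (i - 1) * (k.choose i : ℚ) = 1 := by
    intro k hk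
    have h1 := Int.alternating_sum_range_choose_of_ne (n := k) (by omega)
    have h2 : (∑ m ∈ range (k + 1), ((-1 : ℚ) ^ m * (k.choose m : ℚ))) = 0 := by
      have := congrArg (Int.cast : ℤ → ℚ) h1
      push_cast at this
      exact this
    rw [Finset.range_eq_Ico, Finset.sum_eq_sum_Ico_succ_bot (by omega)] at h2
    simp only [pow_zero, Nat.choose_zero_right, Nat.cast_one, mul_one, zero_add] at h2
    have h3 : ∑ i ∈ Ico 1 (k + 1), (-1 : ℚ) ^ (i - 1) * (k.choose i : ℚ) = -∑ i ∈ Ico 1 (k + 1), (-1 : ℚ) ^ i * (k.choose i : ℚ) := by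
      rw [← Finset.sum_neg_distrib]
      apply Finset.sum_congr rfl
      intro i hi
      rw [Finset.mem_Ico] at hi
      obtain ⟨j, rfl⟩ : ∃ j, i = j + 1 := ⟨i - 1, by omega⟩
      rw [Nat.add_sub_cancel, pow_succ]; ring
    rw [h3]; linarith
  have hqq : ∀ k i : ℕ, i ≤ k → q i * q (k - i) = q k * (k.choose i : ℚ) := by
    intro k i hik
    rw [hq, hq, hq]
    have h1 := Nat.choose_mul_factorial_mul_factorial hik
    have h2 : ((k.choose i : ℚ)) * (i.factorial : ℚ) * ((k - i).factorial : ℚ) = (k.factorial : ℚ) := by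
      exact_mod_cast h1
    have h3 : (4 : ℚ) ^ i * 4 ^ (k - i) = 4 ^ k := by rw [← pow_add]; congr 1; omega
    have hi0 : (i.factorial : ℚ) ≠ 0 := Nat.cast_ne_zero.2 (Nat.factorial_ne_zero _)
    have hki0 : ((k - i).factorial : ℚ) ≠ 0 := Nat.cast_ne_zero.2 (Nat.factorial_ne_zero _)
    have hk0 : (k.factorial : ℚ) ≠ 0 := Nat.cast_ne_zero.2 (Nat.factorial_ne_zero _)
    have hC0 : (k.choose i : ℚ) ≠ 0 := Nat.cast_ne_zero.2 (Nat.choose_pos hik).ne'
    rw [div_mul_div_comm, h3, ← h2]
    field_simp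
  -- main claim
  have main : ∀ k : ℕ, k ≤ g → η ^ (g + k) * θ ^ (g - k) = q k • (η ^ g * θ ^ g) := by
    intro k
    induction k using Nat.strong_induction_on with
    | _ k ih =>
      intro hkg
      rcases Nat.eq_zero_or_pos k with rfl | hkpos
      · rw [hq]; simp
      have e1 : η ^ (g + k) * θ ^ (g - k) = η ^ (g + 1) * (η ^ (k - 1) * θ ^ (g - k)) := by
        rw [← mul_assoc, ← pow_add]; congr 2; omega
      rw [e1, hrel, Finset.sum_mul]
      have hterm : ∀ i ∈ Ico 1 (g + 2), (-1 : R) ^ (i - 1) * c i * η ^ (g + 1 - i) * (η ^ (k - 1) * θ ^ (g - k))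
          = if i ≤ k then ((-1 : ℚ) ^ (i - 1) * (q k * (k.choose i : ℚ))) • (η ^ g * θ ^ g) else 0 := by
        intro i hi
        rw [Finset.mem_Ico] at hi
        by_cases hik : i ≤ k
        · rw [if_pos hik, hc']
          have e2 : η ^ (g + 1 - i) * η ^ (k - 1) = η ^ (g + (k - i)) := by
            rw [← pow_add]; congr 1; omega
          have e3 : θ ^ i * θ ^ (g - k) = θ ^ (g - (k - i)) := by
            rw [← pow_add]; congr 1; omega
          have e4 : (-1 : R) ^ (i - 1) * (q i • θ ^ i) * η ^ (g + 1 - i) * (η ^ (k - 1) * θ ^ (g - k))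
              = (-1 : R) ^ (i - 1) * (q i • (η ^ (g + (k - i)) * θ ^ (g - (k - i)))) := by
            rw [← e2, ← e3]
            simp only [smul_mul_assoc, mul_smul_comm]
            ring_nf
          rw [e4, ih (k - i) (by omega) (by omega), smul_smul, hqq k i hik, mul_smul]
          have e5 : (-1 : R) ^ (i - 1) = ((-1 : ℚ) ^ (i - 1)) • (1 : R) := by
            rw [← Algebra.algebraMap_eq_smul_one]; simp
          rw [e5, smul_mul_assoc, one_mul, smul_smul, smul_smul, mul_assoc]
        · rw [if_neg hik, hc']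
          have e6 : θ ^ i * θ ^ (g - k) = θ ^ (g + 1) * θ ^ (i - k - 1) := by
            rw [← pow_add, ← pow_add]; congr 1; omega
          have e7 : (-1 : R) ^ (i - 1) * (q i • θ ^ i) * η ^ (g + 1 - i) * (η ^ (k - 1) * θ ^ (g - k))
              = (-1 : R) ^ (i - 1) * (q i • (θ ^ i * θ ^ (g - k))) * η ^ (g + 1 - i) * η ^ (k - 1) := by
            simp only [smul_mul_assoc, mul_smul_comm]
            ring_nf
          rw [e7, e6, hθ]; simp
      rw [Finset.sum_congr rfl hterm, ← Finset.sum_filter]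
      have hfilt : (Ico 1 (g + 2)).filter (fun i => i ≤ k) = Ico 1 (k + 1) := by
        ext i; simp only [Finset.mem_filter, Finset.mem_Ico]; omega
      rw [hfilt, ← Finset.sum_smul]
      congr 1
      have : ∑ i ∈ Ico 1 (k + 1), (-1 : ℚ) ^ (i - 1) * (q k * (k.choose i : ℚ)) = q k * ∑ i ∈ Ico 1 (k + 1), (-1 : ℚ) ^ (i - 1) * (k.choose i : ℚ) := by
        rw [Finset.mul_sum]; apply Finset.sum_congr rfl; intro i _; ring
      rw [this, hbin k hkpos, mul_one]
  rw [main k hkg, hc']
  have : θ ^ k * θ ^ (g - k) = θ ^ g := by rw [← pow_add]; congr 1; omega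
  rw [← this]
  simp only [smul_mul_assoc, mul_smul_comm]
  congr 1; ring

end Groth.Agent.S15229
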