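import Groth.Statements.S15233
import Mathlib.Algebra.Category.Grp.Zero

set_option autoImplicit false
universe u
open CategoryTheory CategoryTheory.Limits Opposite
open CohSite

namespace Groth.Agent.S15233

/-- Let C be a small category with a Grothendieck topology J, and let B be a class of objects forming a
prebasis: for every object V and every covering sieve S of V, the arrows of S whose domain lies in B
generate a covering sieve of V. If F is a presheaf of abelian groups on C such that F(U) = 0 for
every object U in B, then the sheafification of F is zero. -/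
theorem result {C : Type u} [SmallCategory C] (J : GrothendieckTopology C)
    (B : ObjectProperty C)
    (hB : ∀ (V : C) (S : Sieve V), S ∈ J V →
      Sieve.generate (fun (U : C) => {g : U ⟶ V | S.arrows g ∧ B U}) ∈ J V)
    (F : Cᵒᵖ ⥤ AddCommGrpCat.{u}) (hF : ∀ U : C, B U → IsZero (F.obj (op U))) :
    IsZero ((presheafToSheaf J AddCommGrpCat.{u}).obj F) := by
  -- every morphism from `F` to a sheaf vanishes
  have key : ∀ (G : Sheaf J AddCommGrpCat.{u}) (φ : F ⟶ G.obj), φ = 0 := by
    intro G φ
    ext ⟨V⟩ s
    have hsep := Presheaf.IsSheaf.isSeparated (J := J) G.property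
    refine hsep V _ (hB V ⊤ (J.top_mem V)) _ _ ?_
    rintro Y f ⟨U, h, g, ⟨-, hU⟩, rfl⟩
    have h0 : (F.map g.op) s = 0 := by
      have : Subsingleton (F.obj (op U)) := by
        exact AddCommGrpCat.subsingleton_of_isZero (hF U hU)
      exact Subsingleton.elim _ _
    have hnat : G.obj.map g.op (φ.app (op V) s) = φ.app (op U) (F.map g.op s) := by
      have := congrArg (fun k => k s) (congrArg (fun k => k.hom) (φ.naturality g.op))
      simpa using this.symm
    rw [op_comp, G.obj.map_comp]
    simp only [AddCommGrpCat.hom_comp, AddMonoidHom.coe_comp, Function.comp_apply]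
    rw [hnat, h0]
    simp
  rw [IsZero.iff_id_eq_zero]
  apply ((sheafificationAdjunction J AddCommGrpCat.{u}).homEquiv F _).injective
  rw [key _ ((sheafificationAdjunction J AddCommGrpCat.{u}).homEquiv F _ (𝟙 _)),
    key _ ((sheafificationAdjunction J AddCommGrpCat.{u}).homEquiv F _ 0)]

end Groth.Agent.S15233
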