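import Groth.Statements.S15285
import Mathlib

set_option autoImplicit false
universe v v' u u'
open PicCat

namespace Groth.Agent.S15285

open CategoryTheory MonoidalCategory in
/-- Let C and D be Picard categories (monoidal groupoids in which tensoring on either side with any
object is an equivalence of categories) and F : C ⥤ D a lax monoidal functor. If F induces a
bijection on isomorphism classes of objects (it is essentially surjective, and F X ≅ F Y only when X
≅ Y) and a bijection on endomorphisms of the unit object, then F is an equivalence of categories. -/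
theorem result
    {C : Type u} [Category.{v} C] [MonoidalCategory C] [IsGroupoid C]
    {D : Type u'} [Category.{v'} D] [MonoidalCategory D] [IsGroupoid D]
    (hC : ∀ X : C, (tensorLeft X).IsEquivalence ∧ (tensorRight X).IsEquivalence)
    (hD : ∀ X : D, (tensorLeft X).IsEquivalence ∧ (tensorRight X).IsEquivalence)
    (F : C ⥤ D) [F.LaxMonoidal] [F.EssSurj]
    (h0 : ∀ X Y : C, Nonempty (F.obj X ≅ F.obj Y) → Nonempty (X ≅ Y))
    (h1 : Function.Bijective (fun φ : 𝟙_ C ⟶ 𝟙_ C => F.map φ)) :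
    F.IsEquivalence := by
  -- every endomorphism of X comes from an endomorphism of the unit
  have hCend : ∀ (X : C) (a : X ⟶ X), ∃ φ : 𝟙_ C ⟶ 𝟙_ C,
      a = (λ_ X).inv ≫ (φ ▷ X) ≫ (λ_ X).hom := by
    intro X a
    haveI := (hC X).2
    obtain ⟨φ, hφ⟩ := (tensorRight X).map_surjective ((λ_ X).hom ≫ a ≫ (λ_ X).inv)
    refine ⟨φ, ?_⟩
    have : φ ▷ X = (λ_ X).hom ≫ a ≫ (λ_ X).inv := hφ
    rw [this]
    simp
  have hDend : ∀ (Y : D) (T : D) (ν : T ⊗ Y ≅ Y) (b : Y ⟶ Y), ∃ ψ : T ⟶ T,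
      b = ν.inv ≫ (ψ ▷ Y) ≫ ν.hom := by
    intro Y T ν b
    haveI := (hD Y).2
    obtain ⟨ψ, hψ⟩ := (tensorRight Y).map_surjective (ν.hom ≫ b ≫ ν.inv)
    refine ⟨ψ, ?_⟩
    have : ψ ▷ Y = ν.hom ≫ b ≫ ν.inv := hψ
    rw [this]
    simp
  -- the comparison iso
  have hiso : ∀ {A B : D} (f : A ⟶ B), IsIso f := fun f => IsGroupoid.all_isIso f
  have hμ : ∀ (X : C) (φ : 𝟙_ C ⟶ 𝟙_ C),
      F.map φ ▷ F.obj X ≫ Functor.LaxMonoidal.μ F (𝟙_ C) X =
        Functor.LaxMonoidal.μ F (𝟙_ C) X ≫ F.map (φ ▷ X) :=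
    fun X φ => Functor.LaxMonoidal.μ_natural_left F φ X
  have hfaith : F.Faithful := by
    constructor
    intro X Y f g hfg
    haveI : IsIso g := IsGroupoid.all_isIso g
    obtain ⟨φ, hφ⟩ := hCend X (f ≫ inv g)
    have hone : F.map (f ≫ inv g) = 𝟙 _ := by
      rw [F.map_comp, hfg, ← F.map_comp, IsIso.hom_inv_id, F.map_id]
    rw [hφ, F.map_comp, F.map_comp] at hone
    have h2 : F.map (φ ▷ X) = 𝟙 _ := by
      have e1 : F.map (λ_ X).hom ≫ F.map (λ_ X).inv = 𝟙 _ := by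
        rw [← F.map_comp, Iso.hom_inv_id, F.map_id]
      calc F.map (φ ▷ X) = F.map (λ_ X).hom ≫
            (F.map (λ_ X).inv ≫ F.map (φ ▷ X) ≫ F.map (λ_ X).hom) ≫ F.map (λ_ X).inv := by
            simp only [Category.assoc, e1, reassoc_of% e1, Category.comp_id]
        _ = 𝟙 _ := by rw [hone, Category.id_comp, e1]
    have h3 : F.map φ ▷ F.obj X = 𝟙 _ := by
      haveI := hiso (Functor.LaxMonoidal.μ F (𝟙_ C) X)
      rw [← cancel_mono (Functor.LaxMonoidal.μ F (𝟙_ C) X), hμ, h2, Category.comp_id,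
        Category.id_comp]
    have h4 : F.map φ = F.map (𝟙 _) := by
      haveI := (hD (F.obj X)).2
      apply (tensorRight (F.obj X)).map_injective
      change F.map φ ▷ F.obj X = F.map (𝟙 _) ▷ F.obj X
      rw [h3, F.map_id, id_whiskerRight]
    have h5 : φ = 𝟙 _ := h1.1 h4
    rw [h5, id_whiskerRight, Category.id_comp, Iso.inv_hom_id] at hφ
    rw [← cancel_mono (inv g), hφ, IsIso.hom_inv_id]
  have hfull : F.Full := by
    constructor
    intro X Y g
    obtain ⟨e⟩ := h0 X Y ⟨by haveI := hiso g; exact asIso g⟩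
    haveI := hiso (Functor.LaxMonoidal.μ F (𝟙_ C) X)
    let ν : F.obj (𝟙_ C) ⊗ F.obj X ≅ F.obj X :=
      asIso (Functor.LaxMonoidal.μ F (𝟙_ C) X) ≪≫ F.mapIso (λ_ X)
    obtain ⟨ψ, hψ⟩ := hDend (F.obj X) (F.obj (𝟙_ C)) ν (g ≫ F.map e.inv)
    obtain ⟨φ, rfl⟩ := h1.2 ψ
    refine ⟨((λ_ X).inv ≫ (φ ▷ X) ≫ (λ_ X).hom) ≫ e.hom, ?_⟩
    have h2 : F.map ((λ_ X).inv ≫ (φ ▷ X) ≫ (λ_ X).hom) = g ≫ F.map e.inv := by
      rw [hψ]
      simp only [ν, Iso.trans_inv, Iso.trans_hom, asIso_hom, asIso_inv, Functor.mapIso_hom,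
        Functor.mapIso_inv, Category.assoc, F.map_comp]
      congr 1
      rw [← Category.assoc (F.map φ ▷ F.obj X), hμ X φ, Category.assoc, IsIso.inv_hom_id_assoc]
    rw [F.map_comp, h2, Category.assoc, ← F.map_comp, Iso.inv_hom_id, F.map_id, Category.comp_id]
  exact { faithful := hfaith, full := hfull, essSurj := inferInstance }

end Groth.Agent.S15285
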