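import Groth.Statements.S1529
import Mathlib
import Groth.Agent.Lib.helper2.ZeroDim

set_option autoImplicit false
universe u
open CategoryTheory CategoryTheory.Limits AlgebraicGeometry
open Variety

namespace Groth.Agent.S1529

/-- A scheme of finite type over a field whose underlying topological space has Krull dimension at most
zero is affine, and its structure morphism is finite. -/
theorem result (k : Type u) [Field k] (X : Scheme.{u}) [X.Over (Spec (CommRingCat.of k))]
    [LocallyOfFiniteType (X ↘ (Spec (CommRingCat.of k)))] [QuasiCompact (X ↘ (Spec (CommRingCat.of k)))]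
    (hdim : topologicalKrullDim X ≤ 0) :
    IsAffine X ∧ IsFinite (X ↘ (Spec (CommRingCat.of k))) := by
  let p := X ↘ Spec (CommRingCat.of k)
  haveI : IsLocallyNoetherian X := LocallyOfFiniteType.isLocallyNoetherian p
  haveI : IsLocallyArtinian X := IsLocallyArtinian.of_topologicalKrullDim_le_zero hdim
  haveI : DiscreteTopology X := inferInstance
  haveI : T2Space X := inferInstance
  haveI : CompactSpace X := QuasiCompact.compactSpace_of_compactSpace p
  have haff : IsAffineOpen (⊤ : X.Opens) :=
    Groth.Agent.H2.H2_isAffineOpen_of_isCompact_of_t2 X ⊤ (by simpa using isCompact_univ)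
  haveI : IsAffine X := by
    have : IsAffine (⊤ : X.Opens).toScheme := haff
    exact .of_isIso (X.topIso.inv)
  refine ⟨inferInstance, ?_⟩
  rw [HasAffineProperty.iff_of_isAffine (P := @IsFinite)]
  refine ⟨inferInstance, ?_⟩
  have hft : (p.appTop).hom.FiniteType :=
    (HasRingHomProperty.iff_of_isAffine (P := @LocallyOfFiniteType)).mp inferInstance
  haveI : IsArtinianRing Γ(Spec (CommRingCat.of k), ⊤) :=
    (Scheme.ΓSpecIso (.of k)).commRingCatIsoToRingEquiv.symm.surjective.isArtinianRing
  haveI : IsArtinianRing Γ(X, ⊤) := inferInstance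
  letI := (p.appTop).hom.toAlgebra
  haveI : Algebra.FiniteType Γ(Spec (.of k), ⊤) Γ(X, ⊤) := hft
  exact (Module.finite_iff_isArtinianRing _ _).mpr inferInstance

end Groth.Agent.S1529
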