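import Groth.Statements.S15293
import Mathlib

set_option autoImplicit false
universe u
open DeRham

namespace Groth.Agent.S15293

open exteriorPower in
/-- For a commutative square of ring maps R → A → B, R → S → B (B an algebra over R, A and S
compatibly), there is a family of additive maps ψ_p from the p-forms of A over R to the p-forms of B
over S, p ≥ 0, which is the map of de Rham complexes induced by the square: ψ_p sends b₀ db₁ ∧ … ∧
db_p to g(b₀) d(g b₁) ∧ … ∧ d(g b_p), where g : A → B is the structure map. In degree 0 this is g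
and in degree 1 the induced map on Kähler differentials. -/
theorem result (R S A B : Type u) [CommRing R] [CommRing S] [CommRing A] [CommRing B]
    [Algebra R S] [Algebra R A] [Algebra R B] [Algebra A B] [Algebra S B]
    [IsScalarTower R A B] [IsScalarTower R S B] :
    ∃ ψ : ∀ p : ℕ, ↥(⋀[A]^p (Ω[A⁄R])) →+ ↥(⋀[B]^p (Ω[B⁄S])),
      DeRham.IsCxMap (KaehlerDifferential.D R A) (KaehlerDifferential.D S B) (algebraMap A B) ψ := by
  classical
  have : SMulCommClass S A B := ⟨fun s a b => by
    simp only [Algebra.smul_def]; ring⟩
  let f : ∀ p : ℕ, (Ω[A⁄R]) [⋀^Fin p]→ₗ[A] ↥(⋀[B]^p (Ω[B⁄S])) := fun p =>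
    { ((exteriorPower.ιMulti B p (M := Ω[B⁄S])).toMultilinearMap.restrictScalars A).compLinearMap
        (fun _ => KaehlerDifferential.map R S A B) with
      map_eq_zero_of_eq' := fun v i j h hij =>
        (exteriorPower.ιMulti B p (M := Ω[B⁄S])).map_eq_zero_of_eq
          (fun i => KaehlerDifferential.map R S A B (v i)) (by simp [h]) hij }
  refine ⟨fun p => (exteriorPower.alternatingMapLinearEquiv (f p)).toAddMonoidHom, ?_⟩
  intro p b₀ b
  unfold DeRham.gen
  simp only [LinearMap.toAddMonoidHom_coe, map_smul,
    exteriorPower.alternatingMapLinearEquiv_apply_ιMulti]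
  simp only [f, algebraMap_smul]
  congr 1
  show exteriorPower.ιMulti B p (fun i => KaehlerDifferential.map R S A B (KaehlerDifferential.D R A (b i))) = _
  simp only [KaehlerDifferential.map_D]

end Groth.Agent.S15293
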