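import Groth.Statements.S15297
import Mathlib
import Groth.Agent.Lib.helper7.DeRhamGen

set_option autoImplicit false
universe u
open DeRham

namespace Groth.Agent.S15297

open exteriorPower in
/-- Let R → A be a ring map and d a de Rham differential of the Kähler differentials of A over R. Then
each d from p-forms to (p+1)-forms, an R-linear map between A-modules, is a differential operator of
order at most 1 relative to R → A: every commutator of d with multiplication by an element of A is
A-linear. -/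
theorem result (R A : Type u) [CommRing R] [CommRing A] [Algebra R A]
    (d : ∀ p : ℕ, ↥(⋀[A]^p (Ω[A⁄R])) →ₗ[R] ↥(⋀[A]^(p + 1) (Ω[A⁄R])))
    (hd : DeRham.IsDiff (KaehlerDifferential.D R A) d) (p : ℕ) :
    Diff16.IsDiffOpLE R A ↥(⋀[A]^p (Ω[A⁄R])) ↥(⋀[A]^(p + 1) (Ω[A⁄R])) 1 (d p) := by
  classical
  intro a
  have hsm : ∀ (c b₀ : A) (b : Fin p → A), c • DeRham.gen (KaehlerDifferential.D R A) p b₀ b
      = DeRham.gen (KaehlerDifferential.D R A) p (c * b₀) b := by
    intro c b₀ b
    unfold DeRham.gen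
    rw [smul_smul]
  have hcomm : ∀ (b₀ : A) (b : Fin p → A),
      Diff16.commutator R A ↥(⋀[A]^p (Ω[A⁄R])) ↥(⋀[A]^(p + 1) (Ω[A⁄R])) (d p) a
        (DeRham.gen (KaehlerDifferential.D R A) p b₀ b)
      = b₀ • exteriorPower.ιMulti A (p + 1) (Fin.cons (KaehlerDifferential.D R A a)
          (fun i => KaehlerDifferential.D R A (b i)) : Fin (p + 1) → Ω[A⁄R]) := by
    intro b₀ b
    unfold Diff16.commutator
    rw [LinearMap.sub_apply, LinearMap.comp_apply, LinearMap.comp_apply,
      LinearMap.restrictScalars_apply, LinearMap.restrictScalars_apply,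
      LinearMap.lsmul_apply, LinearMap.lsmul_apply, hsm, hd.1 p, hd.1 p,
      Derivation.leibniz]
    have h1 := (exteriorPower.ιMulti A (p + 1) (M := Ω[A⁄R])).toMultilinearMap.cons_add
      (fun i => KaehlerDifferential.D R A (b i)) (a • KaehlerDifferential.D R A b₀)
      (b₀ • KaehlerDifferential.D R A a)
    have h2 := (exteriorPower.ιMulti A (p + 1) (M := Ω[A⁄R])).toMultilinearMap.cons_smul
      (fun i => KaehlerDifferential.D R A (b i)) a (KaehlerDifferential.D R A b₀)
    have h3 := (exteriorPower.ιMulti A (p + 1) (M := Ω[A⁄R])).toMultilinearMap.cons_smul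
      (fun i => KaehlerDifferential.D R A (b i)) b₀ (KaehlerDifferential.D R A a)
    simp only [AlternatingMap.coe_multilinearMap] at h1 h2 h3
    rw [h1, h2, h3]
    abel
  intro c x
  refine Groth.Agent.Lib.helper7.H7_dr_induction
    (P := fun x => ∀ c : A, Diff16.commutator R A ↥(⋀[A]^p (Ω[A⁄R])) ↥(⋀[A]^(p + 1) (Ω[A⁄R])) (d p) a (c • x)
      = c • Diff16.commutator R A ↥(⋀[A]^p (Ω[A⁄R])) ↥(⋀[A]^(p + 1) (Ω[A⁄R])) (d p) a x) ?_ ?_ ?_ x c
  · intro c; simp
  · intro x y hx hy c
    rw [smul_add, map_add, hx, hy, map_add, smul_add]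
  · intro b₀ b c
    rw [hsm, hcomm, hcomm, smul_smul]

end Groth.Agent.S15297
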