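import Groth.Statements.S15302
import Mathlib

set_option autoImplicit false
universe v u
open HomAlg3

namespace Groth.Agent.S15302


open CategoryTheory CategoryTheory.Limits Opposite


noncomputable section
section
variable {C : Type u} [Category.{v} C] [Abelian C]

/-- exactness from a local contraction -/
lemma exact_of_contraction (S : ShortComplex C) (r : S.X₂ ⟶ S.X₁) (s : S.X₃ ⟶ S.X₂)
    (h : r ≫ S.f + S.g ≫ s = 𝟙 S.X₂) : S.Exact := by
  rw [ShortComplex.exact_iff_exact_up_to_refinements]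
  intro A x₂ hx₂
  refine ⟨A, 𝟙 A, inferInstance, x₂ ≫ r, ?_⟩
  rw [Category.id_comp, Category.assoc]
  have := congrArg (fun t => x₂ ≫ t) h
  simp only [Preadditive.comp_add, Category.comp_id] at this
  rw [← Category.assoc x₂ S.g s, hx₂, zero_comp, add_zero] at this
  exact this.symm

lemma exactAt_of_contraction (K : CochainComplex C ℕ) (i j k : ℕ)
    (hi : (ComplexShape.up ℕ).prev j = i) (hk : (ComplexShape.up ℕ).next j = k)
    (r : K.X j ⟶ K.X i) (s : K.X k ⟶ K.X j)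
    (h : r ≫ K.d i j + K.d j k ≫ s = 𝟙 (K.X j)) : K.ExactAt j := by
  rw [HomologicalComplex.exactAt_iff' _ i j k hi hk]
  exact exact_of_contraction _ r s h

variable (I : CochainComplex C ℕ)

lemma sq0 : biprod.lift (I.d 0 1) (𝟙 (I.X 0)) ≫
    biprod.lift (biprod.fst ≫ I.d 1 2) (biprod.fst - biprod.snd ≫ I.d 0 1) = 0 := by
  ext <;> simp

lemma sqS (p : ℕ) : biprod.lift (biprod.fst ≫ I.d (p+1) (p+2)) (biprod.fst - biprod.snd ≫ I.d p (p+1)) ≫
    biprod.lift (biprod.fst ≫ I.d (p+2) (p+3)) (biprod.fst - biprod.snd ≫ I.d (p+1) (p+2)) = 0 := by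
  ext <;> simp

lemma c0 : (0 : I.X 0 ⟶ I.X 0) ≫ (0 : I.X 0 ⟶ I.X 0) +
    biprod.lift (I.d 0 1) (𝟙 (I.X 0)) ≫ biprod.snd = 𝟙 (I.X 0) := by
  simp

lemma c1 : biprod.snd ≫ biprod.lift (I.d 0 1) (𝟙 (I.X 0)) +
    biprod.lift (biprod.fst ≫ I.d 1 2) (biprod.fst - biprod.snd ≫ I.d 0 1) ≫
      (biprod.snd ≫ biprod.inl) = 𝟙 (I.X 1 ⊞ I.X 0) := by
  ext <;> simp

lemma cS (p : ℕ) : (biprod.snd ≫ biprod.inl) ≫
      biprod.lift (biprod.fst ≫ I.d (p+1) (p+2)) (biprod.fst - biprod.snd ≫ I.d p (p+1)) +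
    biprod.lift (biprod.fst ≫ I.d (p+2) (p+3)) (biprod.fst - biprod.snd ≫ I.d (p+1) (p+2)) ≫
      (biprod.snd ≫ biprod.inl) = 𝟙 (I.X (p+2) ⊞ I.X (p+1)) := by
  ext <;> simp

/-- terms of the contractible complex -/
def CX : ℕ → C
  | 0 => I.X 0
  | (p+1) => I.X (p+1) ⊞ I.X p

def Cd : ∀ n, CX I n ⟶ CX I (n+1)
  | 0 => biprod.lift (I.d 0 1) (𝟙 _)
  | (p+1) => biprod.lift (biprod.fst ≫ I.d (p+1) (p+2)) (biprod.fst - biprod.snd ≫ I.d p (p+1))

lemma Cd_sq : ∀ n, Cd I n ≫ Cd I (n+1) = 0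
  | 0 => sq0 I
  | (p+1) => sqS I p

def CC : CochainComplex C ℕ := CochainComplex.of (CX I) (Cd I) (Cd_sq I)

lemma CC_d (n : ℕ) : (CC I).d n (n+1) = Cd I n := CochainComplex.of_d (CX I) (Cd I) n

def πf : ∀ n, (CC I).X n ⟶ I.X n
  | 0 => 𝟙 (I.X 0)
  | (p+1) => (biprod.fst : I.X (p+1) ⊞ I.X p ⟶ I.X (p+1))

def sf : ∀ n, I.X n ⟶ (CC I).X n
  | 0 => 𝟙 (I.X 0)
  | (p+1) => (biprod.inl : I.X (p+1) ⟶ I.X (p+1) ⊞ I.X p)

lemma sf_πf : ∀ n, sf I n ≫ πf I n = 𝟙 _
  | 0 => Category.id_comp (𝟙 (I.X 0))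
  | (p+1) => (biprod.inl_fst : (biprod.inl : I.X (p+1) ⟶ I.X (p+1) ⊞ I.X p) ≫ biprod.fst = 𝟙 _)

lemma π_comm : ∀ i, πf I i ≫ I.d i (i+1) = Cd I i ≫ πf I (i+1)
  | 0 => by
    show 𝟙 (I.X 0) ≫ I.d 0 1 = biprod.lift (I.d 0 1) (𝟙 (I.X 0)) ≫ biprod.fst
    simp
  | (p+1) => by
    show (biprod.fst : I.X (p+1) ⊞ I.X p ⟶ I.X (p+1)) ≫ I.d (p+1) (p+2) =
      biprod.lift (biprod.fst ≫ I.d (p+1) (p+2)) (biprod.fst - biprod.snd ≫ I.d p (p+1)) ≫ biprod.fst
    simp

def π : CC I ⟶ I where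
  f := πf I
  comm' i j hij := by
    have : i + 1 = j := hij
    subst this
    rw [CC_d]
    exact π_comm I i

lemma CC_exactAt : ∀ n, (CC I).ExactAt n
  | 0 => by
    refine exactAt_of_contraction (CC I) 0 0 1 (by simp) (by simp) (0 : I.X 0 ⟶ I.X 0)
      (biprod.snd : I.X 1 ⊞ I.X 0 ⟶ I.X 0) ?_
    have e1 : (CC I).d 0 1 = Cd I 0 := CC_d I 0
    have e0 : (CC I).d 0 0 = 0 := (CC I).shape _ _ (by simp)
    rw [e1, e0]
    exact c0 I
  | 1 => by
    refine exactAt_of_contraction (CC I) 0 1 2 (by simp) (by simp)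
      (biprod.snd : I.X 1 ⊞ I.X 0 ⟶ I.X 0)
      ((biprod.snd : I.X 2 ⊞ I.X 1 ⟶ I.X 1) ≫ (biprod.inl : I.X 1 ⟶ I.X 1 ⊞ I.X 0)) ?_
    have e1 : (CC I).d 0 1 = Cd I 0 := CC_d I 0
    have e2 : (CC I).d 1 2 = Cd I 1 := CC_d I 1
    rw [e1, e2]
    exact c1 I
  | (p+2) => by
    refine exactAt_of_contraction (CC I) (p+1) (p+2) (p+3) (by simp) (by simp)
      ((biprod.snd : I.X (p+2) ⊞ I.X (p+1) ⟶ I.X (p+1)) ≫ (biprod.inl : I.X (p+1) ⟶ I.X (p+1) ⊞ I.X p))
      ((biprod.snd : I.X (p+3) ⊞ I.X (p+2) ⟶ I.X (p+2)) ≫ (biprod.inl : I.X (p+2) ⟶ I.X (p+2) ⊞ I.X (p+1))) ?_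
    have e1 : (CC I).d (p+1) (p+2) = Cd I (p+1) := CC_d I (p+1)
    have e2 : (CC I).d (p+2) (p+3) = Cd I (p+2) := CC_d I (p+2)
    rw [e1, e2]
    exact cS I p

lemma CC_injective (hI : ∀ n, Injective (I.X n)) : ∀ n, Injective ((CC I).X n)
  | 0 => hI 0
  | (p+1) => by
    haveI := hI (p+1)
    haveI := hI p
    show Injective (I.X (p+1) ⊞ I.X p)
    infer_instance

lemma quasiIso_inl (K L : CochainComplex C ℕ) (hL : ∀ n, L.ExactAt n) :
    QuasiIso (biprod.inl : K ⟶ K ⊞ L) := by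
  rw [quasiIso_iff]
  intro n
  rw [quasiIsoAt_iff_isIso_homologyMap]
  have hz : IsZero (L.homology n) := (L.exactAt_iff_isZero_homology n).1 (hL n)
  refine ⟨HomologicalComplex.homologyMap (biprod.fst : K ⊞ L ⟶ K) n, ?_, ?_⟩
  · rw [← HomologicalComplex.homologyMap_comp, biprod.inl_fst, HomologicalComplex.homologyMap_id]
  · rw [← HomologicalComplex.homologyMap_comp]
    have h1 : (biprod.fst : K ⊞ L ⟶ K) ≫ biprod.inl = 𝟙 _ - biprod.snd ≫ biprod.inr := by
      rw [eq_sub_iff_add_eq]; exact biprod.total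
    rw [h1, HomologicalComplex.homologyMap_sub, HomologicalComplex.homologyMap_id,
      HomologicalComplex.homologyMap_comp, hz.eq_of_tgt (HomologicalComplex.homologyMap biprod.snd n) 0,
      zero_comp, sub_zero]

end
end

theorem main {C : Type u} [Category.{v} C] [Abelian C]
    [EnoughInjectives C] {G F : C} (α : G ⟶ F) (I : InjectiveResolution F) :
    ∃ (J : InjectiveResolution G) (β : J.cocomplex ⟶ I.cocomplex),
      J.ι ≫ β = (CochainComplex.single₀ C).map α ≫ I.ι ∧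
      ∀ p : ℕ, ∃ (K : C) (e : J.cocomplex.X p ≅ I.cocomplex.X p ⊞ K), β.f p = e.hom ≫ biprod.fst := by
  let J' : InjectiveResolution G := InjectiveResolution.of G
  let β' := InjectiveResolution.desc α I J'
  let K := CC I.cocomplex
  haveI hq : QuasiIso (biprod.inl : J'.cocomplex ⟶ J'.cocomplex ⊞ K) :=
    quasiIso_inl _ _ (CC_exactAt I.cocomplex)
  have hinj : ∀ n, Injective ((J'.cocomplex ⊞ K).X n) := by
    intro n
    haveI := CC_injective I.cocomplex (fun n => I.injective n) n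
    haveI : Injective (K.X n) := this
    exact Injective.of_iso (HomologicalComplex.biprodXIso J'.cocomplex K n).symm inferInstance
  let J : InjectiveResolution G :=
    { cocomplex := J'.cocomplex ⊞ K
      injective := hinj
      ι := J'.ι ≫ biprod.inl
      quasiIso := inferInstance }
  refine ⟨J, biprod.desc β' (π I.cocomplex), ?_, ?_⟩
  · show (J'.ι ≫ biprod.inl) ≫ biprod.desc β' (π I.cocomplex) = _
    rw [Category.assoc, biprod.inl_desc]
    exact InjectiveResolution.desc_commutes α I J'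
  · intro p
    let g : (J'.cocomplex ⊞ K).X p ⟶ I.cocomplex.X p := (biprod.desc β' (π I.cocomplex)).f p
    let σ : I.cocomplex.X p ⟶ (J'.cocomplex ⊞ K).X p :=
      sf I.cocomplex p ≫ (biprod.inr : K ⟶ J'.cocomplex ⊞ K).f p
    have hσ : σ ≫ g = 𝟙 _ := by
      show (sf I.cocomplex p ≫ (biprod.inr : K ⟶ J'.cocomplex ⊞ K).f p) ≫
        (biprod.desc β' (π I.cocomplex)).f p = 𝟙 _
      rw [Category.assoc, ← HomologicalComplex.comp_f, biprod.inr_desc]
      exact sf_πf I.cocomplex p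
    haveI : IsSplitEpi g := ⟨⟨⟨σ, hσ⟩⟩⟩
    let b := binaryBiconeOfIsSplitEpiOfKernel (kernelIsKernel g)
    have hb : b.IsBilimit := isBilimitBinaryBiconeOfIsSplitEpiOfKernel (kernelIsKernel g)
    let e' : (J'.cocomplex ⊞ K).X p ≅ kernel g ⊞ I.cocomplex.X p := biprod.uniqueUpToIso _ _ hb
    refine ⟨kernel g, e' ≪≫ biprod.braiding _ _, ?_⟩
    show g = (e'.hom ≫ (biprod.braiding _ _).hom) ≫ biprod.fst
    rw [Category.assoc]
    simp only [biprod.braiding_hom, biprod.lift_fst]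
    show g = (biprod.uniqueUpToIso _ _ hb).hom ≫ biprod.snd
    rw [biprod.uniqueUpToIso_hom, biprod.lift_snd]
    rfl

open CategoryTheory CategoryTheory.Limits in
/-- In an abelian category with enough injectives, let α : G ⟶ F be a morphism and I an injective
resolution of F. Then G has an injective resolution J together with a morphism of cochain complexes
β : J ⟶ I lying over α (the augmentations commute with α and β) such that for every p there are an
object K^p and an isomorphism J^p ≅ I^p ⊕ K^p identifying β^p with the projection onto the first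
factor (so K^p is injective as well). (The published statement is for abelian sheaves on a
topological space; its proof uses only an embedding of G into an injective object and cokernels, so
the row is stated in any abelian category with enough injectives.) -/
theorem result {C : Type u} [Category.{v} C] [Abelian C]
    [EnoughInjectives C] {G F : C} (α : G ⟶ F) (I : InjectiveResolution F) :
    ∃ (J : InjectiveResolution G) (β : J.cocomplex ⟶ I.cocomplex),
      J.ι ≫ β = (CochainComplex.single₀ C).map α ≫ I.ι ∧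
      ∀ p : ℕ, ∃ (K : C) (e : J.cocomplex.X p ≅ I.cocomplex.X p ⊞ K), β.f p = e.hom ≫ biprod.fst := by
  exact main α I

end Groth.Agent.S15302
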