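import Groth.Statements.S15307
import Groth.Agent.Lib.Acyclic
import Groth.Agent.Lib.GSS.ResBij

set_option autoImplicit false
universe u
open HomAlg3

namespace Groth.Agent.S15307

open CategoryTheory CategoryTheory.Limits Opposite

abbrev Tow := ℕᵒᵖ ⥤ AddCommGrpCat.{u}

/-- towers with surjective transition maps -/
def P : ObjectProperty Tow.{u} := fun A =>
  ∀ k : ℕ, Function.Surjective (A.map (homOfLE (Nat.le_succ k)).op).hom

lemma nat_apply {A B : Tow.{u}} (φ : A ⟶ B) {k l : ℕᵒᵖ} (f : k ⟶ l) (a : A.obj k) :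
    (φ.app l).hom ((A.map f).hom a) = (B.map f).hom ((φ.app k).hom a) := by
  have := congrArg (fun ψ => ψ.hom a) (φ.naturality f)
  simpa using this

lemma comp_exact (S : ShortComplex Tow.{u}) (hS : S.ShortExact) (k : ℕᵒᵖ) :
    Function.Injective (S.f.app k).hom ∧ Function.Surjective (S.g.app k).hom ∧
      ∀ x, (S.g.app k).hom x = 0 → ∃ a, (S.f.app k).hom a = x := by
  have h := hS.map_of_exact ((evaluation ℕᵒᵖ AddCommGrpCat.{u}).obj k)
  have hm := h.mono_f
  have he := h.epi_g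
  refine ⟨(AddCommGrpCat.mono_iff_injective _).1 hm, (AddCommGrpCat.epi_iff_surjective _).1 he, ?_⟩
  exact (ShortComplex.ab_exact_iff _).1 h.exact

lemma P_of_epi (S : ShortComplex Tow.{u}) (hS : S.ShortExact) (h₂ : P S.X₂) : P S.X₃ := by
  intro k z
  obtain ⟨y, rfl⟩ := (comp_exact S hS (op k)).2.1 z
  obtain ⟨y', rfl⟩ := h₂ k y
  exact ⟨(S.g.app _).hom y', (nat_apply S.g _ y').symm⟩

/-- the tower `k ↦ ∏_{j ≤ k} A_j`. -/
def Bt (A : Tow.{u}) : Tow.{u} where
  obj k := AddCommGrpCat.of (∀ j : {j : ℕ // j ≤ k.unop}, A.obj (op j.1))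
  map {k l} f := AddCommGrpCat.ofHom
    { toFun := fun x j => x ⟨j.1, j.2.trans (leOfHom f.unop)⟩
      map_zero' := rfl
      map_add' := fun _ _ => rfl }
  map_id k := by ext x; rfl
  map_comp f g := by ext x; rfl

def ιB (A : Tow.{u}) : A ⟶ Bt A where
  app k := AddCommGrpCat.ofHom
    { toFun := fun x j => (A.map (homOfLE j.2).op).hom x
      map_zero' := by funext j; exact map_zero _
      map_add' := fun x y => by funext j; exact map_add _ x y }
  naturality k l f := by
    ext x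
    funext j
    change (A.map (homOfLE j.2).op).hom ((A.map f).hom x) = (A.map (homOfLE _).op).hom x
    have : (homOfLE (j.2.trans (leOfHom f.unop))).op = f ≫ (homOfLE j.2).op := Subsingleton.elim _ _
    rw [this, A.map_comp]
    rfl

instance (A : Tow.{u}) : Mono (ιB A) := by
  have : ∀ k, Mono ((ιB A).app k) := by
    intro k
    rw [AddCommGrpCat.mono_iff_injective]
    intro x x' h
    have h' := congrFun h ⟨k.unop, le_refl _⟩
    change (A.map (homOfLE (le_refl k.unop)).op).hom x = (A.map (homOfLE (le_refl k.unop)).op).hom x' at h'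
    have e : (homOfLE (le_refl k.unop)).op = 𝟙 k := Subsingleton.elim _ _
    rw [e, A.map_id] at h'
    exact h'
  exact NatTrans.mono_of_mono_app _

lemma P_Bt (A : Tow.{u}) : P (Bt A) := by
  intro k x
  classical
  refine ⟨fun j => if h : j.1 ≤ k then x ⟨j.1, h⟩ else 0, ?_⟩
  funext j
  change (if h : j.1 ≤ k then x ⟨j.1, h⟩ else 0) = x j
  rw [dif_pos j.2]

lemma P_of_injective (I : Tow.{u}) (hI : Injective I) : P I := by
  intro k x
  let r : Bt I ⟶ I := Injective.factorThru (𝟙 I) (ιB I)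
  have hr : ιB I ≫ r = 𝟙 I := Injective.comp_factorThru _ _
  obtain ⟨b', hb'⟩ := P_Bt I k (((ιB I).app (op k)).hom x)
  refine ⟨(r.app _).hom b', ?_⟩
  rw [← nat_apply, hb']
  have := congrArg (fun ψ => (ψ.app (op k)).hom x) hr
  simpa using this


/-- existence of elements of the limit -/
lemma exists_lim (A : Tow.{u}) (y : ∀ k : ℕ, A.obj (op k))
    (hy : ∀ k : ℕ, (A.map (homOfLE (Nat.le_succ k)).op).hom (y (k+1)) = y k) :
    ∃ x : (limit A : AddCommGrpCat.{u}), ∀ k, (limit.π A (op k)).hom x = y k := by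
  have hall : ∀ (k l : ℕ) (h : k ≤ l), (A.map (homOfLE h).op).hom (y l) = y k := by
    intro k l h
    induction l, h using Nat.le_induction with
    | base => 
      have : (homOfLE (le_refl k)).op = 𝟙 (op k) := rfl
      rw [this, A.map_id]; rfl
    | succ l h ih =>
      have : (homOfLE (h.trans (Nat.le_succ l))).op = (homOfLE (Nat.le_succ l)).op ≫ (homOfLE h).op := rfl
      rw [this, A.map_comp]
      change (A.map (homOfLE h).op).hom ((A.map (homOfLE (Nat.le_succ l)).op).hom (y (l+1))) = _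
      rw [hy, ih]
  let s : (A ⋙ forget AddCommGrpCat).sections := ⟨fun k => y k.unop, by
    intro k l f
    have h : l.unop ≤ k.unop := leOfHom f.unop
    have : f = (homOfLE h).op := Subsingleton.elim _ _
    subst this
    exact hall _ _ h⟩
  let t := isLimitOfPreserves (forget AddCommGrpCat) (limit.isLimit A)
  refine ⟨(Types.isLimitEquivSections t).symm s, fun k => ?_⟩
  exact Types.isLimitEquivSections_symm_apply t s (op k)

lemma epi_lim (S : ShortComplex Tow.{u}) (hS : S.ShortExact) (h₁ : P S.X₁) :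
    Epi ((lim : Tow.{u} ⥤ AddCommGrpCat.{u}).map S.g) := by
  rw [AddCommGrpCat.epi_iff_surjective]
  intro z
  let zk : ∀ k : ℕ, S.X₃.obj (op k) := fun k => (limit.π S.X₃ (op k)).hom z
  have hz : ∀ k : ℕ, (S.X₃.map (homOfLE (Nat.le_succ k)).op).hom (zk (k+1)) = zk k := by
    intro k
    exact congrArg (fun ψ => ψ.hom z) (limit.w S.X₃ (homOfLE (Nat.le_succ k)).op)
  -- the inductive step
  have hstep : ∀ (k : ℕ) (y : {y : S.X₂.obj (op k) // (S.g.app (op k)).hom y = zk k}),
      ∃ y' : {y : S.X₂.obj (op (k+1)) // (S.g.app (op (k+1))).hom y = zk (k+1)},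
        (S.X₂.map (homOfLE (Nat.le_succ k)).op).hom y'.1 = y.1 := by
    intro k y
    obtain ⟨y0, hy0⟩ := (comp_exact S hS (op (k+1))).2.1 (zk (k+1))
    have hd : (S.g.app (op k)).hom ((S.X₂.map (homOfLE (Nat.le_succ k)).op).hom y0 - y.1) = 0 := by
      rw [map_sub, nat_apply, hy0, hz, y.2, sub_self]
    obtain ⟨a, ha⟩ := (comp_exact S hS (op k)).2.2 _ hd
    obtain ⟨a', rfl⟩ := h₁ k a
    refine ⟨⟨y0 - (S.f.app (op (k+1))).hom a', ?_⟩, ?_⟩
    · rw [map_sub, hy0]
      have hfg : S.f.app (op (k+1)) ≫ S.g.app (op (k+1)) = 0 := by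
        rw [← NatTrans.comp_app, S.zero]; rfl
      have h0 : (S.g.app (op (k+1))).hom ((S.f.app (op (k+1))).hom a') = 0 :=
        congrArg (fun ψ => ψ.hom a') hfg
      rw [h0, sub_zero]
    · change (S.X₂.map (homOfLE (Nat.le_succ k)).op).hom (y0 - (S.f.app (op (k+1))).hom a') = y.1
      rw [map_sub, ← nat_apply, ha]
      abel
  obtain ⟨y00, hy00⟩ := (comp_exact S hS (op 0)).2.1 (zk 0)
  let seq : ∀ k : ℕ, {y : S.X₂.obj (op k) // (S.g.app (op k)).hom y = zk k} :=
    fun k => Nat.rec ⟨y00, hy00⟩ (fun k y => Classical.choose (hstep k y)) k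
  have hseq : ∀ k, (S.X₂.map (homOfLE (Nat.le_succ k)).op).hom (seq (k+1)).1 = (seq k).1 :=
    fun k => Classical.choose_spec (hstep k (seq k))
  obtain ⟨x, hx⟩ := exists_lim S.X₂ (fun k => (seq k).1) hseq
  refine ⟨x, ?_⟩
  refine Concrete.limit_ext _ _ _ (fun j => ?_)
  obtain ⟨k⟩ := j
  have h1 := congrArg (fun ψ => ψ.hom x) (limMap_π S.g (op k))
  have h2 : (limit.π S.X₃ (op k)).hom ((limMap S.g).hom x) = (S.g.app (op k)).hom ((limit.π S.X₂ (op k)).hom x) := by
    simpa using h1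
  change (limit.π S.X₃ (op k)).hom ((limMap S.g).hom x) = zk k
  rw [h2, hx, (seq k).2]

theorem main
    [EnoughInjectives (ℕᵒᵖ ⥤ AddCommGrpCat.{u})]
    [(lim : (ℕᵒᵖ ⥤ AddCommGrpCat.{u}) ⥤ AddCommGrpCat.{u}).Additive]
    (A : ℕᵒᵖ ⥤ AddCommGrpCat.{u}) (i : ℕ) (hi : 2 ≤ i) :
    IsZero (((lim : (ℕᵒᵖ ⥤ AddCommGrpCat.{u}) ⥤ AddCommGrpCat.{u}).rightDerived i).obj A) := by
  have hP : ∀ (F : Tow.{u}), P F → ∀ n : ℕ,
      IsZero (((lim : Tow.{u} ⥤ AddCommGrpCat.{u}).rightDerived (n + 1)).obj F) := fun F hF n =>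
    Acyclic.isZero_rightDerived_succ (G := (lim : Tow.{u} ⥤ AddCommGrpCat.{u})) (P := P)
      P_of_injective (fun S hS _ h₂ => P_of_epi S hS h₂) epi_lim F hF n
  let T : ShortComplex Tow.{u} := ShortComplex.mk (ιB A) (cokernel.π (ιB A)) (cokernel.condition _)
  have hT : T.ShortExact := by
    have : Mono T.f := by dsimp [T]; infer_instance
    have : Epi T.g := by dsimp [T]; infer_instance
    exact ShortComplex.ShortExact.mk (ShortComplex.exact_cokernel _)
  have h₃ : P T.X₃ := P_of_epi T hT (P_Bt A)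
  obtain ⟨k, rfl⟩ : ∃ k, i = k + 2 := ⟨i - 2, by omega⟩
  let _ : HasDerivedCategory.{u+1} Tow.{u} := HasDerivedCategory.standard _
  exact GSS.isZero_rightDerived_succ_X₁ (lim : Tow.{u} ⥤ AddCommGrpCat.{u}) T hT (k + 1)
    (hP _ h₃ k) (hP _ (P_Bt A) (k + 1))

open CategoryTheory CategoryTheory.Limits in
/-- For abelian groups, for an inverse system (A_n) of abelian groups indexed by the natural numbers,
the right derived functors lim^(i) A_n of the inverse limit vanish for every i ≥ 2. (The two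
instance hypotheses, enough injectives in the category of towers of abelian groups and additivity of
the limit functor, always hold. The published statement is made in an axiomatic setting that also
covers quasi-coherent sheaves; this row is the case of abelian groups.) -/
theorem result
    [EnoughInjectives (ℕᵒᵖ ⥤ AddCommGrpCat.{u})]
    [(lim : (ℕᵒᵖ ⥤ AddCommGrpCat.{u}) ⥤ AddCommGrpCat.{u}).Additive]
    (A : ℕᵒᵖ ⥤ AddCommGrpCat.{u}) (i : ℕ) (hi : 2 ≤ i) :
    IsZero (((lim : (ℕᵒᵖ ⥤ AddCommGrpCat.{u}) ⥤ AddCommGrpCat.{u}).rightDerived i).obj A) := by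
  exact main A i hi

end Groth.Agent.S15307
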