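import Groth.Statements.S15315
import Mathlib

set_option autoImplicit false
universe u
open ArLef

namespace Groth.Agent.S15315

/-- For a Noetherian commutative ring A, elements a, b with a a non-zero-divisor on A/(b), and an ideal
I, one has length(A/(aI + bA)) = length(A/(a, b)) + length(A/(I + bA)) as extended natural numbers;
in particular when two of the three quotients have finite length so does the third. -/
theorem result (A : Type u) [CommRing A] [IsNoetherianRing A] (a b : A) (I : Ideal A)
    (ha : IsSMulRegular (A ⧸ Ideal.span ({b} : Set A)) a) :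
    Module.length A (A ⧸ (Ideal.span {a} * I ⊔ Ideal.span {b})) =
      Module.length A (A ⧸ Ideal.span ({a, b} : Set A)) + Module.length A (A ⧸ (I ⊔ Ideal.span {b})) := by
  set N0 : Ideal A := I ⊔ Ideal.span {b} with hN0
  set M0 : Ideal A := Ideal.span {a} * I ⊔ Ideal.span {b} with hM0
  set P0 : Ideal A := Ideal.span ({a, b} : Set A) with hP0
  have h1 : N0 ≤ Submodule.comap (LinearMap.lsmul A A a) M0 := by
    intro x hx
    rw [hN0] at hx
    obtain ⟨y, hy, z, hz, rfl⟩ := Submodule.mem_sup.mp hx
    obtain ⟨c, rfl⟩ := Ideal.mem_span_singleton'.mp hz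
    rw [Submodule.mem_comap, hM0]
    simp only [LinearMap.lsmul_apply, smul_eq_mul, mul_add]
    apply Ideal.add_mem
    · exact Ideal.mem_sup_left (Ideal.mem_span_singleton_mul.mpr ⟨y, hy, rfl⟩)
    · exact Ideal.mem_sup_right (Ideal.mem_span_singleton'.mpr ⟨a * c, by ring⟩)
  have h2 : M0 ≤ Submodule.comap (LinearMap.id : A →ₗ[A] A) P0 := by
    rw [Submodule.comap_id, hM0, hP0]
    apply sup_le
    · intro x hx
      obtain ⟨z, _, rfl⟩ := Ideal.mem_span_singleton_mul.mp hx
      exact Ideal.mul_mem_right _ _ (Ideal.subset_span (by simp))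
    · rw [Ideal.span_le]
      intro x hx
      rw [Set.mem_singleton_iff] at hx
      subst hx
      exact Ideal.subset_span (by simp)
  set f : (A ⧸ N0) →ₗ[A] (A ⧸ M0) := Submodule.mapQ N0 M0 (LinearMap.lsmul A A a) h1 with hf
  set g : (A ⧸ M0) →ₗ[A] (A ⧸ P0) := Submodule.mapQ M0 P0 LinearMap.id h2 with hg
  have hfinj : Function.Injective f := by
    rw [← LinearMap.ker_eq_bot, LinearMap.ker_eq_bot']
    intro m hm
    obtain ⟨x, rfl⟩ := Submodule.Quotient.mk_surjective _ m
    rw [hf, Submodule.mapQ_apply, Submodule.Quotient.mk_eq_zero, hM0] at hm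
    simp only [LinearMap.lsmul_apply, smul_eq_mul] at hm
    obtain ⟨y, hy, z, hz, hyz⟩ := Submodule.mem_sup.mp hm
    obtain ⟨i, hi, rfl⟩ := Ideal.mem_span_singleton_mul.mp hy
    rw [Submodule.Quotient.mk_eq_zero, hN0]
    -- a * (x - i) ∈ (b)
    have h3 : a * (x - i) ∈ Ideal.span ({b} : Set A) := by
      have : a * (x - i) = z := by rw [mul_sub, ← hyz]; ring
      rw [this]; exact hz
    have h4 : a • (Ideal.Quotient.mk (Ideal.span ({b} : Set A)) (x - i)) = 0 := by
      rw [← Ideal.Quotient.eq_zero_iff_mem, map_mul] at h3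
      rw [Algebra.smul_def]
      exact h3
    have h5 : Ideal.Quotient.mk (Ideal.span ({b} : Set A)) (x - i) = 0 := by
      apply ha
      simp only [smul_zero]
      exact h4
    rw [Ideal.Quotient.eq_zero_iff_mem] at h5
    have : x = i + (x - i) := by ring
    rw [this]
    exact Ideal.add_mem _ (Ideal.mem_sup_left hi) (Ideal.mem_sup_right h5)
  have hgsurj : Function.Surjective g := by
    intro m
    obtain ⟨x, rfl⟩ := Submodule.Quotient.mk_surjective _ m
    exact ⟨Submodule.Quotient.mk x, by rw [hg, Submodule.mapQ_apply]; rfl⟩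
  have hexact : Function.Exact f g := by
    intro m
    obtain ⟨y, rfl⟩ := Submodule.Quotient.mk_surjective _ m
    constructor
    · intro hm
      rw [hg, Submodule.mapQ_apply, Submodule.Quotient.mk_eq_zero, hP0] at hm
      simp only [LinearMap.id_coe, id_eq] at hm
      obtain ⟨c, d, hcd⟩ := Ideal.mem_span_pair.mp hm
      refine ⟨Submodule.Quotient.mk c, ?_⟩
      rw [hf, Submodule.mapQ_apply, Submodule.Quotient.eq, hM0]
      simp only [LinearMap.lsmul_apply, smul_eq_mul]
      apply Ideal.mem_sup_right
      rw [Ideal.mem_span_singleton']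
      exact ⟨-d, by rw [← hcd]; ring⟩
    · rintro ⟨n, hn⟩
      obtain ⟨x, rfl⟩ := Submodule.Quotient.mk_surjective _ n
      rw [← hn, hf, hg, Submodule.mapQ_apply, Submodule.mapQ_apply, Submodule.Quotient.mk_eq_zero, hP0]
      simp only [LinearMap.lsmul_apply, smul_eq_mul, LinearMap.id_coe, id_eq]
      exact Ideal.mul_mem_right _ _ (Ideal.subset_span (by simp))
  rw [Module.length_eq_add_of_exact f g hfinj hgsurj hexact, add_comm]

end Groth.Agent.S15315
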