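import Groth.Statements.S1535
import Mathlib
import Groth.Agent.Lib.helper4.SmoothReg

set_option autoImplicit false
universe u
open CategoryTheory CategoryTheory.Limits AlgebraicGeometry
open Variety

namespace Groth.Agent.S1535

/-- If X is smooth over a field then every local ring of X is a regular local ring. -/
theorem result (k : Type u) [Field k] (X : Scheme.{u}) [X.Over (Spec (CommRingCat.of k))] [Smooth (X ↘ (Spec (CommRingCat.of k)))] (x : X) :
    IsRegularLocalRing (X.presheaf.stalk x) := by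
  have hU : IsAffineOpen (⊤ : (Spec (CommRingCat.of k)).Opens) := isAffineOpen_top _
  obtain ⟨V, hV, hxV, -⟩ := exists_isAffineOpen_mem_and_subset (X := X) (x := x) (U := ⊤) trivial
  have hVU : V ≤ (X ↘ Spec (CommRingCat.of k)) ⁻¹ᵁ ⊤ := fun _ _ => trivial
  letI alg : Algebra Γ(Spec (CommRingCat.of k), ⊤) Γ(X, V) :=
    ((X ↘ Spec (CommRingCat.of k)).appLE ⊤ V hVU).hom.toAlgebra
  have hsm : Algebra.Smooth Γ(Spec (CommRingCat.of k), ⊤) Γ(X, V) := by
    rw [← RingHom.smooth_algebraMap]
    exact (X ↘ Spec (CommRingCat.of k)).smooth_appLE hU hV hVU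
  haveI : IsRegularRing k := inferInstance
  haveI : IsRegularRing Γ(Spec (CommRingCat.of k), ⊤) :=
    IsRegularRing.of_ringEquiv
      (Scheme.ΓSpecIso (CommRingCat.of k)).commRingCatIsoToRingEquiv.symm
  letI := X.presheaf.algebra_section_stalk ⟨x, hxV⟩
  haveI := hV.isLocalization_stalk ⟨x, hxV⟩
  have e := (IsLocalization.algEquiv (hV.primeIdealOf ⟨x, hxV⟩).asIdeal.primeCompl
    (X.presheaf.stalk x)
    (Localization.AtPrime (hV.primeIdealOf ⟨x, hxV⟩).asIdeal)).toRingEquiv
  haveI := Groth.Agent.H4.H4_isRegularLocalRing_atPrime_of_smooth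
    Γ(Spec (CommRingCat.of k), ⊤) Γ(X, V) (hV.primeIdealOf ⟨x, hxV⟩).asIdeal
  exact IsRegularLocalRing.of_ringEquiv e.symm

end Groth.Agent.S1535
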