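import Groth.Statements.S15354
import Mathlib

set_option autoImplicit false
universe u
open CategoryTheory CategoryTheory.Limits AlgebraicGeometry
open Mor

namespace Groth.Agent.S15354

/-- Let f : Y ⟶ X be a morphism of schemes, A a valuation ring with fraction field K and residue field
k, and ξ, η : Spec A ⟶ Y two A-points of Y over the same A-point of X. If ξ and η restrict to the
same K-point and to the same k-point of Y, then ξ = η. (The published statement is an equivalence,
for algebraic spaces locally of finite presentation over a Noetherian scheme, between local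
separatedness of f and conditions (a), (b); this row is the necessity of (a) in the case of schemes,
where no hypothesis on f is needed.) -/
theorem result {X Y : Scheme.{u}} (f : Y ⟶ X)
    (A : Type u) [CommRing A] [IsDomain A] [ValuationRing A] (K : Type u) [Field K] [Algebra A K]
    [IsFractionRing A K] (ξ η : Spec (CommRingCat.of A) ⟶ Y) (hf : ξ ≫ f = η ≫ f)
    (hK : Spec.map (CommRingCat.ofHom (algebraMap A K)) ≫ ξ = Spec.map (CommRingCat.ofHom (algebraMap A K)) ≫ η)
    (hk : Spec.map (CommRingCat.ofHom (IsLocalRing.residue A)) ≫ ξ =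
      Spec.map (CommRingCat.ofHom (IsLocalRing.residue A)) ≫ η) :
    ξ = η := by
  classical
  let c : Spec (CommRingCat.of A) := IsLocalRing.closedPoint A
  have hc : ξ c = η c := by
    let p : Spec (CommRingCat.of (IsLocalRing.ResidueField A)) := (⊥ : PrimeSpectrum (IsLocalRing.ResidueField A))
    have hp : (Spec.map (CommRingCat.ofHom (IsLocalRing.residue A))) p = c :=
      IsLocalRing.PrimeSpectrum.comap_residue A p
    have h1 := congrArg (fun g : Spec (CommRingCat.of (IsLocalRing.ResidueField A)) ⟶ Y => g p) hk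
    simp only [Scheme.Hom.comp_apply, hp] at h1
    exact h1
  obtain ⟨U, hU, hyU, -⟩ := AlgebraicGeometry.exists_isAffineOpen_mem_and_subset (x := ξ c) (U := ⊤) trivial
  have hξ : Set.range ξ ⊆ Set.range U.ι := by
    rintro _ ⟨x, rfl⟩
    have h1 : ξ ⁻¹ᵁ U = ⊤ := (IsLocalRing.closedPoint_mem_iff (R := A) (ξ ⁻¹ᵁ U)).mp hyU
    have h2 : x ∈ ξ ⁻¹ᵁ U := by rw [h1]; trivial
    simpa using h2
  have hη : Set.range η ⊆ Set.range U.ι := by
    rintro _ ⟨x, rfl⟩
    have h1 : η ⁻¹ᵁ U = ⊤ := (IsLocalRing.closedPoint_mem_iff (R := A) (η ⁻¹ᵁ U)).mp (by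
      show η c ∈ U
      rw [← hc]; exact hyU)
    have h2 : x ∈ η ⁻¹ᵁ U := by rw [h1]; trivial
    simpa using h2
  let ξ' := IsOpenImmersion.lift U.ι ξ hξ
  let η' := IsOpenImmersion.lift U.ι η hη
  have hξ' : ξ' ≫ U.ι = ξ := IsOpenImmersion.lift_fac _ _ _
  have hη' : η' ≫ U.ι = η := IsOpenImmersion.lift_fac _ _ _
  suffices h : ξ' = η' by rw [← hξ', ← hη', h]
  have hK' : Spec.map (CommRingCat.ofHom (algebraMap A K)) ≫ ξ' =
      Spec.map (CommRingCat.ofHom (algebraMap A K)) ≫ η' := by
    rw [← cancel_mono U.ι, Category.assoc, Category.assoc, hξ', hη', hK]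
  let e := hU.isoSpec
  suffices h : ξ' ≫ e.hom = η' ≫ e.hom by
    exact (cancel_mono e.hom).mp h
  rw [← Spec.map_preimage (ξ' ≫ e.hom), ← Spec.map_preimage (η' ≫ e.hom)]
  congr 1
  have h3 : Spec.map (Spec.preimage (ξ' ≫ e.hom) ≫ CommRingCat.ofHom (algebraMap A K)) =
      Spec.map (Spec.preimage (η' ≫ e.hom) ≫ CommRingCat.ofHom (algebraMap A K)) := by
    rw [Spec.map_comp, Spec.map_comp, Spec.map_preimage, Spec.map_preimage, ← Category.assoc,
      ← Category.assoc, hK']
  have h4 := Spec.map_injective h3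
  ext b
  have h5 := congrArg (fun g => g.hom b) h4
  simp only [CommRingCat.hom_comp, CommRingCat.hom_ofHom, RingHom.comp_apply] at h5
  exact IsFractionRing.injective A K h5

end Groth.Agent.S15354
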