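import Groth.Statements.S15362
import Mathlib
import Groth.Agent.H8Sig2

set_option autoImplicit false
universe u v w
open CAlg

namespace Groth.Agent.S15362

/-- For an algebraically closed field L of characteristic p > 0, a commutative L-algebra R integral over
L, and a finitely presented R-module M carrying an additive endomorphism φ with φ(r·m) = r^p·φ(m)
for r ∈ R, m ∈ M, the map m ↦ φ(m) − m is onto. (R is taken of exponential characteristic p so that
its Frobenius is a ring endomorphism; for a non-zero L-algebra this is automatic.) -/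
theorem result (p : ℕ) [Fact p.Prime]
    (L : Type u) [Field L] [IsAlgClosed L] [CharP L p]
    (R : Type v) [CommRing R] [Algebra L R] [Algebra.IsIntegral L R] [ExpChar R p]
    (M : Type w) [AddCommGroup M] [Module R M] [Module.FinitePresentation R M]
    (φ : M →ₛₗ[frobenius R p] M) :
    Function.Surjective fun m : M => φ m - m := by
  classical
  intro m
  have : Module.Finite R M := inferInstance
  obtain ⟨n, s, hs⟩ := Module.Finite.exists_fin (R := R) (M := M)
  have hgen : ∀ x : M, ∃ c : Fin n → R, ∑ i, c i • s i = x := by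
    intro x
    have hx : x ∈ Submodule.span R (Set.range s) := by rw [hs]; trivial
    exact (Submodule.mem_span_range_iff_exists_fun R).mp hx
  choose a ha using fun i => hgen (φ (s i))
  obtain ⟨c, hc⟩ := hgen m
  set S : Set R := Set.range (fun ij : Fin n × Fin n => a ij.1 ij.2) ∪ Set.range c with hS
  have hSfin : S.Finite := (Set.finite_range _).union (Set.finite_range _)
  set R₀ : Subalgebra L R := Algebra.adjoin L S with hR₀
  haveI hfin : Module.Finite L R₀ := by
    have := fg_adjoin_of_finite (R := L) hSfin (fun x _ => Algebra.IsIntegral.isIntegral x)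
    exact Module.Finite.iff_fg.mpr this
  have haS : ∀ i j, a i j ∈ R₀ := fun i j =>
    Algebra.subset_adjoin (Or.inl ⟨(i, j), rfl⟩)
  have hcS : ∀ i, c i ∈ R₀ := fun i => Algebra.subset_adjoin (Or.inr ⟨i, rfl⟩)
  haveI : ExpChar R₀ p := RingHom.expChar (R₀.val.toRingHom) Subtype.val_injective p
  let T : (Fin n → R₀) →ₛₗ[frobenius L p] (Fin n → R₀) :=
    { toFun := fun r j => ∑ i, (r i) ^ p * ⟨a i j, haS i j⟩
      map_add' := fun r r' => by
        funext j
        simp only [Pi.add_apply, add_pow_expChar, add_mul, Finset.sum_add_distrib]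
      map_smul' := fun l r => by
        funext j
        simp only [Pi.smul_apply, frobenius_def, smul_pow, Finset.smul_sum, smul_mul_assoc] }
  have hσ : ∀ l : L, frobenius L p l = l ^ (p ^ 1) := fun l => by rw [pow_one, frobenius_def]
  have h2 := H8Sig.h2_pow p 1 Nat.one_pos (frobenius L p) hσ
  have h3 := H8Sig.h3_pow p 1 Nat.one_pos (frobenius L p) hσ
  obtain ⟨r, hr⟩ := H8Sig.sub_surjective T h2 h3 (fun i => (⟨c i, hcS i⟩ : R₀))
  have hr' : ∀ j, (r j : R) - ∑ i, (r i : R) ^ p * a i j = c j := by
    intro j
    have := congrArg (fun f => ((f j : R₀) : R)) hr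
    have hT : ((T r j : R₀) : R) = ∑ i, (r i : R) ^ p * a i j := by
      show ((∑ i, (r i) ^ p * ⟨a i j, haS i j⟩ : R₀) : R) = _
      rw [AddSubmonoidClass.coe_finsetSum]
      rfl
    rw [← hT]
    simpa using this
  refine ⟨-∑ i, (r i : R) • s i, ?_⟩
  show φ (-∑ i, (r i : R) • s i) - -∑ i, (r i : R) • s i = m
  rw [map_neg, map_sum]
  have h5 : ∀ i, φ ((r i : R) • s i) = ∑ j, ((r i : R) ^ p * a i j) • s j := by
    intro i
    rw [map_smulₛₗ, frobenius_def, ← ha i, Finset.smul_sum]
    apply Finset.sum_congr rfl
    intro j _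
    rw [smul_smul]
  simp only [h5]
  rw [Finset.sum_comm, ← hc]
  rw [neg_sub_neg, ← Finset.sum_sub_distrib]
  apply Finset.sum_congr rfl
  intro j _
  rw [← Finset.sum_smul, ← sub_smul, hr']

end Groth.Agent.S15362
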