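import Groth.Statements.S15365
import Mathlib

set_option autoImplicit false
universe u
open scoped BigOperators
open CAlg

namespace Groth.Agent.S15365

/-- Let A be a commutative ring of characteristic p > 0 and (h_{ij})_{1 ≤ i,j ≤ n} a square matrix over
A, the matrix of a commutative p-Lie algebra (L, φ) with L free with basis e_1, …, e_n and φ(e_j) =
Σ_i h_{ij} e_i. The associated finite group scheme Spec A[X_1, …, X_n]/(X_j^p − Σ_i h_{ij} X_i)_{1 ≤
j ≤ n} is étale over A if and only if the matrix (h_{ij}) is invertible, i.e. its determinant is a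
unit of A. Only the algebra structure enters this assertion. -/
theorem result (p : ℕ) [Fact p.Prime]
    (A : Type u) [CommRing A] [CharP A p] (n : ℕ) (h : Matrix (Fin n) (Fin n) A) :
    Algebra.Etale A (MvPolynomial (Fin n) A ⧸ Ideal.span (Set.range fun j : Fin n =>
        (MvPolynomial.X j : MvPolynomial (Fin n) A) ^ p -
          ∑ i : Fin n, MvPolynomial.C (h i j) * MvPolynomial.X i)) ↔
      IsUnit h.det := by
  classical
  have hpA : (p : A) = 0 := CharP.cast_eq_zero A p
  have hp2 : 2 ≤ p := (Fact.out : p.Prime).two_le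
  constructor
  · intro hE
    by_contra hdet
    obtain ⟨m, hm, hle⟩ := Ideal.exists_le_maximal (Ideal.span {h.det})
      (by rwa [Ne, Ideal.span_singleton_eq_top])
    have hdm : h.det ∈ m := hle (Ideal.mem_span_singleton_self _)
    letI : Field (A ⧸ m) := Ideal.Quotient.field m
    let hbar : Matrix (Fin n) (Fin n) (A ⧸ m) := (Ideal.Quotient.mk m).mapMatrix h
    have hdet0 : hbar.det = 0 := by
      rw [← RingHom.map_det]
      exact Ideal.Quotient.eq_zero_iff_mem.mpr hdm
    obtain ⟨v, hv0, hv⟩ := Matrix.exists_vecMul_eq_zero_iff.mpr hdet0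
    let f1 : MvPolynomial (Fin n) A →ₐ[A] TrivSqZeroExt (A ⧸ m) (A ⧸ m) :=
      MvPolynomial.aeval (fun _ => 0)
    let f2 : MvPolynomial (Fin n) A →ₐ[A] TrivSqZeroExt (A ⧸ m) (A ⧸ m) :=
      MvPolynomial.aeval (fun i => TrivSqZeroExt.inr (v i))
    have hpow : ∀ x : A ⧸ m, (TrivSqZeroExt.inr x : TrivSqZeroExt (A ⧸ m) (A ⧸ m)) ^ p = 0 := by
      intro x
      obtain ⟨q, rfl⟩ : ∃ q, p = 2 + q := ⟨p - 2, by omega⟩
      rw [pow_add, pow_two, TrivSqZeroExt.inr_mul_inr, zero_mul]
    have hf1 : ∀ a ∈ Ideal.span (Set.range fun j : Fin n =>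
        (MvPolynomial.X j : MvPolynomial (Fin n) A) ^ p -
          ∑ i : Fin n, MvPolynomial.C (h i j) * MvPolynomial.X i), f1 a = 0 := by
      intro a ha
      have : Ideal.span (Set.range fun j : Fin n =>
        (MvPolynomial.X j : MvPolynomial (Fin n) A) ^ p -
          ∑ i : Fin n, MvPolynomial.C (h i j) * MvPolynomial.X i) ≤ RingHom.ker f1 := by
        rw [Ideal.span_le]
        rintro _ ⟨j, rfl⟩
        rw [SetLike.mem_coe, RingHom.mem_ker]
        simp only [f1, map_sub, map_pow, map_sum, map_mul, MvPolynomial.aeval_X, mul_zero,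
          Finset.sum_const_zero, sub_zero]
        exact zero_pow (by omega)
      exact this ha
    have hf2 : ∀ a ∈ Ideal.span (Set.range fun j : Fin n =>
        (MvPolynomial.X j : MvPolynomial (Fin n) A) ^ p -
          ∑ i : Fin n, MvPolynomial.C (h i j) * MvPolynomial.X i), f2 a = 0 := by
      intro a ha
      have : Ideal.span (Set.range fun j : Fin n =>
        (MvPolynomial.X j : MvPolynomial (Fin n) A) ^ p -
          ∑ i : Fin n, MvPolynomial.C (h i j) * MvPolynomial.X i) ≤ RingHom.ker f2 := by
        rw [Ideal.span_le]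
        rintro _ ⟨j, rfl⟩
        rw [SetLike.mem_coe, RingHom.mem_ker]
        simp only [f2, map_sub, map_pow, map_sum, map_mul, MvPolynomial.aeval_X, MvPolynomial.aeval_C,
          hpow, zero_sub, neg_eq_zero]
        have hj := congrFun hv j
        simp only [Matrix.vecMul, dotProduct, Pi.zero_apply] at hj
        have h2 : ∀ i, algebraMap A (TrivSqZeroExt (A ⧸ m) (A ⧸ m)) (h i j) * TrivSqZeroExt.inr (v i) =
            TrivSqZeroExt.inr (v i * hbar i j) := by
          intro i
          rw [TrivSqZeroExt.algebraMap_eq_inl', TrivSqZeroExt.inl_mul_inr]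
          congr 1
          rw [smul_eq_mul, mul_comm]
          rfl
        simp only [h2]
        rw [← TrivSqZeroExt.inr_sum, hj, TrivSqZeroExt.inr_zero]
      exact this ha
    let g1 := Ideal.Quotient.liftₐ _ f1 hf1
    let g2 := Ideal.Quotient.liftₐ _ f2 hf2
    have hg : g1 = g2 := by
      apply Algebra.FormallyUnramified.ext' (TrivSqZeroExt.fstHom (A ⧸ m) (A ⧸ m) (A ⧸ m)).toRingHom
      · exact ⟨2, TrivSqZeroExt.kerIdeal_sq _ _⟩
      · intro x
        have : (TrivSqZeroExt.fstHom A (A ⧸ m) (A ⧸ m)).comp g1 =
            (TrivSqZeroExt.fstHom A (A ⧸ m) (A ⧸ m)).comp g2 := by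
          apply Ideal.Quotient.algHom_ext
          apply MvPolynomial.algHom_ext
          intro i
          simp [g1, g2, f1, f2]
        exact DFunLike.congr_fun this x
    have hv' : v = 0 := by
      funext i
      have h3 := DFunLike.congr_fun hg (Ideal.Quotient.mk _ (MvPolynomial.X i))
      simp only [g1, g2, Ideal.Quotient.liftₐ_apply, Ideal.Quotient.lift_mk] at h3
      have h4 := congrArg TrivSqZeroExt.snd h3
      simpa [f1, f2] using h4.symm
    exact hv0 hv'
  · intro hdet
    have key : ∀ (s : Set (MvPolynomial (Fin n) A)) (hs : s = Set.range (fun j : Fin n =>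
        (MvPolynomial.X j : MvPolynomial (Fin n) A) ^ p -
          ∑ i : Fin n, MvPolynomial.C (h i j) * MvPolynomial.X i)),
        Algebra.Etale A (MvPolynomial (Fin n) A ⧸ Ideal.span s) := by
      intro s hs
      subst hs
      let Q1 : Algebra.PreSubmersivePresentation A
          (MvPolynomial (Fin n) A ⧸ Ideal.span (Set.range (fun j : Fin n =>
        (MvPolynomial.X j : MvPolynomial (Fin n) A) ^ p -
          ∑ i : Fin n, MvPolynomial.C (h i j) * MvPolynomial.X i))) (Fin n) (Fin n) :=
        Algebra.PreSubmersivePresentation.naive (v := fun j : Fin n =>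
        (MvPolynomial.X j : MvPolynomial (Fin n) A) ^ p -
          ∑ i : Fin n, MvPolynomial.C (h i j) * MvPolynomial.X i) id Function.injective_id
      have hjm : Q1.jacobiMatrix = -((MvPolynomial.C : A →+* MvPolynomial (Fin n) A).mapMatrix h) := by
        apply Matrix.ext
        intro i j
        rw [Algebra.PreSubmersivePresentation.jacobiMatrix_naive]
        simp only [id, map_sub, map_sum, Derivation.leibniz_pow, Derivation.leibniz, MvPolynomial.pderiv_C,
          MvPolynomial.pderiv_X, smul_zero, add_zero, Matrix.neg_apply, RingHom.mapMatrix_apply,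
          Matrix.map_apply]
        have hpP : (p : MvPolynomial (Fin n) A) = 0 := by
          rw [← map_natCast (MvPolynomial.C : A →+* MvPolynomial (Fin n) A), hpA, map_zero]
        rw [nsmul_eq_mul, hpP, zero_mul, zero_sub]
        congr 1
        rw [Finset.sum_eq_single i]
        · simp
        · intro b _ hb
          simp [hb]
        · intro hi
          exact absurd (Finset.mem_univ i) hi
      have hjac : IsUnit Q1.jacobian := by
        rw [Algebra.PreSubmersivePresentation.jacobian_eq_jacobiMatrix_det, hjm, Matrix.det_neg,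
          ← RingHom.map_det]
        apply IsUnit.map
        exact (IsUnit.pow _ isUnit_one.neg).mul (hdet.map _)
      let P : Algebra.SubmersivePresentation A _ (Fin n) (Fin n) := ⟨Q1, hjac⟩
      have h0 : P.dimension = 0 := by
        simp [Algebra.Presentation.dimension]
      have := P.isStandardSmoothOfRelativeDimension h0
      exact Algebra.Etale.iff_isStandardSmoothOfRelativeDimension_zero.mpr this
    exact key _ rfl

end Groth.Agent.S15365
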