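import Groth.Statements.S15368
import Mathlib

set_option autoImplicit false
universe u v
open TensorProduct
open CAlg

namespace Groth.Agent.S15368

/-- Let R be a discrete valuation ring with uniformizer π and residue field k, n ≥ 0, M₀ a finitely
generated R-module killed by πⁿ and N₀ a submodule of M₀. Then dim_k(N₀/πN₀) ≤ dim_k(M₀/πM₀). The
published lemma is stated for a finitely presented submodule N of a finitely presented module M over
the quotient of the ring of integers of an algebraic closure of K by the elements of valuation ≥ t,
and the published proof reduces it by descent to exactly this statement over the valuation ring of a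
finite extension of K (comparing π-torsion with π-cotorsion by additivity of length); the row states
that step. -/
theorem result
    (R : Type u) [CommRing R] [IsDomain R] [IsDiscreteValuationRing R] (ϖ : R) (hϖ : Irreducible ϖ) (n : ℕ)
    (M : Type v) [AddCommGroup M] [Module R M] [Module.Finite R M] (hM : ∀ m : M, ϖ ^ n • m = 0)
    (N : Submodule R M) :
    Module.finrank (IsLocalRing.ResidueField R) (IsLocalRing.ResidueField R ⊗[R] N) ≤
      Module.finrank (IsLocalRing.ResidueField R) (IsLocalRing.ResidueField R ⊗[R] M) := by
  classical
  set k := IsLocalRing.ResidueField R with hk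
  haveI : IsNoetherian R M := isNoetherian_of_isNoetherianRing_of_finite R M
  have hNfg : N.FG := IsNoetherian.noetherian N
  -- left side equals spanFinrank of N
  have h1 : Module.finrank k (TensorProduct R k N) = N.spanFinrank := by
    rw [Module.finrank_eq_spanFinrank_of_free]
    exact TensorProduct.spanFinrank_top_eq_of_residueField N hNfg
  rw [h1]
  set r := Module.finrank k (TensorProduct R k M) with hr
  -- generators of M
  let b := Module.finBasis k (TensorProduct R k M)
  have hex : ∀ i, ∃ m : M, (1 : k) ⊗ₜ[R] m = b i := fun i =>
    TensorProduct.mk_surjective R M k IsLocalRing.residue_surjective (b i)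
  choose m hm using hex
  have hspan : Submodule.span R (Set.range m) = ⊤ :=
    IsLocalRing.span_eq_top_of_tmul_eq_basis m b hm
  let π : (Fin r → R) →ₗ[R] M := Fintype.linearCombination R m
  have hπ : Function.Surjective π := by
    rw [← LinearMap.range_eq_top, Fintype.range_linearCombination, hspan]
  let N' : Submodule R (Fin r → R) := N.comap π
  obtain ⟨n, c⟩ := Submodule.basisOfPid (Pi.basisFun R (Fin r)) N'
  have hn : n ≤ r := by
    have h2 : Module.finrank R N' ≤ Module.finrank R (Fin r → R) := Submodule.finrank_le N'
    rw [Module.finrank_eq_card_basis c, Module.finrank_fin_fun, Fintype.card_fin] at h2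
    exact h2
  have hN : N = Submodule.span R (Set.range (fun i : Fin n => π (c i : Fin r → R))) := by
    have h3 : N = N'.map π := (Submodule.map_comap_eq_of_surjective hπ N).symm
    have h4 : N' = Submodule.span R (Set.range (fun i : Fin n => (c i : Fin r → R))) := by
      have := c.span_eq
      have h5 := congrArg (Submodule.map N'.subtype) this
      rw [Submodule.map_span, Submodule.map_subtype_top, ← Set.range_comp] at h5
      exact h5.symm
    have h6 : N'.map π = (Submodule.span R (Set.range (fun i : Fin n => (c i : Fin r → R)))).map π :=
      congrArg (Submodule.map π) h4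
    rw [h3, h6, Submodule.map_span, ← Set.range_comp]
    rfl
  rw [hN]
  refine le_trans (Submodule.spanFinrank_span_le_ncard_of_finite (Set.finite_range _)) ?_
  refine le_trans ?_ hn
  have : Set.range (fun i : Fin n => π (c i : Fin r → R)) =
      (fun i : Fin n => π (c i : Fin r → R)) '' Set.univ := Set.image_univ.symm
  rw [this]
  refine le_trans (Set.ncard_image_le Set.finite_univ) ?_
  rw [Set.ncard_univ, Nat.card_fin]

end Groth.Agent.S15368
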