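import Groth.Statements.S15465
import Mathlib

set_option autoImplicit false
universe v u
open HomAlg

namespace Groth.Agent.S15465


open CategoryTheory CategoryTheory.Limits Opposite


open CategoryTheory CategoryTheory.Limits Opposite

section
variable {C : Type u} [Category.{v} C] [Abelian C] {A₂ A₃ C₁ C₂ : C}

theorem main' (S : ShortComplex C)
    (i₁ : S.X₁ ⟶ A₂) (p₁ : A₂ ⟶ A₃) (wA : i₁ ≫ p₁ = 0) (hA : (ShortComplex.mk i₁ p₁ wA).ShortExact)
    (i₂ : A₂ ⟶ S.X₂) (π₂ : S.X₂ ⟶ C₂) (wB : i₂ ≫ π₂ = 0) (hB : (ShortComplex.mk i₂ π₂ wB).ShortExact)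
    (j : C₁ ⟶ C₂) (q : C₂ ⟶ S.X₃) (wC : j ≫ q = 0) (hC : (ShortComplex.mk j q wC).ShortExact)
    (hSf : S.f = i₁ ≫ i₂) (hSg : S.g = π₂ ≫ q)
    (h₂ : i₂ ≫ S.g = 0) (h₃ : S.f ≫ π₂ = 0)
    (f : A₃ ⟶ S.homology)
    (g : S.homology ⟶ C₁)
    (hf : p₁ ≫ f = S.liftCycles i₂ h₂ ≫ S.homologyπ)
    (hg : g ≫ j = S.homologyι ≫ S.descOpcycles π₂ h₃) :
    ∃ wfg : f ≫ g = 0, (ShortComplex.mk f g wfg).ShortExact := by
  haveI : Epi p₁ := hA.epi_g
  haveI : Mono i₁ := hA.mono_f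
  haveI : Mono i₂ := hB.mono_f
  haveI : Epi π₂ := hB.epi_g
  haveI : Mono j := hC.mono_f
  haveI : Epi q := hC.epi_g
  -- key formula
  have hπg : S.homologyπ ≫ g ≫ j = S.iCycles ≫ π₂ := by
    rw [hg, ← Category.assoc, S.homology_π_ι, Category.assoc, S.p_descOpcycles]
  have wfg : f ≫ g = 0 := by
    rw [← cancel_epi p₁, ← cancel_mono j, comp_zero, zero_comp, ← Category.assoc p₁, hf,
      Category.assoc, Category.assoc, hπg, S.liftCycles_i_assoc, wB]
  refine ⟨wfg, ?_⟩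
  refine { exact := ?_, mono_f := ?_, epi_g := ?_ }
  · -- exactness
    rw [ShortComplex.exact_iff_exact_up_to_refinements]
    intro T k hk
    dsimp at k hk
    obtain ⟨T', π, hπ, z, hz⟩ := surjective_up_to_refinements_of_epi S.homologyπ k
    have hz2 : (z ≫ S.iCycles) ≫ π₂ = 0 := by
      rw [Category.assoc, ← hπg, ← Category.assoc, ← hz, Category.assoc, ← Category.assoc k, hk,
        zero_comp, comp_zero]
    let a₂ : T' ⟶ A₂ := hB.exact.lift (z ≫ S.iCycles) hz2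
    have ha₂ : a₂ ≫ i₂ = z ≫ S.iCycles := hB.exact.lift_f _ _
    have ha₂' : a₂ ≫ S.liftCycles i₂ h₂ = z := by
      rw [← cancel_mono S.iCycles, Category.assoc, S.liftCycles_i, ha₂]
    refine ⟨T', π, hπ, a₂ ≫ p₁, ?_⟩
    dsimp
    rw [Category.assoc, hf, ← Category.assoc, ha₂', hz]
  · -- mono f
    dsimp
    rw [Preadditive.mono_iff_cancel_zero]
    intro T t ht
    obtain ⟨T', π, hπ, t', ht'⟩ := surjective_up_to_refinements_of_epi p₁ t
    have hex : (ShortComplex.mk S.toCycles S.homologyπ S.toCycles_comp_homologyπ).Exact :=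
      ShortComplex.exact_of_g_is_cokernel _ S.homologyIsCokernel
    have h0 : (t' ≫ S.liftCycles i₂ h₂) ≫ S.homologyπ = 0 := by
      rw [Category.assoc, ← hf, ← Category.assoc, ← ht', Category.assoc, ht, comp_zero]
    obtain ⟨T'', π', hπ', a₁, ha₁⟩ := hex.exact_up_to_refinements _ h0
    dsimp at a₁ ha₁
    have h1 : π' ≫ t' = a₁ ≫ i₁ := by
      rw [← cancel_mono i₂, Category.assoc, Category.assoc]
      have := congr_arg (fun φ => φ ≫ S.iCycles) ha₁
      simp only [Category.assoc, S.liftCycles_i, S.toCycles_i] at this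
      rw [this, hSf]
    rw [← cancel_epi π, ← cancel_epi π', comp_zero, comp_zero, ht', ← Category.assoc, h1,
      Category.assoc, wA, comp_zero]
  · -- epi g
    dsimp
    rw [epi_iff_surjective_up_to_refinements]
    intro T c
    obtain ⟨T', π, hπ, b, hb⟩ := surjective_up_to_refinements_of_epi π₂ (c ≫ j)
    have hb0 : b ≫ S.g = 0 := by
      rw [hSg, ← Category.assoc, ← hb, Category.assoc, Category.assoc, wC, comp_zero, comp_zero]
    refine ⟨T', π, hπ, S.liftCycles b hb0 ≫ S.homologyπ, ?_⟩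
    rw [← cancel_mono j, Category.assoc, Category.assoc, Category.assoc, hπg,
      S.liftCycles_i_assoc, hb]

end

open CategoryTheory CategoryTheory.Limits in
/-- In an abelian category let 0 → A₂ → B₂ → C₂ → 0 (maps i₂, π₂), 0 → A₁ → A₂ → A₃ → 0 (maps i₁, p₁)
and 0 → C₁ → C₂ → C₃ → 0 (maps j, q) be short exact sequences, let α = i₁ ≫ i₂ : A₁ → B₂ and β = π₂
≫ q : B₂ → C₃, and let K = ker β / im α be the homology object of the complex A₁ → B₂ → C₃. Let f :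
A₃ → K be the map induced by i₂ (the unique map whose composite with p₁ is the homology class of the
cycle i₂) and g : K → C₁ the map induced by π₂ (the unique map whose composite with j is the map K →
C₂ induced by π₂). Then 0 → A₃ → K → C₁ → 0, with maps f and g, is a short exact sequence. (The
hypotheses w, h₂, h₃ are consequences of i₂ ≫ π₂ = 0, carried so that the maps can be named; the
published statement assumes in addition that the category has enough injective objects, which plays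
no role in this assertion.) -/
theorem result
    {C : Type u} [Category.{v} C] [Abelian C] {A₁ A₂ A₃ B₂ C₁ C₂ C₃ : C}
    (i₁ : A₁ ⟶ A₂) (p₁ : A₂ ⟶ A₃) (wA : i₁ ≫ p₁ = 0) (hA : (ShortComplex.mk i₁ p₁ wA).ShortExact)
    (i₂ : A₂ ⟶ B₂) (π₂ : B₂ ⟶ C₂) (wB : i₂ ≫ π₂ = 0) (hB : (ShortComplex.mk i₂ π₂ wB).ShortExact)
    (j : C₁ ⟶ C₂) (q : C₂ ⟶ C₃) (wC : j ≫ q = 0) (hC : (ShortComplex.mk j q wC).ShortExact)
    (w : (i₁ ≫ i₂) ≫ (π₂ ≫ q) = 0) (h₂ : i₂ ≫ (π₂ ≫ q) = 0) (h₃ : (i₁ ≫ i₂) ≫ π₂ = 0)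
    (f : A₃ ⟶ (CategoryTheory.ShortComplex.mk (i₁ ≫ i₂) (π₂ ≫ q) w).homology)
    (g : (CategoryTheory.ShortComplex.mk (i₁ ≫ i₂) (π₂ ≫ q) w).homology ⟶ C₁)
    (hf : p₁ ≫ f = (CategoryTheory.ShortComplex.mk (i₁ ≫ i₂) (π₂ ≫ q) w).liftCycles i₂ h₂ ≫ (CategoryTheory.ShortComplex.mk (i₁ ≫ i₂) (π₂ ≫ q) w).homologyπ)
    (hg : g ≫ j = (CategoryTheory.ShortComplex.mk (i₁ ≫ i₂) (π₂ ≫ q) w).homologyι ≫ (CategoryTheory.ShortComplex.mk (i₁ ≫ i₂) (π₂ ≫ q) w).descOpcycles π₂ h₃) :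
    ∃ wfg : f ≫ g = 0, (ShortComplex.mk f g wfg).ShortExact := by
  exact main' (CategoryTheory.ShortComplex.mk (i₁ ≫ i₂) (π₂ ≫ q) w) i₁ p₁ wA hA i₂ π₂ wB hB j q wC hC rfl rfl h₂ h₃ f g hf hg

end Groth.Agent.S15465
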