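import Groth.Statements.S15488
import Mathlib

set_option autoImplicit false
universe u
open IsoNat

namespace Groth.Agent.S15488

theorem aux (A : Type u) [CommRing A] [Nontrivial A] (G : Type u) [Group G] [Finite G]
    (g : G) (l : A) (hl : l ^ orderOf g = 1) (K : Submodule A (G → A))
    (hK : ∀ v : G → A, v ∈ K ↔ ∀ h, v (g * h) = l * v h) :
    Module.Free A K ∧ Module.finrank A K * orderOf g = Nat.card G ∧
      ∃ E' : Submodule A (G → A), IsCompl K E' := by
  classical
  haveI : Fintype G := Fintype.ofFinite G
  let s : Setoid G := QuotientGroup.rightRel (Subgroup.zpowers g)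
  let qm : G → Quotient s := fun x => Quotient.mk s x
  let rep : Quotient s → G := fun q' => q'.out
  have hQ1 : ∀ x : G, x * (rep (qm x))⁻¹ ∈ Subgroup.zpowers g := by
    intro x
    have h : s (rep (qm x)) x := Quotient.mk_out (s := s) x
    exact QuotientGroup.rightRel_apply.mp h
  have hQ2 : ∀ x : G, qm (g * x) = qm x := by
    intro x
    symm
    apply Quotient.sound
    show s x (g * x)
    apply QuotientGroup.rightRel_apply.mpr
    rw [mul_inv_cancel_right]
    exact Subgroup.mem_zpowers g
  have hQ3 : ∀ q' : Quotient s, qm (rep q') = q' := fun q' => Quotient.out_eq q'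
  have hfin : IsOfFinOrder g := isOfFinOrder_of_finite g
  have hk : ∀ x : G, ∃ k : ℕ, g ^ k = x * (rep (qm x))⁻¹ := by
    intro x
    have h1 := hfin.mem_powers_iff_mem_zpowers.mpr (hQ1 x)
    obtain ⟨k, hk⟩ := h1
    exact ⟨k, hk⟩
  choose κ hκ using hk
  have hlmod : ∀ k : ℕ, l ^ k = l ^ (k % orderOf g) := by
    intro k
    conv_lhs => rw [← Nat.div_add_mod k (orderOf g), pow_add, pow_mul, hl, one_pow, one_mul]
  have hL : ∀ k k' : ℕ, g ^ k = g ^ k' → l ^ k = l ^ k' := by
    intro k k' h
    rw [hlmod k, hlmod k', hfin.pow_inj_mod.mp h]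
  have hxdec : ∀ x : G, x = g ^ κ x * rep (qm x) := by
    intro x
    rw [hκ x, inv_mul_cancel_right]
  have hlam_g : ∀ x : G, l ^ κ (g * x) = l * l ^ κ x := by
    intro x
    rw [← pow_succ']
    apply hL
    rw [hκ (g * x), hQ2 x, pow_succ', hκ x, mul_assoc]
  have hlam_rep : ∀ q' : Quotient s, l ^ κ (rep q') = 1 := by
    intro q'
    rw [← pow_zero l]
    apply hL
    rw [hκ (rep q'), hQ3 q', mul_inv_cancel, pow_zero]
  have hKpow : ∀ v ∈ K, ∀ (k : ℕ) (x : G), v (g ^ k * x) = l ^ k * v x := by
    intro v hv k
    induction k with
    | zero => intro x; rw [pow_zero, one_mul, pow_zero, one_mul]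
    | succ k ih =>
      intro x
      rw [pow_succ', mul_assoc, (hK v).mp hv, ih x, pow_succ', mul_assoc]
  have hKeq : ∀ v ∈ K, ∀ x : G, v x = l ^ κ x * v (rep (qm x)) := by
    intro v hv x
    conv_lhs => rw [hxdec x]
    exact hKpow v hv (κ x) (rep (qm x))
  have hmem : ∀ w : Quotient s → A, (fun x : G => l ^ κ x * w (qm x)) ∈ K := by
    intro w
    rw [hK]
    intro h
    show l ^ κ (g * h) * w (qm (g * h)) = l * (l ^ κ h * w (qm h))
    rw [hlam_g, hQ2, mul_assoc]
  let e : K ≃ₗ[A] (Quotient s → A) :=
    { toFun := fun v q' => v.1 (rep q')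
      map_add' := fun v w => rfl
      map_smul' := fun c v => rfl
      invFun := fun w => ⟨fun x : G => l ^ κ x * w (qm x), hmem w⟩
      left_inv := by
        intro v
        apply Subtype.ext
        funext x
        show l ^ κ x * v.1 (rep (qm x)) = v.1 x
        exact (hKeq v.1 v.2 x).symm
      right_inv := by
        intro w
        funext q'
        show l ^ κ (rep q') * w (qm (rep q')) = w q'
        rw [hlam_rep, hQ3, one_mul] }
  refine ⟨Module.Free.of_equiv e.symm, ?_, ?_⟩
  · rw [e.finrank_eq, Module.finrank_fintype_fun_eq_card A, ← Nat.card_eq_fintype_card,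
      Nat.card_congr (QuotientGroup.quotientRightRelEquivQuotientLeftRel (Subgroup.zpowers g)),
      ← Nat.card_zpowers g]
    exact (Subgroup.card_eq_card_quotient_mul_card_subgroup (Subgroup.zpowers g)).symm
  · let P : (G → A) →ₗ[A] K :=
      { toFun := fun v => ⟨fun x : G => l ^ κ x * v (rep (qm x)), hmem (fun q' => v (rep q'))⟩
        map_add' := by
          intro v w
          apply Subtype.ext
          funext x
          show l ^ κ x * (v (rep (qm x)) + w (rep (qm x))) =
            l ^ κ x * v (rep (qm x)) + l ^ κ x * w (rep (qm x))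
          ring
        map_smul' := by
          intro c v
          apply Subtype.ext
          funext x
          show l ^ κ x * (c * v (rep (qm x))) = c * (l ^ κ x * v (rep (qm x)))
          ring }
    refine ⟨LinearMap.ker P, LinearMap.isCompl_of_proj (f := P) ?_⟩
    intro v
    apply Subtype.ext
    funext x
    show l ^ κ x * v.1 (rep (qm x)) = v.1 x
    exact (hKeq v.1 v.2 x).symm

/-- Let A be a nontrivial commutative ring, G a finite group, g an element of G of order ν and l an
element of A with l ^ ν = 1. In the free A-module of functions G → A (the regular representation, g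
acting by translation v ↦ v(g·)), the submodule of v with v(g h) = l v(h) for all h is a direct
summand, free of rank |G| / ν (stated as: free, rank · ν = |G|, and a complementary submodule
exists). (The published statement is over an arbitrary ring and also covers Hom(A^N, −) of the
regular representation, which follows; nontriviality of A is needed for the rank to be meaningful.) -/
theorem result
    (A : Type u) [CommRing A] [Nontrivial A] (G : Type u) [Group G] [Finite G]
    (g : G) (l : A) (hl : l ^ orderOf g = 1) :
    Module.Free A (LinearMap.ker (LinearMap.funLeft A A (fun h : G => g * h) - l • LinearMap.id)) ∧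
      Module.finrank A (LinearMap.ker (LinearMap.funLeft A A (fun h : G => g * h) - l • LinearMap.id)) * orderOf g = Nat.card G ∧
      ∃ E' : Submodule A (G → A), IsCompl (LinearMap.ker (LinearMap.funLeft A A (fun h : G => g * h) - l • LinearMap.id)) E' := by
  apply aux A G g l hl
  intro v
  rw [LinearMap.mem_ker, LinearMap.sub_apply, sub_eq_zero]
  constructor
  · intro H h
    have h1 := congrFun H h
    simpa [LinearMap.funLeft_apply] using h1
  · intro H
    funext h
    simpa [LinearMap.funLeft_apply] using H h

end Groth.Agent.S15488
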