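import Groth.Statements.S15494
import Mathlib

set_option autoImplicit false
universe u v
open Dieud

namespace Groth.Agent.S15494

/-- Let W be a commutative ring with a ring endomorphism σ, p a natural number, M a W-module and F an
additive self-map of M with F (w • m) = σ w • F m. Let d ≥ 1, c ≥ 1, h = d + c, and let e_1, …, e_h,
… be vectors of M on which F acts through a display matrix in normal form: F e_i = e_{i+1} for 1 ≤ i
< d; F e_d = Σ_{i=1}^{d} a_{i,d} e_i + e_{d+1}; F e_j = Σ_{i=1}^{d} p a_{i,j} e_i + p e_{j+1} for d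
< j < h; F e_h = Σ_{i=1}^{d} p a_{i,h} e_i. Then F^h e_1 = Σ_{i=1}^{d} Σ_{j=d}^{h} p^{j-d}
σ^{h-j}(a_{i,j}) F^{h+i-j-1} e_1. (The published statement is for the Dieudonné module of a
p-divisible group of dimension d and height h over the Witt ring of a field of characteristic p,
with σ the Frobenius and e_1, …, e_h a basis; this row keeps only the relations which the printed
computation uses, so W, σ, p and the vectors are arbitrary.) -/
theorem result
    (W : Type u) [CommRing W] (σ : W →+* W) (p : ℕ)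
    (M : Type v) [AddCommGroup M] [Module W M]
    (F : M →+ M) (hF : ∀ (w : W) (m : M), F (w • m) = σ w • F m)
    (d c : ℕ) (hd : 0 < d) (hc : 0 < c)
    (a : ℕ → ℕ → W) (e : ℕ → M)
    (h1 : ∀ i : ℕ, 1 ≤ i → i < d → F (e i) = e (i + 1))
    (h2 : F (e d) = (∑ i ∈ Finset.Icc 1 d, a i d • e i) + e (d + 1))
    (h3 : ∀ j : ℕ, d < j → j < d + c →
      F (e j) = (∑ i ∈ Finset.Icc 1 d, ((p : W) * a i j) • e i) + (p : W) • e (j + 1))
    (h4 : F (e (d + c)) = ∑ i ∈ Finset.Icc 1 d, ((p : W) * a i (d + c)) • e i) :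
    (⇑F)^[d + c] (e 1) = ∑ i ∈ Finset.Icc 1 d, ∑ j ∈ Finset.Icc d (d + c),
      ((p : W) ^ (j - d) * (⇑σ)^[d + c - j] (a i j)) • (⇑F)^[d + c + i - j - 1] (e 1) := by
  classical
  obtain ⟨c', rfl⟩ : ∃ c', c = c' + 1 := ⟨c - 1, by omega⟩
  have hdc : d + (c' + 1) = d + c' + 1 := rfl
  rw [hdc] at h4 ⊢
  have hσp : ∀ n : ℕ, σ ((p : W) ^ n) = (p : W) ^ n := fun n => by rw [map_pow, map_natCast]
  have hA : ∀ t : ℕ, t + 1 ≤ d → (⇑F)^[t] (e 1) = e (t + 1) := by
    intro t
    induction t with
    | zero => intro _; rfl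
    | succ t ih =>
      intro ht
      rw [Function.iterate_succ_apply', ih (by omega), h1 (t + 1) (by omega) (by omega)]
  have step : ∀ t : ℕ,
      F (∑ i ∈ Finset.Icc 1 d, ∑ j ∈ Finset.Icc d (d + t),
        ((p : W) ^ (j - d) * (⇑σ)^[d + t - j] (a i j)) • (⇑F)^[d + t - j] (e i))
      = ∑ i ∈ Finset.Icc 1 d, ∑ j ∈ Finset.Icc d (d + t),
        ((p : W) ^ (j - d) * (⇑σ)^[d + t + 1 - j] (a i j)) • (⇑F)^[d + t + 1 - j] (e i) := by
    intro t
    rw [map_sum]
    refine Finset.sum_congr rfl fun i _ => ?_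
    rw [map_sum]
    refine Finset.sum_congr rfl fun j hj => ?_
    have hj' : j ≤ d + t := (Finset.mem_Icc.1 hj).2
    have e1 : d + t + 1 - j = (d + t - j) + 1 := by omega
    rw [hF, map_mul, hσp, e1, Function.iterate_succ_apply', Function.iterate_succ_apply']
  have C1 : ∀ t : ℕ, t < c' + 1 → (⇑F)^[t + 1] (e d) =
      (∑ i ∈ Finset.Icc 1 d, ∑ j ∈ Finset.Icc d (d + t),
        ((p : W) ^ (j - d) * (⇑σ)^[d + t - j] (a i j)) • (⇑F)^[d + t - j] (e i))
        + (p : W) ^ t • e (d + t + 1) := by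
    intro t
    induction t with
    | zero =>
      intro _
      simp only [zero_add, add_zero, Function.iterate_one, Finset.Icc_self, Finset.sum_singleton,
        Nat.sub_self, pow_zero, one_mul, Function.iterate_zero, id_eq, one_smul]
      exact h2
    | succ t ih =>
      intro ht
      have hdt : d + (t + 1) = d + t + 1 := rfl
      have h1' : d + t + 1 - d = t + 1 := by omega
      rw [Function.iterate_succ_apply', ih (by omega), map_add, step t, hF, hσp,
        h3 (d + t + 1) (by omega) (by omega), smul_add, Finset.smul_sum, hdt]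
      simp only [Finset.sum_Icc_succ_top (show d ≤ d + t + 1 by omega), Finset.sum_add_distrib,
        Nat.sub_self, Function.iterate_zero, id_eq, h1', smul_smul, pow_succ, mul_assoc]
      abel
  have e0 : d + c' + 1 = (c' + 1 + 1) + (d - 1) := by omega
  have hd1 : d - 1 + 1 = d := by omega
  have hstart : (⇑F)^[d + c' + 1] (e 1) = (⇑F)^[c' + 1 + 1] (e d) := by
    rw [e0, Function.iterate_add_apply, hA (d - 1) (by omega), hd1]
  rw [hstart, Function.iterate_succ_apply', C1 c' (by omega), map_add, step c', hF, hσp, h4,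
    Finset.smul_sum, ← Finset.sum_add_distrib]
  refine Finset.sum_congr rfl fun i hi => ?_
  have hi1 : 1 ≤ i := (Finset.mem_Icc.1 hi).1
  have hid : i ≤ d := (Finset.mem_Icc.1 hi).2
  have hi1' : i - 1 + 1 = i := by omega
  have hei : e i = (⇑F)^[i - 1] (e 1) := by rw [hA (i - 1) (by omega), hi1']
  rw [Finset.sum_Icc_succ_top (by omega : d ≤ d + c' + 1)]
  congr 1
  · refine Finset.sum_congr rfl fun j hj => ?_
    have hj2 : j ≤ d + c' := (Finset.mem_Icc.1 hj).2
    have hm : d + c' + 1 - j + (i - 1) = d + c' + 1 + i - j - 1 := by omega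
    rw [hei, ← Function.iterate_add_apply, hm]
  · have h0 : d + c' + 1 - (d + c' + 1) = 0 := Nat.sub_self _
    have h1' : d + c' + 1 - d = c' + 1 := by omega
    have h2' : d + c' + 1 + i - (d + c' + 1) - 1 = i - 1 := by omega
    rw [h0, h1', h2', Function.iterate_zero, id_eq, smul_smul, ← hei, pow_succ, mul_assoc]

end Groth.Agent.S15494
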