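import Groth.Statements.S15495
import Mathlib

set_option autoImplicit false
universe u
open CAlg

namespace Groth.Agent.S15495

/-- In an Artinian local ring R whose maximal ideal m contains the prime number p, the multiplicative
group 1 + m is annihilated under some power of p: there is n with (1 + x)^(p^n) = 1 for every x in
m. (The published text makes this assertion inside a proof, for Artinian local algebras over the
Witt ring of a perfect field of characteristic p; only p ∈ m and the nilpotence of m are used.) -/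
theorem result
    (R : Type u) [CommRing R] [IsLocalRing R] [IsArtinianRing R]
    (p : ℕ) (hp : p.Prime) (hpm : (p : R) ∈ IsLocalRing.maximalIdeal R) :
    ∃ n : ℕ, ∀ x ∈ IsLocalRing.maximalIdeal R, (1 + x) ^ (p ^ n) = 1 := by
  set m := IsLocalRing.maximalIdeal R with hm
  have hnil : IsNilpotent m := by
    have h := IsArtinianRing.isNilpotent_jacobson_bot (R := R)
    rwa [IsLocalRing.jacobson_eq_maximalIdeal (⊥ : Ideal R) bot_ne_top] at h
  obtain ⟨N, hN⟩ := hnil
  have step : ∀ j : ℕ, 1 ≤ j → ∀ x ∈ m ^ j, ∃ y ∈ m ^ (j + 1), (1 + x) ^ p = 1 + y := by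
    intro j hj x hx
    obtain ⟨r, hr⟩ := exists_add_pow_prime_eq hp (1 : R) x
    refine ⟨x ^ p + (p : R) * 1 * x * r, ?_, by rw [hr]; ring⟩
    apply Ideal.add_mem
    · have h1 : x ^ p ∈ (m ^ j) ^ p := Ideal.pow_mem_pow hx p
      rw [← pow_mul] at h1
      have h2 : j + 1 ≤ j * p := by
        have := hp.two_le
        nlinarith
      exact Ideal.pow_le_pow_right h2 h1
    · have h1 : (p : R) * x ∈ m * m ^ j := Ideal.mul_mem_mul hpm hx
      rw [← pow_succ'] at h1
      have e : (p : R) * 1 * x * r = ((p : R) * x) * r := by ring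
      rw [e]
      exact Ideal.mul_mem_right _ _ h1
  have key : ∀ n : ℕ, ∀ x ∈ m, ∃ y ∈ m ^ (n + 1), (1 + x) ^ (p ^ n) = 1 + y := by
    intro n
    induction n with
    | zero =>
      intro x hx
      exact ⟨x, by simpa using hx, by simp⟩
    | succ n ih =>
      intro x hx
      obtain ⟨y, hy, hxy⟩ := ih x hx
      obtain ⟨z, hz, hyz⟩ := step (n + 1) (by omega) y hy
      exact ⟨z, hz, by rw [pow_succ, pow_mul, hxy, hyz]⟩
  refine ⟨N, fun x hx => ?_⟩
  obtain ⟨y, hy, hxy⟩ := key N x hx
  have h0 : y ∈ m ^ N := Ideal.pow_le_pow_right (Nat.le_succ N) hy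
  rw [hN] at h0
  have : y = 0 := by simpa using h0
  rw [hxy, this, add_zero]

end Groth.Agent.S15495
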