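import Groth.Statements.S15498
import Mathlib

set_option autoImplicit false
open NewtonPoly

namespace Groth.Agent.S15498

/-- Let m, n ≥ 1 be coprime, h = m + n, δ the segment from (0,0) to (h,m) (the isoclinic Newton polygon
of slope m/h) and ρ the ordinary polygon with n slopes 0 followed with m slopes 1, so ρ(i) = max(0,
i − n). The integer points (i,j), 0 ≤ i ≤ h, on or above ρ and strictly below δ — that is max(0, i −
n) ≤ j and j·h < i·m — are (m−1)(n−1)/2 + (m+n−1) in number (which equals mn − r for r =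
(m−1)(n−1)/2). (The published text works under m ≥ n > 0 coprime; the inequality m ≥ n is not used
and not assumed.) -/
theorem result
    (m n : ℕ) (hm : 0 < m) (hn : 0 < n) (hmn : Nat.Coprime m n) :
    ((Finset.range (m + n + 1) ×ˢ Finset.range (m + 1)).filter
      (fun ij : ℕ × ℕ => ij.1 ≤ ij.2 + n ∧ ij.2 * (m + n) < ij.1 * m)).card
      = (m - 1) * (n - 1) / 2 + (m + n - 1) := by
  classical
  set G : Finset (ℕ × ℕ) := (Finset.range (n + 1) ×ˢ Finset.range (m + 1)).filter
    (fun aj : ℕ × ℕ => aj.2 * n < aj.1 * m) with hG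
  set H : Finset (ℕ × ℕ) := (Finset.Ico 1 n ×ˢ Finset.Ico 1 m).filter
    (fun aj : ℕ × ℕ => aj.2 * n < aj.1 * m) with hH
  set H' : Finset (ℕ × ℕ) := (Finset.Ico 1 n ×ˢ Finset.Ico 1 m).filter
    (fun aj : ℕ × ℕ => aj.1 * m < aj.2 * n) with hH'
  have hle : ∀ i j : ℕ, j * (m + n) < i * m → j ≤ i := by
    intro i j h
    by_contra hlt; push Not at hlt
    have h1 : i * m < j * m := by nlinarith
    have h2 : j * (m + n) = j * m + j * n := Nat.mul_add _ _ _
    omega
  have hFG : ((Finset.range (m + n + 1) ×ˢ Finset.range (m + 1)).filter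
      (fun ij : ℕ × ℕ => ij.1 ≤ ij.2 + n ∧ ij.2 * (m + n) < ij.1 * m)).card = G.card := by
    refine Finset.card_bij' (fun ij _ => (ij.1 - ij.2, ij.2)) (fun aj _ => (aj.1 + aj.2, aj.2))
      ?_ ?_ ?_ ?_
    · rintro ⟨i, j⟩ hij
      simp only [hG, Finset.mem_filter, Finset.mem_product, Finset.mem_range] at hij ⊢
      obtain ⟨⟨hi, hj⟩, h1, h2⟩ := hij
      have hji := hle i j h2
      refine ⟨⟨by omega, hj⟩, ?_⟩
      have e1 : (i - j) * m = i * m - j * m := Nat.sub_mul i j m
      have e2 : j * (m + n) = j * m + j * n := Nat.mul_add _ _ _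
      rw [e1]; omega
    · rintro ⟨a, j⟩ haj
      simp only [hG, Finset.mem_filter, Finset.mem_product, Finset.mem_range] at haj ⊢
      obtain ⟨⟨ha, hj⟩, h1⟩ := haj
      have hjm : j < m := by
        by_contra hge; push Not at hge
        have h2 : a * m ≤ n * m := Nat.mul_le_mul_right _ (by omega)
        have h3 : m * n ≤ j * n := Nat.mul_le_mul_right _ hge
        have h4 : n * m = m * n := Nat.mul_comm _ _
        omega
      refine ⟨⟨by omega, hj⟩, by omega, ?_⟩
      rw [Nat.mul_add, Nat.add_mul]; omega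
    · rintro ⟨i, j⟩ hij
      simp only [Finset.mem_filter, Finset.mem_product, Finset.mem_range] at hij
      have hji := hle i j hij.2.2
      show (i - j + j, j) = (i, j)
      rw [Nat.sub_add_cancel hji]
    · rintro ⟨a, j⟩ _
      show (a + j - j, j) = (a, j)
      rw [Nat.add_sub_cancel]
  have hGdecomp : G = ({n} ×ˢ Finset.range m) ∪ ((Finset.Ico 1 n ×ˢ {0}) ∪ H) := by
    ext ⟨a, j⟩
    simp only [hG, hH, Finset.mem_filter, Finset.mem_product, Finset.mem_range, Finset.mem_union,
      Finset.mem_singleton, Finset.mem_Ico]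
    constructor
    · rintro ⟨⟨ha, hj⟩, h1⟩
      have ha1 : 1 ≤ a := by
        by_contra h; push Not at h
        have : a = 0 := by omega
        subst this; simp at h1
      rcases Nat.lt_or_ge a n with han | han
      · right
        rcases Nat.eq_zero_or_pos j with hj0 | hj0
        · left; exact ⟨⟨ha1, han⟩, hj0⟩
        · right
          have hjm : j < m := by
            by_contra hge; push Not at hge
            have h2 : a * m < n * m := by nlinarith
            have h3 : m * n ≤ j * n := Nat.mul_le_mul_right _ hge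
            have h4 : n * m = m * n := Nat.mul_comm _ _
            omega
          exact ⟨⟨⟨ha1, han⟩, hj0, hjm⟩, h1⟩
      · left
        have : a = n := by omega
        subst this
        refine ⟨rfl, ?_⟩
        by_contra hge; push Not at hge
        have h3 : m * a ≤ j * a := Nat.mul_le_mul_right _ hge
        have h4 : a * m = m * a := Nat.mul_comm _ _
        omega
    · rintro (⟨rfl, hj⟩ | ⟨⟨ha1, han⟩, rfl⟩ | ⟨⟨⟨ha1, han⟩, hj0, hjm⟩, h1⟩)
      · refine ⟨⟨by omega, by omega⟩, ?_⟩
        nlinarith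
      · refine ⟨⟨by omega, by omega⟩, ?_⟩
        rw [Nat.zero_mul]; exact Nat.mul_pos (by omega) hm
      · exact ⟨⟨by omega, by omega⟩, h1⟩
  have hd1 : Disjoint ({n} ×ˢ Finset.range m) ((Finset.Ico 1 n ×ˢ {0}) ∪ H) := by
    rw [Finset.disjoint_left]
    rintro ⟨a, j⟩ h1 h2
    simp only [hH, Finset.mem_filter, Finset.mem_product, Finset.mem_range, Finset.mem_union,
      Finset.mem_singleton, Finset.mem_Ico] at h1 h2
    rcases h2 with h2 | h2 <;> omega
  have hd2 : Disjoint (Finset.Ico 1 n ×ˢ ({0} : Finset ℕ)) H := by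
    rw [Finset.disjoint_left]
    rintro ⟨a, j⟩ h1 h2
    simp only [hH, Finset.mem_filter, Finset.mem_product, Finset.mem_range,
      Finset.mem_singleton, Finset.mem_Ico] at h1 h2
    omega
  have hHH' : H.card = H'.card := by
    refine Finset.card_bij' (fun aj _ => (n - aj.1, m - aj.2)) (fun aj _ => (n - aj.1, m - aj.2))
      ?_ ?_ ?_ ?_
    · rintro ⟨a, j⟩ haj
      simp only [hH, hH', Finset.mem_filter, Finset.mem_product, Finset.mem_Ico] at haj ⊢
      obtain ⟨⟨⟨ha1, han⟩, hj1, hjm⟩, h1⟩ := haj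
      refine ⟨⟨⟨by omega, by omega⟩, by omega, by omega⟩, ?_⟩
      have e1 : (n - a) * m = n * m - a * m := Nat.sub_mul _ _ _
      have e2 : (m - j) * n = m * n - j * n := Nat.sub_mul _ _ _
      have h2 : a * m ≤ n * m := Nat.mul_le_mul_right _ han.le
      have h3 : j * n ≤ m * n := Nat.mul_le_mul_right _ hjm.le
      have h4 : n * m = m * n := Nat.mul_comm _ _
      rw [e1, e2]; omega
    · rintro ⟨a, j⟩ haj
      simp only [hH, hH', Finset.mem_filter, Finset.mem_product, Finset.mem_Ico] at haj ⊢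
      obtain ⟨⟨⟨ha1, han⟩, hj1, hjm⟩, h1⟩ := haj
      refine ⟨⟨⟨by omega, by omega⟩, by omega, by omega⟩, ?_⟩
      have e1 : (n - a) * m = n * m - a * m := Nat.sub_mul _ _ _
      have e2 : (m - j) * n = m * n - j * n := Nat.sub_mul _ _ _
      have h2 : a * m ≤ n * m := Nat.mul_le_mul_right _ han.le
      have h3 : j * n ≤ m * n := Nat.mul_le_mul_right _ hjm.le
      have h4 : n * m = m * n := Nat.mul_comm _ _
      rw [e1, e2]; omega
    · rintro ⟨a, j⟩ haj
      simp only [hH, Finset.mem_filter, Finset.mem_product, Finset.mem_Ico] at haj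
      obtain ⟨⟨⟨ha1, han⟩, hj1, hjm⟩, h1⟩ := haj
      show (n - (n - a), m - (m - j)) = (a, j)
      rw [Nat.sub_sub_self han.le, Nat.sub_sub_self hjm.le]
    · rintro ⟨a, j⟩ haj
      simp only [hH', Finset.mem_filter, Finset.mem_product, Finset.mem_Ico] at haj
      obtain ⟨⟨⟨ha1, han⟩, hj1, hjm⟩, h1⟩ := haj
      show (n - (n - a), m - (m - j)) = (a, j)
      rw [Nat.sub_sub_self han.le, Nat.sub_sub_self hjm.le]
  have hunion : H ∪ H' = Finset.Ico 1 n ×ˢ Finset.Ico 1 m := by
    ext ⟨a, j⟩
    simp only [hH, hH', Finset.mem_filter, Finset.mem_product, Finset.mem_Ico, Finset.mem_union]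
    constructor
    · rintro (h | h) <;> exact h.1
    · rintro ⟨⟨ha1, han⟩, hj1, hjm⟩
      rcases Nat.lt_trichotomy (j * n) (a * m) with h | h | h
      · left; exact ⟨⟨⟨ha1, han⟩, hj1, hjm⟩, h⟩
      · exfalso
        have hdvd : n ∣ a * m := ⟨j, by rw [← h, Nat.mul_comm]⟩
        have hdvd' : n ∣ a := (Nat.Coprime.dvd_of_dvd_mul_right hmn.symm hdvd)
        have := Nat.le_of_dvd (by omega) hdvd'
        omega
      · right; exact ⟨⟨⟨ha1, han⟩, hj1, hjm⟩, h⟩
  have hdisj : Disjoint H H' := by
    rw [Finset.disjoint_left]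
    rintro ⟨a, j⟩ h1 h2
    simp only [hH, hH', Finset.mem_filter, Finset.mem_product, Finset.mem_Ico] at h1 h2
    omega
  have h2H : 2 * H.card = (n - 1) * (m - 1) := by
    have := Finset.card_union_of_disjoint hdisj
    rw [hunion, Finset.card_product, Nat.card_Ico, Nat.card_Ico] at this
    omega
  rw [hFG, hGdecomp, Finset.card_union_of_disjoint hd1, Finset.card_union_of_disjoint hd2,
    Finset.card_product, Finset.card_product, Finset.card_singleton, Finset.card_singleton,
    Finset.card_range, Nat.card_Ico]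
  have h3 : (m - 1) * (n - 1) = 2 * H.card := by rw [Nat.mul_comm]; exact h2H.symm
  rw [h3, Nat.mul_div_cancel_left _ (by norm_num : 0 < 2)]
  omega

end Groth.Agent.S15498
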