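import Groth.Statements.S15505
import Mathlib

set_option autoImplicit false
universe u v w
open FrobAlg

namespace Groth.Agent.S15505

/-- Let k be an algebraically closed field of characteristic p, V a k-vector space, φ a p⁻¹-linear
endomorphism of V (additive, φ(a·v) = a^{1/p}·φ(v)) and b a finite basis of V consisting of vectors
fixed by φ. Then the vectors fixed by φ are exactly the combinations of the b_i with coefficients in
the prime field: v is fixed if and only if v = Σ c_i·b_i with all c_i in the image of ℤ/p. -/
theorem result (p : ℕ) [Fact p.Prime]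
    (k : Type u) [Field k] [CharP k p] [IsAlgClosed k]
    (V : Type v) [AddCommGroup V] [Module k V]
    (φ : V →ₛₗ[((frobeniusEquiv k p).symm : k →+* k)] V)
    {ι : Type w} [Fintype ι] (b : Module.Basis ι k V) (hb : ∀ i, φ (b i) = b i) (v : V) :
    φ v = v ↔ ∃ c : ι → ZMod p, v = ∑ i, (ZMod.castHom (dvd_refl p) k (c i)) • b i := by
  classical
  have hφsum : ∀ a : ι → k, φ (∑ i, a i • b i) = ∑ i, (frobeniusEquiv k p).symm (a i) • b i := by
    intro a
    rw [map_sum]
    apply Finset.sum_congr rfl
    intro i _
    rw [φ.map_smulₛₗ, hb]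
    rfl
  constructor
  · intro hv
    have hv' : v = ∑ i, b.repr v i • b i := (b.sum_repr v).symm
    have h1 : ∑ i, (frobeniusEquiv k p).symm (b.repr v i) • b i = ∑ i, b.repr v i • b i := by
      rw [← hφsum, ← hv', hv]
    have h2 : ∀ i, (frobeniusEquiv k p).symm (b.repr v i) = b.repr v i := by
      intro i
      have h0 : ∑ i, ((frobeniusEquiv k p).symm (b.repr v i) - b.repr v i) • b i = 0 := by
        simp only [sub_smul, Finset.sum_sub_distrib]
        rw [h1, sub_self]
      have := Fintype.linearIndependent_iff.mp b.linearIndependent _ h0 i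
      exact sub_eq_zero.mp this
    have h3 : ∀ i, ∃ c : ZMod p, ZMod.castHom (dvd_refl p) k c = b.repr v i := by
      intro i
      have hpow : (b.repr v i) ^ p = b.repr v i := by
        conv_lhs => rw [← h2 i]
        exact frobeniusEquiv_symm_pow_p k p _
      have hmem : b.repr v i ∈ (⊥ : Subfield k) := (Subfield.mem_bot_iff_pow_eq_self k p).mpr hpow
      rw [← ZMod.fieldRange_castHom_eq_bot p, RingHom.mem_fieldRange] at hmem
      exact hmem
    choose c hc using h3
    refine ⟨c, ?_⟩
    conv_lhs => rw [hv']
    apply Finset.sum_congr rfl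
    intro i _
    rw [hc]
  · rintro ⟨c, rfl⟩
    rw [hφsum]
    apply Finset.sum_congr rfl
    intro i _
    congr 1
    have hpow : (ZMod.castHom (dvd_refl p) k (c i)) ^ p = ZMod.castHom (dvd_refl p) k (c i) := by
      rw [← map_pow, ZMod.pow_card]
    conv_lhs => rw [← hpow]
    exact frobeniusEquiv_symm_pow k p _

end Groth.Agent.S15505
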