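import Groth.Statements.S15524
import Mathlib
import Groth.Agent.Lib.helper7.PowSumBdd

set_option autoImplicit false
open Finset
open Zeta

namespace Groth.Agent.S15524

/-- Let q ≥ 1 and let α_1, …, α_{2g} be complex numbers permuted by α ↦ q/α, i.e. α_{σ(i)} α_i = q for a
permutation σ of the indices; these play the role of the inverse roots of the numerator of the zeta
function of a curve over a field with q elements, for which #X(F_{q^N}) = q^N + 1 − Σ_i α_i^N. If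
for some d ≥ 1 and real C one has |Σ_i α_i^{dN}| ≤ C q^{dN/2} for every N ≥ 1, then |α_i|^2 = q for
every i (the Riemann hypothesis for the curve). -/
theorem result {g : ℕ} (q : ℕ) (hq : 0 < q)
    (α : Fin (2 * g) → ℂ) (σ : Equiv.Perm (Fin (2 * g))) (hσ : ∀ i, α (σ i) * α i = q)
    (d : ℕ) (hd : 0 < d) (C : ℝ)
    (hC : ∀ N : ℕ, 1 ≤ N → ‖∑ i, α i ^ (d * N)‖ ≤ C * (q : ℝ) ^ ((d : ℝ) * N / 2))
    (i : Fin (2 * g)) : ‖α i‖ ^ 2 = q := by
  have hq' : (0 : ℝ) < q := by exact_mod_cast hq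
  set s : ℝ := (q : ℝ) ^ ((d : ℝ) / 2) with hs
  have hspos : 0 < s := Real.rpow_pos_of_pos hq' _
  have hsN : ∀ N : ℕ, s ^ N = (q : ℝ) ^ ((d : ℝ) * N / 2) := by
    intro N
    rw [hs, ← Real.rpow_natCast, ← Real.rpow_mul hq'.le]
    congr 1
    ring
  have hle : ∀ j, ‖α j‖ ^ 2 ≤ q := by
    intro j
    have h1 : ‖α j ^ d / (s : ℂ)‖ ≤ 1 := by
      apply Groth.Agent.Lib.helper7.H7_powersum_bdd (fun j => α j ^ d / (s : ℂ)) C _ j
      intro N hN
      have e : ∑ i, (α i ^ d / (s : ℂ)) ^ N = (∑ i, α i ^ (d * N)) / ((s ^ N : ℝ) : ℂ) := by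
        rw [Finset.sum_div]
        apply Finset.sum_congr rfl
        intro i _
        rw [div_pow, ← pow_mul]
        push_cast
        rfl
      rw [e, norm_div, Complex.norm_real, Real.norm_of_nonneg (pow_pos hspos N).le,
        div_le_iff₀ (pow_pos hspos N), hsN]
      exact hC N hN
    rw [norm_div, norm_pow, Complex.norm_real, Real.norm_of_nonneg hspos.le,
      div_le_one hspos] at h1
    -- ‖α j‖ ^ d ≤ s ; s = (sqrt q)^d
    have h2 : s = (Real.sqrt q) ^ d := by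
      rw [hs, Real.sqrt_eq_rpow, ← Real.rpow_natCast, ← Real.rpow_mul hq'.le]
      congr 1
      ring
    rw [h2] at h1
    have h3 : ‖α j‖ ≤ Real.sqrt q :=
      (pow_le_pow_iff_left₀ (norm_nonneg _) (Real.sqrt_nonneg _) (by omega)).1 h1
    calc ‖α j‖ ^ 2 ≤ (Real.sqrt q) ^ 2 := pow_le_pow_left₀ (norm_nonneg _) h3 2
      _ = q := Real.sq_sqrt hq'.le
  apply le_antisymm (hle i)
  have h4 : ‖α (σ i)‖ * ‖α i‖ = q := by
    rw [← norm_mul, hσ i, Complex.norm_natCast]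
  have h5 := hle (σ i)
  have h6 : ((q : ℝ)) ^ 2 = ‖α (σ i)‖ ^ 2 * ‖α i‖ ^ 2 := by
    rw [← h4]; ring
  have h7 : (q : ℝ) ^ 2 ≤ q * ‖α i‖ ^ 2 := by
    rw [h6]
    exact mul_le_mul_of_nonneg_right h5 (by positivity)
  nlinarith

end Groth.Agent.S15524
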