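import Groth.Statements.S15525
import Mathlib

set_option autoImplicit false
universe u
open Zeta
open Polynomial

namespace Groth.Agent.S15525

/-- Let L be a field with a ring embedding ι into ℂ and M an r × r matrix over L all of whose
eigenvalues, the complex roots of its characteristic polynomial mapped along ι, have absolute value
1. Then every coefficient of the characteristic polynomial of the block-diagonal matrix with blocks
M and the inverse transpose of M is mapped by ι into ℝ. This is the pointwise content of the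
assertion that for a lisse sheaf F pure of weight 0 the sum of F and its dual is real, the Frobenius
of the dual acting by the inverse transpose. -/
theorem result (L : Type u) [Field L] (ι : L →+* ℂ)
    {r : ℕ} (M : Matrix (Fin r) (Fin r) L)
    (hM : ∀ z ∈ ((Matrix.charpoly M).map ι).roots, ‖z‖ = 1) (n : ℕ) :
    (ι ((Matrix.fromBlocks M 0 0 (M⁻¹).transpose).charpoly.coeff n)).im = 0 := by
  classical
  have rev_prod : ∀ (s : Multiset ℂ), (∀ z ∈ s, ‖z‖ = 1) →
      ((s.map (fun z => (X - C z : ℂ[X]))).prod).reverse =
        C ((s.map (fun z => -z)).prod) *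
          (s.map (fun z => (X - C ((starRingEnd ℂ) z) : ℂ[X]))).prod := by
    intro s
    induction s using Multiset.induction_on with
    | empty =>
      intro _
      simp only [Multiset.map_zero, Multiset.prod_zero, C_1, mul_one]
      rw [← C_1, reverse_C]
    | cons a s ih =>
      intro hs
      have ha : ‖a‖ = 1 := hs a (Multiset.mem_cons_self a s)
      have hs' : ∀ z ∈ s, ‖z‖ = 1 := fun z hz => hs z (Multiset.mem_cons_of_mem hz)
      rw [Multiset.map_cons, Multiset.prod_cons, reverse_mul_of_domain, ih hs', Multiset.map_cons,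
        Multiset.prod_cons, Multiset.map_cons, Multiset.prod_cons]
      have hconj : a * (starRingEnd ℂ) a = 1 := by
        rw [Complex.mul_conj, Complex.normSq_eq_norm_sq, ha]; simp
      have hrev0 : (X - C a : ℂ[X]).reverse = 1 - C a * X := by
        rw [Polynomial.reverse, natDegree_X_sub_C, reflect_sub, reflect_one_X, reflect_C, pow_one]
      have hrev : (X - C a : ℂ[X]).reverse = C (-a) * (X - C ((starRingEnd ℂ) a)) := by
        have h2 : C (-a) * C ((starRingEnd ℂ) a) = (-1 : ℂ[X]) := by
          rw [← C_mul, neg_mul, hconj, C_neg, C_1]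
        rw [hrev0, mul_sub, h2, C_neg]; ring
      rw [hrev, C_mul]; ring
  set P : ℂ[X] := (Matrix.charpoly M).map ι with hP
  have hPmonic : P.Monic := (Matrix.charpoly_monic M).map ι
  have hdegc : (Matrix.charpoly M).natDegree = r := by
    rw [Matrix.charpoly_natDegree_eq_dim, Fintype.card_fin]
  have hPdeg : P.natDegree = (Matrix.charpoly M).natDegree :=
    Polynomial.natDegree_map_eq_of_injective ι.injective _
  have hsplit : P.Splits := IsAlgClosed.splits P
  have hPprod : P = (P.roots.map (fun z => (X - C z : ℂ[X]))).prod :=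
    hsplit.eq_prod_roots_of_monic hPmonic
  have hp0 : P.coeff 0 = ((P.roots.map (fun z => -z)).prod) := by
    conv_lhs => rw [hPprod]
    rw [coeff_zero_eq_eval_zero, eval_multiset_prod, Multiset.map_map]
    congr 1
    refine Multiset.map_congr rfl fun z _ => ?_
    simp
  have hconjP : P.map (starRingEnd ℂ) =
      (P.roots.map (fun z => (X - C ((starRingEnd ℂ) z) : ℂ[X]))).prod := by
    conv_lhs => rw [hPprod]
    rw [Polynomial.map_multiset_prod, Multiset.map_map]
    congr 1
    refine Multiset.map_congr rfl fun z _ => ?_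
    simp
  have hrevP : P.reverse = C (P.coeff 0) * P.map (starRingEnd ℂ) := by
    have h1 := rev_prod P.roots hM
    rw [← hPprod] at h1
    rw [h1, hp0, hconjP]
  have hp0ne : P.coeff 0 ≠ 0 := by
    intro h0
    have hroot : (0 : ℂ) ∈ P.roots := by
      rw [Polynomial.mem_roots hPmonic.ne_zero, Polynomial.IsRoot, ← coeff_zero_eq_eval_zero, h0]
    have := hM 0 hroot
    simp at this
  have hdetι : ι M.det = (-1) ^ r * P.coeff 0 := by
    rw [Matrix.det_eq_sign_charpoly_coeff, Fintype.card_fin, map_mul, map_pow, map_neg, map_one,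
      hP, Polynomial.coeff_map]
  have hdet : M.det ≠ 0 := by
    intro h0
    rw [h0, map_zero] at hdetι
    have : (-1 : ℂ) ^ r * P.coeff 0 ≠ 0 := mul_ne_zero (pow_ne_zero _ (by norm_num)) hp0ne
    exact this hdetι.symm
  have hunit : IsUnit M := (Matrix.isUnit_iff_isUnit_det M).2 (IsUnit.mk0 _ hdet)
  have hinv : (M⁻¹.charpoly).map ι = P.map (starRingEnd ℂ) := by
    rw [Matrix.charpoly_inv M hunit, ← Matrix.reverse_charpoly, Fintype.card_fin,
      Ring.inverse_eq_inv']
    rw [Polynomial.map_mul, Polynomial.map_mul, Polynomial.map_pow, Polynomial.map_neg,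
      Polynomial.map_one, Polynomial.map_C, map_inv₀, hdetι]
    have hrevmap : (M.charpoly.reverse).map ι = P.reverse := by
      rw [Polynomial.reverse, Polynomial.reverse, hPdeg, hP, reflect_map]
    rw [hrevmap, hrevP, ← mul_assoc]
    have hc : ((-1 : ℂ[X]) ^ r * C ((-1 : ℂ) ^ r * P.coeff 0)⁻¹ * C (P.coeff 0)) = 1 := by
      rw [mul_assoc, ← C_mul]
      have : ((-1 : ℂ) ^ r * P.coeff 0)⁻¹ * P.coeff 0 = (-1) ^ r := by
        rw [mul_inv, mul_assoc, inv_mul_cancel₀ hp0ne, mul_one, ← inv_pow]; norm_num
      rw [this, C_pow, C_neg, C_1, ← mul_pow]; norm_num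
    rw [hc, one_mul]
  have hQ : ((Matrix.fromBlocks M 0 0 (M⁻¹).transpose).charpoly).map ι =
      P * P.map (starRingEnd ℂ) := by
    rw [Matrix.charpoly_fromBlocks_zero₁₂, Matrix.charpoly_transpose, Polynomial.map_mul, hinv]
  have hcc : (P.map (starRingEnd ℂ)).map (starRingEnd ℂ) = P := by
    ext k
    simp [Polynomial.coeff_map]
  rw [← Polynomial.coeff_map, hQ, ← Complex.conj_eq_iff_im, ← Polynomial.coeff_map,
    Polynomial.map_mul, hcc, mul_comm]

end Groth.Agent.S15525
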