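import Groth.Statements.S15526
import Mathlib

set_option autoImplicit false
universe u
open MvPolynomial
open CAlg

namespace Groth.Agent.S15526

/-- Let R be a commutative ring, P ∈ R[x] a monic polynomial of degree 2g + 1, and A = R[x, y, z]/(y^2 −
P(x), yz − 1). Then every element of A is a finite sum Σ_n Q_n(x) y^n over integers n, negative
powers of y meaning powers of z, with each Q_n ∈ R[x] of degree at most 2g: the R-submodule of A
spanned by the classes of x^i y^n and x^i z^n with i ≤ 2g and n ≥ 0 is all of A. (The published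
statement takes for R the ring of Witt vectors of a finite field and for P a lift of a separable
polynomial; the argument uses only that P is monic of degree 2g + 1.) -/
theorem result (R : Type u) [CommRing R] (g : ℕ)
    (P : Polynomial R) (hP : P.Monic) (hdeg : P.natDegree = 2 * g + 1) :
    Submodule.span R {a : MvPolynomial (Fin 3) R ⧸
        Ideal.span ({X 1 ^ 2 - Polynomial.aeval (X 0 : MvPolynomial (Fin 3) R) P, X 1 * X 2 - 1} :
          Set (MvPolynomial (Fin 3) R)) |
        ∃ i n : ℕ, i ≤ 2 * g ∧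
          (a = Ideal.Quotient.mk _ (X 0 ^ i * X 1 ^ n) ∨ a = Ideal.Quotient.mk _ (X 0 ^ i * X 2 ^ n))} =
      ⊤ := by
  set I : Ideal (MvPolynomial (Fin 3) R) :=
    Ideal.span ({X 1 ^ 2 - Polynomial.aeval (X 0 : MvPolynomial (Fin 3) R) P, X 1 * X 2 - 1} :
          Set (MvPolynomial (Fin 3) R)) with hI
  set S : Submodule R (MvPolynomial (Fin 3) R ⧸ I) := Submodule.span R {a : MvPolynomial (Fin 3) R ⧸ I |
        ∃ i n : ℕ, i ≤ 2 * g ∧
          (a = Ideal.Quotient.mk I (X 0 ^ i * X 1 ^ n) ∨ a = Ideal.Quotient.mk I (X 0 ^ i * X 2 ^ n))} with hS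
  set x : MvPolynomial (Fin 3) R ⧸ I := Ideal.Quotient.mk I (X 0) with hx
  set y : MvPolynomial (Fin 3) R ⧸ I := Ideal.Quotient.mk I (X 1) with hy
  set z : MvPolynomial (Fin 3) R ⧸ I := Ideal.Quotient.mk I (X 2) with hz
  have hyz : y * z = 1 := by
    have h1 : (X 1 * X 2 - 1 : MvPolynomial (Fin 3) R) ∈ I := Ideal.subset_span (by simp)
    have h2 := (Ideal.Quotient.eq_zero_iff_mem).2 h1
    rw [map_sub, map_mul, map_one, sub_eq_zero] at h2; exact h2
  have hy2 : y ^ 2 = Polynomial.aeval x P := by
    have h1 : (X 1 ^ 2 - Polynomial.aeval (X 0 : MvPolynomial (Fin 3) R) P) ∈ I :=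
      Ideal.subset_span (by simp)
    have h2 := (Ideal.Quotient.eq_zero_iff_mem).2 h1
    rw [map_sub, map_pow, sub_eq_zero] at h2
    rw [hy, h2]
    exact (Polynomial.aeval_algHom_apply (Ideal.Quotient.mkₐ R I) (X 0) P).symm
  have hxpow : x ^ (2 * g + 1) = y ^ 2 - ∑ j ∈ Finset.range (2 * g + 1), P.coeff j • x ^ j := by
    rw [hy2]
    conv_lhs => rw [← hdeg]
    have h1 := hP.as_sum
    have h2 := congrArg (Polynomial.aeval x) h1
    rw [map_add, map_pow, Polynomial.aeval_X, map_sum] at h2
    rw [h2, hdeg]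
    have h3 : ∀ j, (Polynomial.aeval x) (Polynomial.C (P.coeff j) * Polynomial.X ^ j) =
        P.coeff j • x ^ j := by
      intro j; rw [map_mul, Polynomial.aeval_C, map_pow, Polynomial.aeval_X]
      exact (Algebra.smul_def _ _).symm
    simp only [h3]
    abel
  have hE : ∀ i n, i ≤ 2 * g → x ^ i * y ^ n ∈ S := by
    intro i n hi
    refine Submodule.subset_span ⟨i, n, hi, Or.inl ?_⟩
    simp only [map_mul, map_pow]; rfl
  have hF : ∀ i n, i ≤ 2 * g → x ^ i * z ^ n ∈ S := by
    intro i n hi
    refine Submodule.subset_span ⟨i, n, hi, Or.inr ?_⟩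
    simp only [map_mul, map_pow]; rfl
  have hgen : ∀ a ∈ {a : MvPolynomial (Fin 3) R ⧸ I |
        ∃ i n : ℕ, i ≤ 2 * g ∧
          (a = Ideal.Quotient.mk I (X 0 ^ i * X 1 ^ n) ∨ a = Ideal.Quotient.mk I (X 0 ^ i * X 2 ^ n))},
      ∃ i n : ℕ, i ≤ 2 * g ∧ (a = x ^ i * y ^ n ∨ a = x ^ i * z ^ n) := by
    rintro a ⟨i, n, hi, h | h⟩
    · exact ⟨i, n, hi, Or.inl (by rw [h]; simp only [map_mul, map_pow]; rfl)⟩
    · exact ⟨i, n, hi, Or.inr (by rw [h]; simp only [map_mul, map_pow]; rfl)⟩
  -- closure under multiplication by a fixed element reduces to generators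
  have hclos : ∀ t : MvPolynomial (Fin 3) R ⧸ I,
      (∀ i n, i ≤ 2 * g → t * (x ^ i * y ^ n) ∈ S) → (∀ i n, i ≤ 2 * g → t * (x ^ i * z ^ n) ∈ S) →
      ∀ s ∈ S, t * s ∈ S := by
    intro t h1 h2 s hs
    induction hs using Submodule.span_induction with
    | mem a ha =>
      obtain ⟨i, n, hi, rfl | rfl⟩ := hgen a ha
      · exact h1 i n hi
      · exact h2 i n hi
    | zero => rw [mul_zero]; exact S.zero_mem
    | add a b _ _ ha hb => rw [mul_add]; exact add_mem ha hb
    | smul r a _ ha => rw [mul_smul_comm]; exact S.smul_mem r ha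
  have hyS : ∀ s ∈ S, y * s ∈ S := by
    apply hclos
    · intro i n hi
      have : y * (x ^ i * y ^ n) = x ^ i * y ^ (n + 1) := by ring
      rw [this]; exact hE i (n + 1) hi
    · intro i n hi
      cases n with
      | zero =>
        have : y * (x ^ i * z ^ 0) = x ^ i * y ^ 1 := by ring
        rw [this]; exact hE i 1 hi
      | succ n =>
        have : y * (x ^ i * z ^ (n + 1)) = x ^ i * z ^ n := by
          rw [pow_succ]; linear_combination (x ^ i * z ^ n) * hyz
        rw [this]; exact hF i n hi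
  have hzS : ∀ s ∈ S, z * s ∈ S := by
    apply hclos
    · intro i n hi
      cases n with
      | zero =>
        have : z * (x ^ i * y ^ 0) = x ^ i * z ^ 1 := by ring
        rw [this]; exact hF i 1 hi
      | succ n =>
        have : z * (x ^ i * y ^ (n + 1)) = x ^ i * y ^ n := by
          rw [pow_succ]; linear_combination (x ^ i * y ^ n) * hyz
        rw [this]; exact hE i n hi
    · intro i n hi
      have : z * (x ^ i * z ^ n) = x ^ i * z ^ (n + 1) := by ring
      rw [this]; exact hF i (n + 1) hi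
  have hxgen : ∀ w : MvPolynomial (Fin 3) R ⧸ I, (∀ j ≤ 2 * g, x ^ j * w ∈ S) →
      ∀ i ≤ 2 * g, x * (x ^ i * w) ∈ S := by
    intro w hw i hi
    rcases Nat.lt_or_ge i (2 * g) with hlt | hge
    · have : x * (x ^ i * w) = x ^ (i + 1) * w := by ring
      rw [this]; exact hw (i + 1) hlt
    · have hi' : i = 2 * g := le_antisymm hi hge
      have : x * (x ^ i * w) = y * (y * (x ^ 0 * w)) -
          ∑ j ∈ Finset.range (2 * g + 1), P.coeff j • (x ^ j * w) := by
        have e1 : x * (x ^ i * w) = x ^ (2 * g + 1) * w := by rw [hi']; ring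
        rw [e1, hxpow, sub_mul, Finset.sum_mul]
        congr 1
        · ring
        · exact Finset.sum_congr rfl (fun j _ => by rw [smul_mul_assoc])
      rw [this]
      refine sub_mem (hyS _ (hyS _ (hw 0 (Nat.zero_le _)))) (Submodule.sum_mem _ (fun j hj => ?_))
      exact S.smul_mem _ (hw j (by have := Finset.mem_range.1 hj; omega))
  have hxS : ∀ s ∈ S, x * s ∈ S := by
    apply hclos
    · intro i n hi
      exact hxgen (y ^ n) (fun j hj => hE j n hj) i hi
    · intro i n hi
      exact hxgen (z ^ n) (fun j hj => hF j n hj) i hi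
  have hall : ∀ p : MvPolynomial (Fin 3) R, ∀ s ∈ S, Ideal.Quotient.mk I p * s ∈ S := by
    intro p
    induction p using MvPolynomial.induction_on with
    | C a =>
      intro s hs
      have : Ideal.Quotient.mk I (C a) * s = a • s := by
        obtain ⟨p', rfl⟩ := Ideal.Quotient.mk_surjective s
        rw [← map_mul, ← MvPolynomial.smul_eq_C_mul]
        exact map_smul (Ideal.Quotient.mkₐ R I) a p'
      rw [this]; exact S.smul_mem a hs
    | add p q hp hq =>
      intro s hs
      rw [map_add, add_mul]; exact add_mem (hp s hs) (hq s hs)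
    | mul_X p i hp =>
      intro s hs
      rw [map_mul, mul_assoc]
      apply hp
      fin_cases i
      · exact hxS s hs
      · exact hyS s hs
      · exact hzS s hs
  rw [eq_top_iff]
  intro q _
  obtain ⟨p, rfl⟩ := Ideal.Quotient.mk_surjective q
  have h1 : (1 : MvPolynomial (Fin 3) R ⧸ I) ∈ S := by
    have := hE 0 0 (Nat.zero_le _)
    simpa using this
  have := hall p 1 h1
  rwa [mul_one] at this

end Groth.Agent.S15526
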