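import Groth.Statements.S15545
import Mathlib
import Groth.Agent.Lib.helper4.ProConsScheme

set_option autoImplicit false
open CategoryTheory AlgebraicGeometry
universe u
open FDesc

namespace Groth.Agent.S15545

/-- Let f : X' ⟶ X be flat, quasi-compact and surjective, and Z a pro-constructible subset of X (locally
on X an intersection of locally constructible subsets) which is dense in X. Then the preimage of Z
under f is dense in X'. -/
theorem result {X' X : Scheme.{u}} (f : X' ⟶ X)
    [Flat f] [QuasiCompact f] [Surjective f] (Z : Set X) (hZ : ProCons.IsProConstructible Z)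
    (hd : Dense Z) : Dense (f.base ⁻¹' Z) := by
  intro x'
  obtain ⟨ξ, hξx, hξmax⟩ := Groth.Agent.H4.H4_exists_maximal_generization x'
  have hgen : GeneralizingMap f := Flat.generalizingMap f
  have hfξ : ∀ y : X, y ⤳ f ξ → y = f ξ := by
    intro y hy
    obtain ⟨ξ', hξ', hfξ'⟩ := hgen hy
    rw [← hfξ', hξmax ξ' hξ']
  obtain ⟨W, hW, hfξW, -⟩ := Groth.Agent.H4.H4_exists_affine_nhd X ⊤ (f ξ) trivial
  haveI := Groth.Agent.H4.H4_spectral_affineOpen X W hW
  obtain ⟨z, hzZ, hz⟩ := Groth.Agent.H4.H4_pro_exists_specializes hZ W.isOpen hfξW (hd (f ξ))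
  have hξZ : ξ ∈ f.base ⁻¹' Z := by
    show f ξ ∈ Z
    rw [← hfξ z hz]; exact hzZ
  exact closure_mono (Set.singleton_subset_iff.2 hξZ) (specializes_iff_mem_closure.1 hξx)

end Groth.Agent.S15545
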