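import Groth.Statements.S15546
import Groth.Statements.S15546
import Mathlib

set_option autoImplicit false
open scoped TensorProduct
universe u
open Unram

namespace Groth.Agent.S15546

/-- Let E be a finite extension of a field k which is not separable over k, and K an algebraic closure
of k. Then E ⊗_k K has a nonzero nilpotent element. -/
theorem result (k E K : Type u) [Field k] [Field E]
    [Algebra k E] [FiniteDimensional k E] [Field K] [Algebra k K] [IsAlgClosure k K]
    (h : ¬ Algebra.IsSeparable k E) : ∃ x : E ⊗[k] K, x ≠ 0 ∧ IsNilpotent x := by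
  classical
  have hx : ∃ x : E, ¬ IsSeparable k x := by
    by_contra hcon
    push_neg at hcon
    exact h ⟨hcon⟩
  obtain ⟨x, hx⟩ := hx
  have hint : IsIntegral k x := Algebra.IsIntegral.isIntegral x
  have hf0 : minpoly k x ≠ 0 := minpoly.ne_zero hint
  haveI : IsAlgClosed K := IsAlgClosure.isAlgClosed k
  have hfK : ¬ ((minpoly k x).map (algebraMap k K)).Separable := by
    rw [Polynomial.separable_map]; exact hx
  have hsq : ¬ Squarefree ((minpoly k x).map (algebraMap k K)) :=
    fun hs => hfK (PerfectField.separable_iff_squarefree.mpr hs)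
  rw [Squarefree] at hsq
  push_neg at hsq
  obtain ⟨q, ⟨h', hdvd⟩, hq⟩ := hsq
  have hfK0 : (minpoly k x).map (algebraMap k K) ≠ 0 :=
    (Polynomial.map_ne_zero_iff (algebraMap k K).injective).mpr hf0
  set r := q * h' with hr
  have hfr : (minpoly k x).map (algebraMap k K) = q * r := by rw [hdvd, hr, mul_assoc]
  have hq0 : q ≠ 0 := by rintro rfl; rw [zero_mul] at hfr; exact hfK0 hfr
  have hr0 : r ≠ 0 := by intro h0; rw [h0, mul_zero] at hfr; exact hfK0 hfr
  have hqdeg : 0 < q.natDegree := by
    rw [Polynomial.natDegree_pos_iff_degree_pos]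
    exact Polynomial.degree_pos_of_ne_zero_of_nonunit hq0 hq
  have hdeg : r.natDegree < (minpoly k x).natDegree := by
    have h1 : ((minpoly k x).map (algebraMap k K)).natDegree = q.natDegree + r.natDegree := by
      rw [hfr, Polynomial.natDegree_mul hq0 hr0]
    rw [Polynomial.natDegree_map] at h1
    omega
  set z : TensorProduct k K E := Polynomial.aeval (1 ⊗ₜ[k] x : TensorProduct k K E) r with hz
  have hzero : Polynomial.aeval (1 ⊗ₜ[k] x : TensorProduct k K E)
      ((minpoly k x).map (algebraMap k K)) = 0 := by
    rw [Polynomial.aeval_map_algebraMap]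
    have : (1 ⊗ₜ[k] x : TensorProduct k K E) =
        (Algebra.TensorProduct.includeRight : E →ₐ[k] TensorProduct k K E) x := rfl
    rw [this, Polynomial.aeval_algHom_apply, minpoly.aeval, map_zero]
  have hzz : z * z = 0 := by
    rw [hz, ← map_mul]
    have : r * r = (minpoly k x).map (algebraMap k K) * h' := by
      rw [hfr, hr]; ring
    rw [this, map_mul, hzero, zero_mul]
  have hz0 : z ≠ 0 := by
    intro hz0
    have hli : LinearIndependent K
        (fun i : Fin (minpoly k x).natDegree => (1 : K) ⊗ₜ[k] (x ^ (i : ℕ))) :=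
      Module.Flat.linearIndependent_one_tmul (S := K) (linearIndependent_pow x)
    rw [Fintype.linearIndependent_iff] at hli
    have hsum : ∑ i : Fin (minpoly k x).natDegree,
        r.coeff i • ((1 : K) ⊗ₜ[k] (x ^ (i : ℕ)) : TensorProduct k K E) = 0 := by
      rw [← hz0, hz, Polynomial.aeval_eq_sum_range' hdeg, Finset.sum_range]
      apply Finset.sum_congr rfl
      intro i _
      rw [Algebra.TensorProduct.tmul_pow, one_pow]
    have hc := hli (fun i => r.coeff i) hsum
    apply hr0
    ext n
    rw [Polynomial.coeff_zero]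
    by_cases hn : n < (minpoly k x).natDegree
    · exact hc ⟨n, hn⟩
    · exact Polynomial.coeff_eq_zero_of_natDegree_lt (by omega)
  refine ⟨(Algebra.TensorProduct.comm k K E) z, ?_, ?_⟩
  · intro h0
    exact hz0 ((Algebra.TensorProduct.comm k K E).injective (by rw [h0, map_zero]))
  · refine ⟨2, ?_⟩
    rw [← map_pow, pow_two, hzz, map_zero]

end Groth.Agent.S15546
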