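import Groth.Statements.S15549
import Mathlib

set_option autoImplicit false
universe u
open CategoryTheory AlgebraicGeometry
open LocCoh

namespace Groth.Agent.S15549

/-- Let R be a Noetherian commutative ring, positively graded by additive subgroups R_d, with irrelevant
ideal R_+ and X = Proj R, and let M be a graded R-module which is the direct sum of its pieces M_i,
i ≥ 0 (non-negatively graded here). For every i and every m ∈ M_i, the global section of M(i)~
defined by m (the value m/1 at every point) is zero if and only if some power of R_+ annihilates m.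
Equivalently, degree by degree, the kernel of the canonical map from M to the direct sum over all n
of Γ(X, M(n)~) is the R_+-power-torsion submodule H^0_{R_+}(M). -/
theorem result {R σ : Type u} [CommRing R] [IsNoetherianRing R] [SetLike σ R] [AddSubgroupClass σ R]
    (𝒜 : ℕ → σ) [GradedRing 𝒜] {M τ : Type u} [AddCommGroup M] [Module R M] [SetLike τ M] [AddSubgroupClass τ M]
    (ℳ : ℕ → τ) [SetLike.GradedSMul 𝒜 ℳ] [DirectSum.Decomposition ℳ]
    (i : ℕ) (m : ℳ i) :
    GrMod.alpha 𝒜 ℳ i m = 0 ↔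
      ∃ k : ℕ, ∀ r : R, r ∈ (HomogeneousIdeal.irrelevant 𝒜).toIdeal ^ k → r • (m : M) = 0 := by
  classical
  have hstep1 : GrMod.alpha 𝒜 ℳ i m = 0 ↔ ∀ x : ProjectiveSpectrum 𝒜,
      (LocalizedModule.mk (m : M) 1 : GrMod.LocMod 𝒜 (M := M) x) = 0 := by
    constructor
    · intro h x
      have h2 := congrArg (fun t => GrMod.val t (⟨x, trivial⟩ : (⊤ : (Proj 𝒜).Opens))) h
      exact h2
    · intro h
      refine Subtype.ext (funext fun x => Subtype.ext ?_)
      change LocalizedModule.mk (m : M) 1 = (0 : GrMod.LocMod 𝒜 (M := M) x.1)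
      exact h x.1
  have hzero : ∀ x : ProjectiveSpectrum 𝒜,
      (LocalizedModule.mk (m : M) 1 : GrMod.LocMod 𝒜 (M := M) x) = 0 ↔
        ∃ c : R, c ∉ x.asHomogeneousIdeal.toIdeal ∧ c • (m : M) = 0 := by
    intro x
    rw [← LocalizedModule.zero_mk (1 : x.asHomogeneousIdeal.toIdeal.primeCompl),
      LocalizedModule.mk_eq]
    constructor
    · rintro ⟨u, hu⟩
      refine ⟨(u : R), u.2, ?_⟩
      simpa [Submonoid.smul_def] using hu
    · rintro ⟨c, hc, hcm⟩
      refine ⟨⟨c, hc⟩, ?_⟩
      simp [Submonoid.smul_def, hcm]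
  have hcomp : ∀ (j0 : ℕ) (r : R),
      ((DirectSum.decompose ℳ (r • (m : M))) (j0 + i) : M)
        = ((DirectSum.decompose 𝒜 r) j0 : R) • (m : M) := by
    intro j0 r
    refine DirectSum.Decomposition.inductionOn 𝒜
      (motive := fun r => ((DirectSum.decompose ℳ (r • (m : M))) (j0 + i) : M)
        = ((DirectSum.decompose 𝒜 r) j0 : R) • (m : M)) ?_ ?_ ?_ r
    · simp
    · intro j a
      have hmem : (a : R) • (m : M) ∈ ℳ (j + i) := SetLike.GradedSMul.smul_mem a.2 m.2
      by_cases hj : j = j0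
      · subst hj
        rw [DirectSum.decompose_of_mem_same ℳ hmem, DirectSum.decompose_of_mem_same 𝒜 a.2]
      · have hne : j + i ≠ j0 + i := fun h => hj (Nat.add_right_cancel h)
        rw [DirectSum.decompose_of_mem_ne ℳ hmem hne, DirectSum.decompose_of_mem_ne 𝒜 a.2 hj,
          zero_smul]
    · intro a b ha hb
      simp only [add_smul, DirectSum.decompose_add, DirectSum.add_apply, AddMemClass.coe_add,
        ha, hb]
  obtain ⟨J, hJ⟩ : ∃ J : Ideal R, ∀ r, r ∈ J ↔ r • (m : M) = 0 :=
    ⟨{ carrier := {r | r • (m : M) = 0}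
       add_mem' := fun {a b} ha hb => by
         show (a + b) • (m : M) = 0
         rw [add_smul, (ha : a • (m : M) = 0), (hb : b • (m : M) = 0), add_zero]
       zero_mem' := zero_smul R (m : M)
       smul_mem' := fun c {x} hx => by
         show (c • x) • (m : M) = 0
         rw [smul_eq_mul, mul_smul, (hx : x • (m : M) = 0), smul_zero] }, fun r => Iff.rfl⟩
  have hJhom : Ideal.IsHomogeneous 𝒜 J := by
    intro j0 r hr
    rw [hJ] at hr ⊢
    rw [← hcomp j0 r, hr, DirectSum.decompose_zero, DirectSum.zero_apply, ZeroMemClass.coe_zero]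
  rw [hstep1]
  constructor
  · intro hall
    have hloc : ∀ x : ProjectiveSpectrum 𝒜,
        ∃ c : R, c ∉ x.asHomogeneousIdeal.toIdeal ∧ c • (m : M) = 0 :=
      fun x => (hzero x).mp (hall x)
    have hle : (HomogeneousIdeal.irrelevant 𝒜).toIdeal ≤ J.radical := by
      rw [hJhom.radical_eq]
      intro f hf
      rw [Submodule.mem_sInf]
      rintro P ⟨hPhom, hJP, hPprime⟩
      by_contra hfP
      have hnot : ¬ HomogeneousIdeal.irrelevant 𝒜 ≤ (⟨P, hPhom⟩ : HomogeneousIdeal 𝒜) :=
        fun hle => hfP (hle hf)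
      obtain ⟨c, hc, hcm⟩ := hloc ⟨⟨P, hPhom⟩, hPprime, hnot⟩
      exact hc (hJP ((hJ c).mpr hcm))
    obtain ⟨k, hk⟩ := Ideal.exists_pow_le_of_le_radical_of_fg_radical hle
      (IsNoetherian.noetherian _)
    exact ⟨k, fun r hr => (hJ r).mp (hk hr)⟩
  · rintro ⟨k, hk⟩ x
    rw [hzero x]
    obtain ⟨r, hr, hrx⟩ := SetLike.not_le_iff_exists.mp x.not_irrelevant_le
    exact ⟨r ^ k, fun h => hrx (x.isPrime.mem_of_pow_mem k h),
      hk (r ^ k) (Ideal.pow_mem_pow hr k)⟩

end Groth.Agent.S15549
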