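import Groth.Statements.S15560
import Mathlib
import Groth.Agent.Lib.helper7.Kron

set_option autoImplicit false
universe u v w
open KronMod

namespace Groth.Agent.S15560

/-- Let f be a Kronecker module with n arrows over a field K, from a space V of dimension d₋₁ > 0 to a
space W of dimension d₀ > 0. If n·d₋₁ < d₀ or n·d₀ < d₋₁, then f is not semistable; that is, there
are no semistable Kronecker modules of dimension vector (d₋₁, d₀). (The published statement assumes
K algebraically closed of characteristic zero and n ≥ 2; this row allows any field K and any number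
n of arrows.) -/
theorem result (K : Type u) [Field K] (V : Type v) (W : Type w)
    [AddCommGroup V] [Module K V] [FiniteDimensional K V]
    [AddCommGroup W] [Module K W] [FiniteDimensional K W]
    (n : ℕ) (f : Fin n → (V →ₗ[K] W))
    (hV : 0 < Module.finrank K V) (hW : 0 < Module.finrank K W)
    (h : n * Module.finrank K V < Module.finrank K W ∨ n * Module.finrank K W < Module.finrank K V) :
    ¬ KronMod.IsSemistable f := by
  intro hss
  rcases h with h | h
  · have hr : Module.finrank K (LinearMap.range (Groth.Agent.Lib.helper7.H7_sumMap f)) ≤ n * Module.finrank K V := by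
      have := LinearMap.finrank_range_le (Groth.Agent.Lib.helper7.H7_sumMap f)
      rwa [Groth.Agent.Lib.helper7.H7_finrank_pi_const] at this
    have htop : ¬ ((⊤ : Submodule K V) = ⊥ ∧ LinearMap.range (Groth.Agent.Lib.helper7.H7_sumMap f) = ⊥) := by
      rintro ⟨h1, _⟩
      have : Module.finrank K (⊤ : Submodule K V) = 0 := by rw [h1]; simp
      rw [finrank_top] at this
      omega
    have hne : ¬ ((⊤ : Submodule K V) = ⊤ ∧ LinearMap.range (Groth.Agent.Lib.helper7.H7_sumMap f) = ⊤) := by
      rintro ⟨_, h1⟩
      rw [h1, finrank_top] at hr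
      omega
    have h2 := hss.2 ⊤ _ (Groth.Agent.Lib.helper7.H7_isSubrep_top_range f) htop hne
    rw [finrank_top, mul_comm] at h2
    have h3 := Nat.le_of_mul_le_mul_left h2 hV
    omega
  · have hrk := LinearMap.finrank_range_add_finrank_ker (Groth.Agent.Lib.helper7.H7_piMap f)
    have hr : Module.finrank K (LinearMap.range (Groth.Agent.Lib.helper7.H7_piMap f)) ≤ n * Module.finrank K W := by
      have := Submodule.finrank_le (LinearMap.range (Groth.Agent.Lib.helper7.H7_piMap f))
      rwa [Groth.Agent.Lib.helper7.H7_finrank_pi_const] at this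
    have hk : 0 < Module.finrank K (LinearMap.ker (Groth.Agent.Lib.helper7.H7_piMap f)) := by omega
    have hne : ¬ (LinearMap.ker (Groth.Agent.Lib.helper7.H7_piMap f) = ⊥ ∧ (⊥ : Submodule K W) = ⊥) := by
      rintro ⟨h1, _⟩
      rw [h1, finrank_bot] at hk
      omega
    have hbot : ¬ (LinearMap.ker (Groth.Agent.Lib.helper7.H7_piMap f) = ⊤ ∧ (⊥ : Submodule K W) = ⊤) := by
      rintro ⟨_, h1⟩
      have : Module.finrank K (⊤ : Submodule K W) = 0 := by rw [← h1]; simp
      rw [finrank_top] at this
      omega
    have h2 := hss.2 _ ⊥ (Groth.Agent.Lib.helper7.H7_isSubrep_ker_bot f) hne hbot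
    rw [finrank_bot, mul_zero] at h2
    have := Nat.mul_pos hW hk
    omega

end Groth.Agent.S15560
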