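import Groth.Statements.S15562
import Mathlib
import Groth.Agent.Lib.helper7.Kron
import Groth.Agent.S15561

set_option autoImplicit false
universe u v w
open KronMod

namespace Groth.Agent.S15562

/-- Over a field K, for V of dimension d₋₁ > 0 and W of dimension n·d₋₁, semistable Kronecker modules
with n arrows from V to W exist, and any two of them are isomorphic as Kronecker modules; in other
words the moduli space K(n; d₋₁, n·d₋₁) of semistable Kronecker modules is a single point. (The
published statement assumes K algebraically closed of characteristic zero and n ≥ 2; this row allows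
any field K and any number n of arrows.) -/
theorem result (K : Type u) [Field K] (V : Type v) (W : Type w)
    [AddCommGroup V] [Module K V] [FiniteDimensional K V]
    [AddCommGroup W] [Module K W] [FiniteDimensional K W]
    (n : ℕ) (hV : 0 < Module.finrank K V) (hW : Module.finrank K W = n * Module.finrank K V) :
    (∃ f : Fin n → (V →ₗ[K] W), KronMod.IsSemistable f) ∧
    ∀ f f' : Fin n → (V →ₗ[K] W), KronMod.IsSemistable f → KronMod.IsSemistable f' →
      KronMod.AreIso f f' := by
  classical
  have hdim : Module.finrank K (Fin n → V) = Module.finrank K W := by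
    rw [Groth.Agent.Lib.helper7.H7_finrank_pi_const, hW]
  have hsingle : ∀ (g : Fin n → (V →ₗ[K] W)) (j : Fin n) (v : V),
      (∑ i, g i ((Pi.single j v : Fin n → V) i)) = g j v := by
    intro g j v
    rw [Finset.sum_eq_single j]
    · simp
    · intro b _ hb
      simp [Pi.single_eq_of_ne hb]
    · intro h
      exact absurd (Finset.mem_univ j) h
  constructor
  · let e : (Fin n → V) ≃ₗ[K] W := LinearEquiv.ofFinrankEq _ _ hdim
    refine ⟨fun j => e.toLinearMap ∘ₗ LinearMap.single K (fun _ => V) j, ?_⟩
    rw [Groth.Agent.S15561.result K V W n _ hV hW]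
    have : (fun v : Fin n → V => ∑ j, (e.toLinearMap ∘ₗ LinearMap.single K (fun _ => V) j) (v j)) = ⇑e := by
      funext v
      simp only [LinearMap.coe_comp, Function.comp_apply, LinearEquiv.coe_coe]
      rw [← map_sum]
      congr 1
      funext i
      simp [Finset.sum_apply, Pi.single_apply]
    rw [this]
    exact e.bijective
  · intro f f' hf hf'
    rw [Groth.Agent.S15561.result K V W n _ hV hW] at hf hf'
    let S : (Fin n → V) →ₗ[K] W :=
      { toFun := fun v => ∑ j, f j (v j)
        map_add' := by intro a b; simp [Finset.sum_add_distrib]
        map_smul' := by intro c a; simp [Finset.smul_sum] }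
    let S' : (Fin n → V) →ₗ[K] W :=
      { toFun := fun v => ∑ j, f' j (v j)
        map_add' := by intro a b; simp [Finset.sum_add_distrib]
        map_smul' := by intro c a; simp [Finset.smul_sum] }
    let e : (Fin n → V) ≃ₗ[K] W := LinearEquiv.ofBijective S hf
    let e' : (Fin n → V) ≃ₗ[K] W := LinearEquiv.ofBijective S' hf'
    refine ⟨LinearEquiv.refl K V, e.symm.trans e', ?_⟩
    intro j
    ext v
    simp only [LinearMap.coe_comp, LinearEquiv.coe_coe, Function.comp_apply, LinearEquiv.trans_apply,
      LinearEquiv.refl_apply]
    have h1 : f j v = e (Pi.single j v) := by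
      show f j v = ∑ i, f i ((Pi.single j v : Fin n → V) i)
      rw [hsingle]
    have h2 : f' j v = e' (Pi.single j v) := by
      show f' j v = ∑ i, f' i ((Pi.single j v : Fin n → V) i)
      rw [hsingle]
    rw [h1, h2, LinearEquiv.symm_apply_apply]

end Groth.Agent.S15562
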