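import Groth.Statements.S15563
import Mathlib
import Groth.Agent.Lib.helper7.Kron
import Groth.Agent.S15561

set_option autoImplicit false
universe u v w
open KronMod

namespace Groth.Agent.S15563

/-- Let f be a Kronecker module with n arrows over a field K, from V of dimension d₋₁ > 0 to W of
dimension n·d₋₁. Then f is stable if and only if f is semistable and d₋₁ = 1: for d₋₁ = 1 every
semistable module is stable (so the stable locus of K(n; 1, n) is the one point), while for d₋₁ > 1
no module is stable. (The published statement assumes K algebraically closed of characteristic zero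
and n ≥ 2; this row allows any field K and any number n of arrows.) -/
theorem result (K : Type u) [Field K] (V : Type v) (W : Type w)
    [AddCommGroup V] [Module K V] [FiniteDimensional K V]
    [AddCommGroup W] [Module K W] [FiniteDimensional K W]
    (n : ℕ) (f : Fin n → (V →ₗ[K] W))
    (hV : 0 < Module.finrank K V) (hW : Module.finrank K W = n * Module.finrank K V) :
    KronMod.IsStable f ↔ (KronMod.IsSemistable f ∧ Module.finrank K V = 1) := by
  classical
  constructor
  · intro hst
    have hss : KronMod.IsSemistable f :=
      ⟨hst.1, fun V' W' h1 h2 h3 => le_of_lt (hst.2 V' W' h1 h2 h3)⟩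
    refine ⟨hss, ?_⟩
    by_contra hne
    have hv2 : 2 ≤ Module.finrank K V := by omega
    have : Nontrivial V := Module.nontrivial_of_finrank_pos hV
    obtain ⟨x, hx⟩ := exists_ne (0 : V)
    let T : (Fin n → K) →ₗ[K] W := ∑ j, (LinearMap.toSpanSingleton K W (f j x)) ∘ₗ LinearMap.proj j
    have hT : ∀ c : Fin n → K, T c = ∑ j, c j • f j x := by
      intro c
      simp [T]
    have hsub : KronMod.IsSubrep f (Submodule.span K {x}) (LinearMap.range T) := by
      rw [Groth.Agent.Lib.helper7.H7_isSubrep_iff]
      intro j v hv
      obtain ⟨c, rfl⟩ := Submodule.mem_span_singleton.mp hv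
      refine ⟨Pi.single j c, ?_⟩
      rw [hT, Finset.sum_eq_single j]
      · simp
      · intro b _ hb
        simp [Pi.single_eq_of_ne hb]
      · intro h
        exact absurd (Finset.mem_univ j) h
    have hf1 : Module.finrank K (Submodule.span K {x}) = 1 := finrank_span_singleton hx
    have hr : Module.finrank K (LinearMap.range T) ≤ n := by
      have := LinearMap.finrank_range_le T
      rwa [Module.finrank_fin_fun] at this
    have hnb : ¬ (Submodule.span K {x} = ⊥ ∧ LinearMap.range T = ⊥) := by
      rintro ⟨h1, _⟩
      rw [h1, finrank_bot] at hf1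
      omega
    have hnt : ¬ (Submodule.span K {x} = ⊤ ∧ LinearMap.range T = ⊤) := by
      rintro ⟨h1, _⟩
      rw [h1, finrank_top] at hf1
      omega
    have h2 := hst.2 _ _ hsub hnb hnt
    rw [hf1, mul_one, hW] at h2
    have h3 : Module.finrank K V * Module.finrank K (LinearMap.range T) ≤ Module.finrank K V * n :=
      Nat.mul_le_mul_left _ hr
    rw [mul_comm n] at h2
    omega
  · rintro ⟨hss, hv1⟩
    have hbij := (Groth.Agent.S15561.result K V W n f hV hW).mp hss
    refine ⟨hss.1, ?_⟩
    intro V' W' hsub hnb hnt
    rw [Groth.Agent.Lib.helper7.H7_isSubrep_iff] at hsub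
    have hle := Submodule.finrank_le V'
    rw [hv1] at hle
    rcases Nat.eq_zero_or_pos (Module.finrank K V') with h0 | h0
    · have hVb : V' = ⊥ := Submodule.finrank_eq_zero.mp h0
      have hWb : W' ≠ ⊥ := fun h => hnb ⟨hVb, h⟩
      have hWpos : 0 < Module.finrank K W' := by
        rcases Nat.eq_zero_or_pos (Module.finrank K W') with h | h
        · exact absurd (Submodule.finrank_eq_zero.mp h) hWb
        · exact h
      rw [h0, mul_zero, hv1, one_mul]
      exact hWpos
    · have hVt : V' = ⊤ := by
        apply Submodule.eq_top_of_finrank_eq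
        omega
      exfalso
      apply hnt
      refine ⟨hVt, ?_⟩
      rw [eq_top_iff]
      intro w _
      obtain ⟨u, rfl⟩ := hbij.2 w
      apply Submodule.sum_mem
      intro j _
      exact hsub j (u j) (by rw [hVt]; trivial)

end Groth.Agent.S15563
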