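import Groth.Statements.S15564
import Mathlib
import Groth.Agent.Lib.helper7.Kron

set_option autoImplicit false
universe u v w
open KronMod

namespace Groth.Agent.S15564

/-- For a Kronecker module f with n arrows over a field K between one-dimensional spaces V and W,
semistability, stability and f ≠ 0 are equivalent: the semistable locus and the stable locus of
dimension vector (1, 1) are both the complement of the zero module. (The published statement assumes
K algebraically closed of characteristic zero and n ≥ 2; this row allows any field K and any n.) -/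
theorem result (K : Type u) [Field K] (V : Type v) (W : Type w)
    [AddCommGroup V] [Module K V] [FiniteDimensional K V]
    [AddCommGroup W] [Module K W] [FiniteDimensional K W]
    (n : ℕ) (f : Fin n → (V →ₗ[K] W))
    (hV : Module.finrank K V = 1) (hW : Module.finrank K W = 1) :
    (KronMod.IsSemistable f ↔ f ≠ 0) ∧ (KronMod.IsStable f ↔ f ≠ 0) := by
  classical
  have h1 : KronMod.IsStable f → KronMod.IsSemistable f := fun hst =>
    ⟨hst.1, fun V' W' a b c => le_of_lt (hst.2 V' W' a b c)⟩
  have h2 : KronMod.IsSemistable f → f ≠ 0 := by
    intro hss hf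
    have hsub : KronMod.IsSubrep f ⊤ ⊥ := by
      rw [Groth.Agent.Lib.helper7.H7_isSubrep_iff]
      intro j v _
      rw [hf]
      simp
    have hnb : ¬ ((⊤ : Submodule K V) = ⊥ ∧ (⊥ : Submodule K W) = ⊥) := by
      rintro ⟨h, _⟩
      have : Module.finrank K (⊤ : Submodule K V) = 0 := by rw [h]; simp
      rw [finrank_top] at this
      omega
    have hnt : ¬ ((⊤ : Submodule K V) = ⊤ ∧ (⊥ : Submodule K W) = ⊤) := by
      rintro ⟨_, h⟩
      have : Module.finrank K (⊤ : Submodule K W) = 0 := by rw [← h]; simp
      rw [finrank_top] at this
      omega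
    have := hss.2 ⊤ ⊥ hsub hnb hnt
    rw [finrank_top, finrank_bot, hV, hW] at this
    omega
  have h3 : f ≠ 0 → KronMod.IsStable f := by
    intro hf
    have : ∃ j v, f j v ≠ 0 := by
      by_contra hcon
      push Not at hcon
      apply hf
      funext j
      ext v
      simpa using hcon j v
    obtain ⟨j, v0, hjv⟩ := this
    refine ⟨by omega, ?_⟩
    intro V' W' hsub hnb hnt
    rw [Groth.Agent.Lib.helper7.H7_isSubrep_iff] at hsub
    have hleV := Submodule.finrank_le V'
    have hleW := Submodule.finrank_le W'
    rw [hV] at hleV
    rw [hW] at hleW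
    rw [hV, hW, one_mul, one_mul]
    rcases Nat.eq_zero_or_pos (Module.finrank K V') with h0 | h0
    · have hVb : V' = ⊥ := Submodule.finrank_eq_zero.mp h0
      have hWb : W' ≠ ⊥ := fun h => hnb ⟨hVb, h⟩
      rcases Nat.eq_zero_or_pos (Module.finrank K W') with h | h
      · exact absurd (Submodule.finrank_eq_zero.mp h) hWb
      · omega
    · exfalso
      have hVt : V' = ⊤ := by
        apply Submodule.eq_top_of_finrank_eq
        omega
      have hmem : f j v0 ∈ W' := hsub j v0 (by rw [hVt]; trivial)
      have hWb : W' ≠ ⊥ := by
        intro h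
        rw [h, Submodule.mem_bot] at hmem
        exact hjv hmem
      have hWpos : 0 < Module.finrank K W' := by
        rcases Nat.eq_zero_or_pos (Module.finrank K W') with h | h
        · exact absurd (Submodule.finrank_eq_zero.mp h) hWb
        · exact h
      have hWt : W' = ⊤ := by
        apply Submodule.eq_top_of_finrank_eq
        omega
      exact hnt ⟨hVt, hWt⟩
  exact ⟨⟨h2, fun h => h1 (h3 h)⟩, ⟨fun h => h2 (h1 h), h3⟩⟩

end Groth.Agent.S15564
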