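import Groth.Statements.S15565
import Mathlib
import Groth.Agent.Lib.helper7.Kron

set_option autoImplicit false
universe u v w
open KronMod

namespace Groth.Agent.S15565

/-- Over an algebraically closed field K, a Kronecker module with two arrows between spaces V and W of
the same dimension k ≥ 2 is never stable: the stable locus of dimension vector (k, k) for the
Kronecker quiver with two arrows is empty. (The published statement also assumes characteristic
zero; this row does not.) -/
theorem result (K : Type u) [Field K] [IsAlgClosed K] (V : Type v) (W : Type w)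
    [AddCommGroup V] [Module K V] [FiniteDimensional K V]
    [AddCommGroup W] [Module K W] [FiniteDimensional K W]
    (f : Fin 2 → (V →ₗ[K] W)) (k : ℕ) (hk : 2 ≤ k)
    (hV : Module.finrank K V = k) (hW : Module.finrank K W = k) :
    ¬ KronMod.IsStable f := by
  classical
  intro hst
  have hVpos : 0 < Module.finrank K V := by omega
  have : Nontrivial V := Module.nontrivial_of_finrank_pos hVpos
  have key : ∃ x : V, x ≠ 0 ∧ ∃ y : W, f 0 x ∈ Submodule.span K {y} ∧ f 1 x ∈ Submodule.span K {y} := by
    by_cases hinj : Function.Injective (f 0)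
    · have hdim : Module.finrank K V = Module.finrank K W := by rw [hV, hW]
      have hsurj := (LinearMap.injective_iff_surjective_of_finrank_eq_finrank hdim).mp hinj
      let e0 : V ≃ₗ[K] W := LinearEquiv.ofBijective (f 0) ⟨hinj, hsurj⟩
      let φ : Module.End K V := e0.symm.toLinearMap ∘ₗ f 1
      obtain ⟨μ, hμ⟩ := Module.End.exists_eigenvalue φ
      obtain ⟨x, hx⟩ := hμ.exists_hasEigenvector
      refine ⟨x, hx.2, f 0 x, Submodule.mem_span_singleton_self _, ?_⟩
      have h1 : φ x = μ • x := hx.apply_eq_smul
      have h2 : e0 (φ x) = f 1 x := by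
        simp [φ]
      rw [← h2, h1, map_smul]
      exact Submodule.smul_mem _ _ (Submodule.mem_span_singleton_self _)
    · rw [← LinearMap.ker_eq_bot] at hinj
      obtain ⟨x, hxk, hx0⟩ := Submodule.exists_mem_ne_zero_of_ne_bot hinj
      refine ⟨x, hx0, f 1 x, ?_, Submodule.mem_span_singleton_self _⟩
      rw [LinearMap.mem_ker] at hxk
      rw [hxk]
      exact Submodule.zero_mem _
  obtain ⟨x, hx, y, hy0, hy1⟩ := key
  have hsub : KronMod.IsSubrep f (Submodule.span K {x}) (Submodule.span K {y}) := by
    rw [Groth.Agent.Lib.helper7.H7_isSubrep_iff]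
    intro j v hv
    obtain ⟨c, rfl⟩ := Submodule.mem_span_singleton.mp hv
    rw [map_smul]
    apply Submodule.smul_mem
    fin_cases j
    · exact hy0
    · exact hy1
  have hf1 : Module.finrank K (Submodule.span K {x}) = 1 := finrank_span_singleton hx
  have hr : Module.finrank K (Submodule.span K {y}) ≤ 1 := by
    by_cases hy : y = 0
    · rw [hy, Submodule.span_zero_singleton, finrank_bot]
      omega
    · rw [finrank_span_singleton hy]
  have hnb : ¬ (Submodule.span K {x} = ⊥ ∧ Submodule.span K {y} = ⊥) := by
    rintro ⟨h1, _⟩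
    rw [h1, finrank_bot] at hf1
    omega
  have hnt : ¬ (Submodule.span K {x} = ⊤ ∧ Submodule.span K {y} = ⊤) := by
    rintro ⟨h1, _⟩
    rw [h1, finrank_top] at hf1
    omega
  have h2 := hst.2 _ _ hsub hnb hnt
  rw [hf1, mul_one, hV, hW] at h2
  have h3 : k * Module.finrank K (Submodule.span K {y}) ≤ k * 1 := Nat.mul_le_mul_left _ hr
  omega

end Groth.Agent.S15565
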