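import Groth.Statements.S15568
import Mathlib

set_option autoImplicit false
universe u
open QuiverStab

namespace Groth.Agent.S15568

theorem h8_dot_comb {I : Type*} [Fintype I] (a b : ℝ) (θ₁ θ₂ : I → ℝ) (c : I → ℝ) :
    ∑ i, (a • θ₁ + b • θ₂) i * c i = a * (∑ i, θ₁ i * c i) + b * (∑ i, θ₂ i * c i) := by
  simp only [Pi.add_apply, Pi.smul_apply, smul_eq_mul, Finset.mul_sum, ← Finset.sum_add_distrib]
  refine Finset.sum_congr rfl (fun i _ => by ring)

theorem h8_comb_pos {a b x y : ℝ} (ha : 0 ≤ a) (hb : 0 ≤ b) (hab : a + b = 1)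
    (hx : 0 < x) (hy : 0 < y) : 0 < a * x + b * y := by
  rcases ha.eq_or_lt with h | h
  · have ha0 : a = 0 := h.symm
    have hb1 : b = 1 := by linarith
    rw [ha0, hb1]; linarith
  · have h1 := mul_pos h hx
    have h2 := mul_nonneg hb hy.le
    linarith

theorem h8_ivt_sign {X : Type*} [TopologicalSpace X] (S : Set X) (x y : X) (f : X → ℝ)
    (hf : Continuous f) (hy : y ∈ connectedComponentIn S x) (hne : ∀ z ∈ S, f z ≠ 0) :
    SignType.sign (f x) = SignType.sign (f y) := by
  have hxS : x ∈ S := connectedComponentIn_nonempty_iff.mp ⟨y, hy⟩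
  have hyS : y ∈ S := connectedComponentIn_subset _ _ hy
  have hC : IsPreconnected (connectedComponentIn S x) := isPreconnected_connectedComponentIn
  have hm1 : x ∈ connectedComponentIn S x := mem_connectedComponentIn hxS
  have h1 := hne x hxS
  have h2 := hne y hyS
  rcases lt_or_gt_of_ne h1 with h1n | h1p
  · rcases lt_or_gt_of_ne h2 with h2n | h2p
    · rw [sign_neg h1n, sign_neg h2n]
    · exfalso
      obtain ⟨z, hz, hz0⟩ := hC.intermediate_value hm1 hy hf.continuousOn ⟨h1n.le, h2p.le⟩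
      exact hne z (connectedComponentIn_subset _ _ hz) hz0
  · rcases lt_or_gt_of_ne h2 with h2n | h2p
    · exfalso
      obtain ⟨z, hz, hz0⟩ := hC.intermediate_value hy hm1 hf.continuousOn ⟨h2n.le, h1p.le⟩
      exact hne z (connectedComponentIn_subset _ _ hz) hz0
    · rw [sign_pos h1p, sign_pos h2p]


/-- Walls and chambers for stability weights of a quiver. Let I be the finite vertex set, d ∈ ℕ^I a
dimension vector, and call two weights θ₁, θ₂ ∈ ℝ^I orthogonal to d numerically equivalent when, for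
every d′ ≤ d in ℕ^I, the numbers θ₁·d′ and θ₂·d′ are both positive, both negative or both zero. The
walls are the hyperplanes W(d′) = {θ ⊥ d : θ·d′ = 0} of d^⊥ for d′ ≤ d such that d is not a multiple
of d′. Then θ₁ and θ₂ are numerically equivalent if and only if there is a set J₁ of such d′ for
which θ₁ and θ₂ lie in the same connected component of the locally closed subset of d^⊥ consisting
of the weights lying on W(d₁) for every d₁ ∈ J₁ and off W(d₂) for every other wall W(d₂). (Only the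
quiver's vertex set enters; multiples are taken with natural-number factors.) -/
theorem result
    (I : Type u) [Fintype I] (d : I → ℕ) (θ₁ θ₂ : I → ℝ)
    (h₁ : ∑ i, θ₁ i * (d i : ℝ) = 0) (h₂ : ∑ i, θ₂ i * (d i : ℝ) = 0) :
    (∀ d' : I → ℕ, d' ≤ d →
        SignType.sign (∑ i, θ₁ i * (d' i : ℝ)) = SignType.sign (∑ i, θ₂ i * (d' i : ℝ))) ↔
    ∃ J₁ : Set (I → ℕ), J₁ ⊆ {d' | d' ≤ d ∧ ¬ ∃ m : ℕ, d = m • d'} ∧
      θ₂ ∈ connectedComponentIn
        {θ : I → ℝ | ∑ i, θ i * (d i : ℝ) = 0 ∧ (∀ d₁ ∈ J₁, ∑ i, θ i * (d₁ i : ℝ) = 0) ∧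
          ∀ d₂ : I → ℕ, d₂ ≤ d → (¬ ∃ m : ℕ, d = m • d₂) → d₂ ∉ J₁ →
            ∑ i, θ i * (d₂ i : ℝ) ≠ 0} θ₁ := by
  classical
  constructor
  · intro hsign
    refine ⟨{d' | d' ≤ d ∧ (¬ ∃ m : ℕ, d = m • d') ∧ ∑ i, θ₁ i * (d' i : ℝ) = 0}, ?_, ?_⟩
    · intro d' hd'
      exact ⟨hd'.1, hd'.2.1⟩
    · refine (convex_segment θ₁ θ₂).isPreconnected.subset_connectedComponentIn
        (left_mem_segment ℝ θ₁ θ₂) ?_ (right_mem_segment ℝ θ₁ θ₂)
      rintro θ ⟨a, b, ha, hb, hab, rfl⟩
      refine ⟨?_, ?_, ?_⟩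
      · rw [h8_dot_comb, h₁, h₂]; ring
      · intro d₁ hd₁
        have e1 : ∑ i, θ₁ i * (d₁ i : ℝ) = 0 := hd₁.2.2
        have e2 : ∑ i, θ₂ i * (d₁ i : ℝ) = 0 := by
          have := hsign d₁ hd₁.1
          rw [e1, sign_zero] at this
          exact sign_eq_zero_iff.mp this.symm
        rw [h8_dot_comb, e1, e2]; ring
      · intro d₂ hd₂ hmul hnot
        have hx : ∑ i, θ₁ i * (d₂ i : ℝ) ≠ 0 := fun h0 => hnot ⟨hd₂, hmul, h0⟩
        have hs := hsign d₂ hd₂
        rw [h8_dot_comb]
        rcases lt_or_gt_of_ne hx with hneg | hpos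
        · have hy : ∑ i, θ₂ i * (d₂ i : ℝ) < 0 := by
            rw [sign_neg hneg] at hs
            exact sign_eq_neg_one_iff.mp hs.symm
          have := h8_comb_pos ha hb hab (neg_pos.2 hneg) (neg_pos.2 hy)
          intro h0
          linarith
        · have hy : 0 < ∑ i, θ₂ i * (d₂ i : ℝ) := by
            rw [sign_pos hpos] at hs
            exact sign_eq_one_iff.mp hs.symm
          have := h8_comb_pos ha hb hab hpos hy
          exact this.ne'
  · rintro ⟨J₁, hJ, hmem⟩ d' hd'
    have h1S := connectedComponentIn_nonempty_iff.mp ⟨θ₂, hmem⟩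
    have h2S := connectedComponentIn_subset _ _ hmem
    by_cases hmul : ∃ m : ℕ, d = m • d'
    · obtain ⟨m, hm⟩ := hmul
      have hdi : ∀ i, d i = m * d' i := fun i => by simpa using congrFun hm i
      have key : ∀ θ : I → ℝ, ∑ i, θ i * (d i : ℝ) = 0 → ∑ i, θ i * (d' i : ℝ) = 0 := by
        intro θ hθ
        rcases Nat.eq_zero_or_pos m with h0 | hpos
        · have hd0 : ∀ i, d' i = 0 := by
            intro i
            have h3 : d' i ≤ d i := hd' i
            have h4 : d i = 0 := by rw [hdi i, h0]; simp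
            omega
          simp [hd0]
        · have h5 : ∑ i, θ i * (d i : ℝ) = (m : ℝ) * ∑ i, θ i * (d' i : ℝ) := by
            rw [Finset.mul_sum]
            refine Finset.sum_congr rfl (fun i _ => ?_)
            rw [hdi i]
            push_cast
            ring
          rw [h5] at hθ
          rcases mul_eq_zero.mp hθ with h | h
          · exact absurd (by exact_mod_cast h) hpos.ne'
          · exact h
      rw [key θ₁ h₁, key θ₂ h₂]
    · by_cases hJ1 : d' ∈ J₁
      · rw [h1S.2.1 d' hJ1, h2S.2.1 d' hJ1]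
      · refine h8_ivt_sign _ θ₁ θ₂ (fun θ : I → ℝ => ∑ i, θ i * (d' i : ℝ)) ?_ hmem ?_
        · fun_prop
        · intro z hz
          exact hz.2.2 d' hd' hmul hJ1

end Groth.Agent.S15568
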