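import Groth.Statements.S15572
import Mathlib
import Groth.Agent.Lib.helper7.Kron

set_option autoImplicit false
universe u v w
open KronMod

namespace Groth.Agent.S15572

/-- Let f be a Kronecker module with n arrows over a field K, from V of dimension n·d₀ to W of dimension
d₀ > 0. Then f is semistable if and only if the map V → Wⁿ sending v to (f_j(v))_j is bijective,
i.e. the arrows have zero common kernel. This is the characterisation dual to the one for dimension
vector (d₋₁, n·d₋₁), where the sum map Vⁿ → W is bijective. (The published statement assumes K
algebraically closed of characteristic zero and n ≥ 2; this row allows any field K and any number n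
of arrows.) -/
theorem result (K : Type u) [Field K] (V : Type v) (W : Type w)
    [AddCommGroup V] [Module K V] [FiniteDimensional K V]
    [AddCommGroup W] [Module K W] [FiniteDimensional K W]
    (n : ℕ) (f : Fin n → (V →ₗ[K] W))
    (hW : 0 < Module.finrank K W) (hV : Module.finrank K V = n * Module.finrank K W) :
    KronMod.IsSemistable f ↔ Function.Bijective (fun v : V => fun j : Fin n => f j v) := by
  have hfun : (fun v : V => fun j : Fin n => f j v) = ⇑(Groth.Agent.Lib.helper7.H7_piMap f) := rfl
  rw [hfun]
  have hdim : Module.finrank K V = Module.finrank K (Fin n → W) := by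
    rw [Groth.Agent.Lib.helper7.H7_finrank_pi_const, hV]
  constructor
  · intro hss
    have hinj : Function.Injective (Groth.Agent.Lib.helper7.H7_piMap f) := by
      rw [← LinearMap.ker_eq_bot]
      by_contra hne
      have hbot : ¬ (LinearMap.ker (Groth.Agent.Lib.helper7.H7_piMap f) = ⊤ ∧ (⊥ : Submodule K W) = ⊤) := by
        rintro ⟨_, h1⟩
        have : Module.finrank K (⊤ : Submodule K W) = 0 := by rw [← h1]; simp
        rw [finrank_top] at this
        omega
      have h2 := hss.2 _ ⊥ (Groth.Agent.Lib.helper7.H7_isSubrep_ker_bot f) (fun h => hne h.1) hbot
      rw [finrank_bot, mul_zero] at h2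
      have h3 : Module.finrank K (LinearMap.ker (Groth.Agent.Lib.helper7.H7_piMap f)) = 0 := by
        rcases Nat.eq_zero_or_pos (Module.finrank K (LinearMap.ker (Groth.Agent.Lib.helper7.H7_piMap f))) with h | h
        · exact h
        · have := Nat.mul_pos hW h
          omega
      exact hne (Submodule.finrank_eq_zero.mp h3)
    exact ⟨hinj, (LinearMap.injective_iff_surjective_of_finrank_eq_finrank hdim).mp hinj⟩
  · intro hbij
    refine ⟨by omega, ?_⟩
    intro V' W' hsub _ _
    have := Groth.Agent.Lib.helper7.H7_finrank_le_mul_of_piMap_injective f hbij.1 V' W' hsub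
    rw [hV]
    calc Module.finrank K W * Module.finrank K V'
        ≤ Module.finrank K W * (n * Module.finrank K W') := Nat.mul_le_mul_left _ this
      _ = n * Module.finrank K W * Module.finrank K W' := by ring

end Groth.Agent.S15572
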