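import Groth.Statements.S15570
import Mathlib
import Groth.Agent.Lib.helper7.Kron
import Groth.Agent.S15572

set_option autoImplicit false
universe u v w
open KronMod

namespace Groth.Agent.S15570

/-- Let f be a Kronecker module with n arrows over a field K, from V of dimension n·d₀ to W of dimension
d₀ > 0. Then f is stable if and only if f is semistable and d₀ = 1: for d₀ = 1 every semistable
module is stable (the stable locus of K(n; n, 1) is the one point), while for d₀ > 1 no module is
stable. This is the case dual to dimension vector (d₋₁, n·d₋₁). (The published statement assumes K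
algebraically closed of characteristic zero and n ≥ 2; this row allows any field K and any number n
of arrows.) -/
theorem result (K : Type u) [Field K] (V : Type v) (W : Type w)
    [AddCommGroup V] [Module K V] [FiniteDimensional K V]
    [AddCommGroup W] [Module K W] [FiniteDimensional K W]
    (n : ℕ) (f : Fin n → (V →ₗ[K] W))
    (hW : 0 < Module.finrank K W) (hV : Module.finrank K V = n * Module.finrank K W) :
    KronMod.IsStable f ↔ (KronMod.IsSemistable f ∧ Module.finrank K W = 1) := by
  classical
  constructor
  · intro hst
    have hss : KronMod.IsSemistable f :=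
      ⟨hst.1, fun V' W' h1 h2 h3 => le_of_lt (hst.2 V' W' h1 h2 h3)⟩
    refine ⟨hss, ?_⟩
    by_contra hne
    have hw2 : 2 ≤ Module.finrank K W := by omega
    let b := Module.finBasis K W
    let φ : W →ₗ[K] K := b.coord ⟨0, hW⟩
    have hφ : φ ≠ 0 := by
      intro h
      have h1 : φ (b ⟨0, hW⟩) = 1 := by simp [φ]
      rw [h] at h1
      simp at h1
    have hker : Module.finrank K (LinearMap.ker φ) + 1 = Module.finrank K W :=
      Module.Dual.finrank_ker_add_one_of_ne_zero hφ
    let Φ : V →ₗ[K] (Fin n → K) := LinearMap.pi fun j => φ ∘ₗ f j
    have hsub : KronMod.IsSubrep f (LinearMap.ker Φ) (LinearMap.ker φ) := by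
      rw [Groth.Agent.Lib.helper7.H7_isSubrep_iff]
      intro j v hv
      rw [LinearMap.mem_ker] at hv ⊢
      have := congrFun hv j
      simpa [Φ] using this
    have hrk := LinearMap.finrank_range_add_finrank_ker Φ
    have hr : Module.finrank K (LinearMap.range Φ) ≤ n := by
      have := Submodule.finrank_le (LinearMap.range Φ)
      rwa [Module.finrank_fin_fun] at this
    have hnb : ¬ (LinearMap.ker Φ = ⊥ ∧ LinearMap.ker φ = ⊥) := by
      rintro ⟨_, h1⟩
      rw [h1, finrank_bot] at hker
      omega
    have hnt : ¬ (LinearMap.ker Φ = ⊤ ∧ LinearMap.ker φ = ⊤) := by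
      rintro ⟨_, h1⟩
      rw [h1, finrank_top] at hker
      omega
    have h2 := hst.2 _ _ hsub hnb hnt
    have hk : n * Module.finrank K W - n ≤ Module.finrank K (LinearMap.ker Φ) := by
      rw [← hV]; omega
    have hk' : n * (Module.finrank K W - 1) ≤ Module.finrank K (LinearMap.ker Φ) := by
      rw [Nat.mul_sub, mul_one]; exact hk
    have h3 : Module.finrank K (LinearMap.ker φ) = Module.finrank K W - 1 := by omega
    rw [h3, hV] at h2
    have h4 : Module.finrank K W * (n * (Module.finrank K W - 1)) ≤
        Module.finrank K W * Module.finrank K (LinearMap.ker Φ) := Nat.mul_le_mul_left _ hk'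
    have h5 : Module.finrank K W * (n * (Module.finrank K W - 1)) =
        n * Module.finrank K W * (Module.finrank K W - 1) := by ring
    omega
  · rintro ⟨hss, hw1⟩
    have hbij := (Groth.Agent.S15572.result K V W n f hW hV).mp hss
    refine ⟨hss.1, ?_⟩
    intro V' W' hsub hnb hnt
    rw [Groth.Agent.Lib.helper7.H7_isSubrep_iff] at hsub
    have hle := Submodule.finrank_le W'
    rw [hw1] at hle
    rcases Nat.eq_zero_or_pos (Module.finrank K W') with h0 | h0
    · have hWb : W' = ⊥ := Submodule.finrank_eq_zero.mp h0
      exfalso
      apply hnb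
      refine ⟨?_, hWb⟩
      rw [eq_bot_iff]
      intro v hv
      rw [Submodule.mem_bot]
      apply hbij.1
      funext j
      have := hsub j v hv
      rw [hWb, Submodule.mem_bot] at this
      simp [this]
    · have hWt : W' = ⊤ := by
        apply Submodule.eq_top_of_finrank_eq
        omega
      have hVt : V' ≠ ⊤ := fun h => hnt ⟨h, hWt⟩
      have hlt : Module.finrank K V' < Module.finrank K V := Submodule.finrank_lt hVt
      rw [hWt, finrank_top, hw1, one_mul, mul_one]
      exact hlt

end Groth.Agent.S15570
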