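import Groth.Statements.S15575
import Mathlib
import Groth.Agent.Lib.helper7.QuadLoc
import Groth.Agent.S15574

set_option autoImplicit false
universe u v
open scoped TensorProduct
open RInv

namespace Groth.Agent.S15575

/-- Let `R` be a commutative ring with an involution `lam` and fixed ring `S` (no finiteness assumed).
If the localisation of `R` at a prime `p` of `S` is quadratic etale over `S_p`, then there is `s ∉
p` with `R[1/s]` quadratic etale over `S[1/s]`; in particular the set of such primes is open in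
`Spec S`. Localisations of `R` are written as base changes `S_p ⊗ R` and `S_s ⊗ R`. -/
theorem result (S : Type u) (R : Type v) [CommRing S] [CommRing R]
    [Algebra S R] (lam : R ≃+* R) (hlam : Function.Involutive lam) (hS : RInv.IsFixedRing S R lam)
    (p : PrimeSpectrum S)
    (hp : RInv.IsQuadEtale (Localization.AtPrime p.asIdeal) (Localization.AtPrime p.asIdeal ⊗[S] R)) :
    ∃ s : S, s ∉ p.asIdeal ∧
      RInv.IsQuadEtale (Localization.Away s) (Localization.Away s ⊗[S] R) := by
  classical
  obtain ⟨lamA, hlamA⟩ := Groth.Agent.Lib.helper7.H7_lamA S R lam hS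
  subst hlamA
  have hlam' : Function.Involutive lamA := hlam
  obtain ⟨hinv, hT, hTs⟩ := Groth.Agent.Lib.helper7.H7_T_props S R (Localization.AtPrime p.asIdeal) lamA hlam'
  have hfix := Groth.Agent.S15586.result S R (Localization.AtPrime p.asIdeal) lamA hlam' hS (Or.inl inferInstance)
  obtain ⟨r', hr'⟩ := Groth.Agent.S15574.result _ _ _ hinv hfix hp
  obtain ⟨hfrac, hfeq⟩ := Groth.Agent.Lib.helper7.H7_tensor_frac S R p.asIdeal.primeCompl (Localization.AtPrime p.asIdeal)
  have hunitS : ∀ t : p.asIdeal.primeCompl, ∀ z : Localization.AtPrime p.asIdeal ⊗[S] R,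
      IsUnit z → IsUnit ((t : S) • z) := by
    intro t z hz
    have h1 : (t : S) • z = algebraMap (Localization.AtPrime p.asIdeal) (Localization.AtPrime p.asIdeal ⊗[S] R)
        (algebraMap S (Localization.AtPrime p.asIdeal) t) * z := by
      rw [← IsScalarTower.algebraMap_apply]
      exact Algebra.smul_def (R := S) (A := Localization.AtPrime p.asIdeal ⊗[S] R) (t : S) z
    rw [h1]
    exact ((IsLocalization.map_units (Localization.AtPrime p.asIdeal) t).map _).mul hz
  obtain ⟨r, t, hrt⟩ := hfrac r'
  have hw : IsUnit ((1 : Localization.AtPrime p.asIdeal) ⊗ₜ[S] (r - lamA r)) := by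
    have : (1 : Localization.AtPrime p.asIdeal) ⊗ₜ[S] (r - lamA r) = (t : S) • (r' - (Algebra.TensorProduct.congr (AlgEquiv.refl : Localization.AtPrime p.asIdeal ≃ₐ[S] Localization.AtPrime p.asIdeal) lamA).toRingEquiv r') := by
      rw [smul_sub, ← hTs, hrt, hT, TensorProduct.tmul_sub]
    rw [this]
    exact hunitS t _ hr'
  obtain ⟨y', hy'⟩ := hw.exists_right_inv
  obtain ⟨y, t', hyt⟩ := hfrac y'
  have h2 : (1 : Localization.AtPrime p.asIdeal) ⊗ₜ[S] ((r - lamA r) * y) = (1 : Localization.AtPrime p.asIdeal) ⊗ₜ[S] (algebraMap S R t') := by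
    have h3 : (1 : Localization.AtPrime p.asIdeal) ⊗ₜ[S] ((r - lamA r) * y) = ((1 : Localization.AtPrime p.asIdeal) ⊗ₜ[S] (r - lamA r)) * ((1 : Localization.AtPrime p.asIdeal) ⊗ₜ[S] y) := by
      rw [Algebra.TensorProduct.tmul_mul_tmul, one_mul]
    rw [h3, ← hyt, mul_smul_comm, hy', Algebra.TensorProduct.one_def, TensorProduct.smul_tmul',
      TensorProduct.smul_tmul, Algebra.smul_def, mul_one]
  obtain ⟨c, hc⟩ := hfeq _ _ h2
  refine ⟨(c : S) * (t' : S), (c * t').2, ?_⟩
  apply Groth.Agent.Lib.helper7.H7_quadEtale_baseChange S R (Localization.Away ((c : S) * (t' : S))) lamA hlam' hS r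
  have h4 : ((1 : Localization.Away ((c : S) * (t' : S))) ⊗ₜ[S] (r - lamA r)) * ((1 : Localization.Away ((c : S) * (t' : S))) ⊗ₜ[S] ((c : S) • y))
      = algebraMap (Localization.Away ((c : S) * (t' : S))) (Localization.Away ((c : S) * (t' : S)) ⊗[S] R)
        (algebraMap S (Localization.Away ((c : S) * (t' : S))) ((c : S) * (t' : S))) := by
    rw [Algebra.TensorProduct.tmul_mul_tmul, one_mul, mul_smul_comm, hc, Algebra.smul_def, ← map_mul,
      Algebra.TensorProduct.algebraMap_apply, Algebra.algebraMap_self, RingHom.id_apply,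
      ← mul_one (algebraMap S (Localization.Away ((c : S) * (t' : S))) ((c : S) * (t' : S))),
      ← Algebra.smul_def, TensorProduct.smul_tmul, Algebra.smul_def, mul_one]
  have h5 : IsUnit (algebraMap (Localization.Away ((c : S) * (t' : S))) (Localization.Away ((c : S) * (t' : S)) ⊗[S] R)
        (algebraMap S (Localization.Away ((c : S) * (t' : S))) ((c : S) * (t' : S)))) :=
    (IsLocalization.Away.algebraMap_isUnit ((c : S) * (t' : S))).map _
  rw [← h4] at h5
  exact isUnit_of_mul_isUnit_left h5

end Groth.Agent.S15575
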