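import Groth.Statements.S15576
import Mathlib
import Groth.Agent.Lib.helper7.QuadEt2
import Groth.Agent.S15573

set_option autoImplicit false
universe u v
open RInv

namespace Groth.Agent.S15576

/-- Let `R` be a commutative ring with an involution `lam` whose fixed ring `S` is local. If the
automorphism induced by `lam` on `R` modulo its Jacobson radical is not the identity, then `R` is a
quadratic etale `S`-algebra. -/
theorem result (S : Type u) (R : Type v) [CommRing S] [CommRing R]
    [Algebra S R] (lam : R ≃+* R) (hlam : Function.Involutive lam) (hS : RInv.IsFixedRing S R lam)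
    [IsLocalRing S] (h : ∃ r : R, lam r - r ∉ Ring.jacobson R) : RInv.IsQuadEtale S R := by
  classical
  obtain ⟨r, hr⟩ := h
  rw [Ring.jacobson_eq_sInf_isMaximal, Submodule.mem_sInf] at hr
  push Not at hr
  obtain ⟨M, hM, hrM⟩ := hr
  have hM' : Ideal.IsMaximal (M : Ideal R) := hM
  apply Groth.Agent.S15573.result S R lam hlam hS
  refine ⟨r, ?_⟩
  have hfix : lam ((r - lam r) * (r - lam r)) = (r - lam r) * (r - lam r) := by
    rw [map_mul, map_sub, hlam r]; ring
  obtain ⟨s, hs⟩ := (hS.2 _).1 hfix
  have hcm := Groth.Agent.Lib.helper7.H7_fixed_comap_max S R lam hlam hS M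
  have hsu : IsUnit s := by
    by_contra hns
    have : s ∈ IsLocalRing.maximalIdeal S := (IsLocalRing.mem_maximalIdeal s).2 hns
    rw [← hcm, Ideal.mem_comap, hs] at this
    rcases hM'.isPrime.mem_or_mem this with h1 | h1
    · apply hrM
      have : lam r - r = -(r - lam r) := by ring
      rw [this]; exact M.neg_mem h1
    · apply hrM
      have : lam r - r = -(r - lam r) := by ring
      rw [this]; exact M.neg_mem h1
  have : IsUnit ((r - lam r) * (r - lam r)) := by
    rw [← hs]; exact hsu.map _
  exact isUnit_of_mul_isUnit_left this

end Groth.Agent.S15576
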