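import Groth.Statements.S15577
import Mathlib
import Groth.Agent.Lib.helper7.QuadEt2
import Groth.Agent.Lib.helper7.QuadEt3

set_option autoImplicit false
universe u v
open RInv

namespace Groth.Agent.S15577

/-- Let `R` be a commutative ring with an involution `lam` whose fixed ring `S` is local. If `lam`
induces the identity on `R` modulo its Jacobson radical, then `R` is a local ring and is not a
quadratic etale `S`-algebra. -/
theorem result (S : Type u) (R : Type v) [CommRing S] [CommRing R]
    [Algebra S R] (lam : R ≃+* R) (hlam : Function.Involutive lam) (hS : RInv.IsFixedRing S R lam)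
    [IsLocalRing S] (h : ∀ r : R, lam r - r ∈ Ring.jacobson R) :
    IsLocalRing R ∧ ¬ RInv.IsQuadEtale S R := by
  classical
  have hnt : Nontrivial R := hS.1.nontrivial
  have hjac : ∀ (N : Ideal R), N.IsMaximal → ∀ r, lam r - r ∈ N := by
    intro N hN r
    have := h r
    rw [Ring.jacobson_eq_sInf_isMaximal, Submodule.mem_sInf] at this
    exact this N hN
  constructor
  · obtain ⟨M, hM⟩ := Ideal.exists_maximal R
    apply IsLocalRing.of_unique_max_ideal
    refine ⟨M, hM, ?_⟩
    intro N hN
    by_contra hne
    have hnle : ¬ N ≤ M := fun hle => hne (hN.eq_of_le hM.ne_top hle)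
    obtain ⟨x, hxN, hxM⟩ := Set.not_subset.1 hnle
    have hfix : lam (x * lam x) = x * lam x := by rw [map_mul, hlam x]; ring
    obtain ⟨s, hs⟩ := (hS.2 _).1 hfix
    have h1 : s ∈ N.comap (algebraMap S R) := by
      rw [Ideal.mem_comap, hs]; exact N.mul_mem_right _ hxN
    rw [Groth.Agent.Lib.helper7.H7_fixed_comap_max S R lam hlam hS N, ← Groth.Agent.Lib.helper7.H7_fixed_comap_max S R lam hlam hS M,
      Ideal.mem_comap, hs] at h1
    rcases hM.isPrime.mem_or_mem h1 with h2 | h2
    · exact hxM h2
    · apply hxM
      have : x = lam x - (lam x - x) := by ring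
      rw [this]
      exact M.sub_mem h2 (hjac M hM x)
  · intro hq
    obtain ⟨r, hr⟩ := Groth.Agent.Lib.helper7.H7_quad_unit S R lam hlam hS hq
    obtain ⟨M, hM⟩ := Ideal.exists_maximal R
    have : r - lam r ∈ M := by
      have : r - lam r = -(lam r - r) := by ring
      rw [this]; exact M.neg_mem (hjac M hM r)
    exact hM.ne_top (Ideal.eq_top_of_isUnit_mem _ this hr)

end Groth.Agent.S15577
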