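import Groth.Statements.S15579
import Mathlib

set_option autoImplicit false
universe u v
open RInv

namespace Groth.Agent.S15579

/-- For a local ring `S` with maximal ideal `m` and a quadratic etale `S`-algebra `R`, the Jacobson
radical of `R` is `mR`. -/
theorem result (S : Type u) (R : Type v) [CommRing S]
    [CommRing R] [Algebra S R] [IsLocalRing S] (hq : RInv.IsQuadEtale S R) :
    Ring.jacobson R = (IsLocalRing.maximalIdeal S).map (algebraMap S R) := by
  classical
  obtain ⟨hfin, hproj, hunr, hrk⟩ := hq
  have hint : Algebra.IsIntegral S R := Algebra.IsIntegral.of_finite S R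
  apply le_antisymm
  · have hrad := Algebra.FormallyUnramified.isRadical_map_isMaximal (A := S) R (IsLocalRing.maximalIdeal S)
    rw [← hrad.radical, Ideal.radical_eq_sInf]
    apply le_sInf
    rintro J ⟨hJ, hJp⟩
    have hcm : (J.comap (algebraMap S R)).IsMaximal := by
      have h1 : IsLocalRing.maximalIdeal S ≤ J.comap (algebraMap S R) := Ideal.map_le_iff_le_comap.1 hJ
      have h2 : J.comap (algebraMap S R) ≠ ⊤ := (Ideal.IsPrime.comap (algebraMap S R)).ne_top
      rw [← (IsLocalRing.maximalIdeal.isMaximal S).eq_of_le h2 h1]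
      infer_instance
    have hJm : J.IsMaximal := Ideal.isMaximal_of_isIntegral_of_isMaximal_comap J hcm
    rw [Ring.jacobson_eq_sInf_isMaximal]
    exact sInf_le hJm
  · rw [Ring.jacobson_eq_sInf_isMaximal]
    apply le_sInf
    intro N hN
    have hN' : Ideal.IsMaximal (N : Ideal R) := hN
    rw [Ideal.map_le_iff_le_comap]
    have : (N.comap (algebraMap S R)).IsMaximal := Ideal.isMaximal_comap_of_isIntegral_of_isMaximal N
    rw [IsLocalRing.eq_maximalIdeal this]

end Groth.Agent.S15579
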