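import Groth.Statements.S15580
import Mathlib
import Groth.Agent.Lib.helper7.QuadEt3
import Groth.Agent.Lib.helper7.QuadEt4

set_option autoImplicit false
universe u v
open RInv

namespace Groth.Agent.S15580

/-- Let `S` be a local ring, `R` a quadratic etale `S`-algebra and `lam` an involution of `R` with fixed
ring `S`. Then every unit `r` of `R` with `lam r * r = 1` can be written `a⁻¹ * lam a` for a unit
`a` of `R`. -/
theorem result (S : Type u) (R : Type v) [CommRing S] [CommRing R]
    [Algebra S R] (lam : R ≃+* R) (hlam : Function.Involutive lam) (hS : RInv.IsFixedRing S R lam)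
    [IsLocalRing S] (hq : RInv.IsQuadEtale S R) (r : Rˣ) (hr : lam r * r = 1) :
    ∃ a : Rˣ, (r : R) = (a⁻¹ : Rˣ) * lam a := by
  classical
  have hnt : Nontrivial R := hS.1.nontrivial
  obtain ⟨θ, hθ⟩ := Groth.Agent.Lib.helper7.H7_quad_unit S R lam hlam hS hq
  obtain ⟨M, hM⟩ := Ideal.exists_maximal R
  have hM' : (M.comap (lam : R →+* R)).IsMaximal :=
    Ideal.comap_isMaximal_of_surjective _ lam.surjective
  have hunit : ∀ z : R, z ∉ M → z ∉ M.comap (lam : R →+* R) → IsUnit z := by
    intro z h1 h2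
    by_contra hz
    obtain ⟨N, hN, hzN⟩ := exists_max_ideal_of_mem_nonunits hz
    rcases Groth.Agent.Lib.helper7.H7_max_two S R lam hlam hS M N with h | h
    · rw [h] at hzN; exact h1 hzN
    · rw [h] at hzN; exact h2 hzN
  -- the candidates
  have hla : ∀ y : R, lam (y + lam y * lam r) = (y + lam y * lam r) * r := by
    intro y
    rw [map_add, map_mul, hlam y, hlam]
    linear_combination (-lam y) * hr
  suffices h : ∃ y : R, IsUnit (y + lam y * lam r) by
    obtain ⟨y, a, ha⟩ := h
    refine ⟨a, ?_⟩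
    rw [ha, hla y, ← ha, ← mul_assoc]
    simp
  have hz : IsUnit ((θ + lam θ * lam r) - θ * (1 + lam 1 * lam r)) := by
    have : (θ + lam θ * lam r) - θ * (1 + lam 1 * lam r) = -((θ - lam θ) * lam r) := by
      rw [map_one]; ring
    rw [this]
    exact (hθ.mul (r.isUnit.map lam)).neg
  have key : ∀ I : Ideal R, I ≠ ⊤ → ((1 + lam 1 * lam r) ∈ I → (θ + lam θ * lam r) ∈ I → False) := by
    intro I hI h1 h2
    exact hI (Ideal.eq_top_of_isUnit_mem _ (I.sub_mem h2 (I.mul_mem_left θ h1)) hz)
  by_contra hcon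
  push Not at hcon
  have c1 := hcon 1
  have c2 := hcon θ
  have c3 := hcon (1 + θ)
  have e3 : (1 + θ) + lam (1 + θ) * lam r = (1 + lam 1 * lam r) + (θ + lam θ * lam r) := by
    rw [map_add]; ring
  rw [e3] at c3
  have m1 : (1 + lam 1 * lam r) ∈ M ∨ (1 + lam 1 * lam r) ∈ M.comap (lam : R →+* R) := by
    by_contra h; push Not at h; exact c1 (hunit _ h.1 h.2)
  have m2 : (θ + lam θ * lam r) ∈ M ∨ (θ + lam θ * lam r) ∈ M.comap (lam : R →+* R) := by
    by_contra h; push Not at h; exact c2 (hunit _ h.1 h.2)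
  have m3 : ((1 + lam 1 * lam r) + (θ + lam θ * lam r)) ∈ M ∨ ((1 + lam 1 * lam r) + (θ + lam θ * lam r)) ∈ M.comap (lam : R →+* R) := by
    by_contra h; push Not at h; exact c3 (hunit _ h.1 h.2)
  have k1 := key M hM.ne_top
  have k2 := key _ hM'.ne_top
  rcases m1 with h1 | h1 <;> rcases m2 with h2 | h2 <;> rcases m3 with h3 | h3
  · exact k1 h1 h2
  · exact k1 h1 h2
  · exact k1 h1 (by simpa using M.sub_mem h3 h1)
  · exact k2 (by simpa using Ideal.sub_mem _ h3 h2) h2
  · exact k1 (by simpa using M.sub_mem h3 h2) h2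
  · exact k2 h1 (by simpa using Ideal.sub_mem _ h3 h1)
  · exact k2 h1 h2
  · exact k2 h1 h2

end Groth.Agent.S15580
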