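import Groth.Statements.S15581
import Mathlib

set_option autoImplicit false
universe u v
open RInv

namespace Groth.Agent.S15581

/-- Let `A` be a commutative ring with an involution `lam` whose fixed ring `B` is local with `2`
invertible. Then `Jac(A)^2 ⊆ Jac(B) A`. -/
theorem result (B : Type u) (A : Type v) [CommRing B]
    [CommRing A] [Algebra B A] (lam : A ≃+* A) (hlam : Function.Involutive lam)
    (hB : RInv.IsFixedRing B A lam) [IsLocalRing B] (h2 : IsUnit (2 : B)) :
    (Ring.jacobson A) ^ 2 ≤ (IsLocalRing.maximalIdeal B).map (algebraMap B A) := by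
  classical
  have hnt : Nontrivial A := hB.1.nontrivial
  obtain ⟨h, hh⟩ : ∃ h : B, 2 * h = 1 := by
    obtain ⟨u, hu⟩ := h2
    exact ⟨↑u⁻¹, by rw [← hu]; simp⟩
  have hH : 2 * algebraMap B A h = 1 := by
    have := congrArg (algebraMap B A) hh
    rw [map_mul, map_one, map_ofNat] at this
    exact this
  have hfixB : ∀ s : B, lam (algebraMap B A s) = algebraMap B A s := fun s => (hB.2 _).2 ⟨s, rfl⟩
  have hjl : ∀ x ∈ Ring.jacobson A, lam x ∈ Ring.jacobson A := by
    intro x hx
    have : RingHomSurjective (lam : A →+* A) := ⟨lam.surjective⟩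
    exact Ring.le_comap_jacobson (f := (lam : A →+* A)) hx
  have hjm : ∀ s : B, algebraMap B A s ∈ Ring.jacobson A → s ∈ IsLocalRing.maximalIdeal B := by
    intro s hs
    rw [IsLocalRing.mem_maximalIdeal]
    intro hu
    exact (Ring.jacobson_lt_top A).ne (Ideal.eq_top_of_isUnit_mem _ hs (hu.map _))
  rw [pow_two, Ideal.mul_le]
  intro x hx y hy
  have hlx := hjl x hx
  have hly := hjl y hy
  obtain ⟨xp, hxp⟩ : ∃ s : B, algebraMap B A s = algebraMap B A h * (x + lam x) := by
    apply (hB.2 _).1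
    rw [map_mul, map_add, hfixB, hlam x]; ring
  obtain ⟨yp, hyp⟩ : ∃ s : B, algebraMap B A s = algebraMap B A h * (y + lam y) := by
    apply (hB.2 _).1
    rw [map_mul, map_add, hfixB, hlam y]; ring
  obtain ⟨z, hz⟩ : ∃ s : B, algebraMap B A s = (algebraMap B A h * (x - lam x)) * (algebraMap B A h * (y - lam y)) := by
    apply (hB.2 _).1
    rw [map_mul, map_mul, map_mul, map_sub, map_sub, hfixB, hlam x, hlam y]; ring
  have hdec : x * y = algebraMap B A xp * y + algebraMap B A yp * (algebraMap B A h * (x - lam x)) + algebraMap B A z := by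
    rw [hxp, hyp, hz]
    linear_combination (-(x * y + algebraMap B A h * (x - lam x) * y)) * hH
  have hxpm : xp ∈ IsLocalRing.maximalIdeal B := by
    apply hjm; rw [hxp]
    exact Ideal.mul_mem_left _ _ (Ideal.add_mem _ hx hlx)
  have hypm : yp ∈ IsLocalRing.maximalIdeal B := by
    apply hjm; rw [hyp]
    exact Ideal.mul_mem_left _ _ (Ideal.add_mem _ hy hly)
  have hzm : z ∈ IsLocalRing.maximalIdeal B := by
    apply hjm; rw [hz]
    exact Ideal.mul_mem_right _ _ (Ideal.mul_mem_left _ _ (Ideal.sub_mem _ hx hlx))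
  rw [hdec]
  refine Ideal.add_mem _ (Ideal.add_mem _ ?_ ?_) ?_
  · exact Ideal.mul_mem_right _ _ (Ideal.mem_map_of_mem _ hxpm)
  · exact Ideal.mul_mem_right _ _ (Ideal.mem_map_of_mem _ hypm)
  · exact Ideal.mem_map_of_mem _ hzm

end Groth.Agent.S15581
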