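import Groth.Statements.S15585
import Mathlib
import Groth.Agent.Lib.helper7.TwoDim

set_option autoImplicit false
universe u v
open RInv

namespace Groth.Agent.S15585

/-- For a local ring `S` (maximal ideal `m`, residue field `k`) and a quadratic etale `S`-algebra `R`,
the ring `R/mR` is a field that is a separable extension of `k` of degree 2, or else it is
isomorphic as a `k`-algebra to `k × k`. -/
theorem result (S : Type u) (R : Type v) [CommRing S]
    [CommRing R] [Algebra S R] [IsLocalRing S] (hq : RInv.IsQuadEtale S R) :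
    (IsField (R ⧸ (IsLocalRing.maximalIdeal S).map (algebraMap S R)) ∧
      Module.finrank (S ⧸ IsLocalRing.maximalIdeal S)
        (R ⧸ (IsLocalRing.maximalIdeal S).map (algebraMap S R)) = 2 ∧
      Algebra.IsSeparable (S ⧸ IsLocalRing.maximalIdeal S)
        (R ⧸ (IsLocalRing.maximalIdeal S).map (algebraMap S R))) ∨
    Nonempty ((R ⧸ (IsLocalRing.maximalIdeal S).map (algebraMap S R)) ≃ₐ[S ⧸ IsLocalRing.maximalIdeal S]
      ((S ⧸ IsLocalRing.maximalIdeal S) × (S ⧸ IsLocalRing.maximalIdeal S))) := by
  classical
  obtain ⟨hfin, hproj, hunr, hrk⟩ := hq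
  let _ : Field (S ⧸ IsLocalRing.maximalIdeal S) := Ideal.Quotient.field _
  have hfree : Module.Free S R := Module.free_of_flat_of_isLocalRing
  have hrank : Module.finrank S R = 2 := by
    have := hrk (IsLocalRing.closedPoint S)
    rw [Module.rankAtStalk_eq_finrank_of_free] at this
    simpa using this
  let e := Algebra.TensorProduct.quotIdealMapEquivQuotTensor R (IsLocalRing.maximalIdeal S)
  have hfr : Module.finrank (S ⧸ IsLocalRing.maximalIdeal S) (R ⧸ (IsLocalRing.maximalIdeal S).map (algebraMap S R)) = 2 := by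
    rw [e.toLinearEquiv.finrank_eq, Module.finrank_baseChange, hrank]
  have hunr' : Algebra.FormallyUnramified (S ⧸ IsLocalRing.maximalIdeal S) (R ⧸ (IsLocalRing.maximalIdeal S).map (algebraMap S R)) :=
    Algebra.FormallyUnramified.of_equiv e.symm
  have hfinA : Module.Finite (S ⧸ IsLocalRing.maximalIdeal S) (R ⧸ (IsLocalRing.maximalIdeal S).map (algebraMap S R)) :=
    Module.Finite.equiv e.symm.toLinearEquiv
  have hred : IsReduced (R ⧸ (IsLocalRing.maximalIdeal S).map (algebraMap S R)) :=
    Algebra.FormallyUnramified.isReduced_of_field (S ⧸ IsLocalRing.maximalIdeal S) _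
  rcases Groth.Agent.Lib.helper7.H7_two_dim_reduced (S ⧸ IsLocalRing.maximalIdeal S) (R ⧸ (IsLocalRing.maximalIdeal S).map (algebraMap S R)) hfr with hF | hN
  · left
    refine ⟨hF, hfr, ?_⟩
    let _ : Field (R ⧸ (IsLocalRing.maximalIdeal S).map (algebraMap S R)) := hF.toField
    exact Algebra.FormallyUnramified.isSeparable (S ⧸ IsLocalRing.maximalIdeal S) (R ⧸ (IsLocalRing.maximalIdeal S).map (algebraMap S R))
  · right
    exact hN

end Groth.Agent.S15585
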