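import Groth.Statements.S15587
import Mathlib
import Groth.Agent.Lib.helper7.QuadLoc
import Groth.Agent.Lib.helper7.QuadEt2
import Groth.Agent.Lib.helper7.QuadEt5
import Groth.Agent.S15576
import Groth.Agent.S15577

set_option autoImplicit false
universe u v
open scoped TensorProduct
open RInv

namespace Groth.Agent.S15587

/-- (b) ⇔ (d): let `R` be a commutative ring with an involution `lam` and fixed ring `S`, so that `Spec
R → Spec S` is a good quotient by the involution, and let `p` be a prime of `S`. Then `p` is a
branch point, i.e. the localisation `S_p ⊗_S R` is not quadratic etale over `S_p`, if and only if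
exactly one prime `q` of `R` lies over `p` and `lam` induces the identity on the residue field of
`q` (equivalently `lam r - r ∈ q` for all `r`). This is the affine-local form of the statement for a
good quotient of schemes, to which the general case reduces since such quotients are affine
morphisms. -/
theorem result (S : Type u) (R : Type v) [CommRing S] [CommRing R]
    [Algebra S R] (lam : R ≃+* R) (hlam : Function.Involutive lam) (hS : RInv.IsFixedRing S R lam)
    (p : PrimeSpectrum S) :
    ¬ RInv.IsQuadEtale (Localization.AtPrime p.asIdeal) (Localization.AtPrime p.asIdeal ⊗[S] R) ↔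
      ∃ q : PrimeSpectrum R, q.asIdeal.comap (algebraMap S R) = p.asIdeal ∧
        (∀ q' : PrimeSpectrum R, q'.asIdeal.comap (algebraMap S R) = p.asIdeal → q' = q) ∧
        ∀ r : R, lam r - r ∈ q.asIdeal := by
  classical
  obtain ⟨lamA, hlamA⟩ := Groth.Agent.Lib.helper7.H7_lamA S R lam hS
  subst hlamA
  have hlam' : Function.Involutive lamA := hlam
  obtain ⟨hinv, hT, hTs⟩ := Groth.Agent.Lib.helper7.H7_T_props S R (Localization.AtPrime p.asIdeal) lamA hlam'
  have hfix := Groth.Agent.S15586.result S R (Localization.AtPrime p.asIdeal) lamA hlam' hS (Or.inl inferInstance)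
  obtain ⟨hfrac, -⟩ := Groth.Agent.Lib.helper7.H7_tensor_frac S R p.asIdeal.primeCompl (Localization.AtPrime p.asIdeal)
  obtain ⟨T, hTdef⟩ : ∃ T : (Localization.AtPrime p.asIdeal ⊗[S] R) ≃+* (Localization.AtPrime p.asIdeal ⊗[S] R),
    T = (Algebra.TensorProduct.congr (AlgEquiv.refl : Localization.AtPrime p.asIdeal ≃ₐ[S] Localization.AtPrime p.asIdeal) lamA).toRingEquiv := ⟨_, rfl⟩
  rw [← hTdef] at hinv hT hTs hfix
  obtain ⟨φ, hφdef⟩ : ∃ φ : R →+* (Localization.AtPrime p.asIdeal ⊗[S] R),
    φ = (Algebra.TensorProduct.includeRight : R →ₐ[S] (Localization.AtPrime p.asIdeal ⊗[S] R)).toRingHom := ⟨_, rfl⟩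
  have hφ : ∀ r, φ r = (1 : Localization.AtPrime p.asIdeal) ⊗ₜ[S] r := fun r => by rw [hφdef]; rfl
  have hφS : ∀ s : S, φ (algebraMap S R s) = algebraMap (Localization.AtPrime p.asIdeal) (Localization.AtPrime p.asIdeal ⊗[S] R) (algebraMap S (Localization.AtPrime p.asIdeal) s) := by
    intro s
    rw [hφ, Algebra.TensorProduct.algebraMap_apply, Algebra.algebraMap_self, RingHom.id_apply,
      Algebra.algebraMap_eq_smul_one, Algebra.algebraMap_eq_smul_one, TensorProduct.smul_tmul]
  have hover : ∀ (N : Ideal (Localization.AtPrime p.asIdeal ⊗[S] R)), N.IsMaximal →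
      (N.comap φ).comap (algebraMap S R) = p.asIdeal := by
    intro N hN
    ext s
    rw [Ideal.mem_comap, Ideal.mem_comap, hφS, ← Ideal.mem_comap (f := algebraMap (Localization.AtPrime p.asIdeal) _),
      Groth.Agent.Lib.helper7.H7_fixed_comap_max _ _ T hinv hfix N,
      IsLocalization.AtPrime.to_map_mem_maximal_iff (Localization.AtPrime p.asIdeal) p.asIdeal s]
  have hsmul : ∀ (t : p.asIdeal.primeCompl) (z : Localization.AtPrime p.asIdeal ⊗[S] R)
      (N : Ideal (Localization.AtPrime p.asIdeal ⊗[S] R)), N.IsMaximal → (t : S) • z ∈ N → z ∈ N := by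
    intro t z N hN hz
    have h1 : (t : S) • z = algebraMap (Localization.AtPrime p.asIdeal) (Localization.AtPrime p.asIdeal ⊗[S] R)
        (algebraMap S (Localization.AtPrime p.asIdeal) t) * z := by
      rw [← IsScalarTower.algebraMap_apply]
      exact Algebra.smul_def (R := S) (A := Localization.AtPrime p.asIdeal ⊗[S] R) (t : S) z
    rw [h1] at hz
    rcases hN.isPrime.mem_or_mem hz with h2 | h2
    · exact absurd (Ideal.eq_top_of_isUnit_mem _ h2 ((IsLocalization.map_units (Localization.AtPrime p.asIdeal) t).map _)) hN.ne_top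
    · exact h2
  constructor
  · intro hnq
    have hall : ∀ b : Localization.AtPrime p.asIdeal ⊗[S] R, T b - b ∈ Ring.jacobson _ := by
      by_contra hcon
      push Not at hcon
      exact hnq (Groth.Agent.S15576.result _ _ T hinv hfix hcon)
    obtain ⟨hloc, -⟩ := Groth.Agent.S15577.result _ _ T hinv hfix hall
    have hmax : (IsLocalRing.maximalIdeal (Localization.AtPrime p.asIdeal ⊗[S] R)).IsMaximal := inferInstance
    have hlr : ∀ r, lamA r - r ∈ (IsLocalRing.maximalIdeal (Localization.AtPrime p.asIdeal ⊗[S] R)).comap φ := by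
      intro r
      rw [Ideal.mem_comap, map_sub, hφ, hφ, ← hT]
      exact (Ring.jacobson_le_of_isMaximal _) (hall _)
    refine ⟨⟨(IsLocalRing.maximalIdeal (Localization.AtPrime p.asIdeal ⊗[S] R)).comap φ, inferInstance⟩,
      hover _ hmax, ?_, hlr⟩
    intro q' hq'
    rcases Groth.Agent.Lib.helper7.H7_conj_over S R lamA.toRingEquiv hlam hS ((IsLocalRing.maximalIdeal (Localization.AtPrime p.asIdeal ⊗[S] R)).comap φ) q'.asIdeal (by rw [hover _ hmax, hq']) with h | h
    · exact PrimeSpectrum.ext h
    · apply PrimeSpectrum.ext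
      show q'.asIdeal = _
      rw [h]
      ext x
      rw [Ideal.mem_comap]
      constructor
      · intro hx
        have : x = lamA x - (lamA x - x) := by ring
        rw [this]
        exact Ideal.sub_mem _ hx (hlr x)
      · intro hx
        have : lamA x = x + (lamA x - x) := by ring
        show lamA x ∈ _
        rw [this]
        exact Ideal.add_mem _ hx (hlr x)
  · rintro ⟨q, hq, huniq, hqr⟩ hQE
    have hall : ∀ b : Localization.AtPrime p.asIdeal ⊗[S] R, T b - b ∈ Ring.jacobson _ := by
      intro b
      rw [Ring.jacobson_eq_sInf_isMaximal, Submodule.mem_sInf]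
      intro N hN
      have hN' : Ideal.IsMaximal (N : Ideal (Localization.AtPrime p.asIdeal ⊗[S] R)) := hN
      have hq' : (⟨Ideal.comap φ N, Ideal.IsPrime.comap _⟩ : PrimeSpectrum R) = q := huniq _ (hover N hN')
      obtain ⟨r, t, hrt⟩ := hfrac b
      have h1 : (t : S) • (T b - b) = φ (lamA r - r) := by
        rw [smul_sub, ← hTs, hrt, hT, map_sub, hφ, hφ]
      have h2 : φ (lamA r - r) ∈ N := by
        have := hqr r
        rw [← hq'] at this
        exact this
      rw [← h1] at h2
      exact hsmul t _ N hN' h2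
    exact (Groth.Agent.S15577.result _ _ T hinv hfix hall).2 hQE

end Groth.Agent.S15587
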