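import Groth.Statements.S15588
import Mathlib
import Groth.Agent.Lib.helper7.QuadLoc
import Groth.Agent.Lib.helper7.QuadLoc2
import Groth.Agent.S15587

set_option autoImplicit false
universe u v
open scoped TensorProduct
open RInv

namespace Groth.Agent.S15588

/-- Let `R` be a commutative ring with an involution `lam` and fixed ring `S`, let `W ⊆ Spec S` be the
branch locus (the primes `p` with `S_p ⊗_S R` not quadratic etale over `S_p`) and `I` its vanishing
ideal. Then `lam` is the identity on `R/rad(IR)`, i.e. on the reduced closed subscheme `π⁻¹(W)` of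
`Spec R`: `lam r - r ∈ rad(IR)` for all `r`. Affine-local form of the statement for a good quotient
of schemes by an involution. -/
theorem result (S : Type u) (R : Type v) [CommRing S] [CommRing R]
    [Algebra S R] (lam : R ≃+* R) (hlam : Function.Involutive lam) (hS : RInv.IsFixedRing S R lam)
    (W : Set (PrimeSpectrum S))
    (hW : W = {p : PrimeSpectrum S | ¬ RInv.IsQuadEtale (Localization.AtPrime p.asIdeal) (Localization.AtPrime p.asIdeal ⊗[S] R)})
    (r : R) :
    lam r - r ∈ ((PrimeSpectrum.vanishingIdeal W).map (algebraMap S R)).radical := by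
  classical
  obtain ⟨lamA, hlamA⟩ := Groth.Agent.Lib.helper7.H7_lamA S R lam hS
  subst hlamA
  have hlam' : Function.Involutive lamA := hlam
  rw [Ideal.radical_eq_sInf, Submodule.mem_sInf]
  rintro q ⟨hq1, hq2⟩
  have hq2' : Ideal.IsPrime (q : Ideal R) := hq2
  have hle : PrimeSpectrum.vanishingIdeal W ≤ Ideal.comap (algebraMap S R) q := Ideal.map_le_iff_le_comap.1 hq1
  have hnQE := Groth.Agent.Lib.helper7.H7_branch_closed S R lamA hlam' hS ⟨Ideal.comap (algebraMap S R) q, Ideal.IsPrime.comap _⟩ (by rw [← hW]; exact hle)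
  obtain ⟨q₀, hq₀, huniq, hr⟩ := (Groth.Agent.S15587.result S R lamA.toRingEquiv hlam hS _).1 hnQE
  have : (⟨q, hq2'⟩ : PrimeSpectrum R) = q₀ := huniq ⟨q, hq2'⟩ rfl
  rw [← this] at hr
  exact hr r

end Groth.Agent.S15588
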