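import Groth.Statements.S15589
import Mathlib
import Groth.Agent.Lib.helper7.QuadEt2
import Groth.Agent.Lib.helper7.QuadLoc
import Groth.Agent.Lib.helper7.QuadLoc2
import Groth.Agent.S15587
import Groth.Agent.S15588

set_option autoImplicit false
universe u v
open scoped TensorProduct
open RInv

namespace Groth.Agent.S15589

/-- Let `R` be a commutative ring with an involution `lam` and fixed ring `S`, `W ⊆ Spec S` the branch
locus (primes `p` with `S_p ⊗_S R` not quadratic etale over `S_p`), `I` its vanishing ideal and `J =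
rad(IR)`. Then `Spec(R/J) → Spec(S/I)` is a homeomorphism; if `2` is a unit of `S`, the ring map
`S/I → R/J` is moreover bijective, so the reduced preimage of the branch locus maps isomorphically
onto it. Affine-local form of the statement for a good quotient of schemes by an involution (the
hypothesis `I ≤ J ∩ S` holds automatically and only serves to write down the map). -/
theorem result (S : Type u) (R : Type v) [CommRing S] [CommRing R]
    [Algebra S R] (lam : R ≃+* R) (hlam : Function.Involutive lam) (hS : RInv.IsFixedRing S R lam)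
    (W : Set (PrimeSpectrum S))
    (hW : W = {p : PrimeSpectrum S | ¬ RInv.IsQuadEtale (Localization.AtPrime p.asIdeal) (Localization.AtPrime p.asIdeal ⊗[S] R)})
    (J : Ideal R) (hJ : J = ((PrimeSpectrum.vanishingIdeal W).map (algebraMap S R)).radical)
    (hIJ : PrimeSpectrum.vanishingIdeal W ≤ J.comap (algebraMap S R)) :
    IsHomeomorph (PrimeSpectrum.comap (Ideal.quotientMap J (algebraMap S R) hIJ)) ∧
      (IsUnit (2 : S) → Function.Bijective (Ideal.quotientMap J (algebraMap S R) hIJ)) := by
  classical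
  have hint := Groth.Agent.Lib.helper7.H7_fixed_integral S R lam hlam hS
  have h88 : ∀ r : R, lam r - r ∈ J := by
    intro r; rw [hJ]; exact Groth.Agent.S15588.result S R lam hlam hS W hW r
  obtain ⟨lamA, hlamA⟩ := Groth.Agent.Lib.helper7.H7_lamA S R lam hS
  generalize hI : PrimeSpectrum.vanishingIdeal W = I at hJ hIJ ⊢
  obtain ⟨ψ, hψ⟩ : ∃ ψ : S ⧸ I →+* R ⧸ J, ψ = Ideal.quotientMap J (algebraMap S R) hIJ := ⟨_, rfl⟩
  rw [← hψ]
  have hψmk : ∀ s : S, ψ (Ideal.Quotient.mk I s) = Ideal.Quotient.mk J (algebraMap S R s) := by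
    intro s; rw [hψ]; rfl
  have hcomp : ψ.comp (Ideal.Quotient.mk I) = (Ideal.Quotient.mk J).comp (algebraMap S R) := by
    ext s; exact hψmk s
  -- primes of R containing J, over a prime containing I, are unique
  have huniq : ∀ q q' : Ideal R, q.IsPrime → q'.IsPrime → I ≤ q.comap (algebraMap S R) →
      q.comap (algebraMap S R) = q'.comap (algebraMap S R) → q = q' := by
    intro q q' hq hq' hIq hqq'
    subst hlamA
    have hnQE := Groth.Agent.Lib.helper7.H7_branch_closed S R lamA hlam hS ⟨q.comap (algebraMap S R), Ideal.IsPrime.comap _⟩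
      (by rw [← hW, hI]; exact hIq)
    obtain ⟨q₀, hq₀, hu, -⟩ := (Groth.Agent.S15587.result S R lamA.toRingEquiv hlam hS _).1 hnQE
    have h1 : (⟨q, hq⟩ : PrimeSpectrum R) = q₀ := hu ⟨q, hq⟩ rfl
    have h2 : (⟨q', hq'⟩ : PrimeSpectrum R) = q₀ := hu ⟨q', hq'⟩ hqq'.symm
    exact congrArg PrimeSpectrum.asIdeal (h1.trans h2.symm)
  -- lying over
  have hlying : ∀ p : Ideal S, p.IsPrime → I ≤ p → ∃ q : Ideal R, q.IsPrime ∧ J ≤ q ∧
      q.comap (algebraMap S R) = p := by
    intro p hp hIp
    obtain ⟨q, -, hqp, hqc⟩ := Ideal.exists_ideal_over_prime_of_isIntegral p (⊥ : Ideal R)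
      (by rw [← RingHom.ker_eq_comap_bot, (RingHom.injective_iff_ker_eq_bot _).1 hS.1]; exact bot_le)
    refine ⟨q, hqp, ?_, hqc⟩
    rw [hJ, hqp.radical_le_iff, Ideal.map_le_iff_le_comap, hqc]
    exact hIp
  have hψint : ψ.IsIntegral := by
    apply RingHom.IsIntegral.tower_top (Ideal.Quotient.mk I) ψ
    rw [hcomp]
    exact RingHom.IsIntegral.trans _ _ (algebraMap_isIntegral_iff.2 hint)
      (RingHom.isIntegral_of_surjective _ Ideal.Quotient.mk_surjective)
  have hmkI_inj : Function.Injective (Ideal.comap (Ideal.Quotient.mk I)) :=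
    Ideal.comap_injective_of_surjective _ Ideal.Quotient.mk_surjective
  have hmkJ_inj : Function.Injective (Ideal.comap (Ideal.Quotient.mk J)) :=
    Ideal.comap_injective_of_surjective _ Ideal.Quotient.mk_surjective
  have hIle : ∀ P : Ideal (S ⧸ I), I ≤ P.comap (Ideal.Quotient.mk I) := by
    intro P s hs
    rw [Ideal.mem_comap, Ideal.Quotient.eq_zero_iff_mem.2 hs]
    exact P.zero_mem
  have hcc : ∀ Q : Ideal (R ⧸ J), ((Q.comap ψ).comap (Ideal.Quotient.mk I)) =
      (Q.comap (Ideal.Quotient.mk J)).comap (algebraMap S R) := by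
    intro Q
    rw [Ideal.comap_comap, Ideal.comap_comap, hcomp]
  constructor
  · rw [isHomeomorph_iff_continuous_isClosedMap_bijective]
    refine ⟨PrimeSpectrum.continuous_comap ψ, PrimeSpectrum.isClosedMap_comap_of_isIntegral _ hψint, ?_, ?_⟩
    · intro Q Q' hQQ'
      have h1 : Q.asIdeal.comap ψ = Q'.asIdeal.comap ψ := congrArg PrimeSpectrum.asIdeal hQQ'
      apply PrimeSpectrum.ext
      apply hmkJ_inj
      apply huniq _ _ (Ideal.IsPrime.comap _) (Ideal.IsPrime.comap _)
      · rw [← hcc]; exact hIle _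
      · rw [← hcc, ← hcc, h1]
    · intro P
      obtain ⟨q, hq, hJq, hqc⟩ := hlying (P.asIdeal.comap (Ideal.Quotient.mk I)) (Ideal.IsPrime.comap _) (hIle _)
      have hker : RingHom.ker (Ideal.Quotient.mk J) ≤ q := by rw [Ideal.mk_ker]; exact hJq
      have hQp : (q.map (Ideal.Quotient.mk J)).IsPrime :=
        Ideal.map_isPrime_of_surjective Ideal.Quotient.mk_surjective hker
      have hQc : (q.map (Ideal.Quotient.mk J)).comap (Ideal.Quotient.mk J) = q := by
        rw [Ideal.comap_map_of_surjective _ Ideal.Quotient.mk_surjective, ← RingHom.ker_eq_comap_bot]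
        exact sup_eq_left.2 hker
      refine ⟨⟨q.map (Ideal.Quotient.mk J), hQp⟩, ?_⟩
      apply PrimeSpectrum.ext
      apply hmkI_inj
      show ((q.map (Ideal.Quotient.mk J)).comap ψ).comap (Ideal.Quotient.mk I) = _
      rw [hcc, hQc, hqc]
  · intro h2
    constructor
    · rw [injective_iff_map_eq_zero]
      intro x hx
      obtain ⟨s, rfl⟩ := Ideal.Quotient.mk_surjective x
      rw [hψmk, Ideal.Quotient.eq_zero_iff_mem] at hx
      rw [Ideal.Quotient.eq_zero_iff_mem, ← hI, PrimeSpectrum.mem_vanishingIdeal]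
      intro p hp
      have hIp : I ≤ p.asIdeal := by
        rw [← hI]; intro f hf; exact (PrimeSpectrum.mem_vanishingIdeal _ _).1 hf p hp
      obtain ⟨q, hq, hJq, hqc⟩ := hlying p.asIdeal p.2 hIp
      rw [← hqc, Ideal.mem_comap]
      exact hJq hx
    · intro x
      obtain ⟨r, rfl⟩ := Ideal.Quotient.mk_surjective x
      obtain ⟨c, hc⟩ : ∃ c : S, 2 * c = 1 := by
        obtain ⟨u, hu⟩ := h2
        exact ⟨↑u⁻¹, by rw [← hu]; simp⟩
      have hC : 2 * algebraMap S R c = 1 := by
        have := congrArg (algebraMap S R) hc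
        rw [map_mul, map_one, map_ofNat] at this
        exact this
      have hfix : lam (algebraMap S R c * (r + lam r)) = algebraMap S R c * (r + lam r) := by
        rw [map_mul, map_add, hlam r, (hS.2 _).2 ⟨c, rfl⟩]; ring
      obtain ⟨s, hs⟩ := (hS.2 _).1 hfix
      refine ⟨Ideal.Quotient.mk I s, ?_⟩
      rw [hψmk, hs, Ideal.Quotient.eq]
      have : algebraMap S R c * (r + lam r) - r = algebraMap S R c * (lam r - r) := by
        linear_combination r * hC
      rw [this]
      exact J.mul_mem_left _ (h88 r)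

end Groth.Agent.S15589
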