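import Groth.Statements.S15590
import Mathlib

set_option autoImplicit false
universe u v
open CAlg

namespace Groth.Agent.S15590

/-- Let A → B be an injective homomorphism of commutative rings which makes B a finite flat A-module,
and suppose B is a Dedekind domain (Noetherian, integrally closed, of Krull dimension at most one; a
field is allowed). Then A is a Dedekind domain. -/
theorem result (A : Type u) (B : Type v)
    [CommRing A] [CommRing B] [Algebra A B] [IsDedekindDomain B]
    (hinj : Function.Injective (algebraMap A B)) [Module.Finite A B] [Module.Flat A B] :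
    IsDedekindDomain A := by
  have hdom : IsDomain A := hinj.isDomain (algebraMap A B)
  have _ : FaithfulSMul A B := (faithfulSMul_iff_algebraMap_injective A B).2 hinj
  have _ : Algebra.IsIntegral A B := Algebra.IsIntegral.of_finite A B
  have hff : Module.FaithfullyFlat A B := inferInstance
  -- Noetherian
  have hnoeth : IsNoetherianRing A := by
    let e : Ideal A ↪o Ideal B :=
      { toFun := Ideal.map (algebraMap A B)
        inj' := Ideal.map_injective_of_faithfullyFlat
        map_rel_iff' := by
          intro I J
          constructor
          · intro h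
            change Ideal.map (algebraMap A B) I ≤ Ideal.map (algebraMap A B) J at h
            have := Ideal.comap_mono (f := algebraMap A B) h
            rwa [Ideal.comap_map_eq_self_of_faithfullyFlat, Ideal.comap_map_eq_self_of_faithfullyFlat]
              at this
          · intro h; exact Ideal.map_mono h }
    have hwf : WellFoundedGT (Ideal B) := inferInstance
    have : WellFoundedGT (Ideal A) := e.wellFoundedGT
    exact isNoetherian_iff'.2 this
  -- dimension ≤ 1
  have hdim : Ring.DimensionLEOne A := by
    refine ⟨fun {p} hp0 hp => ?_⟩
    obtain ⟨P, hP, hPp⟩ := Ideal.exists_ideal_over_prime_of_isIntegral_of_isDomain p (S := B)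
      (by simp [(RingHom.injective_iff_ker_eq_bot _).mp hinj])
    have hP0 : P ≠ ⊥ := by
      rintro rfl
      apply hp0
      rw [← hPp, ← RingHom.ker_eq_comap_bot, (RingHom.injective_iff_ker_eq_bot _).mp hinj]
    have hPmax : P.IsMaximal := Ring.DimensionLEOne.maximalOfPrime hP0 hP
    rw [← hPp]
    exact Ideal.isMaximal_comap_of_isIntegral_of_isMaximal P
  -- integrally closed
  have hic : ∀ {x : FractionRing A}, IsIntegral A x → ∃ y, algebraMap A (FractionRing A) y = x := by
    intro x hx
    let L := FractionRing B
    have hgi : Function.Injective ((algebraMap B L).comp (algebraMap A B)) :=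
      (IsFractionRing.injective B L).comp hinj
    let j : FractionRing A →+* L := IsFractionRing.lift hgi
    have hj : ∀ a : A, j (algebraMap A (FractionRing A) a) = algebraMap B L (algebraMap A B a) :=
      fun a => IsFractionRing.lift_algebraMap hgi a
    obtain ⟨pl, hpm, hpe⟩ := hx
    have hjx : IsIntegral B (j x) := by
      refine ⟨pl.map (algebraMap A B), hpm.map _, ?_⟩
      rw [Polynomial.eval₂_map]
      have h1 : ((algebraMap B L).comp (algebraMap A B)) = j.comp (algebraMap A (FractionRing A)) := by
        ext a; exact (hj a).symm
      rw [h1, ← Polynomial.hom_eval₂, hpe, map_zero]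
    obtain ⟨β, hβ⟩ := (isIntegrallyClosed_iff L).1 inferInstance hjx
    obtain ⟨a, b, hb, rfl⟩ := IsFractionRing.div_surjective (A := A) x
    have hb0 : algebraMap A (FractionRing A) b ≠ 0 :=
      IsFractionRing.to_map_ne_zero_of_mem_nonZeroDivisors hb
    have hb0' : algebraMap B L (algebraMap A B b) ≠ 0 := by
      rw [← hj]; exact (map_ne_zero j).2 hb0
    rw [map_div₀, hj, hj, eq_div_iff hb0', ← map_mul] at hβ
    have h2 : algebraMap A B a = β * algebraMap A B b := (IsFractionRing.injective B L hβ).symm
    have h3 : a ∈ Ideal.comap (algebraMap A B) (Ideal.map (algebraMap A B) (Ideal.span {b})) := by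
      rw [Ideal.mem_comap, h2]
      exact Ideal.mul_mem_left _ _ (Ideal.mem_map_of_mem _ (Ideal.mem_span_singleton_self b))
    rw [Ideal.comap_map_eq_self_of_faithfullyFlat, Ideal.mem_span_singleton'] at h3
    obtain ⟨c, hc⟩ := h3
    refine ⟨c, ?_⟩
    rw [eq_div_iff hb0, ← map_mul, hc]
  have : IsDedekindRing A := (isDedekindRing_iff (A := A) (FractionRing A)).2 ⟨hnoeth, hdim, hic⟩
  exact { }

end Groth.Agent.S15590
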