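import Groth.Statements.S15706
import Mathlib
import Groth.Agent.Lib.helper7.Davis

set_option autoImplicit false
universe u
open CAlg

namespace Groth.Agent.S15706

/-- Let A be a Noetherian ring with Serre's property (S_1), stated here in the equivalent form that
every associated prime of A is a minimal prime of A. Let I be an ideal of A and b an element of A/I
which is regular (a non-zero-divisor) in A/I. Then b is the image of a regular element of A. -/
theorem result (A : Type u) [CommRing A]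
    [IsNoetherianRing A] (hS1 : ∀ p ∈ associatedPrimes A A, p ∈ minimalPrimes A) (I : Ideal A)
    (b : A ⧸ I) (hb : b ∈ nonZeroDivisors (A ⧸ I)) :
    ∃ a : A, a ∈ nonZeroDivisors A ∧ Ideal.Quotient.mk I a = b := by
  classical
  obtain ⟨a₀, rfl⟩ := Ideal.Quotient.mk_surjective b
  have hfin : (associatedPrimes A A).Finite := associatedPrimes.finite A A
  set s : Finset (Ideal A) := hfin.toFinset with hs
  have hmem : ∀ p, p ∈ s ↔ p ∈ associatedPrimes A A := fun p => hfin.mem_toFinset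
  have hprime : ∀ p ∈ s, p.IsPrime := fun p hp => ((hmem p).mp hp).isPrime
  have hinc : ∀ p ∈ s, ∀ q ∈ s, p ≤ q → p = q := by
    intro p hp q hq hpq
    have hq' := hS1 q ((hmem q).mp hq)
    have hp' := hS1 p ((hmem p).mp hp)
    exact le_antisymm hpq (hq'.2 ⟨hp'.1.1, bot_le⟩ hpq)
  have hcond : ∀ p ∈ s, ¬ (a₀ ∈ p ∧ I ≤ p) := by
    rintro p hp ⟨hap, hIp⟩
    have hp' := hS1 p ((hmem p).mp hp)
    have hpI : p ∈ I.minimalPrimes := by
      refine ⟨⟨hp'.1.1, hIp⟩, ?_⟩
      rintro q ⟨hq1, _⟩ hqp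
      exact hp'.2 ⟨hq1, bot_le⟩ hqp
    rw [Ideal.minimalPrimes_eq_comap] at hpI
    obtain ⟨q', hq', rfl⟩ := hpI
    have hbq : Ideal.Quotient.mk I a₀ ∈ q' := hap
    exact Set.disjoint_left.mp (Ideal.disjoint_nonZeroDivisors_of_mem_minimalPrimes hq') hbq hb
  obtain ⟨i, hi, hav⟩ := Groth.Agent.Lib.helper7.H7_davis s hprime hinc a₀ I hcond
  refine ⟨a₀ + i, ?_, ?_⟩
  · by_contra hnz
    have h1 : a₀ + i ∈ (nonZeroDivisors A : Set A)ᶜ := hnz
    rw [← biUnion_associatedPrimes_eq_compl_nonZeroDivisors] at h1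
    obtain ⟨p, hp, hmemp⟩ := Set.mem_iUnion₂.mp h1
    exact hav p ((hmem p).mpr hp) hmemp
  · rw [map_add, Ideal.Quotient.eq_zero_iff_mem.mpr hi, add_zero]

end Groth.Agent.S15706
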