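import Groth.Statements.S15707
import Mathlib
import Groth.Agent.S15706

set_option autoImplicit false
universe u
open CAlg

namespace Groth.Agent.S15707

/-- Let A be a Noetherian ring with Serre's property (S_1), stated here as: every associated prime of A
is a minimal prime. Let I be an ideal and B = A/I. Then the B-module Hom_A(B, A), with B acting
through the source, is torsion-free: an A-linear map φ : B → A which is killed by a regular element
b of B, in the sense that φ(b x) = 0 for all x, is zero. -/
theorem result (A : Type u) [CommRing A]
    [IsNoetherianRing A] (hS1 : ∀ p ∈ associatedPrimes A A, p ∈ minimalPrimes A) (I : Ideal A)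
    (φ : (A ⧸ I) →ₗ[A] A) (b : A ⧸ I) (hb : b ∈ nonZeroDivisors (A ⧸ I))
    (h : ∀ x : A ⧸ I, φ (b * x) = 0) : φ = 0 := by
  classical
  obtain ⟨a, ha, hab⟩ := Groth.Agent.S15706.result A hS1 I b hb
  apply LinearMap.ext
  intro x
  have h1 : a • φ x = 0 := by
    rw [← map_smul]
    have h2 : a • x = b * x := by
      rw [← hab, Algebra.smul_def]
      rfl
    rw [h2]
    exact h x
  rw [smul_eq_mul] at h1
  simpa using (mul_left_mem_nonZeroDivisors_eq_zero_iff ha).mp h1

end Groth.Agent.S15707
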