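import Groth.Statements.S8853
import Mathlib

set_option autoImplicit false
universe u
open CategoryTheory CategoryTheory.Limits AlgebraicGeometry TopologicalSpace
open SDiv

namespace Groth.Agent.S8853

/-- Let Z be a locally principal closed subscheme of a scheme S, with ideal sheaf 𝓘 generated by a
single section on some affine open neighbourhood of each point of its support, and let U be the open
complement of Z. Then the inclusion U ⟶ S is an affine morphism. -/
theorem result {S : Scheme.{u}} (𝓘 : S.IdealSheafData) (h : Curv2.IsLocPrincipal 𝓘) :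
    IsAffineHom (Scheme.Opens.ι 𝓘.support.compl) := by
  apply isAffineHom_of_forall_exists_isAffineOpen
  intro x
  by_cases hx : x ∈ 𝓘.support
  · obtain ⟨U, hxU, g, hg⟩ := h x hx
    refine ⟨U.1, hxU, U.2, ?_⟩
    have hset : (𝓘.support : Set S) ∩ (U.1 : Set S) =
        ((S.basicOpen g : S.Opens) : Set S)ᶜ ∩ (U.1 : Set S) := by
      rw [Scheme.IdealSheafData.coe_support_inter, hg, Scheme.zeroLocus_span,
        Scheme.zeroLocus_singleton]
    have hle : S.basicOpen g ≤ (Scheme.Opens.ι 𝓘.support.compl).opensRange := by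
      rw [Scheme.Opens.opensRange_ι]
      intro y hy
      show y ∈ (𝓘.support : Set S)ᶜ
      intro hys
      have h1 : y ∈ (𝓘.support : Set S) ∩ (U.1 : Set S) := ⟨hys, S.basicOpen_le g hy⟩
      rw [hset] at h1
      exact h1.1 hy
    have haff := (U.2.basicOpen g).preimage_of_isOpenImmersion
      (Scheme.Opens.ι 𝓘.support.compl) hle
    have e : (Scheme.Opens.ι 𝓘.support.compl) ⁻¹ᵁ U.1 =
        (Scheme.Opens.ι 𝓘.support.compl) ⁻¹ᵁ (S.basicOpen g) := by
      ext y
      constructor
      · intro hy
        have hyU : (Scheme.Opens.ι 𝓘.support.compl) y ∈ U.1 := hy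
        have hyW : (Scheme.Opens.ι 𝓘.support.compl) y ∈
            ((𝓘.support.compl : S.Opens) : Set S) := by
          rw [← Scheme.Opens.range_ι 𝓘.support.compl]; exact ⟨y, rfl⟩
        show (Scheme.Opens.ι 𝓘.support.compl) y ∈ S.basicOpen g
        by_contra hnb
        have h1 : (Scheme.Opens.ι 𝓘.support.compl) y ∈
            ((S.basicOpen g : S.Opens) : Set S)ᶜ ∩ (U.1 : Set S) := ⟨hnb, hyU⟩
        rw [← hset] at h1
        exact hyW h1.1
      · intro hy
        exact S.basicOpen_le g hy
    rw [e]; exact haff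
  · obtain ⟨_, ⟨V, hV, rfl⟩, hxV, hVW⟩ :=
      S.isBasis_affineOpens.exists_subset_of_mem_open
        (show x ∈ ((𝓘.support.compl : S.Opens) : Set S) from hx) 𝓘.support.compl.2
    refine ⟨V, hxV, hV, IsAffineOpen.preimage_of_isOpenImmersion hV _ ?_⟩
    rw [Scheme.Opens.opensRange_ι]
    exact fun y hy => hVW hy

end Groth.Agent.S8853
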