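import Groth.Statements.S1571
import Mathlib
import Groth.Agent.S8853

set_option autoImplicit false
universe u
open CategoryTheory CategoryTheory.Limits AlgebraicGeometry
open Divisors

namespace Groth.Agent.S1571

/-- The open complement of an effective Cartier divisor is an affine open immersion and is
scheme-theoretically dense. -/
theorem result (S : Scheme.{u}) (D : S.IdealSheafData) (hD : BlowUp.IsEffCartierIdeal D) :
    IsAffineHom (Scheme.Opens.ι (X := S) D.support.compl) ∧ IsSchemeTheoreticallyDominant (Scheme.Opens.ι (X := S) D.support.compl) := by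
  have hlp : Curv2.IsLocPrincipal D := fun x _ => by
    obtain ⟨U, hxU, f, _, hf⟩ := hD x
    exact ⟨U, hxU, f, hf⟩
  haveI haff : IsAffineHom (Scheme.Opens.ι (X := S) D.support.compl) :=
    Groth.Agent.S8853.result D hlp
  refine ⟨haff, ⟨?_⟩⟩
  choose U hxU g hg hDU using hD
  refine Scheme.IdealSheafData.ext_of_iSup_eq_top U ?_ ?_
  · rw [eq_top_iff]
    intro x _
    exact TopologicalSpace.Opens.mem_iSup.mpr ⟨x, hxU x⟩
  · intro x
    have hset : (D.support : Set S) ∩ ((U x).1 : Set S) =
        ((S.basicOpen (g x) : S.Opens) : Set S)ᶜ ∩ ((U x).1 : Set S) := by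
      rw [Scheme.IdealSheafData.coe_support_inter, hDU x, Scheme.zeroLocus_span,
        Scheme.zeroLocus_singleton]
    have hO : (Scheme.Opens.ι (X := S) D.support.compl) ''ᵁ
        ((Scheme.Opens.ι (X := S) D.support.compl) ⁻¹ᵁ (U x).1) = S.basicOpen (g x) := by
      rw [Scheme.Hom.image_preimage_eq_opensRange_inf, Scheme.Opens.opensRange_ι]
      ext y
      constructor
      · rintro ⟨hyW, hyV⟩
        by_contra hnb
        have h1 : y ∈ ((S.basicOpen (g x) : S.Opens) : Set S)ᶜ ∩ ((U x).1 : Set S) :=
          ⟨hnb, hyV⟩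
        rw [← hset] at h1
        exact hyW h1.1
      · intro hy
        refine ⟨?_, S.basicOpen_le (g x) hy⟩
        intro hys
        have h1 : y ∈ (D.support : Set S) ∩ ((U x).1 : Set S) :=
          ⟨hys, S.basicOpen_le (g x) hy⟩
        rw [hset] at h1
        exact h1.1 hy
    have hinj : ∀ (O : S.Opens) (hle : O ≤ (U x).1) (e : O = S.basicOpen (g x)),
        Function.Injective (S.presheaf.map (homOfLE hle).op).hom := by
      intro O hle e
      subst e
      haveI : IsLocalization.Away (g x) Γ(S, S.basicOpen (g x)) :=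
        (U x).2.isLocalization_basicOpen (g x)
      exact IsLocalization.injective Γ(S, S.basicOpen (g x))
        (Submonoid.powers_le.mpr (hg x))
    rw [Scheme.Hom.ker_apply]
    show RingHom.ker _ = (⊥ : Ideal _)
    rw [← RingHom.injective_iff_ker_eq_bot]
    exact hinj _ _ hO

end Groth.Agent.S1571
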