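import Groth.Statements.S15724
import Mathlib
import Groth.Agent.Lib.helper7.Wt

set_option autoImplicit false
universe u
open W4c2invhilbsl2

namespace Groth.Agent.S15724

/-- Grade the polynomial ring k[X₀,…,X₄] over a field k by ℤ × ℤ/m, giving X₀ weight (1,0), X₁ and X₂
weight (−p,−1), and X₃ and X₄ weight (q,1), where 0 < p < q are coprime integers and m ≥ 1, and let
P be the principal ideal generated by the weight-zero element X₀^(q−p) − X₁X₄ + X₂X₃ (the equation
of an affine hypersurface). Then every polynomial homogeneous of the weight of X₁ is congruent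
modulo P to some a·X₁ + b·X₂ with a and b homogeneous of weight zero, and every polynomial
homogeneous of the weight of X₃ is congruent modulo P to some a·X₃ + b·X₄ with a and b homogeneous
of weight zero. Equivalently, in the coordinate ring of the hypersurface the weight pieces of the
weights of X₁ and of X₃ are generated over the weight-zero subring (the ring of invariants of the
diagonal action of a one-dimensional torus times the group of m-th roots of unity with these
weights) by X₁, X₂ and by X₃, X₄ respectively. (For the weight of X₁ the congruence is already an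
equality in the polynomial ring; for the weight of X₃ the hypersurface equation is needed, e.g.
X₀^(q+p)X₁ has that weight when m divides 2.) -/
theorem result (k : Type u) [Field k] (p q m : ℕ) (hp : 0 < p) (hpq : p < q) (hcop : Nat.Coprime p q) (hm : 0 < m) (f : MvPolynomial (Fin 5) k) :
    (f ∈ MvPolynomial.weightedHomogeneousSubmodule k (W4c2invhilbsl2.wt5 p q m) (W4c2invhilbsl2.wt5 p q m 1) →
      ∃ a b : MvPolynomial (Fin 5) k, a ∈ MvPolynomial.weightedHomogeneousSubmodule k (W4c2invhilbsl2.wt5 p q m) 0 ∧ b ∈ MvPolynomial.weightedHomogeneousSubmodule k (W4c2invhilbsl2.wt5 p q m) 0 ∧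
        f - (a * MvPolynomial.X (1 : Fin 5) + b * MvPolynomial.X (2 : Fin 5)) ∈ Ideal.span {MvPolynomial.X (0 : Fin 5) ^ (q - p) - MvPolynomial.X 1 * MvPolynomial.X 4 + MvPolynomial.X 2 * MvPolynomial.X 3}) ∧
    (f ∈ MvPolynomial.weightedHomogeneousSubmodule k (W4c2invhilbsl2.wt5 p q m) (W4c2invhilbsl2.wt5 p q m 3) →
      ∃ a b : MvPolynomial (Fin 5) k, a ∈ MvPolynomial.weightedHomogeneousSubmodule k (W4c2invhilbsl2.wt5 p q m) 0 ∧ b ∈ MvPolynomial.weightedHomogeneousSubmodule k (W4c2invhilbsl2.wt5 p q m) 0 ∧
        f - (a * MvPolynomial.X (3 : Fin 5) + b * MvPolynomial.X (4 : Fin 5)) ∈ Ideal.span {MvPolynomial.X (0 : Fin 5) ^ (q - p) - MvPolynomial.X 1 * MvPolynomial.X 4 + MvPolynomial.X 2 * MvPolynomial.X 3}) := by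
  classical
  open Groth.Agent.Lib.helper7 in
  set w := W4c2invhilbsl2.wt5 p q m with hw
  have hw1 : w 1 = (-(p : ℤ), (((-1 : ℤ)) : ZMod m)) := by
    show (-(p : ℤ), (-1 : ZMod m)) = _
    simp
  have hw3 : w 3 = ((q : ℤ), (((1 : ℤ)) : ZMod m)) := by
    show ((q : ℤ), (1 : ZMod m)) = _
    simp
  set W0 := MvPolynomial.weightedHomogeneousSubmodule k w 0 with hW0
  set F5 : MvPolynomial (Fin 5) k := MvPolynomial.X (0 : Fin 5) ^ (q - p) -
    MvPolynomial.X 1 * MvPolynomial.X 4 + MvPolynomial.X 2 * MvPolynomial.X 3 with hF5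
  have hwsingle : ∀ j : Fin 5, Finsupp.weight w (Finsupp.single j 1) = w j := by
    intro j; rw [Finsupp.weight_single, one_smul]
  -- dividing a monomial by a variable
  have hdivX : ∀ (d : Fin 5 →₀ ℕ) (j : Fin 5) (rr : k), 1 ≤ d j → Finsupp.weight w d = w j →
      ∃ a ∈ W0, MvPolynomial.monomial d rr = a * MvPolynomial.X j := by
    intro d j rr hj hd
    have hle : Finsupp.single j 1 ≤ d := Finsupp.single_le_iff.mpr hj
    refine ⟨MvPolynomial.monomial (d - Finsupp.single j 1) rr, ?_, ?_⟩
    · apply MvPolynomial.isWeightedHomogeneous_monomial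
      rw [H7_weight_sub w d _ hle, hd, hwsingle, sub_self]
    · exact H7_monomial_sub_mul d _ hle rr
  constructor
  · intro hf
    let PP : MvPolynomial (Fin 5) k → Prop := fun f => ∃ a b : MvPolynomial (Fin 5) k,
      a ∈ W0 ∧ b ∈ W0 ∧ f = a * MvPolynomial.X (1 : Fin 5) + b * MvPolynomial.X (2 : Fin 5)
    have hPP : PP f := by
      apply H7_wh_induction w (w 1) PP ⟨0, 0, W0.zero_mem, W0.zero_mem, by simp⟩ ?_ ?_ f hf
      · rintro f g ⟨a, b, ha, hb, rfl⟩ ⟨a', b', ha', hb', rfl⟩
        exact ⟨a + a', b + b', W0.add_mem ha ha', W0.add_mem hb hb', by ring⟩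
      · intro d hd rr
        have hd' := hd
        rw [hw1, H7_wt5_eq_iff] at hd'
        obtain ⟨hfst, _⟩ := hd'
        have hp' : (0 : ℤ) < p := by exact_mod_cast hp
        have hq' : (0 : ℤ) < q := by exact_mod_cast (lt_trans hp hpq)
        by_cases h1 : 1 ≤ d 1
        · obtain ⟨a, ha, hm1⟩ := hdivX d 1 rr h1 hd
          exact ⟨a, 0, ha, W0.zero_mem, by rw [hm1]; ring⟩
        · have h2 : 1 ≤ d 2 := by
            by_contra h2
            have e1 : d 1 = 0 := by omega
            have e2 : d 2 = 0 := by omega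
            rw [e1, e2] at hfst
            push_cast at hfst
            have : (0 : ℤ) ≤ (q : ℤ) * ((d 3 : ℤ) + d 4) := by positivity
            have : (0 : ℤ) ≤ d 0 := Int.natCast_nonneg _
            linarith
          obtain ⟨a, ha, hm1⟩ := hdivX d 2 rr h2 (by rw [hd]; rfl)
          exact ⟨0, a, W0.zero_mem, ha, by rw [hm1]; ring⟩
    obtain ⟨a, b, ha, hb, hfab⟩ := hPP
    refine ⟨a, b, ha, hb, ?_⟩
    rw [hfab, sub_self]
    exact Ideal.zero_mem _
  · intro hf
    let PP : MvPolynomial (Fin 5) k → Prop := fun f => ∃ a b : MvPolynomial (Fin 5) k,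
      a ∈ W0 ∧ b ∈ W0 ∧ f - (a * MvPolynomial.X (3 : Fin 5) + b * MvPolynomial.X (4 : Fin 5)) ∈
        Ideal.span {F5}
    have hPP : PP f := by
      apply H7_wh_induction w (w 3) PP ⟨0, 0, W0.zero_mem, W0.zero_mem, by simp⟩ ?_ ?_ f hf
      · rintro f g ⟨a, b, ha, hb, h1⟩ ⟨a', b', ha', hb', h2⟩
        refine ⟨a + a', b + b', W0.add_mem ha ha', W0.add_mem hb hb', ?_⟩
        have := Ideal.add_mem _ h1 h2
        convert this using 1
        ring
      · intro d hd rr
        have hd' := hd
        rw [hw3, H7_wt5_eq_iff] at hd'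
        obtain ⟨hfst, _⟩ := hd'
        have hp' : (0 : ℤ) < p := by exact_mod_cast hp
        by_cases h3 : 1 ≤ d 3
        · obtain ⟨a, ha, hm1⟩ := hdivX d 3 rr h3 hd
          refine ⟨a, 0, ha, W0.zero_mem, ?_⟩
          rw [hm1]; simp
        · by_cases h4 : 1 ≤ d 4
          · obtain ⟨a, ha, hm1⟩ := hdivX d 4 rr h4 (by rw [hd]; rfl)
            refine ⟨0, a, W0.zero_mem, ha, ?_⟩
            rw [hm1]; simp
          · have e3 : d 3 = 0 := by omega
            have e4 : d 4 = 0 := by omega
            rw [e3, e4] at hfst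
            push_cast at hfst
            have hd0 : q - p ≤ d 0 := by
              have h5 : (0 : ℤ) ≤ (p : ℤ) * ((d 1 : ℤ) + d 2) := by positivity
              have h6 : (q : ℤ) ≤ d 0 := by linarith
              have : q ≤ d 0 := by exact_mod_cast h6
              omega
            have hle : Finsupp.single 0 (q - p) ≤ d := Finsupp.single_le_iff.mpr hd0
            set M' := MvPolynomial.monomial (d - Finsupp.single 0 (q - p)) rr with hM'
            have hmono : MvPolynomial.monomial d rr = M' * MvPolynomial.X (0 : Fin 5) ^ (q - p) := by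
              rw [hM', MvPolynomial.X_pow_eq_monomial]
              exact H7_monomial_sub_mul d _ hle rr
            have hM'w : MvPolynomial.IsWeightedHomogeneous w M' ((p : ℤ), (1 : ZMod m)) := by
              apply MvPolynomial.isWeightedHomogeneous_monomial
              rw [H7_weight_sub w d _ hle, hd, Finsupp.weight_single]
              show ((q : ℤ), (1 : ZMod m)) - (q - p) • ((1 : ℤ), (0 : ZMod m)) = _
              ext
              · simp [Nat.cast_sub hpq.le]
              · simp
            have hX1 : MvPolynomial.IsWeightedHomogeneous w (MvPolynomial.X (1 : Fin 5) : MvPolynomial (Fin 5) k)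
                (-(p : ℤ), (-1 : ZMod m)) := MvPolynomial.isWeightedHomogeneous_X k w 1
            have hX2 : MvPolynomial.IsWeightedHomogeneous w (MvPolynomial.X (2 : Fin 5) : MvPolynomial (Fin 5) k)
                (-(p : ℤ), (-1 : ZMod m)) := MvPolynomial.isWeightedHomogeneous_X k w 2
            have hz : ((p : ℤ), (1 : ZMod m)) + (-(p : ℤ), (-1 : ZMod m)) = 0 := by
              ext <;> simp
            have h1 : M' * MvPolynomial.X (1 : Fin 5) ∈ W0 := by
              have := hM'w.mul hX1
              rwa [hz] at this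
            have h2 : M' * MvPolynomial.X (2 : Fin 5) ∈ W0 := by
              have := hM'w.mul hX2
              rwa [hz] at this
            refine ⟨-(M' * MvPolynomial.X (2 : Fin 5)), M' * MvPolynomial.X (1 : Fin 5),
              W0.neg_mem h2, h1, ?_⟩
            rw [hmono, Ideal.mem_span_singleton]
            exact ⟨M', by rw [hF5]; ring⟩
    exact hPP

end Groth.Agent.S15724
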