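import Groth.Statements.S15725
import Mathlib

set_option autoImplicit false
universe u
open W4c2invhilbsl2

namespace Groth.Agent.S15725

/-- Grade the polynomial ring k[X₀,X₁,X₂] over a field k by ℤ × ℤ/m, giving X₀ weight (1,0), X₁ weight
(−p,−1) and X₂ weight (q,1), where 0 < p < q are coprime integers and m ≥ 1 (this three-variable
ring stands for the subring k[X₀,X₁,Xⱼ], j = 3 or 4, of the five-variable ring with the same
weights). Then every polynomial homogeneous of weight (q−p, 0) can be written a·X₀^(q−p) + b·X₁X₂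
with a and b homogeneous of weight zero; in other words the weight-(q−p, 0) piece is generated by
X₀^(q−p) and X₁X₂ as a module over the weight-zero subring. -/
theorem result (k : Type u) [Field k] (p q m : ℕ) (hp : 0 < p) (hpq : p < q) (hcop : Nat.Coprime p q) (hm : 0 < m) (f : MvPolynomial (Fin 3) k)
    (hf : f ∈ MvPolynomial.weightedHomogeneousSubmodule k (W4c2invhilbsl2.wt3 p q m) ((q : ℤ) - (p : ℤ), (0 : ZMod m))) :
    ∃ a b : MvPolynomial (Fin 3) k, a ∈ MvPolynomial.weightedHomogeneousSubmodule k (W4c2invhilbsl2.wt3 p q m) 0 ∧ b ∈ MvPolynomial.weightedHomogeneousSubmodule k (W4c2invhilbsl2.wt3 p q m) 0 ∧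
      f = a * MvPolynomial.X (0 : Fin 3) ^ (q - p) + b * (MvPolynomial.X (1 : Fin 3) * MvPolynomial.X (2 : Fin 3)) := by
  classical
  set w := W4c2invhilbsl2.wt3 p q m with hw
  have hw0 : w 0 = ((1 : ℤ), (0 : ZMod m)) := rfl
  have hw1 : w 1 = (-(p : ℤ), (-1 : ZMod m)) := rfl
  have hw2 : w 2 = ((q : ℤ), (1 : ZMod m)) := rfl
  set W0 := MvPolynomial.weightedHomogeneousSubmodule k w 0 with hW0
  let P : MvPolynomial (Fin 3) k → Prop := fun f => ∃ a b : MvPolynomial (Fin 3) k,
    a ∈ W0 ∧ b ∈ W0 ∧ f = a * MvPolynomial.X (0 : Fin 3) ^ (q - p) +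
      b * (MvPolynomial.X (1 : Fin 3) * MvPolynomial.X (2 : Fin 3))
  have hzero : P 0 := ⟨0, 0, W0.zero_mem, W0.zero_mem, by simp⟩
  have hadd : ∀ f g, P f → P g → P (f + g) := by
    rintro f g ⟨a, b, ha, hb, rfl⟩ ⟨a', b', ha', hb', rfl⟩
    exact ⟨a + a', b + b', W0.add_mem ha ha', W0.add_mem hb hb', by ring⟩
  have hmono : ∀ d : Fin 3 →₀ ℕ, Finsupp.weight w d = ((q : ℤ) - (p : ℤ), (0 : ZMod m)) →
      ∀ r : k, P (MvPolynomial.monomial d r) := by
    intro d hd r
    have hfst : (d 0 : ℤ) - (p : ℤ) * d 1 + (q : ℤ) * d 2 = (q : ℤ) - p := by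
      have h := congrArg Prod.fst hd
      rw [Finsupp.weight_eq_sum, Fin.sum_univ_three, hw0, hw1, hw2] at h
      simp only [Prod.fst_add, Prod.smul_fst] at h
      simp only [nsmul_eq_mul, mul_one, mul_neg] at h
      linarith
    by_cases hcase : q - p ≤ d 0
    · set d' := d - Finsupp.single 0 (q - p) with hd'
      have hdd : d = d' + Finsupp.single 0 (q - p) := by
        ext i
        simp only [hd', Finsupp.coe_add, Finsupp.coe_tsub, Pi.add_apply, Pi.sub_apply,
          Finsupp.single_apply]
        split_ifs with h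
        · subst h; omega
        · omega
      have hwd' : Finsupp.weight w d' = 0 := by
        have h1 : Finsupp.weight w d' + Finsupp.weight w (Finsupp.single 0 (q - p)) =
            ((q : ℤ) - (p : ℤ), (0 : ZMod m)) := by rw [← map_add, ← hdd, hd]
        have h2 : Finsupp.weight w (Finsupp.single (0 : Fin 3) (q - p)) =
            ((q : ℤ) - (p : ℤ), (0 : ZMod m)) := by
          rw [Finsupp.weight_single, hw0]
          ext
          · simp [Nat.cast_sub hpq.le]
          · simp
        rw [h2] at h1
        exact add_eq_right.mp h1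
      refine ⟨MvPolynomial.monomial d' r, 0,
        MvPolynomial.isWeightedHomogeneous_monomial w d' r hwd', W0.zero_mem, ?_⟩
      rw [zero_mul, add_zero, ← MvPolynomial.monomial_add_single, ← hdd]
    · push Not at hcase
      have hd1 : 1 ≤ d 1 := by
        by_contra h
        have h1 : d 1 = 0 := by omega
        rw [h1] at hfst
        push_cast at hfst
        have h2 : (d 0 : ℤ) < (q : ℤ) - p := by
          have : ((d 0 : ℕ) : ℤ) < ((q - p : ℕ) : ℤ) := by exact_mod_cast hcase
          rwa [Nat.cast_sub hpq.le] at this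
        have hq : (0 : ℤ) < q := by exact_mod_cast (lt_trans hp hpq)
        have hp' : (0 : ℤ) < p := by exact_mod_cast hp
        have h4 : (0 : ℤ) ≤ d 0 := Int.natCast_nonneg _
        rcases Nat.eq_zero_or_pos (d 2) with h5 | h5
        · rw [h5] at hfst
          push_cast at hfst
          linarith
        · have h6 : (1 : ℤ) ≤ d 2 := by exact_mod_cast h5
          nlinarith
      have hd2 : 1 ≤ d 2 := by
        by_contra h
        have h1 : d 2 = 0 := by omega
        rw [h1] at hfst
        push_cast at hfst
        have h2 : (d 0 : ℤ) < (q : ℤ) - p := by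
          have : ((d 0 : ℕ) : ℤ) < ((q - p : ℕ) : ℤ) := by exact_mod_cast hcase
          rwa [Nat.cast_sub hpq.le] at this
        have hp' : (0 : ℤ) < p := by exact_mod_cast hp
        have h3 : (0 : ℤ) ≤ d 1 := Int.natCast_nonneg _
        nlinarith
      set d' := d - (Finsupp.single 1 1 + Finsupp.single 2 1) with hd'
      have hdd : d = d' + Finsupp.single 1 1 + Finsupp.single 2 1 := by
        ext i
        simp only [hd', Finsupp.coe_add, Finsupp.coe_tsub, Pi.add_apply, Pi.sub_apply,
          Finsupp.single_apply]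
        fin_cases i <;> simp <;> omega
      have hwd' : Finsupp.weight w d' = 0 := by
        have h1 : Finsupp.weight w d' + (Finsupp.weight w (Finsupp.single 1 1) +
            Finsupp.weight w (Finsupp.single 2 1)) =
            ((q : ℤ) - (p : ℤ), (0 : ZMod m)) := by
          rw [← map_add, ← map_add, ← add_assoc, ← hdd, hd]
        have h2 : Finsupp.weight w (Finsupp.single (1 : Fin 3) 1) +
            Finsupp.weight w (Finsupp.single (2 : Fin 3) 1) =
            ((q : ℤ) - (p : ℤ), (0 : ZMod m)) := by
          rw [Finsupp.weight_single, Finsupp.weight_single, hw1, hw2]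
          ext
          · simp; ring
          · simp
        rw [h2] at h1
        exact add_eq_right.mp h1
      refine ⟨0, MvPolynomial.monomial d' r, W0.zero_mem,
        MvPolynomial.isWeightedHomogeneous_monomial w d' r hwd', ?_⟩
      rw [zero_mul, zero_add, hdd, MvPolynomial.monomial_add_single,
        MvPolynomial.monomial_add_single, pow_one, pow_one, mul_assoc]
  have hfP : P f := by
    rw [← MvPolynomial.support_sum_monomial_coeff f]
    apply Finset.sum_induction _ P hadd hzero
    intro d hd
    apply hmono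
    exact hf (MvPolynomial.mem_support_iff.mp hd)
  exact hfP

end Groth.Agent.S15725
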