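import Groth.Statements.S15726
import Mathlib
import Groth.Agent.Lib.helper7.Wt

set_option autoImplicit false
universe u
open W4c2invhilbsl2

namespace Groth.Agent.S15726

/-- Grade the polynomial ring k[X₀,…,X₄] over a field k by ℤ × ℤ/m, giving X₀ weight (1,0), X₁ and X₂
weight (−p,−1), and X₃ and X₄ weight (q,1), where 0 < p < q are coprime integers and m ≥ 1. Then
modulo the principal ideal generated by the weight-zero element X₀^(q−p) − X₁X₄ + X₂X₃ (the equation
of an affine hypersurface), every polynomial homogeneous of weight (q−p, 0) is congruent to a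
combination a₁₃X₁X₃ + a₁₄X₁X₄ + a₂₃X₂X₃ + a₂₄X₂X₄ whose four coefficients are homogeneous of weight
zero. Equivalently, in the coordinate ring of the hypersurface the weight-(q−p, 0) piece is
generated over the weight-zero subring (the invariant ring of the diagonal action with these
weights) by the span of the four products XₐX_b with a ∈ {1,2} and b ∈ {3,4}. (The published
statement is over the complex numbers; this row takes any field.) -/
theorem result (k : Type u) [Field k] (p q m : ℕ) (hp : 0 < p) (hpq : p < q) (hcop : Nat.Coprime p q) (hm : 0 < m) (f : MvPolynomial (Fin 5) k)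
    (hf : f ∈ MvPolynomial.weightedHomogeneousSubmodule k (W4c2invhilbsl2.wt5 p q m) ((q : ℤ) - (p : ℤ), (0 : ZMod m))) :
    ∃ a₁₃ a₁₄ a₂₃ a₂₄ : MvPolynomial (Fin 5) k,
      a₁₃ ∈ MvPolynomial.weightedHomogeneousSubmodule k (W4c2invhilbsl2.wt5 p q m) 0 ∧ a₁₄ ∈ MvPolynomial.weightedHomogeneousSubmodule k (W4c2invhilbsl2.wt5 p q m) 0 ∧ a₂₃ ∈ MvPolynomial.weightedHomogeneousSubmodule k (W4c2invhilbsl2.wt5 p q m) 0 ∧ a₂₄ ∈ MvPolynomial.weightedHomogeneousSubmodule k (W4c2invhilbsl2.wt5 p q m) 0 ∧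
      f - (a₁₃ * (MvPolynomial.X (1 : Fin 5) * MvPolynomial.X 3) + a₁₄ * (MvPolynomial.X (1 : Fin 5) * MvPolynomial.X 4) +
          a₂₃ * (MvPolynomial.X (2 : Fin 5) * MvPolynomial.X 3) + a₂₄ * (MvPolynomial.X (2 : Fin 5) * MvPolynomial.X 4)) ∈
        Ideal.span {MvPolynomial.X (0 : Fin 5) ^ (q - p) - MvPolynomial.X 1 * MvPolynomial.X 4 + MvPolynomial.X 2 * MvPolynomial.X 3} := by
  classical
  open Groth.Agent.Lib.helper7 in
  set w := W4c2invhilbsl2.wt5 p q m with hw
  have hw1 : w 1 = (-(p : ℤ), (-1 : ZMod m)) := rfl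
  have hw2 : w 2 = (-(p : ℤ), (-1 : ZMod m)) := rfl
  have hw3 : w 3 = ((q : ℤ), (1 : ZMod m)) := rfl
  have hw4 : w 4 = ((q : ℤ), (1 : ZMod m)) := rfl
  have hν : ((q : ℤ) - (p : ℤ), (0 : ZMod m)) = ((q : ℤ) - (p : ℤ), ((0 : ℤ) : ZMod m)) := by simp
  have hsum : (-(p : ℤ), (-1 : ZMod m)) + ((q : ℤ), (1 : ZMod m)) = ((q : ℤ) - (p : ℤ), (0 : ZMod m)) := by
    ext
    · simp; ring
    · simp
  set W0 := MvPolynomial.weightedHomogeneousSubmodule k w 0 with hW0
  set F5 : MvPolynomial (Fin 5) k := MvPolynomial.X (0 : Fin 5) ^ (q - p) -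
    MvPolynomial.X 1 * MvPolynomial.X 4 + MvPolynomial.X 2 * MvPolynomial.X 3 with hF5
  have hdivXX : ∀ (d : Fin 5 →₀ ℕ) (a b : Fin 5) (rr : k), a ≠ b → 1 ≤ d a → 1 ≤ d b →
      Finsupp.weight w d = w a + w b →
      ∃ cc ∈ W0, MvPolynomial.monomial d rr = cc * (MvPolynomial.X a * MvPolynomial.X b) := by
    intro d a b rr hab ha hb hd
    have hle : Finsupp.single a 1 + Finsupp.single b 1 ≤ d := by
      intro i
      simp only [Finsupp.coe_add, Pi.add_apply, Finsupp.single_apply]
      by_cases h1 : a = i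
      · subst h1
        have : ¬ b = a := fun h => hab h.symm
        simp [this]; omega
      · by_cases h2 : b = i
        · subst h2; simp [h1]; omega
        · simp [h1, h2]
    refine ⟨MvPolynomial.monomial (d - (Finsupp.single a 1 + Finsupp.single b 1)) rr, ?_, ?_⟩
    · apply MvPolynomial.isWeightedHomogeneous_monomial
      rw [H7_weight_sub w d _ hle, hd, map_add, Finsupp.weight_single, Finsupp.weight_single,
        one_smul, one_smul, sub_self]
    · rw [H7_monomial_sub_mul d _ hle rr]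
      congr 1
      rw [MvPolynomial.X, MvPolynomial.X, MvPolynomial.monomial_mul, mul_one]
  let PP : MvPolynomial (Fin 5) k → Prop := fun f => ∃ a₁₃ a₁₄ a₂₃ a₂₄ : MvPolynomial (Fin 5) k,
    a₁₃ ∈ W0 ∧ a₁₄ ∈ W0 ∧ a₂₃ ∈ W0 ∧ a₂₄ ∈ W0 ∧
    f - (a₁₃ * (MvPolynomial.X (1 : Fin 5) * MvPolynomial.X 3) + a₁₄ * (MvPolynomial.X (1 : Fin 5) * MvPolynomial.X 4) +
        a₂₃ * (MvPolynomial.X (2 : Fin 5) * MvPolynomial.X 3) + a₂₄ * (MvPolynomial.X (2 : Fin 5) * MvPolynomial.X 4)) ∈
      Ideal.span {F5}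
  have hPP : PP f := by
    apply H7_wh_induction w _ PP
      ⟨0, 0, 0, 0, W0.zero_mem, W0.zero_mem, W0.zero_mem, W0.zero_mem, by simp⟩ ?_ ?_ f hf
    · rintro f g ⟨a, b, c', d', ha, hb, hc, hd, h1⟩ ⟨a', b', c'', d'', ha', hb', hc', hd', h2⟩
      refine ⟨a + a', b + b', c' + c'', d' + d'', W0.add_mem ha ha', W0.add_mem hb hb',
        W0.add_mem hc hc', W0.add_mem hd hd', ?_⟩
      have := Ideal.add_mem _ h1 h2
      convert this using 1
      ring
    · intro d hd rr
      have hd' := hd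
      rw [hν, H7_wt5_eq_iff] at hd'
      obtain ⟨hfst, _⟩ := hd'
      have hp' : (0 : ℤ) < p := by exact_mod_cast hp
      have hq' : (0 : ℤ) < q := by exact_mod_cast (lt_trans hp hpq)
      by_cases h34 : d 3 = 0 ∧ d 4 = 0
      · obtain ⟨e3, e4⟩ := h34
        rw [e3, e4] at hfst
        push_cast at hfst
        have hd0 : q - p ≤ d 0 := by
          have h5 : (0 : ℤ) ≤ (p : ℤ) * ((d 1 : ℤ) + d 2) := by positivity
          have h6 : (q : ℤ) - p ≤ d 0 := by linarith
          have : ((q - p : ℕ) : ℤ) ≤ d 0 := by rw [Nat.cast_sub hpq.le]; exact h6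
          exact_mod_cast this
        have hle : Finsupp.single 0 (q - p) ≤ d := Finsupp.single_le_iff.mpr hd0
        set M' := MvPolynomial.monomial (d - Finsupp.single 0 (q - p)) rr with hM'
        have hmono : MvPolynomial.monomial d rr = M' * MvPolynomial.X (0 : Fin 5) ^ (q - p) := by
          rw [hM', MvPolynomial.X_pow_eq_monomial]
          exact H7_monomial_sub_mul d _ hle rr
        have hM'w : M' ∈ W0 := by
          apply MvPolynomial.isWeightedHomogeneous_monomial
          rw [H7_weight_sub w d _ hle, hd, Finsupp.weight_single]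
          show ((q : ℤ) - (p : ℤ), (0 : ZMod m)) - (q - p) • ((1 : ℤ), (0 : ZMod m)) = 0
          ext
          · simp [Nat.cast_sub hpq.le]
          · simp
        refine ⟨0, M', -M', 0, W0.zero_mem, hM'w, W0.neg_mem hM'w, W0.zero_mem, ?_⟩
        rw [hmono, Ideal.mem_span_singleton]
        exact ⟨M', by rw [hF5]; ring⟩
      · have h34' : 1 ≤ d 3 ∨ 1 ≤ d 4 := by
          by_contra h
          push Not at h
          exact h34 ⟨by omega, by omega⟩
        have h12' : 1 ≤ d 1 ∨ 1 ≤ d 2 := by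
          by_contra h
          push Not at h
          have e1 : d 1 = 0 := by omega
          have e2 : d 2 = 0 := by omega
          rw [e1, e2] at hfst
          push_cast at hfst
          have h5 : (1 : ℤ) ≤ (d 3 : ℤ) + d 4 := by
            rcases h34' with h | h
            · have : (1 : ℤ) ≤ d 3 := by exact_mod_cast h
              have : (0 : ℤ) ≤ d 4 := Int.natCast_nonneg _
              linarith
            · have : (1 : ℤ) ≤ d 4 := by exact_mod_cast h
              have : (0 : ℤ) ≤ d 3 := Int.natCast_nonneg _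
              linarith
          have h6 : (q : ℤ) * 1 ≤ (q : ℤ) * ((d 3 : ℤ) + d 4) := mul_le_mul_of_nonneg_left h5 hq'.le
          have : (0 : ℤ) ≤ d 0 := Int.natCast_nonneg _
          linarith
        rcases h12' with h1 | h2
        · rcases h34' with h3 | h4
          · obtain ⟨cc, hcc, hm1⟩ := hdivXX d 1 3 rr (by decide) h1 h3 (by rw [hd, hw1, hw3, hsum])
            refine ⟨cc, 0, 0, 0, hcc, W0.zero_mem, W0.zero_mem, W0.zero_mem, ?_⟩
            rw [hm1]; simp
          · obtain ⟨cc, hcc, hm1⟩ := hdivXX d 1 4 rr (by decide) h1 h4 (by rw [hd, hw1, hw4, hsum])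
            refine ⟨0, cc, 0, 0, W0.zero_mem, hcc, W0.zero_mem, W0.zero_mem, ?_⟩
            rw [hm1]; simp
        · rcases h34' with h3 | h4
          · obtain ⟨cc, hcc, hm1⟩ := hdivXX d 2 3 rr (by decide) h2 h3 (by rw [hd, hw2, hw3, hsum])
            refine ⟨0, 0, cc, 0, W0.zero_mem, W0.zero_mem, hcc, W0.zero_mem, ?_⟩
            rw [hm1]; simp
          · obtain ⟨cc, hcc, hm1⟩ := hdivXX d 2 4 rr (by decide) h2 h4 (by rw [hd, hw2, hw4, hsum])
            refine ⟨0, 0, 0, cc, W0.zero_mem, W0.zero_mem, W0.zero_mem, hcc, ?_⟩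
            rw [hm1]; simp
  exact hPP

end Groth.Agent.S15726
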