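import Groth.Statements.S15727
import Mathlib
import Groth.Agent.Lib.helper7.Mono3

set_option autoImplicit false
universe u
open W4c2invhilbsl2

namespace Groth.Agent.S15727

/-- Let k be an algebraically closed field, 0 < p < q coprime integers and m ≥ 1, and grade k[X₀,…,X₄]
by ℤ × ℤ/m, giving X₀ weight (1,0), X₁ and X₂ weight (−p,−1), and X₃ and X₄ weight (q,1). For s ∈ k
let I_s be the ideal (X₀^(q−p) − X₁X₄, X₂, X₃, s − X₀^(mp)X₁^m), whose generators are homogeneous
(the last one of weight zero). Then for every weight ν the image in k[X₀,…,X₄]/I_s of the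
homogeneous polynomials of weight ν is a k-vector space of dimension at most 1. (The published
statement asserts that this dimension equals 1 for every ν and every s, namely that the quotient has
the Hilbert function of the regular representation of the grading group; this row states the upper
bound, the half obtained from the monomial analysis of the weight pieces, while the lower bound
there is drawn from the moduli interpretation of these ideals. The published statement is over the
complex numbers; this row takes any algebraically closed field, which is what the reduction to s =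
0, 1 by rescaling the variables uses.) -/
theorem result (k : Type u) [Field k] [IsAlgClosed k] (p q m : ℕ) (hp : 0 < p) (hpq : p < q) (hcop : Nat.Coprime p q) (hm : 0 < m) (s : k) (ν : ℤ × ZMod m) :
    Module.rank k (W4c2invhilbsl2.piece k (W4c2invhilbsl2.wt5 p q m) (W4c2invhilbsl2.idealI k p q m s) ν) ≤ 1 := by
  classical
  open Groth.Agent.Lib.helper7 in
  obtain ⟨g, rfl⟩ := Nat.exists_eq_add_of_lt hpq
  have hsub : p + g + 1 - p = g + 1 := by omega
  set w := W4c2invhilbsl2.wt5 p (p + g + 1) m with hw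
  set I := W4c2invhilbsl2.idealI k p (p + g + 1) m s with hI
  set mk := Ideal.Quotient.mkₐ k I with hmk
  set x0 := mk (MvPolynomial.X 0) with hx0
  set x1 := mk (MvPolynomial.X 1) with hx1
  set x4 := mk (MvPolynomial.X 4) with hx4
  have hmem : ∀ y ∈ ({MvPolynomial.X 0 ^ (p + g + 1 - p) - MvPolynomial.X 1 * MvPolynomial.X 4,
      MvPolynomial.X 2, MvPolynomial.X 3,
      MvPolynomial.C s - MvPolynomial.X 0 ^ (m * p) * MvPolynomial.X 1 ^ m} :
        Set (MvPolynomial (Fin 5) k)), mk y = 0 := by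
    intro y hy
    rw [hmk, Ideal.Quotient.mkₐ_eq_mk, Ideal.Quotient.eq_zero_iff_mem, hI, W4c2invhilbsl2.idealI]
    exact Ideal.subset_span hy
  have h2 : mk (MvPolynomial.X 2) = 0 := hmem _ (by simp)
  have h3 : mk (MvPolynomial.X 3) = 0 := hmem _ (by simp)
  have hF : x0 ^ (g + 1) - x1 * x4 = 0 := by
    have := hmem (MvPolynomial.X 0 ^ (p + g + 1 - p) - MvPolynomial.X 1 * MvPolynomial.X 4) (by simp)
    rw [hsub] at this
    simpa using this
  have hG : x0 ^ (m * p) * x1 ^ m = algebraMap k _ s := by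
    have := hmem (MvPolynomial.C s - MvPolynomial.X 0 ^ (m * p) * MvPolynomial.X 1 ^ m) (by simp)
    rw [map_sub, map_mul, map_pow, map_pow, sub_eq_zero] at this
    rw [← this, hmk]
    rfl
  have hspan0 : Ideal.span {x0 ^ (g + 1) - x1 * x4} = ⊥ := by
    rw [hF]; exact Ideal.span_singleton_eq_bot.mpr rfl
  -- image of a monomial
  have hμ : ∀ d : Fin 5 →₀ ℕ, mk (MvPolynomial.monomial d 1) =
      x0 ^ d 0 * x1 ^ d 1 * (mk (MvPolynomial.X 2)) ^ d 2 * (mk (MvPolynomial.X 3)) ^ d 3 * x4 ^ d 4 := by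
    intro d
    rw [H7_monomial5 d 1]
    simp only [map_mul, map_pow, map_one, one_mul]
    rfl
  have hμ0 : ∀ d : Fin 5 →₀ ℕ, (d 2 ≠ 0 ∨ d 3 ≠ 0) → mk (MvPolynomial.monomial d 1) = 0 := by
    intro d hd
    rw [hμ d, h2, h3]
    rcases hd with h | h
    · rw [zero_pow h]; simp
    · rw [zero_pow h]; simp
  have hμ1 : ∀ d : Fin 5 →₀ ℕ, d 2 = 0 → d 3 = 0 → mk (MvPolynomial.monomial d 1) =
      x0 ^ d 0 * x1 ^ d 1 * x4 ^ d 4 := by
    intro d e2 e3
    rw [hμ d, e2, e3]; simp
  -- comparison of two monomials of the same weight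
  have hcmp : ∀ a b : Fin 5 →₀ ℕ, Finsupp.weight w a = ν → Finsupp.weight w b = ν →
      a 2 = 0 → a 3 = 0 → b 2 = 0 → b 3 = 0 → ∀ j : ℕ,
      ((a 1 : ℤ) - a 4) - ((b 1 : ℤ) - b 4) = (m : ℤ) * j →
      mk (MvPolynomial.monomial a 1) = s ^ j • mk (MvPolynomial.monomial b 1) := by
    intro a b ha hb a2 a3 b2 b3 j hj
    have hfa := congrArg Prod.fst ha
    have hfb := congrArg Prod.fst hb
    rw [H7_wt5_fst] at hfa hfb
    rw [a2, a3] at hfa
    rw [b2, b3] at hfb
    push_cast at hfa hfb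
    have h1 : (a 0 : ℤ) - (p : ℤ) * a 1 + ((p + g + 1 : ℕ) : ℤ) * a 4 =
        (b 0 : ℤ) - (p : ℤ) * b 1 + ((p + g + 1 : ℕ) : ℤ) * b 4 := by
      push_cast; linarith
    have := H7_gL3 x0 x1 x4 p g m (a 0) (a 1) (a 4) (b 0) (b 1) (b 4) j h1 hj
    rw [hspan0, Ideal.mem_bot, sub_eq_zero] at this
    have hsm : s ^ j • (x0 ^ b 0 * x1 ^ b 1 * x4 ^ b 4) =
        algebraMap k _ (s ^ j) * (x0 ^ b 0 * x1 ^ b 1 * x4 ^ b 4) :=
      Algebra.smul_def (s ^ j) (x0 ^ b 0 * x1 ^ b 1 * x4 ^ b 4)
    rw [hμ1 a a2 a3, hμ1 b b2 b3, this, hG, hsm, map_pow]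
    ring
  have hdvd : ∀ a b : Fin 5 →₀ ℕ, Finsupp.weight w a = ν → Finsupp.weight w b = ν →
      a 2 = 0 → a 3 = 0 → b 2 = 0 → b 3 = 0 →
      (m : ℤ) ∣ ((a 1 : ℤ) - a 4) - ((b 1 : ℤ) - b 4) := by
    intro a b ha hb a2 a3 b2 b3
    have hsa := congrArg Prod.snd ha
    have hsb := congrArg Prod.snd hb
    rw [H7_wt5_snd] at hsa hsb
    have := hsa.trans hsb.symm
    rw [ZMod.intCast_eq_intCast_iff_dvd_sub] at this
    rw [a2, a3, b2, b3] at this
    push_cast at this
    convert this using 1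
    ring
  rw [rank_submodule_le_one_iff']
  by_cases hall : ∀ d : Fin 5 →₀ ℕ, Finsupp.weight w d = ν → mk (MvPolynomial.monomial d 1) = 0
  · refine ⟨0, ?_⟩
    rintro _ ⟨f, hf, rfl⟩
    show mk f ∈ _
    apply H7_wh_induction w ν (fun f => mk f ∈ Submodule.span k {(0 : _)}) ?_ ?_ ?_ f hf
    · simp
    · intro f1 f2 h1 h2
      rw [map_add]; exact Submodule.add_mem _ h1 h2
    · intro d hd r
      have : MvPolynomial.monomial d r = r • MvPolynomial.monomial d (1 : k) := by
        rw [MvPolynomial.smul_monomial, smul_eq_mul, mul_one]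
      rw [this, map_smul, hall d hd, smul_zero]
      exact Submodule.zero_mem _
  · push Not at hall
    obtain ⟨d₀, hd₀, hne⟩ := hall
    have hd₀2 : d₀ 2 = 0 := by
      by_contra h; exact hne (hμ0 d₀ (Or.inl h))
    have hd₀3 : d₀ 3 = 0 := by
      by_contra h; exact hne (hμ0 d₀ (Or.inr h))
    refine ⟨mk (MvPolynomial.monomial d₀ 1), ?_⟩
    rintro _ ⟨f, hf, rfl⟩
    show mk f ∈ _
    apply H7_wh_induction w ν
      (fun f => mk f ∈ Submodule.span k {mk (MvPolynomial.monomial d₀ 1)}) ?_ ?_ ?_ f hf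
    · simp
    · intro f1 f2 h1 h2
      rw [map_add]; exact Submodule.add_mem _ h1 h2
    · intro d hd r
      have : MvPolynomial.monomial d r = r • MvPolynomial.monomial d (1 : k) := by
        rw [MvPolynomial.smul_monomial, smul_eq_mul, mul_one]
      rw [this, map_smul]
      apply Submodule.smul_mem
      by_cases hz : d 2 ≠ 0 ∨ d 3 ≠ 0
      · rw [hμ0 d hz]; exact Submodule.zero_mem _
      · push Not at hz
        obtain ⟨e2, e3⟩ := hz
        obtain ⟨u, hu⟩ := hdvd d d₀ hd hd₀ e2 e3 hd₀2 hd₀3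
        rcases le_total 0 u with hpos | hneg
        · obtain ⟨j, rfl⟩ := Int.eq_ofNat_of_zero_le hpos
          rw [hcmp d d₀ hd hd₀ e2 e3 hd₀2 hd₀3 j hu]
          exact Submodule.smul_mem _ _ (Submodule.mem_span_singleton_self _)
        · obtain ⟨j, hj⟩ := Int.eq_ofNat_of_zero_le (neg_nonneg.mpr hneg)
          have hu' : ((d₀ 1 : ℤ) - d₀ 4) - ((d 1 : ℤ) - d 4) = (m : ℤ) * j := by
            rw [← hj]; linarith
          have h5 := hcmp d₀ d hd₀ hd hd₀2 hd₀3 e2 e3 j hu'
          have hs : s ^ j ≠ 0 := by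
            intro h0
            rw [h0, zero_smul] at h5
            exact hne h5
          have h6 : mk (MvPolynomial.monomial d 1) = (s ^ j)⁻¹ • mk (MvPolynomial.monomial d₀ 1) := by
            rw [h5, smul_smul, inv_mul_cancel₀ hs, one_smul]
          rw [h6]
          exact Submodule.smul_mem _ _ (Submodule.mem_span_singleton_self _)

end Groth.Agent.S15727
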