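import Groth.Statements.S15728
import Mathlib
import Groth.Agent.Lib.helper7.Mono4

set_option autoImplicit false
universe u
open W4c2invhilbsl2

namespace Groth.Agent.S15728

/-- Let k be an algebraically closed field, 0 < p < q coprime integers and m ≥ 1; put g = gcd(m, q−p)
and a = m/g, and grade k[X₀,…,X₄] by ℤ × ℤ/m, giving X₀ weight (1,0), X₁ and X₂ weight (−p,−1), and
X₃ and X₄ weight (q,1). For s ∈ k let J_s be the ideal (X₀^g, X₂, X₄, s − X₁^(aq)X₃^(ap)), whose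
generators are homogeneous (the last one of weight zero). Then for every weight ν the image in
k[X₀,…,X₄]/J_s of the homogeneous polynomials of weight ν is a k-vector space of dimension at most
1. (The published statement asserts that this dimension equals 1 for every ν and every s; this row
states the upper bound, the half obtained from the monomial analysis of the weight pieces, while the
lower bound there is drawn from the moduli interpretation of these ideals. The published statement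
is over the complex numbers; this row takes any algebraically closed field, which is what the
reduction to s = 0, 1 by rescaling the variables uses.) -/
theorem result (k : Type u) [Field k] [IsAlgClosed k] (p q m : ℕ) (hp : 0 < p) (hpq : p < q) (hcop : Nat.Coprime p q) (hm : 0 < m) (s : k) (ν : ℤ × ZMod m) :
    Module.rank k (W4c2invhilbsl2.piece k (W4c2invhilbsl2.wt5 p q m) (W4c2invhilbsl2.idealJ k p q m s) ν) ≤ 1 := by
  classical
  open Groth.Agent.Lib.helper7 in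
  obtain ⟨g, rfl⟩ := Nat.exists_eq_add_of_lt hpq
  have hsub : p + g + 1 - p = g + 1 := by omega
  set w := W4c2invhilbsl2.wt5 p (p + g + 1) m with hw
  set I := W4c2invhilbsl2.idealJ k p (p + g + 1) m s with hI
  set mk := Ideal.Quotient.mkₐ k I with hmk
  set x0 := mk (MvPolynomial.X 0) with hx0
  set x1 := mk (MvPolynomial.X 1) with hx1
  set x3 := mk (MvPolynomial.X 3) with hx3
  set gg := Nat.gcd m (g + 1) with hgg
  set a := m / gg with ha
  have hmem : ∀ y ∈ ({MvPolynomial.X 0 ^ Nat.gcd m (p + g + 1 - p),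
      MvPolynomial.X 2, MvPolynomial.X 4,
      MvPolynomial.C s - MvPolynomial.X 1 ^ (m / Nat.gcd m (p + g + 1 - p) * (p + g + 1)) *
        MvPolynomial.X 3 ^ (m / Nat.gcd m (p + g + 1 - p) * p)} :
        Set (MvPolynomial (Fin 5) k)), mk y = 0 := by
    intro y hy
    rw [hmk, Ideal.Quotient.mkₐ_eq_mk, Ideal.Quotient.eq_zero_iff_mem, hI, W4c2invhilbsl2.idealJ]
    exact Ideal.subset_span hy
  have h2 : mk (MvPolynomial.X 2) = 0 := hmem _ (by simp)
  have h4 : mk (MvPolynomial.X 4) = 0 := hmem _ (by simp)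
  have h0 : x0 ^ gg = 0 := by
    have := hmem (MvPolynomial.X 0 ^ Nat.gcd m (p + g + 1 - p)) (by simp)
    rw [hsub] at this
    simpa using this
  have hG : x1 ^ (a * (p + g + 1)) * x3 ^ (a * p) = algebraMap k _ s := by
    have := hmem (MvPolynomial.C s - MvPolynomial.X 1 ^ (m / Nat.gcd m (p + g + 1 - p) * (p + g + 1)) *
        MvPolynomial.X 3 ^ (m / Nat.gcd m (p + g + 1 - p) * p)) (by simp)
    rw [hsub, map_sub, map_mul, map_pow, map_pow, sub_eq_zero] at this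
    rw [← this, hmk]
    rfl
  -- image of a monomial
  have hμ : ∀ d : Fin 5 →₀ ℕ, mk (MvPolynomial.monomial d 1) =
      x0 ^ d 0 * x1 ^ d 1 * (mk (MvPolynomial.X 2)) ^ d 2 * x3 ^ d 3 * (mk (MvPolynomial.X 4)) ^ d 4 := by
    intro d
    rw [H7_monomial5 d 1]
    simp only [map_mul, map_pow, map_one, one_mul]
    rfl
  have hμ0 : ∀ d : Fin 5 →₀ ℕ, (d 2 ≠ 0 ∨ d 4 ≠ 0 ∨ gg ≤ d 0) → mk (MvPolynomial.monomial d 1) = 0 := by
    intro d hd
    rw [hμ d, h2, h4]
    rcases hd with h | h | h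
    · rw [zero_pow h]; simp
    · rw [zero_pow h]; simp
    · obtain ⟨t, ht⟩ := Nat.exists_eq_add_of_le h
      rw [ht, pow_add, h0]; simp
  have hμ1 : ∀ d : Fin 5 →₀ ℕ, d 2 = 0 → d 4 = 0 → mk (MvPolynomial.monomial d 1) =
      x0 ^ d 0 * x1 ^ d 1 * x3 ^ d 3 := by
    intro d e2 e4
    rw [hμ d, e2, e4]; simp
  apply H7_rank_piece_le_one
  intro d e hd he
  by_cases hzd : d 2 ≠ 0 ∨ d 4 ≠ 0 ∨ gg ≤ d 0
  · refine ⟨0, Or.inl ?_⟩
    rw [zero_smul]; exact hμ0 d hzd
  by_cases hze : e 2 ≠ 0 ∨ e 4 ≠ 0 ∨ gg ≤ e 0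
  · refine ⟨0, Or.inr ?_⟩
    rw [zero_smul]; exact hμ0 e hze
  push Not at hzd hze
  obtain ⟨d2, d4, d0⟩ := hzd
  obtain ⟨e2, e4, e0⟩ := hze
  have hfd := congrArg Prod.fst hd
  have hfe := congrArg Prod.fst he
  rw [H7_wt5_fst] at hfd hfe
  rw [d2, d4] at hfd
  rw [e2, e4] at hfe
  push_cast at hfd hfe
  have hsd := congrArg Prod.snd hd
  have hse := congrArg Prod.snd he
  rw [H7_wt5_snd] at hsd hse
  have hdv := hsd.trans hse.symm
  rw [ZMod.intCast_eq_intCast_iff_dvd_sub] at hdv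
  rw [d2, d4, e2, e4] at hdv
  push_cast at hdv
  have hn : (e 0 : ℤ) - (p : ℤ) * e 1 + ((p : ℤ) + g + 1) * e 3 =
      (d 0 : ℤ) - (p : ℤ) * d 1 + ((p : ℤ) + g + 1) * d 3 := by linarith
  have hc : (m : ℤ) ∣ ((e 1 : ℤ) - e 3) - ((d 1 : ℤ) - d 3) := by
    obtain ⟨u, hu⟩ := hdv
    exact ⟨-u, by linarith⟩
  obtain ⟨t, ht | ht⟩ := H7_gJ x0 x1 x3 p g m hm hcop (d 0) (d 1) (d 3) (e 0) (e 1) (e 3) hn hc d0 e0
  · refine ⟨s ^ t, Or.inr ?_⟩
    have hsm : s ^ t • (x0 ^ d 0 * x1 ^ d 1 * x3 ^ d 3) =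
        algebraMap k _ (s ^ t) * (x0 ^ d 0 * x1 ^ d 1 * x3 ^ d 3) :=
      Algebra.smul_def (s ^ t) (x0 ^ d 0 * x1 ^ d 1 * x3 ^ d 3)
    rw [hμ1 e e2 e4, hμ1 d d2 d4, ht, hG, hsm, map_pow]
    ring
  · refine ⟨s ^ t, Or.inl ?_⟩
    have hsm : s ^ t • (x0 ^ e 0 * x1 ^ e 1 * x3 ^ e 3) =
        algebraMap k _ (s ^ t) * (x0 ^ e 0 * x1 ^ e 1 * x3 ^ e 3) :=
      Algebra.smul_def (s ^ t) (x0 ^ e 0 * x1 ^ e 1 * x3 ^ e 3)
    rw [hμ1 e e2 e4, hμ1 d d2 d4, ht, hG, hsm, map_pow]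
    ring

end Groth.Agent.S15728
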