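import Groth.Statements.S15729
import Mathlib
import Groth.Agent.Lib.helper7.HJ2
import Groth.Agent.S15735
import Groth.Agent.S15733

set_option autoImplicit false
universe u
open W4c2invhilbsl2

namespace Groth.Agent.S15729

/-- Let 0 < p < q be coprime integers and m ≥ 1 such that q − p does not divide m; put g = gcd(m, q−p),
b = (q−p)/g, α = ⌊mp/(q−p)⌋, β = the remainder of mp modulo q−p and t = (q−p−β)/g, so that 1 ≤ t <
b, and let b/t = c₁ − 1/(c₂ − 1/(⋯ − 1/c_r)) be the negative-regular (Hirzebruch–Jung) continued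
fraction expansion with every cᵢ ≥ 2; set P₀ = 0, P₁ = 1, Q₀ = −1, Q₁ = 0, Pᵢ = cᵢ₋₁Pᵢ₋₁ − Pᵢ₋₂, Qᵢ
= cᵢ₋₁Qᵢ₋₁ − Qᵢ₋₂ for 2 ≤ i ≤ r+1, and eᵢ = (α+1+m)Pᵢ − Qᵢ, lᵢ = (α+1)Pᵢ − Qᵢ, nᵢ = q·lᵢ − p·eᵢ,
which are non-negative integers for 0 ≤ i ≤ r+1. Grade the polynomial ring k[X₀,X₁,X₂] over a field
k by ℤ × ℤ/m with weights (1,0), (−p,−1), (q,1) (it stands for k[X₀,X₁,Xⱼ], j = 3 or 4, inside the
five-variable ring). Then for every 1 ≤ i ≤ r, every polynomial homogeneous of weight (nᵢ, 0) can be
written a·X₀^(nᵢ) + b·X₁^(eᵢ)X₂^(lᵢ) with a and b homogeneous of weight zero; that is, the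
weight-(nᵢ,0) piece is generated over the weight-zero subring by X₀^(nᵢ) and X₁^(eᵢ)X₂^(lᵢ). -/
theorem result (k : Type u) [Field k] (p q m : ℕ) (hp : 0 < p) (hpq : p < q) (hcop : Nat.Coprime p q) (hm : 0 < m) (hnt : ¬ (q - p ∣ m)) (c : List ℤ) (hc : W4c2invhilbsl2.IsHJDigits p q m c) (i : ℕ) (hi : 1 ≤ i) (hir : i ≤ c.length)
    (f : MvPolynomial (Fin 3) k) (hf : f ∈ MvPolynomial.weightedHomogeneousSubmodule k (W4c2invhilbsl2.wt3 p q m) (W4c2invhilbsl2.nN p q m c i, (0 : ZMod m))) :
    ∃ a b : MvPolynomial (Fin 3) k, a ∈ MvPolynomial.weightedHomogeneousSubmodule k (W4c2invhilbsl2.wt3 p q m) 0 ∧ b ∈ MvPolynomial.weightedHomogeneousSubmodule k (W4c2invhilbsl2.wt3 p q m) 0 ∧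
      f = a * MvPolynomial.X (0 : Fin 3) ^ (W4c2invhilbsl2.nN p q m c i).toNat +
        b * (MvPolynomial.X (1 : Fin 3) ^ (W4c2invhilbsl2.eE p q m c i).toNat * MvPolynomial.X (2 : Fin 3) ^ (W4c2invhilbsl2.lL p q m c i).toNat) := by
  classical
  open Groth.Agent.Lib.helper7 in
  obtain ⟨hA, _, hC, hD0, hDr, hDr1⟩ := Groth.Agent.S15735.result p q m hp hpq hcop hm hnt c hc
  have hS33 := Groth.Agent.S15733.result p q m hp hpq hcop hm hnt c hc
  set r := c.length with hr
  set R : ℤ := (q : ℤ) - p with hR
  have hRpos : 0 < R := by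
    have : (p : ℤ) < q := by exact_mod_cast hpq
    rw [hR]; linarith
  set N := W4c2invhilbsl2.nN p q m c i with hN
  set E := W4c2invhilbsl2.eE p q m c i with hE
  set Lv := W4c2invhilbsl2.lL p q m c i with hLv
  set Pv := W4c2invhilbsl2.hjP c i with hPi
  -- antitone
  have hanti : ∀ b a, a ≤ b → b ≤ r + 1 → W4c2invhilbsl2.nN p q m c b ≤ W4c2invhilbsl2.nN p q m c a := by
    intro b
    induction b with
    | zero => intro a ha _; rw [show a = 0 by omega]
    | succ b ih =>
      intro a ha hb
      rcases Nat.eq_or_lt_of_le ha with h | h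
      · rw [h]
      · exact le_trans (hC b (by omega)).le (ih a (by omega) (by omega))
  have hN0 : 0 ≤ N := by
    have := hanti (r + 1) i (by omega) le_rfl
    rw [hDr1] at this; exact this
  have hNR : N < R := by
    have h1 := hanti i 1 hi (by omega)
    have h2 := hC 0 (by omega)
    rw [hD0] at h2
    simp only [zero_add] at h2
    linarith
  have hEL : E - Lv = (m : ℤ) * Pv := by
    simp only [hE, hLv, W4c2invhilbsl2.eE, W4c2invhilbsl2.lL, hPi]; push_cast; ring
  have hNdef : N = R * Lv - (p : ℤ) * m * Pv := by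
    have : N = -(p : ℤ) * E + (q : ℤ) * Lv := rfl
    rw [this, hR]
    have : E = Lv + (m : ℤ) * Pv := by linarith
    rw [this]; ring
  have hPi1 : 1 ≤ Pv := by
    have hmono := H7_hjP_mono c hc.1
    have : ∀ j, 1 ≤ j → j ≤ r + 1 → 1 ≤ W4c2invhilbsl2.hjP c j := by
      intro j hj1
      induction j with
      | zero => omega
      | succ j ih =>
        intro hj
        rcases Nat.eq_zero_or_pos j with h0 | h0
        · subst h0; simp [W4c2invhilbsl2.hjP]
        · have := ih (by omega) (by omega)
          have := (hmono j (by omega)).2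
          linarith
    exact this i hi (by omega)
  have hpm0 : (0 : ℤ) ≤ (p : ℤ) * m := by positivity
  have hLv0 : 0 ≤ Lv := by
    by_contra h
    push Not at h
    have h1 : R * Lv ≤ R * (-1) := mul_le_mul_of_nonneg_left (by linarith) hRpos.le
    have h2 : 0 ≤ (p : ℤ) * m * Pv := mul_nonneg hpm0 (by linarith)
    linarith
  have hE0 : 0 ≤ E := by
    have : 0 ≤ (m : ℤ) * Pv := mul_nonneg (by positivity) (by linarith)
    linarith
  set w := W4c2invhilbsl2.wt3 p q m with hw
  have hw0 : w 0 = ((1 : ℤ), (0 : ZMod m)) := rfl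
  have hw1 : w 1 = (-(p : ℤ), (-1 : ZMod m)) := rfl
  have hw2 : w 2 = ((q : ℤ), (1 : ZMod m)) := rfl
  set W0 := MvPolynomial.weightedHomogeneousSubmodule k w 0 with hW0
  let PP : MvPolynomial (Fin 3) k → Prop := fun f => ∃ a b : MvPolynomial (Fin 3) k,
    a ∈ W0 ∧ b ∈ W0 ∧ f = a * MvPolynomial.X (0 : Fin 3) ^ N.toNat +
      b * (MvPolynomial.X (1 : Fin 3) ^ E.toNat * MvPolynomial.X (2 : Fin 3) ^ Lv.toNat)
  have hzero : PP 0 := ⟨0, 0, W0.zero_mem, W0.zero_mem, by simp⟩
  have hadd : ∀ f g, PP f → PP g → PP (f + g) := by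
    rintro f g ⟨a, b, ha, hb, rfl⟩ ⟨a', b', ha', hb', rfl⟩
    exact ⟨a + a', b + b', W0.add_mem ha ha', W0.add_mem hb hb', by ring⟩
  have hNnat : ((N.toNat : ℕ) : ℤ) = N := Int.toNat_of_nonneg hN0
  have hEnat : ((E.toNat : ℕ) : ℤ) = E := Int.toNat_of_nonneg hE0
  have hLnat : ((Lv.toNat : ℕ) : ℤ) = Lv := Int.toNat_of_nonneg hLv0
  have hmono : ∀ d : Fin 3 →₀ ℕ, Finsupp.weight w d = (N, (0 : ZMod m)) →
      ∀ rr : k, PP (MvPolynomial.monomial d rr) := by
    intro d hd rr
    have hfst : (d 0 : ℤ) - (p : ℤ) * d 1 + (q : ℤ) * d 2 = N := by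
      have h := congrArg Prod.fst hd
      rw [Finsupp.weight_eq_sum, Fin.sum_univ_three, hw0, hw1, hw2] at h
      simp only [Prod.fst_add, Prod.smul_fst] at h
      simp only [nsmul_eq_mul, mul_one, mul_neg] at h
      linarith
    have hsnd : (m : ℤ) ∣ (d 1 : ℤ) - d 2 := by
      have h := congrArg Prod.snd hd
      rw [Finsupp.weight_eq_sum, Fin.sum_univ_three, hw0, hw1, hw2] at h
      simp only [Prod.snd_add, Prod.smul_snd] at h
      simp only [nsmul_eq_mul, mul_one, mul_neg, mul_zero, zero_add] at h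
      rw [← ZMod.intCast_zmod_eq_zero_iff_dvd]
      push_cast
      rw [← neg_eq_zero]
      rw [← h]; ring
    by_cases hcase : N.toNat ≤ d 0
    · set d' := d - Finsupp.single 0 N.toNat with hd'
      have hdd : d = d' + Finsupp.single 0 N.toNat := by
        ext j
        simp only [hd', Finsupp.coe_add, Finsupp.coe_tsub, Pi.add_apply, Pi.sub_apply,
          Finsupp.single_apply]
        split_ifs with h
        · subst h; omega
        · omega
      have hwd' : Finsupp.weight w d' = 0 := by
        have h1 : Finsupp.weight w d' + Finsupp.weight w (Finsupp.single 0 N.toNat) =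
            (N, (0 : ZMod m)) := by rw [← map_add, ← hdd, hd]
        have h2 : Finsupp.weight w (Finsupp.single (0 : Fin 3) N.toNat) = (N, (0 : ZMod m)) := by
          rw [Finsupp.weight_single, hw0]
          ext
          · simp [hNnat]
          · simp
        rw [h2] at h1
        exact add_eq_right.mp h1
      refine ⟨MvPolynomial.monomial d' rr, 0,
        MvPolynomial.isWeightedHomogeneous_monomial w d' rr hwd', W0.zero_mem, ?_⟩
      rw [zero_mul, add_zero, ← MvPolynomial.monomial_add_single, ← hdd]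
    · push Not at hcase
      have hd0N : (d 0 : ℤ) < N := by
        rw [← hNnat]; exact_mod_cast hcase
      obtain ⟨u, hu⟩ := hsnd
      have hd0eq : (d 0 : ℤ) = N + (p : ℤ) * m * u - R * d 2 := by
        have : (d 1 : ℤ) = d 2 + m * u := by linarith
        rw [hR]; rw [this] at hfst; linarith
      have hd0nn : (0 : ℤ) ≤ d 0 := Int.natCast_nonneg _
      have hd2nn : (0 : ℤ) ≤ d 2 := Int.natCast_nonneg _
      have hd1nn : (0 : ℤ) ≤ d 1 := Int.natCast_nonneg _
      have hmpos : (0 : ℤ) < m := by exact_mod_cast hm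
      have hu1 : 1 ≤ u := by
        by_contra h
        push Not at h
        have hu0 : u ≤ 0 := by omega
        have h1 : (p : ℤ) * m * u ≤ 0 := mul_nonpos_of_nonneg_of_nonpos hpm0 hu0
        rcases Nat.eq_zero_or_pos (d 2) with h2 | h2
        · rw [h2] at hd0eq hu
          push_cast at hd0eq hu
          have h3 : (m : ℤ) * u ≤ 0 := mul_nonpos_of_nonneg_of_nonpos hmpos.le hu0
          have h4 : (m : ℤ) * u = 0 := by linarith
          have h5 : u = 0 := by
            rcases mul_eq_zero.mp h4 with h | h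
            · exact absurd h hmpos.ne'
            · exact h
          rw [h5] at hd0eq
          linarith
        · have h3 : (1 : ℤ) ≤ d 2 := by exact_mod_cast h2
          have h4 : R * 1 ≤ R * d 2 := mul_le_mul_of_nonneg_left h3 hRpos.le
          linarith
      have huP : Pv ≤ u := by
        by_contra h
        push Not at h
        have hi1 : 1 < i := by
          by_contra h'
          have : i = 1 := by omega
          rw [hPi, this] at h
          simp [W4c2invhilbsl2.hjP] at h
          omega
        have h1 := hS33 i hi1 hir u (by omega) h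
        have h2 : Int.emod ((p : ℤ) * m * u + N) R = d 0 := by
          show ((p : ℤ) * m * u + N) % R = d 0
          have : (p : ℤ) * m * u + N = d 0 + R * d 2 := by linarith
          rw [this, Int.add_mul_emod_self_left]
          exact Int.emod_eq_of_lt hd0nn (by linarith)
        rw [← hN, h2] at h1
        have h3 : 0 ≤ Int.emod ((p : ℤ) * m * u) R := Int.emod_nonneg _ hRpos.ne'
        linarith
      have hd2L : Lv ≤ d 2 := by
        have h1 : (p : ℤ) * m * Pv ≤ (p : ℤ) * m * u := mul_le_mul_of_nonneg_left huP hpm0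
        have h2 : R * (Lv - 1) < R * d 2 := by linarith
        have h3 : Lv - 1 < d 2 := lt_of_mul_lt_mul_left h2 hRpos.le
        linarith
      have hd1E : E ≤ d 1 := by
        have h1 : (m : ℤ) * Pv ≤ (m : ℤ) * u := mul_le_mul_of_nonneg_left huP hmpos.le
        linarith
      have hd1E' : E.toNat ≤ d 1 := by
        have : ((E.toNat : ℕ) : ℤ) ≤ d 1 := by rw [hEnat]; exact hd1E
        exact_mod_cast this
      have hd2L' : Lv.toNat ≤ d 2 := by
        have : ((Lv.toNat : ℕ) : ℤ) ≤ d 2 := by rw [hLnat]; exact hd2L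
        exact_mod_cast this
      set d' := d - (Finsupp.single 1 E.toNat + Finsupp.single 2 Lv.toNat) with hd'
      have hdd : d = d' + Finsupp.single 1 E.toNat + Finsupp.single 2 Lv.toNat := by
        ext j
        simp only [hd', Finsupp.coe_add, Finsupp.coe_tsub, Pi.add_apply, Pi.sub_apply,
          Finsupp.single_apply]
        fin_cases j <;> simp <;> omega
      have hwd' : Finsupp.weight w d' = 0 := by
        have h1 : Finsupp.weight w d' + (Finsupp.weight w (Finsupp.single 1 E.toNat) +
            Finsupp.weight w (Finsupp.single 2 Lv.toNat)) = (N, (0 : ZMod m)) := by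
          rw [← map_add, ← map_add, ← add_assoc, ← hdd, hd]
        have h2 : Finsupp.weight w (Finsupp.single (1 : Fin 3) E.toNat) +
            Finsupp.weight w (Finsupp.single (2 : Fin 3) Lv.toNat) = (N, (0 : ZMod m)) := by
          rw [Finsupp.weight_single, Finsupp.weight_single, hw1, hw2]
          ext
          · simp only [Prod.fst_add, Prod.smul_fst]
            simp only [nsmul_eq_mul, hEnat, hLnat]
            show E * -(p : ℤ) + Lv * (q : ℤ) = N
            have : N = -(p : ℤ) * E + (q : ℤ) * Lv := rfl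
            rw [this]; ring
          · simp only [Prod.snd_add, Prod.smul_snd]
            simp only [nsmul_eq_mul, mul_neg, mul_one]
            have h3 : ((E.toNat : ℕ) : ZMod m) = ((E : ℤ) : ZMod m) := by
              rw [← hEnat]; push_cast; rfl
            have h4 : ((Lv.toNat : ℕ) : ZMod m) = ((Lv : ℤ) : ZMod m) := by
              rw [← hLnat]; push_cast; rfl
            rw [h3, h4]
            have h5 : ((Lv - E : ℤ) : ZMod m) = 0 := by
              rw [ZMod.intCast_zmod_eq_zero_iff_dvd]
              exact ⟨-Pv, by linarith⟩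
            push_cast at h5
            rw [← h5]; ring
        rw [h2] at h1
        exact add_eq_right.mp h1
      refine ⟨0, MvPolynomial.monomial d' rr, W0.zero_mem,
        MvPolynomial.isWeightedHomogeneous_monomial w d' rr hwd', ?_⟩
      rw [zero_mul, zero_add, hdd, MvPolynomial.monomial_add_single,
        MvPolynomial.monomial_add_single, mul_assoc]
  have hfP : PP f := by
    rw [← MvPolynomial.support_sum_monomial_coeff f]
    apply Finset.sum_induction _ PP hadd hzero
    intro d hd
    apply hmono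
    exact hf (MvPolynomial.mem_support_iff.mp hd)
  exact hfP

end Groth.Agent.S15729
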