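import Groth.Statements.S15732
import Mathlib
import Groth.Agent.Lib.helper7.Wt
import Groth.Agent.Lib.helper7.HJ3

set_option autoImplicit false
universe u
open W4c2invhilbsl2

namespace Groth.Agent.S15732

/-- Let 0 < p < q be coprime integers and m ≥ 1 such that q − p does not divide m; put g = gcd(m, q−p),
b = (q−p)/g, α = ⌊mp/(q−p)⌋, β = the remainder of mp modulo q−p and t = (q−p−β)/g, so that 1 ≤ t <
b, and let b/t = c₁ − 1/(c₂ − 1/(⋯ − 1/c_r)) be the negative-regular (Hirzebruch–Jung) continued
fraction expansion with every cᵢ ≥ 2; set P₀ = 0, P₁ = 1, Q₀ = −1, Q₁ = 0, Pᵢ = cᵢ₋₁Pᵢ₋₁ − Pᵢ₋₂, Qᵢ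
= cᵢ₋₁Qᵢ₋₁ − Qᵢ₋₂ for 2 ≤ i ≤ r+1, and eᵢ = (α+1+m)Pᵢ − Qᵢ, lᵢ = (α+1)Pᵢ − Qᵢ, nᵢ = q·lᵢ − p·eᵢ,
which are non-negative integers for 0 ≤ i ≤ r+1. Grade the polynomial ring k[X₀,…,X₄] over a field k
by ℤ × ℤ/m, giving X₀ weight (1,0), X₁ and X₂ weight (−p,−1), and X₃ and X₄ weight (q,1). Then for
every 1 ≤ i ≤ r, modulo the principal ideal generated by the weight-zero element X₀^(q−p) − X₁X₄ +
X₂X₃, every polynomial homogeneous of weight (nᵢ, 0) is congruent to a combination a₀·X₀^(nᵢ) + Σ
a_{e,l}·X₁^(eᵢ−e)X₂^e X₃^(lᵢ−l)X₄^l (sum over 0 ≤ e ≤ eᵢ, 0 ≤ l ≤ lᵢ) whose coefficients a₀, a_{e,l}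
are homogeneous of weight zero. Equivalently, in the coordinate ring of the hypersurface the
weight-(nᵢ,0) piece is generated over the weight-zero subring (the invariant ring) by X₀^(nᵢ)
together with the products of a degree-eᵢ monomial in X₁, X₂ and a degree-lᵢ monomial in X₃, X₄.
(The published statement is over the complex numbers; this row takes any field.) -/
theorem result (k : Type u) [Field k] (p q m : ℕ) (hp : 0 < p) (hpq : p < q) (hcop : Nat.Coprime p q) (hm : 0 < m) (hnt : ¬ (q - p ∣ m)) (c : List ℤ) (hc : W4c2invhilbsl2.IsHJDigits p q m c) (i : ℕ) (hi : 1 ≤ i) (hir : i ≤ c.length)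
    (f : MvPolynomial (Fin 5) k) (hf : f ∈ MvPolynomial.weightedHomogeneousSubmodule k (W4c2invhilbsl2.wt5 p q m) (W4c2invhilbsl2.nN p q m c i, (0 : ZMod m))) :
    ∃ (a₀ : MvPolynomial (Fin 5) k) (a : ℕ → ℕ → MvPolynomial (Fin 5) k),
      a₀ ∈ MvPolynomial.weightedHomogeneousSubmodule k (W4c2invhilbsl2.wt5 p q m) 0 ∧ (∀ e l : ℕ, a e l ∈ MvPolynomial.weightedHomogeneousSubmodule k (W4c2invhilbsl2.wt5 p q m) 0) ∧
      f - (a₀ * MvPolynomial.X (0 : Fin 5) ^ (W4c2invhilbsl2.nN p q m c i).toNat +
          ∑ e ∈ Finset.range ((W4c2invhilbsl2.eE p q m c i).toNat + 1), ∑ l ∈ Finset.range ((W4c2invhilbsl2.lL p q m c i).toNat + 1),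
            a e l * (MvPolynomial.X (1 : Fin 5) ^ ((W4c2invhilbsl2.eE p q m c i).toNat - e) * MvPolynomial.X (2 : Fin 5) ^ e *
              MvPolynomial.X (3 : Fin 5) ^ ((W4c2invhilbsl2.lL p q m c i).toNat - l) * MvPolynomial.X (4 : Fin 5) ^ l)) ∈
        Ideal.span {MvPolynomial.X (0 : Fin 5) ^ (q - p) - MvPolynomial.X 1 * MvPolynomial.X 4 + MvPolynomial.X 2 * MvPolynomial.X 3} := by
  classical
  open Groth.Agent.Lib.helper7 in
  obtain ⟨hN0, hE0, hL0, hmEL, hclaim⟩ := H7_expo_claim p q m hp hpq hcop hm hnt c hc i hi hir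
  set w := W4c2invhilbsl2.wt5 p q m with hw
  set N := W4c2invhilbsl2.nN p q m c i with hN
  set E := W4c2invhilbsl2.eE p q m c i with hE
  set Lv := W4c2invhilbsl2.lL p q m c i with hLv
  set En := E.toNat with hEn
  set Ln := Lv.toNat with hLn
  have hNnat : ((N.toNat : ℕ) : ℤ) = N := Int.toNat_of_nonneg hN0
  have hEnat : ((En : ℕ) : ℤ) = E := Int.toNat_of_nonneg hE0
  have hLnat : ((Ln : ℕ) : ℤ) = Lv := Int.toNat_of_nonneg hL0
  have hNdef : N = -(p : ℤ) * E + (q : ℤ) * Lv := rfl
  have hν : (N, (0 : ZMod m)) = (N, ((0 : ℤ) : ZMod m)) := by simp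
  set W0 := MvPolynomial.weightedHomogeneousSubmodule k w 0 with hW0
  set F5 : MvPolynomial (Fin 5) k := MvPolynomial.X (0 : Fin 5) ^ (q - p) -
    MvPolynomial.X 1 * MvPolynomial.X 4 + MvPolynomial.X 2 * MvPolynomial.X 3 with hF5
  let mon : ℕ → ℕ → MvPolynomial (Fin 5) k := fun e l =>
    MvPolynomial.X (1 : Fin 5) ^ (En - e) * MvPolynomial.X (2 : Fin 5) ^ e *
      MvPolynomial.X (3 : Fin 5) ^ (Ln - l) * MvPolynomial.X (4 : Fin 5) ^ l
  let PP : MvPolynomial (Fin 5) k → Prop := fun f =>
    ∃ (a₀ : MvPolynomial (Fin 5) k) (a : ℕ → ℕ → MvPolynomial (Fin 5) k),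
      a₀ ∈ W0 ∧ (∀ e l : ℕ, a e l ∈ W0) ∧
      f - (a₀ * MvPolynomial.X (0 : Fin 5) ^ N.toNat +
          ∑ e ∈ Finset.range (En + 1), ∑ l ∈ Finset.range (Ln + 1), a e l * mon e l) ∈
        Ideal.span {F5}
  have hPP : PP f := by
    apply H7_wh_induction w _ PP ?_ ?_ ?_ f hf
    · exact ⟨0, fun _ _ => 0, W0.zero_mem, fun _ _ => W0.zero_mem, by simp⟩
    · rintro f g ⟨a₀, a, ha₀, ha, h1⟩ ⟨b₀, b, hb₀, hb, h2⟩
      refine ⟨a₀ + b₀, fun e l => a e l + b e l, W0.add_mem ha₀ hb₀,
        fun e l => W0.add_mem (ha e l) (hb e l), ?_⟩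
      have := Ideal.add_mem _ h1 h2
      convert this using 1
      simp only [add_mul, Finset.sum_add_distrib]
      ring
    · intro d hd rr
      have hd' := hd
      rw [hν, H7_wt5_eq_iff] at hd'
      obtain ⟨hfst, hsnd⟩ := hd'
      have hcl := hclaim (d 0) (d 1 + d 2) (d 3 + d 4) (by push_cast; linarith)
        (by
          obtain ⟨u, hu⟩ := hsnd
          exact ⟨-u, by push_cast; linarith⟩)
      rcases hcl with hcase | ⟨hE1, hL1⟩
      · have hd0 : N.toNat ≤ d 0 := by
          have : ((N.toNat : ℕ) : ℤ) ≤ d 0 := by rw [hNnat]; exact hcase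
          exact_mod_cast this
        have hle : Finsupp.single 0 N.toNat ≤ d := Finsupp.single_le_iff.mpr hd0
        refine ⟨MvPolynomial.monomial (d - Finsupp.single 0 N.toNat) rr, fun _ _ => 0, ?_,
          fun _ _ => W0.zero_mem, ?_⟩
        · apply MvPolynomial.isWeightedHomogeneous_monomial
          rw [H7_weight_sub w d _ hle, hd, Finsupp.weight_single]
          show (N, (0 : ZMod m)) - N.toNat • ((1 : ℤ), (0 : ZMod m)) = 0
          ext
          · simp [hNnat]
          · simp
        · have : MvPolynomial.monomial d rr =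
              MvPolynomial.monomial (d - Finsupp.single 0 N.toNat) rr *
                MvPolynomial.X (0 : Fin 5) ^ N.toNat := by
            rw [MvPolynomial.X_pow_eq_monomial]
            exact H7_monomial_sub_mul d _ hle rr
          rw [this]
          simp
      · have hE1' : En ≤ d 1 + d 2 := by
          have : ((En : ℕ) : ℤ) ≤ ((d 1 + d 2 : ℕ) : ℤ) := by rw [hEnat]; exact hE1
          exact_mod_cast this
        have hL1' : Ln ≤ d 3 + d 4 := by
          have : ((Ln : ℕ) : ℤ) ≤ ((d 3 + d 4 : ℕ) : ℤ) := by rw [hLnat]; exact hL1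
          exact_mod_cast this
        set ee := min (d 2) En with hee
        set ll := min (d 4) Ln with hll
        have hee1 : ee ≤ En := min_le_right _ _
        have hee2 : ee ≤ d 2 := min_le_left _ _
        have hll1 : ll ≤ Ln := min_le_right _ _
        have hll2 : ll ≤ d 4 := min_le_left _ _
        have hee3 : En - ee ≤ d 1 := by
          rcases le_total (d 2) En with h | h
          · rw [hee, min_eq_left h]; omega
          · rw [hee, min_eq_right h]; omega
        have hll3 : Ln - ll ≤ d 3 := by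
          rcases le_total (d 4) Ln with h | h
          · rw [hll, min_eq_left h]; omega
          · rw [hll, min_eq_right h]; omega
        set v : Fin 5 →₀ ℕ := Finsupp.single 1 (En - ee) + Finsupp.single 2 ee +
          Finsupp.single 3 (Ln - ll) + Finsupp.single 4 ll with hv
        have hv0 : v 0 = 0 := by simp [hv]
        have hv1 : v 1 = En - ee := by simp [hv]
        have hv2 : v 2 = ee := by simp [hv]
        have hv3 : v 3 = Ln - ll := by simp [hv]
        have hv4 : v 4 = ll := by simp [hv]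
        have hle : v ≤ d := by
          intro j
          fin_cases j
          · show v 0 ≤ d 0
            rw [hv0]; exact Nat.zero_le _
          · show v 1 ≤ d 1
            rw [hv1]; exact hee3
          · show v 2 ≤ d 2
            rw [hv2]; exact hee2
          · show v 3 ≤ d 3
            rw [hv3]; exact hll3
          · show v 4 ≤ d 4
            rw [hv4]; exact hll2
        have hwv : Finsupp.weight w v = (N, (0 : ZMod m)) := by
          rw [hν, H7_wt5_eq_iff, hv0, hv1, hv2, hv3, hv4]
          have e1 : ((En - ee : ℕ) : ℤ) + (ee : ℤ) = E := by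
            rw [Nat.cast_sub hee1, hEnat]; ring
          have e2 : ((Ln - ll : ℕ) : ℤ) + (ll : ℤ) = Lv := by
            rw [Nat.cast_sub hll1, hLnat]; ring
          rw [e1, e2]
          refine ⟨by rw [hNdef]; push_cast; ring, ?_⟩
          simpa using hmEL
        have hmonv : MvPolynomial.monomial v (1 : k) = mon ee ll := by
          simp only [hv, mon]
          rw [MvPolynomial.monomial_add_single, MvPolynomial.monomial_add_single,
            MvPolynomial.monomial_add_single, ← MvPolynomial.X_pow_eq_monomial]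
        set M' := MvPolynomial.monomial (d - v) rr with hM'
        have hM'w : M' ∈ W0 := by
          apply MvPolynomial.isWeightedHomogeneous_monomial
          rw [H7_weight_sub w d _ hle, hd, hwv, sub_self]
        refine ⟨0, fun e' l' => if e' = ee ∧ l' = ll then M' else 0, W0.zero_mem, ?_, ?_⟩
        · intro e' l'
          show (if e' = ee ∧ l' = ll then M' else 0) ∈ W0
          split_ifs
          · exact hM'w
          · exact W0.zero_mem
        · have hsum : ∑ e ∈ Finset.range (En + 1), ∑ l ∈ Finset.range (Ln + 1),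
              (if e = ee ∧ l = ll then M' else 0) * mon e l = M' * mon ee ll := by
            rw [Finset.sum_eq_single ee]
            · rw [Finset.sum_eq_single ll]
              · simp
              · intro l' _ hl'
                simp [hl']
              · intro h
                exact absurd (Finset.mem_range.mpr (by omega)) h
            · intro e' _ he'
              apply Finset.sum_eq_zero
              intro l' _
              simp [he']
            · intro h
              exact absurd (Finset.mem_range.mpr (by omega)) h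
          rw [hsum, ← hmonv, ← H7_monomial_sub_mul d v hle rr]
          simp
  obtain ⟨a₀, a, ha₀, ha, hmem⟩ := hPP
  exact ⟨a₀, a, ha₀, ha, hmem⟩

end Groth.Agent.S15732
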