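import Groth.Statements.S15738
import Mathlib

set_option autoImplicit false
universe u
open W4c2invhilbsl2

namespace Groth.Agent.S15738

/-- Let k be a field and m ≥ 1; for a monomial X₀^d₀X₁^d₁X₂^d₂ of the polynomial ring in X₀, X₁, X₂ (X₂
standing for Xⱼ, j = 3 or 4, of the five-variable ring) put n = d₀ − p·d₁ + q·d₂ (its weight for the
torus diag(t, t^(−p), t^q)), c = d₁ − d₂ and ω = p·d₁ − q·d₂, so that d₀ = n + ω; here 0 < p < q are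
coprime integers. Take two monomials X₀^d₀X₁^d₁X₂^d₂ and X₀^e₀X₁^e₁X₂^e₂ with the same n and with
values c, c' of c congruent modulo m (so both lie in the same ℤ × ℤ/m-weight piece for the weights
(1,0), (−p,−1), (q,1)). Then: (i) if c = c', the difference of the two monomials lies in the
principal ideal (X₀^(q−p) − X₁X₂); (ii) if c' < c, the monomial X₀^d₀X₁^d₁X₂^d₂ lies in the ideal
(X₀^(q−p) − X₁X₂, X₀^(mp)X₁^m); (iii) in all cases the difference lies in the ideal (X₀^(q−p) −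
X₁X₂, 1 − X₀^(mp)X₁^m). -/
theorem result (k : Type u) [Field k] (p q m : ℕ) (hp : 0 < p) (hpq : p < q) (hcop : Nat.Coprime p q) (hm : 0 < m)
    (d0 d1 d2 e0 e1 e2 : ℕ) (hn : (e0 : ℤ) - (p : ℤ) * e1 + (q : ℤ) * e2 = (d0 : ℤ) - (p : ℤ) * d1 + (q : ℤ) * d2)
    (hc : (m : ℤ) ∣ ((d1 : ℤ) - d2) - ((e1 : ℤ) - e2)) :
    ((d1 : ℤ) - d2 = (e1 : ℤ) - e2 →
      (MvPolynomial.X (0 : Fin 3) ^ d0 * MvPolynomial.X (1 : Fin 3) ^ d1 * MvPolynomial.X (2 : Fin 3) ^ d2 - MvPolynomial.X (0 : Fin 3) ^ e0 * MvPolynomial.X (1 : Fin 3) ^ e1 * MvPolynomial.X (2 : Fin 3) ^ e2 : MvPolynomial (Fin 3) k) ∈ Ideal.span {MvPolynomial.X (0 : Fin 3) ^ (q - p) - MvPolynomial.X (1 : Fin 3) * MvPolynomial.X (2 : Fin 3)}) ∧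
    ((e1 : ℤ) - e2 < (d1 : ℤ) - d2 →
      (MvPolynomial.X (0 : Fin 3) ^ d0 * MvPolynomial.X (1 : Fin 3) ^ d1 * MvPolynomial.X (2 : Fin 3) ^ d2 : MvPolynomial (Fin 3) k) ∈ Ideal.span {MvPolynomial.X (0 : Fin 3) ^ (q - p) - MvPolynomial.X (1 : Fin 3) * MvPolynomial.X (2 : Fin 3), MvPolynomial.X (0 : Fin 3) ^ (m * p) * MvPolynomial.X (1 : Fin 3) ^ m}) ∧
    ((MvPolynomial.X (0 : Fin 3) ^ d0 * MvPolynomial.X (1 : Fin 3) ^ d1 * MvPolynomial.X (2 : Fin 3) ^ d2 - MvPolynomial.X (0 : Fin 3) ^ e0 * MvPolynomial.X (1 : Fin 3) ^ e1 * MvPolynomial.X (2 : Fin 3) ^ e2 : MvPolynomial (Fin 3) k) ∈ Ideal.span {MvPolynomial.X (0 : Fin 3) ^ (q - p) - MvPolynomial.X (1 : Fin 3) * MvPolynomial.X (2 : Fin 3), 1 - MvPolynomial.X (0 : Fin 3) ^ (m * p) * MvPolynomial.X (1 : Fin 3) ^ m}) := by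
  obtain ⟨g, rfl⟩ := Nat.exists_eq_add_of_lt hpq
  have hsub : p + g + 1 - p = g + 1 := by omega
  rw [hsub]
  set X0 : MvPolynomial (Fin 3) k := MvPolynomial.X 0 with hX0
  set X1 : MvPolynomial (Fin 3) k := MvPolynomial.X 1 with hX1
  set X2 : MvPolynomial (Fin 3) k := MvPolynomial.X 2 with hX2
  set F : MvPolynomial (Fin 3) k := X0 ^ (g + 1) - X1 * X2 with hF
  set G : MvPolynomial (Fin 3) k := X0 ^ (m * p) * X1 ^ m with hG
  -- L1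
  have L1 : ∀ a0 a1 a2 t : ℕ, X0 ^ (a0 + (g + 1) * t) * X1 ^ a1 * X2 ^ a2 -
      X0 ^ a0 * X1 ^ (a1 + t) * X2 ^ (a2 + t) ∈ Ideal.span {F} := by
    intro a0 a1 a2 t
    rw [Ideal.mem_span_singleton]
    have h1 : F ∣ (X0 ^ (g + 1)) ^ t - (X1 * X2) ^ t := sub_dvd_pow_sub_pow _ _ t
    have e : X0 ^ (a0 + (g + 1) * t) * X1 ^ a1 * X2 ^ a2 -
        X0 ^ a0 * X1 ^ (a1 + t) * X2 ^ (a2 + t) =
        (X0 ^ a0 * X1 ^ a1 * X2 ^ a2) * ((X0 ^ (g + 1)) ^ t - (X1 * X2) ^ t) := by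
      rw [pow_add, pow_add, pow_add, pow_mul, mul_pow]; ring
    rw [e]
    exact Dvd.dvd.mul_left h1 _
  -- L2
  have L2 : ∀ a0 a1 a2 b0 b1 b2 : ℕ,
      (a0 : ℤ) - (p : ℤ) * a1 + ((p + g + 1 : ℕ) : ℤ) * a2 = (b0 : ℤ) - (p : ℤ) * b1 + ((p + g + 1 : ℕ) : ℤ) * b2 →
      (a1 : ℤ) - a2 = (b1 : ℤ) - b2 →
      X0 ^ a0 * X1 ^ a1 * X2 ^ a2 - X0 ^ b0 * X1 ^ b1 * X2 ^ b2 ∈ Ideal.span {F} := by
    intro a0 a1 a2 b0 b1 b2 h1 h2
    push_cast at h1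
    rcases le_total a1 b1 with hle | hle
    · obtain ⟨t, rfl⟩ := Nat.exists_eq_add_of_le hle
      have hb2 : b2 = a2 + t := by push_cast at h2; omega
      subst hb2
      have ha0 : a0 = b0 + (g + 1) * t := by
        push_cast at h1
        have : (a0 : ℤ) = b0 + (g + 1) * t := by linarith
        exact_mod_cast this
      subst ha0
      exact L1 b0 a1 a2 t
    · obtain ⟨t, rfl⟩ := Nat.exists_eq_add_of_le hle
      have ha2 : a2 = b2 + t := by push_cast at h2; omega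
      subst ha2
      have hb0 : b0 = a0 + (g + 1) * t := by
        push_cast at h1
        have : (b0 : ℤ) = a0 + (g + 1) * t := by linarith
        exact_mod_cast this
      subst hb0
      have := L1 a0 b1 b2 t
      rw [← Ideal.neg_mem_iff] at this
      rwa [neg_sub] at this
  have hsp1 : Ideal.span {F} ≤ Ideal.span {F, G} := Ideal.span_mono (by simp)
  have hsp2 : Ideal.span {F} ≤ Ideal.span {F, 1 - G} := Ideal.span_mono (by simp)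
  have hG2 : G ∈ Ideal.span {F, G} := Ideal.subset_span (by simp)
  have hG3 : 1 - G ∈ Ideal.span {F, 1 - G} := Ideal.subset_span (by simp)
  -- L3: d ≡ e * G^s mod F when c - c' = m s
  have L3 : ∀ a0 a1 a2 b0 b1 b2 s : ℕ,
      (a0 : ℤ) - (p : ℤ) * a1 + ((p + g + 1 : ℕ) : ℤ) * a2 = (b0 : ℤ) - (p : ℤ) * b1 + ((p + g + 1 : ℕ) : ℤ) * b2 →
      ((a1 : ℤ) - a2) - ((b1 : ℤ) - b2) = (m : ℤ) * s →
      X0 ^ a0 * X1 ^ a1 * X2 ^ a2 - X0 ^ b0 * X1 ^ b1 * X2 ^ b2 * G ^ s ∈ Ideal.span {F} := by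
    intro a0 a1 a2 b0 b1 b2 s h1 h2
    have e : X0 ^ b0 * X1 ^ b1 * X2 ^ b2 * G ^ s =
        X0 ^ (b0 + m * p * s) * X1 ^ (b1 + m * s) * X2 ^ b2 := by
      rw [hG, mul_pow, ← pow_mul, ← pow_mul, pow_add, pow_add]; ring
    rw [e]
    apply L2
    · push_cast at h1 ⊢; linarith
    · push_cast; linarith
  refine ⟨?_, ?_, ?_⟩
  · intro h
    exact L2 d0 d1 d2 e0 e1 e2 hn.symm h
  · intro hlt
    obtain ⟨s', hs'⟩ := hc
    have hs'pos : 0 < s' := by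
      have hmpos : (0 : ℤ) < m := by exact_mod_cast hm
      by_contra hneg
      push Not at hneg
      have : (m : ℤ) * s' ≤ 0 := mul_nonpos_of_nonneg_of_nonpos hmpos.le hneg
      linarith
    obtain ⟨s, rfl⟩ := Int.eq_ofNat_of_zero_le hs'pos.le
    have hs1 : 1 ≤ s := by exact_mod_cast hs'pos
    have h3 := hsp1 (L3 d0 d1 d2 e0 e1 e2 s hn.symm hs')
    have h4 : X0 ^ e0 * X1 ^ e1 * X2 ^ e2 * G ^ s ∈ Ideal.span {F, G} := by
      obtain ⟨s0, rfl⟩ := Nat.exists_eq_add_of_le hs1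
      rw [pow_add, pow_one, ← mul_assoc]
      exact Ideal.mul_mem_right _ _ (Ideal.mul_mem_left _ _ hG2)
    have := Ideal.add_mem _ h3 h4
    rwa [sub_add_cancel] at this
  · obtain ⟨s', hs'⟩ := hc
    have hGs : ∀ s : ℕ, G ^ s - 1 ∈ Ideal.span {F, 1 - G} := by
      intro s
      have h1 : G - 1 ∣ G ^ s - 1 := by
        have := sub_dvd_pow_sub_pow G 1 s
        rwa [one_pow] at this
      have h2 : G - 1 ∈ Ideal.span {F, 1 - G} := by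
        have := (Ideal.neg_mem_iff _).mpr hG3
        rwa [neg_sub] at this
      obtain ⟨w, hw⟩ := h1
      rw [hw]
      exact Ideal.mul_mem_right _ _ h2
    rcases le_total 0 s' with hpos | hneg
    · obtain ⟨s, rfl⟩ := Int.eq_ofNat_of_zero_le hpos
      have h3 := hsp2 (L3 d0 d1 d2 e0 e1 e2 s hn.symm hs')
      have h4 : X0 ^ e0 * X1 ^ e1 * X2 ^ e2 * (G ^ s - 1) ∈ Ideal.span {F, 1 - G} :=
        Ideal.mul_mem_left _ _ (hGs s)
      have := Ideal.add_mem _ h3 h4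
      have e : X0 ^ d0 * X1 ^ d1 * X2 ^ d2 - X0 ^ e0 * X1 ^ e1 * X2 ^ e2 * G ^ s +
          X0 ^ e0 * X1 ^ e1 * X2 ^ e2 * (G ^ s - 1) =
          X0 ^ d0 * X1 ^ d1 * X2 ^ d2 - X0 ^ e0 * X1 ^ e1 * X2 ^ e2 := by ring
      rwa [e] at this
    · obtain ⟨s, hs⟩ := Int.eq_ofNat_of_zero_le (neg_nonneg.mpr hneg)
      have hs'' : ((e1 : ℤ) - e2) - ((d1 : ℤ) - d2) = (m : ℤ) * s := by
        rw [← hs]; linarith
      have h3 := hsp2 (L3 e0 e1 e2 d0 d1 d2 s hn hs'')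
      have h4 : X0 ^ d0 * X1 ^ d1 * X2 ^ d2 * (G ^ s - 1) ∈ Ideal.span {F, 1 - G} :=
        Ideal.mul_mem_left _ _ (hGs s)
      have := Ideal.add_mem _ h3 h4
      have e : X0 ^ e0 * X1 ^ e1 * X2 ^ e2 - X0 ^ d0 * X1 ^ d1 * X2 ^ d2 * G ^ s +
          X0 ^ d0 * X1 ^ d1 * X2 ^ d2 * (G ^ s - 1) =
          -(X0 ^ d0 * X1 ^ d1 * X2 ^ d2 - X0 ^ e0 * X1 ^ e1 * X2 ^ e2) := by ring
      rw [e] at this
      exact (Ideal.neg_mem_iff _).mp this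

end Groth.Agent.S15738
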