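import Groth.Statements.S15739
import Mathlib

set_option autoImplicit false
universe u
open W4c2invhilbsl2

namespace Groth.Agent.S15739

/-- Let k be a field and m ≥ 1, put g = gcd(m, q−p), a = m/g and b = (q−p)/g; for a monomial
X₀^d₀X₁^d₁X₂^d₂ of the polynomial ring in X₀, X₁, X₂ (X₂ standing for Xⱼ, j = 3 or 4, of the
five-variable ring) put n = d₀ − p·d₁ + q·d₂ (its weight for the torus diag(t, t^(−p), t^q)), c = d₁
− d₂ and ω = p·d₁ − q·d₂, so that d₀ = n + ω; here 0 < p < q are coprime integers. Take two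
monomials X₀^d₀X₁^d₁X₂^d₂ and X₀^e₀X₁^e₁X₂^e₂ with the same n, where 0 ≤ n < q − p, whose values c
and c' of c are both divisible by m, and with d₀ < g and e₀ < g (so each has the least ω for its
pair (n, c), as g ≤ q − p). Then: (i) d₀ = e₀, i.e. the two values of ω agree, and m·b divides c −
c'; (ii) if c < c', then X₀^e₀X₁^e₁X₂^e₂ is a multiple of X₀^d₀X₁^d₁X₂^d₂ · X₁^(aq)X₂^(ap); (iii)
the difference of the two monomials lies in the principal ideal (1 − X₁^(aq)X₂^(ap)). -/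
theorem result (k : Type u) [Field k] (p q m : ℕ) (hp : 0 < p) (hpq : p < q) (hcop : Nat.Coprime p q) (hm : 0 < m)
    (d0 d1 d2 e0 e1 e2 : ℕ) (hn : (e0 : ℤ) - (p : ℤ) * e1 + (q : ℤ) * e2 = (d0 : ℤ) - (p : ℤ) * d1 + (q : ℤ) * d2)
    (hn0 : 0 ≤ (d0 : ℤ) - (p : ℤ) * d1 + (q : ℤ) * d2) (hnq : (d0 : ℤ) - (p : ℤ) * d1 + (q : ℤ) * d2 < (q : ℤ) - p)
    (hcd : (m : ℤ) ∣ (d1 : ℤ) - d2) (hce : (m : ℤ) ∣ (e1 : ℤ) - e2)
    (hd0 : d0 < Nat.gcd m (q - p)) (he0 : e0 < Nat.gcd m (q - p)) :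
    (d0 = e0 ∧ ((m : ℤ) * ((q - p) / Nat.gcd m (q - p) : ℕ)) ∣ ((d1 : ℤ) - d2) - ((e1 : ℤ) - e2)) ∧
    ((d1 : ℤ) - d2 < (e1 : ℤ) - e2 →
      (MvPolynomial.X (0 : Fin 3) ^ d0 * MvPolynomial.X (1 : Fin 3) ^ d1 * MvPolynomial.X (2 : Fin 3) ^ d2 * (MvPolynomial.X (1 : Fin 3) ^ (m / Nat.gcd m (q - p) * q) * MvPolynomial.X (2 : Fin 3) ^ (m / Nat.gcd m (q - p) * p)) : MvPolynomial (Fin 3) k) ∣ MvPolynomial.X (0 : Fin 3) ^ e0 * MvPolynomial.X (1 : Fin 3) ^ e1 * MvPolynomial.X (2 : Fin 3) ^ e2) ∧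
    ((MvPolynomial.X (0 : Fin 3) ^ e0 * MvPolynomial.X (1 : Fin 3) ^ e1 * MvPolynomial.X (2 : Fin 3) ^ e2 - MvPolynomial.X (0 : Fin 3) ^ d0 * MvPolynomial.X (1 : Fin 3) ^ d1 * MvPolynomial.X (2 : Fin 3) ^ d2 : MvPolynomial (Fin 3) k) ∈
      Ideal.span {(1 : MvPolynomial (Fin 3) k) - MvPolynomial.X (1 : Fin 3) ^ (m / Nat.gcd m (q - p) * q) * MvPolynomial.X (2 : Fin 3) ^ (m / Nat.gcd m (q - p) * p)}) := by
  obtain ⟨g0, rfl⟩ := Nat.exists_eq_add_of_lt hpq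
  have hsub : p + g0 + 1 - p = g0 + 1 := by omega
  rw [hsub] at hd0 he0 ⊢
  set gg := Nat.gcd m (g0 + 1) with hgg
  have hggpos : 0 < gg := Nat.gcd_pos_of_pos_left _ hm
  set a := m / gg with ha
  set b := (g0 + 1) / gg with hb
  have hma : m = gg * a := (Nat.mul_div_cancel' (Nat.gcd_dvd_left m (g0 + 1))).symm
  have hrb : g0 + 1 = gg * b := (Nat.mul_div_cancel' (Nat.gcd_dvd_right m (g0 + 1))).symm
  have hcopab : Nat.Coprime a b := Nat.coprime_div_gcd_div_gcd hggpos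
  have hcoppr : Nat.Coprime p (g0 + 1) := by
    have : Nat.Coprime p (p + (g0 + 1)) := by rwa [← add_assoc]
    exact Nat.coprime_self_add_right.mp this
  -- integer versions
  have hMA : (m : ℤ) = (gg : ℤ) * a := by exact_mod_cast hma
  have hRB : ((g0 : ℤ) + 1) = (gg : ℤ) * b := by exact_mod_cast hrb
  have hGGpos : (0 : ℤ) < gg := by exact_mod_cast hggpos
  have hbpos : 0 < b := by
    rcases Nat.eq_zero_or_pos b with h0 | h0
    · rw [h0, mul_zero] at hrb; omega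
    · exact h0
  have hapos : 0 < a := by
    rcases Nat.eq_zero_or_pos a with h0 | h0
    · rw [h0, mul_zero] at hma; omega
    · exact h0
  have hBpos : (0 : ℤ) < b := by exact_mod_cast hbpos
  have hApos : (0 : ℤ) < a := by exact_mod_cast hapos
  push_cast at hn hn0 hnq
  -- Step 1
  have hGGM : (gg : ℤ) ∣ (m : ℤ) := ⟨a, hMA⟩
  have hGGR : (gg : ℤ) ∣ ((g0 : ℤ) + 1) := ⟨b, hRB⟩
  have h1 : (gg : ℤ) ∣ (d0 : ℤ) - e0 := by
    have e : (d0 : ℤ) - e0 = (p : ℤ) * (((d1 : ℤ) - d2) - ((e1 : ℤ) - e2)) +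
        ((g0 : ℤ) + 1) * ((e2 : ℤ) - d2) := by linarith
    rw [e]
    exact dvd_add (Dvd.dvd.mul_left (dvd_sub (hGGM.trans hcd) (hGGM.trans hce)) _)
      (Dvd.dvd.mul_right hGGR _)
  have hde : d0 = e0 := by
    have h2 : ((d0 : ℤ) - e0).natAbs < (gg : ℤ).natAbs := by
      rw [Int.natAbs_natCast]; omega
    have := Int.eq_zero_of_dvd_of_natAbs_lt_natAbs h1 h2
    omega
  subst hde
  -- Step 2
  set Δ : ℤ := ((e1 : ℤ) - e2) - ((d1 : ℤ) - d2) with hΔ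
  have h3 : (p : ℤ) * Δ = ((g0 : ℤ) + 1) * ((e2 : ℤ) - d2) := by rw [hΔ]; linarith
  have hRΔ : ((g0 : ℤ) + 1) ∣ Δ := by
    have hd : ((g0 : ℤ) + 1) ∣ (p : ℤ) * Δ := ⟨_, h3⟩
    apply Int.dvd_of_dvd_mul_right_of_gcd_one hd
    have : Int.gcd ((g0 + 1 : ℕ) : ℤ) (p : ℤ) = 1 := by
      rw [Int.gcd_natCast_natCast]; exact hcoppr.symm
    simpa using this
  have hMΔ : (m : ℤ) ∣ Δ := dvd_sub hce hcd
  obtain ⟨u, hu⟩ := hMΔ
  obtain ⟨w, hw⟩ := hRΔ
  have h4 : (a : ℤ) * u = (b : ℤ) * w := by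
    have : (gg : ℤ) * ((a : ℤ) * u) = (gg : ℤ) * ((b : ℤ) * w) := by
      rw [← mul_assoc, ← mul_assoc, ← hMA, ← hRB, ← hu, ← hw]
    exact mul_left_cancel₀ hGGpos.ne' this
  have hbu : (b : ℤ) ∣ u := by
    have hd : (b : ℤ) ∣ (a : ℤ) * u := ⟨w, h4⟩
    apply Int.dvd_of_dvd_mul_right_of_gcd_one hd
    rw [Int.gcd_natCast_natCast]; exact hcopab.symm
  obtain ⟨s, hs⟩ := hbu
  have hΔs : Δ = (m : ℤ) * b * s := by rw [hu, hs]; ring
  -- Step 3
  have hE2 : (e2 : ℤ) - d2 = (p : ℤ) * a * s := by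
    have : ((g0 : ℤ) + 1) * ((e2 : ℤ) - d2) = ((g0 : ℤ) + 1) * ((p : ℤ) * a * s) := by
      rw [← h3, hΔs, hMA, hRB]; ring
    exact mul_left_cancel₀ (by positivity) this
  have hE1 : (e1 : ℤ) - d1 = (a : ℤ) * ((p : ℤ) + g0 + 1) * s := by
    have : (e1 : ℤ) - d1 = Δ + ((e2 : ℤ) - d2) := by rw [hΔ]; ring
    rw [this, hΔs, hE2, hMA]
    have : (gg : ℤ) * a * b * s = a * ((g0 : ℤ) + 1) * s := by rw [hRB]; ring
    rw [this]; ring
  set X0 : MvPolynomial (Fin 3) k := MvPolynomial.X 0 with hX0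
  set X1 : MvPolynomial (Fin 3) k := MvPolynomial.X 1 with hX1
  set X2 : MvPolynomial (Fin 3) k := MvPolynomial.X 2 with hX2
  set H : MvPolynomial (Fin 3) k := X1 ^ (a * (p + g0 + 1)) * X2 ^ (a * p) with hH
  have hH1 : ∀ t : ℕ, (1 - H) ∣ (H ^ t - 1) := by
    intro t
    have h := sub_dvd_pow_sub_pow H 1 t
    rw [one_pow] at h
    have : (1 - H) ∣ (H - 1) := ⟨-1, by ring⟩
    exact this.trans h
  refine ⟨⟨rfl, ?_⟩, ?_, ?_⟩
  · have : ((d1 : ℤ) - d2) - ((e1 : ℤ) - e2) = -Δ := by rw [hΔ]; ring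
    rw [this, dvd_neg]
    exact ⟨s, hΔs⟩
  · intro hlt
    have hΔpos : 0 < Δ := by rw [hΔ]; linarith
    have hspos : 0 < s := by
      by_contra hneg
      push Not at hneg
      have : (m : ℤ) * b * s ≤ 0 :=
        mul_nonpos_of_nonneg_of_nonpos (by positivity) hneg
      linarith
    obtain ⟨s0, rfl⟩ := Int.eq_ofNat_of_zero_le hspos.le
    have hs1 : 1 ≤ s0 := by exact_mod_cast hspos
    have he1 : e1 = d1 + a * (p + g0 + 1) * s0 := by
      have : (e1 : ℤ) = d1 + (a : ℤ) * ((p : ℤ) + g0 + 1) * s0 := by linarith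
      exact_mod_cast this
    have he2 : e2 = d2 + a * p * s0 := by
      have : (e2 : ℤ) = d2 + (a : ℤ) * p * s0 := by linarith
      exact_mod_cast this
    obtain ⟨s1, rfl⟩ := Nat.exists_eq_add_of_le hs1
    refine ⟨H ^ s1, ?_⟩
    rw [he1, he2, hH]
    simp only [mul_pow, ← pow_mul, pow_add, mul_add, mul_one]
    ring
  · rcases le_total 0 s with hpos | hneg
    · obtain ⟨s0, rfl⟩ := Int.eq_ofNat_of_zero_le hpos
      have he1 : e1 = d1 + a * (p + g0 + 1) * s0 := by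
        have : (e1 : ℤ) = d1 + (a : ℤ) * ((p : ℤ) + g0 + 1) * s0 := by linarith
        exact_mod_cast this
      have he2 : e2 = d2 + a * p * s0 := by
        have : (e2 : ℤ) = d2 + (a : ℤ) * p * s0 := by linarith
        exact_mod_cast this
      rw [Ideal.mem_span_singleton]
      have e : X0 ^ d0 * X1 ^ e1 * X2 ^ e2 - X0 ^ d0 * X1 ^ d1 * X2 ^ d2 =
          (X0 ^ d0 * X1 ^ d1 * X2 ^ d2) * (H ^ s0 - 1) := by
        rw [he1, he2, hH]
        simp only [mul_pow, ← pow_mul, pow_add]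
        ring
      rw [e]
      exact Dvd.dvd.mul_left (hH1 s0) _
    · obtain ⟨s0, hs0⟩ := Int.eq_ofNat_of_zero_le (neg_nonneg.mpr hneg)
      have hss : s = -(s0 : ℤ) := by linarith
      have hd1 : d1 = e1 + a * (p + g0 + 1) * s0 := by
        have : (d1 : ℤ) = e1 + (a : ℤ) * ((p : ℤ) + g0 + 1) * s0 := by rw [hss] at hE1; linarith
        exact_mod_cast this
      have hd2 : d2 = e2 + a * p * s0 := by
        have : (d2 : ℤ) = e2 + (a : ℤ) * p * s0 := by rw [hss] at hE2; linarith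
        exact_mod_cast this
      rw [Ideal.mem_span_singleton]
      have e : X0 ^ d0 * X1 ^ e1 * X2 ^ e2 - X0 ^ d0 * X1 ^ d1 * X2 ^ d2 =
          (X0 ^ d0 * X1 ^ e1 * X2 ^ e2) * (-(H ^ s0 - 1)) := by
        rw [hd1, hd2, hH]
        simp only [mul_pow, ← pow_mul, pow_add]
        ring
      rw [e]
      exact Dvd.dvd.mul_left ((hH1 s0).trans (dvd_neg.mpr dvd_rfl)) _

end Groth.Agent.S15739
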