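import Groth.Statements.S15740
import Mathlib

set_option autoImplicit false
open W4c2invhilbsl2

namespace Groth.Agent.S15740

/-- For a monomial X₀^d₀X₁^d₁X₂^d₂ of the polynomial ring in X₀, X₁, X₂ (X₂ standing for Xⱼ, j = 3 or 4,
of the five-variable ring) put n = d₀ − p·d₁ + q·d₂ (its weight for the torus diag(t, t^(−p), t^q)),
c = d₁ − d₂ and ω = p·d₁ − q·d₂, so that d₀ = n + ω; here 0 < p < q are coprime integers. Suppose n
≥ 0, c > 0 and d₀ < q − p (the last condition says that ω is the least value of ω for the pair (n,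
c)). Then ω ≥ 0 if and only if the remainder of p·c on division by q − p, plus n, is less than q −
p. -/
theorem result (p q : ℕ) (hp : 0 < p) (hpq : p < q) (hcop : Nat.Coprime p q) (d0 d1 d2 : ℕ)
    (hn : 0 ≤ (d0 : ℤ) - (p : ℤ) * d1 + (q : ℤ) * d2) (hc : (d2 : ℤ) < d1) (hd0 : d0 < q - p) :
    0 ≤ (p : ℤ) * d1 - (q : ℤ) * d2 ↔
      Int.emod ((p : ℤ) * ((d1 : ℤ) - d2)) ((q : ℤ) - p) + ((d0 : ℤ) - (p : ℤ) * d1 + (q : ℤ) * d2) < (q : ℤ) - p := by
  have hd0' : (d0 : ℤ) < (q : ℤ) - p := by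
    have : d0 + p < q := by omega
    have : ((d0 + p : ℕ) : ℤ) < q := by exact_mod_cast this
    push_cast at this
    linarith
  have hd0n : (0 : ℤ) ≤ d0 := Int.natCast_nonneg _
  have hG : (0 : ℤ) < (q : ℤ) - p := by
    have : (p : ℤ) < q := by exact_mod_cast hpq
    linarith
  have hX := Int.emod_add_mul_ediv ((p : ℤ) * ((d1 : ℤ) - d2)) ((q : ℤ) - p)
  have hr0 := Int.emod_nonneg ((p : ℤ) * ((d1 : ℤ) - d2)) (ne_of_gt hG)
  have hr1 := Int.emod_lt_of_pos ((p : ℤ) * ((d1 : ℤ) - d2)) hG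
  change ((p : ℤ) * ((d1 : ℤ) - d2)) % ((q : ℤ) - p) + ((q : ℤ) - p) * ((p : ℤ) * ((d1 : ℤ) - d2) / ((q : ℤ) - p)) = _ at hX
  change 0 ≤ (p : ℤ) * d1 - (q : ℤ) * d2 ↔ ((p : ℤ) * ((d1 : ℤ) - d2)) % ((q : ℤ) - p) + ((d0 : ℤ) - (p : ℤ) * d1 + (q : ℤ) * d2) < (q : ℤ) - p
  generalize ((p : ℤ) * ((d1 : ℤ) - d2)) % ((q : ℤ) - p) = r at *
  generalize ((p : ℤ) * ((d1 : ℤ) - d2)) / ((q : ℤ) - p) = k at *
  generalize hGdef : (q : ℤ) - p = G at *
  have hq : (q : ℤ) = p + G := by linarith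
  have hω : (p : ℤ) * d1 - (q : ℤ) * d2 = r + G * (k - d2) := by
    rw [hq]; linarith
  have hn' : (d0 : ℤ) - (p : ℤ) * d1 + (q : ℤ) * d2 = d0 - (r + G * (k - d2)) := by
    rw [← hω]; ring
  rw [hω, hn']
  constructor
  · intro h
    have hk : 0 ≤ k - d2 := by
      by_contra hcon
      push Not at hcon
      have : k - d2 ≤ -1 := by linarith
      nlinarith
    nlinarith
  · intro h
    have hk : 0 ≤ k - d2 := by
      by_contra hcon
      push Not at hcon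
      have : k - d2 ≤ -1 := by linarith
      nlinarith
    nlinarith

end Groth.Agent.S15740
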