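import Groth.Statements.S15771
import Mathlib

set_option autoImplicit false
universe u
open TensorProduct
open CAlg

namespace Groth.Agent.S15771

/-- For a ring map B₀ → B with dense image into a topological ring B, a finitely generated B₀-module M₀
and any topological B-module structure on M = B ⊗_{B₀} M₀, the natural map M₀ → M has dense image. -/
theorem result (B₀ B : Type u) [CommRing B₀] [CommRing B] [Algebra B₀ B]
    [TopologicalSpace B] [IsTopologicalRing B] (hφ : DenseRange (algebraMap B₀ B))
    (M₀ : Type u) [AddCommGroup M₀] [Module B₀ M₀] [Module.Finite B₀ M₀]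
    [TopologicalSpace (B ⊗[B₀] M₀)] [IsTopologicalAddGroup (B ⊗[B₀] M₀)] [ContinuousSMul B (B ⊗[B₀] M₀)] :
    DenseRange (fun m : M₀ => (1 : B) ⊗ₜ[B₀] m) := by
  classical
  obtain ⟨n, sgen, hsgen⟩ := Module.Finite.exists_fin (R := B₀) (M := M₀)
  let F : (Fin n → B) → B ⊗[B₀] M₀ := fun b => ∑ i, b i • ((1 : B) ⊗ₜ[B₀] sgen i)
  have hFcont : Continuous F := by
    apply continuous_finsetSum
    intro i _
    show Continuous (fun b : Fin n → B => b i • ((1 : B) ⊗ₜ[B₀] sgen i))
    have h1 : Continuous (fun b : Fin n → B => b i) := continuous_apply i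
    have h2 : Continuous (fun _ : Fin n → B => ((1 : B) ⊗ₜ[B₀] sgen i)) := continuous_const
    exact Continuous.smul h1 h2
  have hFadd : ∀ x y, F (x + y) = F x + F y := by
    intro x y
    simp only [F, Pi.add_apply, add_smul, Finset.sum_add_distrib]
  have hFsurj : Function.Surjective F := by
    intro t
    induction t using TensorProduct.induction_on with
    | zero => exact ⟨0, by simp [F]⟩
    | tmul b m =>
      have hm : m ∈ Submodule.span B₀ (Set.range sgen) := by rw [hsgen]; trivial
      obtain ⟨c, rfl⟩ := (Submodule.mem_span_range_iff_exists_fun B₀).mp hm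
      refine ⟨fun i => b * algebraMap B₀ B (c i), ?_⟩
      simp only [F]
      rw [TensorProduct.tmul_sum]
      apply Finset.sum_congr rfl
      intro i _
      rw [TensorProduct.tmul_smul, TensorProduct.smul_tmul', TensorProduct.smul_tmul',
        smul_eq_mul, mul_one, Algebra.smul_def, mul_comm]
    | add x y hx hy =>
      obtain ⟨a, rfl⟩ := hx
      obtain ⟨b, rfl⟩ := hy
      exact ⟨a + b, hFadd a b⟩
  have hG : DenseRange (Pi.map (fun _ : Fin n => (algebraMap B₀ B : B₀ → B))) :=
    DenseRange.piMap (fun _ => hφ)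
  have hFG : DenseRange (F ∘ Pi.map (fun _ : Fin n => (algebraMap B₀ B : B₀ → B))) :=
    DenseRange.comp hFsurj.denseRange hG hFcont
  refine Dense.mono ?_ hFG
  rintro _ ⟨c, rfl⟩
  refine ⟨∑ i, c i • sgen i, ?_⟩
  simp only [F, Function.comp_apply, Pi.map_apply]
  rw [TensorProduct.tmul_sum]
  apply Finset.sum_congr rfl
  intro i _
  rw [TensorProduct.tmul_smul, TensorProduct.smul_tmul', TensorProduct.smul_tmul',
    smul_eq_mul, mul_one, Algebra.smul_def, mul_one]

end Groth.Agent.S15771
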