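import Groth.Statements.S15811
import Mathlib

set_option autoImplicit false
universe u
open WildQuot

namespace Groth.Agent.S15811

/-- Let `R` be an integrally closed domain of prime characteristic `p` with fraction field `K`, and `α ∈
R`. Then `α ≠ 0` and the polynomial `T ^ p - α T` splits into linear factors over `K` — which says
that the finite flat group scheme `Spec R[T]/(T ^ p - α T)` of order `p` has constant generic fibre
(its `p` roots are then distinct) — if and only if `α = a ^ (p-1)` for some nonzero `a ∈ R`. (The
published statement is that the generic fibre of the finite flat group scheme of order `p` with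
parameters `α, β` satisfying `α β = 0`, whose underlying scheme is `Spec R[T]/(T ^ p - α T)`, is
constant if and only if `β = 0` and `α` is the `(p-1)`-th power of a nonzero element of `R`; this
row states the polynomial condition, in which `α ≠ 0` already forces `β = 0` over a domain.) -/
theorem result
    (p : ℕ) [Fact p.Prime] (R : Type u) [CommRing R] [IsDomain R] [IsIntegrallyClosed R]
    [CharP R p] (α : R) :
    (α ≠ 0 ∧ (Polynomial.map (algebraMap R (FractionRing R))
        (Polynomial.X ^ p - Polynomial.C α * Polynomial.X)).Splits) ↔
      ∃ a : R, a ≠ 0 ∧ α = a ^ (p - 1) := by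
  classical
  have hp := (Fact.out : p.Prime)
  haveI : CharP (FractionRing R) p :=
    charP_of_injective_algebraMap (IsFractionRing.injective R (FractionRing R)) p
  have hinj := IsFractionRing.injective R (FractionRing R)
  have hmap : ∀ β : R, Polynomial.map (algebraMap R (FractionRing R))
        (Polynomial.X ^ p - Polynomial.C β * Polynomial.X) =
        Polynomial.X ^ p - Polynomial.C (algebraMap R (FractionRing R) β) * Polynomial.X := by
    intro β
    simp
  have hdeg : ∀ b : FractionRing R, (Polynomial.X ^ p - Polynomial.C b * Polynomial.X : Polynomial (FractionRing R)).natDegree = p := by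
    intro b
    apply Polynomial.natDegree_eq_of_degree_eq_some
    rw [Polynomial.degree_sub_eq_left_of_degree_lt]
    · exact Polynomial.degree_X_pow p
    · rw [Polynomial.degree_X_pow]
      exact lt_of_le_of_lt (Polynomial.degree_C_mul_X_le b) (by exact_mod_cast hp.one_lt)
  constructor
  · rintro ⟨hα, hsplit⟩
    rw [hmap] at hsplit
    set a' := algebraMap R (FractionRing R) α with ha'
    have ha'0 : a' ≠ 0 := by
      rw [ha', Ne, map_eq_zero_iff _ hinj]; exact hα
    have hfac : (Polynomial.X ^ p - Polynomial.C a' * Polynomial.X : Polynomial (FractionRing R)) =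
        Polynomial.X * (Polynomial.X ^ (p - 1) - Polynomial.C a') := by
      rw [← pow_sub_one_mul hp.ne_zero (Polynomial.X : Polynomial (FractionRing R))]
      ring
    have hne : (Polynomial.X ^ p - Polynomial.C a' * Polynomial.X : Polynomial (FractionRing R)) ≠ 0 := by
      intro h0
      have := hdeg a'
      rw [h0, Polynomial.natDegree_zero] at this
      exact hp.ne_zero this.symm
    have hs2 : (Polynomial.X ^ (p - 1) - Polynomial.C a' : Polynomial (FractionRing R)).Splits :=
      Polynomial.Splits.of_dvd hsplit hne ⟨Polynomial.X, by rw [hfac]; ring⟩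
    have hdeg2 : (Polynomial.X ^ (p - 1) - Polynomial.C a' : Polynomial (FractionRing R)).degree ≠ 0 := by
      rw [Polynomial.degree_X_pow_sub_C (by have := hp.one_lt; omega)]
      have := hp.one_lt
      intro h
      have : ((p - 1 : ℕ) : WithBot ℕ) = ((0 : ℕ) : WithBot ℕ) := h
      have := Nat.cast_injective (R := WithBot ℕ) this
      omega
    obtain ⟨b, hb⟩ := hs2.exists_eval_eq_zero hdeg2
    simp only [Polynomial.eval_sub, Polynomial.eval_pow, Polynomial.eval_X, Polynomial.eval_C] at hb
    have hb' : b ^ (p - 1) = a' := sub_eq_zero.mp hb
    have hb0 : b ≠ 0 := by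
      intro h0
      rw [h0, zero_pow (by have := hp.one_lt; omega)] at hb'
      exact ha'0 hb'.symm
    have hint : IsIntegral R b := by
      refine ⟨Polynomial.X ^ (p - 1) - Polynomial.C α, Polynomial.monic_X_pow_sub_C α (by have := hp.one_lt; omega), ?_⟩
      simp [hb', ha']
    obtain ⟨a, rfl⟩ := IsIntegrallyClosed.isIntegral_iff.mp hint
    refine ⟨a, ?_, ?_⟩
    · intro h0; apply hb0; rw [h0, map_zero]
    · apply hinj
      rw [map_pow, hb']
  · rintro ⟨a, ha0, rfl⟩
    refine ⟨pow_ne_zero _ ha0, ?_⟩
    rw [hmap, Polynomial.splits_iff_card_roots, hdeg]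
    set a' := algebraMap R (FractionRing R) a with ha'
    have ha'0 : a' ≠ 0 := by
      rw [ha', Ne, map_eq_zero_iff _ hinj]; exact ha0
    set f : Polynomial (FractionRing R) := Polynomial.X ^ p - Polynomial.C (algebraMap R (FractionRing R) (a ^ (p - 1))) * Polynomial.X with hf
    have hf0 : f ≠ 0 := by
      intro h0
      have := hdeg (algebraMap R (FractionRing R) (a ^ (p - 1)))
      rw [← hf, h0, Polynomial.natDegree_zero] at this
      exact hp.ne_zero this.symm
    have hroot : ∀ c : ℕ, ((c : FractionRing R) * a') ∈ f.roots := by
      intro c
      rw [Polynomial.mem_roots hf0, Polynomial.IsRoot.def, hf]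
      simp only [Polynomial.eval_sub, Polynomial.eval_pow, Polynomial.eval_X, Polynomial.eval_mul, Polynomial.eval_C, map_pow]
      have hc : (c : FractionRing R) ^ p = c := by
        have := map_natCast (frobenius (FractionRing R) p) c
        rwa [frobenius_def] at this
      rw [mul_pow, hc, ← ha', ← pow_sub_one_mul hp.ne_zero a']
      ring
    have hinjc : Set.InjOn (fun c : ℕ => (c : FractionRing R) * a') (Finset.range p) := by
      intro c hc d hd hcd
      have h1 : (c : FractionRing R) = d := mul_right_cancel₀ ha'0 hcd
      have hc' : c < p := Finset.mem_range.mp hc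
      have hd' : d < p := Finset.mem_range.mp hd
      have := (CharP.natCast_eq_natCast (FractionRing R) p).mp h1
      exact Nat.ModEq.eq_of_lt_of_lt this hc' hd'
    have hsub : (Finset.range p).image (fun c : ℕ => (c : FractionRing R) * a') ⊆ f.roots.toFinset := by
      intro x hx
      obtain ⟨c, _, rfl⟩ := Finset.mem_image.mp hx
      exact Multiset.mem_toFinset.mpr (hroot c)
    have h1 : p ≤ f.roots.toFinset.card := by
      calc p = ((Finset.range p).image (fun c : ℕ => (c : FractionRing R) * a')).card := by
            rw [Finset.card_image_of_injOn hinjc, Finset.card_range]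
        _ ≤ _ := Finset.card_le_card hsub
    have h2 : f.roots.toFinset.card ≤ f.roots.card := Multiset.toFinset_card_le _
    have h3 : f.roots.card ≤ p := (Polynomial.card_roots' f).trans (le_of_eq (hdeg _))
    omega

end Groth.Agent.S15811
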