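import Groth.Statements.S15821
import Mathlib
import Groth.Agent.S2423
import Groth.Agent.S11917

set_option autoImplicit false
universe u
open CategoryTheory
open Koszul

namespace Groth.Agent.S15821


open CategoryTheory CategoryTheory.Limits Opposite


open CategoryTheory CategoryTheory.Limits

lemma koszul_eq (A : Type u) [CommRing A] : ∀ l : List A,
    Koszul.koszul A l = CohIII.koszulCx (ModuleCat.of A A) l
  | [] => rfl
  | f :: l => by
    show CochainComplex.mappingCone (f • 𝟙 (Koszul.koszul A l)) =
      CochainComplex.mappingCone (f • 𝟙 (CohIII.koszulCx (ModuleCat.of A A) l))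
    rw [koszul_eq A l]

lemma isZero_homology_of_eq {A : Type u} [CommRing A] {K K' : CochainComplex (ModuleCat.{u} A) ℤ}
    (h : K = K') (i : ℤ) (hz : IsZero (K'.homology i)) : IsZero (K.homology i) := by
  subst h; exact hz

noncomputable def homology_iso_of_eq {A : Type u} [CommRing A] {K K' : CochainComplex (ModuleCat.{u} A) ℤ}
    (h : K = K') (i : ℤ) : K.homology i ≅ K'.homology i := by
  subst h; exact Iso.refl _

theorem main (A : Type u) [CommRing A] (l : List A)
    (hl : RingTheory.Sequence.IsWeaklyRegular A l) :
    LCI.IsKoszulRegularSeq A l ∧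
      Nonempty ((Koszul.koszul A l).homology 0 ≅ ModuleCat.of A (A ⧸ Ideal.ofList l)) := by
  constructor
  · intro i hi
    exact isZero_homology_of_eq (koszul_eq A l) i (Groth.Agent.S2423.main' l A hl i hi)
  · obtain ⟨e⟩ := Groth.Agent.S11917.homology_equiv _ _ (Groth.Agent.S11917.good_koszul A l)
    have h : Ideal.ofList l • (⊤ : Submodule A A) = Ideal.ofList l := by
      simp
    exact ⟨homology_iso_of_eq (koszul_eq A l) 0 ≪≫ (e ≪≫ₗ Submodule.quotEquivOfEq _ _ h).toModuleIso⟩

/-- Let A be a commutative ring and f = (f_1, …, f_r) a sequence in A which is regular in the weak sense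
(f_1 is a non-zero-divisor of A and each f_i is a non-zero-divisor of A/(f_1, …, f_{i-1}); no
condition A/(f) ≠ 0). Then the Koszul complex K(f) (iterated mapping-cone model, degrees -r, …, 0)
has vanishing cohomology in all nonzero degrees, i.e. f is Koszul-regular, and its cohomology in
degree 0 is isomorphic as an A-module to A/(f_1, …, f_r) (existence of an A-linear isomorphism):
K(f) is a free resolution of A/(f). -/
theorem result (A : Type u) [CommRing A] (l : List A)
    (hl : RingTheory.Sequence.IsWeaklyRegular A l) :
    LCI.IsKoszulRegularSeq A l ∧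
      Nonempty ((Koszul.koszul A l).homology 0 ≅ ModuleCat.of A (A ⧸ Ideal.ofList l)) := by
  exact main A l hl

end Groth.Agent.S15821
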