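import Groth.Statements.S15815
import Mathlib
import Groth.Agent.S2423
import Groth.Agent.S15821

set_option autoImplicit false
universe u
open CategoryTheory
open Koszul

namespace Groth.Agent.S15815


open CategoryTheory CategoryTheory.Limits Opposite


open CategoryTheory CategoryTheory.Limits CochainComplex HomComplex Pointwise

noncomputable section
section
variable {A : Type u} [CommRing A] (x : A)

/-- Termwise isomorphisms identifying the differential of `K'` with `x` times that of `K`. -/
structure ScIso (K' K : CochainComplex (ModuleCat.{u} A) ℤ) where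
  e : ∀ n, K'.X n ≅ K.X n
  comm : ∀ i j, (e i).hom ≫ (x • K.d i j) = K'.d i j ≫ (e j).hom

variable {x}
variable {K' K : CochainComplex (ModuleCat.{u} A) ℤ} (s : ScIso x K' K) (f : A)

def EHom (n : ℤ) : (mappingCone ((x * f) • 𝟙 K')).X n ⟶ (mappingCone (f • 𝟙 K)).X n :=
  (mappingCone.fst ((x * f) • 𝟙 K')).1.v n (n+1) rfl ≫ (s.e (n+1)).hom ≫
      (mappingCone.inl (f • 𝟙 K)).v (n+1) n (by omega) +
    (mappingCone.snd ((x * f) • 𝟙 K')).v n n (add_zero n) ≫ (s.e n).hom ≫
      (mappingCone.inr (f • 𝟙 K)).f n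

def EInv (n : ℤ) : (mappingCone (f • 𝟙 K)).X n ⟶ (mappingCone ((x * f) • 𝟙 K')).X n :=
  (mappingCone.fst (f • 𝟙 K)).1.v n (n+1) rfl ≫ (s.e (n+1)).inv ≫
      (mappingCone.inl ((x * f) • 𝟙 K')).v (n+1) n (by omega) +
    (mappingCone.snd (f • 𝟙 K)).v n n (add_zero n) ≫ (s.e n).inv ≫
      (mappingCone.inr ((x * f) • 𝟙 K')).f n

lemma inl_EHom (n : ℤ) :
    (mappingCone.inl ((x * f) • 𝟙 K')).v (n+1) n (by omega) ≫ EHom s f n =
      (s.e (n+1)).hom ≫ (mappingCone.inl (f • 𝟙 K)).v (n+1) n (by omega) := by
  simp [EHom]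

lemma inl_EHom' (p n : ℤ) (h : n + 1 = p) :
    (mappingCone.inl ((x * f) • 𝟙 K')).v p n (by omega) ≫ EHom s f n =
      (s.e p).hom ≫ (mappingCone.inl (f • 𝟙 K)).v p n (by omega) := by
  subst h
  exact inl_EHom s f n

lemma inr_EHom (n : ℤ) :
    (mappingCone.inr ((x * f) • 𝟙 K')).f n ≫ EHom s f n =
      (s.e n).hom ≫ (mappingCone.inr (f • 𝟙 K)).f n := by
  simp [EHom]

lemma inl_EInv (n : ℤ) :
    (mappingCone.inl (f • 𝟙 K)).v (n+1) n (by omega) ≫ EInv s f n =
      (s.e (n+1)).inv ≫ (mappingCone.inl ((x * f) • 𝟙 K')).v (n+1) n (by omega) := by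
  simp [EInv]

lemma inr_EInv (n : ℤ) :
    (mappingCone.inr (f • 𝟙 K)).f n ≫ EInv s f n =
      (s.e n).inv ≫ (mappingCone.inr ((x * f) • 𝟙 K')).f n := by
  simp [EInv]

def EIso (n : ℤ) : (mappingCone ((x * f) • 𝟙 K')).X n ≅ (mappingCone (f • 𝟙 K)).X n where
  hom := EHom s f n
  inv := EInv s f n
  hom_inv_id := by
    apply mappingCone.ext_from _ (n+1) n rfl
    · rw [reassoc_of% (inl_EHom s f n), inl_EInv]; simp
    · rw [reassoc_of% (inr_EHom s f n), inr_EInv]; simp
  inv_hom_id := by
    apply mappingCone.ext_from _ (n+1) n rfl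
    · rw [reassoc_of% (inl_EInv s f n), inl_EHom]; simp
    · rw [reassoc_of% (inr_EInv s f n), inr_EHom]; simp

def ScIso.cone : ScIso x (mappingCone ((x * f) • 𝟙 K')) (mappingCone (f • 𝟙 K)) where
  e := EIso s f
  comm i j := by
    by_cases hij : i + 1 = j
    · subst hij
      apply mappingCone.ext_from _ (i+1) i rfl
      · show _ ≫ EHom s f i ≫ _ = _ ≫ _ ≫ EHom s f (i+1)
        rw [reassoc_of% (inl_EHom s f i), Linear.comp_smul, Linear.comp_smul,
          mappingCone.inl_v_d (f • 𝟙 K) (i+1) i (i+2) (by omega) (by omega),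
          mappingCone.inl_v_d_assoc ((x * f) • 𝟙 K') (i+1) i (i+2) (by omega) (by omega)]
        rw [Preadditive.sub_comp, Category.assoc, Category.assoc, inr_EHom,
          inl_EHom' s f (i+2) (i+1) (by omega), Preadditive.comp_sub, smul_sub]
        have := s.comm (i+1) (i+2)
        rw [Linear.comp_smul] at this
        simp only [HomologicalComplex.smul_f_apply, HomologicalComplex.id_f, Linear.smul_comp,
          Category.id_comp, Linear.comp_smul, mul_smul]
        congr 1
        rw [← reassoc_of% this]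
        simp
      · show _ ≫ EHom s f i ≫ _ = _ ≫ _ ≫ EHom s f (i+1)
        rw [reassoc_of% (inr_EHom s f i), Linear.comp_smul, Linear.comp_smul,
          mappingCone.inr_f_d, mappingCone.inr_f_d_assoc, inr_EHom]
        have := s.comm i (i+1)
        rw [Linear.comp_smul] at this
        rw [← Category.assoc, ← Linear.smul_comp, this, Category.assoc]
    · have h1 : (mappingCone (f • 𝟙 K)).d i j = 0 := HomologicalComplex.shape _ _ _ hij
      have h2 : (mappingCone ((x * f) • 𝟙 K')).d i j = 0 := HomologicalComplex.shape _ _ _ hij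
      rw [h1, h2, smul_zero, comp_zero, zero_comp]

def scBase : ScIso x (Koszul.koszul A []) (Koszul.koszul A []) where
  e n := Iso.refl _
  comm i j := by
    have : (Koszul.koszul A []).d i j = 0 := HomologicalComplex.single_obj_d _ _ _ _ _
    rw [this]; simp

def scKoszul : ∀ l : List A, ScIso x (Koszul.koszul A (l.map (fun f => x * f))) (Koszul.koszul A l)
  | [] => scBase
  | f :: l => (scKoszul l).cone f

lemma ScIso.comm_apply (s : ScIso x K' K) (i j : ℤ) (z : K'.X i) :
    (s.e j).hom.hom ((K'.d i j).hom z) = x • (K.d i j).hom ((s.e i).hom.hom z) := by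
  have := congrArg (fun g => g.hom z) (s.comm i j)
  simp only [ModuleCat.hom_comp, LinearMap.coe_comp, Function.comp_apply, ModuleCat.hom_smul,
    LinearMap.smul_apply] at this
  exact this.symm

lemma homology_of_scIso (s : ScIso x K' K) (q : ℤ) (hreg : IsSMulRegular (K.X (q+1)) x) :
    Nonempty (K'.homology q ≅ ModuleCat.of A (↥(LinearMap.ker (K.d q (q+1)).hom) ⧸
      Submodule.comap (LinearMap.ker (K.d q (q+1)).hom).subtype
        (Ideal.span {x} • LinearMap.range (K.d (q-1) q).hom))) := by
  let S := K'.sc' (q-1) q (q+1)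
  let i1 : K'.homology q ≅ S.homology := K'.homologyIsoSc' (q-1) q (q+1) (by simp) (by simp)
  let i2 := S.moduleCatHomologyIso
  let eq : K'.X q ≃ₗ[A] K.X q := (s.e q).toLinearEquiv
  have heq : ∀ z, eq z = (s.e q).hom.hom z := fun z => rfl
  have hmap : (LinearMap.ker S.g.hom).map eq.toLinearMap = LinearMap.ker (K.d q (q+1)).hom := by
    ext y
    simp only [Submodule.mem_map, LinearMap.mem_ker, LinearEquiv.coe_coe]
    constructor
    · rintro ⟨z, hz, rfl⟩
      have h1 := s.comm_apply q (q+1) z
      have hz' : (K'.d q (q+1)).hom z = 0 := hz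
      rw [hz', map_zero] at h1
      apply hreg
      show x • _ = x • 0
      rw [smul_zero, heq]
      exact h1.symm
    · intro hy
      refine ⟨eq.symm y, ?_, by simp⟩
      show (K'.d q (q+1)).hom (eq.symm y) = 0
      have h1 := s.comm_apply q (q+1) (eq.symm y)
      rw [← heq, LinearEquiv.apply_symm_apply, hy, smul_zero] at h1
      have hinj : Function.Injective (s.e (q+1)).hom.hom :=
        (ModuleCat.mono_iff_injective _).1 inferInstance
      apply hinj
      rw [h1, map_zero]
  let f := LinearEquiv.ofSubmodules eq _ _ hmap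
  have hf : (LinearMap.range S.moduleCatToCycles).map f.toLinearMap =
      Submodule.comap (LinearMap.ker (K.d q (q+1)).hom).subtype
        (Ideal.span {x} • LinearMap.range (K.d (q-1) q).hom) := by
    ext w
    simp only [Submodule.mem_map, LinearMap.mem_range, Submodule.mem_comap, Submodule.subtype_apply,
      Submodule.ideal_span_singleton_smul, LinearEquiv.coe_coe]
    rw [Submodule.mem_smul_pointwise_iff_exists]
    constructor
    · rintro ⟨_, ⟨a, rfl⟩, rfl⟩
      refine ⟨(K.d (q-1) q).hom ((s.e (q-1)).hom.hom a), ⟨_, rfl⟩, ?_⟩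
      have h1 := s.comm_apply (q-1) q a
      rw [← h1]
      rfl
    · rintro ⟨_, ⟨b, rfl⟩, hb⟩
      let a := (s.e (q-1)).inv.hom b
      have ha : (s.e (q-1)).hom.hom a = b := congrArg (fun g => g.hom b) (s.e (q-1)).inv_hom_id
      refine ⟨S.moduleCatToCycles a, ⟨a, rfl⟩, ?_⟩
      apply Subtype.ext
      rw [← hb, ← ha, ← s.comm_apply (q-1) q a]
      rfl
  exact ⟨i1 ≪≫ i2 ≪≫ (Submodule.Quotient.equiv _ _ f hf).toModuleIso⟩

end
end

theorem main (A : Type u) [CommRing A] (l : List A) (x : A)
    (hx : x ∈ nonZeroDivisors A) (q : ℤ) :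
    Nonempty ((Koszul.koszul A (l.map (fun f => x * f))).homology q ≅
      ModuleCat.of A (↥(LinearMap.ker ((Koszul.koszul A l).d q (q + 1)).hom) ⧸
        Submodule.comap (LinearMap.ker ((Koszul.koszul A l).d q (q + 1)).hom).subtype
          (Ideal.span {x} • LinearMap.range ((Koszul.koszul A l).d (q - 1) q).hom))) := by
  apply homology_of_scIso (scKoszul l) q
  have hA : IsSMulRegular A x := by
    intro a b hab
    have : x * (a - b) = 0 := by rw [mul_sub]; exact sub_eq_zero.2 hab
    have := (mem_nonZeroDivisors_iff.1 hx).1 _ this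
    exact sub_eq_zero.1 this
  have := Groth.Agent.S2423.reg_terms x (ModuleCat.of A A) hA l (q+1)
  rw [Groth.Agent.S15821.koszul_eq]
  exact this

/-- Let A be a commutative ring, f = (f_1, …, f_n) a finite sequence in A with Koszul complex K(f)
(cohomological, in degrees -n, …, 0) and differentials ∂^q : K(f)^q → K(f)^{q+1}, and let x be a
non-zero-divisor of A. Then for every integer q the q-th cohomology module of the Koszul complex of
the sequence (x f_1, …, x f_n) is isomorphic as an A-module to Ker(∂^q) / (x · Im(∂^{q-1})), the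
q-cocycles of K(f) modulo x times the q-coboundaries (existence of an A-linear isomorphism; the
Koszul complex is the iterated mapping-cone model). -/
theorem result (A : Type u) [CommRing A] (l : List A) (x : A)
    (hx : x ∈ nonZeroDivisors A) (q : ℤ) :
    Nonempty ((Koszul.koszul A (l.map (fun f => x * f))).homology q ≅
      ModuleCat.of A (↥(LinearMap.ker ((Koszul.koszul A l).d q (q + 1)).hom) ⧸
        Submodule.comap (LinearMap.ker ((Koszul.koszul A l).d q (q + 1)).hom).subtype
          (Ideal.span {x} • LinearMap.range ((Koszul.koszul A l).d (q - 1) q).hom))) := by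
  exact main A l x hx q

end Groth.Agent.S15815
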