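import Groth.Statements.S15816
import Mathlib
import Groth.Agent.S15815

set_option autoImplicit false
universe u
open CategoryTheory
open scoped TensorProduct
open Koszul

namespace Groth.Agent.S15816


open CategoryTheory CategoryTheory.Limits Opposite


open CategoryTheory CategoryTheory.Limits Pointwise

theorem main (A : Type u) [CommRing A] (l : List A)
    (hl : RingTheory.Sequence.IsWeaklyRegular A l) (x : A) (hx : x ∈ nonZeroDivisors A) (q : ℤ) (hq : q < 0) :
    Nonempty ((Koszul.koszul A (l.map (fun f => x * f))).homology q ≅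
      ModuleCat.of A (↥(LinearMap.ker ((Koszul.koszul A l).d q (q + 1)).hom) ⊗[A] (A ⧸ Ideal.span {x}))) := by
  obtain ⟨e⟩ := Groth.Agent.S15815.main A l x hx q
  set K := Koszul.koszul A l with hK
  have hz : IsZero (K.homology q) := (Groth.Agent.S15821.main A l hl).1 q (by omega)
  have hex : K.ExactAt q := (K.exactAt_iff_isZero_homology q).2 hz
  rw [K.exactAt_iff' (q-1) q (q+1) (by simp) (by simp),
    ShortComplex.moduleCat_exact_iff_range_eq_ker] at hex
  have hex' : LinearMap.range (K.d (q-1) q).hom = LinearMap.ker (K.d q (q+1)).hom := hex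
  have hsub : Submodule.comap (LinearMap.ker (K.d q (q + 1)).hom).subtype
      (Ideal.span {x} • LinearMap.range (K.d (q - 1) q).hom) =
      x • (⊤ : Submodule A ↥(LinearMap.ker (K.d q (q + 1)).hom)) := by
    rw [hex']
    ext w
    simp only [Submodule.mem_comap, Submodule.subtype_apply, Submodule.ideal_span_singleton_smul]
    rw [Submodule.mem_smul_pointwise_iff_exists, Submodule.mem_smul_pointwise_iff_exists]
    constructor
    · rintro ⟨z, hz, hzw⟩
      exact ⟨⟨z, hz⟩, trivial, Subtype.ext hzw⟩
    · rintro ⟨z, -, hzw⟩
      exact ⟨z.1, z.2, congrArg Subtype.val hzw⟩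
  exact ⟨e ≪≫ ((Submodule.quotEquivOfEq _ _ hsub) ≪≫ₗ
    QuotSMulTop.equivTensorQuot x _).toModuleIso⟩

/-- Let A be a commutative ring, f = (f_1, …, f_n) a sequence in A that is regular in the weak sense
(f_1 is a non-zero-divisor of A and each f_i is a non-zero-divisor modulo (f_1, …, f_{i-1})), with
Koszul complex K(f) and differentials ∂^q, and let x be a non-zero-divisor of A. Then for every
integer q < 0 the q-th cohomology module of the Koszul complex of (x f_1, …, x f_n) is isomorphic as
an A-module to Ker(∂^q) ⊗_A A/(x) (existence of an A-linear isomorphism; mapping-cone model of the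
Koszul complex). -/
theorem result (A : Type u) [CommRing A] (l : List A)
    (hl : RingTheory.Sequence.IsWeaklyRegular A l) (x : A) (hx : x ∈ nonZeroDivisors A) (q : ℤ) (hq : q < 0) :
    Nonempty ((Koszul.koszul A (l.map (fun f => x * f))).homology q ≅
      ModuleCat.of A (↥(LinearMap.ker ((Koszul.koszul A l).d q (q + 1)).hom) ⊗[A] (A ⧸ Ideal.span {x}))) := by
  exact main A l hl x hx q hq

end Groth.Agent.S15816
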