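import Groth.Statements.S15818
import Mathlib

set_option autoImplicit false
universe u
open CategoryTheory
open Koszul

namespace Groth.Agent.S15818


open CategoryTheory CategoryTheory.Limits Opposite


open CategoryTheory CategoryTheory.Limits Pointwise

lemma isPullback_factor {A : Type u} [CommRing A] {Z : Type u} [AddCommGroup Z] [Module A Z]
    (P Q₁ Q₂ R : Submodule A Z) (h1 : P ≤ Q₁) (h2 : P ≤ Q₂) (h3 : Q₁ ≤ R) (h4 : Q₂ ≤ R)
    (hinf : Q₁ ⊓ Q₂ ≤ P) (hsup : R ≤ Q₁ ⊔ Q₂) :
    IsPullback (ModuleCat.ofHom (Submodule.factor h1)) (ModuleCat.ofHom (Submodule.factor h2))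
      (ModuleCat.ofHom (Submodule.factor h3)) (ModuleCat.ofHom (Submodule.factor h4)) := by
  have hw : ModuleCat.ofHom (Submodule.factor h1) ≫ ModuleCat.ofHom (Submodule.factor h3) =
      ModuleCat.ofHom (Submodule.factor h2) ≫ ModuleCat.ofHom (Submodule.factor h4) := by
    ext z
    rfl
  apply IsPullback.of_map (forget (ModuleCat.{u} A)) hw
  rw [Types.isPullback_iff]
  refine ⟨by rw [← Functor.map_comp, ← Functor.map_comp, hw], ?_, ?_⟩
  · rintro a b ⟨hab1, hab2⟩
    obtain ⟨a, rfl⟩ := Submodule.mkQ_surjective _ a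
    obtain ⟨b, rfl⟩ := Submodule.mkQ_surjective _ b
    have e1 : Q₁.mkQ a = Q₁.mkQ b := hab1
    have e2 : Q₂.mkQ a = Q₂.mkQ b := hab2
    show P.mkQ a = P.mkQ b
    simp only [Submodule.mkQ_apply] at e1 e2 ⊢
    rw [Submodule.Quotient.eq] at e1 e2 ⊢
    exact hinf ⟨e1, e2⟩
  · intro a b hab
    obtain ⟨a, rfl⟩ := Submodule.mkQ_surjective _ a
    obtain ⟨b, rfl⟩ := Submodule.mkQ_surjective _ b
    have e : R.mkQ a = R.mkQ b := hab
    simp only [Submodule.mkQ_apply] at e
    rw [Submodule.Quotient.eq] at e
    obtain ⟨c₁, hc₁, c₂, hc₂, hc⟩ := Submodule.mem_sup.1 (hsup e)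
    refine ⟨P.mkQ (a - c₁), ?_, ?_⟩
    · show Q₁.mkQ (a - c₁) = Q₁.mkQ a
      simp only [Submodule.mkQ_apply]
      rw [Submodule.Quotient.eq]
      simpa using Q₁.neg_mem hc₁
    · show Q₂.mkQ (a - c₁) = Q₂.mkQ b
      simp only [Submodule.mkQ_apply]
      rw [Submodule.Quotient.eq]
      have : a - c₁ - b = c₂ := by
        rw [show a - c₁ - b = (a - b) - c₁ by abel, ← hc]; abel
      rw [this]; exact hc₂

theorem main (A : Type u) [CommRing A] (l : List A) (q : ℤ)
    (K : CochainComplex (ModuleCat.{u} A) ℤ) (hK : K = Koszul.koszul A l)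
    (hBZ : LinearMap.range (K.d (q - 1) q).hom ≤ LinearMap.ker (K.d q (q + 1)).hom)
    (x : A) (hx : x ∈ nonZeroDivisors A)
    (hxH : IsSMulRegular (↥(LinearMap.ker (K.d q (q + 1)).hom) ⧸ Submodule.comap (LinearMap.ker (K.d q (q + 1)).hom).subtype (LinearMap.range (K.d (q - 1) q).hom)) x) :
    IsPullback
      (ModuleCat.ofHom (Submodule.factor (Submodule.comap_mono (Submodule.smul_mono le_rfl hBZ) :
        Submodule.comap (LinearMap.ker (K.d q (q + 1)).hom).subtype (Ideal.span {x} • LinearMap.range (K.d (q - 1) q).hom) ≤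
          Submodule.comap (LinearMap.ker (K.d q (q + 1)).hom).subtype (Ideal.span {x} • LinearMap.ker (K.d q (q + 1)).hom))))
      (ModuleCat.ofHom (Submodule.factor (Submodule.comap_mono (Submodule.smul_le_right) :
        Submodule.comap (LinearMap.ker (K.d q (q + 1)).hom).subtype (Ideal.span {x} • LinearMap.range (K.d (q - 1) q).hom) ≤
          Submodule.comap (LinearMap.ker (K.d q (q + 1)).hom).subtype (LinearMap.range (K.d (q - 1) q).hom))))
      (ModuleCat.ofHom (Submodule.factor (Submodule.comap_mono le_sup_right :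
        Submodule.comap (LinearMap.ker (K.d q (q + 1)).hom).subtype (Ideal.span {x} • LinearMap.ker (K.d q (q + 1)).hom) ≤
          Submodule.comap (LinearMap.ker (K.d q (q + 1)).hom).subtype (LinearMap.range (K.d (q - 1) q).hom ⊔ Ideal.span {x} • LinearMap.ker (K.d q (q + 1)).hom))))
      (ModuleCat.ofHom (Submodule.factor (Submodule.comap_mono le_sup_left :
        Submodule.comap (LinearMap.ker (K.d q (q + 1)).hom).subtype (LinearMap.range (K.d (q - 1) q).hom) ≤
          Submodule.comap (LinearMap.ker (K.d q (q + 1)).hom).subtype (LinearMap.range (K.d (q - 1) q).hom ⊔ Ideal.span {x} • LinearMap.ker (K.d q (q + 1)).hom)))) := by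
  apply isPullback_factor
  · -- inf
    rintro w ⟨hw1, hw2⟩
    simp only [SetLike.mem_coe, Submodule.mem_comap, Submodule.subtype_apply, Submodule.ideal_span_singleton_smul] at hw1 hw2 ⊢
    rw [Submodule.mem_smul_pointwise_iff_exists] at hw1 ⊢
    obtain ⟨z, hz, hzw⟩ := hw1
    have h0 : x • (Submodule.Quotient.mk (⟨z, hz⟩ : ↥(LinearMap.ker (K.d q (q + 1)).hom)) :
        ↥(LinearMap.ker (K.d q (q + 1)).hom) ⧸ Submodule.comap (LinearMap.ker (K.d q (q + 1)).hom).subtype (LinearMap.range (K.d (q - 1) q).hom)) = x • 0 := by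
      rw [smul_zero, ← Submodule.Quotient.mk_smul, Submodule.Quotient.mk_eq_zero]
      simp only [Submodule.mem_comap, Submodule.subtype_apply, Submodule.coe_smul]
      rw [hzw]; exact hw2
    have h1 := hxH h0
    rw [Submodule.Quotient.mk_eq_zero] at h1
    exact ⟨z, h1, hzw⟩
  · -- sup
    intro w hw
    simp only [Submodule.mem_comap, Submodule.subtype_apply] at hw
    obtain ⟨b, hb, c, hc, hbc⟩ := Submodule.mem_sup.1 hw
    have hcZ : c ∈ LinearMap.ker (K.d q (q + 1)).hom := Submodule.smul_le_right hc
    have hbZ : b ∈ LinearMap.ker (K.d q (q + 1)).hom := hBZ hb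
    rw [Submodule.mem_sup]
    refine ⟨⟨c, hcZ⟩, hc, ⟨b, hbZ⟩, hb, ?_⟩
    apply Subtype.ext
    simp only [Submodule.coe_add]
    rw [add_comm]; exact hbc

/-- Let A be a commutative ring, f = (f_1, …, f_n) a finite sequence in A with Koszul complex K = K(f)
(mapping-cone model) and differentials ∂, q an integer, Z = Ker(∂^q) and B = Im(∂^{q-1}), so B ⊆ Z
inside K^q (this inclusion is carried as the hypothesis hBZ). Let x be a non-zero-divisor of A which
moreover acts injectively on the cohomology module Z/B (for Noetherian A this says that x lies in no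
associated prime of Z/B, which is how the published statement phrases it; the published argument
uses exactly the injectivity). Then the commuting square of quotient projections with corners Z/xB
(top left; it is isomorphic to the q-th cohomology of the Koszul complex of (x f_1, …, x f_n)), Z/xZ
= Z ⊗ A/(x) (top right), Z/B (bottom left) and Z/(B + xZ) = (Z/B) ⊗ A/(x) (bottom right) is
cartesian in the category of A-modules. All four corners are written as quotients of Z by the
preimages of the submodules xB, xZ, B, B + xZ of K^q. -/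
theorem result (A : Type u) [CommRing A] (l : List A) (q : ℤ)
    (K : CochainComplex (ModuleCat.{u} A) ℤ) (hK : K = Koszul.koszul A l)
    (hBZ : LinearMap.range (K.d (q - 1) q).hom ≤ LinearMap.ker (K.d q (q + 1)).hom)
    (x : A) (hx : x ∈ nonZeroDivisors A)
    (hxH : IsSMulRegular (↥(LinearMap.ker (K.d q (q + 1)).hom) ⧸ Submodule.comap (LinearMap.ker (K.d q (q + 1)).hom).subtype (LinearMap.range (K.d (q - 1) q).hom)) x) :
    IsPullback
      (ModuleCat.ofHom (Submodule.factor (Submodule.comap_mono (Submodule.smul_mono le_rfl hBZ) :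
        Submodule.comap (LinearMap.ker (K.d q (q + 1)).hom).subtype (Ideal.span {x} • LinearMap.range (K.d (q - 1) q).hom) ≤
          Submodule.comap (LinearMap.ker (K.d q (q + 1)).hom).subtype (Ideal.span {x} • LinearMap.ker (K.d q (q + 1)).hom))))
      (ModuleCat.ofHom (Submodule.factor (Submodule.comap_mono (Submodule.smul_le_right) :
        Submodule.comap (LinearMap.ker (K.d q (q + 1)).hom).subtype (Ideal.span {x} • LinearMap.range (K.d (q - 1) q).hom) ≤
          Submodule.comap (LinearMap.ker (K.d q (q + 1)).hom).subtype (LinearMap.range (K.d (q - 1) q).hom))))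
      (ModuleCat.ofHom (Submodule.factor (Submodule.comap_mono le_sup_right :
        Submodule.comap (LinearMap.ker (K.d q (q + 1)).hom).subtype (Ideal.span {x} • LinearMap.ker (K.d q (q + 1)).hom) ≤
          Submodule.comap (LinearMap.ker (K.d q (q + 1)).hom).subtype (LinearMap.range (K.d (q - 1) q).hom ⊔ Ideal.span {x} • LinearMap.ker (K.d q (q + 1)).hom))))
      (ModuleCat.ofHom (Submodule.factor (Submodule.comap_mono le_sup_left :
        Submodule.comap (LinearMap.ker (K.d q (q + 1)).hom).subtype (LinearMap.range (K.d (q - 1) q).hom) ≤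
          Submodule.comap (LinearMap.ker (K.d q (q + 1)).hom).subtype (LinearMap.range (K.d (q - 1) q).hom ⊔ Ideal.span {x} • LinearMap.ker (K.d q (q + 1)).hom)))) := by
  exact main A l q K hK hBZ x hx hxH

end Groth.Agent.S15818
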