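import Groth.Statements.S15832
import Mathlib

set_option autoImplicit false
universe u
open TopGrp

namespace Groth.Agent.S15832

/-- For a group T with a topology, let B be the family of two-sided translates x Γ y, where Γ runs over
the subgroups of T open in the given topology and x, y over T; the topology generated by B makes T a
topological group in which every neighbourhood of the identity contains a subgroup open for that
topology. (The published statement is for the free topological product of two Noohi groups whose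
open subgroups form a basis of neighbourhoods of the identity; the argument uses only the group
structure and the chosen family of subgroups, so the row is stated for an arbitrary group with a
topology. The published conventions include Hausdorffness in the word topological group; this row
does not assert it, and the published argument does not prove it.) -/
theorem result (T : Type u) [Group T]
    [TopologicalSpace T] :
    @NonarchimedeanGroup T _ (TopologicalSpace.generateFrom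
      {S : Set T | ∃ (Γ : OpenSubgroup T) (x y : T), S = (fun g : T => x * g * y) '' (Γ : Set T)}) := by
  classical
  rename_i τ
  set B : Set (Set T) := {S : Set T | ∃ (Γ : OpenSubgroup T) (x y : T),
    S = (fun g : T => x * g * y) '' (Γ : Set T)} with hBdef
  -- structural facts
  have hsub : ∀ S ∈ B, (1 : T) ∈ S → (∀ g ∈ S, ∀ h ∈ S, g * h ∈ S) ∧ (∀ g ∈ S, g⁻¹ ∈ S) := by
    rintro S ⟨Γ, x, y, rfl⟩ ⟨γ₀, hγ₀, h1⟩
    have h1' : x * γ₀ * y = 1 := h1
    have hy : y = γ₀⁻¹ * x⁻¹ := by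
      have : y = (x * γ₀)⁻¹ := by
        rw [eq_inv_iff_mul_eq_one, mul_eq_one_iff_eq_inv.1 h1']; group
      rw [this]; group
    constructor
    · rintro g ⟨γ₁, hγ₁, rfl⟩ h ⟨γ₂, hγ₂, rfl⟩
      refine ⟨γ₁ * γ₀⁻¹ * γ₂, mul_mem (mul_mem hγ₁ (inv_mem hγ₀)) hγ₂, ?_⟩
      simp only [hy]; group
    · rintro g ⟨γ₁, hγ₁, rfl⟩
      refine ⟨γ₀ * γ₁⁻¹ * γ₀, mul_mem (mul_mem hγ₀ (inv_mem hγ₁)) hγ₀, ?_⟩
      simp only [hy]; group
  have hB_inv : ∀ S ∈ B, (fun g : T => g⁻¹) ⁻¹' S ∈ B := by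
    rintro S ⟨Γ, x, y, rfl⟩
    refine ⟨Γ, y⁻¹, x⁻¹, ?_⟩
    ext g
    simp only [Set.mem_preimage, Set.mem_image, SetLike.mem_coe]
    constructor
    · rintro ⟨γ, hγ, h⟩
      refine ⟨γ⁻¹, inv_mem hγ, ?_⟩
      have : g = (x * γ * y)⁻¹ := by rw [h, inv_inv]
      rw [this]; group
    · rintro ⟨γ, hγ, h⟩
      refine ⟨γ⁻¹, inv_mem hγ, ?_⟩
      rw [← h]; group
  let τ' : TopologicalSpace T := TopologicalSpace.generateFrom B
  have hopen : ∀ S ∈ B, @IsOpen T τ' S := fun S hS => TopologicalSpace.isOpen_generateFrom_of_mem hS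
  have hinv : @Continuous T T τ' τ' (fun g : T => g⁻¹) := by
    refine (continuous_generateFrom_iff (t := τ') (b := B) (f := fun g : T => g⁻¹)).2 ?_
    intro S hS
    exact hopen _ (hB_inv S hS)
  have hmul : @Continuous (T × T) T (@instTopologicalSpaceProd T T τ' τ') τ'
      (fun q : T × T => q.1 * q.2) := by
    refine (continuous_generateFrom_iff (t := @instTopologicalSpaceProd T T τ' τ') (b := B)
      (f := fun q : T × T => q.1 * q.2)).2 ?_
    rintro S ⟨Γ, x, y, rfl⟩
    refine (@isOpen_prod_iff T T τ' τ' _).2 ?_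
    rintro a b ⟨γ, hγ, hab⟩
    have hab' : x * γ * y = a * b := hab
    refine ⟨(fun g : T => x * g * (x⁻¹ * a)) '' (Γ : Set T),
      (fun g : T => (a⁻¹ * x) * g * (x⁻¹ * a * b)) '' (Γ : Set T),
      hopen _ ⟨Γ, _, _, rfl⟩, hopen _ ⟨Γ, _, _, rfl⟩, ⟨1, one_mem Γ, by group⟩,
      ⟨1, one_mem Γ, by group⟩, ?_⟩
    rintro ⟨u, v⟩ ⟨⟨γ₁, hγ₁, hu⟩, ⟨γ₂, hγ₂, hv⟩⟩
    simp only at hu hv
    refine ⟨γ₁ * γ₂ * γ, mul_mem (mul_mem hγ₁ hγ₂) hγ, ?_⟩
    show x * (γ₁ * γ₂ * γ) * y = u * v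
    rw [← hu, ← hv]
    have : x * (γ₁ * γ₂ * γ) * y = x * γ₁ * γ₂ * x⁻¹ * (x * γ * y) := by group
    rw [this, hab']; group
  refine @NonarchimedeanGroup.mk T _ τ' (@IsTopologicalGroup.mk T τ' _ ⟨hmul⟩ ⟨hinv⟩) ?_
  intro U hU
  have hbasis := @TopologicalSpace.isTopologicalBasis_of_subbasis T τ' B rfl
  obtain ⟨t, ⟨f, ⟨hfin, hfB⟩, rfl⟩, h1t, htU⟩ := (@TopologicalSpace.IsTopologicalBasis.mem_nhds_iff T τ' _ _ _ hbasis).1 hU
  have h1S : ∀ S ∈ f, (1 : T) ∈ S := fun S hS => Set.mem_sInter.1 h1t S hS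
  refine ⟨⟨⟨⟨⟨⋂₀ f, ?_⟩, h1t⟩, ?_⟩, ?_⟩, htU⟩
  · intro g h hg hh
    refine Set.mem_sInter.2 fun S hS => ?_
    exact (hsub S (hfB hS) (h1S S hS)).1 g (Set.mem_sInter.1 hg S hS) h (Set.mem_sInter.1 hh S hS)
  · intro g hg
    refine Set.mem_sInter.2 fun S hS => ?_
    exact (hsub S (hfB hS) (h1S S hS)).2 g (Set.mem_sInter.1 hg S hS)
  · exact @Set.Finite.isOpen_sInter T τ' f hfin (fun S hS => hopen S (hfB hS))

end Groth.Agent.S15832
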