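import Groth.Statements.S15841
import Mathlib.LinearAlgebra.TensorProduct.Tower

set_option autoImplicit false
universe u
open scoped TensorProduct
open SprIso

namespace Groth.Agent.S15841

theorem corefl_eq {ι M N : Type u} [AddCommGroup M] [AddCommGroup N]
    (P : RootPairing ι ℤ M N) (i : ι) :
    ((P.coreflection i : N ≃ₗ[ℤ] N) : N →ₗ[ℤ] N) =
      LinearMap.id - (LinearMap.toSpanSingleton ℤ N (P.coroot i)).comp (P.root' i) := by
  ext n
  simp [RootPairing.coreflection_apply]

theorem psi_comp_corefl {ι M N : Type u} [AddCommGroup M] [AddCommGroup N]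
    (P : RootPairing ι ℤ M N) (ψ : N →ₗ[ℤ] ℤ) (j : ι) :
    ψ.comp ((P.coreflection j : N ≃ₗ[ℤ] N) : N →ₗ[ℤ] N) = ψ - (ψ (P.coroot j)) • P.root' j := by
  ext n
  simp [RootPairing.coreflection_apply, mul_comm]

theorem psi_comp_prod {ι M N : Type u} [AddCommGroup M] [AddCommGroup N]
    (P : RootPairing ι ℤ M N) (ψ : N →ₗ[ℤ] ℤ) :
    ∀ (l : List ι), (∀ j ∈ l, ψ (P.coroot j) = 0) →
      ψ.comp ((l.map (fun i => ((P.coreflection i : N ≃ₗ[ℤ] N) : N →ₗ[ℤ] N))).prod) = ψ := by
  intro l
  induction l with
  | nil => intro _; simp; rfl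
  | cons j l ih =>
    intro h
    rw [List.map_cons, List.prod_cons, Module.End.mul_eq_comp, ← LinearMap.comp_assoc,
      psi_comp_corefl, h j (List.mem_cons_self), zero_smul, sub_zero]
    exact ih (fun j' hj' => h j' (List.mem_cons_of_mem _ hj'))

theorem aux {ι M N : Type u} [AddCommGroup M] [AddCommGroup N]
    (P : RootPairing ι ℤ M N) (b : P.Base)
    (hsc : ∀ i ∈ b.support, ∃ ω : M, P.coroot' i ω = 1 ∧ ∀ j ∈ b.support, j ≠ i → P.coroot' j ω = 0)
    (k : Type u) [Field k] :
    ∀ (l : List ι), l.Nodup → (∀ i ∈ l, i ∈ b.support) → ∀ H : k ⊗[ℤ] N,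
      ((l.map (fun i => ((P.coreflection i : N ≃ₗ[ℤ] N) : N →ₗ[ℤ] N))).prod).baseChange k H = H →
      ∀ i ∈ l, LinearMap.baseChange k (P.root' i) H = 0 := by
  intro l
  induction l with
  | nil => intro _ _ _ _ i hi; simp at hi
  | cons i l ih =>
    intro hnd hsup H hH
    rw [List.nodup_cons] at hnd
    obtain ⟨hil, hnd'⟩ := hnd
    have hi : i ∈ b.support := hsup i List.mem_cons_self
    obtain ⟨ω, hω1, hω0⟩ := hsc i hi
    set ψ : N →ₗ[ℤ] ℤ := P.toLinearMap ω with hψ
    have hψi : ψ (P.coroot i) = 1 := hω1
    have hψj : ∀ j ∈ l, ψ (P.coroot j) = 0 := by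
      intro j hj
      have hjs : j ∈ b.support := hsup j (List.mem_cons_of_mem _ hj)
      have hne : j ≠ i := by rintro rfl; exact hil hj
      exact hω0 j hjs hne
    set W : N →ₗ[ℤ] N := (l.map (fun i => ((P.coreflection i : N ≃ₗ[ℤ] N) : N →ₗ[ℤ] N))).prod
      with hW
    rw [List.map_cons, List.prod_cons, Module.End.mul_eq_comp, LinearMap.baseChange_comp] at hH
    set H' := W.baseChange k H with hH'
    have hH2 : (((P.coreflection i : N ≃ₗ[ℤ] N) : N →ₗ[ℤ] N)).baseChange k H' = H := hH
    -- apply ψ
    have e1 : LinearMap.baseChange k ψ H' = LinearMap.baseChange k ψ H := by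
      rw [hH', ← LinearMap.comp_apply, ← LinearMap.baseChange_comp, psi_comp_prod P ψ l hψj]
    have e2 : LinearMap.baseChange k ψ H =
        LinearMap.baseChange k ψ H' - LinearMap.baseChange k (P.root' i) H' := by
      conv_lhs => rw [← hH2]
      rw [← LinearMap.comp_apply, ← LinearMap.baseChange_comp, psi_comp_corefl, hψi, one_smul,
        LinearMap.baseChange_sub, LinearMap.sub_apply]
    have e3 : LinearMap.baseChange k (P.root' i) H' = 0 := by
      rw [e1] at e2
      have := e2
      rw [eq_sub_iff_add_eq, add_eq_left] at this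
      exact this
    have e4 : H' = H := by
      rw [← hH2, corefl_eq, LinearMap.baseChange_sub, LinearMap.baseChange_id,
        LinearMap.baseChange_comp, LinearMap.sub_apply, LinearMap.comp_apply, e3, map_zero,
        sub_zero, LinearMap.id_apply]
    intro j hj
    rcases List.mem_cons.mp hj with rfl | hj'
    · rw [← e4]; exact e3
    · exact ih hnd' (fun j' hj'' => hsup j' (List.mem_cons_of_mem _ hj'')) H (hH'.symm.trans e4) j hj'

/-- For a connected reductive group G with maximal torus T whose derived group is simply connected, and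
a Coxeter element w (the product of the simple reflections, each once, in any order), an element of
Lie T = k ⊗ X_*(T) fixed by Ad(w) is killed by the differential of every simple root, i.e. lies in
the centre of Lie G. In root-datum form: let P be a root pairing over ℤ with character lattice M and
cocharacter lattice N, b a base, and suppose each simple coroot has a dual character ω_i in M with
⟨ω_i, α_i^∨⟩ = 1 and ⟨ω_i, α_j^∨⟩ = 0 for every other simple j (the simply connected derived group
hypothesis). If l lists the simple roots without repetition, w^∨ is the composite of the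
coreflections along l acting on N, k is a field and H in k ⊗ N satisfies w^∨_k H = H, then (α_i)_k H
= 0 for every simple root α_i, where (α_i)_k is the base change to k of the functional ⟨α_i, −⟩ on
N. (Stated for an arbitrary field k; the published setting is an algebraically closed field, and the
argument does not depend on k.) -/
theorem result {ι M N : Type u} [AddCommGroup M] [AddCommGroup N]
    (P : RootPairing ι ℤ M N) (b : P.Base)
    (hsc : ∀ i ∈ b.support, ∃ ω : M, P.coroot' i ω = 1 ∧ ∀ j ∈ b.support, j ≠ i → P.coroot' j ω = 0)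
    (l : List ι) (hl : l.Nodup) (hlb : ∀ i : ι, i ∈ l ↔ i ∈ b.support)
    (k : Type u) [Field k] (H : k ⊗[ℤ] N)
    (hH : ((l.map (fun i => ((P.coreflection i : N ≃ₗ[ℤ] N) : N →ₗ[ℤ] N))).prod).baseChange k H = H) :
    ∀ i ∈ b.support, (P.root' i).baseChange k H = 0 := by
  intro i hi
  exact aux P b hsc k l hl (fun j hj => (hlb j).mp hj) H hH i ((hlb i).mpr hi)

end Groth.Agent.S15841
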