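import Groth.Statements.S15893
import Mathlib

set_option autoImplicit false
universe u v w
open CartDual

namespace Groth.Agent.S15893

/-- Let R be a commutative ring and A, B commutative and cocommutative Hopf algebras over R, each
finitely generated and projective as an R-module (finite locally free commutative group schemes G =
Spec A, H = Spec B over Spec R). Then Cartier duality is a fully faithful contravariant functor: the
map sending a bialgebra homomorphism f : A → B (a homomorphism of group schemes H → G) to its
transpose between the dual Hopf algebras, Hom_R(B, R) → Hom_R(A, R) (the dual homomorphism G^D →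
H^D), is a bijection between bialgebra homomorphisms A → B and bialgebra homomorphisms Hom_R(B, R) →
Hom_R(A, R). (The published statement also asserts that the canonical map to the double dual is an
isomorphism, which makes duality an involutory anti-equivalence; that part is not restated here. The
published notes work over a Noetherian base ring; the row allows any commutative base ring.) -/
theorem result (R : Type u) [CommRing R] (A : Type v) (B : Type w)
    [CommRing A] [HopfAlgebra R A] [Coalgebra.IsCocomm R A] [Module.Finite R A] [Module.Projective R A]
    [CommRing B] [HopfAlgebra R B] [Coalgebra.IsCocomm R B] [Module.Finite R B] [Module.Projective R B] :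
    Function.Bijective (fun f : A →ₐc[R] B => CartDual.transpose R f) := by
  have hevalA : Function.Bijective (CartDual.eval R A) := by
    have h := Module.bijective_dual_eval R A
    constructor
    · intro a a' haa
      apply h.1
      apply LinearMap.ext
      intro φ
      have := congrArg (fun z : CartDual.D R (CartDual.D R A) => z (WithConv.toConv φ)) haa
      exact this
    · intro X
      obtain ⟨a, ha⟩ := h.2 (X.ofConv ∘ₗ (CartDual.toDual R A).symm.toLinearMap)
      refine ⟨a, ?_⟩
      apply WithConv.ext
      apply LinearMap.ext
      intro x
      have := congrArg (fun ψ : Module.Dual R (Module.Dual R A) => ψ x.ofConv) ha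
      exact this
  have hevalB : Function.Bijective (CartDual.eval R B) := by
    have h := Module.bijective_dual_eval R B
    constructor
    · intro a a' haa
      apply h.1
      apply LinearMap.ext
      intro φ
      have := congrArg (fun z : CartDual.D R (CartDual.D R B) => z (WithConv.toConv φ)) haa
      exact this
    · intro X
      obtain ⟨a, ha⟩ := h.2 (X.ofConv ∘ₗ (CartDual.toDual R B).symm.toLinearMap)
      refine ⟨a, ?_⟩
      apply WithConv.ext
      apply LinearMap.ext
      intro x
      have := congrArg (fun ψ : Module.Dual R (Module.Dual R B) => ψ x.ofConv) ha
      exact this
  constructor
  · intro f f' hff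
    apply BialgHom.ext
    intro a
    rw [← sub_eq_zero, ← Module.forall_dual_apply_eq_zero_iff R]
    intro φ
    rw [map_sub, sub_eq_zero]
    have := congrArg (fun h : CartDual.D R B →ₐc[R] CartDual.D R A => h (WithConv.toConv φ) a) hff
    exact this
  · intro h
    let eB := BialgEquiv.ofBijective (R := R) (A := B) (B := CartDual.D R (CartDual.D R B)) (CartDual.eval R B) hevalB
    let f : A →ₐc[R] B :=
      ((BialgHomClass.toBialgHom eB.symm).comp (CartDual.transpose R h)).comp
        (CartDual.eval R A)
    refine ⟨f, ?_⟩
    apply BialgHom.ext
    intro x
    apply WithConv.ext
    apply LinearMap.ext
    intro a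
    show x (f a) = (h x) a
    have h1 : eB (f a) = CartDual.transpose R h (CartDual.eval R A a) := by
      show eB (eB.symm _) = _
      rw [BialgEquiv.apply_symm_apply]
      rfl
    have h2 := congrArg (fun z : CartDual.D R (CartDual.D R B) => z x) h1
    exact h2

end Groth.Agent.S15893
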