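import Groth.Statements.S15895
import Mathlib
import Groth.Prelude.Def_CartDual2

set_option autoImplicit false
universe u
open scoped TensorProduct
open Versch

namespace Groth.Agent.S15895

open TensorProduct

theorem eval_bijective (R : Type u) [CommRing R] (B : Type u) [CommRing B] [HopfAlgebra R B]
    [Module.Finite R B] [Module.Projective R B] : Function.Bijective (CartDual.eval R B) := by
  have h := Module.bijective_dual_eval R B
  constructor
  · intro a a' haa
    apply h.1
    apply LinearMap.ext
    intro φ
    have := congrArg (fun z : CartDual.D R (CartDual.D R B) => z (WithConv.toConv φ)) haa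
    exact this
  · intro X
    obtain ⟨a, ha⟩ := h.2 (X.ofConv ∘ₗ (CartDual.toDual R B).symm.toLinearMap)
    refine ⟨a, ?_⟩
    apply WithConv.ext
    apply LinearMap.ext
    intro x
    have := congrArg (fun ψ : Module.Dual R (Module.Dual R B) => ψ x.ofConv) ha
    exact this

theorem pow_p_eq (p : ℕ) [hp : Fact p.Prime] (R : Type u) [CommRing R] [CharP R p]
    (a : MonoidAlgebra R (Multiplicative (ZMod p))) :
    a ^ p = MonoidAlgebra.single 1 ((Coalgebra.counit (R := R) a) ^ p) := by
  have : CharP (MonoidAlgebra R (Multiplicative (ZMod p))) p :=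
    charP_of_injective_algebraMap
      (Bialgebra.algebraMap_injective (R := R) (MonoidAlgebra R (Multiplicative (ZMod p)))) p
  induction a using MonoidAlgebra.induction_linear with
  | zero =>
    rw [map_zero, zero_pow hp.out.ne_zero, zero_pow hp.out.ne_zero, MonoidAlgebra.single_zero]
  | add x y hx hy =>
    rw [add_pow_char, hx, hy, map_add, add_pow_char, MonoidAlgebra.single_add]
  | single g c =>
    rw [MonoidAlgebra.single_pow, MonoidAlgebra.counit_single, CommSemiring.counit_apply]
    congr 1
    have : g = Multiplicative.ofAdd (Multiplicative.toAdd g) := rfl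
    rw [this, ← ofAdd_nsmul]
    simp

theorem pow_p_apply (p : ℕ) [hp : Fact p.Prime] (R : Type u) [CommRing R] [CharP R p]
    (X : CartDual.D R (CartDual.D R (MonoidAlgebra R (Multiplicative (ZMod p)))))
    (b : CartDual.D R (MonoidAlgebra R (Multiplicative (ZMod p)))) :
    (X ^ p) b = (X 1) ^ p * Coalgebra.counit (R := R) b := by
  obtain ⟨a, rfl⟩ := (eval_bijective R (MonoidAlgebra R (Multiplicative (ZMod p)))).2 X
  rw [← map_pow, CartDual.eval_apply, CartDual.eval_apply, pow_p_eq, LinearMap.convOne_apply,
    CartDual.coalgebra_counit_apply, MonoidAlgebra.one_def]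
  have h2 : (MonoidAlgebra.single (1 : Multiplicative (ZMod p)) ((Coalgebra.counit (R := R) a) ^ p)
      : MonoidAlgebra R (Multiplicative (ZMod p))) =
      ((Coalgebra.counit (R := R) a) ^ p) • MonoidAlgebra.single 1 1 := by
    rw [MonoidAlgebra.smul_single, smul_eq_mul, mul_one]
  rw [h2, map_smul, smul_eq_mul]
  rfl

/-- Let p be a prime, R a commutative ring of characteristic p and B = Hom_R(R[ℤ/p], R) the dual Hopf
algebra of the group algebra of the cyclic group of order p: the Hopf algebra of the constant group
scheme ℤ/p over Spec R (the Cartier dual of μ_p). Let v : B → B ⊗_R R^(Frob) be the comorphism of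
the Verschiebung V : (ℤ/p)^(p) → ℤ/p (the ring map whose transpose under the canonical pairing is
the relative Frobenius of the dual Hopf algebra of B). Then V is the trivial homomorphism: v is the
composite of the counit ε : B → R, the identity of underlying rings R → R^(Frob) and the inclusion
of the twisted factor R^(Frob) → B ⊗_R R^(Frob), i.e. v(b) = 1 ⊗ ε(b). -/
theorem result (p : ℕ) [Fact p.Prime] (R : Type u) [CommRing R]
    [CharP R p] (v : CartDual.D R (MonoidAlgebra R (Multiplicative (ZMod p))) →+* FrobAlg.BaseChange p R (CartDual.D R (MonoidAlgebra R (Multiplicative (ZMod p)))))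
    (hv : Versch.IsVerschiebung p R (CartDual.D R (MonoidAlgebra R (Multiplicative (ZMod p)))) v) :
    v = ((Algebra.TensorProduct.includeRight (R := R) (A := CartDual.D R (MonoidAlgebra R (Multiplicative (ZMod p))))
            (B := FrobAlg.Twist p R)).toRingHom.comp (FrobAlg.toTwist p R).toRingHom).comp
          (Bialgebra.counitAlgHom R (CartDual.D R (MonoidAlgebra R (Multiplicative (ZMod p))))).toRingHom := by
  refine Versch.IsVerschiebung.unique p R _ hv ?_
  rw [Versch.isVerschiebung_iff]
  intro a x
  rw [pow_p_apply]
  show Versch.evTw p R _ x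
    ((1 : CartDual.D R (MonoidAlgebra R (Multiplicative (ZMod p)))) ⊗ₜ[R]
      FrobAlg.toTwist p R (Coalgebra.counit (R := R) a)) = _
  rw [Versch.evTw_tmul', map_mul]

end Groth.Agent.S15895
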