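import Groth.Statements.S15897
import Mathlib

set_option autoImplicit false
universe u v
open CartDual TensorProduct

namespace Groth.Agent.S15897

/-- Let R be a commutative ring and A a commutative Hopf algebra over R which is finitely generated and
projective as an R-module (a finite locally free R-group scheme G = Spec A, not assumed
commutative). If the convolution product on the dual Hopf algebra Hom_R(A, R) is commutative, then A
is cocommutative, i.e. G is a commutative group scheme. (The dual Hopf algebra is commutative
exactly when A is cocommutative; the other implication is immediate and not stated. The published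
notes work over a Noetherian base ring; the row allows any commutative base ring.) -/
theorem result (R : Type u) [CommRing R] (A : Type v) [CommRing A] [HopfAlgebra R A]
    [Module.Finite R A] [Module.Projective R A] (h : ∀ x y : CartDual.D R A, x * y = y * x) :
    Coalgebra.IsCocomm R A := by
  have key : ∀ t : A ⊗[R] A,
      (∀ x y : CartDual.D R A, CartDual.ev₂ R A (x ⊗ₜ[R] y) t = 0) → t = 0 := by
    intro t ht
    rw [← Module.forall_dual_apply_eq_zero_iff R t]
    intro φ
    obtain ⟨s, rfl⟩ := (CartDual.ev₂ R A).surjective φ
    induction s using TensorProduct.induction_on with
    | zero => simp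
    | add s s' hs hs' => rw [map_add, LinearMap.add_apply, hs, hs', add_zero]
    | tmul x y => exact ht x y
  have key2 : ∀ (x y : CartDual.D R A) (t : A ⊗[R] A),
      CartDual.ev₂ R A (x ⊗ₜ[R] y) (TensorProduct.comm R A A t) =
        CartDual.ev₂ R A (y ⊗ₜ[R] x) t := by
    intro x y t
    induction t using TensorProduct.induction_on with
    | zero => simp
    | add s s' hs hs' => rw [map_add, map_add, map_add, hs, hs']
    | tmul a b => rw [TensorProduct.comm_tmul, CartDual.ev₂_tmul, CartDual.ev₂_tmul, mul_comm]
  constructor
  apply LinearMap.ext
  intro a
  rw [LinearMap.comp_apply, ← sub_eq_zero]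
  apply key
  intro x y
  rw [map_sub, sub_eq_zero, LinearEquiv.coe_coe, key2]
  have h1 := congrArg (fun z : CartDual.D R A => z a) (h y x)
  simp only [LinearMap.convMul_apply] at h1
  rw [CartDual.ev₂_tmul_eq', CartDual.ev₂_tmul_eq']
  exact h1

end Groth.Agent.S15897
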