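import Groth.Statements.S15905
import Mathlib

set_option autoImplicit false
open Surf

namespace Groth.Agent.S15905

open W4c3severiratdp

def BZ (hi : ℕ) : Finset ℤ := (Finset.range (hi + 1)).map Nat.castEmbedding

theorem mem_BZ (hi : ℕ) (x : ℤ) : x ∈ BZ hi ↔ 0 ≤ x ∧ x ≤ (hi : ℤ) := by
  unfold BZ
  rw [Finset.mem_map]
  constructor
  · rintro ⟨n, hn, rfl⟩
    rw [Finset.mem_range] at hn
    show (0 : ℤ) ≤ (n : ℤ) ∧ (n : ℤ) ≤ (hi : ℤ)
    constructor
    · positivity
    · exact_mod_cast Nat.lt_succ_iff.mp hn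
  · rintro ⟨h0, h1⟩
    refine ⟨x.toNat, ?_, ?_⟩
    · rw [Finset.mem_range]; omega
    · show ((x.toNat : ℕ) : ℤ) = x
      exact Int.toNat_of_nonneg h0

theorem sum_BZ (hi : ℕ) (F : ℤ → ℕ) :
    ∑ b ∈ BZ hi, F b = ∑ n ∈ Finset.range (hi + 1), F (n : ℤ) := by
  unfold BZ
  rw [Finset.sum_map]
  rfl

def cnt (hi : ℕ) : ℕ → ℤ → ℤ → ℕ
  | 0, s, q => if s = 0 ∧ q = 0 then 1 else 0
  | k+1, s, q =>
    if s < 0 ∨ q < 0 ∨ (hi : ℤ) * (k+1) < s ∨ (k+1 : ℤ) * q < s * s then 0
    else ∑ b ∈ Finset.range (hi + 1), cnt hi k (s - b) (q - b * b)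

theorem cnt_zero (hi : ℕ) (s q : ℤ) : cnt hi 0 s q = if s = 0 ∧ q = 0 then 1 else 0 := by
  rw [cnt]

theorem cnt_succ (hi k : ℕ) (s q : ℤ) : cnt hi (k+1) s q =
    if s < 0 ∨ q < 0 ∨ (hi : ℤ) * (k+1) < s ∨ (k+1 : ℤ) * q < s * s then 0
    else ∑ b ∈ Finset.range (hi + 1), cnt hi k (s - b) (q - b * b) := by
  rw [cnt]

def total (δ : ℕ) : ℕ := ∑ a ∈ Finset.range 13, cnt 5 δ (3 * a - 2) (a * a)

def consZ {δ : ℕ} (a : ℤ) (g : Fin δ → ℤ) : Fin (δ + 1) → ℤ := Fin.cons a g

theorem consZ_zero {δ : ℕ} (a : ℤ) (g : Fin δ → ℤ) : consZ a g 0 = a := rfl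

theorem consZ_succ {δ : ℕ} (a : ℤ) (g : Fin δ → ℤ) (i : Fin δ) : consZ a g i.succ = g i := by
  unfold consZ
  rw [Fin.cons_succ]


theorem consZ_tail {δ : ℕ} (v : Fin (δ + 1) → ℤ) : consZ (v 0) (Fin.tail v) = v :=
  Fin.cons_self_tail v

theorem tail_consZ {δ : ℕ} (a : ℤ) (g : Fin δ → ℤ) : Fin.tail (consZ a g) = g := by
  funext i
  show consZ a g i.succ = g i
  exact consZ_succ a g i

theorem consZ_inj {δ : ℕ} (a : ℤ) : Function.Injective (consZ (δ := δ) a) := by
  intro g g' h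
  have h3 := congrArg Fin.tail h
  rwa [tail_consZ, tail_consZ] at h3

noncomputable def GS (hi k : ℕ) (s q : ℤ) : Finset (Fin k → ℤ) :=
  (Fintype.piFinset fun _ : Fin k => BZ hi).filter
    (fun f => ∑ i, f i = s ∧ ∑ i, f i * f i = q)

theorem mem_GS (hi k : ℕ) (s q : ℤ) (f : Fin k → ℤ) :
    f ∈ GS hi k s q ↔ (∀ i, f i ∈ BZ hi) ∧ ∑ i, f i = s ∧ ∑ i, f i * f i = q := by
  unfold GS
  rw [Finset.mem_filter, Fintype.mem_piFinset]

theorem GS_card (hi : ℕ) : ∀ (k : ℕ) (s q : ℤ), (GS hi k s q).card = cnt hi k s q := by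
  intro k
  induction k with
  | zero =>
    intro s q
    rw [cnt_zero]
    by_cases h : s = 0 ∧ q = 0
    · rw [if_pos h]
      obtain ⟨rfl, rfl⟩ := h
      rw [Finset.card_eq_one]
      refine ⟨fun _ => 0, Finset.eq_singleton_iff_unique_mem.mpr ⟨?_, fun x _ => Subsingleton.elim _ _⟩⟩
      rw [mem_GS]
      exact ⟨fun i => i.elim0, by simp, by simp⟩
    · rw [if_neg h, Finset.card_eq_zero, Finset.eq_empty_iff_forall_notMem]
      intro f hf
      rw [mem_GS] at hf
      obtain ⟨_, h1, h2⟩ := hf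
      apply h
      constructor
      · rw [← h1]; simp
      · rw [← h2]; simp
  | succ k ih =>
    intro s q
    rw [cnt_succ]
    by_cases hP : s < 0 ∨ q < 0 ∨ (hi : ℤ) * (k+1) < s ∨ (k+1 : ℤ) * q < s * s
    · rw [if_pos hP, Finset.card_eq_zero, Finset.eq_empty_iff_forall_notMem]
      intro f hf
      rw [mem_GS] at hf
      obtain ⟨hbox, h1, h2⟩ := hf
      have hb : ∀ i, 0 ≤ f i ∧ f i ≤ (hi : ℤ) := fun i => (mem_BZ hi (f i)).mp (hbox i)
      rcases hP with h | h | h | h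
      · have h3 : 0 ≤ ∑ i, f i := Finset.sum_nonneg (fun i _ => (hb i).1)
        omega
      · have h3 : 0 ≤ ∑ i, f i * f i := Finset.sum_nonneg (fun i _ => mul_self_nonneg _)
        omega
      · have h3 : ∑ i, f i ≤ ∑ _i : Fin (k+1), (hi : ℤ) :=
          Finset.sum_le_sum (fun i _ => (hb i).2)
        rw [Finset.sum_const, Finset.card_univ, Fintype.card_fin, nsmul_eq_mul] at h3
        push_cast at h3
        rw [h1] at h3
        nlinarith
      · have hcs := sq_sum_le_card_mul_sum_sq (s := Finset.univ) (f := f)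
        rw [Finset.card_univ, Fintype.card_fin] at hcs
        have h3 : ∑ i, f i ^ 2 = q := by
          rw [← h2]; apply Finset.sum_congr rfl; intro i _; ring
        rw [h3, h1, sq] at hcs
        push_cast at hcs
        linarith
    · rw [if_neg hP]
      have hmaps : ((GS hi (k+1) s q : Finset (Fin (k+1) → ℤ)) : Set (Fin (k+1) → ℤ)).MapsTo
          (fun g : Fin (k+1) → ℤ => g 0) (BZ hi) := by
        intro g hg
        rw [Finset.mem_coe, mem_GS] at hg
        exact hg.1 0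
      rw [Finset.card_eq_sum_card_fiberwise hmaps, sum_BZ]
      apply Finset.sum_congr rfl
      intro n hn
      rw [← ih]
      have hnB : (n : ℤ) ∈ BZ hi := by
        rw [mem_BZ]
        rw [Finset.mem_range] at hn
        exact ⟨by positivity, by exact_mod_cast Nat.lt_succ_iff.mp hn⟩
      refine Finset.card_bij' (fun a _ => Fin.tail a) (fun b _ => consZ (n : ℤ) b) ?_ ?_ ?_ ?_
      · intro g hg
        rw [Finset.mem_filter, mem_GS] at hg
        obtain ⟨⟨hbox, h1, h2⟩, h0⟩ := hg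
        rw [mem_GS]
        refine ⟨fun i => hbox i.succ, ?_, ?_⟩
        · rw [Fin.sum_univ_succ] at h1
          have : ∑ i : Fin k, Fin.tail g i = ∑ i : Fin k, g i.succ := rfl
          rw [this]; linarith
        · rw [Fin.sum_univ_succ] at h2
          have : ∑ i : Fin k, Fin.tail g i * Fin.tail g i = ∑ i : Fin k, g i.succ * g i.succ := rfl
          rw [this, ← h0]; linarith
      · intro h hh
        rw [mem_GS] at hh
        obtain ⟨hbox, h1, h2⟩ := hh
        rw [Finset.mem_filter, mem_GS]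
        refine ⟨⟨?_, ?_, ?_⟩, consZ_zero _ _⟩
        · intro i
          refine Fin.cases ?_ (fun j => ?_) i
          · rw [consZ_zero]; exact hnB
          · rw [consZ_succ]; exact hbox j
        · rw [Fin.sum_univ_succ, consZ_zero]
          simp only [consZ_succ]
          rw [h1]; ring
        · rw [Fin.sum_univ_succ, consZ_zero]
          simp only [consZ_succ]
          rw [h2]; ring
      · intro g hg
        rw [Finset.mem_filter] at hg
        have h0 : g 0 = (n : ℤ) := hg.2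
        show consZ (n : ℤ) (Fin.tail g) = g
        rw [← h0]
        exact consZ_tail g
      · intro h _
        exact tail_consZ _ _

theorem conic_iff {δ : ℕ} (v : DP δ) : IsConic v ↔
    (∑ i : Fin δ, v i.succ * v i.succ = v 0 * v 0 ∧ ∑ i : Fin δ, v i.succ = 3 * v 0 - 2) := by
  unfold IsConic form canon
  have e : ∑ i : Fin δ, (-1 : ℤ) * v i.succ = - ∑ i : Fin δ, v i.succ := by
    rw [← Finset.mul_sum]; ring
  simp only [Fin.cases_zero, Fin.cases_succ]
  rw [e]
  constructor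
  · rintro ⟨h1, h2⟩
    constructor <;> linarith
  · rintro ⟨h1, h2⟩
    constructor <;> linarith

theorem bounds {δ : ℕ} (hδ : δ ≤ 8) (v : DP δ)
    (h1 : ∑ i : Fin δ, v i.succ * v i.succ = v 0 * v 0)
    (h2 : ∑ i : Fin δ, v i.succ = 3 * v 0 - 2) :
    0 ≤ v 0 ∧ v 0 ≤ 12 ∧ ∀ i : Fin δ, 0 ≤ v i.succ ∧ v i.succ ≤ 5 := by
  have key : ∑ i : Fin δ, (8 * v i.succ - 3 * v 0) ^ 2
      = 64 * (v 0 * v 0) - 48 * v 0 * (3 * v 0 - 2) + δ * (9 * (v 0 * v 0)) := by
    have e : ∀ i : Fin δ, (8 * v i.succ - 3 * v 0) ^ 2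
        = 64 * (v i.succ * v i.succ) - 48 * v 0 * v i.succ + 9 * (v 0 * v 0) := by
      intro i; ring
    rw [Finset.sum_congr rfl (fun i _ => e i), Finset.sum_add_distrib, Finset.sum_sub_distrib,
      ← Finset.mul_sum, ← Finset.mul_sum, h1, h2, Finset.sum_const, Finset.card_univ,
      Fintype.card_fin, nsmul_eq_mul]
  have hδ' : (δ : ℤ) ≤ 8 := by exact_mod_cast hδ
  have hsum_le : ∑ i : Fin δ, (8 * v i.succ - 3 * v 0) ^ 2 ≤ 8 * v 0 * (12 - v 0) := by
    rw [key]
    nlinarith [mul_nonneg (sub_nonneg.mpr hδ') (mul_self_nonneg (v 0))]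
  have hterm : ∀ i : Fin δ, (8 * v i.succ - 3 * v 0) ^ 2 ≤ 8 * v 0 * (12 - v 0) := fun i =>
    le_trans (Finset.single_le_sum (f := fun i : Fin δ => (8 * v i.succ - 3 * v 0) ^ 2)
      (fun j _ => sq_nonneg _) (Finset.mem_univ i)) hsum_le
  have h0 : 0 ≤ 8 * v 0 * (12 - v 0) :=
    le_trans (Finset.sum_nonneg (fun i _ => sq_nonneg _)) hsum_le
  have ha0 : 0 ≤ v 0 := by nlinarith [mul_self_nonneg (v 0)]
  have ha12 : v 0 ≤ 12 := by nlinarith [mul_self_nonneg (v 0)]
  refine ⟨ha0, ha12, fun i => ?_⟩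
  have ht := hterm i
  generalize v i.succ = b at ht
  generalize v 0 = a at ht ha0 ha12
  constructor
  · interval_cases a <;> nlinarith
  · interval_cases a <;> nlinarith

noncomputable def FF (δ : ℕ) : Finset (DP δ) :=
  (Finset.range 13).biUnion fun a =>
    (GS 5 δ (3 * a - 2) (a * a)).image (consZ ((a : ℕ) : ℤ))

theorem FF_card (δ : ℕ) : (FF δ).card = total δ := by
  unfold FF total
  rw [Finset.card_biUnion]
  · apply Finset.sum_congr rfl
    intro a _
    rw [Finset.card_image_of_injective _ (consZ_inj _), GS_card]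
  · intro a _ b _ hab
    show Disjoint _ _
    rw [Finset.disjoint_left]
    intro v hva hvb
    rw [Finset.mem_image] at hva hvb
    obtain ⟨g, _, rfl⟩ := hva
    obtain ⟨g', _, hg'⟩ := hvb
    have h3 := congrFun hg' 0
    rw [consZ_zero, consZ_zero] at h3
    exact hab (by exact_mod_cast h3.symm)

theorem conic_set (δ : ℕ) (hδ : δ ≤ 8) : {v : DP δ | IsConic v} = ↑(FF δ) := by
  ext v
  show IsConic v ↔ v ∈ FF δ
  rw [conic_iff]
  unfold FF
  rw [Finset.mem_biUnion]
  constructor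
  · rintro ⟨h1, h2⟩
    obtain ⟨ha0, ha12, hb⟩ := bounds hδ v h1 h2
    have hcast : ((v 0).toNat : ℤ) = v 0 := Int.toNat_of_nonneg ha0
    refine ⟨(v 0).toNat, ?_, ?_⟩
    · rw [Finset.mem_range]; omega
    · rw [Finset.mem_image]
      refine ⟨Fin.tail v, ?_, ?_⟩
      · rw [mem_GS]
        refine ⟨fun i => (mem_BZ 5 _).mpr ?_, ?_, ?_⟩
        · exact ⟨(hb i).1, by exact_mod_cast (hb i).2⟩
        · rw [hcast]; exact h2
        · rw [hcast]; exact h1
      · rw [hcast]; exact consZ_tail v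
  · rintro ⟨a, _, hv⟩
    rw [Finset.mem_image] at hv
    obtain ⟨g, hg, rfl⟩ := hv
    rw [mem_GS] at hg
    obtain ⟨_, h1, h2⟩ := hg
    simp only [consZ_zero, consZ_succ]
    exact ⟨h2, h1⟩

theorem key (δ : ℕ) (hδ : δ ≤ 8) : {v : DP δ | IsConic v}.ncard = total δ := by
  rw [conic_set δ hδ, Set.ncard_coe_finset, FF_card]

open W4c3severiratdp in
/-- Work in the lattice of vectors (a; b_1, …, b_δ), standing for divisor classes a ℓ − Σ b_i e_i on the
blow-up of the projective plane at δ points written in a standard basis, with intersection form a a'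
− Σ b_i b_i' and canonical class K = (−3; −1, …, −1); a conic class is a class Q with Q·Q = 0 and
K·Q = −2. Then the number of conic classes is 2160 for δ = 8, 126 for δ = 7, 27 for δ = 6, 10 for δ
= 5, 5 for δ = 4, 3 for δ = 3 and 2 for δ = 2. -/
theorem result :
    {v : DP 8 | IsConic v}.ncard = 2160 ∧ {v : DP 7 | IsConic v}.ncard = 126 ∧
      {v : DP 6 | IsConic v}.ncard = 27 ∧ {v : DP 5 | IsConic v}.ncard = 10 ∧
      {v : DP 4 | IsConic v}.ncard = 5 ∧ {v : DP 3 | IsConic v}.ncard = 3 ∧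
      {v : DP 2 | IsConic v}.ncard = 2 := by
  refine ⟨?_, ?_, ?_, ?_, ?_, ?_, ?_⟩
  · rw [key 8 (by norm_num)]; decide +kernel
  · rw [key 7 (by norm_num)]; decide +kernel
  · rw [key 6 (by norm_num)]; decide +kernel
  · rw [key 5 (by norm_num)]; decide +kernel
  · rw [key 4 (by norm_num)]; decide +kernel
  · rw [key 3 (by norm_num)]; decide +kernel
  · rw [key 2 (by norm_num)]; decide +kernel

end Groth.Agent.S15905
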