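import Groth.Statements.S15906
import Mathlib
import Groth.Agent.S15905

set_option autoImplicit false
open Surf

namespace Groth.Agent.S15906

open W4c3severiratdp

def L : List (DP 8) := [![1, 1, 0, 0, 0, 0, 0, 0, 0],
        ![2, 1, 1, 1, 1, 0, 0, 0, 0],
        ![3, 2, 1, 1, 1, 1, 1, 0, 0],
        ![4, 2, 2, 2, 1, 1, 1, 1, 0],
        ![4, 3, 1, 1, 1, 1, 1, 1, 1],
        ![5, 2, 2, 2, 2, 2, 2, 1, 0],
        ![5, 3, 2, 2, 2, 1, 1, 1, 1],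
        ![6, 3, 3, 2, 2, 2, 2, 1, 1],
        ![7, 3, 3, 3, 3, 2, 2, 2, 1],
        ![7, 4, 3, 2, 2, 2, 2, 2, 2],
        ![8, 4, 3, 3, 3, 3, 2, 2, 2],
        ![8, 3, 3, 3, 3, 3, 3, 3, 1],
        ![9, 4, 4, 3, 3, 3, 3, 3, 2],
        ![10, 4, 4, 4, 4, 3, 3, 3, 3],
        ![11, 4, 4, 4, 4, 4, 4, 4, 3]]

theorem mem_L_iff (t : DP 8) : t ∈ L ↔ t ∈ ({![1, 1, 0, 0, 0, 0, 0, 0, 0],
        ![2, 1, 1, 1, 1, 0, 0, 0, 0],
        ![3, 2, 1, 1, 1, 1, 1, 0, 0],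
        ![4, 2, 2, 2, 1, 1, 1, 1, 0],
        ![4, 3, 1, 1, 1, 1, 1, 1, 1],
        ![5, 2, 2, 2, 2, 2, 2, 1, 0],
        ![5, 3, 2, 2, 2, 1, 1, 1, 1],
        ![6, 3, 3, 2, 2, 2, 2, 1, 1],
        ![7, 3, 3, 3, 3, 2, 2, 2, 1],
        ![7, 4, 3, 2, 2, 2, 2, 2, 2],
        ![8, 4, 3, 3, 3, 3, 2, 2, 2],
        ![8, 3, 3, 3, 3, 3, 3, 3, 1],
        ![9, 4, 4, 3, 3, 3, 3, 3, 2],
        ![10, 4, 4, 4, 4, 3, 3, 3, 3],
        ![11, 4, 4, 4, 4, 4, 4, 4, 3]} : Set (DP 8)) := by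
  unfold L
  simp only [List.mem_cons, List.mem_singleton, List.not_mem_nil, or_false,
    Set.mem_insert_iff, Set.mem_singleton_iff]

theorem dec2 : ∀ a ∈ Finset.Icc (0:ℤ) 12, ∀ w0 ∈ Finset.Icc (0:ℤ) 5, ∀ w1 ∈ Finset.Icc (0:ℤ) w0,
    ∀ w2 ∈ Finset.Icc (0:ℤ) w1, ∀ w3 ∈ Finset.Icc (0:ℤ) w2, ∀ w4 ∈ Finset.Icc (0:ℤ) w3,
    ∀ w5 ∈ Finset.Icc (0:ℤ) w4, ∀ w6 ∈ Finset.Icc (0:ℤ) w5, ∀ w7 ∈ Finset.Icc (0:ℤ) w6,
    w0 + w1 + w2 + w3 + w4 + w5 + w6 + w7 = 3 * a - 2 →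
    w0 * w0 + w1 * w1 + w2 * w2 + w3 * w3 + w4 * w4 + w5 * w5 + w6 * w6 + w7 * w7 = a * a →
    (![a, w0, w1, w2, w3, w4, w5, w6, w7] : DP 8) ∈ L := by
  decide +kernel

theorem hL : ∀ t ∈ L, (∑ i : Fin 8, t i.succ * t i.succ = t 0 * t 0 ∧
    ∑ i : Fin 8, t i.succ = 3 * t 0 - 2) := by
  decide +kernel

theorem forward (v : DP 8) (hv : IsConic v) :
    ∃ t ∈ L, ∃ σ : Equiv.Perm (Fin 8), v 0 = t 0 ∧ ∀ i : Fin 8, v (σ i).succ = t i.succ := by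
  obtain ⟨h1, h2⟩ := (Groth.Agent.S15905.conic_iff v).mp hv
  obtain ⟨ha0, ha12, hb⟩ := Groth.Agent.S15905.bounds (le_refl 8) v h1 h2
  obtain ⟨σ, hσ⟩ : ∃ σ : Equiv.Perm (Fin 8), Antitone (fun i => v (σ i).succ) := by
    refine ⟨Fin.revPerm.trans (Tuple.sort (fun i : Fin 8 => v i.succ)), ?_⟩
    intro i j hij
    have hm := Tuple.monotone_sort (fun i : Fin 8 => v i.succ)
    have h3 : Fin.rev j ≤ Fin.rev i := Fin.rev_le_rev.mpr hij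
    exact hm h3
  obtain ⟨w, hw⟩ : ∃ w : Fin 8 → ℤ, ∀ i, w i = v (σ i).succ := ⟨_, fun _ => rfl⟩
  have hwb : ∀ i, 0 ≤ w i ∧ w i ≤ 5 := fun i => by rw [hw]; exact hb (σ i)
  have hwa : ∀ i j : Fin 8, i ≤ j → w j ≤ w i := fun i j hij => by
    rw [hw, hw]; exact hσ hij
  have e1 : ∑ i : Fin 8, w i = 3 * v 0 - 2 := by
    rw [← h2]
    have e3 : ∑ i : Fin 8, v (σ i).succ = ∑ i : Fin 8, v i.succ := Equiv.sum_comp σ (fun i : Fin 8 => v i.succ)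
    rw [← e3]
    exact Finset.sum_congr rfl (fun i _ => hw i)
  have e2 : ∑ i : Fin 8, w i * w i = v 0 * v 0 := by
    rw [← h1]
    have e3 : ∑ i : Fin 8, v (σ i).succ * v (σ i).succ = ∑ i : Fin 8, v i.succ * v i.succ :=
      Equiv.sum_comp σ (fun i : Fin 8 => v i.succ * v i.succ)
    rw [← e3]
    exact Finset.sum_congr rfl (fun i _ => by rw [hw i])
  rw [Fin.sum_univ_eight] at e1 e2
  have hmem := dec2 (v 0) (Finset.mem_Icc.mpr ⟨ha0, ha12⟩)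
    (w 0) (Finset.mem_Icc.mpr (hwb 0))
    (w 1) (Finset.mem_Icc.mpr ⟨(hwb 1).1, hwa 0 1 (by decide)⟩)
    (w 2) (Finset.mem_Icc.mpr ⟨(hwb 2).1, hwa 1 2 (by decide)⟩)
    (w 3) (Finset.mem_Icc.mpr ⟨(hwb 3).1, hwa 2 3 (by decide)⟩)
    (w 4) (Finset.mem_Icc.mpr ⟨(hwb 4).1, hwa 3 4 (by decide)⟩)
    (w 5) (Finset.mem_Icc.mpr ⟨(hwb 5).1, hwa 4 5 (by decide)⟩)
    (w 6) (Finset.mem_Icc.mpr ⟨(hwb 6).1, hwa 5 6 (by decide)⟩)
    (w 7) (Finset.mem_Icc.mpr ⟨(hwb 7).1, hwa 6 7 (by decide)⟩) e1 e2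
  refine ⟨_, hmem, σ, rfl, fun i => ?_⟩
  rw [← hw i]
  fin_cases i <;> rfl

theorem backward (v t : DP 8) (ht : t ∈ L) (σ : Equiv.Perm (Fin 8)) (h0 : v 0 = t 0)
    (hs : ∀ i : Fin 8, v (σ i).succ = t i.succ) : IsConic v := by
  rw [Groth.Agent.S15905.conic_iff]
  obtain ⟨e1, e2⟩ := hL t ht
  constructor
  · have e3 : ∑ i : Fin 8, v (σ i).succ * v (σ i).succ = ∑ i : Fin 8, v i.succ * v i.succ :=
      Equiv.sum_comp σ (fun i : Fin 8 => v i.succ * v i.succ)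
    rw [← e3, h0, ← e1]
    exact Finset.sum_congr rfl (fun i _ => by rw [hs i])
  · have e3 : ∑ i : Fin 8, v (σ i).succ = ∑ i : Fin 8, v i.succ := Equiv.sum_comp σ (fun i : Fin 8 => v i.succ)
    rw [← e3, h0, ← e2]
    exact Finset.sum_congr rfl (fun i _ => hs i)

open W4c3severiratdp in
/-- Work in the lattice of vectors (a; b_1, …, b_δ), standing for divisor classes a ℓ − Σ b_i e_i on the
blow-up of the projective plane at δ points written in a standard basis, with intersection form a a'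
− Σ b_i b_i' and canonical class K = (−3; −1, …, −1); a conic class is a class Q with Q·Q = 0 and
K·Q = −2, an exceptional class (the class of a (−1)-curve) is a class E with E·E = −1 and K·E = −1,
and the Weyl group W_δ is the group of additive automorphisms of the lattice preserving the form and
fixing K. For δ = 8, a class (a; b_1, …, b_8) is a conic class if and only if, up to a permutation
of b_1, …, b_8, it is one of the fifteen vectors (1; 1, 0, 0, 0, 0, 0, 0, 0), (2; 1, 1, 1, 1, 0, 0,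
0, 0), (3; 2, 1, 1, 1, 1, 1, 0, 0), (4; 2, 2, 2, 1, 1, 1, 1, 0), (4; 3, 1, 1, 1, 1, 1, 1, 1), (5; 2,
2, 2, 2, 2, 2, 1, 0), (5; 3, 2, 2, 2, 1, 1, 1, 1), (6; 3, 3, 2, 2, 2, 2, 1, 1), (7; 3, 3, 3, 3, 2,
2, 2, 1), (7; 4, 3, 2, 2, 2, 2, 2, 2), (8; 4, 3, 3, 3, 3, 2, 2, 2), (8; 3, 3, 3, 3, 3, 3, 3, 1), (9;
4, 4, 3, 3, 3, 3, 3, 2), (10; 4, 4, 4, 4, 3, 3, 3, 3), (11; 4, 4, 4, 4, 4, 4, 4, 3). (One line of
the published table is illegible in the available copy; the fifteen vectors here are the complete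
solution set of the two defining equations a² = Σ b_i², 3a − Σ b_i = 2.) -/
theorem result (v : DP 8) :
    IsConic v ↔
      ∃ t ∈ ({![1, 1, 0, 0, 0, 0, 0, 0, 0],
        ![2, 1, 1, 1, 1, 0, 0, 0, 0],
        ![3, 2, 1, 1, 1, 1, 1, 0, 0],
        ![4, 2, 2, 2, 1, 1, 1, 1, 0],
        ![4, 3, 1, 1, 1, 1, 1, 1, 1],
        ![5, 2, 2, 2, 2, 2, 2, 1, 0],
        ![5, 3, 2, 2, 2, 1, 1, 1, 1],
        ![6, 3, 3, 2, 2, 2, 2, 1, 1],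
        ![7, 3, 3, 3, 3, 2, 2, 2, 1],
        ![7, 4, 3, 2, 2, 2, 2, 2, 2],
        ![8, 4, 3, 3, 3, 3, 2, 2, 2],
        ![8, 3, 3, 3, 3, 3, 3, 3, 1],
        ![9, 4, 4, 3, 3, 3, 3, 3, 2],
        ![10, 4, 4, 4, 4, 3, 3, 3, 3],
        ![11, 4, 4, 4, 4, 4, 4, 4, 3]} : Set (DP 8)),
        ∃ σ : Equiv.Perm (Fin 8), v 0 = t 0 ∧ ∀ i : Fin 8, v (σ i).succ = t i.succ := by
  constructor
  · intro hv
    obtain ⟨t, ht, σ, h0, hs⟩ := forward v hv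
    exact ⟨t, (mem_L_iff t).mp ht, σ, h0, hs⟩
  · rintro ⟨t, ht, σ, h0, hs⟩
    exact backward v t ((mem_L_iff t).mpr ht) σ h0 hs

end Groth.Agent.S15906
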