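import Groth.Statements.S15941
import Mathlib

set_option autoImplicit false
universe u
open HTop

namespace Groth.Agent.S15941

/-- An integrally closed integral domain is a seminormal ring, that is, whenever x^3 = y^2 there is
exactly one element a with x = a^2 and y = a^3. (The published statement is for a normal Noetherian
scheme and reduces at once to this affine integral case; the Noetherian hypothesis plays no role.) -/
theorem result (A : Type u) [CommRing A] [IsDomain A]
    [IsIntegrallyClosed A] : HTop.IsSeminormalRing A := by
  intro x y hxy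
  by_cases hx : x = 0
  · subst hx
    have hy : y = 0 := by
      have : y ^ 2 = 0 := by rw [← hxy]; ring
      exact pow_eq_zero_iff (two_ne_zero) |>.mp this
    subst hy
    refine ⟨0, ⟨by ring, by ring⟩, ?_⟩
    rintro b ⟨hb, -⟩
    exact (pow_eq_zero_iff (two_ne_zero) |>.mp hb.symm)
  · set K := FractionRing A
    have hinj : Function.Injective (algebraMap A K) := IsFractionRing.injective A K
    have hxK : algebraMap A K x ≠ 0 := fun h => hx (hinj (by rw [h, map_zero]))
    set a' : K := algebraMap A K y / algebraMap A K x with ha'
    have hsq : a' ^ 2 = algebraMap A K x := by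
      rw [ha', div_pow, ← map_pow, ← hxy, map_pow, div_eq_iff (pow_ne_zero 2 hxK)]
      ring
    have hint : IsIntegral A a' := by
      refine ⟨Polynomial.X ^ 2 - Polynomial.C x, Polynomial.monic_X_pow_sub_C x two_ne_zero, ?_⟩
      simp [hsq]
    obtain ⟨a, ha⟩ := IsIntegrallyClosed.isIntegral_iff.mp hint
    have ha2 : x = a ^ 2 := by
      apply hinj
      rw [map_pow, ha, hsq]
    have ha3 : y = a ^ 3 := by
      apply hinj
      have : algebraMap A K y = a' * algebraMap A K x := by
        rw [ha', div_mul_cancel₀ _ hxK]
      rw [this, map_pow, ha, ← hsq]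
      ring
    refine ⟨a, ⟨ha2, ha3⟩, ?_⟩
    rintro b ⟨hb2, hb3⟩
    have hb0 : b ^ 2 ≠ 0 := by rw [← hb2]; exact hx
    have h1 : b * b ^ 2 = a * b ^ 2 := by
      have e1 : b * b ^ 2 = b ^ 3 := by ring
      have e2 : a * b ^ 2 = a ^ 3 := by rw [← hb2, ha2]; ring
      rw [e1, e2, ← hb3, ← ha3]
    exact mul_right_cancel₀ hb0 h1

end Groth.Agent.S15941
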