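import Groth.Statements.S16001
import Mathlib

set_option autoImplicit false
universe u
open FrobAlg

namespace Groth.Agent.S16001

open TensorProduct in
theorem key (p : ℕ) [Fact p.Prime] (A : Type u) [CommRing A] [CharP A p]
    (B : Type u) [CommRing B] [Algebra A B] [CharP B p]
    (h : Function.Bijective (FrobAlg.relFrob p A B))
    (C : Type u) [CommRing C] [Algebra A C] [CharP C p] (I : Ideal C) (hI : I ^ 2 = ⊥) :
    Function.Bijective ((Ideal.Quotient.mkₐ A I).comp : (B →ₐ[A] C) → B →ₐ[A] C ⧸ I) := by
  have hp : p.Prime := Fact.out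
  have hIp : ∀ i ∈ I, i ^ p = 0 := by
    intro i hi
    have h2 : i ^ 2 ∈ I ^ 2 := Ideal.pow_mem_pow hi 2
    rw [hI] at h2
    have h2' : i ^ 2 = 0 := h2
    obtain ⟨m, hm⟩ := Nat.exists_eq_add_of_le hp.two_le
    rw [hm, pow_add, h2', zero_mul]
  -- elements of B are sums of b^p * a
  have hrel : ∀ (b : B) (a : FrobAlg.Twist p A),
      FrobAlg.relFrob p A B (b ⊗ₜ[A] a) = b ^ p * algebraMap A B ((FrobAlg.toTwist p A).symm a) := by
    intro b a
    simp [FrobAlg.relFrob, FrobAlg.frobHom, FrobAlg.inclHom, FrobAlg.toTarget, frobenius_def] <;> rfl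
  constructor
  · intro g1 g2 hg
    have hd : ∀ b : B, g1 b - g2 b ∈ I := by
      intro b
      have := DFunLike.congr_fun hg b
      simp only [AlgHom.comp_apply, Ideal.Quotient.mkₐ_eq_mk] at this
      exact (Ideal.Quotient.eq).mp this
    have hpow : ∀ b : B, g1 b ^ p = g2 b ^ p := by
      intro b
      have := hIp _ (hd b)
      rw [sub_pow_char, sub_eq_zero] at this
      exact this
    ext b'
    obtain ⟨t, rfl⟩ := h.2 b'
    induction t using TensorProduct.induction_on with
    | zero => simp
    | add x y hx hy => rw [map_add, map_add, map_add, hx, hy]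
    | tmul b a =>
      rw [hrel, map_mul, map_mul, map_pow, map_pow, hpow, AlgHom.commutes, AlgHom.commutes]
  · intro g
    -- Frobenius factors through C ⧸ I
    let Fbar : C ⧸ I →+* C := Ideal.Quotient.lift I (frobenius C p) (fun i hi => by
      rw [frobenius_def]; exact hIp i hi)
    have hFbar : ∀ c : C, Fbar (Ideal.Quotient.mk I c) = c ^ p := fun c => by
      simp [Fbar, frobenius_def]
    have hmkF : ∀ x : C ⧸ I, Ideal.Quotient.mk I (Fbar x) = x ^ p := by
      intro x
      obtain ⟨c, rfl⟩ := Ideal.Quotient.mk_surjective x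
      rw [hFbar, map_pow]
    let f : B →ₐ[A] FrobAlg.Target p A C :=
      { toRingHom := ((FrobAlg.toTarget p A C : C →+* FrobAlg.Target p A C).comp Fbar).comp g.toRingHom
        commutes' := by
          intro a
          show FrobAlg.toTarget p A C (Fbar (g (algebraMap A B a))) = _
          rw [AlgHom.commutes, FrobAlg.algebraMap_target]
          congr 1 }
    let hh : FrobAlg.BaseChange p A B →ₐ[A] FrobAlg.Target p A C :=
      Algebra.TensorProduct.lift f (FrobAlg.inclHom p A C) (fun _ _ => Commute.all _ _)
    let e : FrobAlg.BaseChange p A B ≃+* B := RingEquiv.ofBijective (FrobAlg.relFrob p A B) h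
    let gt : B →+* C := ((FrobAlg.toTarget p A C).symm : FrobAlg.Target p A C →+* C).comp
      (hh.toRingHom.comp (e.symm : B →+* FrobAlg.BaseChange p A B))
    have hgt : ∀ (b : B) (a : FrobAlg.Twist p A), gt (FrobAlg.relFrob p A B (b ⊗ₜ[A] a)) =
        Fbar (g b) * algebraMap A C ((FrobAlg.toTwist p A).symm a) := by
      intro b a
      have : e.symm (FrobAlg.relFrob p A B (b ⊗ₜ[A] a)) = b ⊗ₜ[A] a :=
        e.symm_apply_apply (b ⊗ₜ[A] a)
      show (FrobAlg.toTarget p A C).symm (hh (e.symm (FrobAlg.relFrob p A B (b ⊗ₜ[A] a)))) = _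
      rw [this]
      simp [hh, f, FrobAlg.inclHom, FrobAlg.toTarget] <;> rfl
    let gt' : B →ₐ[A] C :=
      { toRingHom := gt
        commutes' := by
          intro a
          have h1 : algebraMap A B a = FrobAlg.relFrob p A B ((1 : B) ⊗ₜ[A] FrobAlg.toTwist p A a) := by
            rw [hrel, one_pow, one_mul, RingEquiv.symm_apply_apply]
          show gt (algebraMap A B a) = _
          rw [h1, hgt, map_one, map_one, one_mul, RingEquiv.symm_apply_apply] }
    refine ⟨gt', ?_⟩
    ext b'
    obtain ⟨t, rfl⟩ := h.2 b'
    induction t using TensorProduct.induction_on with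
    | zero => simp
    | add x y hx hy => rw [map_add, map_add, map_add, hx, hy]
    | tmul b a =>
      show Ideal.Quotient.mk I (gt (FrobAlg.relFrob p A B (b ⊗ₜ[A] a))) = _
      rw [hgt, map_mul, hmkF, hrel, map_mul, map_pow, AlgHom.commutes]
      rfl


/-- Let A be a commutative ring of prime characteristic p and B a commutative A-algebra of
characteristic p such that the relative Frobenius B ⊗_{A,Frob} A → B, b ⊗ a ↦ b^p a, is bijective
(that is, Spec B → Spec A is relatively perfect; no finiteness condition is imposed). Then B is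
formally étale over A. (The source proves that every perfect algebraic stack over an algebraic space
of characteristic p is formally étale over it; this is the case of an affine scheme over an affine
base.) -/
theorem result (p : ℕ) [Fact p.Prime] (A : Type u) [CommRing A] [CharP A p]
    (B : Type u) [CommRing B] [Algebra A B] [CharP B p]
    (h : Function.Bijective (FrobAlg.relFrob p A B)) : Algebra.FormallyEtale A B := by
  rw [Algebra.FormallyEtale.iff_comp_bijective]
  intro C _ _ I hI
  by_cases hC : Nontrivial C
  · have hp : p.Prime := Fact.out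
    have hp0 : ((p : ℕ) : C) = 0 := by
      have : ((p : ℕ) : A) = 0 := CharP.cast_eq_zero A p
      have h2 := congrArg (algebraMap A C) this
      rwa [map_natCast, map_zero] at h2
    have hrc : ringChar C = p := CharP.ringChar_of_prime_eq_zero hp hp0
    have : CharP C p := by
      rw [← hrc]
      exact ringChar.charP C
    exact key p A B h C I hI
  · rw [not_nontrivial_iff_subsingleton] at hC
    constructor
    · intro g1 g2 _
      ext b
      exact Subsingleton.elim _ _
    · intro g
      refine ⟨⟨⟨⟨⟨fun _ => 0, Subsingleton.elim _ _⟩, fun _ _ => Subsingleton.elim _ _⟩,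
        Subsingleton.elim _ _, fun _ _ => Subsingleton.elim _ _⟩, fun _ => Subsingleton.elim _ _⟩, ?_⟩
      ext b
      exact Subsingleton.elim _ _

end Groth.Agent.S16001
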