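import Groth.Statements.S16015
import Mathlib

set_option autoImplicit false
universe u v w
open W4c3ghconstell

namespace Groth.Agent.S16015

/-- Let B be a commutative ring, E a B-module, F a finitely generated projective B-module and β : E → F
a B-linear map. Then there is a unique ideal I of B such that for every commutative B-algebra C the
base change β_C : C ⊗ E → C ⊗ F is zero if and only if the structure map B → C kills I. (The
published statement is for a homomorphism of modules on a scheme T into a locally free module and
produces a closed subscheme T₀ through which a morphism factors exactly when the pulled-back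
homomorphism vanishes; this row is the case of an affine T with affine test schemes and F of finite
rank, to which it reduces.) -/
theorem result {B : Type u} [CommRing B]
    {E : Type v} [AddCommGroup E] [Module B E]
    {F : Type w} [AddCommGroup F] [Module B F] [Module.Finite B F] [Module.Projective B F]
    (β : E →ₗ[B] F) :
    ∃! I : Ideal B, ∀ (C : Type u) [CommRing C] [Algebra B C],
      LinearMap.baseChange C β = 0 ↔ I ≤ RingHom.ker (algebraMap B C) := by
  classical
  obtain ⟨s, hs⟩ := (Module.Projective.out : ∃ s : F →ₗ[B] F →₀ B,
    Function.LeftInverse (Finsupp.linearCombination B id) s)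
  let I : Ideal B := Ideal.span {b | ∃ (φ : F →ₗ[B] B) (e : E), b = φ (β e)}
  have hI : ∀ (C : Type u) [CommRing C] [Algebra B C],
      LinearMap.baseChange C β = 0 ↔ I ≤ RingHom.ker (algebraMap B C) := by
    intro C _ _
    constructor
    · intro h0
      rw [Ideal.span_le]
      rintro b ⟨φ, e, rfl⟩
      rw [SetLike.mem_coe, RingHom.mem_ker]
      have h1 : LinearMap.baseChange C β ((1 : C) ⊗ₜ[B] e) = 0 := by rw [h0]; rfl
      rw [LinearMap.baseChange_tmul] at h1
      have h2 := congrArg (fun t => TensorProduct.rid B C (LinearMap.baseChange C φ t)) h1
      simp only [LinearMap.baseChange_tmul, TensorProduct.rid_tmul, map_zero] at h2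
      rw [Algebra.algebraMap_eq_smul_one]
      exact h2
    · intro hle
      apply LinearMap.ext
      intro t
      induction t using TensorProduct.induction_on with
      | zero => simp
      | add x y hx hy =>
        rw [map_add, hx, hy]
        simp
      | tmul c e =>
        rw [LinearMap.baseChange_tmul, LinearMap.zero_apply]
        have hsum : β e = ∑ y ∈ (s (β e)).support, (s (β e)) y • y := by
          have := hs (β e)
          rw [Finsupp.linearCombination_apply, Finsupp.sum] at this
          exact this.symm
        rw [hsum, TensorProduct.tmul_sum]
        apply Finset.sum_eq_zero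
        intro y _
        have hmem : (s (β e)) y ∈ I := by
          apply Ideal.subset_span
          exact ⟨(Finsupp.lapply y).comp s, e, rfl⟩
        have hker := hle hmem
        rw [RingHom.mem_ker] at hker
        rw [TensorProduct.tmul_smul, TensorProduct.smul_tmul', Algebra.smul_def, hker, zero_mul,
          TensorProduct.zero_tmul]
  refine ⟨I, hI, ?_⟩
  intro I' hI'
  apply le_antisymm
  · -- I' ≤ I : test on C = B ⧸ I
    have h1 : LinearMap.baseChange (B ⧸ I) β = 0 := by
      rw [hI]
      rw [Ideal.Quotient.algebraMap_eq, Ideal.mk_ker]
    have h2 := (hI' (B ⧸ I)).1 h1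
    rwa [Ideal.Quotient.algebraMap_eq, Ideal.mk_ker] at h2
  · have h1 : LinearMap.baseChange (B ⧸ I') β = 0 := by
      rw [hI']
      rw [Ideal.Quotient.algebraMap_eq, Ideal.mk_ker]
    have h2 := (hI (B ⧸ I')).1 h1
    rwa [Ideal.Quotient.algebraMap_eq, Ideal.mk_ker] at h2

end Groth.Agent.S16015
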