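import Groth.Statements.S16016
import Mathlib

set_option autoImplicit false
universe u
open W4c3ghconstell

namespace Groth.Agent.S16016

/-- Let k be a field with 2 ≠ 0, index k⁶ by two copies of {0,1,2} (basis vectors p₁, p₂, p₃ in the
first copy and p₄, p₅, p₆ in the second), let Q be the symmetric matrix with blocks ((0, 1), (1,
0)), so that the form it defines pairs pᵢ with pᵢ₊₃, and let W₀ be the span of p₁ and p₂. Then a 6 ×
6 matrix A satisfies AᵀQ + QA = 0 (A lies in the orthogonal Lie algebra of Q) and has the image of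
Aᵀ contained in W₀ if and only if A = a · (E₄₂ − E₅₁) for some scalar a, where Eᵢⱼ is the matrix
unit. (The lemma in the source concludes that the set of such A inside a certain nilpotent orbit
closure of this Lie algebra is one-dimensional; this row is the computation its proof performs,
which determines all such A in the Lie algebra. Characteristic 2 is excluded: there E₁₄ᵀ also
qualifies.) -/
theorem result (k : Type u) [Field k] (h2 : (2 : k) ≠ 0)
    (A : Matrix (Fin 3 ⊕ Fin 3) (Fin 3 ⊕ Fin 3) k) :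
    (A.transpose * Matrix.fromBlocks (0 : Matrix (Fin 3) (Fin 3) k) 1 1 0 +
        Matrix.fromBlocks (0 : Matrix (Fin 3) (Fin 3) k) 1 1 0 * A = 0 ∧
      LinearMap.range (Matrix.mulVecLin A.transpose) ≤
        Submodule.span k {Pi.single (Sum.inl 0 : Fin 3 ⊕ Fin 3) (1 : k), Pi.single (Sum.inl 1 : Fin 3 ⊕ Fin 3) (1 : k)}) ↔
    ∃ a : k, A = a • (Matrix.single (Sum.inr 0) (Sum.inl 1) (1 : k) - Matrix.single (Sum.inr 1) (Sum.inl 0) (1 : k)) := by
  classical
  have h2_ne : (2 : k) ≠ 0 := h2
  set Q : Matrix (Fin 3 ⊕ Fin 3) (Fin 3 ⊕ Fin 3) k :=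
    Matrix.fromBlocks (0 : Matrix (Fin 3) (Fin 3) k) 1 1 0 with hQdef
  have hQ : ∀ a b, Q a b = if a = Sum.swap b then 1 else 0 := by
    intro a b
    rcases a with a | a <;> rcases b with b | b <;> simp [hQdef, Matrix.one_apply]
  have hsw : ∀ i k' : Fin 3 ⊕ Fin 3, (i = Sum.swap k') ↔ (k' = Sum.swap i) := by
    intro i k'
    constructor
    · intro h; rw [h, Sum.swap_swap]
    · intro h; rw [h, Sum.swap_swap]
  have hentry : ∀ i j, (A.transpose * Q + Q * A) i j = A (Sum.swap j) i + A (Sum.swap i) j := by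
    intro i j
    simp only [Matrix.add_apply, Matrix.mul_apply, Matrix.transpose_apply, hQ, hsw]
    simp [Finset.sum_ite_eq']
  have hF2 : A.transpose * Q + Q * A = 0 ↔
      ∀ i j, A (Sum.swap j) i + A (Sum.swap i) j = 0 := by
    constructor
    · intro h i j
      rw [← hentry, h]; rfl
    · intro h
      ext i j
      rw [hentry, h]; rfl
  set S : Submodule k (Fin 3 ⊕ Fin 3 → k) := Submodule.span k
    {Pi.single (Sum.inl 0 : Fin 3 ⊕ Fin 3) (1 : k), Pi.single (Sum.inl 1 : Fin 3 ⊕ Fin 3) (1 : k)}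
    with hS
  have hSmem : ∀ v : Fin 3 ⊕ Fin 3 → k, v ∈ S ↔
      (v (Sum.inl 2) = 0 ∧ v (Sum.inr 0) = 0 ∧ v (Sum.inr 1) = 0 ∧ v (Sum.inr 2) = 0) := by
    intro v
    rw [hS, Submodule.mem_span_pair]
    constructor
    · rintro ⟨a, b, rfl⟩
      simp
    · rintro ⟨h1, h2, h3, h4⟩
      refine ⟨v (Sum.inl 0), v (Sum.inl 1), ?_⟩
      funext x
      rcases x with x | x <;> fin_cases x <;> simp [h1, h2, h3, h4]
  have hF1 : LinearMap.range (Matrix.mulVecLin A.transpose) ≤ S ↔
      ∀ l, (A l (Sum.inl 2) = 0 ∧ A l (Sum.inr 0) = 0 ∧ A l (Sum.inr 1) = 0 ∧ A l (Sum.inr 2) = 0) := by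
    constructor
    · intro h l
      have hmem : Matrix.mulVecLin A.transpose (Pi.single l 1) ∈ S := h ⟨_, rfl⟩
      rw [hSmem] at hmem
      simpa [Matrix.mulVecLin_apply, Matrix.mulVec_single_one] using hmem
    · rintro h _ ⟨v, rfl⟩
      rw [hSmem]
      simp only [Matrix.mulVecLin_apply, Matrix.mulVec, dotProduct, Matrix.transpose_apply]
      refine ⟨?_, ?_, ?_, ?_⟩ <;>
      · apply Finset.sum_eq_zero
        intro l _
        simp [(h l).1, (h l).2.1, (h l).2.2.1, (h l).2.2.2]
  rw [hF2, hF1]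
  constructor
  · rintro ⟨h2, h1⟩
    refine ⟨A (Sum.inr 0) (Sum.inl 1), ?_⟩
    have e00 : A (Sum.inr 0) (Sum.inl 0) = 0 := by
      have := h2 (Sum.inl 0) (Sum.inl 0)
      simp only [Sum.swap_inl] at this
      have h3 : (2 : k) * A (Sum.inr 0) (Sum.inl 0) = 0 := by rw [two_mul]; exact this
      exact (mul_eq_zero.1 h3).resolve_left h2_ne
    have e11 : A (Sum.inr 1) (Sum.inl 1) = 0 := by
      have := h2 (Sum.inl 1) (Sum.inl 1)
      simp only [Sum.swap_inl] at this
      have h3 : (2 : k) * A (Sum.inr 1) (Sum.inl 1) = 0 := by rw [two_mul]; exact this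
      exact (mul_eq_zero.1 h3).resolve_left h2_ne
    have e10 : A (Sum.inr 1) (Sum.inl 0) = -A (Sum.inr 0) (Sum.inl 1) := by
      have := h2 (Sum.inl 0) (Sum.inl 1)
      simp only [Sum.swap_inl] at this
      exact eq_neg_of_add_eq_zero_left this
    -- general vanishing: A l c = - A (swap c) (swap l)
    have hgen : ∀ l c, A l c = -A (Sum.swap c) (Sum.swap l) := by
      intro l c
      have := h2 c (Sum.swap l)
      rw [Sum.swap_swap] at this
      exact eq_neg_of_add_eq_zero_left this
    ext i j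
    rcases i with i | i <;> rcases j with j | j <;> fin_cases i <;> fin_cases j <;>
      simp [e00, e11, e10, (h1 _).1, (h1 _).2.1, (h1 _).2.2.1, (h1 _).2.2.2] <;>
      (rw [hgen]; simp [(h1 _).1, (h1 _).2.1, (h1 _).2.2.1, (h1 _).2.2.2])
  · rintro ⟨a, rfl⟩
    constructor
    · intro i j
      rcases i with i | i <;> rcases j with j | j <;> fin_cases i <;> fin_cases j <;>
        simp
    · intro l
      rcases l with l | l <;> fin_cases l <;> simp

end Groth.Agent.S16016
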