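import Groth.Statements.S16017
import Mathlib

set_option autoImplicit false
universe u
open W4c3ghconstell

namespace Groth.Agent.S16017

/-- Let ι index the irreducible representations, θ : ι → ℚ a weight negative at only finitely many
indices (the finite set D₋), h h' : ι → ℕ with h' ≤ h pointwise (the isotypic dimensions of an
object and of a sub-object) and Σ_i θ_i h_i summable. For a finite set D of indices put S_D = Σ_{i ∉
D} θ_i h_i, d = #(D ∖ D₋), and θ̃_D = Σ_{i ∈ D} θ_i h'_i + (S_D / d) · Σ_{i ∈ D ∖ D₋} h'_i / h_i,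
the modified weight attached to the parameters chosen for D (for D ⊇ D₋ the first sum is the
negative part plus the part over D ∖ D₋). Then θ̃_D tends to Σ_i θ_i h'_i as D grows through the
finite subsets of ι. (Here D runs over all finite sets of indices and a quotient by zero is zero;
the source lets D run over the finite subsets of the locus θ ≠ 0 containing D₋, and the same tail
estimate gives both.) -/
theorem result {ι : Type u} [DecidableEq ι] (θ : ι → ℚ) (h h' : ι → ℕ)
    (hle : ∀ i, h' i ≤ h i) (hfin : {i | θ i < 0}.Finite)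
    (hsum : Summable (fun i => (θ i : ℝ) * (h i : ℝ))) :
    Filter.Tendsto
      (fun D : Finset ι =>
        (∑ i ∈ D, (θ i : ℝ) * (h' i : ℝ)) +
          ((∑' i, if i ∈ D then (0 : ℝ) else (θ i : ℝ) * (h i : ℝ)) / ((D \ hfin.toFinset).card : ℝ)) *
            ∑ i ∈ D \ hfin.toFinset, ((h' i : ℝ) / (h i : ℝ)))
      Filter.atTop (nhds (∑' i, (θ i : ℝ) * (h' i : ℝ))) := by
  classical
  have hT : ∀ (w : ι → ℝ), Summable w → ∀ E : Finset ι,
      (∑' i, if i ∈ E then (0 : ℝ) else w i) = (∑' i, w i) - ∑ i ∈ E, w i := by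
    intro w hw E
    have hfE : Summable (fun i => if i ∈ E then w i else 0) :=
      summable_of_ne_finset_zero (s := E) (fun i hi => if_neg hi)
    have hsumE : ∑' i, (if i ∈ E then w i else 0) = ∑ i ∈ E, w i := by
      rw [tsum_eq_sum (s := E) (fun i hi => if_neg hi)]
      exact Finset.sum_congr rfl (fun i hi => if_pos hi)
    have hgE : (fun i => if i ∈ E then (0 : ℝ) else w i)
        = fun i => w i - (if i ∈ E then w i else 0) := by
      funext i; by_cases hi : i ∈ E <;> simp [hi]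
    rw [hgE, Summable.tsum_sub hw hfE, hsumE]
  have hsum' : Summable (fun i => (θ i : ℝ) * (h' i : ℝ)) := by
    refine Summable.of_norm_bounded hsum.abs (fun i => ?_)
    rw [Real.norm_eq_abs, abs_mul, abs_mul]
    refine mul_le_mul_of_nonneg_left ?_ (abs_nonneg _)
    rw [abs_of_nonneg (Nat.cast_nonneg _), abs_of_nonneg (Nat.cast_nonneg _)]
    exact_mod_cast hle i
  have h1 : Filter.Tendsto (fun D : Finset ι => ∑ i ∈ D, (θ i : ℝ) * (h' i : ℝ)) Filter.atTop
      (nhds (∑' i, (θ i : ℝ) * (h' i : ℝ))) := hsum'.hasSum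
  have hTt : Filter.Tendsto
      (fun D : Finset ι => ∑' i, if i ∈ D then (0 : ℝ) else (θ i : ℝ) * (h i : ℝ))
      Filter.atTop (nhds 0) := by
    have h0 : Filter.Tendsto (fun D : Finset ι => ∑ i ∈ D, (θ i : ℝ) * (h i : ℝ)) Filter.atTop
      (nhds (∑' i, (θ i : ℝ) * (h i : ℝ))) := hsum.hasSum
    have := (tendsto_const_nhds (x := ∑' i, (θ i : ℝ) * (h i : ℝ))
      (f := (Filter.atTop : Filter (Finset ι)))).sub h0
    rw [sub_self] at this
    exact this.congr (fun D => (hT _ hsum D).symm)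
  have hTabs := hTt.abs
  rw [abs_zero] at hTabs
  have h2 : Filter.Tendsto (fun D : Finset ι =>
      ((∑' i, if i ∈ D then (0 : ℝ) else (θ i : ℝ) * (h i : ℝ)) /
          ((D \ hfin.toFinset).card : ℝ)) *
            ∑ i ∈ D \ hfin.toFinset, ((h' i : ℝ) / (h i : ℝ))) Filter.atTop (nhds 0) := by
    refine squeeze_zero_norm (fun D => ?_) hTabs
    rw [Real.norm_eq_abs]
    obtain ⟨T, hTd⟩ : ∃ T : ℝ, T = ∑' i, if i ∈ D then (0 : ℝ) else (θ i : ℝ) * (h i : ℝ) :=
      ⟨_, rfl⟩
    obtain ⟨A, hA⟩ : ∃ A : ℝ, A = ∑ i ∈ D \ hfin.toFinset, ((h' i : ℝ) / (h i : ℝ)) := ⟨_, rfl⟩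
    obtain ⟨c, hc⟩ : ∃ c : ℝ, c = ((D \ hfin.toFinset).card : ℝ) := ⟨_, rfl⟩
    rw [← hTd, ← hA, ← hc]
    have hA0 : 0 ≤ A := by
      rw [hA]
      exact Finset.sum_nonneg (fun σ _ => div_nonneg (Nat.cast_nonneg _) (Nat.cast_nonneg _))
    have hA1 : A ≤ c := by
      rw [hA, hc]
      calc ∑ σ ∈ D \ hfin.toFinset, ((h' σ : ℝ) / (h σ : ℝ))
          ≤ ∑ σ ∈ D \ hfin.toFinset, (1 : ℝ) :=
            Finset.sum_le_sum (fun σ _ =>
              div_le_one_of_le₀ (by exact_mod_cast hle σ) (Nat.cast_nonneg _))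
        _ = ((D \ hfin.toFinset).card : ℝ) := by simp
    have hcnn : 0 ≤ c := by rw [hc]; exact Nat.cast_nonneg _
    by_cases hc0 : c = 0
    · rw [hc0, div_zero, zero_mul, abs_zero]; exact abs_nonneg _
    · have hcpos : 0 < c := lt_of_le_of_ne hcnn (Ne.symm hc0)
      rw [abs_mul, abs_div, abs_of_nonneg hA0, abs_of_pos hcpos]
      calc |T| / c * A ≤ |T| / c * c :=
            mul_le_mul_of_nonneg_left hA1 (div_nonneg (abs_nonneg _) hcpos.le)
        _ = |T| := div_mul_cancel₀ _ hc0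
  have := h1.add h2
  rw [add_zero] at this
  exact this

end Groth.Agent.S16017
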