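import Groth.Statements.S16030
import Mathlib

set_option autoImplicit false
universe u
open CAlg

namespace Groth.Agent.S16030

/-- For a finite set F of points of the spectrum of a commutative ring A and an open subset U containing
F, some basic open D(a) contains F and is contained in U. -/
theorem result
    (A : Type u) [CommRing A] (F : Set (PrimeSpectrum A)) (hF : F.Finite)
    (U : TopologicalSpace.Opens (PrimeSpectrum A)) (hFU : F ⊆ (U : Set (PrimeSpectrum A))) :
    ∃ a : A, F ⊆ (PrimeSpectrum.basicOpen a : Set (PrimeSpectrum A)) ∧ PrimeSpectrum.basicOpen a ≤ U := by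
  classical
  obtain ⟨I, hI⟩ : ∃ I : Ideal A, (U : Set (PrimeSpectrum A)) = (PrimeSpectrum.zeroLocus (I : Set A))ᶜ := by
    have hU : IsClosed ((U : Set (PrimeSpectrum A))ᶜ) := U.isOpen.isClosed_compl
    obtain ⟨I, hI⟩ := (PrimeSpectrum.isClosed_iff_zeroLocus_ideal _).1 hU
    exact ⟨I, by rw [← hI, compl_compl]⟩
  rcases F.eq_empty_or_nonempty with rfl | ⟨p0, hp0⟩
  · exact ⟨0, Set.empty_subset _, by simp⟩
  have hnot : ¬ ((I : Set A) ⊆ ⋃ p ∈ (hF.toFinset : Set (PrimeSpectrum A)), ((p.asIdeal : Ideal A) : Set A)) := by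
    rw [Ideal.subset_union_prime (f := fun p : PrimeSpectrum A => p.asIdeal) p0 p0 (fun p _ _ _ => p.isPrime)]
    rintro ⟨p, hp, hle⟩
    have hpF : p ∈ F := hF.mem_toFinset.1 hp
    have : p ∈ (U : Set (PrimeSpectrum A)) := hFU hpF
    rw [hI] at this
    exact this hle
  rw [Set.not_subset] at hnot
  obtain ⟨a, haI, hau⟩ := hnot
  refine ⟨a, ?_, ?_⟩
  · intro p hp
    simp only [Set.mem_iUnion, not_exists] at hau
    have := hau p (hF.mem_toFinset.2 hp)
    exact this
  · intro q hq
    show q ∈ (U : Set (PrimeSpectrum A))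
    rw [hI]
    intro hle
    exact hq (hle haI)

end Groth.Agent.S16030
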