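import Groth.Statements.S16075
import Mathlib

set_option autoImplicit false
universe u
open Hopf

namespace Groth.Agent.S16075

open TensorProduct

theorem coord_pow (p : ℕ) (T : Type u) [CommRing T] [Nontrivial T] (i : Fin p) (l : ℕ)
    (hl : l < p) :
    (AlphaP.basis p T).coord i (AlphaP.x p T ^ l) = if l = i then 1 else 0 := by
  have : AlphaP.x p T ^ l = AlphaP.basis p T ⟨l, hl⟩ := by rw [AlphaP.basis_apply]
  rw [this, Module.Basis.coord_apply, Module.Basis.repr_self, Finsupp.single_apply]
  simp [Fin.ext_iff]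

theorem key (p : ℕ) [hp : Fact p.Prime] (T : Type u) [CommRing T] [CharP T p] [Nontrivial T]
    (k : Fin p) (m : ℕ) (hm : m < p) :
    (LinearMap.mul' T T ∘ₗ TensorProduct.map ((AlphaP.basis p T).coord ⟨1, hp.out.one_lt⟩)
        ((AlphaP.basis p T).coord k))
      (Coalgebra.comul (R := T) (AlphaP.x p T ^ m)) = if m = (k : ℕ) + 1 then (m : T) else 0 := by
  rw [Bialgebra.comul_pow, AlphaP.comul_x, add_pow, map_sum]
  have hterm : ∀ l ∈ Finset.range (m + 1),
      (LinearMap.mul' T T ∘ₗ TensorProduct.map ((AlphaP.basis p T).coord ⟨1, hp.out.one_lt⟩)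
        ((AlphaP.basis p T).coord k))
        ((AlphaP.x p T ⊗ₜ[T] (1 : AlphaP.A p T)) ^ l * ((1 : AlphaP.A p T) ⊗ₜ[T] AlphaP.x p T) ^ (m - l)
          * ((m.choose l : ℕ) : AlphaP.A p T ⊗[T] AlphaP.A p T)) =
        (if l = 1 then 1 else 0) * (if m - l = (k : ℕ) then 1 else 0) * (m.choose l : T) := by
    intro l hl
    rw [Finset.mem_range] at hl
    rw [Algebra.TensorProduct.tmul_pow, Algebra.TensorProduct.tmul_pow, one_pow, one_pow,
      Algebra.TensorProduct.tmul_mul_tmul, mul_one, one_mul, ← nsmul_eq_mul', map_nsmul,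
      LinearMap.comp_apply, TensorProduct.map_tmul, LinearMap.mul'_apply,
      coord_pow p T _ l (by omega), coord_pow p T _ (m - l) (by omega), nsmul_eq_mul']
  rw [Finset.sum_congr rfl hterm]
  rw [Finset.sum_eq_single 1]
  · by_cases h : m = (k : ℕ) + 1
    · rw [if_pos h, if_pos rfl, one_mul, if_pos (by omega), one_mul, Nat.choose_one_right]
    · rw [if_neg h]
      by_cases h0 : m - 1 = (k : ℕ)
      · have : m = 0 := by omega
        subst this
        simp
      · rw [if_neg h0]; simp
  · intro l _ hl1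
    rw [if_neg hl1, zero_mul, zero_mul]
  · intro h1
    rw [Finset.mem_range] at h1
    have : m = 0 := by omega
    subst this
    simp

/-- Let p be a prime, T a commutative ring of characteristic p (p = 0 in T, T nonzero) and A =
T[X]/(X^p) the Hopf algebra of α_p over Spec T, with X primitive. Then the endomorphisms of the
T-group α_{p,T} are exactly the scalings: every T-bialgebra endomorphism f of A has f(X) = λ·X for a
unique λ ∈ T, and for every λ ∈ T there is a T-bialgebra endomorphism f of A with f(X) = λ·X. So the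
endomorphisms of α_{p,T} correspond bijectively to the elements of T. (Only this bijection is
stated; that it turns addition and composition of endomorphisms into addition and multiplication in
T, and its naturality in T, are not stated here. The zero ring, allowed as T in the published
statement, is excluded by the characteristic hypothesis here.) -/
theorem result (p : ℕ) [Fact p.Prime] (T : Type u) [CommRing T] [CharP T p] :
    (∀ f : AlphaP.A p T →ₐc[T] AlphaP.A p T, ∃! c : T, f (AlphaP.x p T) = c • AlphaP.x p T) ∧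
      (∀ c : T, ∃ f : AlphaP.A p T →ₐc[T] AlphaP.A p T, f (AlphaP.x p T) = c • AlphaP.x p T) := by
  have hp : p.Prime := Fact.out
  have hnt : Nontrivial T := CharP.nontrivial_of_char_ne_one (R := T) (v := p) hp.ne_one
  classical
  have hx1 : AlphaP.x p T = AlphaP.basis p T ⟨1, hp.one_lt⟩ := by rw [AlphaP.basis_apply, pow_one]
  refine ⟨?_, ?_⟩
  · intro f
    obtain ⟨b, hb⟩ : ∃ b, b = f (AlphaP.x p T) := ⟨_, rfl⟩
    rw [← hb]
    have hΔ : Coalgebra.comul (R := T) b = b ⊗ₜ[T] 1 + 1 ⊗ₜ[T] b := by
      rw [hb, ← CoalgHomClass.map_comp_comul_apply, AlphaP.comul_x, map_add, TensorProduct.map_tmul,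
        TensorProduct.map_tmul]
      simp
    -- coefficients of b
    have hrepr : b = ∑ i : Fin p, (AlphaP.basis p T).repr b i • AlphaP.x p T ^ (i : ℕ) := by
      conv_lhs => rw [← (AlphaP.basis p T).sum_repr b]
      exact Finset.sum_congr rfl fun i _ => by rw [AlphaP.basis_apply]
    have hcoef : ∀ k : Fin p, ∀ hk : (k : ℕ) + 1 < p,
        (AlphaP.basis p T).repr b ⟨(k : ℕ) + 1, hk⟩ * (((k : ℕ) + 1 : ℕ) : T) =
          (AlphaP.basis p T).coord ⟨1, hp.one_lt⟩ b * (if (k : ℕ) = 0 then 1 else 0) := by
      intro k hk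
      have h1 : (LinearMap.mul' T T ∘ₗ TensorProduct.map ((AlphaP.basis p T).coord ⟨1, hp.one_lt⟩)
          ((AlphaP.basis p T).coord k)) (Coalgebra.comul (R := T) b) =
          (AlphaP.basis p T).repr b ⟨(k : ℕ) + 1, hk⟩ * (((k : ℕ) + 1 : ℕ) : T) := by
        conv_lhs => rw [hrepr]
        rw [map_sum, map_sum]
        simp only [map_smul]
        rw [Finset.sum_congr rfl fun i _ => by rw [key p T k i i.2]]
        rw [Finset.sum_eq_single ⟨(k : ℕ) + 1, hk⟩]
        · rw [if_pos rfl, smul_eq_mul]
        · intro i _ hi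
          rw [if_neg (fun h => hi (Fin.ext h)), smul_zero]
        · intro h; exact absurd (Finset.mem_univ _) h
      rw [← h1, hΔ, map_add, LinearMap.comp_apply, LinearMap.comp_apply, TensorProduct.map_tmul,
        TensorProduct.map_tmul, LinearMap.mul'_apply, LinearMap.mul'_apply]
      have e1 : (1 : AlphaP.A p T) = AlphaP.x p T ^ 0 := (pow_zero _).symm
      rw [e1, coord_pow p T _ 0 hp.pos, coord_pow p T _ 0 hp.pos]
      simp [eq_comm]
    have hzero : ∀ i : Fin p, (i : ℕ) ≠ 1 → (AlphaP.basis p T).repr b i = 0 := by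
      intro i hi
      by_cases h0 : (i : ℕ) = 0
      · have hcb : Coalgebra.counit (R := T) b = 0 := by
          rw [hb, CoalgHomClass.counit_comp_apply, AlphaP.counit_x]
        rw [hrepr, map_sum] at hcb
        simp only [map_smul, Bialgebra.counit_pow, AlphaP.counit_x, smul_eq_mul] at hcb
        rw [Finset.sum_eq_single i] at hcb
        · rw [h0, pow_zero, mul_one] at hcb
          exact hcb
        · intro j _ hj
          have : (j : ℕ) ≠ 0 := fun h => hj (Fin.ext (h.trans h0.symm))
          rw [zero_pow this, mul_zero]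
        · intro h; exact absurd (Finset.mem_univ _) h
      · have hk : ((⟨(i : ℕ) - 1, by omega⟩ : Fin p) : ℕ) + 1 < p := by
          show (i : ℕ) - 1 + 1 < p
          omega
        have h2 := hcoef ⟨(i : ℕ) - 1, by omega⟩ hk
        have hne : ((⟨(i : ℕ) - 1, by omega⟩ : Fin p) : ℕ) ≠ 0 := by
          show (i : ℕ) - 1 ≠ 0
          omega
        rw [if_neg hne, mul_zero] at h2
        have hu : IsUnit ((((⟨(i : ℕ) - 1, by omega⟩ : Fin p) : ℕ) + 1 : ℕ) : T) := by
          rw [CharP.isUnit_natCast_iff hp]
          intro hdvd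
          have := Nat.le_of_dvd (Nat.succ_pos _) hdvd
          omega
        have h3 := hu.mul_left_eq_zero.mp h2
        have hi' : (⟨((⟨(i : ℕ) - 1, by omega⟩ : Fin p) : ℕ) + 1, hk⟩ : Fin p) = i := by
          apply Fin.ext
          show (i : ℕ) - 1 + 1 = i
          omega
        rw [hi'] at h3
        exact h3
    have hb1 : b = (AlphaP.basis p T).repr b ⟨1, hp.one_lt⟩ • AlphaP.x p T := by
      conv_lhs => rw [hrepr]
      rw [Finset.sum_eq_single ⟨1, hp.one_lt⟩]
      · rw [pow_one]
      · intro j _ hj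
        rw [hzero j (fun h => hj (Fin.ext h)), zero_smul]
      · intro h; exact absurd (Finset.mem_univ _) h
    refine ⟨(AlphaP.basis p T).repr b ⟨1, hp.one_lt⟩, hb1, ?_⟩
    intro c' hc'
    have := congrArg (fun t => (AlphaP.basis p T).repr t ⟨1, hp.one_lt⟩) hc'
    simp only [map_smul, Finsupp.smul_apply, smul_eq_mul] at this
    rw [hx1, Module.Basis.repr_self, Finsupp.single_eq_same, mul_one] at this
    exact this.symm
  · intro c
    have hcp : (c • AlphaP.x p T) ^ p = 0 := by rw [smul_pow, AlphaP.x_pow, smul_zero]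
    refine ⟨BialgHom.ofAlgHom (AlphaP.lift p T (c • AlphaP.x p T) hcp) ?_ ?_, ?_⟩
    · apply AlphaP.algHom_ext
      simp
    · apply AlphaP.algHom_ext
      simp [TensorProduct.smul_tmul', TensorProduct.tmul_smul, smul_add]
    · simp

end Groth.Agent.S16075
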