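import Groth.Statements.S16076
import Mathlib

set_option autoImplicit false
universe u
open scoped TensorProduct
open Versch

namespace Groth.Agent.S16076

open TensorProduct

theorem comul_x_pow (p : ℕ) [hp : Fact p.Prime] (R : Type u) [CommRing R] [CharP R p] (m : ℕ) :
    Coalgebra.comul (R := R) (AlphaP.x p R ^ m) =
      ∑ l ∈ Finset.range (m + 1), (m.choose l) • ((AlphaP.x p R ^ l) ⊗ₜ[R] (AlphaP.x p R ^ (m - l))) := by
  rw [Bialgebra.comul_pow, AlphaP.comul_x, add_pow]
  refine Finset.sum_congr rfl fun l _ => ?_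
  rw [Algebra.TensorProduct.tmul_pow, Algebra.TensorProduct.tmul_pow, one_pow, one_pow,
    Algebra.TensorProduct.tmul_mul_tmul, mul_one, one_mul, ← nsmul_eq_mul']

theorem conv_apply_x_pow (p : ℕ) [hp : Fact p.Prime] (R : Type u) [CommRing R] [CharP R p]
    (y z : CartDual.D R (AlphaP.A p R)) (m : ℕ) :
    (y * z) (AlphaP.x p R ^ m) =
      ∑ l ∈ Finset.range (m + 1), (m.choose l) • (y (AlphaP.x p R ^ l) * z (AlphaP.x p R ^ (m - l))) := by
  rw [LinearMap.convMul_apply, comul_x_pow, map_sum, map_sum]
  refine Finset.sum_congr rfl fun l _ => ?_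
  rw [map_nsmul, map_nsmul, TensorProduct.map_tmul, LinearMap.mul'_apply]

theorem pow_apply_eq_zero (p : ℕ) [hp : Fact p.Prime] (R : Type u) [CommRing R] [CharP R p]
    (y : CartDual.D R (AlphaP.A p R)) (hy : y 1 = 0) :
    ∀ k m : ℕ, m < k → (y ^ k) (AlphaP.x p R ^ m) = 0 := by
  intro k
  induction k with
  | zero => intro m hm; omega
  | succ k ih =>
    intro m hm
    rw [pow_succ', conv_apply_x_pow]
    refine Finset.sum_eq_zero fun l hl => ?_
    rw [Finset.mem_range] at hl
    by_cases h0 : l = 0
    · subst h0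
      rw [pow_zero, hy, zero_mul, smul_zero]
    · rw [ih (m - l) (by omega), mul_zero, smul_zero]

theorem pow_p_apply (p : ℕ) [hp : Fact p.Prime] (R : Type u) [CommRing R] [CharP R p]
    (x : CartDual.D R (AlphaP.A p R)) (a : AlphaP.A p R) :
    (x ^ p) a = (x 1) ^ p * Coalgebra.counit (R := R) a := by
  have hnt : Nontrivial R := CharP.nontrivial_of_char_ne_one (R := R) (v := p) hp.out.ne_one
  obtain ⟨y, hy⟩ : ∃ y : CartDual.D R (AlphaP.A p R),
      y = x - algebraMap R (CartDual.D R (AlphaP.A p R)) (x 1) := ⟨_, rfl⟩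
  have hy1 : y 1 = 0 := by
    rw [hy]
    simp [CartDual.coe_apply, LinearMap.convAlgebraMap_apply]
  have hyp : y ^ p = 0 := by
    apply WithConv.ext
    apply (AlphaP.basis p R).ext
    intro i
    rw [AlphaP.basis_apply]
    exact pow_apply_eq_zero p R y hy1 p i i.2
  have hx : x = y + algebraMap R (CartDual.D R (AlphaP.A p R)) (x 1) := by rw [hy]; ring
  have hxp : x ^ p = algebraMap R (CartDual.D R (AlphaP.A p R)) ((x 1) ^ p) := by
    conv_lhs => rw [hx]
    rw [add_pow_char, hyp, zero_add, ← map_pow]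
  rw [hxp, LinearMap.convAlgebraMap_apply, smul_eq_mul]
  rfl

/-- Let p be a prime, R a commutative ring of characteristic p and A = R[X]/(X^p) the Hopf algebra of
α_p over Spec R, with X primitive. Let v : A → A ⊗_R R^(Frob) be the comorphism of the Verschiebung
V : α_p^(p) → α_p (the ring map whose transpose under the canonical pairing is the relative
Frobenius of the dual Hopf algebra Hom_R(A, R)). Then V is the trivial homomorphism: v is the
composite of the counit ε : A → R, the identity of underlying rings R → R^(Frob) and the inclusion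
of the twisted factor R^(Frob) → A ⊗_R R^(Frob), i.e. v(a) = 1 ⊗ ε(a). (Any commutative base ring of
characteristic p is allowed.) -/
theorem result (p : ℕ) [Fact p.Prime] (R : Type u) [CommRing R] [CharP R p]
    (v : AlphaP.A p R →+* FrobAlg.BaseChange p R (AlphaP.A p R))
    (hv : Versch.IsVerschiebung p R (AlphaP.A p R) v) :
    v = ((Algebra.TensorProduct.includeRight (R := R) (A := AlphaP.A p R) (B := FrobAlg.Twist p R)).toRingHom.comp
          (FrobAlg.toTwist p R).toRingHom).comp (Bialgebra.counitAlgHom R (AlphaP.A p R)).toRingHom := by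
  refine Versch.IsVerschiebung.unique p R _ hv ?_
  rw [Versch.isVerschiebung_iff]
  intro a x
  rw [pow_p_apply]
  show Versch.evTw p R (AlphaP.A p R) x
    ((1 : AlphaP.A p R) ⊗ₜ[R] FrobAlg.toTwist p R (Coalgebra.counit (R := R) a)) = _
  rw [Versch.evTw_tmul', map_mul]

end Groth.Agent.S16076
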