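import Groth.Statements.S16071
import Mathlib
import Groth.Agent.S16075
import Groth.Agent.S16076

set_option autoImplicit false
universe u
open CartDual

namespace Groth.Agent.S16071

open TensorProduct Groth.Agent.S16075 Groth.Agent.S16076

variable (p : ℕ) [hp : Fact p.Prime] (R : Type u) [CommRing R] [CharP R p]

/-- the functional dual to `x`. -/
noncomputable def delta [Nontrivial R] : CartDual.D R (AlphaP.A p R) :=
  WithConv.toConv ((AlphaP.basis p R).coord ⟨1, hp.out.one_lt⟩)

theorem delta_apply [Nontrivial R] (l : ℕ) (hl : l < p) :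
    delta p R (AlphaP.x p R ^ l) = if l = 1 then 1 else 0 := by
  have := coord_pow p R ⟨1, hp.out.one_lt⟩ l hl
  exact this

theorem delta_one [Nontrivial R] : delta p R 1 = 0 := by
  have := delta_apply p R 0 hp.out.pos
  rw [pow_zero] at this
  rw [this, if_neg (by norm_num)]

theorem delta_pow_apply [Nontrivial R] (k m : ℕ) (hm : m < p) :
    (delta p R ^ k) (AlphaP.x p R ^ m) = if m = k then (k.factorial : R) else 0 := by
  induction k generalizing m with
  | zero =>
    rw [pow_zero, LinearMap.convOne_apply, Bialgebra.counit_pow, AlphaP.counit_x]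
    by_cases h : m = 0
    · subst h; simp
    · rw [if_neg h, zero_pow h, map_zero]
  | succ k ih =>
    rw [pow_succ', conv_apply_x_pow]
    by_cases hm0 : m = 0
    · subst hm0
      rw [Finset.sum_eq_zero, if_neg (by omega)]
      intro l hl
      rw [Finset.mem_range] at hl
      have : l = 0 := by omega
      subst this
      rw [pow_zero, delta_one, zero_mul, smul_zero]
    rw [Finset.sum_eq_single 1]
    · rw [delta_apply p R 1 (by omega), if_pos rfl, one_mul, ih (m - 1) (by omega),
        Nat.choose_one_right]
      by_cases h : m = k + 1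
      · rw [if_pos h, if_pos (by omega), h, Nat.factorial_succ, nsmul_eq_mul]
        push_cast
        ring
      · rw [if_neg h, if_neg (by omega), smul_zero]
    · intro l hl hl1
      rw [Finset.mem_range] at hl
      rw [delta_apply p R l (by omega), if_neg hl1, zero_mul, smul_zero]
    · intro h
      rw [Finset.mem_range] at h
      omega

theorem delta_comul [Nontrivial R] :
    Coalgebra.comul (R := R) (delta p R) = delta p R ⊗ₜ[R] 1 + 1 ⊗ₜ[R] delta p R := by
  apply (CartDual.ev₂ R (AlphaP.A p R)).injective
  apply ((AlphaP.basis p R).tensorProduct (AlphaP.basis p R)).ext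
  rintro ⟨i, j⟩
  rw [Module.Basis.tensorProduct_apply, AlphaP.basis_apply, AlphaP.basis_apply,
    CartDual.ev₂_coalgebra_comul_tmul, map_add, LinearMap.add_apply, CartDual.ev₂_tmul,
    CartDual.ev₂_tmul, ← pow_add]
  rw [delta_apply p R i i.2, delta_apply p R j j.2, LinearMap.convOne_apply,
    LinearMap.convOne_apply, Bialgebra.counit_pow, Bialgebra.counit_pow, AlphaP.counit_x]
  by_cases hij : (i : ℕ) + j < p
  · rw [delta_apply p R _ hij]
    rcases Nat.eq_zero_or_pos (i : ℕ) with hi | hi <;> rcases Nat.eq_zero_or_pos (j : ℕ) with hj | hj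
    · simp [hi, hj]
    · simp [hi, hj.ne']
    · simp [hj, hi.ne']
    · rw [zero_pow hi.ne', zero_pow hj.ne', if_neg (by omega)]
      simp
  · rw [AlphaP.x_pow_of_le p R (by omega : p ≤ (i : ℕ) + j), map_zero]
    have hi : (i : ℕ) ≠ 0 := by omega
    have hj : (j : ℕ) ≠ 0 := by omega
    rw [zero_pow hi, zero_pow hj]
    simp

theorem delta_pow_p [Nontrivial R] : delta p R ^ p = 0 := by
  apply WithConv.ext
  apply (AlphaP.basis p R).ext
  intro i
  rw [AlphaP.basis_apply]
  exact pow_apply_eq_zero p R (delta p R) (delta_one p R) p i i.2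


/-- Let p be a prime, R a commutative ring of characteristic p and A = R[X]/(X^p) the Hopf algebra of
α_p over Spec R, with X primitive. Then the Cartier dual of α_p is again α_p: there is a bialgebra
isomorphism e from the dual Hopf algebra Hom_R(A, R), with the transposed structure maps, to A,
whose inverse sends X to the linear form dual to X with respect to the basis 1, X, …, X^{p-1} of A
(so e⁻¹(X) takes the value 1 on X and 0 on the other powers X^i, i < p). (Any commutative base ring
of characteristic p is allowed.) -/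
theorem result (p : ℕ) [Fact p.Prime] (R : Type u) [CommRing R] [CharP R p] :
    ∃ e : CartDual.D R (AlphaP.A p R) ≃ₐc[R] AlphaP.A p R,
      ∀ i : ℕ, i < p → (e.symm (AlphaP.x p R)) (AlphaP.x p R ^ i) = if i = 1 then 1 else 0 := by
  have hpr : p.Prime := Fact.out
  have hnt : Nontrivial R := CharP.nontrivial_of_char_ne_one (R := R) (v := p) hpr.ne_one
  classical
  let g0 : AlphaP.A p R →ₐ[R] CartDual.D R (AlphaP.A p R) :=
    AlphaP.lift p R (delta p R) (delta_pow_p p R)
  have hg0x : g0 (AlphaP.x p R) = delta p R := AlphaP.lift_x _ _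
  let g : AlphaP.A p R →ₐc[R] CartDual.D R (AlphaP.A p R) :=
    BialgHom.ofAlgHom g0
      (by
        apply AlphaP.algHom_ext
        rw [AlgHom.comp_apply, hg0x]
        show (delta p R) 1 = Coalgebra.counit (R := R) (AlphaP.x p R)
        rw [delta_one, AlphaP.counit_x])
      (by
        apply AlphaP.algHom_ext
        rw [AlgHom.comp_apply, AlgHom.comp_apply, hg0x]
        show Algebra.TensorProduct.map g0 g0 (Coalgebra.comul (R := R) (AlphaP.x p R)) =
          Coalgebra.comul (R := R) (delta p R)
        rw [AlphaP.comul_x, map_add, Algebra.TensorProduct.map_tmul, Algebra.TensorProduct.map_tmul,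
          hg0x, map_one, delta_comul])
  have hgx : g (AlphaP.x p R) = delta p R := hg0x
  have hgpow : ∀ (k m : ℕ), m < p →
      (g (AlphaP.x p R ^ k)) (AlphaP.x p R ^ m) = if m = k then (k.factorial : R) else 0 := by
    intro k m hm
    have hgk : g (AlphaP.x p R ^ k) = delta p R ^ k := by rw [map_pow, hgx]
    rw [hgk, delta_pow_apply p R k m hm]
  have hunit : ∀ m : ℕ, m < p → IsUnit (m.factorial : R) := by
    intro m hm
    rw [CharP.isUnit_natCast_iff hpr, hpr.dvd_factorial]
    omega
  have hga : ∀ (a : AlphaP.A p R) (m : Fin p),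
      (g a) (AlphaP.x p R ^ (m : ℕ)) = (AlphaP.basis p R).repr a m * ((m : ℕ).factorial : R) := by
    intro a m
    have ha : g a = ∑ i : Fin p, (AlphaP.basis p R).repr a i • g (AlphaP.x p R ^ (i : ℕ)) := by
      conv_lhs => rw [← (AlphaP.basis p R).sum_repr a]
      rw [map_sum]
      simp only [map_smul, AlphaP.basis_apply]
    rw [ha, CartDual.coe_apply, WithConv.ofConv_sum, LinearMap.sum_apply,
      Finset.sum_eq_single m]
    · rw [WithConv.ofConv_smul, LinearMap.smul_apply, ← CartDual.coe_apply, hgpow _ _ m.2,
        if_pos rfl, smul_eq_mul]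
    · intro i _ hi
      rw [WithConv.ofConv_smul, LinearMap.smul_apply, ← CartDual.coe_apply, hgpow _ _ m.2,
        if_neg (fun h => hi (Fin.ext h.symm)), smul_zero]
    · intro h; exact absurd (Finset.mem_univ _) h
  have hbij : Function.Bijective g := by
    constructor
    · rw [injective_iff_map_eq_zero]
      intro a ha
      apply (AlphaP.basis p R).repr.injective
      ext m
      have h1 := hga a m
      rw [ha] at h1
      have h2 : (AlphaP.basis p R).repr a m * ((m : ℕ).factorial : R) = 0 := by
        rw [← h1]; rfl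
      rw [map_zero, Finsupp.zero_apply]
      exact (hunit m m.2).mul_left_eq_zero.mp h2
    · intro y
      refine ⟨∑ i : Fin p, ((hunit i i.2).unit⁻¹ : Rˣ).1 • (y (AlphaP.x p R ^ (i : ℕ))) •
        AlphaP.x p R ^ (i : ℕ), ?_⟩
      apply WithConv.ext
      apply (AlphaP.basis p R).ext
      intro m
      rw [AlphaP.basis_apply, ← CartDual.coe_apply, hga]
      have hrep : (AlphaP.basis p R).repr (∑ i : Fin p, ((hunit i i.2).unit⁻¹ : Rˣ).1 •
          (y (AlphaP.x p R ^ (i : ℕ))) • AlphaP.x p R ^ (i : ℕ)) m =
          ((hunit m m.2).unit⁻¹ : Rˣ).1 * y (AlphaP.x p R ^ (m : ℕ)) := by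
        rw [map_sum, Finsupp.finsetSum_apply, Finset.sum_eq_single m]
        · rw [map_smul, map_smul, ← AlphaP.basis_apply, Module.Basis.repr_self]
          simp
        · intro i _ hi
          rw [map_smul, map_smul, ← AlphaP.basis_apply, Module.Basis.repr_self]
          simp [hi]
        · intro h; exact absurd (Finset.mem_univ _) h
      rw [hrep, mul_comm, ← mul_assoc]
      have : ((m : ℕ).factorial : R) * ((hunit m m.2).unit⁻¹ : Rˣ).1 = 1 := by
        exact (hunit m m.2).mul_val_inv
      rw [this, one_mul]
  refine ⟨(BialgEquiv.ofBijective g hbij).symm, ?_⟩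
  intro i hi
  show (g (AlphaP.x p R)) (AlphaP.x p R ^ i) = _
  rw [hgx]
  exact delta_apply p R i hi

end Groth.Agent.S16071
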