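import Groth.Statements.S16072
import Mathlib

set_option autoImplicit false
universe u
open Hopf

namespace Groth.Agent.S16072

/-- Let p be a prime and R a commutative ring of characteristic p (p = 0 in R, R nonzero). Then the
constant group scheme ℤ/p and the group scheme μ_p of p-th roots of unity over Spec R are not
isomorphic: there is no R-bialgebra isomorphism between the Hopf algebra Maps(ℤ/p, R) of functions
on the cyclic group of order p and the group algebra R[ℤ/p]. (Any nonzero commutative base ring of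
characteristic p is allowed. The published statement allows any ring R with p·R = 0; over the zero
ring both Hopf algebras are the zero ring and hence isomorphic, so R is assumed nonzero here.) -/
theorem result (p : ℕ) [Fact p.Prime] (R : Type u) [CommRing R]
    [CharP R p] :
    IsEmpty (ConstGrp.F R (Multiplicative (ZMod p)) ≃ₐc[R] MonoidAlgebra R (Multiplicative (ZMod p))) := by
  constructor
  intro φ'
  have hp : p.Prime := Fact.out
  have : Nontrivial R := CharP.nontrivial_of_char_ne_one (R := R) (v := p) hp.ne_one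
  classical
  let φ : ConstGrp.F R (Multiplicative (ZMod p)) ≃ₐ[R] MonoidAlgebra R (Multiplicative (ZMod p)) :=
    φ'.toAlgEquiv
  have : CharP (MonoidAlgebra R (Multiplicative (ZMod p))) p :=
    charP_of_injective_algebraMap
      (Bialgebra.algebraMap_injective (R := R) (MonoidAlgebra R (Multiplicative (ZMod p)))) p
  obtain ⟨g, hg⟩ : ∃ g : Multiplicative (ZMod p), g = Multiplicative.ofAdd (1 : ZMod p) := ⟨_, rfl⟩
  have hg1 : g ≠ 1 := by
    rw [hg]
    intro h
    have h2 : (1 : ZMod p) = 0 := Multiplicative.ofAdd.injective h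
    have : Fact (1 < p) := ⟨hp.one_lt⟩
    exact one_ne_zero h2
  have hgp : g ^ p = 1 := by
    rw [hg, ← ofAdd_nsmul]
    simp
  obtain ⟨y, hy⟩ : ∃ y : MonoidAlgebra R (Multiplicative (ZMod p)),
      y = MonoidAlgebra.single g (1 : R) - 1 := ⟨_, rfl⟩
  have hyp : y ^ p = 0 := by
    rw [hy, sub_pow_char, MonoidAlgebra.single_pow, hgp, one_pow, one_pow]
    rw [MonoidAlgebra.one_def, sub_self]
  obtain ⟨f, hf⟩ : ∃ f, f = φ.symm y := ⟨_, rfl⟩
  have hfp : f ^ p = 0 := by rw [hf, ← map_pow, hyp, map_zero]
  have hnil : ∀ g, f g ∈ nilradical R := by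
    intro g
    rw [mem_nilradical]
    refine ⟨p, ?_⟩
    have := congrFun hfp g
    exact this
  obtain ⟨c, hc⟩ : ∃ c : MonoidAlgebra R (Multiplicative (ZMod p)) →ₗ[R] R,
      c = (Finsupp.lapply g) ∘ₗ (MonoidAlgebra.coeffLinearEquiv R).toLinearMap := ⟨_, rfl⟩
  have hc1 : c y = 1 := by
    rw [hc, hy, map_sub, MonoidAlgebra.one_def]
    simp [Finsupp.lapply_apply, MonoidAlgebra.coeffLinearEquiv, hg1, Ne.symm hg1]
  have hx : y = φ f := by rw [hf]; simp
  rw [hx, ConstGrp.eq_sum_smul_e f] at hc1
  simp only [map_sum, map_smul, smul_eq_mul] at hc1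
  have hmem : (1 : R) ∈ nilradical R := by
    rw [← hc1]
    exact Ideal.sum_mem _ fun g _ => Ideal.mul_mem_right _ _ (hnil g)
  rw [mem_nilradical] at hmem
  obtain ⟨n, hn⟩ := hmem
  rw [one_pow] at hn
  exact one_ne_zero hn

end Groth.Agent.S16072
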