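import Groth.Statements.S16073
import Mathlib

set_option autoImplicit false
universe u
open Hopf

namespace Groth.Agent.S16073

/-- Let p be a prime and R a commutative ring of characteristic p (p = 0 in R, R nonzero). Then the
constant group scheme ℤ/p and α_p over Spec R are not isomorphic: there is no R-bialgebra
isomorphism between the Hopf algebra Maps(ℤ/p, R) of functions on the cyclic group of order p and
the Hopf algebra R[X]/(X^p) of α_p (X primitive). (Any nonzero commutative base ring of
characteristic p is allowed. The published statement allows any ring R with p·R = 0; over the zero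
ring both Hopf algebras are the zero ring and hence isomorphic, so R is assumed nonzero here.) -/
theorem result (p : ℕ) [Fact p.Prime] (R : Type u) [CommRing R] [CharP R p] :
    IsEmpty (ConstGrp.F R (Multiplicative (ZMod p)) ≃ₐc[R] AlphaP.A p R) := by
  constructor
  intro φ'
  have hp : p.Prime := Fact.out
  have : Nontrivial R := CharP.nontrivial_of_char_ne_one (R := R) (v := p) hp.ne_one
  classical
  let φ : ConstGrp.F R (Multiplicative (ZMod p)) ≃ₐ[R] AlphaP.A p R := φ'.toAlgEquiv
  obtain ⟨f, hf⟩ : ∃ f, f = φ.symm (AlphaP.x p R) := ⟨_, rfl⟩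
  have hfp : f ^ p = 0 := by rw [hf, ← map_pow, AlphaP.x_pow, map_zero]
  have hnil : ∀ g, f g ∈ nilradical R := by
    intro g
    rw [mem_nilradical]
    refine ⟨p, ?_⟩
    have := congrFun hfp g
    exact this
  obtain ⟨c, hc⟩ : ∃ c : AlphaP.A p R →ₗ[R] R, c = (AlphaP.basis p R).coord ⟨1, hp.one_lt⟩ := ⟨_, rfl⟩
  have hc1 : c (AlphaP.x p R) = 1 := by
    have : AlphaP.x p R = AlphaP.basis p R ⟨1, hp.one_lt⟩ := by rw [AlphaP.basis_apply, pow_one]
    rw [hc, Module.Basis.coord_apply]
    conv_lhs => rw [this]
    rw [Module.Basis.repr_self, Finsupp.single_eq_same]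
  have hx : AlphaP.x p R = φ f := by rw [hf]; simp
  rw [hx, ConstGrp.eq_sum_smul_e f] at hc1
  simp only [map_sum, map_smul, smul_eq_mul] at hc1
  have hmem : (1 : R) ∈ nilradical R := by
    rw [← hc1]
    exact Ideal.sum_mem _ fun g _ => Ideal.mul_mem_right _ _ (hnil g)
  rw [mem_nilradical] at hmem
  obtain ⟨n, hn⟩ := hmem
  rw [one_pow] at hn
  exact one_ne_zero hn

end Groth.Agent.S16073
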