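import Groth.Statements.S16074
import Mathlib

set_option autoImplicit false
universe u
open Hopf TensorProduct

namespace Groth.Agent.S16074

/-- Let p be a prime and R a commutative ring of characteristic p (p = 0 in R, R nonzero). Then μ_p and
α_p over Spec R are not isomorphic: there is no R-bialgebra isomorphism between the group algebra
R[ℤ/p] of the cyclic group of order p (group elements group-like) and the Hopf algebra R[X]/(X^p) of
α_p (X primitive), although the underlying R-algebras R[ℤ/p] = R[Y]/(Y^p) and R[X]/(X^p) are
isomorphic. (Any nonzero commutative base ring of characteristic p is allowed. The published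
statement allows any ring R with p·R = 0; over the zero ring both Hopf algebras are the zero ring
and hence isomorphic, so R is assumed nonzero here.) -/
theorem result (p : ℕ) [Fact p.Prime] (R : Type u) [CommRing R] [CharP R p] :
    IsEmpty (MonoidAlgebra R (Multiplicative (ZMod p)) ≃ₐc[R] AlphaP.A p R) := by
  constructor
  intro φ
  have hp : p.Prime := Fact.out
  have : Nontrivial R := CharP.nontrivial_of_char_ne_one (R := R) (v := p) hp.ne_one
  classical
  -- coefficient functionals
  let c : Multiplicative (ZMod p) → (MonoidAlgebra R (Multiplicative (ZMod p)) →ₗ[R] R) :=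
    fun g => (Finsupp.lapply g) ∘ₗ (MonoidAlgebra.coeffLinearEquiv R).toLinearMap
  have hcs : ∀ g h (r : R), c g (MonoidAlgebra.single h r) = if h = g then r else 0 := by
    intro g h r
    simp [c, MonoidAlgebra.coeffLinearEquiv, Finsupp.single_apply]
  let T : Multiplicative (ZMod p) →
      (MonoidAlgebra R (Multiplicative (ZMod p)) ⊗[R] MonoidAlgebra R (Multiplicative (ZMod p))
        →ₗ[R] R) :=
    fun g => LinearMap.mul' R R ∘ₗ TensorProduct.map (c g) (c g)
  have hT : ∀ g, T g ∘ₗ Coalgebra.comul = c g := by
    intro g
    apply MonoidAlgebra.lhom_ext'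
    intro h
    apply LinearMap.ext
    intro r
    simp only [LinearMap.comp_apply, MonoidAlgebra.lsingle_apply, MonoidAlgebra.comul_single,
      CommSemiring.comul_apply, TensorProduct.map_tmul, T, LinearMap.mul'_apply, hcs]
    split_ifs <;> simp
  obtain ⟨b, hb⟩ : ∃ b, b = φ.symm (AlphaP.x p R) := ⟨_, rfl⟩
  have hΔ : Coalgebra.comul (R := R) b = b ⊗ₜ[R] 1 + 1 ⊗ₜ[R] b := by
    rw [hb, ← CoalgHomClass.map_comp_comul_apply, AlphaP.comul_x, map_add, TensorProduct.map_tmul,
      TensorProduct.map_tmul]
    simp
  have hb0 : b = 0 := by
    have hcb : ∀ g, c g b = 0 := by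
      intro g
      have h1 := LinearMap.congr_fun (hT g) b
      rw [LinearMap.comp_apply, hΔ, map_add] at h1
      simp only [T, LinearMap.comp_apply, TensorProduct.map_tmul, LinearMap.mul'_apply,
        MonoidAlgebra.one_def, hcs] at h1
      by_cases hg : (1 : Multiplicative (ZMod p)) = g
      · rw [if_pos hg, mul_one, one_mul] at h1
        have : c g b + c g b = c g b + 0 := by rw [add_zero]; exact h1
        exact add_left_cancel this
      · rw [if_neg hg, mul_zero, zero_mul, add_zero] at h1
        exact h1.symm
    apply MonoidAlgebra.ext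
    ext g
    exact hcb g
  have hx0 : AlphaP.x p R = 0 := by
    have : AlphaP.x p R = φ b := by rw [hb]; simp
    rw [this, hb0, map_zero]
  have hx1 : AlphaP.x p R = AlphaP.basis p R ⟨1, hp.one_lt⟩ := by rw [AlphaP.basis_apply, pow_one]
  exact (AlphaP.basis p R).ne_zero ⟨1, hp.one_lt⟩ (hx1 ▸ hx0)

end Groth.Agent.S16074
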