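import Groth.Statements.S1615
import Mathlib

set_option autoImplicit false
universe u
open CategoryTheory CategoryTheory.Limits AlgebraicGeometry
open Constr

namespace Groth.Agent.S1615

/-- For a graded ring A, quasi-compactness of Proj A is equivalent to the existence of finitely many
homogeneous elements of positive degree generating an ideal whose radical contains the irrelevant
ideal A_+. -/
theorem result {R A : Type u} [CommRing R] [CommRing A] [Algebra R A] (𝒜 : ℕ → Submodule R A) [GradedAlgebra 𝒜] :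
    CompactSpace ↥(Proj 𝒜) ↔ ∃ s : Finset A, (∀ f ∈ s, ∃ d : ℕ, 0 < d ∧ f ∈ 𝒜 d) ∧
      (HomogeneousIdeal.irrelevant 𝒜).toIdeal ≤ (Ideal.span (s : Set A)).radical := by
  classical
  constructor
  · intro hc
    haveI := hc
    have hcov : ∀ x : Proj 𝒜, ∃ f : {f : A // ∃ d : ℕ, 0 < d ∧ f ∈ 𝒜 d},
        x ∈ Proj.basicOpen 𝒜 f.1 := by
      intro x
      obtain ⟨a, ha, hax⟩ : ∃ a, a ∈ HomogeneousIdeal.irrelevant 𝒜 ∧
          a ∉ x.asHomogeneousIdeal := by
        by_contra hcon
        push Not at hcon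
        exact x.not_irrelevant_le (fun a ha => hcon a ha)
      have h1 : x ∈ Proj.basicOpen 𝒜 a := (Proj.mem_basicOpen 𝒜 a x).mpr hax
      rw [Proj.basicOpen_eq_iSup_proj, TopologicalSpace.Opens.mem_iSup] at h1
      obtain ⟨i, hi⟩ := h1
      have hi0 : i ≠ 0 := by
        rintro rfl
        rw [(HomogeneousIdeal.mem_irrelevant_iff _ _).mp ha] at hi
        exact (Proj.mem_basicOpen 𝒜 0 x).mp hi (zero_mem _)
      exact ⟨⟨GradedRing.proj 𝒜 i a, i, Nat.pos_of_ne_zero hi0, by
        rw [GradedRing.proj_apply]; exact SetLike.coe_mem _⟩, hi⟩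
    obtain ⟨t, ht⟩ := isCompact_univ.elim_finite_subcover
      (fun f : {f : A // ∃ d : ℕ, 0 < d ∧ f ∈ 𝒜 d} =>
        ((Proj.basicOpen 𝒜 f.1 : (Proj 𝒜).Opens) : Set (Proj 𝒜)))
      (fun f => (Proj.basicOpen 𝒜 f.1).isOpen)
      (fun x _ => by
        obtain ⟨f, hf⟩ := hcov x
        exact Set.mem_iUnion.mpr ⟨f, hf⟩)
    refine ⟨t.image Subtype.val, ?_, ?_⟩
    · intro f hf
      rw [Finset.mem_image] at hf
      obtain ⟨g, _, rfl⟩ := hf
      exact g.2
    · intro a ha
      rw [Ideal.radical_eq_sInf, Ideal.mem_sInf]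
      rintro p ⟨hsp, hp⟩
      by_contra hap
      have hq : ¬ (HomogeneousIdeal.irrelevant 𝒜) ≤ p.homogeneousCore 𝒜 := by
        intro hle
        exact hap (Ideal.toIdeal_homogeneousCore_le 𝒜 p (hle ha))
      let x : ProjectiveSpectrum 𝒜 := ⟨p.homogeneousCore 𝒜, hp.homogeneousCore, hq⟩
      have hx := ht (Set.mem_univ (x : Proj 𝒜))
      rw [Set.mem_iUnion₂] at hx
      obtain ⟨g, hgt, hgx⟩ := hx
      apply (Proj.mem_basicOpen 𝒜 g.1 x).mp hgx
      obtain ⟨d, _, hgd⟩ := g.2
      have hgp : g.1 ∈ p :=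
        hsp (Ideal.subset_span (Finset.mem_coe.mpr (Finset.mem_image_of_mem _ hgt)))
      show g.1 ∈ (p.homogeneousCore 𝒜).toIdeal
      exact Ideal.mem_homogeneousCore_of_homogeneous_of_mem ⟨d, hgd⟩ hgp
  · rintro ⟨s, hs, hle⟩
    have hcov : (Set.univ : Set (Proj 𝒜)) =
        ⋃ f ∈ s, ((Proj.basicOpen 𝒜 f : (Proj 𝒜).Opens) : Set (Proj 𝒜)) := by
      apply Set.eq_of_subset_of_subset _ (Set.subset_univ _)
      intro x _
      by_contra hcon
      rw [Set.mem_iUnion₂] at hcon
      push Not at hcon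
      apply x.not_irrelevant_le
      intro a ha
      have h1 : Ideal.span (s : Set A) ≤ x.asHomogeneousIdeal.toIdeal := by
        rw [Ideal.span_le]
        intro f hf
        by_contra hfx
        exact hcon f (Finset.mem_coe.mp hf) ((Proj.mem_basicOpen 𝒜 f x).mpr hfx)
      obtain ⟨k, hk⟩ := hle ha
      exact x.isPrime.mem_of_pow_mem k (h1 hk)
    refine ⟨?_⟩
    rw [hcov]
    exact s.isCompact_biUnion (fun f hf => by
      obtain ⟨d, hd, hfd⟩ := hs f hf
      exact (Proj.isAffineOpen_basicOpen 𝒜 f hfd hd).isCompact)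

end Groth.Agent.S1615
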