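import Groth.Statements.S16156
import Mathlib

set_option autoImplicit false
universe u
open MukaiVec

namespace Groth.Agent.S16156

/-- Let N be an abelian group with a symmetric integer-valued bilinear form and H an element with H·H =
2n for some n > 0 such that every x with x·H = 0 satisfies x·x ≤ 0 (the Hodge index inequality). Fix
integers r ≥ 2, d > 0 and χ < 0 (a Mukai vector v = (r, dH, χ)) and an isotropic Mukai vector u =
(p, η, q), p ≥ 0, η ∈ N, η·η = 2pq, whose pairing ⟨v, u⟩ = d(H·η) − rq − χp has absolute value 1 or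
2. Exclude the case d = 1, χ = −1, H·η = 1, η·η = 0, and when r = 2 also the case p = 0, H·η = 0.
Then the pairings of u∨ = (p, −η, q) with w₀ = (0, rH, −2nd) and with w₁ = (2nd, −χH, 0) are both
non-negative or both negative: 2ndp − r(H·η) ≥ 0 holds if and only if χ(H·η) − 2ndq ≥ 0 holds. -/
theorem result
    (N : Type u) [AddCommGroup N] (B : LinearMap.BilinForm ℤ N) (hB : ∀ x y : N, B x y = B y x)
    (H : N) (n : ℤ) (hn : 0 < n) (hH : B H H = 2 * n) (hodge : ∀ x : N, B x H = 0 → B x x ≤ 0)
    (r d χ p q : ℤ) (η : N) (hr : 2 ≤ r) (hd : 0 < d) (hχ : χ < 0) (hp : 0 ≤ p)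
    (hiso : B η η = 2 * p * q)
    (hvu : 1 ≤ |d * B H η - r * q - χ * p| ∧ |d * B H η - r * q - χ * p| ≤ 2)
    (hexc : ¬ (d = 1 ∧ χ = -1 ∧ B H η = 1 ∧ B η η = 0))
    (hr2 : r = 2 → ¬ (p = 0 ∧ B H η = 0)) :
    (0 ≤ 2 * n * d * p - r * B H η ↔ 0 ≤ χ * B H η - 2 * n * d * q) := by
  obtain ⟨h, hh⟩ : ∃ h : ℤ, h = B H η := ⟨_, rfl⟩
  have hηH : B η H = h := by rw [hB η H, hh]
  rw [← hh] at hvu hexc hr2 ⊢
  have hΔ : 4 * n * p * q ≤ h * h := by
    have hx : B ((2 * n) • η - h • H) H = 0 := by
      simp only [map_sub, map_smul, LinearMap.sub_apply, LinearMap.smul_apply, smul_eq_mul]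
      rw [hηH, hH]
      ring
    have hxx := hodge _ hx
    have e : B ((2 * n) • η - h • H) ((2 * n) • η - h • H) =
        8 * n * n * p * q - 2 * n * h * h := by
      simp only [map_sub, map_smul, LinearMap.sub_apply, LinearMap.smul_apply, smul_eq_mul]
      rw [hηH, hH, hiso, ← hh]
      ring
    rw [e] at hxx
    by_contra hc
    push Not at hc
    nlinarith [mul_pos hn (sub_pos.mpr hc)]
  obtain ⟨ht1, ht2⟩ := abs_le.mp hvu.2
  have hnd : 0 < 2 * n * d := by positivity
  have hd1 : 1 ≤ d := by omega
  constructor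
  · intro ha
    by_contra hb
    push Not at hb
    have ha' : r * h ≤ 2 * n * d * p := by linarith
    have hb' : χ * h < 2 * n * d * q := by linarith
    rcases lt_or_ge h 0 with hneg | hnn
    · have hq : 0 < q := by
        by_contra hq
        push Not at hq
        have h1 : 0 < χ * h := mul_pos_of_neg_of_neg hχ hneg
        have h2 := mul_nonneg hnd.le (neg_nonneg.mpr hq)
        nlinarith
      have hq1 : 1 ≤ q := by omega
      have e6 : 2 ≤ r * q := by
        nlinarith [mul_nonneg (sub_nonneg.mpr hr) (sub_nonneg.mpr hq1)]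
      rcases eq_or_lt_of_le hp with hp0 | hp1
      · rw [← hp0] at ht1
        have e7 : d * h ≤ -1 := by
          nlinarith [mul_nonneg (sub_nonneg.mpr hd1) (neg_nonneg.mpr hneg.le)]
        nlinarith
      · have hp1' : 1 ≤ p := by omega
        have e1 : (-χ) * (4 * n * p * q) ≤ (-χ) * (h * h) :=
          mul_le_mul_of_nonneg_left hΔ (by linarith)
        have e2 : (χ * h) * (-h) < (2 * n * d * q) * (-h) :=
          mul_lt_mul_of_pos_right hb' (by linarith)
        have e3 : (2 * n * q) * (d * h) < (2 * n * q) * (2 * p * χ) := by nlinarith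
        have e4 : d * h < 2 * p * χ := lt_of_mul_lt_mul_left e3 (by positivity)
        have e5 : p * χ ≤ -1 := by
          nlinarith [mul_nonneg (sub_nonneg.mpr hp1') (neg_nonneg.mpr hχ.le)]
        nlinarith
    · rcases le_or_gt q 0 with hq | hq
      · have hpos : 0 < h := by
          rcases eq_or_lt_of_le hnn with h0 | hpos
          · exfalso
            rw [← h0] at hb'
            have h2 := mul_nonneg hnd.le (neg_nonneg.mpr hq)
            nlinarith
          · exact hpos
        have hh1 : 1 ≤ h := by omega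
        have hrh : 2 ≤ r * h := by
          nlinarith [mul_nonneg (sub_nonneg.mpr hr) (sub_nonneg.mpr hh1)]
        have hp1 : 1 ≤ p := by
          by_contra hc
          have hp0 : p = 0 := by omega
          rw [hp0] at ha'
          linarith
        have f1 : 1 ≤ d * h := by
          nlinarith [mul_nonneg (sub_nonneg.mpr hd1) (sub_nonneg.mpr hh1)]
        have f2 : r * q ≤ 0 := by
          nlinarith [mul_nonneg (by linarith : (0:ℤ) ≤ r) (neg_nonneg.mpr hq)]
        have f3 : χ * p ≤ -1 := by
          nlinarith [mul_nonneg (sub_nonneg.mpr hp1) (neg_nonneg.mpr hχ.le)]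
        have g1 : d * h = 1 := by linarith
        have g2 : r * q = 0 := by linarith
        have g3 : χ * p = -1 := by linarith
        have k1 := mul_nonneg (sub_nonneg.mpr hd1) (sub_nonneg.mpr hh1)
        have hdeq : d = 1 := by nlinarith
        have hheq : h = 1 := by nlinarith
        have k2 := mul_nonneg (by linarith : (0:ℤ) ≤ -χ - 1) (sub_nonneg.mpr hp1)
        have hχeq : χ = -1 := by nlinarith
        have k3 := mul_nonneg (sub_nonneg.mpr hr) (neg_nonneg.mpr hq)
        have hqeq : q = 0 := by nlinarith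
        exact hexc ⟨hdeq, hχeq, hheq, by rw [hiso, hqeq]; ring⟩
      · have hq1 : 1 ≤ q := by omega
        have e6 : 2 ≤ r * q := by
          nlinarith [mul_nonneg (sub_nonneg.mpr hr) (sub_nonneg.mpr hq1)]
        rcases eq_or_lt_of_le hp with hp0 | hp1
        · have hrh : r * h ≤ 0 := by
            rw [← hp0] at ha'
            linarith
          have k1 := mul_nonneg (sub_nonneg.mpr hr) hnn
          have hh0 : h = 0 := by nlinarith
          rw [← hp0, hh0] at ht1
          have k2 := mul_nonneg (by linarith : (0:ℤ) ≤ r) (sub_nonneg.mpr hq1)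
          have hr2eq : r = 2 := by nlinarith
          exact hr2 hr2eq ⟨hp0.symm, hh0⟩
        · have hp1' : 1 ≤ p := by omega
          have e1 : r * (4 * n * p * q) ≤ r * (h * h) :=
            mul_le_mul_of_nonneg_left hΔ (by linarith)
          have e2 : (r * h) * h ≤ (2 * n * d * p) * h := mul_le_mul_of_nonneg_right ha' hnn
          have e3 : (2 * n * p) * (2 * (r * q)) ≤ (2 * n * p) * (d * h) := by nlinarith
          have e4 : 2 * (r * q) ≤ d * h := le_of_mul_le_mul_left e3 (by positivity)
          have e5 : χ * p ≤ -1 := by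
            nlinarith [mul_nonneg (sub_nonneg.mpr hp1') (neg_nonneg.mpr hχ.le)]
          nlinarith
  · intro hb
    by_contra ha
    push Not at ha
    have ha' : 2 * n * d * p < r * h := by linarith
    have hb' : 2 * n * d * q ≤ χ * h := by linarith
    have h2ndp : 0 ≤ 2 * n * d * p := mul_nonneg hnd.le hp
    have hpos : 0 < h := by
      by_contra hc
      push Not at hc
      have k1 := mul_nonneg (by linarith : (0:ℤ) ≤ r) (neg_nonneg.mpr hc)
      nlinarith
    have hh1 : 1 ≤ h := by omega
    have hχh : χ * h < 0 := mul_neg_of_neg_of_pos hχ hpos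
    have hq : q < 0 := by
      by_contra hc
      push Not at hc
      have k1 := mul_nonneg hnd.le hc
      nlinarith
    have hq1 : 1 ≤ -q := by omega
    have f1 : 1 ≤ d * h := by
      nlinarith [mul_nonneg (sub_nonneg.mpr hd1) (sub_nonneg.mpr hh1)]
    have f2 : 2 ≤ r * (-q) := by
      nlinarith [mul_nonneg (sub_nonneg.mpr hr) (sub_nonneg.mpr hq1)]
    have f3 : 0 ≤ (-χ) * p := mul_nonneg (by linarith) hp
    nlinarith

end Groth.Agent.S16156
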