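import Groth.Statements.S16161
import Mathlib

set_option autoImplicit false
universe u v
open MadRed

namespace Groth.Agent.S16161

/-- Let k be an algebraically closed field of characteristic zero and R a reduced finitely generated
commutative k-algebra whose spectrum is connected (R has no idempotents besides 0 and 1); let W =
R^n be a free R-module of finite rank and g an R-linear endomorphism of W of finite order, g^m = 1
with m > 0 (an element of finite order of GL(W)(R)). Then the action of g on W is diagonalizable
over k: viewing g as a k-linear map, its eigenspaces for eigenvalues in k span W. The source also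
assumes that g is diagonalizable over k on every fibre W ⊗ k(x), x a point of Spec R; for g of
finite order this holds automatically (k is algebraically closed of characteristic zero), as the
source itself notes, so that hypothesis is omitted. -/
theorem result
    (k : Type u) [Field k] [IsAlgClosed k] [CharZero k]
    (R : Type v) [CommRing R] [Algebra k R] [IsReduced R] [Algebra.FiniteType k R]
    (hconn : ∀ e : R, IsIdempotentElem e → e = 0 ∨ e = 1)
    (n : ℕ) (g : Module.End R (Fin n → R)) (m : ℕ) (hm : 0 < m) (hg : g ^ m = 1) :
    ⨆ μ : k, Module.End.eigenspace (g.restrictScalars k) μ = ⊤ := by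
  classical
  set f : Module.End k (Fin n → R) := g.restrictScalars k with hf
  have hfg : ∀ (j : ℕ) (x : Fin n → R), (f ^ j) x = (g ^ j) x := by
    intro j
    induction j with
    | zero => intro x; rfl
    | succ j ih =>
      intro x
      rw [pow_succ, pow_succ, Module.End.mul_apply, Module.End.mul_apply, ih]
      rfl
  have hfm : f ^ m = 1 := by
    apply LinearMap.ext
    intro x
    rw [hfg, hg]
    rfl
  -- general claim
  have key : ∀ S : Finset k, LinearMap.ker (Polynomial.aeval f
      (∏ ζ ∈ S, (Polynomial.X - Polynomial.C ζ))) ≤ ⨆ μ : k, Module.End.eigenspace f μ := by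
    intro S
    induction S using Finset.induction_on with
    | empty =>
      rw [Finset.prod_empty, map_one]
      intro x hx
      have : x = 0 := hx
      rw [this]
      exact Submodule.zero_mem _
    | insert a S ha ih =>
      rw [Finset.prod_insert ha]
      have hcop : IsCoprime (Polynomial.X - Polynomial.C a)
          (∏ ζ ∈ S, (Polynomial.X - Polynomial.C ζ)) := by
        apply IsCoprime.prod_right
        intro ζ hζ
        apply Polynomial.isCoprime_X_sub_C_of_isUnit_sub
        have hne : a ≠ ζ := fun h => ha (h ▸ hζ)
        exact (sub_ne_zero.mpr hne).isUnit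
      rw [← Polynomial.sup_ker_aeval_eq_ker_aeval_mul_of_coprime f hcop]
      apply sup_le _ ih
      have : LinearMap.ker (Polynomial.aeval f (Polynomial.X - Polynomial.C a)) =
          Module.End.eigenspace f a := by
        rw [Module.End.eigenspace_def, map_sub, Polynomial.aeval_X, Polynomial.aeval_C,
          Algebra.algebraMap_eq_smul_one]
      rw [this]
      exact le_iSup (fun μ => Module.End.eigenspace f μ) a
  haveI : NeZero ((m : ℕ) : k) := ⟨by exact_mod_cast (Nat.pos_iff_ne_zero.mp hm)⟩
  obtain ⟨ζ, hζ⟩ := HasEnoughRootsOfUnity.exists_primitiveRoot k m
  have hprod := Polynomial.X_pow_sub_one_eq_prod hm hζ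
  rw [eq_top_iff]
  refine le_trans ?_ (key (Polynomial.nthRootsFinset m (1 : k)))
  rw [← hprod, map_sub, map_pow, Polynomial.aeval_X, map_one, hfm, sub_self]
  intro x _
  exact LinearMap.mem_ker.mpr rfl

end Groth.Agent.S16161
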