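import Groth.Statements.S16164
import Mathlib

set_option autoImplicit false
open Neron

namespace Groth.Agent.S16164

/-- Let X, Y₁, Y₂ be finitely generated free abelian groups with chosen bases, so that homomorphisms are
integer matrices acting on column vectors and each group is identified with its dual; let P : X → Y₁
and Q : X → Y₂ be surjective with A = (P over Q) : X → Y₁ ⊕ Y₂ injective, and let Ψ₁, Ψ₂ be
symmetric positive-definite integer matrices on Y₁ and Y₂, Ψ their block-diagonal sum. If the image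
of Aᵀ Ψ : Y₁ ⊕ Y₂ → X coincides with the image of Aᵀ Ψ A : X → X (the reverse inclusion always
holds), then A is bijective. (In the source X, Y₁, Y₂ are character groups of maximal tori, P and Q
specialization maps, Ψ₁ and Ψ₂ monodromy pairings, and the hypothesis expresses that two groups of
components coincide.) -/
theorem result
    {ι κ₁ κ₂ : Type} [Fintype ι] [Fintype κ₁] [Fintype κ₂]
    (P : Matrix κ₁ ι ℤ) (Q : Matrix κ₂ ι ℤ)
    (hP : Function.Surjective P.mulVec) (hQ : Function.Surjective Q.mulVec)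
    (hA : Function.Injective (Matrix.fromRows P Q).mulVec)
    (Ψ₁ : Matrix κ₁ κ₁ ℤ) (Ψ₂ : Matrix κ₂ κ₂ ℤ) (hΨ₁ : Ψ₁.IsSymm) (hΨ₂ : Ψ₂.IsSymm)
    (hΨ₁pos : ∀ y : κ₁ → ℤ, y ≠ 0 → 0 < y ⬝ᵥ Ψ₁.mulVec y)
    (hΨ₂pos : ∀ y : κ₂ → ℤ, y ≠ 0 → 0 < y ⬝ᵥ Ψ₂.mulVec y)
    (himage : LinearMap.range ((Matrix.fromRows P Q).transpose * Matrix.fromBlocks Ψ₁ 0 0 Ψ₂).mulVecLin =
      LinearMap.range ((Matrix.fromRows P Q).transpose * Matrix.fromBlocks Ψ₁ 0 0 Ψ₂ * Matrix.fromRows P Q).mulVecLin) :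
    Function.Bijective (Matrix.fromRows P Q).mulVec := by
  classical
  set A := Matrix.fromRows P Q with hAdef
  set Ψ := Matrix.fromBlocks Ψ₁ 0 0 Ψ₂ with hΨdef
  have hN : ∀ y y' : κ₁ ⊕ κ₂ → ℤ, y ⬝ᵥ Ψ.mulVec y' =
      (y ∘ Sum.inl) ⬝ᵥ Ψ₁.mulVec (y' ∘ Sum.inl) + (y ∘ Sum.inr) ⬝ᵥ Ψ₂.mulVec (y' ∘ Sum.inr) := by
    intro y y'
    rw [hΨdef, Matrix.fromBlocks_mulVec]
    conv_lhs => rw [← Sum.elim_comp_inl_inr y]
    rw [sumElim_dotProduct_sumElim]
    simp
  have hpos : ∀ y : κ₁ ⊕ κ₂ → ℤ, y ≠ 0 → 0 < y ⬝ᵥ Ψ.mulVec y := by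
    intro y hy
    rw [hN]
    have h1 : 0 ≤ (y ∘ Sum.inl) ⬝ᵥ Ψ₁.mulVec (y ∘ Sum.inl) := by
      by_cases h : y ∘ Sum.inl = 0
      · rw [h]; simp
      · exact (hΨ₁pos _ h).le
    have h2 : 0 ≤ (y ∘ Sum.inr) ⬝ᵥ Ψ₂.mulVec (y ∘ Sum.inr) := by
      by_cases h : y ∘ Sum.inr = 0
      · rw [h]; simp
      · exact (hΨ₂pos _ h).le
    by_cases h : y ∘ Sum.inl = 0
    · have h' : y ∘ Sum.inr ≠ 0 := by
        intro h''
        apply hy
        ext a
        rcases a with a | a
        · exact congrFun h a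
        · exact congrFun h'' a
      have := hΨ₂pos _ h'
      linarith
    · have := hΨ₁pos _ h
      linarith
  have hAl : ∀ x : ι → ℤ, (A.mulVec x) ∘ Sum.inl = P.mulVec x := by
    intro x
    rw [hAdef, Matrix.fromRows_mulVec, Sum.elim_comp_inl]
  have hAr : ∀ x : ι → ℤ, (A.mulVec x) ∘ Sum.inr = Q.mulVec x := by
    intro x
    rw [hAdef, Matrix.fromRows_mulVec, Sum.elim_comp_inr]
  have hdec : ∀ y : κ₁ ⊕ κ₂ → ℤ, ∃ x : ι → ℤ, ∀ x' : ι → ℤ,
      (A.mulVec x') ⬝ᵥ Ψ.mulVec (y - A.mulVec x) = 0 := by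
    intro y
    have hmem : (A.transpose * Ψ).mulVecLin y ∈
        LinearMap.range (A.transpose * Ψ * A).mulVecLin := by
      rw [← himage]; exact ⟨y, rfl⟩
    obtain ⟨x, hx⟩ := hmem
    refine ⟨x, fun x' => ?_⟩
    have h0 : A.transpose.mulVec (Ψ.mulVec (y - A.mulVec x)) = 0 := by
      rw [Matrix.mulVec_sub, Matrix.mulVec_sub, Matrix.mulVec_mulVec, Matrix.mulVec_mulVec,
        Matrix.mulVec_mulVec, sub_eq_zero]
      exact hx.symm
    rw [← Matrix.vecMul_transpose, ← Matrix.dotProduct_mulVec, h0, dotProduct_zero]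
  have hadd : ∀ u v : κ₁ ⊕ κ₂ → ℤ, u ⬝ᵥ Ψ.mulVec v = 0 → v ⬝ᵥ Ψ.mulVec u = 0 →
      (u + v) ⬝ᵥ Ψ.mulVec (u + v) = u ⬝ᵥ Ψ.mulVec u + v ⬝ᵥ Ψ.mulVec v := by
    intro u v h1 h2
    rw [Matrix.mulVec_add, add_dotProduct, dotProduct_add, dotProduct_add, h1, h2]
    ring
  have hsymm : ∀ y y' : κ₁ ⊕ κ₂ → ℤ, y ⬝ᵥ Ψ.mulVec y' = y' ⬝ᵥ Ψ.mulVec y := by
    intro y y'
    have hΨs : Ψ.transpose = Ψ := by
      rw [hΨdef, Matrix.fromBlocks_transpose, hΨ₁.eq, hΨ₂.eq]
      simp
    rw [Matrix.dotProduct_mulVec, ← Matrix.mulVec_transpose, hΨs, dotProduct_comm]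
  have main : ∀ n : ℕ, ∀ y : κ₁ ⊕ κ₂ → ℤ, (y ⬝ᵥ Ψ.mulVec y).toNat = n →
      ∃ x, A.mulVec x = y := by
    intro n
    induction n using Nat.strong_induction_on with
    | _ n ih =>
      intro y hy
      by_cases hy0 : y = 0
      · exact ⟨0, by simp [hy0]⟩
      obtain ⟨x, hx⟩ := hdec y
      set z := y - A.mulVec x with hz
      have hyz : y = A.mulVec x + z := by rw [hz]; abel
      by_cases hz0 : z = 0
      · exact ⟨x, by rw [hyz, hz0, add_zero]⟩
      by_cases hAx0 : A.mulVec x = 0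
      · exfalso
        have hyeq : y = z := by rw [hyz, hAx0, zero_add]
        have horth : ∀ x', (A.mulVec x') ⬝ᵥ Ψ.mulVec y = 0 := by
          intro x'; rw [hyeq]; exact hx x'
        set u : κ₁ ⊕ κ₂ → ℤ := Sum.elim (y ∘ Sum.inl) 0 with hu
        set v : κ₁ ⊕ κ₂ → ℤ := Sum.elim 0 (y ∘ Sum.inr) with hv
        have huv : y = u + v := by
          ext a
          rcases a with a | a <;> simp [hu, hv]
        have huv0 : u ⬝ᵥ Ψ.mulVec v = 0 := by
          rw [hN]; simp [hu, hv]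
        have hvu0 : v ⬝ᵥ Ψ.mulVec u = 0 := by rw [hsymm]; exact huv0
        by_cases hu0 : u = 0
        · obtain ⟨x', hx'⟩ := hQ (y ∘ Sum.inr)
          have h1 := horth x'
          have hyl : y ∘ Sum.inl = 0 := by
            have := congrArg (fun w => w ∘ Sum.inl) hu0
            simpa [hu] using this
          rw [hN, hAl, hAr, hx', hyl] at h1
          simp only [Matrix.mulVec_zero, dotProduct_zero, zero_add] at h1
          have hyr : y ∘ Sum.inr = 0 := by
            by_contra hne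
            have := hΨ₂pos _ hne
            linarith
          apply hy0
          ext a
          rcases a with a | a
          · exact congrFun hyl a
          · exact congrFun hyr a
        by_cases hv0 : v = 0
        · obtain ⟨x', hx'⟩ := hP (y ∘ Sum.inl)
          have h1 := horth x'
          have hyr : y ∘ Sum.inr = 0 := by
            have := congrArg (fun w => w ∘ Sum.inr) hv0
            simpa [hv] using this
          rw [hN, hAl, hAr, hx', hyr] at h1
          simp only [Matrix.mulVec_zero, dotProduct_zero, add_zero] at h1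
          have hyl : y ∘ Sum.inl = 0 := by
            by_contra hne
            have := hΨ₁pos _ hne
            linarith
          apply hy0
          ext a
          rcases a with a | a
          · exact congrFun hyl a
          · exact congrFun hyr a
        -- both nonzero: use induction on u and v, but they lie in range A, contradiction with orthogonality
        have hNy : y ⬝ᵥ Ψ.mulVec y = u ⬝ᵥ Ψ.mulVec u + v ⬝ᵥ Ψ.mulVec v := by
          rw [huv]; exact hadd u v huv0 hvu0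
        have hup := hpos u hu0
        have hvp := hpos v hv0
        obtain ⟨xu, hxu⟩ := ih (u ⬝ᵥ Ψ.mulVec u).toNat (by omega) u rfl
        obtain ⟨xv, hxv⟩ := ih (v ⬝ᵥ Ψ.mulVec v).toNat (by omega) v rfl
        have hyA : y = A.mulVec (xu + xv) := by
          rw [Matrix.mulVec_add, hxu, hxv]; exact huv
        have := horth (xu + xv)
        rw [← hyA] at this
        have := hpos y hy0
        linarith
      · have h1 : (A.mulVec x) ⬝ᵥ Ψ.mulVec z = 0 := hx x
        have h2 : z ⬝ᵥ Ψ.mulVec (A.mulVec x) = 0 := by rw [hsymm]; exact h1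
        have hNy : y ⬝ᵥ Ψ.mulVec y =
            (A.mulVec x) ⬝ᵥ Ψ.mulVec (A.mulVec x) + z ⬝ᵥ Ψ.mulVec z := by
          rw [hyz]; exact hadd _ _ h1 h2
        have hAp := hpos _ hAx0
        have hzp := hpos z hz0
        obtain ⟨xz, hxz⟩ := ih (z ⬝ᵥ Ψ.mulVec z).toNat (by omega) z rfl
        exact ⟨x + xz, by rw [Matrix.mulVec_add, hxz]; exact hyz.symm⟩
  refine ⟨hA, fun y => ?_⟩
  exact main _ y rfl

end Groth.Agent.S16164
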