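import Groth.Statements.S16170
import Mathlib

set_option autoImplicit false
open Neron
open Matrix

namespace Groth.Agent.S16170

/-- Let M and N be symmetric positive-semidefinite integer matrices on the same finite index set whose
sum M + N is positive definite, and let χ₁, χ₂ be integer matrices with χ₁ + χ₂ = 1 and M χ₂ = N χ₁.
Then χ₁ and χ₂ are idempotent. (In the intended application M = Pᵀ Ψ₁ P and N = Qᵀ Ψ₂ Q for
surjective integer matrices P, Q and positive-definite Ψ₁, Ψ₂.) -/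
theorem result
    {ι : Type} [Fintype ι] [DecidableEq ι]
    (M N χ₁ χ₂ : Matrix ι ι ℤ) (hM : M.IsSymm) (hN : N.IsSymm)
    (hMpos : ∀ v : ι → ℤ, 0 ≤ v ⬝ᵥ M.mulVec v) (hNpos : ∀ v : ι → ℤ, 0 ≤ v ⬝ᵥ N.mulVec v)
    (hpos : ∀ v : ι → ℤ, v ≠ 0 → 0 < v ⬝ᵥ (M + N).mulVec v)
    (hsum : χ₁ + χ₂ = 1) (hrel : M * χ₂ = N * χ₁) :
    χ₁ * χ₁ = χ₁ ∧ χ₂ * χ₂ = χ₂ := by
  classical
  obtain ⟨S, hS⟩ : ∃ S : Matrix ι ι ℤ, S = M + N := ⟨_, rfl⟩
  rw [← hS] at hpos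
  have hχ₂ : χ₂ = 1 - χ₁ := eq_sub_of_add_eq' hsum
  have hSχ₁ : S * χ₁ = M := by
    rw [hS, add_mul, ← hrel, ← mul_add, hsum, mul_one]
  have hSχ₂ : S * χ₂ = N := by
    rw [hS, add_mul, hrel, ← mul_add, hsum, mul_one]
  have hSsymm : S.IsSymm := by rw [hS]; exact hM.add hN
  have hcomm : χ₁ * χ₂ = χ₂ * χ₁ := by rw [hχ₂, mul_sub, sub_mul, mul_one, one_mul]
  have SA1 : χ₁ᵀ * S = S * χ₁ := by
    have : χ₁ᵀ * S = (S * χ₁)ᵀ := by rw [Matrix.transpose_mul, hSsymm.eq]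
    rw [this, hSχ₁, hM.eq]
  have SA2 : χ₂ᵀ * S = S * χ₂ := by
    have : χ₂ᵀ * S = (S * χ₂)ᵀ := by rw [Matrix.transpose_mul, hSsymm.eq]
    rw [this, hSχ₂, hN.eq]
  obtain ⟨T, hT⟩ : ∃ T : Matrix ι ι ℤ, T = χ₁ * χ₂ := ⟨_, rfl⟩
  obtain ⟨w, hw⟩ : ∃ w : Matrix ι ι ℤ, w = χ₂ - χ₁ := ⟨_, rfl⟩
  have SAT : Tᵀ * S = S * T := by
    rw [hT, Matrix.transpose_mul, Matrix.mul_assoc, SA1, ← Matrix.mul_assoc, SA2, Matrix.mul_assoc,
      ← hcomm]
  have SAw : wᵀ * S = S * w := by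
    rw [hw, Matrix.transpose_sub, sub_mul, mul_sub, SA1, SA2]
  have hadj : ∀ A : Matrix ι ι ℤ, Aᵀ * S = S * A → ∀ x y : ι → ℤ,
      (A.mulVec x) ⬝ᵥ (S.mulVec y) = x ⬝ᵥ (S.mulVec (A.mulVec y)) := by
    intro A hA x y
    rw [Matrix.mulVec_mulVec, ← hA, ← Matrix.mulVec_mulVec, Matrix.dotProduct_mulVec x Aᵀ,
      Matrix.vecMul_transpose]
  have hww : w * w = 1 - (T + T + T + T) := by
    rw [hw, hT, hχ₂]; noncomm_ring
  have hwTw : w * (T * w) = T - (T * T + T * T + T * T + T * T) := by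
    rw [hw, hT, hχ₂]; noncomm_ring
  have hTsplit : T = χ₁ * (χ₂ * χ₁) + χ₂ * (χ₁ * χ₂) := by
    rw [hT, hχ₂]; noncomm_ring
  have hpsd : ∀ v : ι → ℤ, 0 ≤ v ⬝ᵥ S.mulVec v := by
    intro v
    by_cases hv : v = 0
    · subst hv; simp
    · exact (hpos v hv).le
  have hpos1 : ∀ u : ι → ℤ, 0 ≤ u ⬝ᵥ S.mulVec (χ₁.mulVec u) := by
    intro u; rw [Matrix.mulVec_mulVec, hSχ₁]; exact hMpos u
  have hpos2 : ∀ u : ι → ℤ, 0 ≤ u ⬝ᵥ S.mulVec (χ₂.mulVec u) := by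
    intro u; rw [Matrix.mulVec_mulVec, hSχ₂]; exact hNpos u
  have hTnn : ∀ z : ι → ℤ, 0 ≤ z ⬝ᵥ S.mulVec (T.mulVec z) := by
    intro z
    have e : T.mulVec z = χ₁.mulVec (χ₂.mulVec (χ₁.mulVec z)) + χ₂.mulVec (χ₁.mulVec (χ₂.mulVec z)) := by
      conv_lhs => rw [hTsplit]
      rw [Matrix.add_mulVec, ← Matrix.mulVec_mulVec, ← Matrix.mulVec_mulVec,
        ← Matrix.mulVec_mulVec, ← Matrix.mulVec_mulVec]
    rw [e, Matrix.mulVec_add, dotProduct_add, ← hadj χ₁ SA1 z (χ₂.mulVec (χ₁.mulVec z)),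
      ← hadj χ₂ SA2 z (χ₁.mulVec (χ₂.mulVec z))]
    exact add_nonneg (hpos2 _) (hpos1 _)
  have hA : ∀ y : ι → ℤ, 4 * (y ⬝ᵥ S.mulVec (T.mulVec y)) ≤ y ⬝ᵥ S.mulVec y := by
    intro y
    have h1 := hpsd (w.mulVec y)
    have e1 : (w.mulVec y) ⬝ᵥ S.mulVec (w.mulVec y) =
        y ⬝ᵥ S.mulVec y - 4 * (y ⬝ᵥ S.mulVec (T.mulVec y)) := by
      rw [hadj w SAw y (w.mulVec y), Matrix.mulVec_mulVec y w w, hww]
      simp only [Matrix.sub_mulVec, Matrix.one_mulVec, Matrix.add_mulVec, Matrix.mulVec_sub,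
        Matrix.mulVec_add, dotProduct_sub, dotProduct_add]
      ring
    linarith only [h1, e1]
  have hB : ∀ y : ι → ℤ, 4 * ((T.mulVec y) ⬝ᵥ S.mulVec (T.mulVec y)) ≤
      y ⬝ᵥ S.mulVec (T.mulVec y) := by
    intro y
    have h1 := hTnn (w.mulVec y)
    have e1 : (w.mulVec y) ⬝ᵥ S.mulVec (T.mulVec (w.mulVec y)) =
        y ⬝ᵥ S.mulVec (T.mulVec y) - 4 * ((T.mulVec y) ⬝ᵥ S.mulVec (T.mulVec y)) := by
      rw [hadj w SAw y (T.mulVec (w.mulVec y)), Matrix.mulVec_mulVec y T w,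
        Matrix.mulVec_mulVec y w (T * w), hwTw, hadj T SAT y (T.mulVec y),
        Matrix.mulVec_mulVec y T T]
      simp only [Matrix.sub_mulVec, Matrix.add_mulVec, Matrix.mulVec_sub,
        Matrix.mulVec_add, dotProduct_sub, dotProduct_add]
      ring
    linarith only [h1, e1]
  have hT0 : ∀ k : ℕ, ∀ y : ι → ℤ, (y ⬝ᵥ S.mulVec y).toNat = k → T.mulVec y = 0 := by
    intro k
    induction k using Nat.strong_induction_on with
    | _ k ih =>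
      intro y hy
      by_cases hy0 : y = 0
      · subst hy0; simp
      · have hypos := hpos y hy0
        have h16 : 16 * ((T.mulVec y) ⬝ᵥ S.mulVec (T.mulVec y)) ≤ y ⬝ᵥ S.mulVec y := by
          have h1 := hA y; have h2 := hB y; linarith only [h1, h2]
        have hnn := hpsd (T.mulVec y)
        have hlt : ((T.mulVec y) ⬝ᵥ S.mulVec (T.mulVec y)).toNat < k := by
          rw [← hy]
          omega
        have hTT := ih _ hlt (T.mulVec y) rfl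
        have hzero : (T.mulVec y) ⬝ᵥ S.mulVec (T.mulVec y) = 0 := by
          rw [hadj T SAT, hTT]; simp
        by_contra hne
        have := hpos (T.mulVec y) hne
        omega
  have hTzero : T = 0 := by
    rw [Matrix.ext_iff_mulVec]
    intro v
    rw [hT0 _ v rfl, Matrix.zero_mulVec]
  constructor
  · have : χ₁ * χ₂ = 0 := by rw [← hT]; exact hTzero
    rw [hχ₂, mul_sub, mul_one, sub_eq_zero] at this
    exact this.symm
  · have : χ₂ * χ₁ = 0 := by rw [← hcomm, ← hT]; exact hTzero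
    have h2 : χ₁ = 1 - χ₂ := eq_sub_of_add_eq hsum
    rw [h2, mul_sub, mul_one, sub_eq_zero] at this
    exact this.symm

end Groth.Agent.S16170
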