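import Groth.Statements.S16196
import Mathlib

set_option autoImplicit false
universe u v
open DivAlg

namespace Groth.Agent.S16196

/-- Let R be a ring (associative, unital, not necessarily commutative) and M a left R-module which is a
generator, in the form: for some n there is an R-linear surjection from M^n onto R. Then the natural
ring homomorphism from R to the double endomorphism ring BiEnd_R(M) = End_{End_R(M)}(M)
(endomorphisms of M commuting with every R-linear endomorphism), r ↦ multiplication by r, is
bijective. (The printed form takes R an algebra over a commutative ring k, embeds R in E = End_k(M)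
and asserts R = C_E(C_E(R)); the double centralizer there is BiEnd_R(M).) -/
theorem result {R : Type u} [Ring R] (M : Type v)
    [AddCommGroup M] [Module R M]
    (hgen : ∃ (n : ℕ) (f : (Fin n → M) →ₗ[R] R), Function.Surjective f) :
    Function.Bijective (Module.toModuleEnd (Module.End R M) (S := R) M) := by
  obtain ⟨n, f, hf⟩ := hgen
  obtain ⟨x, hx⟩ := hf 1
  have hsum : ∀ y : Fin n → M, f y = ∑ i, f (Pi.single i (y i)) := by
    intro y
    conv_lhs => rw [← Finset.univ_sum_single y]
    rw [map_sum]
  constructor
  · intro r s hrs
    have h : ∀ m : M, r • m = s • m := fun m => by
      have := congrArg (fun T : Module.End (Module.End R M) M => T m) hrs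
      simpa using this
    have h1 : r • x = s • x := by
      ext i; simp [h]
    have := congrArg f h1
    rw [map_smul, map_smul, hx] at this
    simpa using this
  · intro T
    refine ⟨∑ i, f (Pi.single i (T (x i))), ?_⟩
    ext m
    simp only [Module.toModuleEnd_apply, DistribSMul.toLinearMap_apply]
    have hT : ∀ (g : Module.End R M) (y : M), T (g y) = g (T y) := fun g y => T.map_smul g y
    have key : ∀ i, T (f (Pi.single i (x i)) • m) = f (Pi.single i (T (x i))) • m := by
      intro i
      have := hT ((LinearMap.toSpanSingleton R M m) ∘ₗ f ∘ₗ (LinearMap.single R (fun _ => M) i)) (x i)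
      simpa using this
    rw [Finset.sum_smul]
    simp only [← key]
    rw [← map_sum, ← Finset.sum_smul, ← hsum, hx, one_smul]

end Groth.Agent.S16196
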