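import Groth.Statements.S16197
import Mathlib

set_option autoImplicit false
universe u v w
open DivAlg

namespace Groth.Agent.S16197

/-- Let R be a ring (associative, unital, not necessarily commutative) and M a left R-module which is a
generator, used here only through the existence of an R-linear surjection from a direct sum of
copies of M, indexed by an arbitrary type, onto R. Then some finite power M^n decomposes as R × Q
for a submodule Q of M^n. (The published statement is an equivalence; this row states only the
implication from the existence of such a surjection to the splitting.) -/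
theorem result {R : Type u} [Ring R] (M : Type v)
    [AddCommGroup M] [Module R M]
    (hgen : ∃ (ι : Type w) (f : (ι →₀ M) →ₗ[R] R), Function.Surjective f) :
    ∃ (n : ℕ) (Q : Submodule R (Fin n → M)), Nonempty ((Fin n → M) ≃ₗ[R] (R × Q)) := by
  classical
  obtain ⟨ι, f, hf⟩ := hgen
  obtain ⟨x, hx⟩ := hf 1
  set n := x.support.card with hn
  let e : Fin n ≃ x.support := (Finset.equivFin x.support).symm
  let g : (Fin n → M) →ₗ[R] R :=
    ∑ j : Fin n, f ∘ₗ (Finsupp.lsingle (e j : ι)) ∘ₗ (LinearMap.proj j)
  let y₀ : Fin n → M := fun j => x (e j)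
  have hg : g y₀ = 1 := by
    simp only [g, LinearMap.sum_apply, LinearMap.comp_apply, LinearMap.proj_apply, Finsupp.lsingle_apply, y₀]
    rw [← map_sum, ← hx]
    congr 1
    rw [← Equiv.sum_comp e.symm]
    simp only [Equiv.apply_symm_apply]
    conv_rhs => rw [← Finsupp.sum_single x]
    rw [Finsupp.sum, ← Finset.sum_coe_sort x.support (fun a => Finsupp.single a (x a))]
  let σ : R →ₗ[R] (Fin n → M) := LinearMap.toSpanSingleton R _ y₀
  have hgσ : ∀ r, g (σ r) = r := by
    intro r
    simp [σ, hg]
  refine ⟨n, LinearMap.ker g, ⟨?_⟩⟩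
  refine LinearEquiv.ofLinear
    (g.prod (LinearMap.codRestrict (LinearMap.ker g) (LinearMap.id - σ ∘ₗ g) ?_))
    (σ.coprod (LinearMap.ker g).subtype) ?_ ?_
  · intro y
    simp [LinearMap.mem_ker, hgσ]
  · ext r
    · simp [hgσ]
    · simp [hgσ]
    · rcases r with ⟨q, hq⟩
      simp [LinearMap.mem_ker.1 hq]
    · rcases r with ⟨q, hq⟩
      simp [LinearMap.mem_ker.1 hq]
  · ext y j
    simp

end Groth.Agent.S16197
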