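import Groth.Statements.S16234
import Mathlib

set_option autoImplicit false
universe u v
open CAlg

namespace Groth.Agent.S16234

/-- For a finitely generated module M over a Noetherian commutative ring A, every prime ideal in the
support of M is a maximal ideal if and only if M has finite length. -/
theorem result (A : Type u) [CommRing A] [IsNoetherianRing A]
    (M : Type v) [AddCommGroup M] [Module A M] [Module.Finite A M] :
    (∀ p ∈ Module.support A M, p.asIdeal.IsMaximal) ↔ IsFiniteLength A M := by
  classical
  constructor
  · intro h
    rw [isFiniteLength_iff_isNoetherian_isArtinian]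
    refine ⟨inferInstance, ?_⟩
    -- A ⧸ J is Artinian
    have hdim : Ring.KrullDimLE 0 (A ⧸ Module.annihilator A M) := by
      rw [Ideal.krullDimLE_zero_quotient_iff_forall_minimalPrimes_isMaximal]
      intro J hJ
      have hJp : J.IsPrime := hJ.1.1
      have : (⟨J, hJp⟩ : PrimeSpectrum A) ∈ Module.support A M := by
        rw [Module.support_eq_zeroLocus, PrimeSpectrum.mem_zeroLocus]
        exact hJ.1.2
      exact h _ this
    have hart : IsArtinianRing (A ⧸ Module.annihilator A M) :=
      IsNoetherianRing.isArtinianRing_of_krullDimLE_zero
    let _ : Module (A ⧸ Module.annihilator A M) M := Module.quotientAnnihilator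
    have : IsScalarTower A (A ⧸ Module.annihilator A M) M :=
      (Module.isTorsionBySet_annihilator A M).isScalarTower
    have : Module.Finite (A ⧸ Module.annihilator A M) M := Module.Finite.of_restrictScalars_finite A _ M
    have : IsArtinian (A ⧸ Module.annihilator A M) M := inferInstance
    exact isArtinian_of_surjective_algebraMap (S := A) (R := A ⧸ Module.annihilator A M)
      Ideal.Quotient.mk_surjective
  · intro h p hp
    rw [isFiniteLength_iff_isNoetherian_isArtinian] at h
    obtain ⟨-, hart⟩ := h
    obtain ⟨m, hm⟩ := Module.mem_support_iff_exists_annihilator.mp hp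
    -- A ⧸ ann(m) is Artinian as A-module
    have h1 : IsArtinian A (A ⧸ LinearMap.ker (LinearMap.toSpanSingleton A M m)) :=
      (LinearMap.quotKerEquivRange (LinearMap.toSpanSingleton A M m)).symm.isArtinian_iff.mp
        inferInstance
    have hle : LinearMap.ker (LinearMap.toSpanSingleton A M m) ≤ p.asIdeal := by
      intro a ha
      apply hm
      rw [Submodule.mem_annihilator_span_singleton]
      simpa using ha
    have h2 : IsArtinian A (A ⧸ p.asIdeal) :=
      isArtinian_of_surjective (A ⧸ LinearMap.ker (LinearMap.toSpanSingleton A M m))
        (Submodule.factor hle) (Submodule.factor_surjective hle)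
    have h3 : IsArtinianRing (A ⧸ p.asIdeal) := by
      let e : (A ⧸ p.asIdeal) →ₛₗ[Ideal.Quotient.mk p.asIdeal] (A ⧸ p.asIdeal) :=
        ⟨.id _, fun _ _ ↦ rfl⟩
      rw [IsArtinianRing, ← e.isArtinian_iff_of_bijective Function.bijective_id]
      exact h2
    have hfield : IsField (A ⧸ p.asIdeal) := IsArtinianRing.isField_of_isDomain _
    exact Ideal.Quotient.maximal_of_isField _ hfield

end Groth.Agent.S16234
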