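import Groth.Statements.S16235
import Mathlib

set_option autoImplicit false
universe u
open CAlg

namespace Groth.Agent.S16235

/-- Let A be a Noetherian commutative ring and x_1, …, x_r a regular sequence on A (each x_i a
non-zero-divisor on A/(x_1, …, x_{i-1})) generating an ideal I ≠ A. Then the height of I, the
infimum of the heights of the minimal primes over I, equals r. -/
theorem result (A : Type u) [CommRing A] [IsNoetherianRing A]
    (r : ℕ) (x : Fin r → A) (hx : RingTheory.Sequence.IsWeaklyRegular A (List.ofFn x))
    (hI : Ideal.span (Set.range x) ≠ ⊤) :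
    (Ideal.span (Set.range x)).height = r := by
  classical
  set l : List A := List.ofFn x with hl
  have hlen : l.length = r := List.length_ofFn
  have hIl : Ideal.span (Set.range x) = Ideal.ofList l := by
    congr 1
    ext a
    simp [hl, List.mem_ofFn]
  -- regularity modulo the previous elements, elementwise
  have hreg : ∀ i (h : i < l.length), ∀ a : A,
      l[i] * a ∈ Ideal.ofList (l.take i) → a ∈ Ideal.ofList (l.take i) := by
    intro i h a ha
    have hr := hx.regular_mod_prev i h
    have hsm : (Ideal.ofList (l.take i) • ⊤ : Submodule A A) = Ideal.ofList (l.take i) := by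
      rw [smul_eq_mul, Ideal.mul_top]
    have h1 : (Submodule.Quotient.mk a : A ⧸ (Ideal.ofList (l.take i) • ⊤ : Submodule A A)) = 0 := by
      apply hr
      simp only [smul_zero]
      rw [← Submodule.Quotient.mk_smul, Submodule.Quotient.mk_eq_zero, hsm, smul_eq_mul]
      exact ha
    rw [Submodule.Quotient.mk_eq_zero, hsm] at h1
    exact h1
  -- lower bound by induction
  have hlow : ∀ i, i ≤ l.length → ∀ P : Ideal A, P.IsPrime → Ideal.ofList (l.take i) ≤ P →
      (i : ℕ∞) ≤ P.height := by
    intro i
    induction i with
    | zero => intro _ P _ _; simp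
    | succ i ih =>
      intro hi P hP hle
      have hi' : i < l.length := hi
      have htake : l.take (i + 1) = l.take i ++ [l[i]] := List.take_succ_eq_append_getElem hi'
      have hJ : Ideal.ofList (l.take (i + 1)) = Ideal.ofList (l.take i) ⊔ Ideal.span {l[i]} := by
        rw [htake, Ideal.ofList_append, Ideal.ofList_singleton]
      rw [hJ] at hle
      have hle1 : Ideal.ofList (l.take i) ≤ P := le_sup_left.trans hle
      have hxi : l[i] ∈ P := hle (Ideal.mem_sup_right (Ideal.mem_span_singleton_self _))
      obtain ⟨P', hP'min, hP'le⟩ := Ideal.exists_minimalPrimes_le hle1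
      have hP'prime : P'.IsPrime := hP'min.1.1
      have ih' := ih (Nat.le_of_succ_le hi) P' hP'prime hP'min.1.2
      have hxnot : l[i] ∉ P' := by
        intro hmem
        rw [Ideal.minimalPrimes_eq_comap] at hP'min
        obtain ⟨p'', hp''min, rfl⟩ := hP'min
        have hdisj := Ideal.disjoint_nonZeroDivisors_of_mem_minimalPrimes hp''min
        have hnzd : Ideal.Quotient.mk (Ideal.ofList (l.take i)) l[i] ∈
            nonZeroDivisors (A ⧸ Ideal.ofList (l.take i)) := by
          rw [mem_nonZeroDivisors_iff_right]
          intro y hy
          obtain ⟨a, rfl⟩ := Ideal.Quotient.mk_surjective y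
          rw [← map_mul, Ideal.Quotient.eq_zero_iff_mem, mul_comm] at hy
          exact Ideal.Quotient.eq_zero_iff_mem.2 (hreg i hi' a hy)
        exact Set.disjoint_left.1 hdisj (Ideal.mem_comap.1 hmem) hnzd
      have hlt : P' < P := lt_of_le_of_ne hP'le (fun h => hxnot (h ▸ hxi))
      have := Ideal.height_add_one_le_of_lt_of_isPrime hlt
      calc ((i + 1 : ℕ) : ℕ∞) = (i : ℕ∞) + 1 := by push_cast; rfl
        _ ≤ P'.height + 1 := by gcongr
        _ ≤ P.height := this
  apply le_antisymm
  · -- upper bound: Krull's height theorem
    obtain ⟨⟨P, hP⟩⟩ := Ideal.nonempty_minimalPrimes hI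
    have hs : Ideal.span (Set.range x) = Ideal.span ((Finset.univ.image x : Finset A) : Set A) := by
      congr 1
      ext a
      simp
    have hP' : P ∈ (Ideal.span ((Finset.univ.image x : Finset A) : Set A)).minimalPrimes := by
      rw [← hs]; exact hP
    have h1 := Ideal.height_le_card_of_mem_minimalPrimes_span_finset hP'
    have h2 : (Ideal.span (Set.range x)).height ≤ P.height := by
      rw [Ideal.height_eq_inf_minimalPrimes]
      exact iInf₂_le P hP
    have h3 : ((Finset.univ.image x).card : ℕ∞) ≤ r := by
      have : (Finset.univ.image x).card ≤ r := by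
        calc (Finset.univ.image x).card ≤ (Finset.univ : Finset (Fin r)).card := Finset.card_image_le
          _ = r := by simp
      exact_mod_cast this
    exact h2.trans (h1.trans h3)
  · rw [Ideal.height_eq_inf_minimalPrimes]
    refine le_iInf₂ (fun P hP => ?_)
    have := hlow l.length le_rfl P hP.1.1 (by
      rw [List.take_length, ← hIl]; exact hP.1.2)
    rw [hlen] at this
    exact this

end Groth.Agent.S16235
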