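import Groth.Statements.S16244
import Groth.Statements.S16244
import Mathlib

set_option autoImplicit false
universe u
open Curves

namespace Groth.Agent.S16244

/-- Let k be an algebraically closed field in which 2 and 3 are nonzero, and W a short Weierstrass
equation y² = x³ + a₄x + a₆ over k with nonzero discriminant. The admissible changes of variables
(u, r, s, t) that fix W form a cyclic group, of order 6 when a₄ = 0, of order 4 when a₆ = 0, and of
order 2 when a₄ and a₆ are both nonzero. (The published statement says the automorphism group of the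
elliptic curve is cyclic of order 2, 4 or 6; the automorphisms are rendered here as the changes of
variables preserving the equation, and the case distinction is the one the computation gives.) -/
theorem result
    (k : Type u) [Field k] [IsAlgClosed k] (h2 : (2 : k) ≠ 0) (h3 : (3 : k) ≠ 0)
    (W : WeierstrassCurve k) [W.IsShortNF] (hΔ : W.Δ ≠ 0) :
    IsCyclic ↥(MulAction.stabilizer (WeierstrassCurve.VariableChange k) W) ∧
      (W.a₄ = 0 → Nat.card ↥(MulAction.stabilizer (WeierstrassCurve.VariableChange k) W) = 6) ∧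
      (W.a₆ = 0 → Nat.card ↥(MulAction.stabilizer (WeierstrassCurve.VariableChange k) W) = 4) ∧
      (W.a₄ ≠ 0 → W.a₆ ≠ 0 → Nat.card ↥(MulAction.stabilizer (WeierstrassCurve.VariableChange k) W) = 2) := by
  classical
  have ha₁ : W.a₁ = 0 := W.a₁_of_isShortNF
  have ha₂ : W.a₂ = 0 := W.a₂_of_isShortNF
  have ha₃ : W.a₃ = 0 := W.a₃_of_isShortNF
  have hΔ' : 4 * W.a₄ ^ 3 + 27 * W.a₆ ^ 2 ≠ 0 := by
    intro h; apply hΔ; rw [W.Δ_of_isShortNF, h, mul_zero]
  -- membership
  have hmem : ∀ C : WeierstrassCurve.VariableChange k,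
      C ∈ MulAction.stabilizer (WeierstrassCurve.VariableChange k) W ↔
      (C.r = 0 ∧ C.s = 0 ∧ C.t = 0 ∧ W.a₄ = (C.u : k) ^ 4 * W.a₄ ∧
        W.a₆ = (C.u : k) ^ 6 * W.a₆) := by
    intro C
    rw [MulAction.mem_stabilizer_iff]
    have hvw : (C.u : k) * ((C.u⁻¹ : kˣ) : k) = 1 := Units.mul_inv C.u
    have hv0 : ((C.u⁻¹ : kˣ) : k) ≠ 0 := Units.ne_zero _
    have hv4 : (C.u : k) ^ 4 * ((C.u⁻¹ : kˣ) : k) ^ 4 = 1 := by rw [← mul_pow, hvw, one_pow]
    have hv6 : (C.u : k) ^ 6 * ((C.u⁻¹ : kˣ) : k) ^ 6 = 1 := by rw [← mul_pow, hvw, one_pow]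
    constructor
    · intro h
      have e1 := congrArg WeierstrassCurve.a₁ h
      have e2 := congrArg WeierstrassCurve.a₂ h
      have e3 := congrArg WeierstrassCurve.a₃ h
      have h4 := congrArg WeierstrassCurve.a₄ h
      have h6 := congrArg WeierstrassCurve.a₆ h
      rw [WeierstrassCurve.variableChange_a₁, ha₁] at e1
      rw [WeierstrassCurve.variableChange_a₂, ha₁, ha₂] at e2
      rw [WeierstrassCurve.variableChange_a₃, ha₁, ha₃] at e3
      rw [WeierstrassCurve.variableChange_a₄, ha₁, ha₂, ha₃] at h4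
      rw [WeierstrassCurve.variableChange_a₆, ha₁, ha₂, ha₃] at h6
      have hs : C.s = 0 := by
        rcases mul_eq_zero.mp e1 with h | h
        · exact absurd h hv0
        · rw [zero_add] at h
          exact (mul_eq_zero.mp h).resolve_left h2
      have hr : C.r = 0 := by
        rcases mul_eq_zero.mp e2 with h | h
        · exact absurd h (pow_ne_zero _ hv0)
        · rw [hs] at h
          have : (3 : k) * C.r = 0 := by linear_combination h
          exact (mul_eq_zero.mp this).resolve_left h3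
      have ht : C.t = 0 := by
        rcases mul_eq_zero.mp e3 with h | h
        · exact absurd h (pow_ne_zero _ hv0)
        · rw [hr] at h
          have : (2 : k) * C.t = 0 := by linear_combination h
          exact (mul_eq_zero.mp this).resolve_left h2
      rw [hr, hs, ht] at h4
      rw [hr, ht] at h6
      refine ⟨hr, hs, ht, ?_, ?_⟩
      · linear_combination ((C.u : k) ^ 4) * h4 - W.a₄ * hv4
      · linear_combination ((C.u : k) ^ 6) * h6 - W.a₆ * hv6
    · rintro ⟨hr, hs, ht, h4, h6⟩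
      ext
      · rw [WeierstrassCurve.variableChange_a₁, ha₁, hs]; ring
      · rw [WeierstrassCurve.variableChange_a₂, ha₁, ha₂, hs, hr]; ring
      · rw [WeierstrassCurve.variableChange_a₃, ha₁, ha₃, hr, ht]; ring
      · rw [WeierstrassCurve.variableChange_a₄, ha₁, ha₂, ha₃, hr, hs, ht]
        linear_combination (((C.u⁻¹ : kˣ) : k) ^ 4) * h4 + W.a₄ * hv4
      · rw [WeierstrassCurve.variableChange_a₆, ha₁, ha₂, ha₃, hr, ht]
        linear_combination (((C.u⁻¹ : kˣ) : k) ^ 6) * h6 + W.a₆ * hv6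
  -- the general equivalence with roots of unity
  have key : ∀ n : ℕ, (∀ u : kˣ, (W.a₄ = (u : k) ^ 4 * W.a₄ ∧ W.a₆ = (u : k) ^ 6 * W.a₆) ↔
      u ^ n = 1) →
      Nonempty (↥(MulAction.stabilizer (WeierstrassCurve.VariableChange k) W) ≃*
        rootsOfUnity n k) := by
    intro n hn
    refine ⟨{ toFun := fun C => ⟨C.1.u, ?_⟩
              invFun := fun ζ => ⟨⟨ζ.1, 0, 0, 0⟩, ?_⟩
              left_inv := ?_
              right_inv := ?_
              map_mul' := ?_ }⟩
    · rw [mem_rootsOfUnity]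
      obtain ⟨-, -, -, h4, h6⟩ := (hmem C.1).mp C.2
      exact (hn _).mp ⟨h4, h6⟩
    · rw [hmem]
      have := (hn ζ.1).mpr ((mem_rootsOfUnity _ _).mp ζ.2)
      exact ⟨rfl, rfl, rfl, this.1, this.2⟩
    · intro C
      obtain ⟨hr, hs, ht, -, -⟩ := (hmem C.1).mp C.2
      apply Subtype.ext
      ext
      · rfl
      · exact hr.symm
      · exact hs.symm
      · exact ht.symm
    · intro ζ
      rfl
    · intro C C'
      rfl
  have fin : ∀ n : ℕ, ((n : ℕ) : k) ≠ 0 → (∀ u : kˣ, (W.a₄ = (u : k) ^ 4 * W.a₄ ∧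
      W.a₆ = (u : k) ^ 6 * W.a₆) ↔ u ^ n = 1) →
      IsCyclic ↥(MulAction.stabilizer (WeierstrassCurve.VariableChange k) W) ∧
      Nat.card ↥(MulAction.stabilizer (WeierstrassCurve.VariableChange k) W) = n := by
    intro n hn0 hn
    obtain ⟨e⟩ := key n hn
    have : NeZero ((n : ℕ) : k) := ⟨hn0⟩
    have : NeZero n := .of_neZero_natCast k
    refine ⟨e.isCyclic.mpr (rootsOfUnity.isCyclic k n), ?_⟩
    rw [Nat.card_congr e.toEquiv]
    exact HasEnoughRootsOfUnity.natCard_rootsOfUnity k n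
  have upow : ∀ (u : kˣ) (n : ℕ), u ^ n = 1 ↔ (u : k) ^ n = 1 := by
    intro u n
    rw [Units.ext_iff, Units.val_pow_eq_pow_val, Units.val_one]
  have h6' : ((6 : ℕ) : k) ≠ 0 := by
    have : ((6 : ℕ) : k) = 2 * 3 := by norm_num
    rw [this]; exact mul_ne_zero h2 h3
  have h4' : ((4 : ℕ) : k) ≠ 0 := by
    have : ((4 : ℕ) : k) = 2 * 2 := by norm_num
    rw [this]; exact mul_ne_zero h2 h2
  have h2' : ((2 : ℕ) : k) ≠ 0 := by
    have : ((2 : ℕ) : k) = 2 := by norm_num
    rw [this]; exact h2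
  -- case a₄ = 0
  have c6 : W.a₄ = 0 → (∀ u : kˣ, (W.a₄ = (u : k) ^ 4 * W.a₄ ∧
      W.a₆ = (u : k) ^ 6 * W.a₆) ↔ u ^ 6 = 1) := by
    intro h0 u
    have h6ne : W.a₆ ≠ 0 := by
      intro h; apply hΔ'; rw [h0, h]; ring
    rw [upow, h0]
    constructor
    · rintro ⟨-, h⟩
      have : ((u : k) ^ 6 - 1) * W.a₆ = 0 := by linear_combination -h
      exact sub_eq_zero.mp ((mul_eq_zero.mp this).resolve_right h6ne)
    · intro h
      exact ⟨by ring, by rw [h, one_mul]⟩
  have c4 : W.a₆ = 0 → (∀ u : kˣ, (W.a₄ = (u : k) ^ 4 * W.a₄ ∧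
      W.a₆ = (u : k) ^ 6 * W.a₆) ↔ u ^ 4 = 1) := by
    intro h0 u
    have h4ne : W.a₄ ≠ 0 := by
      intro h; apply hΔ'; rw [h0, h]; ring
    rw [upow, h0]
    constructor
    · rintro ⟨h, -⟩
      have : ((u : k) ^ 4 - 1) * W.a₄ = 0 := by linear_combination -h
      exact sub_eq_zero.mp ((mul_eq_zero.mp this).resolve_right h4ne)
    · intro h
      exact ⟨by rw [h, one_mul], by ring⟩
  have c2 : W.a₄ ≠ 0 → W.a₆ ≠ 0 → (∀ u : kˣ, (W.a₄ = (u : k) ^ 4 * W.a₄ ∧
      W.a₆ = (u : k) ^ 6 * W.a₆) ↔ u ^ 2 = 1) := by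
    intro h4ne h6ne u
    rw [upow]
    constructor
    · rintro ⟨h4, h6⟩
      have e4 : (u : k) ^ 4 = 1 := by
        have : ((u : k) ^ 4 - 1) * W.a₄ = 0 := by linear_combination -h4
        exact sub_eq_zero.mp ((mul_eq_zero.mp this).resolve_right h4ne)
      have e6 : (u : k) ^ 6 = 1 := by
        have : ((u : k) ^ 6 - 1) * W.a₆ = 0 := by linear_combination -h6
        exact sub_eq_zero.mp ((mul_eq_zero.mp this).resolve_right h6ne)
      calc (u : k) ^ 2 = (u : k) ^ 2 * (u : k) ^ 4 := by rw [e4, mul_one]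
        _ = (u : k) ^ 6 := by ring
        _ = 1 := e6
    · intro h
      have e4 : (u : k) ^ 4 = 1 := by
        calc (u : k) ^ 4 = ((u : k) ^ 2) ^ 2 := by ring
          _ = 1 := by rw [h, one_pow]
      have e6 : (u : k) ^ 6 = 1 := by
        calc (u : k) ^ 6 = ((u : k) ^ 2) ^ 3 := by ring
          _ = 1 := by rw [h, one_pow]
      exact ⟨by rw [e4, one_mul], by rw [e6, one_mul]⟩
  refine ⟨?_, fun h => (fin 6 h6' (c6 h)).2, fun h => (fin 4 h4' (c4 h)).2,
    fun h h' => (fin 2 h2' (c2 h h')).2⟩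
  by_cases h4 : W.a₄ = 0
  · exact (fin 6 h6' (c6 h4)).1
  · by_cases h6 : W.a₆ = 0
    · exact (fin 4 h4' (c4 h6)).1
    · exact (fin 2 h2' (c2 h4 h6)).1

end Groth.Agent.S16244
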