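import Groth.Statements.S16259
import Mathlib

set_option autoImplicit false
open W4c3wronskmg

namespace Groth.Agent.S16259

open Polynomial in
/-- Over a field of characteristic zero, for positive integers `i, j` and a natural number `n`, the
polynomial `h(W) = ∑_{l=0}^{n} (i choose l) (j choose (n-l)) W^(n-l)`, the coefficient of
`X^(i+j-n)` in `(X+1)^i (X+W)^j`, has no multiple root other than possibly `0` and `1`: every `c ≠
0, 1` has root multiplicity at most one. -/
theorem result
    (k : Type*) [Field k] [CharZero k] (i j n : ℕ) (hi : 0 < i) (hj : 0 < j) (c : k) (hc0 : c ≠ 0) (hc1 : c ≠ 1) :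
    Polynomial.rootMultiplicity c
      (∑ l ∈ Finset.range (n + 1),
        Polynomial.C (((i.choose l) * (j.choose (n - l)) : ℕ) : k) * Polynomial.X ^ (n - l)) ≤ 1 := by
  classical
  obtain ⟨h, hh⟩ : ∃ h : k[X], h = ∑ l ∈ Finset.range (n + 1),
      Polynomial.C (((i.choose l) * (j.choose (n - l)) : ℕ) : k) * Polynomial.X ^ (n - l) :=
    ⟨_, rfl⟩
  rw [← hh]
  have hcoeff : ∀ m, h.coeff m =
      if m ≤ n then ((i.choose (n - m) * j.choose m : ℕ) : k) else 0 := by
    intro m
    rw [hh, finsetSum_coeff]
    simp only [coeff_C_mul_X_pow]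
    split_ifs with hm
    · rw [Finset.sum_eq_single (n - m)]
      · rw [if_pos (by omega), Nat.sub_sub_self hm]
      · intro l hl hne
        have := Finset.mem_range.mp hl
        rw [if_neg (by omega)]
      · intro hnot
        exact absurd (Finset.mem_range.mpr (by omega)) hnot
    · apply Finset.sum_eq_zero
      intro l hl
      rw [if_neg (by omega)]
  have hrec : ∀ m : ℕ, ((m : k) + 1) * ((m : k) + 1 + i - n) * h.coeff (m + 1)
      = ((n : k) - m) * ((j : k) - m) * h.coeff m := by
    intro m
    rw [hcoeff, hcoeff]
    by_cases hm : m + 1 ≤ n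
    · rw [if_pos hm, if_pos (by omega)]
      have hA : ((j.choose (m + 1) : ℕ) : k) * ((m : k) + 1)
          = ((j.choose m : ℕ) : k) * ((j : k) - m) := by
        by_cases hmj : m ≤ j
        · have h1 := Nat.choose_succ_right_eq j m
          have h2 := congrArg (fun x : ℕ => (x : k)) h1
          push_cast [Nat.cast_sub hmj] at h2
          linear_combination h2
        · rw [Nat.choose_eq_zero_of_lt (by omega : j < m + 1),
            Nat.choose_eq_zero_of_lt (by omega : j < m)]
          simp
      have hB : ((i.choose (n - m) : ℕ) : k) * ((n : k) - m)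
          = ((i.choose (n - (m + 1)) : ℕ) : k) * ((i : k) - n + m + 1) := by
        have e : n - (m + 1) + 1 = n - m := by omega
        by_cases hki : n - (m + 1) ≤ i
        · have h1 := Nat.choose_succ_right_eq i (n - (m + 1))
          rw [e] at h1
          have h2 := congrArg (fun x : ℕ => (x : k)) h1
          push_cast [Nat.cast_sub hki, Nat.cast_sub (by omega : m ≤ n),
            Nat.cast_sub (by omega : m + 1 ≤ n)] at h2
          linear_combination h2
        · rw [Nat.choose_eq_zero_of_lt (by omega : i < n - m),
            Nat.choose_eq_zero_of_lt (by omega : i < n - (m + 1))]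
          simp
      push_cast
      linear_combination (((i.choose (n - (m + 1)) : ℕ) : k) * ((m : k) + 1 + i - n)) * hA
        - (((j.choose m : ℕ) : k) * ((j : k) - m)) * hB
    · rw [if_neg hm]
      by_cases hm' : m ≤ n
      · have hmn : m = n := by omega
        subst hmn
        simp
      · rw [if_neg hm']; simp
  have c1 : ∀ m : ℕ, (derivative h).coeff m = h.coeff (m + 1) * ((m : k) + 1) :=
    fun m => coeff_derivative h m
  have c2 : ∀ m : ℕ, (X * derivative h).coeff m = (m : k) * h.coeff m := by
    intro m
    rcases m with _ | m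
    · rw [coeff_X_mul_zero]; simp
    · rw [coeff_X_mul, c1]; push_cast; ring
  have c3 : ∀ m : ℕ, (X * derivative (derivative h)).coeff m
      = ((m : k) + 1) * m * h.coeff (m + 1) := by
    intro m
    rcases m with _ | m
    · rw [coeff_X_mul_zero]; simp
    · rw [coeff_X_mul, coeff_derivative, c1]; push_cast; ring
  have c4 : ∀ m : ℕ, (X ^ 2 * derivative (derivative h)).coeff m
      = (m : k) * ((m : k) - 1) * h.coeff m := by
    intro m
    rcases m with _ | _ | m
    · rw [coeff_X_pow_mul', if_neg (by omega)]; simp
    · rw [coeff_X_pow_mul', if_neg (by omega)]; simp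
    · rw [coeff_X_pow_mul', if_pos (by omega), show m + 1 + 1 - 2 = m by omega, coeff_derivative, c1]
      push_cast; ring
  have hODE : (X - X ^ 2) * derivative (derivative h)
      = C ((n : k) * j) * h - (C (1 + (i : k) - n) - C (1 - (n : k) - j) * X) * derivative h := by
    ext m
    have e : (X - X ^ 2) * derivative (derivative h)
        = X * derivative (derivative h) - X ^ 2 * derivative (derivative h) := by ring
    have e' : C ((n : k) * j) * h - (C (1 + (i : k) - n) - C (1 - (n : k) - j) * X) * derivative h
        = C ((n : k) * j) * h - C (1 + (i : k) - n) * derivative h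
          + C (1 - (n : k) - j) * (X * derivative h) := by ring
    rw [e, e', coeff_sub, coeff_add, coeff_sub, coeff_C_mul, coeff_C_mul, coeff_C_mul, c1, c2, c3, c4]
    linear_combination hrec m
  by_contra hgt
  push Not at hgt
  have hne : h ≠ 0 := by
    intro h0
    rw [h0, rootMultiplicity_zero] at hgt
    omega
  obtain ⟨hroot, hroot'⟩ := (one_lt_rootMultiplicity_iff_isRoot hne).mp hgt
  have hμ1 : (derivative h).rootMultiplicity c = h.rootMultiplicity c - 1 :=
    derivative_rootMultiplicity_of_root hroot
  have hμ2 : (derivative (derivative h)).rootMultiplicity c = h.rootMultiplicity c - 1 - 1 := by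
    rw [derivative_rootMultiplicity_of_root hroot', hμ1]
  have hProot : ¬ (X - X ^ 2 : k[X]).IsRoot c := by
    rw [IsRoot.def, eval_sub, eval_X, eval_pow, eval_X]
    intro h0
    have : c * (1 - c) = 0 := by linear_combination h0
    rcases mul_eq_zero.mp this with h1 | h1
    · exact hc0 h1
    · exact hc1 (by linear_combination -h1)
  have hPne : (X - X ^ 2 : k[X]) ≠ 0 := by
    intro h0; apply hProot; rw [h0]; exact IsRoot.def.mpr (eval_zero)
  have hdvd : (X - C c) ^ (h.rootMultiplicity c - 1) ∣ (X - X ^ 2) * derivative (derivative h) := by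
    rw [hODE]
    apply dvd_sub
    · exact Dvd.dvd.mul_left
        ((pow_dvd_pow _ (Nat.sub_le _ 1)).trans (pow_rootMultiplicity_dvd h c)) _
    · apply Dvd.dvd.mul_left
      rw [← hμ1]
      exact pow_rootMultiplicity_dvd _ c
  by_cases h2 : derivative (derivative h) = 0
  · have e1 := Polynomial.derivative_eq_zero.mp h2
    have e2 : derivative h = C ((derivative h).coeff 0) := eq_C_of_natDegree_eq_zero e1
    have e3 : derivative h = 0 := by
      rw [e2, IsRoot.def, eval_C] at hroot'
      rw [e2, hroot', C_0]
    have f1 := Polynomial.derivative_eq_zero.mp e3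
    have f2 : h = C (h.coeff 0) := eq_C_of_natDegree_eq_zero f1
    apply hne
    rw [f2, IsRoot.def, eval_C] at hroot
    rw [f2, hroot, C_0]
  · have hPh : (X - X ^ 2) * derivative (derivative h) ≠ 0 := mul_ne_zero hPne h2
    have h1 := (le_rootMultiplicity_iff hPh).mpr hdvd
    rw [rootMultiplicity_mul hPh, rootMultiplicity_eq_zero hProot, zero_add, hμ2] at h1
    omega

end Groth.Agent.S16259
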