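import Groth.Statements.S16312
import Mathlib

set_option autoImplicit false
universe u
open W4c3irrattreebun

namespace Groth.Agent.S16312

/-- Let N be a closed cone in real n-space, f a function continuous on N, positive at the nonzero points
of N and homogeneous of degree one under scaling by nonnegative reals, and Λ a discrete additive
subgroup. Then for every real c the set of points H of Λ lying in N with f(H) ≤ c is finite. (The
published statement takes Λ to be a lattice; this row allows any discrete additive subgroup.) -/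
theorem result (n : ℕ)
    (N : Set (EuclideanSpace ℝ (Fin n))) (hN : IsClosed N)
    (hcone : ∀ x ∈ N, ∀ r : ℝ, 0 ≤ r → r • x ∈ N)
    (f : EuclideanSpace ℝ (Fin n) → ℝ) (hf : ContinuousOn f N)
    (hpos : ∀ x ∈ N, x ≠ 0 → 0 < f x)
    (hhom : ∀ x ∈ N, ∀ r : ℝ, 0 ≤ r → f (r • x) = r * f x)
    (Λ : Submodule ℤ (EuclideanSpace ℝ (Fin n))) [DiscreteTopology Λ] (c : ℝ) :
    ({x : EuclideanSpace ℝ (Fin n) | x ∈ N ∧ f x ≤ c} ∩ (Λ : Set (EuclideanSpace ℝ (Fin n)))).Finite := by
  classical
  -- Λ is closed and discrete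
  have hdiscT : DiscreteTopology (Λ.toAddSubgroup) := ‹DiscreteTopology Λ›
  have hΛclosed : IsClosed ((Λ.toAddSubgroup : AddSubgroup (EuclideanSpace ℝ (Fin n))) :
      Set (EuclideanSpace ℝ (Fin n))) := AddSubgroup.isClosed_of_discrete
  have hΛdisc : IsDiscrete ((Λ.toAddSubgroup : AddSubgroup (EuclideanSpace ℝ (Fin n))) :
      Set (EuclideanSpace ℝ (Fin n))) := isDiscrete_iff_discreteTopology.mpr hdiscT
  have hballfin : ∀ R : ℝ, (Metric.closedBall (0 : EuclideanSpace ℝ (Fin n)) R ∩
      (Λ : Set (EuclideanSpace ℝ (Fin n)))).Finite := by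
    intro R
    have hcomp : IsCompact (Metric.closedBall (0 : EuclideanSpace ℝ (Fin n)) R ∩
        (Λ : Set (EuclideanSpace ℝ (Fin n)))) :=
      (isCompact_closedBall _ _).inter_right hΛclosed
    exact hcomp.finite (hΛdisc.mono Set.inter_subset_right)
  -- the unit sphere part of the cone
  set S : Set (EuclideanSpace ℝ (Fin n)) := N ∩ Metric.sphere 0 1 with hS
  have hScomp : IsCompact S := (isCompact_sphere _ _).inter_left hN
  by_cases hSne : S.Nonempty
  · obtain ⟨x₀, hx₀S, hx₀min⟩ := hScomp.exists_isMinOn hSne (hf.mono Set.inter_subset_left)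
    have hx₀ne : x₀ ≠ 0 := by
      intro h
      have : ‖x₀‖ = 1 := by simpa using hx₀S.2
      rw [h, norm_zero] at this
      exact zero_ne_one this
    have hm : 0 < f x₀ := hpos x₀ hx₀S.1 hx₀ne
    refine (hballfin (|c| / f x₀)).subset ?_
    rintro x ⟨⟨hxN, hxc⟩, hxΛ⟩
    refine ⟨?_, hxΛ⟩
    rw [Metric.mem_closedBall, dist_zero_right]
    by_cases hx0 : x = 0
    · rw [hx0, norm_zero]; positivity
    · have hnorm : 0 < ‖x‖ := norm_pos_iff.2 hx0
      set u : EuclideanSpace ℝ (Fin n) := ‖x‖⁻¹ • x with hu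
      have huN : u ∈ N := hcone x hxN _ (inv_nonneg.2 hnorm.le)
      have hunorm : ‖u‖ = 1 := by
        rw [hu, norm_smul, norm_inv, norm_norm, inv_mul_cancel₀ hnorm.ne']
      have huS : u ∈ S := ⟨huN, by simpa using hunorm⟩
      have hxu : x = ‖x‖ • u := by
        rw [hu, smul_smul, mul_inv_cancel₀ hnorm.ne', one_smul]
      have hfx : f x = ‖x‖ * f u := by
        conv_lhs => rw [hxu]
        exact hhom u huN _ hnorm.le
      have hmin : f x₀ ≤ f u := hx₀min huS
      rw [le_div_iff₀ hm]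
      calc ‖x‖ * f x₀ ≤ ‖x‖ * f u := mul_le_mul_of_nonneg_left hmin hnorm.le
        _ = f x := hfx.symm
        _ ≤ c := hxc
        _ ≤ |c| := le_abs_self c
  · refine (Set.finite_singleton (0 : EuclideanSpace ℝ (Fin n))).subset ?_
    rintro x ⟨⟨hxN, -⟩, -⟩
    by_contra hx0
    have hx0' : x ≠ 0 := hx0
    apply hSne
    have hnorm : 0 < ‖x‖ := norm_pos_iff.2 hx0'
    refine ⟨‖x‖⁻¹ • x, hcone x hxN _ (inv_nonneg.2 hnorm.le), ?_⟩
    rw [mem_sphere_zero_iff_norm, norm_smul, norm_inv, norm_norm, inv_mul_cancel₀ hnorm.ne']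

end Groth.Agent.S16312
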