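import Groth.Statements.S16325
import Mathlib
import Groth.Agent.H8Cx

set_option autoImplicit false
universe u v
open CategoryTheory
open W4c3biextchow

namespace Groth.Agent.S16325

/-- Let f : C ⟶ D be a chain map of ℕ-indexed chain complexes of modules over a ring R, and consider the
functor it induces between the groupoids attached to C and D (objects: degree-0 elements; morphisms
a ⟶ b: degree-1 elements with boundary b - a, modulo boundaries of degree-2 elements). This functor
is faithful if and only if f is injective on homology in degree 1. (The published statement is for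
complexes of abelian groups; this row allows modules over any ring R.) -/
theorem result
    (R : Type u) [Ring R] (C D : ChainComplex (ModuleCat.{v} R) ℕ) (f : C ⟶ D) :
    (W4c3biextchow.cxFunctor f).Faithful ↔ Mono (HomologicalComplex.homologyMap f 1) := by
  rw [H8Cx.mono_homologyMap_iff f 2 1 0 (by simp) (by simp)]
  constructor
  · intro hF x hx hy
    obtain ⟨y, hy⟩ := hy
    let a : W4c3biextchow.Obj C := ⟨0⟩
    let φ : a ⟶ a := ⟨Submodule.Quotient.mk x, by
      rw [W4c3biextchow.delta_mk, hx, sub_self]⟩
    have h1 : (W4c3biextchow.cxFunctor f).map φ = (W4c3biextchow.cxFunctor f).map (𝟙 a) := by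
      apply W4c3biextchow.Hom.ext
      rw [W4c3biextchow.cxFunctor_map_cl, W4c3biextchow.cxFunctor_map_cl]
      show W4c3biextchow.q1Map f (Submodule.Quotient.mk x) = W4c3biextchow.q1Map f 0
      rw [W4c3biextchow.q1Map_mk, map_zero, Submodule.Quotient.mk_eq_zero]
      exact ⟨y, hy.symm⟩
    have h2 := hF.map_injective h1
    have h3 : (Submodule.Quotient.mk x : W4c3biextchow.Q1 C) = 0 :=
      congrArg W4c3biextchow.Hom.cl h2
    rw [Submodule.Quotient.mk_eq_zero] at h3
    obtain ⟨x₁, hx₁⟩ := h3
    exact ⟨x₁, hx₁.symm⟩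
  · intro h
    constructor
    intro a b φ ψ hφψ
    apply W4c3biextchow.Hom.ext
    have h1 : W4c3biextchow.q1Map f (φ : W4c3biextchow.Hom C a b).cl =
        W4c3biextchow.q1Map f (ψ : W4c3biextchow.Hom C a b).cl :=
      congrArg W4c3biextchow.Hom.cl hφψ
    obtain ⟨x, hx⟩ := Submodule.Quotient.mk_surjective _
      ((φ : W4c3biextchow.Hom C a b).cl - (ψ : W4c3biextchow.Hom C a b).cl)
    have hdx : (C.d 1 0).hom x = 0 := by
      rw [← W4c3biextchow.delta_mk, hx, map_sub, W4c3biextchow.Hom.delta_cl,
        W4c3biextchow.Hom.delta_cl, sub_self]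
    have hfx : ∃ y, (f.f 1).hom x = (D.d 2 1).hom y := by
      have h2 : W4c3biextchow.q1Map f (Submodule.Quotient.mk x) = 0 := by
        rw [hx, map_sub, h1, sub_self]
      rw [W4c3biextchow.q1Map_mk, Submodule.Quotient.mk_eq_zero] at h2
      obtain ⟨y, hy⟩ := h2
      exact ⟨y, hy.symm⟩
    obtain ⟨x₁, hx₁⟩ := h x hdx hfx
    have h3 : (Submodule.Quotient.mk x : W4c3biextchow.Q1 C) = 0 := by
      rw [Submodule.Quotient.mk_eq_zero]
      exact ⟨x₁, hx₁.symm⟩
    rw [hx] at h3
    exact sub_eq_zero.mp h3

end Groth.Agent.S16325
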