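import Groth.Statements.S16326
import Mathlib
import Groth.Agent.H8Cx

set_option autoImplicit false
universe u v
open CategoryTheory
open W4c3biextchow

namespace Groth.Agent.S16326

/-- Let f : C ⟶ D be a chain map of ℕ-indexed chain complexes of modules over a ring R, and consider the
functor it induces between the groupoids attached to C and D (objects: degree-0 elements; morphisms
a ⟶ b: degree-1 elements with boundary b - a, modulo boundaries of degree-2 elements). This functor
is full if and only if f is surjective on homology in degree 1 and injective on homology in degree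
0. (The published statement is for complexes of abelian groups; this row allows modules over any
ring R.) -/
theorem result
    (R : Type u) [Ring R] (C D : ChainComplex (ModuleCat.{v} R) ℕ) (f : C ⟶ D) :
    (W4c3biextchow.cxFunctor f).Full ↔
      Epi (HomologicalComplex.homologyMap f 1) ∧ Mono (HomologicalComplex.homologyMap f 0) := by
  rw [H8Cx.epi_homologyMap_iff f 2 1 0 (by simp) (by simp),
    H8Cx.mono_homologyMap_iff f 1 0 0 (by simp) (by simp)]
  constructor
  · intro hF
    refine ⟨?_, ?_⟩
    · intro y hy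
      let a : W4c3biextchow.Obj C := ⟨0⟩
      let ψ : (W4c3biextchow.cxFunctor f).obj a ⟶ (W4c3biextchow.cxFunctor f).obj a :=
        ⟨Submodule.Quotient.mk y, by rw [W4c3biextchow.delta_mk, hy, sub_self]⟩
      obtain ⟨φ, hφ⟩ := hF.map_surjective ψ
      obtain ⟨x, hx⟩ := Submodule.Quotient.mk_surjective _ (φ : W4c3biextchow.Hom C a a).cl
      have hdx : (C.d 1 0).hom x = 0 := by
        rw [← W4c3biextchow.delta_mk, hx, W4c3biextchow.Hom.delta_cl, sub_self]
      refine ⟨x, hdx, ?_⟩
      have h1 : W4c3biextchow.q1Map f (Submodule.Quotient.mk x) = Submodule.Quotient.mk y := by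
        rw [hx]
        exact congrArg W4c3biextchow.Hom.cl hφ
      rw [W4c3biextchow.q1Map_mk, eq_comm, Submodule.Quotient.eq] at h1
      obtain ⟨y₁, hy₁⟩ := h1
      refine ⟨y₁, ?_⟩
      rw [hy₁]
      abel
    · intro x _ hy
      obtain ⟨y, hy⟩ := hy
      let a : W4c3biextchow.Obj C := ⟨0⟩
      let b : W4c3biextchow.Obj C := ⟨x⟩
      let ψ : (W4c3biextchow.cxFunctor f).obj a ⟶ (W4c3biextchow.cxFunctor f).obj b :=
        ⟨Submodule.Quotient.mk y, by
          rw [W4c3biextchow.delta_mk, W4c3biextchow.cxFunctor_obj_pt,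
            W4c3biextchow.cxFunctor_obj_pt, ← hy]
          show (f.f 0).hom x = (f.f 0).hom x - (f.f 0).hom 0
          rw [map_zero, sub_zero]⟩
      obtain ⟨φ, -⟩ := hF.map_surjective ψ
      obtain ⟨x₁, hx₁⟩ := Submodule.Quotient.mk_surjective _ (φ : W4c3biextchow.Hom C a b).cl
      refine ⟨x₁, ?_⟩
      have h1 := (φ : W4c3biextchow.Hom C a b).delta_cl
      rw [← hx₁, W4c3biextchow.delta_mk] at h1
      rw [h1]
      show x = x - 0
      rw [sub_zero]
  · rintro ⟨hE, hM⟩
    constructor
    intro a b ψ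
    obtain ⟨y, hy⟩ := Submodule.Quotient.mk_surjective _
      (ψ : W4c3biextchow.Hom D _ _).cl
    have hdy : (D.d 1 0).hom y = (f.f 0).hom (b.pt - a.pt) := by
      rw [← W4c3biextchow.delta_mk, hy, W4c3biextchow.Hom.delta_cl, map_sub]
      rfl
    have hC0 : (C.d 0 0).hom (b.pt - a.pt) = 0 := by
      have : ¬ (ComplexShape.down ℕ).Rel 0 0 := by simp
      rw [C.shape 0 0 this]
      rfl
    obtain ⟨x₁, hx₁⟩ := hM (b.pt - a.pt) hC0 ⟨y, hdy.symm⟩
    have hcomm : ∀ z : C.X 1, (D.d 1 0).hom ((f.f 1).hom z) = (f.f 0).hom ((C.d 1 0).hom z) := by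
      intro z
      have h := congrArg (fun φ => φ.hom z) (f.comm 1 0)
      simpa only [ModuleCat.hom_comp, LinearMap.comp_apply] using h
    have hcyc : (D.d 1 0).hom (y - (f.f 1).hom x₁) = 0 := by
      rw [map_sub, hdy, hcomm, ← hx₁, sub_self]
    obtain ⟨x, hx, y₁, hy₁⟩ := hE _ hcyc
    refine ⟨⟨Submodule.Quotient.mk (x₁ + x), ?_⟩, ?_⟩
    · rw [W4c3biextchow.delta_mk, map_add, hx, add_zero, ← hx₁]
    · apply W4c3biextchow.Hom.ext
      rw [W4c3biextchow.cxFunctor_map_cl]
      show W4c3biextchow.q1Map f (Submodule.Quotient.mk (x₁ + x)) = _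
      rw [W4c3biextchow.q1Map_mk, ← hy, Submodule.Quotient.eq]
      refine ⟨-y₁, ?_⟩
      rw [map_neg, map_add]
      have : y = (f.f 1).hom x₁ + ((f.f 1).hom x + (D.d 2 1).hom y₁) := by
        rw [← hy₁]; abel
      rw [this]
      abel

end Groth.Agent.S16326
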