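import Groth.Statements.S16327
import Mathlib
import Groth.Agent.H8Cx

set_option autoImplicit false
universe u v
open CategoryTheory
open W4c3biextchow

namespace Groth.Agent.S16327

/-- Let f : C ⟶ D be a chain map of ℕ-indexed chain complexes of modules over a ring R, and consider the
functor it induces between the groupoids attached to C and D (objects: degree-0 elements; morphisms
a ⟶ b: degree-1 elements with boundary b - a, modulo boundaries of degree-2 elements). This functor
is essentially surjective if and only if f is surjective on homology in degree 0. (The published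
statement is for complexes of abelian groups; this row allows modules over any ring R.) -/
theorem result
    (R : Type u) [Ring R] (C D : ChainComplex (ModuleCat.{v} R) ℕ) (f : C ⟶ D) :
    (W4c3biextchow.cxFunctor f).EssSurj ↔ Epi (HomologicalComplex.homologyMap f 0) := by
  rw [H8Cx.epi_homologyMap_iff f 1 0 0 (by simp) (by simp)]
  constructor
  · intro hE y _
    obtain ⟨a, ⟨e⟩⟩ := hE.mem_essImage (⟨y⟩ : W4c3biextchow.Obj D)
    refine ⟨a.pt, ?_, ?_⟩
    · have : ¬ (ComplexShape.down ℕ).Rel 0 0 := by simp
      rw [C.shape 0 0 this]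
      rfl
    · obtain ⟨w, hw⟩ := Submodule.Quotient.mk_surjective _ (e.hom : W4c3biextchow.Hom D _ _).cl
      refine ⟨w, ?_⟩
      have h1 := (e.hom : W4c3biextchow.Hom D _ _).delta_cl
      rw [← hw, W4c3biextchow.delta_mk] at h1
      rw [h1]
      show y = (f.f 0).hom a.pt + (y - (f.f 0).hom a.pt)
      abel
  · intro h
    constructor
    intro d
    have hd0 : (D.d 0 0).hom d.pt = 0 := by
      have : ¬ (ComplexShape.down ℕ).Rel 0 0 := by simp
      rw [D.shape 0 0 this]
      rfl
    obtain ⟨x, _, y₁, hy₁⟩ := h d.pt hd0
    refine ⟨⟨x⟩, ⟨?_⟩⟩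
    have hδ : W4c3biextchow.delta D (Submodule.Quotient.mk y₁) =
        d.pt - ((W4c3biextchow.cxFunctor f).obj ⟨x⟩).pt := by
      rw [W4c3biextchow.delta_mk, W4c3biextchow.cxFunctor_obj_pt, hy₁]
      abel
    exact
      { hom := ⟨Submodule.Quotient.mk y₁, hδ⟩
        inv := ⟨-Submodule.Quotient.mk y₁, by rw [map_neg, hδ]; abel⟩
        hom_inv_id := by
          apply W4c3biextchow.Hom.ext
          rw [W4c3biextchow.comp_cl, W4c3biextchow.id_cl]
          exact add_neg_cancel _
        inv_hom_id := by
          apply W4c3biextchow.Hom.ext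
          rw [W4c3biextchow.comp_cl, W4c3biextchow.id_cl]
          exact neg_add_cancel _ }

end Groth.Agent.S16327
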