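import Groth.Statements.S16331
import Mathlib
import Groth.Agent.H8Cx

set_option autoImplicit false
universe v
open CategoryTheory
open W4c3biextchow

namespace Groth.Agent.S16331

open CategoryTheory

theorem comm_apply {R : Type*} [Ring R] {X Y : ChainComplex (ModuleCat.{v} R) ℕ} (g : X ⟶ Y)
    (i j : ℕ) (z : X.X i) :
    (Y.d i j).hom ((g.f i).hom z) = (g.f j).hom ((X.d i j).hom z) := by
  have h := congrArg (fun φ => φ.hom z) (g.comm i j)
  simpa only [ModuleCat.hom_comp, LinearMap.comp_apply] using h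

theorem d_d_apply {R : Type*} [Ring R] (X : ChainComplex (ModuleCat.{v} R) ℕ) (i j k : ℕ)
    (z : X.X i) : (X.d j k).hom ((X.d i j).hom z) = 0 := by
  have h := congrArg (fun φ => φ.hom z) (X.d_comp_d i j k)
  simpa only [ModuleCat.hom_comp, LinearMap.comp_apply, ModuleCat.hom_zero,
    LinearMap.zero_apply] using h


/-- Let f : A' ⟶ A be a chain map of ℕ-indexed chain complexes of free abelian groups which is injective
in every degree, with free degreewise quotients A_q / f(A'_q), and a quasi-isomorphism; let h' : A'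
⟶ B be a chain map to another complex of free abelian groups and g₁, g₂ : A ⟶ A' two chain maps with
f ≫ g₁ = f ≫ g₂ = 𝟙. Consider the functors induced by g₁ ≫ h' and g₂ ≫ h' between the groupoids
attached to A and B (objects: degree-0 elements; morphisms a ⟶ b: degree-1 elements with boundary b
- a, modulo boundaries of degree-2 elements). Then there is a natural isomorphism between these two
functors whose component at every object of the form f(a'), a' a degree-0 element of A', is the zero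
class, i.e. the identity morphism of h'(a'). -/
theorem result
    (A' A B : ChainComplex (ModuleCat.{v} ℤ) ℕ) (f : A' ⟶ A) (h' : A' ⟶ B)
    [∀ q, Module.Free ℤ (A'.X q)] [∀ q, Module.Free ℤ (A.X q)] [∀ q, Module.Free ℤ (B.X q)]
    (hf : ∀ q, Function.Injective (f.f q).hom)
    (hq : ∀ q, Module.Free ℤ ((A.X q) ⧸ LinearMap.range (f.f q).hom)) [QuasiIso f]
    (g₁ g₂ : A ⟶ A') (h₁ : f ≫ g₁ = 𝟙 A') (h₂ : f ≫ g₂ = 𝟙 A') :
    ∃ N : W4c3biextchow.cxFunctor (g₁ ≫ h') ≅ W4c3biextchow.cxFunctor (g₂ ≫ h'),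
      ∀ a : W4c3biextchow.Obj A',
        (N.hom.app ((W4c3biextchow.cxFunctor f).obj a) : W4c3biextchow.Hom B _ _).cl = 0 := by
  classical
  -- retraction identities
  have hg₁ : ∀ (q : ℕ) (z : A'.X q), (g₁.f q).hom ((f.f q).hom z) = z := by
    intro q z
    have h := congrArg (fun φ : A' ⟶ A' => (φ.f q).hom z) h₁
    simpa only [HomologicalComplex.comp_f, ModuleCat.hom_comp, LinearMap.comp_apply,
      HomologicalComplex.id_f, ModuleCat.hom_id, LinearMap.id_apply] using h
  have hg₂ : ∀ (q : ℕ) (z : A'.X q), (g₂.f q).hom ((f.f q).hom z) = z := by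
    intro q z
    have h := congrArg (fun φ : A' ⟶ A' => (φ.f q).hom z) h₂
    simpa only [HomologicalComplex.comp_f, ModuleCat.hom_comp, LinearMap.comp_apply,
      HomologicalComplex.id_f, ModuleCat.hom_id, LinearMap.id_apply] using h
  -- the difference u = g₁ - g₂
  let u : ∀ q : ℕ, A.X q →ₗ[ℤ] A'.X q := fun q => (g₁.f q).hom - (g₂.f q).hom
  have hu : ∀ q (z : A.X q), u q z = (g₁.f q).hom z - (g₂.f q).hom z := fun q z => rfl
  have huf : ∀ q (z : A'.X q), u q ((f.f q).hom z) = 0 := by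
    intro q z
    rw [hu, hg₁, hg₂, sub_self]
  have hud : ∀ (i j : ℕ) (z : A.X i), (A'.d i j).hom (u i z) = u j ((A.d i j).hom z) := by
    intro i j z
    rw [hu, hu, map_sub, comm_apply, comm_apply]
  -- homology facts
  have hiso0 : IsIso (HomologicalComplex.homologyMap f 0) := inferInstance
  have hiso1 : IsIso (HomologicalComplex.homologyMap f 1) := inferInstance
  have hE0 := (H8Cx.epi_homologyMap_iff f 1 0 0 (by simp) (by simp)).mp inferInstance
  have hM0 := (H8Cx.mono_homologyMap_iff f 1 0 0 (by simp) (by simp)).mp inferInstance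
  have hE1 := (H8Cx.epi_homologyMap_iff f 2 1 0 (by simp) (by simp)).mp inferInstance
  have hA0 : ∀ z : A.X 0, (A.d 0 0).hom z = 0 := by
    intro z
    have : ¬ (ComplexShape.down ℕ).Rel 0 0 := by simp
    rw [A.shape 0 0 this]
    rfl
  have hA'0 : ∀ z : A'.X 0, (A'.d 0 0).hom z = 0 := by
    intro z
    have : ¬ (ComplexShape.down ℕ).Rel 0 0 := by simp
    rw [A'.shape 0 0 this]
    rfl
  -- (a)
  have ha : ∀ a : A.X 0, ∃ (a' : A'.X 0) (a₁ : A.X 1), a = (f.f 0).hom a' + (A.d 1 0).hom a₁ := by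
    intro a
    obtain ⟨a', -, a₁, h⟩ := hE0 a (hA0 a)
    exact ⟨a', a₁, h⟩
  -- (b)
  have hb : ∀ x : A.X 1, (A.d 1 0).hom x ∈ LinearMap.range (f.f 0).hom →
      ∃ (x' : A'.X 1) (x₂ : A.X 2), x = (f.f 1).hom x' + (A.d 2 1).hom x₂ := by
    intro x hx
    obtain ⟨a', ha'⟩ := hx
    obtain ⟨a'₁, ha'₁⟩ := hM0 a' (hA'0 a') ⟨x, ha'⟩
    have hcyc : (A.d 1 0).hom (x - (f.f 1).hom a'₁) = 0 := by
      rw [map_sub, comm_apply, ← ha'₁, ha', sub_self]
    obtain ⟨x'', -, x₂, h⟩ := hE1 _ hcyc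
    refine ⟨a'₁ + x'', x₂, ?_⟩
    rw [map_add]
    have : x = (f.f 1).hom a'₁ + (x - (f.f 1).hom a'₁) := by abel
    rw [this, h]
    abel
  -- the free quotient Q₀ and the section
  have hfree : Module.Free ℤ ((A.X 0) ⧸ LinearMap.range (f.f 0).hom) := hq 0
  let bq := Module.Free.chooseBasis ℤ ((A.X 0) ⧸ LinearMap.range (f.f 0).hom)
  have hrep : ∀ ι, ∃ (a₁ : A.X 1),
      (Submodule.Quotient.mk ((A.d 1 0).hom a₁) : (A.X 0) ⧸ LinearMap.range (f.f 0).hom) =
        bq ι := by
    intro ι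
    obtain ⟨a, ha0⟩ := Submodule.Quotient.mk_surjective _ (bq ι)
    obtain ⟨a', a₁, h⟩ := ha a
    refine ⟨a₁, ?_⟩
    rw [← ha0, Submodule.Quotient.eq]
    refine ⟨-a', ?_⟩
    rw [map_neg, h]
    abel
  choose a₁ ha₁ using hrep
  let st := bq.constr ℕ a₁
  have hst : ∀ q : (A.X 0) ⧸ LinearMap.range (f.f 0).hom,
      (Submodule.Quotient.mk ((A.d 1 0).hom (st q)) :
        (A.X 0) ⧸ LinearMap.range (f.f 0).hom) = q := by
    intro q
    have : ((LinearMap.range (f.f 0).hom).mkQ.toAddMonoidHom.comp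
        ((A.d 1 0).hom.toAddMonoidHom.comp st.toAddMonoidHom)).toIntLinearMap = LinearMap.id := by
      apply bq.ext
      intro ι
      simp only [AddMonoidHom.coe_toIntLinearMap, AddMonoidHom.coe_comp, Function.comp_apply,
        LinearMap.toAddMonoidHom_coe, LinearMap.id_apply, st, Module.Basis.constr_basis]
      exact ha₁ ι
    exact LinearMap.congr_fun this q
  let H₀ : A.X 0 →+ A'.X 1 := (u 1).toAddMonoidHom.comp
    (st.toAddMonoidHom.comp (LinearMap.range (f.f 0).hom).mkQ.toAddMonoidHom)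
  have hH₀ : ∀ a, H₀ a = u 1 (st (Submodule.Quotient.mk a)) := fun a => rfl
  have hH₀f : ∀ a' : A'.X 0, H₀ ((f.f 0).hom a') = 0 := by
    intro a'
    rw [hH₀]
    have : (Submodule.Quotient.mk ((f.f 0).hom a') : (A.X 0) ⧸ LinearMap.range (f.f 0).hom) = 0 := by
      rw [Submodule.Quotient.mk_eq_zero]
      exact ⟨a', rfl⟩
    rw [this, map_zero, map_zero]
  have hdH₀ : ∀ a : A.X 0, (A'.d 1 0).hom (H₀ a) = u 0 a := by
    intro a
    rw [hH₀, hud]
    have h1 := hst (Submodule.Quotient.mk a)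
    rw [Submodule.Quotient.eq] at h1
    obtain ⟨a', ha'⟩ := h1
    have : (A.d 1 0).hom (st (Submodule.Quotient.mk a)) = a + (f.f 0).hom a' := by
      rw [ha']; abel
    rw [this, map_add, huf, add_zero]
  -- (c)
  have hc : ∀ x : A.X 1, ∃ z₂ : A'.X 2, u 1 x - H₀ ((A.d 1 0).hom x) = (A'.d 2 1).hom z₂ := by
    intro x
    have hxt : (A.d 1 0).hom (x - st (Submodule.Quotient.mk ((A.d 1 0).hom x))) ∈
        LinearMap.range (f.f 0).hom := by
      rw [← Submodule.Quotient.mk_eq_zero, map_sub, Submodule.Quotient.mk_sub, hst, sub_self]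
    obtain ⟨x', x₂, h⟩ := hb _ hxt
    refine ⟨u 2 x₂, ?_⟩
    rw [hH₀, ← map_sub, h, map_add, huf, zero_add, hud]
  -- the components
  have hF : ∀ (g : A ⟶ A') (a : W4c3biextchow.Obj A),
      ((W4c3biextchow.cxFunctor (g ≫ h')).obj a).pt = (h'.f 0).hom ((g.f 0).hom a.pt) := by
    intro g a
    rfl
  have hδ : ∀ a : W4c3biextchow.Obj A,
      W4c3biextchow.delta B (-(Submodule.Quotient.mk ((h'.f 1).hom (H₀ a.pt)))) =
        ((W4c3biextchow.cxFunctor (g₂ ≫ h')).obj a).pt -
          ((W4c3biextchow.cxFunctor (g₁ ≫ h')).obj a).pt := by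
    intro a
    rw [map_neg, W4c3biextchow.delta_mk, comm_apply, hdH₀, hF, hF, hu, map_sub]
    abel
  let N : ∀ a : W4c3biextchow.Obj A, (W4c3biextchow.cxFunctor (g₁ ≫ h')).obj a ≅
      (W4c3biextchow.cxFunctor (g₂ ≫ h')).obj a := fun a =>
    { hom := ⟨-(Submodule.Quotient.mk ((h'.f 1).hom (H₀ a.pt))), hδ a⟩
      inv := ⟨Submodule.Quotient.mk ((h'.f 1).hom (H₀ a.pt)), by
        have := hδ a
        rw [map_neg] at this
        rw [← neg_sub, ← this, neg_neg]⟩
      hom_inv_id := by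
        apply W4c3biextchow.Hom.ext
        rw [W4c3biextchow.comp_cl, W4c3biextchow.id_cl]
        exact neg_add_cancel _
      inv_hom_id := by
        apply W4c3biextchow.Hom.ext
        rw [W4c3biextchow.comp_cl, W4c3biextchow.id_cl]
        exact add_neg_cancel _ }
  have hNcl : ∀ a, ((N a).hom : W4c3biextchow.Hom B _ _).cl =
      -(Submodule.Quotient.mk ((h'.f 1).hom (H₀ a.pt))) := fun a => rfl
  have hnat : ∀ {a b : W4c3biextchow.Obj A} (φ : a ⟶ b),
      (W4c3biextchow.cxFunctor (g₁ ≫ h')).map φ ≫ (N b).hom =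
        (N a).hom ≫ (W4c3biextchow.cxFunctor (g₂ ≫ h')).map φ := by
    intro a b φ
    apply W4c3biextchow.Hom.ext
    rw [W4c3biextchow.comp_cl, W4c3biextchow.comp_cl, hNcl, hNcl, W4c3biextchow.cxFunctor_map_cl,
      W4c3biextchow.cxFunctor_map_cl]
    obtain ⟨x, hx⟩ := Submodule.Quotient.mk_surjective _ (φ : W4c3biextchow.Hom A a b).cl
    have hdx : (A.d 1 0).hom x = b.pt - a.pt := by
      rw [← W4c3biextchow.delta_mk, hx, W4c3biextchow.Hom.delta_cl]
    rw [← hx, W4c3biextchow.q1Map_mk, W4c3biextchow.q1Map_mk]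
    obtain ⟨z₂, hz₂⟩ := hc x
    rw [hdx, map_sub] at hz₂
    simp only [HomologicalComplex.comp_f, ModuleCat.hom_comp, LinearMap.comp_apply]
    rw [← sub_eq_zero]
    have : (Submodule.Quotient.mk ((h'.f 1).hom ((g₁.f 1).hom x)) : W4c3biextchow.Q1 B) +
        -(Submodule.Quotient.mk ((h'.f 1).hom (H₀ b.pt))) -
        (-(Submodule.Quotient.mk ((h'.f 1).hom (H₀ a.pt))) +
          Submodule.Quotient.mk ((h'.f 1).hom ((g₂.f 1).hom x))) =
        Submodule.Quotient.mk ((h'.f 1).hom (u 1 x - (H₀ b.pt - H₀ a.pt))) := by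
      rw [hu]
      simp only [map_sub, Submodule.Quotient.mk_sub]
      abel
    rw [this, hz₂, Submodule.Quotient.mk_eq_zero, ← comm_apply]
    exact ⟨_, rfl⟩
  refine ⟨NatIso.ofComponents N hnat, ?_⟩
  · intro a
    show ((N ((W4c3biextchow.cxFunctor f).obj a)).hom : W4c3biextchow.Hom B _ _).cl = 0
    rw [hNcl]
    have : ((W4c3biextchow.cxFunctor f).obj a).pt = (f.f 0).hom a.pt := rfl
    rw [this, hH₀f, map_zero, Submodule.Quotient.mk_zero, neg_zero]

end Groth.Agent.S16331
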