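import Groth.Statements.S16335
import Mathlib

set_option autoImplicit false
universe u v w w'
open TensorProduct
open InvTh

namespace Groth.Agent.S16335

/-- Let `R` be a commutative ring with an action of a finite group `Γ` by ring automorphisms such that
the order of `Γ` is invertible in `R`, and let `A → R` be injective with image exactly the
invariants `R^Γ`, the action being `A`-linear. Then for every commutative `A`-algebra `S`, with `Γ`
acting on `S ⊗_A R` through the factor `R`, the map `S → S ⊗_A R`, `s ↦ s ⊗ 1`, is injective and its
image is exactly the set of `Γ`-fixed elements: `S ≅ (S ⊗_A R)^Γ`. No flatness of `S` over `A` is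
assumed; the invertibility of the order of `Γ` replaces it. This is the affine statement that for a
tame quotient the coarse space commutes with arbitrary base change. (The published lemma is the
statement that the coarse moduli space of a tame Deligne–Mumford stack commutes with arbitrary base
change, whose proof reduces to this ring statement. The published lemma also asserts the analogous
statement for the reduced fibre product when the base-change scheme is reduced; that clause is not
part of this row.) -/
theorem result
    (A : Type u) [CommRing A] (R : Type v) [CommRing R] [Algebra A R]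
    (Γ : Type w) [Group Γ] [Finite Γ] [MulSemiringAction Γ R] [SMulCommClass Γ A R]
    [Algebra.IsInvariant A R Γ] (hinj : Function.Injective (algebraMap A R))
    (hΓ : IsUnit (Nat.card Γ : R))
    (S : Type w') [CommRing S] [Algebra A S] :
    Function.Injective (fun s : S => s ⊗ₜ[A] (1 : R)) ∧
      ∀ x : S ⊗[A] R,
        (∀ γ : Γ, Algebra.TensorProduct.map (AlgHom.id A S) (MulSemiringAction.toAlgHom A R γ) x = x) →
          x ∈ Set.range (fun s : S => s ⊗ₜ[A] (1 : R)) := by
  classical
  haveI : Fintype Γ := Fintype.ofFinite Γ
  obtain ⟨u, hu⟩ := hΓ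
  rw [Nat.card_eq_fintype_card] at hu
  have hδu : ∀ δ : Γ, δ • (u : R) = u := by
    intro δ
    rw [hu]
    exact map_natCast (MulSemiringAction.toRingHom Γ R δ) _
  have hδui : ∀ δ : Γ, δ • (↑u⁻¹ : R) = ↑u⁻¹ := by
    intro δ
    have h1 : δ • (↑u⁻¹ : R) * ↑u = 1 := by
      conv_lhs => rw [← hδu δ, ← smul_mul']
      simp
    exact Units.eq_inv_of_mul_eq_one_left (by rw [mul_comm]; exact h1)
  obtain ⟨a', ha'⟩ := Algebra.IsInvariant.isInvariant (A := A) (G := Γ) (↑u⁻¹ : R) hδui
  have ha'1 : a' * (Fintype.card Γ : A) = 1 := by
    apply hinj
    rw [map_mul, ha', map_natCast, ← hu, map_one]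
    simp
  let Sg : R →ₗ[A] R := ∑ γ : Γ, (MulSemiringAction.toAlgHom A R γ).toLinearMap
  have hSg : ∀ r, Sg r = ∑ γ : Γ, γ • r := by
    intro r; simp [Sg, LinearMap.sum_apply]
  let avg : R →ₗ[A] R := a' • Sg
  have havgfix : ∀ r (δ : Γ), δ • avg r = avg r := by
    intro r δ
    simp only [avg, LinearMap.smul_apply, hSg]
    rw [smul_comm, Finset.smul_sum]
    congr 1
    simp only [← mul_smul]
    exact Fintype.sum_equiv (Equiv.mulLeft δ) _ _ (fun γ => rfl)
  have havgrange : ∀ r, avg r ∈ LinearMap.range (Algebra.linearMap A R) := by
    intro r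
    obtain ⟨a, ha⟩ := Algebra.IsInvariant.isInvariant (A := A) (G := Γ) (avg r) (havgfix r)
    exact ⟨a, ha⟩
  let ρ : R →ₗ[A] A := (LinearEquiv.ofInjective (Algebra.linearMap A R) hinj).symm.toLinearMap ∘ₗ
    (avg.codRestrict (LinearMap.range (Algebra.linearMap A R)) havgrange)
  have hρ : ∀ r, algebraMap A R (ρ r) = avg r := by
    intro r
    have h1 := LinearEquiv.ofInjective_apply (Algebra.linearMap A R) (h := hinj)
      ((LinearEquiv.ofInjective (Algebra.linearMap A R) hinj).symm
        (avg.codRestrict (LinearMap.range (Algebra.linearMap A R)) havgrange r))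
    rw [LinearEquiv.apply_symm_apply] at h1
    simp only [LinearMap.codRestrict_apply, Algebra.linearMap_apply] at h1
    exact h1.symm
  have havg1 : avg 1 = 1 := by
    simp only [avg, LinearMap.smul_apply, hSg, smul_one, Finset.sum_const, Finset.card_univ]
    rw [← Nat.cast_smul_eq_nsmul A, ← mul_smul, ha'1, one_smul]
  have hρ1 : ρ 1 = 1 := by
    apply hinj
    rw [hρ, havg1, map_one]
  have hcomp : (Algebra.linearMap A R) ∘ₗ ρ = avg := by
    ext r; exact hρ r
  constructor
  · intro s t hst
    have := congrArg (fun x => TensorProduct.rid A S (LinearMap.lTensor S ρ x)) hst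
    simpa [hρ1] using this
  · intro x hx
    have h1 : ∀ y : S ⊗[A] R, LinearMap.lTensor S Sg y =
        ∑ γ : Γ, Algebra.TensorProduct.map (AlgHom.id A S) (MulSemiringAction.toAlgHom A R γ) y := by
      intro y
      induction y using TensorProduct.induction_on with
      | zero => simp
      | tmul s r => simp [hSg, TensorProduct.tmul_sum]
      | add y z hy hz => simp only [map_add, hy, hz, Finset.sum_add_distrib]
    have h2 : LinearMap.lTensor S avg x = x := by
      simp only [avg, LinearMap.lTensor_smul, LinearMap.smul_apply, h1, hx, Finset.sum_const,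
        Finset.card_univ]
      rw [← Nat.cast_smul_eq_nsmul A, ← mul_smul, ha'1, one_smul]
    rw [← hcomp, LinearMap.lTensor_comp, LinearMap.comp_apply] at h2
    have h3 : ∀ y : S ⊗[A] A, LinearMap.lTensor S (Algebra.linearMap A R) y ∈
        Set.range (fun s : S => s ⊗ₜ[A] (1 : R)) := by
      intro y
      refine ⟨TensorProduct.rid A S y, ?_⟩
      induction y using TensorProduct.induction_on with
      | zero => simp
      | tmul s a =>
        simp only [TensorProduct.rid_tmul, LinearMap.lTensor_tmul, Algebra.linearMap_apply]
        rw [TensorProduct.smul_tmul, Algebra.smul_def, mul_one]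
      | add y z hy hz =>
        simp only [map_add, TensorProduct.add_tmul] at hy hz ⊢
        rw [hy, hz]
    rw [← h2]
    exact h3 _

end Groth.Agent.S16335
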