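import Groth.Statements.S16337
import Mathlib

set_option autoImplicit false
universe u v w
open InvTh

namespace Groth.Agent.S16337

/-- Let `A` be a commutative ring, `Γ` a finite group whose order is invertible in `A`, `M` an
`A`-module with an `A`-linear action of `Γ`, and `I` an ideal of `A`. Then reduction modulo `I`
induces a bijection `M^Γ / I·M^Γ ≅ (M / IM)^Γ`: (a) an element of `M` fixed by `Γ` modulo `IM` is
congruent modulo `IM` to a `Γ`-fixed element, and (b) a `Γ`-fixed element lying in `IM` lies in
`I·M^Γ`, where `M^Γ` is the submodule of `Γ`-fixed elements. (The published lemma says that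
push-forward to the coarse space of a tame stack over a complete local base commutes with reduction
modulo powers of the maximal ideal; this row is the module statement its proof establishes, for an
arbitrary ideal.) -/
theorem result
    (A : Type u) [CommRing A] (Γ : Type v) [Group Γ] [Finite Γ] (hΓ : IsUnit (Nat.card Γ : A))
    (M : Type w) [AddCommGroup M] [Module A M] [DistribMulAction Γ M] [SMulCommClass Γ A M]
    (I : Ideal A) :
    (∀ x : M, (∀ γ : Γ, γ • x - x ∈ I • (⊤ : Submodule A M)) →
        ∃ y : M, (∀ γ : Γ, γ • y = y) ∧ x - y ∈ I • (⊤ : Submodule A M)) ∧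
      ∀ y : M, (∀ γ : Γ, γ • y = y) → y ∈ I • (⊤ : Submodule A M) →
        y ∈ I • Submodule.span A {m : M | ∀ γ : Γ, γ • m = m} := by
  classical
  haveI : Fintype Γ := Fintype.ofFinite Γ
  obtain ⟨u, hu⟩ := hΓ
  rw [Nat.card_eq_fintype_card] at hu
  let e : M →ₗ[A] M := (↑u⁻¹ : A) • ∑ γ : Γ, DistribSMul.toLinearMap A M γ
  have he : ∀ m, e m = (↑u⁻¹ : A) • ∑ γ : Γ, γ • m := by
    intro m; simp [e, LinearMap.sum_apply]
  have hfix : ∀ m (δ : Γ), δ • e m = e m := by
    intro m δ
    rw [he, smul_comm, Finset.smul_sum]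
    congr 1
    simp only [← mul_smul]
    exact Fintype.sum_equiv (Equiv.mulLeft δ) _ _ (fun γ => rfl)
  have hid : ∀ y : M, (∀ γ : Γ, γ • y = y) → e y = y := by
    intro y hy
    rw [he]
    simp only [hy]
    rw [Finset.sum_const, Finset.card_univ, ← Nat.cast_smul_eq_nsmul A, ← hu, ← mul_smul]
    simp
  constructor
  · intro x hx
    refine ⟨e x, hfix x, ?_⟩
    have : x - e x = (↑u⁻¹ : A) • ∑ γ : Γ, (x - γ • x) := by
      rw [he, Finset.sum_sub_distrib, smul_sub, Finset.sum_const, Finset.card_univ,
        ← Nat.cast_smul_eq_nsmul A, ← hu, ← mul_smul]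
      simp
    rw [this]
    apply Submodule.smul_mem
    apply Submodule.sum_mem
    intro γ _
    have := hx γ
    rw [← neg_sub]
    exact Submodule.neg_mem _ this
  · intro y hy hyI
    rw [← hid y hy]
    have h1 : e y ∈ Submodule.map e (I • (⊤ : Submodule A M)) := Submodule.mem_map_of_mem hyI
    rw [Submodule.map_smul''] at h1
    refine Submodule.smul_mono le_rfl ?_ h1
    rintro _ ⟨m, -, rfl⟩
    exact Submodule.subset_span (fun γ => hfix m γ)

end Groth.Agent.S16337
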