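import Groth.Statements.S16344
import Mathlib

set_option autoImplicit false
universe u v
open IdeleMod

namespace Groth.Agent.S16344

/-- Let (G_i) be an inverse system, indexed by a directed preorder, of compact Hausdorff topological
abelian groups with continuous surjective transition maps, let G be its limit (the group of
compatible families) and let m be a natural number. Then the canonical map G/mG → lim G_i/mG_i is
bijective: a compatible family that lies in mG_i at every index is m times a compatible family
(injectivity), and every family that is compatible modulo m agrees modulo m, index by index, with a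
compatible family (surjectivity). -/
theorem result
    {ι : Type u} [Preorder ι] [IsDirected ι (· ≤ ·)]
    (G : ι → Type v) [∀ i, AddCommGroup (G i)] [∀ i, TopologicalSpace (G i)]
    [∀ i, IsTopologicalAddGroup (G i)] [∀ i, CompactSpace (G i)] [∀ i, T2Space (G i)]
    (f : ∀ ⦃i j : ι⦄, i ≤ j → (G j →+ G i)) (hf : ∀ i j (h : i ≤ j), Continuous (f h))
    (hid : ∀ i (x : G i), f (le_refl i) x = x)
    (hcomp : ∀ i j k (hij : i ≤ j) (hjk : j ≤ k) (x : G k), f hij (f hjk x) = f (hij.trans hjk) x)
    (hsurj : ∀ i j (h : i ≤ j), Function.Surjective (f h)) (m : ℕ) :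
    (∀ x : ∀ i, G i, (∀ i j (h : i ≤ j), f h (x j) = x i) → (∀ i, ∃ y : G i, m • y = x i) →
        ∃ z : ∀ i, G i, (∀ i j (h : i ≤ j), f h (z j) = z i) ∧ ∀ i, m • z i = x i) ∧
    (∀ y : ∀ i, G i, (∀ i j (h : i ≤ j), ∃ w : G i, f h (y j) - y i = m • w) →
        ∃ x : ∀ i, G i, (∀ i j (h : i ≤ j), f h (x j) = x i) ∧ ∀ i, ∃ w : G i, x i - y i = m • w) := by
  classical
  have key : ∀ (A : ∀ i, Set (G i)), (∀ i, IsClosed (A i)) → (∀ i, (A i).Nonempty) →
      (∀ i j (h : i ≤ j), ∀ z ∈ A j, f h z ∈ A i) →
      ∃ z : ∀ i, G i, (∀ i, z i ∈ A i) ∧ ∀ i j (h : i ≤ j), f h (z j) = z i := by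
    intro A hAc hAne hAmap
    by_cases hι : Nonempty ι
    swap
    · rw [not_nonempty_iff] at hι
      exact ⟨fun i => isEmptyElim i, fun i => isEmptyElim i, fun i => isEmptyElim i⟩
    let P := {p : ι × ι // p.1 ≤ p.2}
    let t : P → Set (∀ i, G i) := fun p => {z | z p.1.2 ∈ A p.1.2 ∧ f p.2 (z p.1.2) = z p.1.1}
    have htc : ∀ p, IsClosed (t p) := by
      intro p
      apply IsClosed.inter
      · exact (hAc p.1.2).preimage (continuous_apply p.1.2)
      · exact isClosed_eq ((hf _ _ p.2).comp (continuous_apply p.1.2)) (continuous_apply p.1.1)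
    have hfip : ∀ u : Finset P, (Set.univ ∩ ⋂ p ∈ u, t p).Nonempty := by
      intro u
      obtain ⟨k, hk⟩ := Finset.exists_le (u.image fun p : P => p.1.2)
      obtain ⟨a, ha⟩ := hAne k
      refine ⟨fun i => if h : i ≤ k then f h a else 0, Set.mem_univ _, ?_⟩
      simp only [Set.mem_iInter]
      intro p hp
      have h2 : p.1.2 ≤ k := hk _ (Finset.mem_image_of_mem _ hp)
      have h1 : p.1.1 ≤ k := p.2.trans h2
      refine ⟨?_, ?_⟩
      · simp only [dif_pos h2]
        exact hAmap _ _ h2 a ha
      · simp only [dif_pos h2, dif_pos h1]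
        exact hcomp _ _ _ p.2 h2 a
    obtain ⟨z, -, hz⟩ := isCompact_univ.inter_iInter_nonempty t htc hfip
    simp only [Set.mem_iInter] at hz
    refine ⟨z, fun i => ?_, fun i j h => ?_⟩
    · exact (hz ⟨(i, i), le_refl i⟩).1
    · exact (hz ⟨(i, j), h⟩).2
  constructor
  · intro x hx hdiv
    obtain ⟨z, hzA, hzc⟩ := key (fun i => {z | m • z = x i})
      (fun i => isClosed_eq (continuous_nsmul m) continuous_const)
      (fun i => hdiv i)
      (fun i j h z hz => by
        change m • f h z = x i
        rw [← map_nsmul, show m • z = x j from hz, hx i j h])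
    exact ⟨z, hzc, hzA⟩
  · intro y hy
    obtain ⟨z, hzA, hzc⟩ := key (fun i => {z | ∃ w : G i, z - y i = m • w})
      (fun i => by
        have : {z : G i | ∃ w : G i, z - y i = m • w} = Set.range (fun w : G i => y i + m • w) := by
          ext z
          constructor
          · rintro ⟨w, hw⟩
            exact ⟨w, by simp only; rw [← hw]; abel⟩
          · rintro ⟨w, rfl⟩
            exact ⟨w, by simp⟩
        rw [this]
        exact (isCompact_range (continuous_const.add (continuous_nsmul m))).isClosed)
      (fun i => ⟨y i, 0, by simp⟩)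
      (fun i j h z hz => by
        obtain ⟨w, hw⟩ := hz
        obtain ⟨w', hw'⟩ := hy i j h
        refine ⟨f h w + w', ?_⟩
        have : f h z - y i = f h (z - y j) + (f h (y j) - y i) := by
          rw [map_sub]; abel
        rw [this, hw, hw', map_nsmul, nsmul_add])
    exact ⟨z, hzc, hzA⟩

end Groth.Agent.S16344
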