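import Groth.Statements.S16351
import Mathlib

set_option autoImplicit false
universe u
open Cubic

namespace Groth.Agent.S16351

/-- Let K be a field of characteristic zero and S = V(F) ⊂ P^3_K a cone over a plane cubic curve C,
normalised so that the vertex is [1 : 0 : 0 : 0], i.e. F is a homogeneous cubic in K[x_0, …, x_3]
not involving x_0 and C = V(F) in the plane P^2 of the coordinates x_1, x_2, x_3. If C has five
K-rational points no three of which are collinear, then S has five K-rational points in general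
position (no four coplanar: any four representing vectors linearly independent). -/
theorem result (K : Type u) [Field K] [CharZero K]
    (G : MvPolynomial (Fin 3) K) (hG : G.IsHomogeneous 3) (F : MvPolynomial (Fin 4) K)
    (hF : F = MvPolynomial.rename Fin.succ G)
    (b : Fin 5 → (Fin 3 → K)) (hb : ∀ j : Fin 5, MvPolynomial.eval (b j) G = 0)
    (h3 : ∀ i j l : Fin 5, i ≠ j → j ≠ l → i ≠ l → LinearIndependent K ![b i, b j, b l]) :
    ∃ p : Fin 5 → (Fin 4 → K), (∀ j : Fin 5, MvPolynomial.eval (p j) F = 0) ∧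
      ∀ j : Fin 5, LinearIndependent K (fun i : Fin 4 => p (j.succAbove i)) := by
  classical
  haveI : Infinite K := inferInstance
  have hrel : ∀ i1 i2 i3 i4 : Fin 5, i1 ≠ i2 → i1 ≠ i3 → i1 ≠ i4 → i2 ≠ i3 → i2 ≠ i4 → i3 ≠ i4 →
      ∃ α β : K, α ≠ 0 ∧ ∀ t : Fin 5 → K, t i3 = 0 → t i4 = 0 → α * t i1 + β * t i2 ≠ 0 →
        LinearIndependent K ![(Fin.cons (t i1) (b i1) : Fin 4 → K), Fin.cons (t i2) (b i2),
          Fin.cons (t i3) (b i3), Fin.cons (t i4) (b i4)] := by
    intro i1 i2 i3 i4 h12 h13 h14 h23 h24 h34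
    have hli := h3 i1 i2 i3 h12 h23 h13
    have htop := hli.span_eq_top_of_card_eq_finrank'
      (by rw [Fintype.card_fin, Module.finrank_fin_fun])
    have hmem : b i4 ∈ Submodule.span K (Set.range ![b i1, b i2, b i3]) := by
      rw [htop]; exact Submodule.mem_top
    obtain ⟨g, hg⟩ := (Submodule.mem_span_range_iff_exists_fun K).mp hmem
    rw [Fin.sum_univ_three] at hg
    have hg' : g 0 • b i1 + g 1 • b i2 + g 2 • b i3 = b i4 := hg
    have hα : g 0 ≠ 0 := by
      intro h0
      have hli' := h3 i2 i3 i4 h23 h34 h24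
      have := Fintype.linearIndependent_iff.mp hli' ![g 1, g 2, -1] (by
        rw [Fin.sum_univ_three]
        show g 1 • b i2 + g 2 • b i3 + (-1 : K) • b i4 = 0
        rw [← hg', h0, zero_smul, zero_add, neg_one_smul, add_neg_cancel]) 2
      have h' : (-1 : K) = 0 := this
      simp at h'
    refine ⟨g 0, g 1, hα, fun t ht3 ht4 hne => ?_⟩
    rw [Fintype.linearIndependent_iff]
    intro c hc
    rw [Fin.sum_univ_four] at hc
    have hc' : c 0 • (Fin.cons (t i1) (b i1) : Fin 4 → K) + c 1 • (Fin.cons (t i2) (b i2) : Fin 4 → K)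
        + c 2 • (Fin.cons (t i3) (b i3) : Fin 4 → K)
        + c 3 • (Fin.cons (t i4) (b i4) : Fin 4 → K) = 0 := hc
    have e0 := congrFun hc' 0
    simp only [Pi.add_apply, Pi.smul_apply, Fin.cons_zero, smul_eq_mul, Pi.zero_apply, ht3, ht4,
      mul_zero, add_zero] at e0
    have ev : c 0 • b i1 + c 1 • b i2 + c 2 • b i3 + c 3 • b i4 = 0 := by
      funext u
      have := congrFun hc' u.succ
      simpa only [Pi.add_apply, Pi.smul_apply, Fin.cons_succ, smul_eq_mul, Pi.zero_apply] using this
    rw [← hg'] at ev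
    have ev' : (c 0 + c 3 * g 0) • b i1 + (c 1 + c 3 * g 1) • b i2 + (c 2 + c 3 * g 2) • b i3
        = 0 := by
      rw [← ev]; simp only [add_smul, mul_smul, smul_add]; abel
    have hz := Fintype.linearIndependent_iff.mp hli
      ![c 0 + c 3 * g 0, c 1 + c 3 * g 1, c 2 + c 3 * g 2]
      (by rw [Fin.sum_univ_three]; exact ev')
    have z0 : c 0 + c 3 * g 0 = 0 := hz 0
    have z1 : c 1 + c 3 * g 1 = 0 := hz 1
    have z2 : c 2 + c 3 * g 2 = 0 := hz 2
    have hc3 : c 3 = 0 := by
      have : c 3 * (g 0 * t i1 + g 1 * t i2) = 0 := by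
        linear_combination -e0 + t i1 * z0 + t i2 * z1
      rcases mul_eq_zero.mp this with h | h
      · exact h
      · exact absurd h hne
    have hc0 : c 0 = 0 := by rw [hc3] at z0; linear_combination z0
    have hc1 : c 1 = 0 := by rw [hc3] at z1; linear_combination z1
    have hc2 : c 2 = 0 := by rw [hc3] at z2; linear_combination z2
    intro i
    fin_cases i
    exacts [hc0, hc1, hc2, hc3]
  obtain ⟨α0, β0, hα0, H0⟩ := hrel 1 2 3 4 (by decide) (by decide) (by decide) (by decide)
    (by decide) (by decide)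
  obtain ⟨α1, β1, hα1, H1⟩ := hrel 0 2 3 4 (by decide) (by decide) (by decide) (by decide)
    (by decide) (by decide)
  obtain ⟨α2, β2, hα2, H2⟩ := hrel 0 1 3 4 (by decide) (by decide) (by decide) (by decide)
    (by decide) (by decide)
  obtain ⟨α3, β3, hα3, H3⟩ := hrel 0 1 2 4 (by decide) (by decide) (by decide) (by decide)
    (by decide) (by decide)
  obtain ⟨α4, β4, hα4, H4⟩ := hrel 0 1 2 3 (by decide) (by decide) (by decide) (by decide)
    (by decide) (by decide)
  obtain ⟨τ, hτ⟩ := Infinite.exists_notMem_finset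
    ({0, -α2 / β2, -α3 / β3, -α4 / β4} : Finset K)
  simp only [Finset.mem_insert, Finset.mem_singleton, not_or] at hτ
  obtain ⟨hτ0, hτ2, hτ3, hτ4⟩ := hτ
  have hgen : ∀ α β : K, α ≠ 0 → τ ≠ -α / β → α * 1 + β * τ ≠ 0 := by
    intro α β hα hτ' h
    by_cases hβ : β = 0
    · apply hα; rw [hβ] at h; linear_combination h
    · apply hτ'; field_simp; linear_combination h
  obtain ⟨t, htdef⟩ : ∃ t : Fin 5 → K, t = ![1, τ, 0, 0, 0] := ⟨_, rfl⟩
  have ht0 : t 0 = 1 := by rw [htdef]; rfl
  have ht1 : t 1 = τ := by rw [htdef]; rfl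
  have ht2 : t 2 = 0 := by rw [htdef]; rfl
  have ht3 : t 3 = 0 := by rw [htdef]; rfl
  have ht4 : t 4 = 0 := by rw [htdef]; rfl
  refine ⟨fun j => Fin.cons (t j) (b j), ?_, ?_⟩
  · intro j
    rw [hF, MvPolynomial.eval_rename]
    have : (Fin.cons (t j) (b j) : Fin 4 → K) ∘ Fin.succ = b j := by
      funext u; simp [Function.comp]
    rw [this]; exact hb j
  · intro j
    fin_cases j
    · have h := H0 t ht3 ht4 (by rw [ht1, ht2, mul_zero, add_zero]; exact mul_ne_zero hα0 hτ0)
      have e : (fun i : Fin 4 => (fun j => (Fin.cons (t j) (b j) : Fin 4 → K))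
          ((0 : Fin 5).succAbove i))
          = ![(Fin.cons (t 1) (b 1) : Fin 4 → K), Fin.cons (t 2) (b 2), Fin.cons (t 3) (b 3),
            Fin.cons (t 4) (b 4)] := by
        funext i; fin_cases i <;> rfl
      rw [← e] at h; exact h
    · have h := H1 t ht3 ht4 (by rw [ht0, ht2, mul_zero, add_zero, mul_one]; exact hα1)
      have e : (fun i : Fin 4 => (fun j => (Fin.cons (t j) (b j) : Fin 4 → K))
          ((1 : Fin 5).succAbove i))
          = ![(Fin.cons (t 0) (b 0) : Fin 4 → K), Fin.cons (t 2) (b 2), Fin.cons (t 3) (b 3),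
            Fin.cons (t 4) (b 4)] := by
        funext i; fin_cases i <;> rfl
      rw [← e] at h; exact h
    · have h := H2 t ht3 ht4 (by rw [ht0, ht1]; exact hgen α2 β2 hα2 hτ2)
      have e : (fun i : Fin 4 => (fun j => (Fin.cons (t j) (b j) : Fin 4 → K))
          ((2 : Fin 5).succAbove i))
          = ![(Fin.cons (t 0) (b 0) : Fin 4 → K), Fin.cons (t 1) (b 1), Fin.cons (t 3) (b 3),
            Fin.cons (t 4) (b 4)] := by
        funext i; fin_cases i <;> rfl
      rw [← e] at h; exact h
    · have h := H3 t ht2 ht4 (by rw [ht0, ht1]; exact hgen α3 β3 hα3 hτ3)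
      have e : (fun i : Fin 4 => (fun j => (Fin.cons (t j) (b j) : Fin 4 → K))
          ((3 : Fin 5).succAbove i))
          = ![(Fin.cons (t 0) (b 0) : Fin 4 → K), Fin.cons (t 1) (b 1), Fin.cons (t 2) (b 2),
            Fin.cons (t 4) (b 4)] := by
        funext i; fin_cases i <;> rfl
      rw [← e] at h; exact h
    · have h := H4 t ht2 ht3 (by rw [ht0, ht1]; exact hgen α4 β4 hα4 hτ4)
      have e : (fun i : Fin 4 => (fun j => (Fin.cons (t j) (b j) : Fin 4 → K))
          ((4 : Fin 5).succAbove i))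
          = ![(Fin.cons (t 0) (b 0) : Fin 4 → K), Fin.cons (t 1) (b 1), Fin.cons (t 2) (b 2),
            Fin.cons (t 3) (b 3)] := by
        funext i; fin_cases i <;> rfl
      rw [← e] at h; exact h

end Groth.Agent.S16351
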