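import Groth.Statements.S16353
import Mathlib

set_option autoImplicit false
universe u
open DegLoci

namespace Groth.Agent.S16353

open MvPolynomial W4c3degenlocivb

theorem cfac_eq {m : ℕ} (α γ : Fin m →₀ ℕ) :
    (α + γ).support.prod (fun i => Nat.descFactorial ((α + γ) i) (α i)) =
      ∏ i : Fin m, Nat.descFactorial (α i + γ i) (α i) := by
  rw [Finset.prod_subset (Finset.subset_univ (α + γ).support)]
  · exact Finset.prod_congr rfl fun i _ => by rw [Finsupp.add_apply]
  · intro i _ hi
    rw [Finsupp.notMem_support_iff, Finsupp.add_apply] at hi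
    have h2 : α i = 0 := by omega
    rw [Finsupp.add_apply, hi, h2, Nat.descFactorial_zero]

theorem coeff_contract {k : Type*} [Field k] {m : ℕ} (D G : MvPolynomial (Fin m) k)
    (γ : Fin m →₀ ℕ) :
    coeff γ (contract D G) = ∑ α ∈ D.support, coeff α D * coeff (α + γ) G *
      ((∏ i : Fin m, Nat.descFactorial (α i + γ i) (α i) : ℕ) : k) := by
  classical
  unfold contract
  rw [coeff_sum]
  refine Finset.sum_congr rfl fun α _ => ?_
  rw [coeff_sum]
  have hterm : ∀ β ∈ G.support, coeff γ (if α ≤ β then monomial (β - α)
        (coeff α D * coeff β G * ((β.support.prod fun i => Nat.descFactorial (β i) (α i) : ℕ) : k))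
        else 0) =
      if β = α + γ then coeff α D * coeff (α + γ) G *
        ((∏ i : Fin m, Nat.descFactorial (α i + γ i) (α i) : ℕ) : k) else 0 := by
    intro β _
    by_cases hβ : β = α + γ
    · subst hβ
      rw [if_pos le_self_add, if_pos rfl, coeff_monomial, if_pos (add_tsub_cancel_left α γ), cfac_eq]
    · rw [if_neg hβ]
      split_ifs with hle
      · rw [coeff_monomial, if_neg]
        intro h
        apply hβ
        rw [← h, add_comm, tsub_add_cancel_of_le hle]
      · exact coeff_zero γ
  rw [Finset.sum_congr rfl hterm, Finset.sum_ite_eq']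
  split_ifs with hmem
  · rfl
  · rw [notMem_support_iff.1 hmem, mul_zero, zero_mul]

theorem dfac_key (a b e : ℕ) :
    (b + (a + e)).descFactorial b * (a + e).descFactorial a =
      (a + (b + e)).descFactorial a * (b + e).descFactorial b := by
  have h1 := Nat.descFactorial_mul_descFactorial (n := a + b + e) (k := b) (m := a + b) (by omega)
  have h2 := Nat.descFactorial_mul_descFactorial (n := a + b + e) (k := a) (m := a + b) (by omega)
  have e1 : a + b + e - b = a + e := by omega
  have e2 : a + b - b = a := by omega
  have e3 : a + b + e - a = b + e := by omega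
  have e4 : a + b - a = b := by omega
  rw [e1, e2] at h1
  rw [e3, e4] at h2
  have e5 : b + (a + e) = a + b + e := by omega
  have e6 : a + (b + e) = a + b + e := by omega
  calc (b + (a + e)).descFactorial b * (a + e).descFactorial a
      = (a + e).descFactorial a * (a + b + e).descFactorial b := by rw [e5, mul_comm]
    _ = (a + b + e).descFactorial (a + b) := h1
    _ = (b + e).descFactorial b * (a + b + e).descFactorial a := h2.symm
    _ = (a + (b + e)).descFactorial a * (b + e).descFactorial b := by rw [e6, mul_comm]

theorem contract_comm {k : Type*} [Field k] {m : ℕ} (D E F : MvPolynomial (Fin m) k) :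
    contract D (contract E F) = contract E (contract D F) := by
  ext ε
  rw [coeff_contract, coeff_contract]
  have hL : ∀ α ∈ D.support, coeff α D * coeff (α + ε) (contract E F) *
        ((∏ i, (α i + ε i).descFactorial (α i) : ℕ) : k) =
      ∑ β ∈ E.support, coeff α D * (coeff β E * coeff (β + (α + ε)) F *
        ((∏ i, (β i + (α + ε) i).descFactorial (β i) : ℕ) : k)) *
        ((∏ i, (α i + ε i).descFactorial (α i) : ℕ) : k) := by
    intro α _
    rw [coeff_contract, Finset.mul_sum, Finset.sum_mul]
  have hR : ∀ β ∈ E.support, coeff β E * coeff (β + ε) (contract D F) *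
        ((∏ i, (β i + ε i).descFactorial (β i) : ℕ) : k) =
      ∑ α ∈ D.support, coeff β E * (coeff α D * coeff (α + (β + ε)) F *
        ((∏ i, (α i + (β + ε) i).descFactorial (α i) : ℕ) : k)) *
        ((∏ i, (β i + ε i).descFactorial (β i) : ℕ) : k) := by
    intro β _
    rw [coeff_contract, Finset.mul_sum, Finset.sum_mul]
  rw [Finset.sum_congr rfl hL, Finset.sum_congr rfl hR, Finset.sum_comm]
  refine Finset.sum_congr rfl fun β _ => Finset.sum_congr rfl fun α _ => ?_
  have hidx : β + (α + ε) = α + (β + ε) := add_left_comm β α ε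
  have hnum : (∏ i, (β i + (α + ε) i).descFactorial (β i)) * (∏ i, (α i + ε i).descFactorial (α i)) =
      (∏ i, (α i + (β + ε) i).descFactorial (α i)) * (∏ i, (β i + ε i).descFactorial (β i)) := by
    rw [← Finset.prod_mul_distrib, ← Finset.prod_mul_distrib]
    refine Finset.prod_congr rfl fun i _ => ?_
    rw [Finsupp.add_apply, Finsupp.add_apply]
    exact dfac_key (α i) (β i) (ε i)
  have hcast : (((∏ i, (β i + (α + ε) i).descFactorial (β i) : ℕ) : k)) *
      ((∏ i, (α i + ε i).descFactorial (α i) : ℕ) : k) =
      ((∏ i, (α i + (β + ε) i).descFactorial (α i) : ℕ) : k) *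
      ((∏ i, (β i + ε i).descFactorial (β i) : ℕ) : k) := by
    rw [← Nat.cast_mul, ← Nat.cast_mul, hnum]
  rw [hidx]
  linear_combination (coeff α D * coeff β E * coeff (α + (β + ε)) F) * hcast

theorem contract_zero_right {k : Type*} [Field k] {m : ℕ} (D : MvPolynomial (Fin m) k) :
    contract D (0 : MvPolynomial (Fin m) k) = 0 := by
  ext γ
  rw [coeff_contract]
  simp

theorem coeff_zero_contract_monomial {k : Type*} [Field k] {m : ℕ} (γ : Fin m →₀ ℕ)
    (P : MvPolynomial (Fin m) k) :
    coeff 0 (contract (monomial γ (1 : k)) P) =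
      coeff γ P * ((∏ i : Fin m, (γ i).factorial : ℕ) : k) := by
  classical
  rw [coeff_contract, support_monomial, if_neg one_ne_zero, Finset.sum_singleton, coeff_monomial,
    if_pos rfl, one_mul, add_zero]
  congr 2
  refine Finset.prod_congr rfl fun i _ => ?_
  rw [Finsupp.zero_apply, add_zero, Nat.descFactorial_self]

theorem coeff_contract_eq_zero {k : Type*} [Field k] {m : ℕ} (D F : MvPolynomial (Fin m) k)
    (d e : ℕ) (hD : D.IsHomogeneous d) (hF : F.IsHomogeneous e) (hd : d ≤ e)
    (γ : Fin m →₀ ℕ) (hγ : γ.degree ≠ e - d) : coeff γ (contract D F) = 0 := by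
  rw [coeff_contract]
  refine Finset.sum_eq_zero fun α _ => ?_
  by_cases hα : α.degree = d
  · have : (α + γ).degree ≠ e := by
      rw [map_add, hα]
      omega
    rw [hF.coeff_eq_zero this, mul_zero, zero_mul]
  · rw [hD.coeff_eq_zero hα, zero_mul, zero_mul]


/-- Let k be a field of characteristic zero, R = k[y_0, …, y_{m−1}] acting on S = k[∂_0, …, ∂_{m−1}] by
apolarity (y_i acts as the derivative with respect to ∂_i), F ∈ S homogeneous of degree e and d ≤ e.
Then the degree-d part of the apolar ideal of F is the orthogonal complement of the partial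
derivatives of F of order e − d: a homogeneous D ∈ R_d satisfies D(F) = 0 if and only if D(y^α(F)) =
0 for every multi-index α with |α| = e − d (each D(y^α(F)) being a constant, the value of the
apolarity pairing of D with y^α(F)). -/
theorem result (k : Type u) [Field k] [CharZero k] (m : ℕ)
    (F : MvPolynomial (Fin m) k) (e : ℕ) (hF : F.IsHomogeneous e) (d : ℕ) (hd : d ≤ e)
    (D : MvPolynomial (Fin m) k) (hD : D.IsHomogeneous d) :
    W4c3degenlocivb.contract D F = 0 ↔
      ∀ α : Fin m →₀ ℕ, α.degree = e - d → W4c3degenlocivb.contract D (W4c3degenlocivb.contract (MvPolynomial.monomial α 1) F) = 0 := by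
  constructor
  · intro h α _
    rw [contract_comm, h, contract_zero_right]
  · intro h
    ext γ
    rw [coeff_zero]
    by_cases hγ : γ.degree = e - d
    · have h1 := h γ hγ
      rw [contract_comm] at h1
      have h2 := congrArg (MvPolynomial.coeff 0) h1
      rw [coeff_zero_contract_monomial, MvPolynomial.coeff_zero] at h2
      rcases mul_eq_zero.1 h2 with h3 | h3
      · exact h3
      · exfalso
        have : (∏ i : Fin m, (γ i).factorial) ≠ 0 :=
          Finset.prod_ne_zero_iff.2 fun i _ => Nat.factorial_ne_zero _
        exact (Nat.cast_ne_zero.2 this) h3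
    · exact coeff_contract_eq_zero D F d e hD hF hd γ hγ

end Groth.Agent.S16353
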