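import Groth.Statements.S16356
import Mathlib

set_option autoImplicit false
universe u
open OrdAV

namespace Groth.Agent.S16356

/-- For an odd prime p and a perfect field k of characteristic p, a root of unity in the ring of Witt
vectors W(k) whose residue in k is 1 is itself 1: if x ^ n = 1 with n ≥ 1 and the zeroth Witt
component of x is 1, then x = 1. (For p = 2 this fails: -1 in W(F_2).) -/
theorem result (p : ℕ) [Fact p.Prime] (hp : p ≠ 2)
    (k : Type u) [Field k] [CharP k p] [PerfectRing k p]
    (x : WittVector p k) (n : ℕ) (hn : 0 < n) (hx : x ^ n = 1) (h0 : x.coeff 0 = 1) : x = 1 := by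
  have hp' : p.Prime := Fact.out
  have hunit : ∀ a : WittVector p k, a.coeff 0 ≠ 0 → a ≠ 0 := fun a ha =>
    (WittVector.isUnit_of_coeff_zero_ne_zero a ha).ne_zero
  have hpk : (p : k) = 0 := CharP.cast_eq_zero k p
  have hcc : ∀ a : WittVector p k, WittVector.constantCoeff a = a.coeff 0 := fun a => rfl
  have hdiv : ∀ a : WittVector p k, a.coeff 0 = 1 → ∃ z, a = 1 + (p : WittVector p k) * z := by
    intro a ha
    have hmem : (a - 1) ∈ Ideal.span {(p : WittVector p k)} := by
      rw [WittVector.mem_span_p_iff_coeff_zero_eq_zero, ← hcc, map_sub, map_one, hcc, ha, sub_self]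
    rw [Ideal.mem_span_singleton] at hmem
    obtain ⟨z, hz⟩ := hmem
    exact ⟨z, by rw [← hz]; ring⟩
  have hprime : ∀ (ℓ : ℕ), ℓ.Prime → ∀ y : WittVector p k, y.coeff 0 = 1 → y ^ ℓ = 1 → y = 1 := by
    intro ℓ hℓ y hy0 hyℓ
    have hgeom : (∑ i ∈ Finset.range ℓ, y ^ i) * (y - 1) = 0 := by
      rw [geom_sum_mul, hyℓ, sub_self]
    rcases mul_eq_zero.mp hgeom with h | h
    · exfalso
      by_cases hℓp : ℓ = p
      · rw [hℓp] at h
        obtain ⟨z, hz⟩ := hdiv y hy0
        have hexp : ∀ i : ℕ, ∃ c : WittVector p k,
            y ^ i = 1 + (i : WittVector p k) * ((p : WittVector p k) * z) +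
              c * ((p : WittVector p k) * z) ^ 2 := by
          intro i
          obtain ⟨c, hc⟩ := Polynomial.powAddExpansion (1 : WittVector p k) ((p : WittVector p k) * z) i
          exact ⟨c, by rw [hz, hc]; simp⟩
        choose c hc using hexp
        have hsum : ∑ i ∈ Finset.range p, y ^ i = (p : WittVector p k) +
            (∑ i ∈ Finset.range p, (i : WittVector p k)) * ((p : WittVector p k) * z) +
            (∑ i ∈ Finset.range p, c i) * ((p : WittVector p k) * z) ^ 2 := by
          rw [Finset.sum_congr rfl (fun i _ => hc i)]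
          simp [Finset.sum_add_distrib, Finset.sum_mul]
        obtain ⟨m, hm⟩ : ∃ m : ℕ, ∑ i ∈ Finset.range p, i = p * m := by
          have h2 := Finset.sum_range_id_mul_two p
          obtain ⟨t, ht⟩ := hp'.odd_of_ne_two hp
          refine ⟨t, ?_⟩
          have h3 : p - 1 = 2 * t := by omega
          rw [h3] at h2
          have h4 : (∑ i ∈ Finset.range p, i) * 2 = (p * t) * 2 := by rw [h2]; ring
          exact Nat.eq_of_mul_eq_mul_right (by norm_num) h4
        have hsumW : (∑ i ∈ Finset.range p, (i : WittVector p k)) = (p : WittVector p k) * m := by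
          rw [← Nat.cast_sum, hm]; push_cast; ring
        have hfact : ∑ i ∈ Finset.range p, y ^ i = (p : WittVector p k) *
            (1 + (p : WittVector p k) * ((m : WittVector p k) * z +
              (∑ i ∈ Finset.range p, c i) * z ^ 2)) := by
          rw [hsum, hsumW]; ring
        rw [hfact] at h
        rcases mul_eq_zero.mp h with h1 | h1
        · exact WittVector.p_nonzero p k h1
        · apply hunit _ ?_ h1
          rw [← hcc, map_add, map_one, map_mul, map_natCast, hpk, zero_mul, add_zero]
          exact one_ne_zero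
      · apply hunit _ ?_ h
        rw [← hcc, map_sum]
        have h1 : ∀ i ∈ Finset.range ℓ, WittVector.constantCoeff (y ^ i) = (1 : k) := by
          intro i _
          rw [map_pow, hcc, hy0, one_pow]
        rw [Finset.sum_congr rfl h1]
        simp only [Finset.sum_const, Finset.card_range, nsmul_eq_mul, mul_one]
        intro h0
        have hd := (CharP.cast_eq_zero_iff k p ℓ).mp h0
        exact hℓp ((Nat.prime_dvd_prime_iff_eq hp' hℓ).mp hd).symm
    · exact sub_eq_zero.mp h
  induction n using Nat.strong_induction_on generalizing x with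
  | _ n ih =>
    rcases Nat.lt_or_ge n 2 with h1 | h2
    · have h3 : n = 1 := by omega
      subst h3
      simpa using hx
    · obtain ⟨ℓ, hℓ, hdvd⟩ := Nat.exists_prime_and_dvd (by omega : n ≠ 1)
      obtain ⟨n', rfl⟩ := hdvd
      have hn' : 0 < n' := by
        rcases Nat.eq_zero_or_pos n' with h | h
        · subst h; simp at hn
        · exact h
      have hy : (x ^ n') ^ ℓ = 1 := by rw [← pow_mul, mul_comm]; exact hx
      have hy0 : (x ^ n').coeff 0 = 1 := by rw [← hcc, map_pow, hcc, h0, one_pow]
      have h4 := hprime ℓ hℓ (x ^ n') hy0 hy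
      have hlt : n' < ℓ * n' := by nlinarith [hℓ.two_le]
      exact ih n' hlt x hn' h4 h0

end Groth.Agent.S16356
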