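import Groth.Statements.S16362
import Mathlib

set_option autoImplicit false
universe u
open MovLem

namespace Groth.Agent.S16362

/-- Let A be a commutative ring, p a prime ideal of A, and ζ, u elements of A with u not in p. Then the
quotient of the classes of ζ and u in the fraction field of the domain A ⧸ p is integral over A ⧸ p
if and only if there exist a natural number N and elements a_1, …, a_N of A such that ζ^N + a_1
ζ^(N-1) u + ⋯ + a_N u^N lies in p; equivalently, some binary form of degree N with coefficients in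
A, monic in the first variable, evaluated at (ζ, u), lies in p. -/
theorem result
    {A : Type u} [CommRing A] (p : Ideal A) [p.IsPrime] (ζ u : A) (hu : u ∉ p) :
    IsIntegral (A ⧸ p)
        (algebraMap (A ⧸ p) (FractionRing (A ⧸ p)) (Ideal.Quotient.mk p ζ) /
          algebraMap (A ⧸ p) (FractionRing (A ⧸ p)) (Ideal.Quotient.mk p u)) ↔
      ∃ (N : ℕ) (a : ℕ → A),
        ζ ^ N + ∑ i ∈ Finset.Icc 1 N, a i * ζ ^ (N - i) * u ^ i ∈ p := by
  classical
  set D := A ⧸ p with hD
  set K := FractionRing D with hK
  set ι : D →+* K := algebraMap D K with hι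
  have hιinj : Function.Injective ι := IsFractionRing.injective D K
  set z : K := ι (Ideal.Quotient.mk p ζ) with hz
  set w : K := ι (Ideal.Quotient.mk p u) with hw
  have hw0 : w ≠ 0 := by
    intro h
    have h1 : Ideal.Quotient.mk p u = 0 := hιinj (by rw [← hw, h, map_zero])
    exact hu (Ideal.Quotient.eq_zero_iff_mem.1 h1)
  have hre : ∀ (g : ℕ → K) (N : ℕ), ∑ i ∈ Finset.Icc 1 N, g (N - i) = ∑ j ∈ Finset.range N, g j := by
    intro g N
    refine Finset.sum_nbij' (fun i => N - i) (fun j => N - j) ?_ ?_ ?_ ?_ ?_
    · intro i hi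
      simp only [Finset.mem_Icc, Finset.mem_range] at hi ⊢
      omega
    · intro j hj
      simp only [Finset.mem_Icc, Finset.mem_range] at hj ⊢
      omega
    · intro i hi
      simp only [Finset.mem_Icc] at hi
      omega
    · intro j hj
      simp only [Finset.mem_range] at hj
      omega
    · intro i _
      rfl
  have hterm : ∀ (N j : ℕ), j ≤ N → w ^ N * (z / w) ^ j = z ^ j * w ^ (N - j) := by
    intro N j hj
    have : w ^ N = w ^ j * w ^ (N - j) := by rw [← pow_add]; congr 1; omega
    rw [this, div_pow]
    calc w ^ j * w ^ (N - j) * (z ^ j / w ^ j) = (z ^ j / w ^ j * w ^ j) * w ^ (N - j) := by ring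
      _ = z ^ j * w ^ (N - j) := by rw [div_mul_cancel₀ _ (pow_ne_zero j hw0)]
  constructor
  · intro hint
    obtain ⟨f, hmonic, hf⟩ := hint
    set N := f.natDegree with hN
    have hc : ∀ i : ℕ, ∃ a : A, Ideal.Quotient.mk p a = f.coeff (N - i) :=
      fun i => Ideal.Quotient.mk_surjective _
    choose a ha using hc
    refine ⟨N, a, ?_⟩
    rw [← Ideal.Quotient.eq_zero_iff_mem]
    apply hιinj
    simp only [map_zero, map_add, map_pow, map_sum, map_mul]
    have h1 : ∀ i ∈ Finset.Icc 1 N, ι (Ideal.Quotient.mk p (a i)) * z ^ (N - i) * w ^ i =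
        (fun j => ι (f.coeff j) * (z ^ j * w ^ (N - j))) (N - i) := by
      intro i hi
      simp only [Finset.mem_Icc] at hi
      have : N - (N - i) = i := by omega
      simp only [ha, this]
      ring
    rw [Finset.sum_congr rfl h1, hre (fun j => ι (f.coeff j) * (z ^ j * w ^ (N - j))) N]
    -- now use the monic relation
    have h2 : Polynomial.eval₂ ι (z / w) f = 0 := hf
    rw [hmonic.as_sum, Polynomial.eval₂_add, Polynomial.eval₂_pow, Polynomial.eval₂_X,
      Polynomial.eval₂_finsetSum] at h2
    have h3 : w ^ N * ((z / w) ^ N + ∑ j ∈ Finset.range N,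
        Polynomial.eval₂ ι (z / w) (Polynomial.C (f.coeff j) * Polynomial.X ^ j)) = 0 := by
      rw [← hN] at h2
      rw [h2, mul_zero]
    rw [mul_add, hterm N N le_rfl, Nat.sub_self, pow_zero, mul_one, Finset.mul_sum] at h3
    rw [← h3]
    congr 1
    apply Finset.sum_congr rfl
    intro j hj
    simp only [Finset.mem_range] at hj
    rw [Polynomial.eval₂_mul, Polynomial.eval₂_C, Polynomial.eval₂_pow, Polynomial.eval₂_X,
      ← hterm N j hj.le]
    ring
  · rintro ⟨N, a, h⟩
    have h0 : z ^ N + ∑ i ∈ Finset.Icc 1 N,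
        ι (Ideal.Quotient.mk p (a i)) * z ^ (N - i) * w ^ i = 0 := by
      have := congrArg ι (Ideal.Quotient.eq_zero_iff_mem.2 h)
      simp only [map_zero, map_add, map_pow, map_sum, map_mul] at this
      exact this
    refine ⟨Polynomial.X ^ N + ∑ i ∈ Finset.Icc 1 N,
      Polynomial.C (Ideal.Quotient.mk p (a i)) * Polynomial.X ^ (N - i), ?_, ?_⟩
    · apply Polynomial.monic_X_pow_add
      rw [← Polynomial.mem_degreeLT]
      apply Submodule.sum_mem
      intro i hi
      simp only [Finset.mem_Icc] at hi
      rw [Polynomial.mem_degreeLT]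
      refine lt_of_le_of_lt (Polynomial.degree_C_mul_X_pow_le _ _) ?_
      exact_mod_cast (by omega : N - i < N)
    · rw [Polynomial.eval₂_add, Polynomial.eval₂_pow, Polynomial.eval₂_X,
        Polynomial.eval₂_finsetSum]
      have hwN : w ^ N ≠ 0 := pow_ne_zero N hw0
      apply mul_left_cancel₀ hwN
      rw [mul_zero, mul_add, hterm N N le_rfl, Nat.sub_self, pow_zero, mul_one, Finset.mul_sum,
        ← h0]
      congr 1
      apply Finset.sum_congr rfl
      intro i hi
      simp only [Finset.mem_Icc] at hi
      rw [Polynomial.eval₂_mul, Polynomial.eval₂_C, Polynomial.eval₂_pow, Polynomial.eval₂_X,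
        mul_left_comm, hterm N (N - i) (by omega)]
      have : N - (N - i) = i := by omega
      rw [this]
      ring

end Groth.Agent.S16362
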