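import Groth.Statements.S16370

set_option autoImplicit false
universe u
open CategoryTheory AlgebraicGeometry Opposite
open FrobSch

namespace Groth.Agent.S16370


open CategoryTheory CategoryTheory.Limits Opposite

open AlgebraicGeometry CategoryTheory.Abelian

theorem les_bij {A : Type*} [Category A] [Abelian A] [HasExt A] (K : A) {S : ShortComplex A}
    (hS : S.ShortExact) (hB : ∀ i : ℕ, Subsingleton (Ext K S.X₃ i)) (i : ℕ) :
    Function.Bijective ((Ext.mk₀ S.f).postcomp K (add_zero i)) := by
  haveI := hS.mono_f
  constructor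
  · rw [injective_iff_map_eq_zero]
    intro x hx
    cases i with
    | zero => exact (injective_iff_map_eq_zero _).mp (Ext.postcomp_mk₀_injective_of_mono K S.f) x hx
    | succ j =>
      obtain ⟨x₃, hx₃⟩ := Ext.covariant_sequence_exact₁ K hS x hx (n₀ := j) rfl
      rw [← hx₃, Subsingleton.elim x₃ 0, Ext.zero_comp]
  · intro y
    exact Ext.covariant_sequence_exact₂ K hS y (Subsingleton.elim _ _)

theorem main
    (p : ℕ) [Fact p.Prime] (X : Scheme.{u}) [IsReduced X] (hp : (p : Γ(X, ⊤)) = 0)
    (φ : Coh.toAb (Coh.structureModule X) ⟶ Coh.toAb (Coh.structureModule X))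
    (hφ : ∀ (U : X.Opens) (t : Γ(X, U)), φ.hom.app (op U) t = t ^ p)
    (hB : ∀ i : ℕ, Subsingleton (Sheaf.H (Limits.cokernel φ) i))
    (i : ℕ) : Function.Bijective (Sheaf.H.map φ i) := by
  haveI : Mono φ := by
    haveI : Mono φ.hom := by
      haveI : ∀ U, Mono (φ.hom.app U) := by
        intro U
        apply ConcreteCategory.mono_of_injective
        rw [injective_iff_map_eq_zero]
        intro t ht
        have h1 := hφ U.unop t
        rw [show φ.hom.app (op U.unop) = φ.hom.app U from rfl] at h1
        rw [ht] at h1
        exact IsReduced.eq_zero (R := Γ(X, U.unop)) t ⟨p, h1.symm⟩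
      exact NatTrans.mono_of_mono_app φ.hom
    exact Sheaf.Hom.mono_of_presheaf_mono _ _ φ
  have hS : (ShortComplex.mk φ (cokernel.π φ) (cokernel.condition φ)).ShortExact :=
    { exact := ShortComplex.exact_cokernel φ }
  exact les_bij _ hS hB i

/-- (ii) ⇒ (iii): let X be a reduced scheme of prime characteristic p, φ the p-th power map on the sheaf
of additive groups underlying O_X (a monomorphism, X being reduced) and B its cokernel in abelian
sheaves. If H^i(X, B) = 0 for all i ≥ 0, then the endomorphism of H^i(X, O_X) induced by φ — the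
Hasse–Witt operation — is bijective for all i. (The source has X normal and proper over a perfect
field; only reducedness enters this implication.) -/
theorem result
    (p : ℕ) [Fact p.Prime] (X : Scheme.{u}) [IsReduced X] (hp : (p : Γ(X, ⊤)) = 0)
    (φ : Coh.toAb (Coh.structureModule X) ⟶ Coh.toAb (Coh.structureModule X))
    (hφ : ∀ (U : X.Opens) (t : Γ(X, U)), φ.hom.app (op U) t = t ^ p)
    (hB : ∀ i : ℕ, Subsingleton (Sheaf.H (Limits.cokernel φ) i))
    (i : ℕ) : Function.Bijective (Sheaf.H.map φ i) := by
  exact main p X hp φ hφ hB i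

end Groth.Agent.S16370
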