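import Groth.Statements.S16373
import Mathlib

set_option autoImplicit false
universe u
open FrobAlg

namespace Groth.Agent.S16373

section lemmas
variable (p : ℕ) [Fact p.Prime] (m : ℕ) (R : Type u) [CommRing R] [CharP R p] (hp : (p : R) = 0)

theorem proj (y : TruncatedWittVector p (m + 1) R) (x : TruncatedWittVector p m R) :
    y * WittGrp.shift p (Nat.le_succ m) x =
      WittGrp.shift p (Nat.le_succ m)
        (WittGrp.frob p m hp (TruncatedWittVector.truncate (Nat.le_succ m) y) * x) := by
  obtain ⟨Y, rfl⟩ := WittVector.truncate_surjective p (m + 1) R y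
  obtain ⟨X, rfl⟩ := WittVector.truncate_surjective p m R x
  rw [TruncatedWittVector.truncate_wittVector_truncate, WittGrp.frob_truncate, ← map_mul,
    WittGrp.shift_truncate, WittGrp.shift_truncate, ← map_mul]
  have h1 : m + 1 - m = 1 := by omega
  rw [h1, Function.iterate_one, mul_comm (WittVector.frobenius Y) X,
    WittVector.verschiebung_mul_frobenius, mul_comm]

theorem p_mul (w : TruncatedWittVector p (m + 1) R) :
    (p : TruncatedWittVector p (m + 1) R) * w =
      WittGrp.shift p (Nat.le_succ m)
        (WittGrp.frob p m hp (TruncatedWittVector.truncate (Nat.le_succ m) w)) := by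
  obtain ⟨Y, rfl⟩ := WittVector.truncate_surjective p (m + 1) R w
  rw [TruncatedWittVector.truncate_wittVector_truncate, WittGrp.frob_truncate,
    WittGrp.shift_truncate]
  have h1 : m + 1 - m = 1 := by omega
  rw [h1, Function.iterate_one, WittVector.verschiebung_frobenius, ← map_natCast
    (WittVector.truncate (p := p) (R := R) (m + 1)) p, ← map_mul, mul_comm]

omit [CharP R p] in
theorem shift_coeff_zero (x : TruncatedWittVector p m R) :
    (WittGrp.shift p (Nat.le_succ m) x).coeff 0 = 0 := by
  rw [WittGrp.coeff_shift, dif_neg]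
  simp

omit [CharP R p] in
theorem shift_coeff_succ (x : TruncatedWittVector p m R) (i : Fin m) :
    (WittGrp.shift p (Nat.le_succ m) x).coeff i.succ = x.coeff i := by
  rw [WittGrp.coeff_shift, dif_pos (by simp)]
  congr 1
  ext
  simp

omit [CharP R p] in
theorem shift_injective : Function.Injective (WittGrp.shift (R := R) p (Nat.le_succ m)) := by
  intro x y hxy
  ext i
  rw [← shift_coeff_succ p m R x i, ← shift_coeff_succ p m R y i, hxy]

omit [CharP R p] in
theorem exists_shift (w : TruncatedWittVector p (m + 1) R) (hw : w.coeff 0 = 0) :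
    ∃ x, w = WittGrp.shift p (Nat.le_succ m) x := by
  refine ⟨TruncatedWittVector.mk p fun i => w.coeff i.succ, ?_⟩
  ext i
  refine Fin.cases ?_ (fun j => ?_) i
  · rw [hw, shift_coeff_zero]
  · rw [shift_coeff_succ, TruncatedWittVector.coeff_mk]

omit [CharP R p] in
theorem add_coeff_zero (a b : TruncatedWittVector p (m + 1) R) :
    (a + b).coeff 0 = a.coeff 0 + b.coeff 0 := by
  obtain ⟨X, rfl⟩ := WittVector.truncate_surjective p (m + 1) R a
  obtain ⟨Y, rfl⟩ := WittVector.truncate_surjective p (m + 1) R b
  rw [← map_add, WittVector.coeff_truncate, WittVector.coeff_truncate, WittVector.coeff_truncate]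
  exact WittVector.add_coeff_zero X Y

end lemmas


/-- Let p be a prime, m ≥ 1, R a commutative ring with p = 0 in R and σ : W_m(R) → R a quasi-F-splitting
of level m (additive, σ(1) = 1, σ(F(x)·y) = x₀·σ(y) with F the componentwise p-th power). Let I ⊆
W_{m+1}(R) be the ideal generated by the shifts V(x) of the x with σ(x) = 0, and Q = W_{m+1}(R)/I.
Then Q is a flat lifting of R modulo p²: an element of Q lies in pQ exactly when the first Witt
component of a representative vanishes (so Q/pQ is R through the first component), and an element of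
Q is killed by p exactly when it lies in pQ. (Stated for a ring; the source has a scheme over the
prime field. For m = 1 this is the lifting attached to a Frobenius splitting.) -/
theorem result
    (p : ℕ) [Fact p.Prime] (m : ℕ) (hm : 0 < m) (R : Type u) [CommRing R] (hp : (p : R) = 0)
    (σ : TruncatedWittVector p m R →+ R) (h1 : σ 1 = 1)
    (hF : ∀ x y : TruncatedWittVector p m R, σ (WittGrp.frob p m hp x * y) = x.coeff ⟨0, hm⟩ * σ y)
    (I : Ideal (TruncatedWittVector p (m + 1) R))
    (hI : I = Ideal.span (WittGrp.shift p (Nat.le_succ m) '' {x : TruncatedWittVector p m R | σ x = 0})) :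
    (∀ w : TruncatedWittVector p (m + 1) R,
        Ideal.Quotient.mk I w ∈ Ideal.span ({(p : TruncatedWittVector p (m + 1) R ⧸ I)} : Set _) ↔
          w.coeff 0 = 0) ∧
    (∀ q : TruncatedWittVector p (m + 1) R ⧸ I,
        (p : TruncatedWittVector p (m + 1) R ⧸ I) * q = 0 ↔
          q ∈ Ideal.span ({(p : TruncatedWittVector p (m + 1) R ⧸ I)} : Set _)) := by
  rcases subsingleton_or_nontrivial R with hR | hR
  · have hW : ∀ a b : TruncatedWittVector p (m + 1) R, a = b :=
      fun a b => TruncatedWittVector.ext fun i => Subsingleton.elim _ _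
    have hQ : ∀ a b : TruncatedWittVector p (m + 1) R ⧸ I, a = b := by
      intro a b
      obtain ⟨a, rfl⟩ := Ideal.Quotient.mk_surjective a
      obtain ⟨b, rfl⟩ := Ideal.Quotient.mk_surjective b
      rw [hW a b]
    constructor
    · intro w
      constructor
      · intro _; exact Subsingleton.elim _ _
      · intro _; rw [hQ (Ideal.Quotient.mk I w) 0]; exact zero_mem _
    · intro q
      constructor
      · intro _; rw [hQ q 0]; exact zero_mem _
      · intro _; exact hQ _ _
  · have hpr : p.Prime := Fact.out
    have : CharP R p := (CharP.charP_iff_prime_eq_zero hpr).mpr hp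
    have hImem : ∀ w, w ∈ I ↔ ∃ x, σ x = 0 ∧ w = WittGrp.shift p (Nat.le_succ m) x := by
      intro w
      constructor
      · intro hw
        rw [hI] at hw
        induction hw using Submodule.span_induction with
        | mem w hw => obtain ⟨x, hx, rfl⟩ := hw; exact ⟨x, hx, rfl⟩
        | zero => exact ⟨0, map_zero σ, (map_zero _).symm⟩
        | add a b _ _ ha hb =>
          obtain ⟨x, hx, rfl⟩ := ha
          obtain ⟨y, hy, rfl⟩ := hb
          exact ⟨x + y, by rw [map_add, hx, hy, add_zero], (map_add _ _ _).symm⟩
        | smul c a _ ha =>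
          obtain ⟨x, hx, rfl⟩ := ha
          refine ⟨WittGrp.frob p m hp (TruncatedWittVector.truncate (Nat.le_succ m) c) * x,
            by rw [hF, hx, mul_zero], ?_⟩
          rw [smul_eq_mul, proj p m R hp]
      · rintro ⟨x, hx, rfl⟩
        rw [hI]
        exact Ideal.subset_span ⟨x, hx, rfl⟩
    have c1 : ∀ w : TruncatedWittVector p (m + 1) R,
        Ideal.Quotient.mk I w ∈ Ideal.span ({(p : TruncatedWittVector p (m + 1) R ⧸ I)} : Set _) ↔
          w.coeff 0 = 0 := by
      intro w
      rw [Ideal.mem_span_singleton']
      constructor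
      · rintro ⟨a, ha⟩
        obtain ⟨y, rfl⟩ := Ideal.Quotient.mk_surjective a
        have h2 : w - y * (p : TruncatedWittVector p (m + 1) R) ∈ I := by
          rw [← Ideal.Quotient.eq, map_mul, map_natCast]
          exact ha.symm
        obtain ⟨x, hx, hwx⟩ := (hImem _).mp h2
        have h3 : w = WittGrp.shift p (Nat.le_succ m) x + (p : TruncatedWittVector p (m + 1) R) * y := by
          rw [← hwx]; ring
        rw [h3, add_coeff_zero, shift_coeff_zero, p_mul p m R hp, shift_coeff_zero, add_zero]
      · intro hw
        obtain ⟨x, rfl⟩ := exists_shift p m R w hw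
        let z : TruncatedWittVector p m R :=
          TruncatedWittVector.mk p (fun i => if i = ⟨0, hm⟩ then σ x else 0)
        have hz : z.coeff ⟨0, hm⟩ = σ x := by simp [z]
        have hσ : σ (x - WittGrp.frob p m hp z) = 0 := by
          rw [map_sub, ← mul_one (WittGrp.frob p m hp z), hF, h1, mul_one, hz, sub_self]
        obtain ⟨Zt, hZt⟩ := TruncatedWittVector.truncate_surjective (p := p) (R := R) (Nat.le_succ m) z
        refine ⟨Ideal.Quotient.mk I Zt, ?_⟩
        rw [← map_natCast (Ideal.Quotient.mk I), ← map_mul, Ideal.Quotient.eq, mul_comm,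
          p_mul p m R hp, hZt, ← map_sub, hImem]
        refine ⟨WittGrp.frob p m hp z - x, ?_, rfl⟩
        rw [← neg_sub, map_neg, hσ, neg_zero]
    refine ⟨c1, ?_⟩
    intro q
    obtain ⟨w, rfl⟩ := Ideal.Quotient.mk_surjective q
    rw [c1]
    constructor
    · intro h
      rw [← map_natCast (Ideal.Quotient.mk I), ← map_mul, Ideal.Quotient.eq_zero_iff_mem,
        p_mul p m R hp, hImem] at h
      obtain ⟨x, hx, hwx⟩ := h
      have h4 := shift_injective p m R hwx
      rw [← h4, ← mul_one (WittGrp.frob p m hp _), hF, h1, mul_one,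
        TruncatedWittVector.coeff_truncate] at hx
      exact hx
    · intro hw
      rw [← map_natCast (Ideal.Quotient.mk I), ← map_mul, Ideal.Quotient.eq_zero_iff_mem,
        p_mul p m R hp, hImem]
      refine ⟨_, ?_, rfl⟩
      rw [← mul_one (WittGrp.frob p m hp _), hF, h1, mul_one, TruncatedWittVector.coeff_truncate]
      exact hw

end Groth.Agent.S16373
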