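import Groth.Statements.S1638
import Mathlib

set_option autoImplicit false
universe u
open Brauer
open scoped TensorProduct

namespace Groth.Agent.S1638

/-- Let A and A' be algebras over a field k with subalgebras B ⊆ A and B' ⊆ A' having centralizers C and
C'. Then the centralizer of the image of B ⊗ B' in A ⊗_k A' is the image of C ⊗_k C'. -/
theorem result (k : Type u) [Field k] (A A' : Type u) [Ring A] [Ring A'] [Algebra k A] [Algebra k A']
    (B : Subalgebra k A) (B' : Subalgebra k A') :
    Subalgebra.centralizer k ((Algebra.TensorProduct.map B.val B'.val).range : Set (TensorProduct k A A')) =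
      (Algebra.TensorProduct.map (Subalgebra.centralizer k (B : Set A)).val (Subalgebra.centralizer k (B' : Set A')).val).range := by
  classical
  obtain ⟨C, hC⟩ : ∃ C : Subalgebra k A, C = Subalgebra.centralizer k (B : Set A) := ⟨_, rfl⟩
  obtain ⟨C', hC'⟩ : ∃ C' : Subalgebra k A', C' = Subalgebra.centralizer k (B' : Set A') := ⟨_, rfl⟩
  rw [← hC, ← hC']
  have hcomp : ∀ w'' : C ⊗[k] C', Algebra.TensorProduct.map C.val C'.val w'' =
      Algebra.TensorProduct.map C.val (AlgHom.id k A')
        (Algebra.TensorProduct.map (AlgHom.id k C) C'.val w'') := by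
    intro w''
    induction w'' using TensorProduct.induction_on with
    | zero => simp
    | tmul c c' => rfl
    | add y z hy hz => rw [map_add, map_add, map_add, hy, hz]
  have hcomm : ∀ (z : B ⊗[k] B') (w : C ⊗[k] C'),
      Algebra.TensorProduct.map B.val B'.val z * Algebra.TensorProduct.map C.val C'.val w =
        Algebra.TensorProduct.map C.val C'.val w * Algebra.TensorProduct.map B.val B'.val z := by
    intro z w
    induction z using TensorProduct.induction_on with
    | zero => simp
    | tmul b b' =>
      induction w using TensorProduct.induction_on with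
      | zero => simp
      | tmul c c' =>
        rw [Algebra.TensorProduct.map_tmul, Algebra.TensorProduct.map_tmul,
          Algebra.TensorProduct.tmul_mul_tmul, Algebra.TensorProduct.tmul_mul_tmul]
        have h1 : (b : A) * (c : A) = (c : A) * (b : A) := by
          have : (c : A) ∈ Subalgebra.centralizer k (B : Set A) := hC ▸ c.2
          rw [Subalgebra.mem_centralizer_iff] at this
          exact this b b.2
        have h2 : (b' : A') * (c' : A') = (c' : A') * (b' : A') := by
          have : (c' : A') ∈ Subalgebra.centralizer k (B' : Set A') := hC' ▸ c'.2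
          rw [Subalgebra.mem_centralizer_iff] at this
          exact this b' b'.2
        show ((b : A) * (c : A)) ⊗ₜ[k] ((b' : A') * (c' : A')) = _
        rw [h1, h2]
        rfl
      | add y z hy hz => rw [map_add, mul_add, add_mul, hy, hz]
    | add y z hy hz => rw [map_add, add_mul, mul_add, hy, hz]
  apply le_antisymm
  · intro x hx
    rw [Subalgebra.mem_centralizer_iff] at hx
    -- step 1: x commutes with B ⊗ 1
    have h1 : x ∈ Subalgebra.centralizer k
        ((Algebra.TensorProduct.includeLeft : A →ₐ[k] A ⊗[k] A') '' (B : Set A)) := by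
      rw [Subalgebra.mem_centralizer_iff]
      rintro _ ⟨b, hb, rfl⟩
      apply hx
      exact ⟨(⟨b, hb⟩ : B) ⊗ₜ[k] (1 : B'), rfl⟩
    rw [Subalgebra.centralizer_coe_image_includeLeft_eq_center_tensorProduct, ← hC] at h1
    obtain ⟨w', rfl⟩ := h1
    have hinj : Function.Injective (Algebra.TensorProduct.map C.val (AlgHom.id k A')) := by
      have : (Algebra.TensorProduct.map C.val (AlgHom.id k A') : C ⊗[k] A' → A ⊗[k] A') =
          LinearMap.rTensor A' C.val.toLinearMap := by
        ext z
        rfl
      rw [this]
      exact Module.Flat.rTensor_preserves_injective_linearMap _ Subtype.val_injective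
    have h2 : w' ∈ Subalgebra.centralizer k
        ((Algebra.TensorProduct.includeRight : A' →ₐ[k] C ⊗[k] A') '' (B' : Set A')) := by
      rw [Subalgebra.mem_centralizer_iff]
      rintro _ ⟨b', hb', rfl⟩
      apply hinj
      rw [map_mul, map_mul]
      have := hx ((1 : A) ⊗ₜ[k] b') ⟨(1 : B) ⊗ₜ[k] (⟨b', hb'⟩ : B'), rfl⟩
      convert this using 2 <;> simp
    rw [Subalgebra.centralizer_coe_image_includeRight_eq_center_tensorProduct, ← hC'] at h2
    obtain ⟨w'', rfl⟩ := h2
    exact ⟨w'', hcomp w''⟩
  · rintro _ ⟨w, rfl⟩
    rw [Subalgebra.mem_centralizer_iff]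
    rintro _ ⟨z, rfl⟩
    exact hcomm z w

end Groth.Agent.S1638
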