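import Groth.Statements.S16390
import Mathlib

set_option autoImplicit false
open AbVar

namespace Groth.Agent.S16390

/-- Let p be a prime number, r > 2 and q = p^r. The polynomial x² − p x + q is irreducible over ℚ, each
of its complex roots has absolute value √q (so its roots are Weil q-numbers), and it has two
distinct roots in ℚ_p, of p-adic valuations 1 and r − 1. The published lemma also computes the index
of the endomorphism algebra of the simple abelian variety attached to a root; this row does not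
state that part. -/
theorem result (p r : ℕ) [Fact p.Prime] (hr : 2 < r) :
    Irreducible (Polynomial.X ^ 2 - Polynomial.C (p : ℚ) * Polynomial.X + Polynomial.C ((p : ℚ) ^ r)) ∧
      (∀ π : ℂ, π ^ 2 - (p : ℂ) * π + (p : ℂ) ^ r = 0 → ‖π‖ = Real.sqrt ((p : ℝ) ^ r)) ∧
      ∃ a b : ℚ_[p], a ≠ b ∧ a ^ 2 - (p : ℚ_[p]) * a + (p : ℚ_[p]) ^ r = 0 ∧
        b ^ 2 - (p : ℚ_[p]) * b + (p : ℚ_[p]) ^ r = 0 ∧ a.valuation = 1 ∧ b.valuation = (r : ℤ) - 1 := by
  classical
  have hpprime : p.Prime := Fact.out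
  refine ⟨?_, ?_, ?_⟩
  · -- irreducibility over ℚ
    have hp1 : (1 : ℚ) ≤ p := by exact_mod_cast hpprime.one_lt.le
    have hpow : (p : ℚ) ^ r = (p : ℚ) ^ 2 * (p : ℚ) ^ (r - 2) := by
      rw [← pow_add]; congr 1; omega
    have h1 : (1 : ℚ) ≤ (p : ℚ) ^ (r - 2) := one_le_pow₀ hp1
    have hp2 : (0 : ℚ) < (p : ℚ) ^ 2 := pow_pos (by linarith) 2
    have hdisc : (p : ℚ) ^ 2 < 4 * (p : ℚ) ^ r := by rw [hpow]; nlinarith
    have hf : Polynomial.X ^ 2 - Polynomial.C (p : ℚ) * Polynomial.X + Polynomial.C ((p : ℚ) ^ r)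
        = Polynomial.X ^ 2 + (Polynomial.C (-(p : ℚ)) * Polynomial.X
          + Polynomial.C ((p : ℚ) ^ r)) := by
      rw [map_neg]; ring
    have hdeg : Polynomial.degree (Polynomial.C (-(p : ℚ)) * Polynomial.X
        + Polynomial.C ((p : ℚ) ^ r)) < ((2 : ℕ) : WithBot ℕ) :=
      lt_of_le_of_lt Polynomial.degree_linear_le (by exact_mod_cast (one_lt_two : (1 : ℕ) < 2))
    have hmonic : (Polynomial.X ^ 2 + (Polynomial.C (-(p : ℚ)) * Polynomial.X
        + Polynomial.C ((p : ℚ) ^ r))).Monic := Polynomial.monic_X_pow_add hdeg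
    have hdeg2 : Polynomial.degree (Polynomial.X ^ 2 + (Polynomial.C (-(p : ℚ)) * Polynomial.X
        + Polynomial.C ((p : ℚ) ^ r))) = ((2 : ℕ) : WithBot ℕ) := by
      rw [Polynomial.degree_add_eq_left_of_degree_lt (by rw [Polynomial.degree_X_pow]; exact hdeg),
        Polynomial.degree_X_pow]
    have hnat := Polynomial.natDegree_eq_of_degree_eq_some hdeg2
    rw [hf, hmonic.irreducible_iff_roots_eq_zero_of_degree_le_three (by rw [hnat])
      (by rw [hnat]; norm_num)]
    rw [Multiset.eq_zero_iff_forall_notMem]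
    intro x hx
    rw [Polynomial.mem_roots hmonic.ne_zero, Polynomial.IsRoot, Polynomial.eval_add,
      Polynomial.eval_add, Polynomial.eval_pow, Polynomial.eval_X, Polynomial.eval_mul,
      Polynomial.eval_C, Polynomial.eval_X, Polynomial.eval_C] at hx
    nlinarith [sq_nonneg (2 * x - p), hdisc]
  · -- complex absolute value
    have hC : ∀ (P Q : ℝ) (π : ℂ), P ^ 2 < 4 * Q → π ^ 2 - (P : ℂ) * π + (Q : ℂ) = 0 →
        ‖π‖ = Real.sqrt Q := by
      intro P Q π hPQ hπ
      have hre := congrArg Complex.re hπ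
      have him := congrArg Complex.im hπ
      simp only [pow_two, Complex.add_re, Complex.sub_re, Complex.mul_re, Complex.ofReal_re,
        Complex.ofReal_im, Complex.add_im, Complex.sub_im, Complex.mul_im, Complex.zero_re,
        Complex.zero_im] at hre him
      have hy : π.im ≠ 0 := by
        intro h0
        have h00 : π.im * π.im = 0 := by rw [h0]; ring
        nlinarith [sq_nonneg (2 * π.re - P), hre, h00, h0]
      have hx : 2 * π.re = P := by
        have h5 : π.im * (2 * π.re - P) = 0 := by linear_combination him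
        rcases mul_eq_zero.mp h5 with h | h
        · exact absurd h hy
        · linarith
      have hPx : P * π.re = 2 * π.re * π.re := by rw [← hx]
      have hnorm : ‖π‖ ^ 2 = Q := by
        rw [Complex.sq_norm, Complex.normSq_apply]
        nlinarith [hre, hPx]
      rw [← hnorm, Real.sqrt_sq (norm_nonneg _)]
    intro π hπ
    have hp1 : (1 : ℝ) ≤ p := by exact_mod_cast hpprime.one_lt.le
    have hpow : (p : ℝ) ^ r = (p : ℝ) ^ 2 * (p : ℝ) ^ (r - 2) := by
      rw [← pow_add]; congr 1; omega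
    have h1 : (1 : ℝ) ≤ (p : ℝ) ^ (r - 2) := one_le_pow₀ hp1
    have hp2 : (0 : ℝ) < (p : ℝ) ^ 2 := pow_pos (by linarith) 2
    have hdisc : (p : ℝ) ^ 2 < 4 * (p : ℝ) ^ r := by rw [hpow]; nlinarith
    have hπ' : π ^ 2 - (((p : ℝ)) : ℂ) * π + ((((p : ℝ)) ^ r : ℝ) : ℂ) = 0 := by
      push_cast; exact hπ
    exact hC _ _ π hdisc hπ'
  · -- p-adic roots
    obtain ⟨c, hc⟩ : ∃ c : ℤ_[p], c = (p : ℤ_[p]) ^ (r - 2) := ⟨_, rfl⟩
    have hcn : ‖c‖ < 1 := by
      rw [PadicInt.norm_lt_one_iff_dvd, hc]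
      exact dvd_pow_self _ (by omega)
    obtain ⟨F, hF⟩ : ∃ F : Polynomial ℤ_[p], F = Polynomial.X ^ 2 - Polynomial.X + Polynomial.C c :=
      ⟨_, rfl⟩
    have hFa : ∀ z : ℤ_[p], Polynomial.aeval z F = z ^ 2 - z + c := by
      intro z
      rw [hF, Polynomial.coe_aeval_eq_eval]
      simp only [Polynomial.eval_add, Polynomial.eval_sub, Polynomial.eval_pow, Polynomial.eval_X,
        Polynomial.eval_C]
    have hF'a : Polynomial.aeval (1 : ℤ_[p]) (Polynomial.derivative F) = 1 := by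
      rw [hF, Polynomial.derivative_add, Polynomial.derivative_sub, Polynomial.derivative_X_sq,
        Polynomial.derivative_X, Polynomial.derivative_C, add_zero, Polynomial.coe_aeval_eq_eval]
      simp only [Polynomial.eval_sub, Polynomial.eval_mul, Polynomial.eval_C, Polynomial.eval_X,
        Polynomial.eval_one]
      norm_num
    have hnorm : ‖Polynomial.aeval (1 : ℤ_[p]) F‖ <
        ‖Polynomial.aeval (1 : ℤ_[p]) (Polynomial.derivative F)‖ ^ 2 := by
      rw [hF'a, hFa]
      have h3 : (1 : ℤ_[p]) ^ 2 - 1 + c = c := by ring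
      rw [h3, norm_one, one_pow]
      exact hcn
    obtain ⟨y1, hy1, hy1d, -, -⟩ := hensels_lemma (F := F) (a := 1) hnorm
    rw [hFa] at hy1
    rw [hF'a, norm_one] at hy1d
    have hy1n : ‖y1‖ = 1 := by
      apply le_antisymm (PadicInt.norm_le_one y1)
      by_contra hlt
      push Not at hlt
      have h1 : ‖(1 : ℤ_[p])‖ ≤ max ‖y1‖ ‖1 - y1‖ := by
        have h2 := PadicInt.nonarchimedean y1 (1 - y1)
        rwa [add_sub_cancel] at h2
      rw [norm_one, norm_sub_rev] at h1
      have h3 := max_lt hlt hy1d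
      linarith
    obtain ⟨Y1, hY1def⟩ : ∃ Y1 : ℚ_[p], Y1 = (y1 : ℚ_[p]) := ⟨_, rfl⟩
    have hE : Y1 ^ 2 - Y1 + (p : ℚ_[p]) ^ (r - 2) = 0 := by
      rw [hc] at hy1
      have h4 := congrArg (fun z : ℤ_[p] => (z : ℚ_[p])) hy1
      push_cast at h4
      rw [hY1def]
      exact h4
    have hp0 : (p : ℚ_[p]) ≠ 0 := by exact_mod_cast hpprime.ne_zero
    have hY1n : ‖Y1‖ = 1 := by rw [hY1def, ← PadicInt.norm_def]; exact hy1n
    have hY10 : Y1 ≠ 0 := by
      intro h
      rw [h, norm_zero] at hY1n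
      exact zero_ne_one hY1n
    have hvY1 : Y1.valuation = 0 := by
      have h1 := Padic.norm_eq_zpow_neg_valuation hY10
      rw [hY1n] at h1
      have hp1 : ((p : ℝ)) ≠ 1 := by exact_mod_cast hpprime.one_lt.ne'
      have h2 := (zpow_eq_one_iff_right₀ (by positivity : (0 : ℝ) ≤ (p : ℝ)) hp1).mp h1.symm
      omega
    obtain ⟨Y0, hY0def⟩ : ∃ Y0 : ℚ_[p], Y0 = 1 - Y1 := ⟨_, rfl⟩
    have hprod : Y0 * Y1 = (p : ℚ_[p]) ^ (r - 2) := by
      rw [hY0def]; linear_combination (-1 : ℚ_[p]) * hE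
    have hc0 : (p : ℚ_[p]) ^ (r - 2) ≠ 0 := pow_ne_zero _ hp0
    have hY00 : Y0 ≠ 0 := by
      intro h
      rw [h, zero_mul] at hprod
      exact hc0 hprod.symm
    have hvY0 : Y0.valuation = (r : ℤ) - 2 := by
      have h1 := Padic.valuation_mul hY00 hY10
      rw [hprod, Padic.valuation_pow, Padic.valuation_p, hvY1] at h1
      omega
    have hva : ((p : ℚ_[p]) * Y1).valuation = 1 := by
      rw [Padic.valuation_mul hp0 hY10, Padic.valuation_p, hvY1, add_zero]
    have hvb : ((p : ℚ_[p]) * Y0).valuation = (r : ℤ) - 1 := by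
      rw [Padic.valuation_mul hp0 hY00, Padic.valuation_p, hvY0]; ring
    have hpr : (p : ℚ_[p]) ^ r = (p : ℚ_[p]) ^ 2 * (p : ℚ_[p]) ^ (r - 2) := by
      rw [← pow_add]; congr 1; omega
    refine ⟨_, _, ?_, ?_, ?_, hva, hvb⟩
    · intro h
      rw [h, hvb] at hva
      omega
    · rw [hpr]; linear_combination ((p : ℚ_[p]) ^ 2) * hE
    · rw [hpr, hY0def]; linear_combination ((p : ℚ_[p]) ^ 2) * hE

end Groth.Agent.S16390
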