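import Groth.Statements.S16396
import Mathlib

set_option autoImplicit false
universe u
open CAlg

namespace Groth.Agent.S16396

open Polynomial in
/-- For a commutative ℚ-algebra A, a ℚ-subalgebra B of the polynomial algebra A[X] that contains X and
is closed under d/dX consists exactly of the polynomials each of whose coefficients is the value at
0 of some element of B; in other words B = ev(B)[X], with ev the evaluation at 0. -/
theorem result
    (A : Type u) [CommRing A] [Algebra ℚ A] (B : Subalgebra ℚ A[X])
    (hX : (X : A[X]) ∈ B) (hD : ∀ P ∈ B, Polynomial.derivative P ∈ B) (P : A[X]) :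
    P ∈ B ↔ ∀ i : ℕ, ∃ Q ∈ B, Polynomial.eval 0 Q = P.coeff i := by
  have key : ∀ n : ℕ, ∀ Q ∈ B, Q.natDegree ≤ n → ∀ i, Polynomial.C (Q.coeff i) ∈ B := by
    intro n
    induction n with
    | zero =>
      intro Q hQ hdeg i
      have hQC : Q = Polynomial.C (Q.coeff 0) := Polynomial.eq_C_of_natDegree_le_zero hdeg
      rcases i with _ | i
      · rw [← hQC]; exact hQ
      · have : Q.coeff (i + 1) = 0 := Polynomial.coeff_eq_zero_of_natDegree_lt (by omega)
        rw [this, Polynomial.C_0]; exact B.zero_mem
    | succ n ih =>
      intro Q hQ hdeg i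
      have hQ' := hD Q hQ
      have hdeg' : (Polynomial.derivative Q).natDegree ≤ n :=
        (Polynomial.natDegree_derivative_le Q).trans (by omega)
      have hpos : ∀ j, Polynomial.C (Q.coeff (j + 1)) ∈ B := by
        intro j
        have h1 := ih _ hQ' hdeg' j
        rw [Polynomial.coeff_derivative] at h1
        have hne : ((j : ℚ) + 1) ≠ 0 := by positivity
        have hcast : ((j : A) + 1) = algebraMap ℚ A ((j : ℚ) + 1) := by simp
        have h2 : Polynomial.C (Q.coeff (j + 1)) =
            (((j : ℚ) + 1)⁻¹) • Polynomial.C (Q.coeff (j + 1) * ((j : A) + 1)) := by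
          rw [Polynomial.smul_C, Algebra.smul_def, hcast, mul_comm (Q.coeff (j + 1)),
            ← mul_assoc, ← map_mul, inv_mul_cancel₀ hne, map_one, one_mul]
        rw [h2]
        exact B.smul_mem h1 _
      rcases i with _ | i
      · have hsum := Q.as_sum_range_C_mul_X_pow
        rw [Finset.sum_range_succ'] at hsum
        have h3 : Polynomial.C (Q.coeff 0) =
            Q - ∑ i ∈ Finset.range Q.natDegree,
              Polynomial.C (Q.coeff (i + 1)) * Polynomial.X ^ (i + 1) := by
          rw [eq_sub_iff_add_eq']
          simpa using hsum.symm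
        rw [h3]
        exact B.sub_mem hQ (B.sum_mem (fun i _ => B.mul_mem (hpos i) (B.pow_mem hX _)))
      · exact hpos i
  constructor
  · intro hP i
    exact ⟨Polynomial.C (P.coeff i), key _ P hP le_rfl i, by simp⟩
  · intro h
    rw [P.as_sum_range_C_mul_X_pow]
    apply B.sum_mem
    intro i _
    obtain ⟨Q, hQ, hQ0⟩ := h i
    have := key _ Q hQ le_rfl 0
    rw [Polynomial.coeff_zero_eq_eval_zero, hQ0] at this
    exact B.mul_mem this (B.pow_mem hX _)

end Groth.Agent.S16396
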