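import Groth.Statements.S16400
import Mathlib

set_option autoImplicit false
universe u v
open CAlgX

namespace Groth.Agent.S16400

/-- Let K be a field, N a finite index set and A a square matrix over K indexed by N whose linear map on
column vectors has kernel equal to its range (so A composed with A is zero and the three-term
sequence it defines is exact in the middle). Then there are subsets N₁₂, N₂₁, N₃₁ of N such that the
block of A with rows in N₃₁ and columns in N₂₁, and the block of A with rows outside N₂₁ and columns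
in N₁₂, both act bijectively on column vectors. (In the original setting K is the prime field and
middle exactness is supplied by the Cartier isomorphism; here exactness is the hypothesis and K is
any field.) -/
theorem result
    {K : Type u} [Field K] {N : Type v} [Fintype N] [DecidableEq N]
    (A : Matrix N N K)
    (hA : LinearMap.ker A.mulVecLin = LinearMap.range A.mulVecLin) :
    ∃ N₁₂ N₂₁ N₃₁ : Finset N,
      Function.Bijective (A.submatrix (Subtype.val : ↥N₃₁ → N) (Subtype.val : ↥N₂₁ → N)).mulVecLin ∧
      Function.Bijective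
        (A.submatrix (Subtype.val : {x : N // x ∉ N₂₁} → N) (Subtype.val : ↥N₁₂ → N)).mulVecLin := by
  classical
  have hWker : ∀ w : N → K, (∃ v, A.mulVec v = w) → A.mulVec w = 0 := by
    rintro w ⟨v, rfl⟩
    have : A.mulVec v ∈ LinearMap.range A.mulVecLin := ⟨v, rfl⟩
    rw [← hA, LinearMap.mem_ker] at this
    exact this
  have hkerW : ∀ w : N → K, A.mulVec w = 0 → ∃ v, A.mulVec v = w := by
    intro w hw
    have : w ∈ LinearMap.ker A.mulVecLin := LinearMap.mem_ker.mpr hw
    rw [hA] at this
    obtain ⟨v, hv⟩ := this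
    exact ⟨v, hv⟩
  obtain ⟨S, hSP, hSmax⟩ : ∃ S : Finset N,
      (∀ x : N → K, A.mulVec x = 0 → (∀ i, i ∉ S → x i = 0) → x = 0) ∧
      ∀ S' : Finset N, (∀ x : N → K, A.mulVec x = 0 → (∀ i, i ∉ S' → x i = 0) → x = 0) →
        S'.card ≤ S.card := by
    have hne : (Finset.univ.filter (fun S : Finset N =>
        ∀ x : N → K, A.mulVec x = 0 → (∀ i, i ∉ S → x i = 0) → x = 0)).Nonempty :=
      ⟨∅, by
        rw [Finset.mem_filter]
        exact ⟨Finset.mem_univ _, fun x _ hx => funext fun i => hx i (Finset.notMem_empty i)⟩⟩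
    obtain ⟨S, hS, hmax⟩ := Finset.exists_max_image _ Finset.card hne
    rw [Finset.mem_filter] at hS
    exact ⟨S, hS.2, fun S' hS' => hmax S' (by
      rw [Finset.mem_filter]; exact ⟨Finset.mem_univ _, hS'⟩)⟩
  have hsum : ∀ v : N → K, ∃ w : N → K, A.mulVec w = 0 ∧ ∀ i, i ∉ S → v i = w i := by
    have hbasis : ∀ j : N, ∃ w : N → K, A.mulVec w = 0 ∧
        ∀ i, i ∉ S → (Pi.single j (1 : K) : N → K) i = w i := by
      intro j
      by_cases hj : j ∈ S
      · refine ⟨0, Matrix.mulVec_zero A, fun i hi => ?_⟩
        have hne : ¬ (i = j) := by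
          intro h; rw [h] at hi; exact hi hj
        rw [Pi.single_apply, if_neg hne, Pi.zero_apply]
      · have hnotP : ¬ (∀ x : N → K, A.mulVec x = 0 →
            (∀ i, i ∉ insert j S → x i = 0) → x = 0) := by
          intro hP
          have := hSmax _ hP
          rw [Finset.card_insert_of_notMem hj] at this
          omega
        push Not at hnotP
        obtain ⟨x, hx0, hxS, hxne⟩ := hnotP
        have hxS' : ∀ i, i ≠ j → i ∉ S → x i = 0 := by
          intro i hij hi
          apply hxS i
          rw [Finset.mem_insert]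
          rintro (h | h)
          · exact hij h
          · exact hi h
        have hxj : x j ≠ 0 := by
          intro h
          apply hxne
          apply hSP x hx0
          intro i hi
          by_cases hij : i = j
          · rw [hij]; exact h
          · exact hxS' i hij hi
        refine ⟨(x j)⁻¹ • x, by rw [Matrix.mulVec_smul, hx0, smul_zero], fun i hi => ?_⟩
        rw [Pi.single_apply, Pi.smul_apply, smul_eq_mul]
        by_cases hij : i = j
        · rw [if_pos hij, hij, inv_mul_cancel₀ hxj]
        · rw [if_neg hij, hxS' i hij hi, mul_zero]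
    intro v
    choose wj hwj0 hwjS using hbasis
    refine ⟨∑ j, v j • wj j, ?_, fun i hi => ?_⟩
    · show A.mulVecLin (∑ j, v j • wj j) = 0
      rw [map_sum]
      apply Finset.sum_eq_zero
      intro j _
      rw [map_smul]
      show v j • A.mulVec (wj j) = 0
      rw [hwj0, smul_zero]
    · rw [Finset.sum_apply]
      have hterm : ∀ j, (v j • wj j) i = if i = j then v j else 0 := by
        intro j
        rw [Pi.smul_apply, smul_eq_mul, ← hwjS j i hi, Pi.single_apply]
        split_ifs <;> simp
      rw [Finset.sum_congr rfl (fun j _ => hterm j), Finset.sum_ite_eq,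
        if_pos (Finset.mem_univ _)]
  have hmain : ∀ (R : Type v) (ρ : R → N), Function.Injective ρ → (∀ r, ρ r ∉ S) →
      (∀ i, i ∉ S → ∃ r, ρ r = i) →
      Function.Bijective (A.submatrix ρ (Subtype.val : ↥S → N)).mulVecLin := by
    intro R ρ hρinj hρS hρsurj
    obtain ⟨ext, hext⟩ : ∃ ext : (↥S → K) → (N → K),
        ∀ x i, ext x i = if h : i ∈ S then x ⟨i, h⟩ else 0 :=
      ⟨fun x i => if h : i ∈ S then x ⟨i, h⟩ else 0, fun x i => rfl⟩
    have hextS : ∀ x (j : ↥S), ext x j.1 = x j := by
      intro x j; rw [hext, dif_pos j.2]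
    have hext0 : ∀ x i, i ∉ S → ext x i = 0 := by
      intro x i hi; rw [hext, dif_neg hi]
    have hmv : ∀ x r, (A.submatrix ρ (Subtype.val : ↥S → N)).mulVec x r
        = A.mulVec (ext x) (ρ r) := by
      intro x r
      simp only [Matrix.mulVec, dotProduct, Matrix.submatrix_apply]
      have h1 : ∑ j : ↥S, A (ρ r) j.1 * x j = ∑ j : ↥S, A (ρ r) j.1 * ext x j.1 := by
        apply Finset.sum_congr rfl; intro j _; rw [hextS]
      rw [h1, Finset.sum_coe_sort S (fun i => A (ρ r) i * ext x i)]
      apply Finset.sum_subset (Finset.subset_univ S)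
      intro i _ hi
      rw [hext0 x i hi, mul_zero]
    constructor
    · rw [injective_iff_map_eq_zero]
      intro x hx
      have hx' : ∀ r, A.mulVec (ext x) (ρ r) = 0 := by
        intro r
        rw [← hmv]
        exact congrFun hx r
      have h1 : A.mulVec (ext x) = 0 := by
        apply hSP _ (hWker _ ⟨ext x, rfl⟩)
        intro i hi
        obtain ⟨r, rfl⟩ := hρsurj i hi
        exact hx' r
      have h2 : ext x = 0 := hSP _ h1 (fun i hi => hext0 x i hi)
      funext j
      rw [← hextS x j, h2]; rfl
    · intro y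
      obtain ⟨yt, hyt⟩ : ∃ yt : N → K, ∀ r, yt (ρ r) = y r := by
        refine ⟨fun i => if h : ∃ r, ρ r = i then y h.choose else 0, fun r => ?_⟩
        have h : ∃ r', ρ r' = ρ r := ⟨r, rfl⟩
        show (if h : ∃ r', ρ r' = ρ r then y h.choose else 0) = y r
        rw [dif_pos h]
        exact congrArg y (hρinj h.choose_spec)
      obtain ⟨w, hw0, hwS⟩ := hsum yt
      obtain ⟨v, hv⟩ := hkerW w hw0
      obtain ⟨w', hw'0, hw'S⟩ := hsum v
      refine ⟨fun j => (v - w') j.1, ?_⟩
      funext r
      show (A.submatrix ρ (Subtype.val : ↥S → N)).mulVec (fun j => (v - w') j.1) r = y r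
      rw [hmv]
      have hexteq : ext (fun j : ↥S => (v - w') j.1) = v - w' := by
        funext i
        by_cases hi : i ∈ S
        · rw [hext, dif_pos hi]
        · rw [hext0 _ i hi, Pi.sub_apply, hw'S i hi, sub_self]
      rw [hexteq, Matrix.mulVec_sub, hv, hw'0, sub_zero, ← hwS _ (hρS r), hyt]
  exact ⟨S, S, Sᶜ,
    hmain ↥(Sᶜ) Subtype.val Subtype.val_injective (fun r => Finset.mem_compl.mp r.2)
      (fun i hi => ⟨⟨i, Finset.mem_compl.mpr hi⟩, rfl⟩),
    hmain {x // x ∉ S} Subtype.val Subtype.val_injective (fun r => r.2)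
      (fun i hi => ⟨⟨i, hi⟩, rfl⟩)⟩

end Groth.Agent.S16400
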