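import Groth.Statements.S16401
import Mathlib

set_option autoImplicit false
universe u v
open CAlgX

namespace Groth.Agent.S16401

/-- Let R be a commutative ring and (E_a), a ∈ ι, a family of additive subgroups of R indexed by an
additive commutative group ι, with E_0 = R and E_a · E_b ⊆ E_{a+b}. Let β, γ : Fin r → ι be weight
vectors with Σ_j β_j = Σ_i γ_i, and let ϑ be an r × r matrix over R with ϑ_{ij} ∈ E_{γ_i − β_j} for
all i, j and with unit determinant. Then a column vector u satisfies u_j ∈ E_{β_j} for every j if
and only if (ϑ u)_i ∈ E_{γ_i} for every i; since ϑ is invertible this says that ϑ maps the box Π_j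
E_{β_j} bijectively onto the box Π_i E_{γ_i}. -/
theorem result
    {R : Type u} [CommRing R] {ι : Type v} [AddCommGroup ι]
    (E : ι → AddSubgroup R) (h0 : E 0 = ⊤)
    (hmul : ∀ a b : ι, ∀ x ∈ E a, ∀ y ∈ E b, x * y ∈ E (a + b))
    {r : ℕ} (wβ wγ : Fin r → ι) (hsum : ∑ j, wβ j = ∑ i, wγ i)
    (ϑ : Matrix (Fin r) (Fin r) R) (hϑ : ∀ i j, ϑ i j ∈ E (wγ i - wβ j))
    (hdet : IsUnit ϑ.det) (u : Fin r → R) :
    (∀ j, u j ∈ E (wβ j)) ↔ ∀ i, ϑ.mulVec u i ∈ E (wγ i) := by
  classical
  have hone : ∀ a : ι, ∀ c : R, ∀ x ∈ E a, c * x ∈ E a := by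
    intro a c x hx
    have hc : c ∈ E 0 := by rw [h0]; trivial
    have := hmul 0 a c hc x hx
    rwa [zero_add] at this
  have hprod : ∀ (s : Finset (Fin r)) (f : Fin r → R) (w : Fin r → ι),
      (∀ k ∈ s, f k ∈ E (w k)) → ∏ k ∈ s, f k ∈ E (∑ k ∈ s, w k) := by
    intro s f w
    induction s using Finset.induction_on with
    | empty =>
      intro _
      rw [Finset.prod_empty, Finset.sum_empty, h0]
      trivial
    | insert a s ha ih =>
      intro h
      rw [Finset.prod_insert ha, Finset.sum_insert ha]
      exact hmul _ _ _ (h a (Finset.mem_insert_self a s)) _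
        (ih (fun k hk => h k (Finset.mem_insert_of_mem hk)))
  constructor
  · intro hu i
    rw [Matrix.mulVec, dotProduct]
    apply AddSubgroup.sum_mem
    intro j _
    have := hmul _ _ _ (hϑ i j) _ (hu j)
    rwa [sub_add_cancel] at this
  · intro hv j
    have hcr : ϑ.det • u = Matrix.cramer ϑ (ϑ.mulVec u) := by
      rw [Matrix.cramer_eq_adjugate_mulVec, Matrix.mulVec_mulVec, Matrix.adjugate_mul,
        Matrix.smul_mulVec, Matrix.one_mulVec]
    have hcrj : ϑ.det * u j = (ϑ.updateCol j (ϑ.mulVec u)).det := by
      have := congrFun hcr j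
      rw [Matrix.cramer_apply] at this
      simpa using this
    have hdetmem : (ϑ.updateCol j (ϑ.mulVec u)).det ∈ E (wβ j) := by
      rw [Matrix.det_apply]
      apply AddSubgroup.sum_mem
      intro σ _
      have hterm : ∏ k, (ϑ.updateCol j (ϑ.mulVec u)) (σ k) k ∈ E (wβ j) := by
        have h1 := hprod Finset.univ (fun k => (ϑ.updateCol j (ϑ.mulVec u)) (σ k) k)
          (fun k => wγ (σ k) - (if k = j then 0 else wβ k)) (by
            intro k _
            by_cases hk : k = j
            · subst hk
              simp only [Matrix.updateCol_self, if_true, sub_zero]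
              exact hv (σ k)
            · simp only [Matrix.updateCol_ne hk, if_neg hk]
              exact hϑ (σ k) k)
        have h2 : ∑ k, (wγ (σ k) - (if k = j then 0 else wβ k)) = wβ j := by
          rw [Finset.sum_sub_distrib, Equiv.sum_comp σ wγ, ← hsum]
          have h3 : ∑ k, (if k = j then (0 : ι) else wβ k) = ∑ k, wβ k - wβ j := by
            rw [eq_sub_iff_add_eq, ← Finset.sum_erase_add _ _ (Finset.mem_univ j),
              ← Finset.sum_erase_add (f := wβ) _ (Finset.mem_univ j)]
            simp only [if_true, add_zero]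
            congr 1
            · apply Finset.sum_congr rfl
              intro k hk
              rw [if_neg (Finset.ne_of_mem_erase hk)]
          rw [h3]
          abel
        rwa [h2] at h1
      rcases Int.units_eq_one_or (Equiv.Perm.sign σ) with hs | hs
      · rw [hs]; simpa using hterm
      · rw [hs]; simpa using (E (wβ j)).neg_mem hterm
    have hu : u j = ↑(hdet.unit⁻¹) * (ϑ.det * u j) := by
      rw [← mul_assoc]
      have : (↑(hdet.unit⁻¹) : R) * ϑ.det = 1 := by
        simp
      rw [this, one_mul]
    rw [hu, hcrj]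
    exact hone _ _ _ hdetmem

end Groth.Agent.S16401
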