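import Groth.Statements.S16408
import Mathlib
import Groth.Agent.Lib.helper2.MVSq
import Groth.Agent.Lib.helper2.MVTri

set_option autoImplicit false
universe v u
open CategoryTheory CategoryTheory.Limits CategoryTheory.Pretriangulated
open W4c3perfectstacks W4c3perfectstacks.MVSq

namespace Groth.Agent.S16408

/-- In a Mayer–Vietoris square of triangulated categories (single-square form), the connecting maps of
the Mayer–Vietoris triangles are natural: for a morphism φ : N₁ ⟶ N₂ over X and connecting maps d₁,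
d₂ making the two Mayer–Vietoris triangles (first map the two units, second map (unit of f at j_*
j^* N, minus f_* f^* of the unit of j)) distinguished, the square formed by d₁, d₂, φ⟦1⟧ and f_* f^*
j_* j^* φ commutes. (The four categories are taken in common universes.) -/
theorem result
    (S S' R R' : Type u) [Category.{v} S] [Category.{v} S'] [Category.{v} R] [Category.{v} R']
    [Preadditive S] [Preadditive S'] [Preadditive R] [Preadditive R']
    [HasZeroObject S] [HasZeroObject S'] [HasZeroObject R] [HasZeroObject R']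
    [HasShift S ℤ] [HasShift S' ℤ] [HasShift R ℤ] [HasShift R' ℤ]
    [∀ n : ℤ, (shiftFunctor S n).Additive] [∀ n : ℤ, (shiftFunctor S' n).Additive]
    [∀ n : ℤ, (shiftFunctor R n).Additive] [∀ n : ℤ, (shiftFunctor R' n).Additive]
    [Pretriangulated S] [Pretriangulated S'] [Pretriangulated R] [Pretriangulated R']
    [IsTriangulated S] [IsTriangulated S'] [IsTriangulated R] [IsTriangulated R']
    (q : W4c3perfectstacks.MVSq S S' R R')
    [q.jst.CommShift ℤ] [q.fst.CommShift ℤ] [q.jpst.CommShift ℤ] [q.gst.CommShift ℤ]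
    [q.jst.IsTriangulated] [q.fst.IsTriangulated] [q.jpst.IsTriangulated] [q.gst.IsTriangulated]
    (hq : q.IsMV) (N₁ N₂ : S) (φ : N₁ ⟶ N₂)
    (d₁ : q.fls.obj (q.fst.obj (q.jls.obj (q.jst.obj N₁))) ⟶ N₁⟦(1 : ℤ)⟧)
    (d₂ : q.fls.obj (q.fst.obj (q.jls.obj (q.jst.obj N₂))) ⟶ N₂⟦(1 : ℤ)⟧)
    (h₁ : Triangle.mk (biprod.lift (q.adjJ.unit.app N₁) (q.adjF.unit.app N₁))
        (biprod.desc (q.adjF.unit.app (q.jls.obj (q.jst.obj N₁)))
          (-(q.fls.map (q.fst.map (q.adjJ.unit.app N₁))))) d₁ ∈ distTriang S)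
    (h₂ : Triangle.mk (biprod.lift (q.adjJ.unit.app N₂) (q.adjF.unit.app N₂))
        (biprod.desc (q.adjF.unit.app (q.jls.obj (q.jst.obj N₂)))
          (-(q.fls.map (q.fst.map (q.adjJ.unit.app N₂))))) d₂ ∈ distTriang S) :
    d₁ ≫ (shiftFunctor S (1 : ℤ)).map φ = q.fls.map (q.fst.map (q.jls.map (q.jst.map φ))) ≫ d₂ := by
  obtain ⟨K, k, w, hT⟩ := distinguished_cocone_triangle₁ (q.adjJ.unit.app N₁)
  have hK : IsZero (q.jst.obj K) :=
    Groth.Agent.H2.H2_mv_isZero_jst_fibre q hq.isIso_counitJ k w hT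
  have hunit : IsIso (q.adjF.unit.app K) := hq.isIso_unitF K hK
  obtain ⟨w'', hT₂⟩ := Groth.Agent.H2.H2_mv_fibre_triangle q k w hT hunit
  have hvan : ∀ s : K⟦(1 : ℤ)⟧ ⟶ q.fls.obj (q.fst.obj (q.jls.obj (q.jst.obj N₂))), s = 0 :=
    fun s => Groth.Agent.H2.H2_mv_hom_fls_fst_jls_zero q hq.isIso_bc2App hK 1 _ s
  have hnatJ : q.adjJ.unit.app N₁ ≫ q.jls.map (q.jst.map φ) = φ ≫ q.adjJ.unit.app N₂ :=
    (q.adjJ.unit.naturality φ).symm
  have hnatF : q.adjF.unit.app N₁ ≫ q.fls.map (q.fst.map φ) = φ ≫ q.adjF.unit.app N₂ :=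
    (q.adjF.unit.naturality φ).symm
  have hnatFJ : q.adjF.unit.app (q.jls.obj (q.jst.obj N₁)) ≫
      q.fls.map (q.fst.map (q.jls.map (q.jst.map φ))) =
      q.jls.map (q.jst.map φ) ≫ q.adjF.unit.app (q.jls.obj (q.jst.obj N₂)) :=
    (q.adjF.unit.naturality (q.jls.map (q.jst.map φ))).symm
  have hFF : q.fls.map (q.fst.map (q.adjJ.unit.app N₁)) ≫
      q.fls.map (q.fst.map (q.jls.map (q.jst.map φ))) =
      q.fls.map (q.fst.map φ) ≫ q.fls.map (q.fst.map (q.adjJ.unit.app N₂)) := by
    rw [← Functor.map_comp, ← Functor.map_comp, hnatJ, Functor.map_comp, Functor.map_comp]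
  refine Groth.Agent.H2.H2_mv_connecting_natural _ _ d₁ h₁ _ _ d₂ h₂
    (k ≫ q.adjF.unit.app N₁) (q.fls.map (q.fst.map (q.adjJ.unit.app N₁))) w'' hT₂
    biprod.inr (by simp) φ
    (biprod.map (q.jls.map (q.jst.map φ)) (q.fls.map (q.fst.map φ)))
    (q.fls.map (q.fst.map (q.jls.map (q.jst.map φ)))) ?_ ?_ hvan
  · apply biprod.hom_ext
    · simp only [Category.assoc, biprod.map_fst, biprod.lift_fst, biprod.lift_fst_assoc]
      exact hnatJ
    · simp only [Category.assoc, biprod.map_snd, biprod.lift_snd, biprod.lift_snd_assoc]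
      exact hnatF
  · apply biprod.hom_ext'
    · simp only [biprod.inl_desc_assoc, biprod.inl_map_assoc, biprod.inl_desc]
      exact hnatFJ
    · simp only [biprod.inr_desc_assoc, biprod.inr_map_assoc, biprod.inr_desc,
        Preadditive.neg_comp, Preadditive.comp_neg, neg_inj]
      exact hFF

end Groth.Agent.S16408
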