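import Groth.Statements.S16409
import Mathlib
import Groth.Agent.Lib.helper2.MVSq

set_option autoImplicit false
universe v u
open CategoryTheory CategoryTheory.Limits CategoryTheory.Pretriangulated
open W4c3perfectstacks W4c3perfectstacks.MVSq

namespace Groth.Agent.S16409

/-- In a Mayer–Vietoris square of triangulated categories (single-square form), let M be an object over
X' whose restriction to U' is zero and let N be any object over X. Then the pullback functor along
X' → X is bijective on morphisms f_* M ⟶ N; since the counit f^* f_* M ⟶ M is invertible for such M,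
composing with its inverse gives a bijection Hom(f_* M, N) ≃ Hom(M, f^* N). (The four categories are
taken in common universes.) -/
theorem result
    (S S' R R' : Type u) [Category.{v} S] [Category.{v} S'] [Category.{v} R] [Category.{v} R']
    [Preadditive S] [Preadditive S'] [Preadditive R] [Preadditive R']
    [HasZeroObject S] [HasZeroObject S'] [HasZeroObject R] [HasZeroObject R']
    [HasShift S ℤ] [HasShift S' ℤ] [HasShift R ℤ] [HasShift R' ℤ]
    [∀ n : ℤ, (shiftFunctor S n).Additive] [∀ n : ℤ, (shiftFunctor S' n).Additive]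
    [∀ n : ℤ, (shiftFunctor R n).Additive] [∀ n : ℤ, (shiftFunctor R' n).Additive]
    [Pretriangulated S] [Pretriangulated S'] [Pretriangulated R] [Pretriangulated R']
    [IsTriangulated S] [IsTriangulated S'] [IsTriangulated R] [IsTriangulated R']
    (q : W4c3perfectstacks.MVSq S S' R R')
    [q.jst.CommShift ℤ] [q.fst.CommShift ℤ] [q.jpst.CommShift ℤ] [q.gst.CommShift ℤ]
    [q.jst.IsTriangulated] [q.fst.IsTriangulated] [q.jpst.IsTriangulated] [q.gst.IsTriangulated]
    (hq : q.IsMV) (M : S') (hM : IsZero (q.jpst.obj M)) (N : S) :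
    Function.Bijective (fun g : q.fls.obj M ⟶ N => q.fst.map g) := by
  obtain ⟨K, k, w, hT⟩ := distinguished_cocone_triangle₁ (q.adjJ.unit.app N)
  have hK : IsZero (q.jst.obj K) :=
    Groth.Agent.H2.H2_mv_isZero_jst_fibre q hq.isIso_counitJ k w hT
  have hunit : IsIso (q.adjF.unit.app K) := hq.isIso_unitF K hK
  have hA : IsZero (q.jst.obj (q.fls.obj M)) :=
    Groth.Agent.H2.H2_mv_isZero_jst_fls q hq.isIso_bcApp hM
  have htop : Function.Bijective (fun g : q.fls.obj M ⟶ K => g ≫ k) :=
    Groth.Agent.H2.H2_bijective_comp_mor₁ (Triangle.mk k (q.adjJ.unit.app N) w) hT (q.fls.obj M)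
      (fun g => Groth.Agent.H2.H2_hom_rightAdjoint_eq_zero q.adjJ hA g)
      (fun g => Groth.Agent.H2.H2_hom_rightAdjoint_eq_zero q.adjJ
        (Groth.Agent.H2.H2_isZero_map_shift q.jst hA 1) g)
  have hleft := Groth.Agent.H2.H2_mv_fst_map_bijective_of_isIso_unit q hunit (q.fls.obj M)
  haveI := hq.isIso_counitF M hM
  have hA' : IsZero (q.jpst.obj (q.fst.obj (q.fls.obj M))) :=
    IsZero.of_iso hM (q.jpst.mapIso (asIso (q.adjF.counit.app M)))
  have hbot : Function.Bijective
      (fun g : q.fst.obj (q.fls.obj M) ⟶ q.fst.obj K => g ≫ q.fst.map k) :=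
    Groth.Agent.H2.H2_bijective_comp_mor₁
      (q.fst.mapTriangle.obj (Triangle.mk k (q.adjJ.unit.app N) w))
      (q.fst.map_distinguished _ hT) (q.fst.obj (q.fls.obj M))
      (fun g => Groth.Agent.H2.H2_mv_hom_fst_jls_zero q hq.isIso_bc2App hA' _ g)
      (fun g => Groth.Agent.H2.H2_mv_hom_fst_jls_zero q hq.isIso_bc2App
        (Groth.Agent.H2.H2_isZero_map_shift q.jpst hA' 1) _ g)
  have heq : (fun g : q.fls.obj M ⟶ N => q.fst.map g) ∘ (fun g : q.fls.obj M ⟶ K => g ≫ k) =
      (fun g : q.fst.obj (q.fls.obj M) ⟶ q.fst.obj K => g ≫ q.fst.map k) ∘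
        (fun g : q.fls.obj M ⟶ K => q.fst.map g) := by
    funext g
    simp
  refine (Function.Bijective.of_comp_iff _ htop).1 ?_
  rw [heq]
  exact hbot.comp hleft

end Groth.Agent.S16409
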