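import Groth.Statements.S16411
import Mathlib
import Groth.Agent.Lib.helper2.MVCompact
import Groth.Agent.S16407
import Groth.Agent.S16408

set_option autoImplicit false
universe v u
open CategoryTheory CategoryTheory.Limits CategoryTheory.Pretriangulated
open W4c3perfectstacks W4c3perfectstacks.MVSq

namespace Groth.Agent.S16411

/-- In a Mayer–Vietoris square of triangulated categories with small coproducts (single-square form), an
object over X whose restrictions to U, to X' and to U' are compact is compact. (The four categories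
are taken in common universes; coproducts are indexed by types in the morphism universe.) -/
theorem result
    (S S' R R' : Type u) [Category.{v} S] [Category.{v} S'] [Category.{v} R] [Category.{v} R']
    [Preadditive S] [Preadditive S'] [Preadditive R] [Preadditive R']
    [HasZeroObject S] [HasZeroObject S'] [HasZeroObject R] [HasZeroObject R']
    [HasShift S ℤ] [HasShift S' ℤ] [HasShift R ℤ] [HasShift R' ℤ]
    [∀ n : ℤ, (shiftFunctor S n).Additive] [∀ n : ℤ, (shiftFunctor S' n).Additive]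
    [∀ n : ℤ, (shiftFunctor R n).Additive] [∀ n : ℤ, (shiftFunctor R' n).Additive]
    [Pretriangulated S] [Pretriangulated S'] [Pretriangulated R] [Pretriangulated R']
    [IsTriangulated S] [IsTriangulated S'] [IsTriangulated R] [IsTriangulated R']
    (q : W4c3perfectstacks.MVSq S S' R R')
    [q.jst.CommShift ℤ] [q.fst.CommShift ℤ] [q.jpst.CommShift ℤ] [q.gst.CommShift ℤ]
    [q.jst.IsTriangulated] [q.fst.IsTriangulated] [q.jpst.IsTriangulated] [q.gst.IsTriangulated]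
    (hq : q.IsMV)
    [HasCoproducts.{v} S] [HasCoproducts.{v} S'] [HasCoproducts.{v} R] [HasCoproducts.{v} R']
    (N : S) (hU : CohDer.IsCompactObject (q.jst.obj N)) (hX' : CohDer.IsCompactObject (q.fst.obj N))
    (hU' : CohDer.IsCompactObject (q.gst.obj (q.jst.obj N))) :
    CohDer.IsCompactObject N := by
  classical
  rw [Groth.Agent.H2.H2_compact_iff]
  intro ι X φ
  haveI : PreservesColimitsOfSize.{v, v} q.jst := q.adjJ.leftAdjoint_preservesColimits
  haveI : PreservesColimitsOfSize.{v, v} q.fst := q.adjF.leftAdjoint_preservesColimits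
  haveI : q.jls.IsRightAdjoint := q.adjJ.isRightAdjoint
  haveI : q.fls.IsRightAdjoint := q.adjF.isRightAdjoint
  obtain ⟨s₁, h1⟩ := Groth.Agent.H2.H2_compact_factor_map' q.jst hU X (q.jst.map φ)
  obtain ⟨s₂, h2⟩ := Groth.Agent.H2.H2_compact_factor_map' q.fst hX' X (q.fst.map φ)
  obtain ⟨dM, hdM, -⟩ := Groth.Agent.S16407.result S S' R R' q hq (∐ X)
  have hj : (φ ≫ (𝟙 _ - Groth.Agent.H2.H2_proj X (s₁ ∪ s₂))) ≫ q.adjJ.unit.app (∐ X) = 0 := by
    have e1 : (𝟙 (∐ X) - Groth.Agent.H2.H2_proj X s₁) ≫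
        (𝟙 _ - Groth.Agent.H2.H2_proj X (s₁ ∪ s₂)) =
        𝟙 _ - Groth.Agent.H2.H2_proj X (s₁ ∪ s₂) := by
      rw [Groth.Agent.H2.H2_one_sub_proj_comp,
        Finset.union_eq_right.2 (Finset.subset_union_left : s₁ ⊆ s₁ ∪ s₂)]
    have e2 : q.jst.map (φ ≫ (𝟙 _ - Groth.Agent.H2.H2_proj X (s₁ ∪ s₂))) = 0 := by
      rw [← e1, Functor.map_comp, Functor.map_comp, reassoc_of% h1, Limits.zero_comp]
    have e3 := q.adjJ.unit.naturality (φ ≫ (𝟙 _ - Groth.Agent.H2.H2_proj X (s₁ ∪ s₂)))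
    dsimp at e3
    rw [e3, e2, Functor.map_zero, Limits.comp_zero]
  have hf : (φ ≫ (𝟙 _ - Groth.Agent.H2.H2_proj X (s₁ ∪ s₂))) ≫ q.adjF.unit.app (∐ X) = 0 := by
    have e1 : (𝟙 (∐ X) - Groth.Agent.H2.H2_proj X s₂) ≫
        (𝟙 _ - Groth.Agent.H2.H2_proj X (s₁ ∪ s₂)) =
        𝟙 _ - Groth.Agent.H2.H2_proj X (s₁ ∪ s₂) := by
      rw [Groth.Agent.H2.H2_one_sub_proj_comp,
        Finset.union_eq_right.2 (Finset.subset_union_right : s₂ ⊆ s₁ ∪ s₂)]
    have e2 : q.fst.map (φ ≫ (𝟙 _ - Groth.Agent.H2.H2_proj X (s₁ ∪ s₂))) = 0 := by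
      rw [← e1, Functor.map_comp, Functor.map_comp, reassoc_of% h2, Limits.zero_comp]
    have e3 := q.adjF.unit.naturality (φ ≫ (𝟙 _ - Groth.Agent.H2.H2_proj X (s₁ ∪ s₂)))
    dsimp at e3
    rw [e3, e2, Functor.map_zero, Limits.comp_zero]
  have hα : (φ ≫ (𝟙 _ - Groth.Agent.H2.H2_proj X (s₁ ∪ s₂)))⟦(1 : ℤ)⟧' ≫
      (biprod.lift (q.adjJ.unit.app (∐ X)) (q.adjF.unit.app (∐ X)))⟦(1 : ℤ)⟧' = 0 := by
    have h0 : (φ ≫ (𝟙 _ - Groth.Agent.H2.H2_proj X (s₁ ∪ s₂))) ≫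
        biprod.lift (q.adjJ.unit.app (∐ X)) (q.adjF.unit.app (∐ X)) = 0 := by
      apply biprod.hom_ext
      · rw [Category.assoc, biprod.lift_fst, Limits.zero_comp]; exact hj
      · rw [Category.assoc, biprod.lift_snd, Limits.zero_comp]; exact hf
    rw [← Functor.map_comp, h0, Functor.map_zero]
  obtain ⟨y, hy⟩ : ∃ y : N⟦(1 : ℤ)⟧ ⟶ q.fls.obj (q.fst.obj (q.jls.obj (q.jst.obj (∐ X)))),
      (φ ≫ (𝟙 _ - Groth.Agent.H2.H2_proj X (s₁ ∪ s₂)))⟦(1 : ℤ)⟧' = y ≫ dM :=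
    Triangle.coyoneda_exact₁ _ hdM _ hα
  have hA : CohDer.IsCompactObject (q.gst.obj (q.jst.obj (N⟦(1 : ℤ)⟧))) :=
    Groth.Agent.H2.H2_compact_of_iso
      ((q.gst.mapIso ((q.jst.commShiftIso (1 : ℤ)).app N) ≪≫
        (q.gst.commShiftIso (1 : ℤ)).app (q.jst.obj N)).symm)
      (Groth.Agent.H2.H2_compact_shift hU' 1)
  obtain ⟨t, ht⟩ := Groth.Agent.H2.H2_mv_compact_factor_Q q hq.isIso_bc2App hA X y
  have hnat := Groth.Agent.S16408.result S S' R R' q hq (∐ X) (∐ X)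
    (𝟙 _ - Groth.Agent.H2.H2_proj X t) dM dM hdM hdM
  have h4 : ((φ ≫ (𝟙 _ - Groth.Agent.H2.H2_proj X (s₁ ∪ s₂))) ≫
      (𝟙 _ - Groth.Agent.H2.H2_proj X t))⟦(1 : ℤ)⟧' = 0 := by
    rw [Functor.map_comp, hy, Category.assoc, hnat, reassoc_of% ht, Limits.zero_comp]
  have h5 : (φ ≫ (𝟙 _ - Groth.Agent.H2.H2_proj X (s₁ ∪ s₂))) ≫
      (𝟙 _ - Groth.Agent.H2.H2_proj X t) = 0 :=
    (shiftFunctor S (1 : ℤ)).map_injective (by rw [h4, Functor.map_zero])
  refine ⟨(s₁ ∪ s₂) ∪ t, ?_⟩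
  rw [Category.assoc, Groth.Agent.H2.H2_one_sub_proj_comp, Preadditive.comp_sub, Category.comp_id,
    sub_eq_zero] at h5
  exact h5.symm

end Groth.Agent.S16411
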