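import Groth.Statements.S16414
import Mathlib

set_option autoImplicit false
open Dieud

namespace Groth.Agent.S16414

/-- Let μ be a rational number with 0 < μ ≤ 1 and i an integer, and put f(i,j) = max(−i−j, −j, 0) for
integers j. Then min over all integers j of f(i,j) + jμ exists and equals max(−iμ, 0). -/
theorem result (μ : ℚ) (hμ0 : 0 < μ) (hμ1 : μ ≤ 1) (i : ℤ) :
    IsLeast (Set.range fun j : ℤ => ((max (max (-i - j) (-j)) 0 : ℤ) : ℚ) + (j : ℚ) * μ)
      (max (-(i : ℚ) * μ) 0) := by
  constructor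
  · rcases le_or_gt 0 i with h | h
    · refine ⟨0, ?_⟩
      simp only
      have h1 : max (max (-i - 0) (-0)) 0 = (0 : ℤ) := by omega
      rw [h1]
      have h2 : -(i : ℚ) * μ ≤ 0 := by
        have : (0 : ℚ) ≤ i := by exact_mod_cast h
        nlinarith
      rw [max_eq_right h2]; simp
    · refine ⟨-i, ?_⟩
      simp only
      have h1 : max (max (-i - -i) (- -i)) 0 = (0 : ℤ) := by omega
      rw [h1]
      have h2 : 0 ≤ -(i : ℚ) * μ := by
        have : (i : ℚ) < 0 := by exact_mod_cast h
        nlinarith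
      rw [max_eq_left h2]; push_cast; ring
  · rintro _ ⟨j, rfl⟩
    simp only
    push_cast
    have hf0 : (0 : ℚ) ≤ max (max (-(i : ℚ) - j) (-(j : ℚ))) 0 := le_max_right _ _
    have hf1 : -(j : ℚ) ≤ max (max (-(i : ℚ) - j) (-(j : ℚ))) 0 :=
      le_trans (le_max_right _ _) (le_max_left _ _)
    have hf2 : -(i : ℚ) - j ≤ max (max (-(i : ℚ) - j) (-(j : ℚ))) 0 :=
      le_trans (le_max_left _ _) (le_max_left _ _)
    apply max_le
    · rcases le_or_gt 0 ((i : ℚ) + j) with h | h
      · nlinarith
      · nlinarith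
    · rcases le_or_gt 0 (j : ℚ) with h | h
      · nlinarith
      · nlinarith

end Groth.Agent.S16414
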