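import Groth.Statements.S16418
import Mathlib

set_option autoImplicit false
universe u v
open Dieud

namespace Groth.Agent.S16418

/-- Step of the proof: for a prime p and a perfect field k of characteristic p, write W = W(k) and σ for
its Frobenius; let M be a W-module with additive maps F (σ-semilinear) and V (with V(σ(a)m) = aV(m))
such that FV = VF = p, V is injective, ⋂_n V^n M = 0 and M/VM is finitely generated over W. Put M₁ =
{x ∈ M : for every n there is m with V^m x ∈ F^n M} and M₂ = {x ∈ M : F^n x = 0 for some n}. Then M₂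
is killed by a single power of F, and F is injective on M₁. (The published text makes these
assertions inside a proof, for the V-reduced Cartier module of a connected smooth formal group of
finite dimension over k; only the listed structure is used, and V-adic completeness is not needed.) -/
theorem result
    (p : ℕ) [Fact p.Prime] (k : Type u) [Field k] [CharP k p] [PerfectRing k p]
    (M : Type v) [AddCommGroup M] [Module (WittVector p k) M]
    (F V : M →+ M)
    (hF : ∀ (a : WittVector p k) (m : M), F (a • m) = WittVector.frobenius a • F m)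
    (hV : ∀ (a : WittVector p k) (m : M), V (WittVector.frobenius a • m) = a • V m)
    (hFV : ∀ m : M, F (V m) = (p : WittVector p k) • m)
    (hVF : ∀ m : M, V (F m) = (p : WittVector p k) • m)
    (hVinj : Function.Injective V)
    (hsep : ∀ x : M, (∀ n : ℕ, ∃ y : M, x = (⇑V)^[n] y) → x = 0)
    (hfin : Module.Finite (WittVector p k) (M ⧸ Submodule.span (WittVector p k) (Set.range V))) :
    (∃ c : ℕ, ∀ x : M, (∃ n : ℕ, (⇑F)^[n] x = 0) → (⇑F)^[c] x = 0) ∧
    (∀ x : M, (∀ n : ℕ, ∃ (m : ℕ) (y : M), (⇑V)^[m] x = (⇑F)^[n] y) → F x = 0 → x = 0) := by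
  have hFVcomm : ∀ m, F (V m) = V (F m) := fun m => by rw [hFV, hVF]
  have hcomm : ∀ n m, (⇑F)^[n] (V m) = V ((⇑F)^[n] m) := by
    intro n
    induction n with
    | zero => intro m; rfl
    | succ n ih =>
      intro m
      rw [Function.iterate_succ_apply', Function.iterate_succ_apply', ih, hFVcomm]
  have hcommV : ∀ j n m, (⇑F)^[n] ((⇑V)^[j] m) = (⇑V)^[j] ((⇑F)^[n] m) := by
    intro j
    induction j with
    | zero => intro n m; rfl
    | succ j ih =>
      intro n m
      rw [Function.iterate_succ_apply', Function.iterate_succ_apply', hcomm, ih]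
  have hFsmul : ∀ n (a : WittVector p k) m,
      (⇑F)^[n] (a • m) = ((⇑(WittVector.frobenius : WittVector p k →+* WittVector p k))^[n] a) •
        (⇑F)^[n] m := by
    intro n
    induction n with
    | zero => intro a m; rfl
    | succ n ih =>
      intro a m
      rw [Function.iterate_succ_apply', Function.iterate_succ_apply',
        Function.iterate_succ_apply', ih, hF]
  have hF0 : ∀ n, (⇑F)^[n] 0 = 0 := fun n => iterate_map_zero F n
  let K : ℕ → Submodule (WittVector p k) M := fun n =>
    { carrier := {x | (⇑F)^[n] x = 0}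
      zero_mem' := hF0 n
      add_mem' := by
        intro x y hx hy
        simp only [Set.mem_ofPred_eq] at *
        rw [iterate_map_add, hx, hy, add_zero]
      smul_mem' := by
        intro a x hx
        simp only [Set.mem_ofPred_eq] at *
        rw [hFsmul, hx, smul_zero] }
  have hKmem : ∀ n x, x ∈ K n ↔ (⇑F)^[n] x = 0 := fun n x => Iff.rfl
  have hKmono : Monotone K := by
    intro a b hab x hx
    rw [hKmem] at hx ⊢
    have : b = (b - a) + a := by omega
    rw [this, Function.iterate_add_apply, hx, hF0]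
  have hNoeth : IsNoetherian (WittVector p k)
      (M ⧸ Submodule.span (WittVector p k) (Set.range V)) :=
    isNoetherian_of_isNoetherianRing_of_finite _ _
  obtain ⟨c, hc⟩ := monotone_stabilizes_iff_noetherian.2 hNoeth
    ⟨fun n => (K n).map (Submodule.mkQ (Submodule.span (WittVector p k) (Set.range V))),
      fun a b hab => Submodule.map_mono (hKmono hab)⟩
  have hrange : ∀ z ∈ Submodule.span (WittVector p k) (Set.range V), ∃ y, z = V y := by
    intro z hz
    induction hz using Submodule.span_induction with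
    | mem z hz => obtain ⟨y, rfl⟩ := hz; exact ⟨y, rfl⟩
    | zero => exact ⟨0, (map_zero V).symm⟩
    | add a b _ _ ha hb =>
      obtain ⟨ya, rfl⟩ := ha
      obtain ⟨yb, rfl⟩ := hb
      exact ⟨ya + yb, (map_add V _ _).symm⟩
    | smul a z _ hz =>
      obtain ⟨y, rfl⟩ := hz
      exact ⟨WittVector.frobenius a • y, (hV a y).symm⟩
  have hdecomp : ∀ n, c ≤ n → ∀ x ∈ K n, ∃ x0 ∈ K c, ∃ y ∈ K n, x = x0 + V y := by
    intro n hn x hx
    have h1 : Submodule.mkQ (Submodule.span (WittVector p k) (Set.range V)) x ∈
        (K n).map (Submodule.mkQ (Submodule.span (WittVector p k) (Set.range V))) :=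
      Submodule.mem_map_of_mem hx
    have h2 : (K c).map (Submodule.mkQ (Submodule.span (WittVector p k) (Set.range V))) =
        (K n).map (Submodule.mkQ (Submodule.span (WittVector p k) (Set.range V))) := hc n hn
    rw [← h2] at h1
    obtain ⟨x0, hx0, hx0eq⟩ := Submodule.mem_map.1 h1
    have h3 : x - x0 ∈ Submodule.span (WittVector p k) (Set.range V) := by
      rw [← Submodule.Quotient.mk_eq_zero, Submodule.Quotient.mk_sub, sub_eq_zero]
      exact hx0eq.symm
    obtain ⟨y, hy⟩ := hrange _ h3
    refine ⟨x0, hx0, y, ?_, by rw [← hy]; abel⟩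
    rw [hKmem]
    apply hVinj
    rw [← hcomm, ← hy, map_zero]
    have hx0n : (⇑F)^[n] x0 = 0 := (hKmem n x0).1 (hKmono hn hx0)
    have hxn : (⇑F)^[n] x = 0 := (hKmem n x).1 hx
    have : x = (x - x0) + x0 := by abel
    have h4 : (⇑F)^[n] x = (⇑F)^[n] (x - x0) + (⇑F)^[n] x0 := by
      conv_lhs => rw [this]
      rw [iterate_map_add]
    rw [hxn, hx0n, add_zero] at h4
    exact h4.symm
  have hiter : ∀ n, c ≤ n → ∀ j : ℕ, ∀ x ∈ K n, ∃ y, (⇑F)^[c] x = (⇑V)^[j] y := by
    intro n hn j
    induction j with
    | zero => intro x _; exact ⟨(⇑F)^[c] x, rfl⟩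
    | succ j ih =>
      intro x hx
      obtain ⟨x0, hx0, y, hy, rfl⟩ := hdecomp n hn x hx
      obtain ⟨y', hy'⟩ := ih y hy
      refine ⟨y', ?_⟩
      rw [iterate_map_add, (hKmem c x0).1 hx0, zero_add, hcomm, hy',
        Function.iterate_succ_apply']
  have hpart1 : ∀ x : M, (∃ n : ℕ, (⇑F)^[n] x = 0) → (⇑F)^[c] x = 0 := by
    rintro x ⟨n, hn⟩
    by_cases hcn : c ≤ n
    · apply hsep
      intro j
      obtain ⟨y, hy⟩ := hiter n hcn j x ((hKmem n x).2 hn)
      exact ⟨y, hy⟩
    · have : c = (c - n) + n := by omega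
      rw [this, Function.iterate_add_apply, hn, hF0]
  refine ⟨⟨c, hpart1⟩, ?_⟩
  intro x hx hFx
  obtain ⟨m, y, hmy⟩ := hx c
  have hy : (⇑F)^[c] y = 0 := by
    apply hpart1
    refine ⟨c + 1, ?_⟩
    rw [Function.iterate_succ_apply', ← hmy, ← Function.iterate_one (⇑F), hcommV m 1 x,
      Function.iterate_one, hFx, iterate_map_zero]
  rw [hy] at hmy
  have hVinjm : Function.Injective ((⇑V)^[m]) := hVinj.iterate m
  apply hVinjm
  rw [hmy, iterate_map_zero]

end Groth.Agent.S16418
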