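import Groth.Statements.S16430
import Mathlib
import Groth.Agent.Lib.helper4.FiniteLocalResidue
import Groth.Agent.Lib.helper4.FiniteEtaleLift
import Groth.Agent.Lib.helper4.UnramAdjoinRoot

set_option autoImplicit false
universe u
open Hensel

namespace Groth.Agent.S16430

/-- For a Noetherian local ring A with residue field k and a finite separable field extension l of k,
there is a local ring E, finite and etale over A with local structure map, whose residue field is
k-isomorphic to l. -/
theorem result (A : Type u)
    [CommRing A] [IsLocalRing A] [IsNoetherianRing A] (l : Type u) [Field l]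
    [Algebra (IsLocalRing.ResidueField A) l] [FiniteDimensional (IsLocalRing.ResidueField A) l]
    [Algebra.IsSeparable (IsLocalRing.ResidueField A) l] :
    ∃ (E : Type u) (_ : CommRing E) (_ : IsLocalRing E) (_ : Algebra A E)
      (_ : IsLocalHom (algebraMap A E)),
      Module.Finite A E ∧ Algebra.Etale A E ∧
        Nonempty (IsLocalRing.ResidueField E ≃ₐ[IsLocalRing.ResidueField A] l) := by
  classical
  obtain ⟨α, hα⟩ := Field.exists_primitive_element (IsLocalRing.ResidueField A) l
  have hint : IsIntegral (IsLocalRing.ResidueField A) α := IsIntegral.of_finite _ α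
  have hlift : minpoly (IsLocalRing.ResidueField A) α ∈ Polynomial.lifts (IsLocalRing.residue A) := by
    rw [Polynomial.lifts_iff_coeff_lifts]
    intro n
    exact IsLocalRing.residue_surjective _
  obtain ⟨G, hG1, hG2, hG3⟩ := Polynomial.lifts_and_natDegree_eq_and_monic hlift (minpoly.monic hint)
  have hGu : IsUnit (AdjoinRoot.mk G (Polynomial.derivative G)) := by
    apply Groth.Agent.H4.H4_isUnit_mk_derivative_of_separable_residue G hG3
    rw [hG1]
    exact Algebra.IsSeparable.isSeparable _ α
  haveI : Algebra.Etale A (AdjoinRoot G) := Groth.Agent.H4.H4_etale_adjoinRoot G hG3 hGu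
  haveI : Module.Finite A (AdjoinRoot G) := hG3.finite_adjoinRoot
  obtain ⟨Φ⟩ := Groth.Agent.H4.H4_tensor_adjoinRoot_equiv G α hint hα hG1.symm
  obtain ⟨h1, h2, h3⟩ := Groth.Agent.H4.H4_local_of_fibre_field Φ
  exact ⟨AdjoinRoot G, inferInstance, h1, inferInstance, h2, inferInstance, inferInstance, h3⟩

end Groth.Agent.S16430
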