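import Groth.Statements.S16452
import Mathlib

set_option autoImplicit false
universe u
open CAlg

namespace Groth.Agent.S16452

theorem hdec {A B : Type u} [CommRing A] [CommRing B] {φ : A →+* B}
    {𝓕 : FiltBl.IdealFiltration A} {𝓖 : FiltBl.IdealFiltration B}
    (h : AssocGr.IsFiltHom φ 𝓕 𝓖) (x : AssocGr.GrRing 𝓕) :
    ∀ n : ℕ, ((DirectSum.decompose (AssocGr.gr 𝓖) (AssocGr.map h x)) n : AssocGr.GrRing 𝓖) =
      AssocGr.map h ((DirectSum.decompose (AssocGr.gr 𝓕) x) n : AssocGr.GrRing 𝓕) := by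
  classical
  refine DirectSum.Decomposition.inductionOn (AssocGr.gr 𝓕)
    (motive := fun x => ∀ n : ℕ,
      ((DirectSum.decompose (AssocGr.gr 𝓖) (AssocGr.map h x)) n : AssocGr.GrRing 𝓖) =
        AssocGr.map h ((DirectSum.decompose (AssocGr.gr 𝓕) x) n : AssocGr.GrRing 𝓕)) ?_ ?_ ?_ x
  · intro n
    simp only [map_zero, DirectSum.decompose_zero, DirectSum.zero_apply, ZeroMemClass.coe_zero]
  · intro i m n
    by_cases hin : i = n
    · subst hin
      rw [DirectSum.decompose_of_mem_same _ (AssocGr.map_mem_gr h m.2),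
        DirectSum.decompose_of_mem_same _ m.2]
    · rw [DirectSum.decompose_of_mem_ne _ (AssocGr.map_mem_gr h m.2) hin,
        DirectSum.decompose_of_mem_ne _ m.2 hin, map_zero]
  · intro m m' hm hm' n
    rw [map_add, DirectSum.decompose_add, DirectSum.decompose_add, DirectSum.add_apply,
      DirectSum.add_apply, Submodule.coe_add, Submodule.coe_add, map_add, hm, hm']

theorem gr_bij {A B : Type u} [CommRing A] [CommRing B] (φ : A →+* B) (I : Ideal A) (J : Ideal B)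
    (hIJ : I.map φ ≤ J)
    (ha : ∀ (n : ℕ) (y : B), y ∈ J ^ n → ∃ a ∈ I ^ n, φ a - y ∈ J ^ (n + 1))
    (hb : ∀ (n : ℕ) (a : A), a ∈ I ^ n → φ a ∈ J ^ (n + 1) → a ∈ I ^ (n + 1)) :
    Function.Bijective (AssocGr.map (AssocGr.IsFiltHom.adic hIJ)) := by
  classical
  constructor
  · rw [injective_iff_map_eq_zero]
    intro x hx
    have hcomp : ∀ n : ℕ, ((DirectSum.decompose (AssocGr.gr (FiltBl.IdealFiltration.adic I)) x) n :
        AssocGr.GrRing (FiltBl.IdealFiltration.adic I)) = 0 := by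
      intro n
      obtain ⟨a, ha'⟩ := AssocGr.inDeg_surjective (FiltBl.IdealFiltration.adic I) n
        ((DirectSum.decompose (AssocGr.gr (FiltBl.IdealFiltration.adic I)) x) n)
      have h1 := hdec (AssocGr.IsFiltHom.adic hIJ) x n
      rw [hx, DirectSum.decompose_zero, DirectSum.zero_apply, ZeroMemClass.coe_zero, ← ha',
        AssocGr.map_inDeg] at h1
      have h2 := (Submodule.coe_eq_zero).mp h1.symm
      rw [AssocGr.inDeg_eq_zero_iff] at h2
      have h3 : (a : A) ∈ I ^ (n + 1) := hb n a a.2 h2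
      have h4 : AssocGr.inDeg (FiltBl.IdealFiltration.adic I) n a = 0 :=
        (AssocGr.inDeg_eq_zero_iff (FiltBl.IdealFiltration.adic I) n a).mpr h3
      rw [← ha', h4]
      rfl
    rw [← DirectSum.sum_support_decompose (AssocGr.gr (FiltBl.IdealFiltration.adic I)) x]
    apply Finset.sum_eq_zero
    intro n _
    exact hcomp n
  · intro y
    refine DirectSum.Decomposition.inductionOn (AssocGr.gr (FiltBl.IdealFiltration.adic J))
      (motive := fun y => ∃ x, AssocGr.map (AssocGr.IsFiltHom.adic hIJ) x = y) ?_ ?_ ?_ y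
    · exact ⟨0, map_zero _⟩
    · intro n m
      obtain ⟨b, hb'⟩ := AssocGr.inDeg_surjective (FiltBl.IdealFiltration.adic J) n m
      obtain ⟨a, haI, hab⟩ := ha n (b : B) b.2
      have ha'' : a ∈ (FiltBl.IdealFiltration.adic I).F n := haI
      refine ⟨(AssocGr.inDeg (FiltBl.IdealFiltration.adic I) n ⟨a, ha''⟩ :
        AssocGr.GrRing (FiltBl.IdealFiltration.adic I)), ?_⟩
      rw [AssocGr.map_inDeg, ← hb']
      congr 1
      rw [← sub_eq_zero, ← map_sub, AssocGr.inDeg_eq_zero_iff]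
      exact hab
    · rintro m m' ⟨x, hx⟩ ⟨x', hx'⟩
      exact ⟨x + x', by rw [map_add, hx, hx']⟩

section
variable (R S : Type u) [CommRing R] [CommRing S] [Algebra R S] [Algebra.FormallyEtale R S]
  (J : Ideal S) (I : Ideal R) (hI : ∀ a : R, a ∈ I ↔ algebraMap R S a ∈ J)
  (hJ : Function.Surjective (algebraMap R (S ⧸ J)))

include hI hJ in
theorem exists_sigma (n : ℕ) :
    ∃ σ : S →ₐ[R] R ⧸ I ^ (n + 1),
      ∀ s ∈ J, σ s ∈ I.map (Ideal.Quotient.mk (I ^ (n + 1))) := by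
  have hzero : ∀ a ∈ I ^ (n + 1), (Algebra.ofId R (S ⧸ J)) a = 0 := by
    intro a ha
    have haI : a ∈ I := Ideal.pow_le_self (Nat.succ_ne_zero n) ha
    show algebraMap R (S ⧸ J) a = 0
    rw [IsScalarTower.algebraMap_apply R S (S ⧸ J), Ideal.Quotient.algebraMap_eq,
      Ideal.Quotient.eq_zero_iff_mem]
    exact (hI a).mp haI
  let g : R ⧸ I ^ (n + 1) →ₐ[R] S ⧸ J :=
    Ideal.Quotient.liftₐ (I ^ (n + 1)) (Algebra.ofId R (S ⧸ J)) hzero
  have hgmk : ∀ r : R, g (Ideal.Quotient.mk _ r) = algebraMap R (S ⧸ J) r := fun r => rfl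
  have hg : Function.Surjective g := by
    intro c
    obtain ⟨r, hr⟩ := hJ c
    exact ⟨Ideal.Quotient.mk _ r, by rw [hgmk, hr]⟩
  have hK : RingHom.ker (g : R ⧸ I ^ (n + 1) →+* S ⧸ J) ≤
      I.map (Ideal.Quotient.mk (I ^ (n + 1))) := by
    intro b hb
    obtain ⟨r, rfl⟩ := Ideal.Quotient.mk_surjective b
    rw [RingHom.mem_ker] at hb
    have h1 : algebraMap R (S ⧸ J) r = 0 := hb
    rw [IsScalarTower.algebraMap_apply R S (S ⧸ J), Ideal.Quotient.algebraMap_eq,
      Ideal.Quotient.eq_zero_iff_mem] at h1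
    exact Ideal.mem_map_of_mem _ ((hI r).mpr h1)
  have hnil : IsNilpotent (RingHom.ker (g : R ⧸ I ^ (n + 1) →+* S ⧸ J)) := by
    refine ⟨n + 1, ?_⟩
    rw [Ideal.zero_eq_bot, eq_bot_iff]
    calc _ ≤ (I.map (Ideal.Quotient.mk (I ^ (n + 1)))) ^ (n + 1) :=
          Ideal.pow_right_mono hK (n + 1)
      _ = ⊥ := by rw [← Ideal.map_pow, Ideal.map_quotient_self]
  refine ⟨Algebra.FormallySmooth.liftOfSurjective (Ideal.Quotient.mkₐ R J) g hg hnil,
    fun s hs => hK ?_⟩
  rw [RingHom.mem_ker]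
  have h1 := Algebra.FormallySmooth.liftOfSurjective_apply (Ideal.Quotient.mkₐ R J) g hg hnil s
  show g (Algebra.FormallySmooth.liftOfSurjective (Ideal.Quotient.mkₐ R J) g hg hnil s) = 0
  rw [h1, Ideal.Quotient.mkₐ_eq_mk, Ideal.Quotient.eq_zero_iff_mem]
  exact hs

include hI hJ in
theorem step_b (n : ℕ) (a : R) (h : algebraMap R S a ∈ J ^ (n + 1)) : a ∈ I ^ (n + 1) := by
  obtain ⟨σ, hσ⟩ := exists_sigma R S J I hI hJ n
  have h1 : J ^ (n + 1) ≤ ((I.map (Ideal.Quotient.mk (I ^ (n + 1)))) ^ (n + 1)).comap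
      (σ : S →+* R ⧸ I ^ (n + 1)) := by
    calc J ^ (n + 1) ≤ ((I.map (Ideal.Quotient.mk (I ^ (n + 1)))).comap
          (σ : S →+* R ⧸ I ^ (n + 1))) ^ (n + 1) :=
          Ideal.pow_right_mono (fun s hs => hσ s hs) (n + 1)
      _ ≤ _ := Ideal.le_comap_pow _ _
  have h2 := h1 h
  rw [Ideal.mem_comap, ← Ideal.map_pow, Ideal.map_quotient_self, Ideal.mem_bot] at h2
  have h2' : σ (algebraMap R S a) = 0 := h2
  have h3 : σ (algebraMap R S a) = Ideal.Quotient.mk _ a := by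
    rw [AlgHom.commutes]
    rfl
  rw [h3, Ideal.Quotient.eq_zero_iff_mem] at h2'
  exact h2'

include hI hJ in
theorem step_a (n : ℕ) (y : S) (hy : y ∈ J ^ n) :
    ∃ a ∈ I ^ n, algebraMap R S a - y ∈ J ^ (n + 1) := by
  obtain ⟨σ, hσ⟩ := exists_sigma R S J I hI hJ n
  have h1 : J ^ n ≤ ((I.map (Ideal.Quotient.mk (I ^ (n + 1)))) ^ n).comap
      (σ : S →+* R ⧸ I ^ (n + 1)) := by
    calc J ^ n ≤ ((I.map (Ideal.Quotient.mk (I ^ (n + 1)))).comap
          (σ : S →+* R ⧸ I ^ (n + 1))) ^ n :=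
          Ideal.pow_right_mono (fun s hs => hσ s hs) n
      _ ≤ _ := Ideal.le_comap_pow _ _
  have h2 := h1 hy
  rw [Ideal.mem_comap, ← Ideal.map_pow] at h2
  obtain ⟨a, haI, haσ⟩ := (Ideal.mem_map_iff_of_surjective _ Ideal.Quotient.mk_surjective).mp h2
  have haσ' : Ideal.Quotient.mk (I ^ (n + 1)) a = σ y := haσ
  refine ⟨a, haI, ?_⟩
  have hImap : ∀ r ∈ I, algebraMap R S r ∈ J := fun r hr => (hI r).mp hr
  have hzero : ∀ r ∈ I ^ (n + 1), (Algebra.ofId R (S ⧸ J ^ (n + 1))) r = 0 := by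
    intro r hr
    show algebraMap R (S ⧸ J ^ (n + 1)) r = 0
    rw [IsScalarTower.algebraMap_apply R S (S ⧸ J ^ (n + 1)), Ideal.Quotient.algebraMap_eq,
      Ideal.Quotient.eq_zero_iff_mem]
    have h3 : algebraMap R S r ∈ (I ^ (n + 1)).map (algebraMap R S) := Ideal.mem_map_of_mem _ hr
    rw [Ideal.map_pow] at h3
    have h4 : I.map (algebraMap R S) ≤ J := by
      rw [Ideal.map_le_iff_le_comap]
      intro r hr
      exact hImap r hr
    exact Ideal.pow_right_mono h4 (n + 1) h3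
  let ρ : R ⧸ I ^ (n + 1) →ₐ[R] S ⧸ J ^ (n + 1) :=
    Ideal.Quotient.liftₐ (I ^ (n + 1)) (Algebra.ofId R (S ⧸ J ^ (n + 1))) hzero
  have hρmk : ∀ r : R, ρ (Ideal.Quotient.mk _ r) =
      Ideal.Quotient.mk (J ^ (n + 1)) (algebraMap R S r) := by
    intro r
    show algebraMap R (S ⧸ J ^ (n + 1)) r = _
    rw [IsScalarTower.algebraMap_apply R S (S ⧸ J ^ (n + 1)), Ideal.Quotient.algebraMap_eq]
  have hK' : IsNilpotent (J.map (Ideal.Quotient.mk (J ^ (n + 1)))) := by
    refine ⟨n + 1, ?_⟩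
    rw [Ideal.zero_eq_bot, ← Ideal.map_pow, Ideal.map_quotient_self]
  have heq : Ideal.Quotient.mkₐ R (J ^ (n + 1)) = ρ.comp σ := by
    apply Algebra.FormallyUnramified.ext _ hK'
    intro x
    rw [Ideal.Quotient.eq]
    obtain ⟨r, hr⟩ := hJ (Ideal.Quotient.mk J x)
    rw [IsScalarTower.algebraMap_apply R S (S ⧸ J), Ideal.Quotient.algebraMap_eq,
      Ideal.Quotient.eq] at hr
    have hjJ : x - algebraMap R S r ∈ J := by
      have h5 := J.neg_mem hr
      rwa [neg_sub] at h5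
    have e1 : (Ideal.Quotient.mkₐ R (J ^ (n + 1))) x -
        algebraMap R (S ⧸ J ^ (n + 1)) r ∈ J.map (Ideal.Quotient.mk (J ^ (n + 1))) := by
      rw [← AlgHom.commutes (Ideal.Quotient.mkₐ R (J ^ (n + 1))) r, ← map_sub,
        Ideal.Quotient.mkₐ_eq_mk]
      exact Ideal.mem_map_of_mem _ hjJ
    have e2 : (ρ.comp σ) x - algebraMap R (S ⧸ J ^ (n + 1)) r ∈
        J.map (Ideal.Quotient.mk (J ^ (n + 1))) := by
      rw [← AlgHom.commutes (ρ.comp σ) r, ← map_sub, AlgHom.comp_apply]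
      obtain ⟨a', ha'I, ha'σ⟩ := (Ideal.mem_map_iff_of_surjective _
        Ideal.Quotient.mk_surjective).mp (hσ _ hjJ)
      have ha'σ' : Ideal.Quotient.mk (I ^ (n + 1)) a' = σ (x - algebraMap R S r) := ha'σ
      rw [← ha'σ', hρmk]
      exact Ideal.mem_map_of_mem _ (hImap a' ha'I)
    have e3 := sub_mem e1 e2
    rwa [sub_sub_sub_cancel_right] at e3
  have h6 := AlgHom.congr_fun heq y
  rw [AlgHom.comp_apply, ← haσ', hρmk, Ideal.Quotient.mkₐ_eq_mk] at h6
  exact Ideal.Quotient.eq.mp h6.symm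

end


/-- Let R → S be formally étale and J an ideal of S such that the composite R → S → S/J is surjective;
let I ⊆ R be its kernel, the preimage of J in R. Then the homomorphism of associated graded rings ⊕ₙ
Iⁿ/Iⁿ⁺¹ → ⊕ₙ Jⁿ/Jⁿ⁺¹ induced by R → S (which carries I into J) is bijective. -/
theorem result (R : Type u) [CommRing R] (S : Type u)
    [CommRing S] [Algebra R S] [Algebra.FormallyEtale R S] (J : Ideal S)
    (hJ : Function.Surjective (algebraMap R (S ⧸ J))) :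
    Function.Bijective (AssocGr.map (AssocGr.IsFiltHom.adic
      (Ideal.map_comap_le : (J.comap (algebraMap R S)).map (algebraMap R S) ≤ J))) := by
  exact gr_bij (algebraMap R S) (J.comap (algebraMap R S)) J Ideal.map_comap_le
    (fun n y hy => step_a R S J (J.comap (algebraMap R S)) (fun a => Ideal.mem_comap) hJ n y hy)
    (fun n a _ h => step_b R S J (J.comap (algebraMap R S)) (fun a => Ideal.mem_comap) hJ n a h)

end Groth.Agent.S16452
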