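import Groth.Statements.S16453
import Mathlib

set_option autoImplicit false
universe u
open AdicGr

namespace Groth.Agent.S16453

/-- Let A be a commutative ring, I an ideal and Â the I-adic completion, filtered by the kernels Âₙ of
the projections Â → A/Iⁿ. Then the homomorphism of associated graded rings ⊕ₙ Iⁿ/Iⁿ⁺¹ → ⊕ₙ Âₙ/Âₙ₊₁
induced by the canonical map A → Â is bijective. No hypothesis on A or I is needed. (The published
statement is for an arbitrary filtered ring and also asserts the analogous isomorphism for a
compatibly filtered module; this row is the ring assertion for the filtration by the powers of one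
ideal.) -/
theorem result (A : Type u) [CommRing A] (I : Ideal A) :
    Function.Bijective (AssocGr.map (AssocGr.isFiltHom_kerFilt I)) := by
  classical
  have key1 : ∀ (n : ℕ) (a : A),
      algebraMap A (AdicCompletion I A) a ∈ (AssocGr.kerFilt I).F n ↔ a ∈ I ^ n := by
    intro n a
    rw [AssocGr.mem_kerFilt_iff_val, AdicCompletion.algebraMap_apply, Algebra.algebraMap_self,
      RingHom.id_apply, AdicCompletion.of_apply, Submodule.mkQ_apply, Submodule.Quotient.mk_eq_zero]
    change a ∈ (I ^ n • ⊤ : Ideal A) ↔ _
    rw [AssocGr.pow_smul_top]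
  have hdec : ∀ (x : AssocGr.GrRing (FiltBl.IdealFiltration.adic I)) (n : ℕ),
      ((DirectSum.decompose (AssocGr.gr (AssocGr.kerFilt I))
          (AssocGr.map (AssocGr.isFiltHom_kerFilt I) x)) n : AssocGr.GrRing (AssocGr.kerFilt I)) =
        AssocGr.map (AssocGr.isFiltHom_kerFilt I)
          ((DirectSum.decompose (AssocGr.gr (FiltBl.IdealFiltration.adic I)) x) n :
            AssocGr.GrRing (FiltBl.IdealFiltration.adic I)) := by
    intro x
    refine DirectSum.Decomposition.inductionOn (AssocGr.gr (FiltBl.IdealFiltration.adic I))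
      (motive := fun x => ∀ n : ℕ,
        ((DirectSum.decompose (AssocGr.gr (AssocGr.kerFilt I))
          (AssocGr.map (AssocGr.isFiltHom_kerFilt I) x)) n : AssocGr.GrRing (AssocGr.kerFilt I)) =
        AssocGr.map (AssocGr.isFiltHom_kerFilt I)
          ((DirectSum.decompose (AssocGr.gr (FiltBl.IdealFiltration.adic I)) x) n :
            AssocGr.GrRing (FiltBl.IdealFiltration.adic I))) ?_ ?_ ?_ x
    · intro n
      simp only [map_zero, DirectSum.decompose_zero, DirectSum.zero_apply, ZeroMemClass.coe_zero]
    · intro i m n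
      by_cases hin : i = n
      · subst hin
        rw [DirectSum.decompose_of_mem_same _ (AssocGr.map_mem_gr (AssocGr.isFiltHom_kerFilt I) m.2),
          DirectSum.decompose_of_mem_same _ m.2]
      · rw [DirectSum.decompose_of_mem_ne _ (AssocGr.map_mem_gr (AssocGr.isFiltHom_kerFilt I) m.2) hin,
          DirectSum.decompose_of_mem_ne _ m.2 hin, map_zero]
    · intro m m' hm hm' n
      rw [map_add, DirectSum.decompose_add, DirectSum.decompose_add, DirectSum.add_apply,
        DirectSum.add_apply, Submodule.coe_add, Submodule.coe_add, map_add, hm, hm']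
  constructor
  · rw [injective_iff_map_eq_zero]
    intro x hx
    have hcomp : ∀ n : ℕ, ((DirectSum.decompose (AssocGr.gr (FiltBl.IdealFiltration.adic I)) x) n :
        AssocGr.GrRing (FiltBl.IdealFiltration.adic I)) = 0 := by
      intro n
      obtain ⟨a, ha⟩ := AssocGr.inDeg_surjective (FiltBl.IdealFiltration.adic I) n
        ((DirectSum.decompose (AssocGr.gr (FiltBl.IdealFiltration.adic I)) x) n)
      have h1 := hdec x n
      rw [hx, DirectSum.decompose_zero, DirectSum.zero_apply, ZeroMemClass.coe_zero, ← ha,
        AssocGr.map_inDeg] at h1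
      have h2 := (Submodule.coe_eq_zero).mp h1.symm
      rw [AssocGr.inDeg_eq_zero_iff] at h2
      have h3 : (a : A) ∈ I ^ (n + 1) := (key1 (n + 1) a).mp h2
      have h4 : AssocGr.inDeg (FiltBl.IdealFiltration.adic I) n a = 0 :=
        (AssocGr.inDeg_eq_zero_iff (FiltBl.IdealFiltration.adic I) n a).mpr h3
      rw [← ha, h4]
      rfl
    rw [← DirectSum.sum_support_decompose (AssocGr.gr (FiltBl.IdealFiltration.adic I)) x]
    apply Finset.sum_eq_zero
    intro n _
    exact hcomp n
  · intro y
    refine DirectSum.Decomposition.inductionOn (AssocGr.gr (AssocGr.kerFilt I))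
      (motive := fun y => ∃ x, AssocGr.map (AssocGr.isFiltHom_kerFilt I) x = y) ?_ ?_ ?_ y
    · exact ⟨0, map_zero _⟩
    · intro n m
      obtain ⟨b, hb⟩ := AssocGr.inDeg_surjective (AssocGr.kerFilt I) n m
      obtain ⟨a, ha⟩ := Ideal.Quotient.mk_surjective ((b : AdicCompletion I A).val (n + 1))
      have hbn : (b : AdicCompletion I A).val n = 0 := (AssocGr.mem_kerFilt_iff_val I n _).mp b.2
      have ha' : a ∈ I ^ n := by
        have h1 := AdicCompletion.transitionMap_comp_eval_apply I A (Nat.le_succ n)
          (b : AdicCompletion I A)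
        rw [← ha, hbn] at h1
        change Ideal.Quotient.mk (I ^ n • ⊤ : Ideal A) a = 0 at h1
        rwa [Ideal.Quotient.eq_zero_iff_mem, AssocGr.pow_smul_top] at h1
      have ha'' : a ∈ (FiltBl.IdealFiltration.adic I).F n := ha'
      refine ⟨(AssocGr.inDeg (FiltBl.IdealFiltration.adic I) n ⟨a, ha''⟩ :
        AssocGr.GrRing (FiltBl.IdealFiltration.adic I)), ?_⟩
      rw [AssocGr.map_inDeg, ← hb]
      congr 1
      rw [← sub_eq_zero, ← map_sub, AssocGr.inDeg_eq_zero_iff, AssocGr.mem_kerFilt_iff_val]
      change (algebraMap A (AdicCompletion I A) a - (b : AdicCompletion I A)).val (n + 1) = 0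
      rw [AdicCompletion.val_sub_apply, ← ha, AdicCompletion.algebraMap_apply, Algebra.algebraMap_self,
        RingHom.id_apply, AdicCompletion.of_apply, Submodule.mkQ_apply]
      exact sub_self _
    · rintro m m' ⟨x, hx⟩ ⟨x', hx'⟩
      exact ⟨x + x', by rw [map_add, hx, hx']⟩

end Groth.Agent.S16453
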