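import Groth.Statements.S16455
import Mathlib

set_option autoImplicit false
universe u
open EGA4

namespace Groth.Agent.S16455

section
variable (A : Type u) [CommRing A] (I : Ideal A) (M : Type u) [AddCommGroup M] [Module A M]

abbrev Q (n : ℕ) : Type u :=
  ↥(I ^ n • (⊤ : Submodule A M)) ⧸ (I • (⊤ : Submodule A ↥(I ^ n • (⊤ : Submodule A M))))

theorem mem_iff (n : ℕ) (z : ↥(I ^ n • (⊤ : Submodule A M))) :
    z ∈ (I • (⊤ : Submodule A ↥(I ^ n • (⊤ : Submodule A M)))) ↔
      (z : M) ∈ I ^ (n + 1) • (⊤ : Submodule A M) := by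
  have h1 : (I • (⊤ : Submodule A ↥(I ^ n • (⊤ : Submodule A M)))).map
      (I ^ n • (⊤ : Submodule A M)).subtype = I ^ (n + 1) • (⊤ : Submodule A M) := by
    rw [Submodule.map_smul'', Submodule.map_subtype_top, ← Submodule.mul_smul, ← pow_succ']
  rw [← h1]
  constructor
  · intro hz
    exact Submodule.mem_map_of_mem hz
  · intro hz
    obtain ⟨y, hy, hyz⟩ := Submodule.mem_map.mp hz
    have h2 : y = z := Subtype.ext hyz
    rw [← h2]
    exact hy

noncomputable def inA (n : ℕ) :
    ↥(I ^ n • (⊤ : Submodule A M)) →ₗ[A] AssocGr.GrMod (Rees.powFilt I M) where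
  toFun z := (AssocGr.inDegM (Rees.powFilt I M) n z : AssocGr.GrMod (Rees.powFilt I M))
  map_add' x y := by
    have h := map_add (AssocGr.inDegM (Rees.powFilt I M) n)
      (x : ↥((Rees.powFilt I M).N n)) (y : ↥((Rees.powFilt I M).N n))
    exact congrArg Subtype.val h
  map_smul' a x := AssocGr.coe_inDegM_smul (Rees.powFilt I M) n a x

noncomputable def iA (n : ℕ) : Q A I M n →ₗ[A] AssocGr.GrMod (Rees.powFilt I M) :=
  Submodule.liftQ _ (inA A I M n) (by
    rw [Submodule.smul_le]
    intro a ha z _
    rw [LinearMap.mem_ker, map_smul]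
    exact AssocGr.isTorsionBySet_base (Rees.powFilt I M) (a := ⟨a, ha⟩))

theorem iA_mk (n : ℕ) (z : ↥(I ^ n • (⊤ : Submodule A M))) :
    iA A I M n (Submodule.Quotient.mk z) =
      AssocGr.mkGM (Rees.powFilt I M) (AssocGr.monomM (Rees.powFilt I M) n z) := rfl

noncomputable def cN (n : ℕ) :
    AssocGr.ReesM (Rees.powFilt I M) →ₗ[A] ↥(I ^ n • (⊤ : Submodule A M)) where
  toFun y := ⟨AssocGr.ReesM.coeff (Rees.powFilt I M) y n,
    AssocGr.ReesM.coeff_mem (Rees.powFilt I M) y n⟩
  map_add' y y' := Subtype.ext (AssocGr.ReesM.coeff_add (Rees.powFilt I M) y y' n)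
  map_smul' a y := Subtype.ext (AssocGr.ReesM.coeff_smul_base (Rees.powFilt I M) a y n)

noncomputable def rA (n : ℕ) : AssocGr.GrMod (Rees.powFilt I M) →ₗ[A] Q A I M n :=
  ((LinearMap.ker (AssocGr.mkGM (Rees.powFilt I M))).liftQ
    ((Submodule.mkQ _) ∘ₗ cN A I M n) (by
      intro y hy
      rw [LinearMap.mem_ker] at hy ⊢
      rw [AssocGr.mkGM_eq_zero_iff, AssocGr.mem_succMod_iff] at hy
      rw [LinearMap.comp_apply, Submodule.mkQ_apply, Submodule.Quotient.mk_eq_zero, mem_iff]
      exact hy n)) ∘ₗ
    ((AssocGr.mkGM (Rees.powFilt I M)).quotKerEquivOfSurjective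
      (AssocGr.mkGM_surjective (Rees.powFilt I M))).symm.toLinearMap

theorem rA_mkGM (n : ℕ) (y : AssocGr.ReesM (Rees.powFilt I M)) :
    rA A I M n (AssocGr.mkGM (Rees.powFilt I M) y) = Submodule.Quotient.mk (cN A I M n y) := by
  have h1 : ((AssocGr.mkGM (Rees.powFilt I M)).quotKerEquivOfSurjective
      (AssocGr.mkGM_surjective (Rees.powFilt I M))).symm (AssocGr.mkGM (Rees.powFilt I M) y) =
      Submodule.Quotient.mk y := by
    rw [LinearEquiv.symm_apply_eq]
    rfl
  unfold rA
  rw [LinearMap.comp_apply, LinearEquiv.coe_coe, h1]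
  rfl

noncomputable def kA : (DirectSum ℕ fun n => Q A I M n) →ₗ[A] AssocGr.GrMod (Rees.powFilt I M) :=
  DirectSum.toModule A ℕ _ (fun n => iA A I M n)

theorem rA_kA (q : DirectSum ℕ fun n => Q A I M n) (m : ℕ) :
    rA A I M m (kA A I M q) = q m := by
  classical
  induction q using DirectSum.induction_on with
  | zero => simp only [map_zero, DirectSum.zero_apply]
  | of n v =>
    obtain ⟨z, rfl⟩ := Submodule.Quotient.mk_surjective _ v
    have h1 : kA A I M (DirectSum.of (fun n => Q A I M n) n (Submodule.Quotient.mk z)) =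
        iA A I M n (Submodule.Quotient.mk z) := by
      unfold kA
      rw [← DirectSum.lof_eq_of A, DirectSum.toModule_lof]
    rw [h1, iA_mk, rA_mkGM]
    by_cases hnm : n = m
    · subst hnm
      rw [DirectSum.of_eq_same]
      congr 1
      apply Subtype.ext
      show AssocGr.ReesM.coeff (Rees.powFilt I M) (AssocGr.monomM (Rees.powFilt I M) n z) n = _
      rw [AssocGr.ReesM.coeff_monomM, if_pos rfl]
    · rw [DirectSum.of_eq_of_ne _ _ _ (Ne.symm hnm)]
      rw [Submodule.Quotient.mk_eq_zero]
      have h2 : cN A I M m (AssocGr.monomM (Rees.powFilt I M) n z) = 0 := by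
        apply Subtype.ext
        show AssocGr.ReesM.coeff (Rees.powFilt I M) (AssocGr.monomM (Rees.powFilt I M) n z) m = _
        rw [AssocGr.ReesM.coeff_monomM, if_neg hnm]
        rfl
      rw [h2]
      exact Submodule.zero_mem _
  | add x y hx hy => rw [map_add, map_add, hx, hy, DirectSum.add_apply]

theorem kA_injective : Function.Injective (kA A I M) := by
  rw [injective_iff_map_eq_zero]
  intro q hq
  apply DFinsupp.ext
  intro m
  have h1 := rA_kA A I M q m
  rw [hq, map_zero] at h1
  exact h1.symm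

theorem kA_surjective : Function.Surjective (kA A I M) := by
  classical
  intro g
  refine DirectSum.Decomposition.inductionOn (AssocGr.grM (Rees.powFilt I M))
    (motive := fun g => ∃ q, kA A I M q = g) ?_ ?_ ?_ g
  · exact ⟨0, map_zero _⟩
  · intro n w
    obtain ⟨z, hz⟩ := AssocGr.inDegM_surjective (Rees.powFilt I M) n w
    refine ⟨DirectSum.of (fun n => Q A I M n) n (Submodule.Quotient.mk z), ?_⟩
    unfold kA
    rw [← DirectSum.lof_eq_of A, DirectSum.toModule_lof, iA_mk, ← hz]
    rfl
  · rintro x y ⟨qx, hx⟩ ⟨qy, hy⟩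
    exact ⟨qx + qy, by rw [map_add, hx, hy]⟩

end


/-- For a commutative ring A, an ideal I of A and an A-module M, the following are equivalent: every
quotient IⁿM/Iⁿ⁺¹M (n ≥ 0) is a flat A/I-module; the associated graded module gr_I(M) = ⊕ₙ
IⁿM/Iⁿ⁺¹M, as one module over A/I, is flat. Either condition says that M is normally flat along I.
(The source defines normal flatness for a coherent module on a locally Noetherian scheme through the
second condition and notes it amounts to the first; the equivalence holds for every ring and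
module.) -/
theorem result (A : Type u) [CommRing A] (I : Ideal A) (M : Type u)
    [AddCommGroup M] [Module A M] :
    EGA4.IsNormallyFlat I M ↔ Module.Flat (A ⧸ I) (AssocGr.GrMod (Rees.powFilt I M)) := by
  classical
  have hsurj : Function.Surjective (algebraMap A (A ⧸ I)) := Ideal.Quotient.mk_surjective
  let e : (DirectSum ℕ fun n => Q A I M n) ≃ₗ[A ⧸ I] AssocGr.GrMod (Rees.powFilt I M) :=
    (LinearEquiv.ofBijective (kA A I M) ⟨kA_injective A I M, kA_surjective A I M⟩).extendScalarsOfSurjective hsurj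
  rw [← Module.Flat.equiv_iff e, Module.Flat.directSum_iff]
  rfl

end Groth.Agent.S16455
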