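import Groth.Statements.S16456
import Mathlib

set_option autoImplicit false
universe u
open AdicGr

namespace Groth.Agent.S16456

noncomputable def seq {A B : Type*} [CommRing A] [CommRing B] (φ : A →+* B) (c : ℕ → B → A)
    (n0 : ℕ) (b : B) : ℕ → A
  | 0 => 0
  | (n + 1) => seq φ c n0 b n + c (n0 + n) (b - φ (seq φ c n0 b n))

theorem seq_zero {A B : Type*} [CommRing A] [CommRing B] (φ : A →+* B) (c : ℕ → B → A)
    (n0 : ℕ) (b : B) : seq φ c n0 b 0 = 0 := by
  rw [seq]

theorem seq_succ {A B : Type*} [CommRing A] [CommRing B] (φ : A →+* B) (c : ℕ → B → A)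
    (n0 : ℕ) (b : B) (n : ℕ) :
    seq φ c n0 b (n + 1) = seq φ c n0 b n + c (n0 + n) (b - φ (seq φ c n0 b n)) := by
  rw [seq]

theorem hdec {A B : Type u} [CommRing A] [CommRing B] {φ : A →+* B}
    {𝓕 : FiltBl.IdealFiltration A} {𝓖 : FiltBl.IdealFiltration B}
    (h : AssocGr.IsFiltHom φ 𝓕 𝓖) (x : AssocGr.GrRing 𝓕) :
    ∀ n : ℕ, ((DirectSum.decompose (AssocGr.gr 𝓖) (AssocGr.map h x)) n : AssocGr.GrRing 𝓖) =
      AssocGr.map h ((DirectSum.decompose (AssocGr.gr 𝓕) x) n : AssocGr.GrRing 𝓕) := by
  classical
  refine DirectSum.Decomposition.inductionOn (AssocGr.gr 𝓕)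
    (motive := fun x => ∀ n : ℕ,
      ((DirectSum.decompose (AssocGr.gr 𝓖) (AssocGr.map h x)) n : AssocGr.GrRing 𝓖) =
        AssocGr.map h ((DirectSum.decompose (AssocGr.gr 𝓕) x) n : AssocGr.GrRing 𝓕)) ?_ ?_ ?_ x
  · intro n
    simp only [map_zero, DirectSum.decompose_zero, DirectSum.zero_apply, ZeroMemClass.coe_zero]
  · intro i m n
    by_cases hin : i = n
    · subst hin
      rw [DirectSum.decompose_of_mem_same _ (AssocGr.map_mem_gr h m.2),
        DirectSum.decompose_of_mem_same _ m.2]
    · rw [DirectSum.decompose_of_mem_ne _ (AssocGr.map_mem_gr h m.2) hin,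
        DirectSum.decompose_of_mem_ne _ m.2 hin, map_zero]
  · intro m m' hm hm' n
    rw [map_add, DirectSum.decompose_add, DirectSum.decompose_add, DirectSum.add_apply,
      DirectSum.add_apply, Submodule.coe_add, Submodule.coe_add, map_add, hm, hm']

theorem step1 {A B : Type u} [CommRing A] [CommRing B] (φ : A →+* B) (I : Ideal A) (J : Ideal B)
    (hIJ : I.map φ ≤ J)
    (h : Function.Surjective (AssocGr.map (AssocGr.IsFiltHom.adic hIJ))) (n : ℕ) (y : B)
    (hy : y ∈ J ^ n) : ∃ a ∈ I ^ n, y - φ a ∈ J ^ (n + 1) := by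
  classical
  have hy' : y ∈ (FiltBl.IdealFiltration.adic J).F n := hy
  obtain ⟨g, hg⟩ := h (AssocGr.inDeg (FiltBl.IdealFiltration.adic J) n ⟨y, hy'⟩ :
    AssocGr.GrRing (FiltBl.IdealFiltration.adic J))
  obtain ⟨a, ha⟩ := AssocGr.inDeg_surjective (FiltBl.IdealFiltration.adic I) n
    (DirectSum.decompose (AssocGr.gr (FiltBl.IdealFiltration.adic I)) g n)
  have h1 := hdec (AssocGr.IsFiltHom.adic hIJ) g n
  rw [hg, DirectSum.decompose_of_mem_same (AssocGr.gr (FiltBl.IdealFiltration.adic J))
    (AssocGr.inDeg (FiltBl.IdealFiltration.adic J) n ⟨y, hy'⟩).2, ← ha, AssocGr.map_inDeg] at h1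
  have h2 := Subtype.ext h1
  rw [← sub_eq_zero, ← map_sub, AssocGr.inDeg_eq_zero_iff] at h2
  exact ⟨(a : A), a.2, h2⟩


/-- Let φ : A → B be a ring homomorphism, I ⊆ A and J ⊆ B ideals with φ(I)B ⊆ J, so that φ is a
homomorphism of filtered rings for the I-adic and J-adic filtrations. Assume that A is I-adically
complete in the sense that every I-adically Cauchy sequence has a limit, that B is J-adically
separated, and that the induced homomorphism of associated graded rings ⊕ₙ Iⁿ/Iⁿ⁺¹ → ⊕ₙ Jⁿ/Jⁿ⁺¹ is
surjective. Then φ is surjective, φ is strict (Jⁿ = φ(Iⁿ)B for all n, that is J = φ(I)B), and B is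
J-adically separated and complete. (The published statement is for a homomorphism of filtered
modules over a filtered ring, with arbitrary compatible filtrations; this row is its case of a ring
homomorphism with adic filtrations.) -/
theorem result (A : Type u) [CommRing A] (B : Type u)
    [CommRing B] (φ : A →+* B) (I : Ideal A) (J : Ideal B) (hIJ : I.map φ ≤ J)
    [IsPrecomplete I A] [IsHausdorff J B]
    (h : Function.Surjective (AssocGr.map (AssocGr.IsFiltHom.adic hIJ))) :
    Function.Surjective φ ∧ I.map φ = J ∧ IsAdicComplete J B := by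
  classical
  have hφI : ∀ (n : ℕ) (a : A), a ∈ I ^ n → φ a ∈ J ^ n := by
    intro n a ha
    have h1 : φ a ∈ (I ^ n).map φ := Ideal.mem_map_of_mem φ ha
    rw [Ideal.map_pow] at h1
    exact Ideal.pow_right_mono hIJ n h1
  have key : ∀ (n : ℕ) (y : B), ∃ a : A, y ∈ J ^ n → (a ∈ I ^ n ∧ y - φ a ∈ J ^ (n + 1)) := by
    intro n y
    by_cases hy : y ∈ J ^ n
    · obtain ⟨a, ha, hya⟩ := step1 φ I J hIJ h n y hy
      exact ⟨a, fun _ => ⟨ha, hya⟩⟩
    · exact ⟨0, fun h' => absurd h' hy⟩
  choose c hc using key
  have hlift : ∀ (n0 : ℕ) (b : B), b ∈ J ^ n0 → ∃ a ∈ I ^ n0, φ a = b := by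
    intro n0 b hb
    set s := seq φ c n0 b with hs
    have hsS : ∀ n, s (n + 1) = s n + c (n0 + n) (b - φ (s n)) := fun n => seq_succ φ c n0 b n
    have hs0 : s 0 = 0 := seq_zero φ c n0 b
    have hP : ∀ n, b - φ (s n) ∈ J ^ (n0 + n) := by
      intro n
      induction n with
      | zero =>
        rw [hs0, map_zero, sub_zero]
        exact hb
      | succ n ih =>
        have h1 := (hc (n0 + n) _ ih).2
        rw [hsS, map_add, show n0 + (n + 1) = n0 + n + 1 by omega]
        have e : b - (φ (s n) + φ (c (n0 + n) (b - φ (s n)))) =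
            (b - φ (s n)) - φ (c (n0 + n) (b - φ (s n))) := by ring
        rw [e]
        exact h1
    have hinc : ∀ n, s (n + 1) - s n ∈ I ^ (n0 + n) := by
      intro n
      rw [hsS, add_sub_cancel_left]
      exact (hc (n0 + n) _ (hP n)).1
    have hsmem : ∀ n, s n ∈ I ^ n0 := by
      intro n
      induction n with
      | zero =>
        rw [hs0]
        exact Ideal.zero_mem _
      | succ n ih =>
        have h1 := hinc n
        have e : s (n + 1) = s n + (s (n + 1) - s n) := by ring
        rw [e]
        exact Ideal.add_mem _ ih (Ideal.pow_le_pow_right (Nat.le_add_right n0 n) h1)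
    have hcauchy : ∀ m' n', m' ≤ n' → s m' - s n' ∈ I ^ m' := by
      intro m' n' hmn
      induction n', hmn using Nat.le_induction with
      | base =>
        rw [sub_self]
        exact Ideal.zero_mem _
      | succ n' hmn ih =>
        have e : s m' - s (n' + 1) = (s m' - s n') - (s (n' + 1) - s n') := by ring
        rw [e]
        exact sub_mem ih (Ideal.pow_le_pow_right (by omega : m' ≤ n0 + n') (hinc n'))
    obtain ⟨L, hL⟩ := IsPrecomplete.prec (inferInstance : IsPrecomplete I A) (f := s) (by
      intro m' n' hmn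
      rw [SModEq.sub_mem, smul_eq_mul, Ideal.mul_top]
      exact hcauchy m' n' hmn)
    have hL' : ∀ n, s n - L ∈ I ^ n := by
      intro n
      have h1 := hL n
      rw [SModEq.sub_mem, smul_eq_mul, Ideal.mul_top] at h1
      exact h1
    refine ⟨L, ?_, ?_⟩
    · have h1 := hL' n0
      have e : L = s n0 - (s n0 - L) := by ring
      rw [e]
      exact sub_mem (hsmem n0) h1
    · have hz : b - φ L = 0 := by
        apply IsHausdorff.haus (inferInstance : IsHausdorff J B)
        intro n
        rw [SModEq.sub_mem, sub_zero, smul_eq_mul, Ideal.mul_top]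
        have e : b - φ L = (b - φ (s n)) + φ (s n - L) := by
          rw [map_sub]
          ring
        rw [e]
        exact Ideal.add_mem _ (Ideal.pow_le_pow_right (Nat.le_add_left n n0) (hP n))
          (hφI n _ (hL' n))
      rw [sub_eq_zero] at hz
      exact hz.symm
  refine ⟨?_, ?_, ?_⟩
  · intro b
    obtain ⟨a, _, ha⟩ := hlift 0 b (by rw [pow_zero, Ideal.one_eq_top]; trivial)
    exact ⟨a, ha⟩
  · apply le_antisymm hIJ
    intro y hy
    obtain ⟨a, ha, hya⟩ := hlift 1 y (by rw [pow_one]; exact hy)
    rw [pow_one] at ha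
    rw [← hya]
    exact Ideal.mem_map_of_mem φ ha
  · have hPc : IsPrecomplete J B := by
      refine ⟨fun f hf => ?_⟩
      have hdiff : ∀ n, f (n + 1) - f n ∈ J ^ n := by
        intro n
        have h1 := (hf (Nat.le_succ n)).symm
        rw [SModEq.sub_mem, smul_eq_mul, Ideal.mul_top] at h1
        exact h1
      have hc' : ∀ n, ∃ a ∈ I ^ n, φ a = f (n + 1) - f n := fun n => hlift n _ (hdiff n)
      choose cc hcc1 hcc2 using hc'
      obtain ⟨a0, _, ha0⟩ := hlift 0 (f 0) (by rw [pow_zero, Ideal.one_eq_top]; trivial)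
      set t : ℕ → A := fun n => a0 + ∑ j ∈ Finset.range n, cc j with ht
      have htS : ∀ n, t (n + 1) - t n = cc n := by
        intro n
        simp only [ht, Finset.sum_range_succ]
        ring
      have hφt : ∀ n, φ (t n) = f n := by
        intro n
        induction n with
        | zero =>
          simp only [ht, Finset.range_zero, Finset.sum_empty, add_zero]
          exact ha0
        | succ n ih =>
          have e : t (n + 1) = t n + cc n := by
            rw [← htS n]
            ring
          rw [e, map_add, ih, hcc2]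
          ring
      have hcauchy : ∀ m' n', m' ≤ n' → t m' - t n' ∈ I ^ m' := by
        intro m' n' hmn
        induction n', hmn using Nat.le_induction with
        | base =>
          rw [sub_self]
          exact Ideal.zero_mem _
        | succ n' hmn ih =>
          have e : t m' - t (n' + 1) = (t m' - t n') - (t (n' + 1) - t n') := by ring
          rw [e, htS]
          exact sub_mem ih (Ideal.pow_le_pow_right hmn (hcc1 n'))
      obtain ⟨L, hL⟩ := IsPrecomplete.prec (inferInstance : IsPrecomplete I A) (f := t) (by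
        intro m' n' hmn
        rw [SModEq.sub_mem, smul_eq_mul, Ideal.mul_top]
        exact hcauchy m' n' hmn)
      refine ⟨φ L, fun n => ?_⟩
      have h1 := hL n
      rw [SModEq.sub_mem, smul_eq_mul, Ideal.mul_top] at h1 ⊢
      rw [← hφt n, ← map_sub]
      exact hφI n _ h1
    exact { toIsHausdorff := inferInstance, toIsPrecomplete := hPc }

end Groth.Agent.S16456
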