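import Groth.Statements.S16457
import Mathlib

set_option autoImplicit false
universe u
open AdicGr

namespace Groth.Agent.S16457

noncomputable def seq {A M : Type*} [CommRing A] [AddCommGroup M] [Module A M] {k : ℕ}
    (xs : Fin k → M) (bfun : ℕ → M → Fin k → A) (m : M) : ℕ → Fin k → A
  | 0 => fun _ => 0
  | (n + 1) => fun i => seq xs bfun m n i + bfun n (m - ∑ j, seq xs bfun m n j • xs j) i

theorem seq_succ {A M : Type*} [CommRing A] [AddCommGroup M] [Module A M] {k : ℕ}
    (xs : Fin k → M) (bfun : ℕ → M → Fin k → A) (m : M) (n : ℕ) (i : Fin k) :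
    seq xs bfun m (n + 1) i = seq xs bfun m n i + bfun n (m - ∑ j, seq xs bfun m n j • xs j) i := by
  rw [seq]

theorem step1 (A : Type u) [CommRing A] (I : Ideal A) (M : Type u) [AddCommGroup M] [Module A M]
    (F : I.Filtration M) {k : ℕ} (d : Fin k → ℕ) (x : (i : Fin k) → ↥(F.N (d i)))
    (hgen : Submodule.span (AssocGr.GrRing (FiltBl.IdealFiltration.adic I))
      (Set.range fun i => (AssocGr.inDegM F (d i) (x i) : AssocGr.GrMod F)) = ⊤)
    (n : ℕ) (y : M) (hy : y ∈ F.N n) :
    ∃ b : Fin k → A, (∀ i, (d i ≤ n → b i ∈ I ^ (n - d i)) ∧ (n < d i → b i = 0)) ∧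
      y - ∑ i, b i • ((x i : ↥(F.N (d i))) : M) ∈ F.N (n + 1) := by
  classical
  have hmem : AssocGr.mkGM F (AssocGr.monomM F n ⟨y, hy⟩) ∈
      Submodule.span (AssocGr.GrRing (FiltBl.IdealFiltration.adic I))
        (Set.range fun i => (AssocGr.inDegM F (d i) (x i) : AssocGr.GrMod F)) := by
    rw [hgen]
    trivial
  rw [Submodule.mem_span_range_iff_exists_fun] at hmem
  obtain ⟨g, hg⟩ := hmem
  beta_reduce at hg
  choose f hf using fun i => AssocGr.mkG_surjective (FiltBl.IdealFiltration.adic I) (g i)
  have h1 : AssocGr.mkGM F (AssocGr.monomM F n ⟨y, hy⟩ -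
      ∑ i, f i • AssocGr.monomM F (d i) (x i)) = 0 := by
    rw [map_sub, map_sum, ← hg, sub_eq_zero]
    apply Finset.sum_congr rfl
    intro i _
    rw [← hf i, AssocGr.coe_inDegM, AssocGr.mkG_smul_mkGM]
  rw [AssocGr.mkGM_eq_zero_iff, AssocGr.mem_succMod_iff] at h1
  have h2 := h1 n
  have h3 : AssocGr.ReesM.coeff F (AssocGr.monomM F n ⟨y, hy⟩ -
      ∑ i, f i • AssocGr.monomM F (d i) (x i)) n =
      y - ∑ i, (if d i ≤ n then ((f i : Polynomial A)).coeff (n - d i) else 0) •
        ((x i : ↥(F.N (d i))) : M) := by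
    rw [← AssocGr.ReesM.coeffHom_apply, map_sub, map_sum, AssocGr.ReesM.coeffHom_apply,
      AssocGr.ReesM.coeff_monomM, if_pos rfl]
    congr 1
    apply Finset.sum_congr rfl
    intro i _
    rw [AssocGr.ReesM.coeffHom_apply, AssocGr.ReesM.coeff_smul]
    simp only [AssocGr.ReesM.coeff_monomM]
    split_ifs with hdn
    · rw [Finset.sum_eq_single (n - d i, d i)]
      · rw [if_pos rfl]
      · intro p hp hne
        replace hp : p.1 + p.2 = n := Finset.HasAntidiagonal.mem_antidiagonal.mp hp
        rw [if_neg, smul_zero]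
        intro hd
        apply hne
        exact Prod.ext (by show p.1 = n - d i; omega) (by show p.2 = d i; omega)
      · intro hnot
        exfalso
        apply hnot
        exact Finset.HasAntidiagonal.mem_antidiagonal.mpr (by show n - d i + d i = n; omega)
    · rw [zero_smul]
      apply Finset.sum_eq_zero
      intro p hp
      replace hp : p.1 + p.2 = n := Finset.HasAntidiagonal.mem_antidiagonal.mp hp
      rw [if_neg (by omega), smul_zero]
  rw [h3] at h2
  refine ⟨fun i => if d i ≤ n then ((f i : Polynomial A)).coeff (n - d i) else 0, ?_, h2⟩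
  intro i
  constructor
  · intro h
    simp only [if_pos h]
    exact (AssocGr.mem_rees_iff _ _).mp (f i).2 (n - d i)
  · intro h
    simp only [if_neg (by omega : ¬ d i ≤ n)]


/-- Let A be a commutative ring and I an ideal such that every I-adically Cauchy sequence in A has a
limit; let M be an A-module with an I-filtration M = N₀ ⊇ N₁ ⊇ N₂ ⊇ … (I·Nₙ ⊆ Nₙ₊₁) which is
separated, ⋂ₙ Nₙ = 0; and let x₁, …, x_k be finitely many elements of M with x_i ∈ N_{d_i}. If the
classes of the x_i in degrees d_i generate the associated graded module gr(M) = ⊕ₙ Nₙ/Nₙ₊₁ as a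
module over the associated graded ring ⊕ₙ Iⁿ/Iⁿ⁺¹, then the x_i generate M. (The published statement
allows any complete filtered ring and also concludes that M is complete; this row takes the I-adic
filtration on A and states the generation.) -/
theorem result (A : Type u) [CommRing A] (I : Ideal A)
    [IsPrecomplete I A] (M : Type u) [AddCommGroup M] [Module A M] (F : I.Filtration M)
    (h0 : F.N 0 = ⊤) (hsep : ⨅ n, F.N n = ⊥) {k : ℕ} (d : Fin k → ℕ) (x : (i : Fin k) → ↥(F.N (d i)))
    (hgen : Submodule.span (AssocGr.GrRing (FiltBl.IdealFiltration.adic I))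
      (Set.range fun i => (AssocGr.inDegM F (d i) (x i) : AssocGr.GrMod F)) = ⊤) :
    Submodule.span A (Set.range fun i => ((x i : ↥(F.N (d i))) : M)) = ⊤ := by
  classical
  have key : ∀ (n : ℕ) (y : M), ∃ b : Fin k → A, y ∈ F.N n →
      ((∀ i, (d i ≤ n → b i ∈ I ^ (n - d i)) ∧ (n < d i → b i = 0)) ∧
        y - ∑ i, b i • ((x i : ↥(F.N (d i))) : M) ∈ F.N (n + 1)) := by
    intro n y
    by_cases hy : y ∈ F.N n
    · obtain ⟨b, hb⟩ := step1 A I M F d x hgen n y hy
      exact ⟨b, fun _ => hb⟩
    · exact ⟨fun _ => 0, fun h => absurd h hy⟩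
  choose bfun hb using key
  rw [eq_top_iff]
  intro m _
  set xs : Fin k → M := fun i => ((x i : ↥(F.N (d i))) : M) with hxs
  set s := seq xs bfun m with hs
  have hsS : ∀ n i, s (n + 1) i = s n i + bfun n (m - ∑ j, s n j • xs j) i :=
    fun n i => seq_succ xs bfun m n i
  have hP : ∀ n, m - ∑ j, s n j • xs j ∈ F.N n := by
    intro n
    induction n with
    | zero => rw [h0]; trivial
    | succ n ih =>
      have h1 := (hb n _ ih).2
      have h2 : m - ∑ j, s (n + 1) j • xs j =
          (m - ∑ j, s n j • xs j) - ∑ j, bfun n (m - ∑ j, s n j • xs j) j • xs j := by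
        simp only [hsS, add_smul, Finset.sum_add_distrib]
        abel
      rw [h2]
      exact h1
  have hB : ∀ n i, (d i ≤ n → s (n + 1) i - s n i ∈ I ^ (n - d i)) ∧
      (n < d i → s (n + 1) i - s n i = 0) := by
    intro n i
    have h1 := (hb n _ (hP n)).1 i
    rw [hsS, add_sub_cancel_left]
    exact h1
  have hstep : ∀ i n, s (n + 1 + d i) i - s (n + d i) i ∈ I ^ n := by
    intro i n
    have h1 := (hB (n + d i) i).1 (by omega)
    rw [Nat.add_sub_cancel] at h1
    have e : n + 1 + d i = n + d i + 1 := by omega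
    rw [e]
    exact h1
  have hcauchy : ∀ i (m' n' : ℕ), m' ≤ n' → s (m' + d i) i - s (n' + d i) i ∈ I ^ m' := by
    intro i m' n' h
    induction n', h using Nat.le_induction with
    | base => rw [sub_self]; exact Ideal.zero_mem _
    | succ n' hmn ih =>
      have e : s (m' + d i) i - s (n' + 1 + d i) i =
          (s (m' + d i) i - s (n' + d i) i) - (s (n' + 1 + d i) i - s (n' + d i) i) := by ring
      rw [e]
      exact sub_mem ih (Ideal.pow_le_pow_right hmn (hstep i n'))
  have hlim : ∀ i, ∃ L : A, ∀ n, s (n + d i) i - L ∈ I ^ n := by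
    intro i
    obtain ⟨L, hL⟩ := IsPrecomplete.prec (inferInstance : IsPrecomplete I A)
      (f := fun n => s (n + d i) i) (by
        intro m' n' h
        rw [SModEq.sub_mem]
        show _ ∈ (I ^ m' • ⊤ : Ideal A)
        rw [smul_eq_mul, Ideal.mul_top]
        exact hcauchy i m' n' h)
    refine ⟨L, fun n => ?_⟩
    have h1 := hL n
    rw [SModEq.sub_mem] at h1
    have h2 : s (n + d i) i - L ∈ (I ^ n • ⊤ : Ideal A) := h1
    rw [smul_eq_mul, Ideal.mul_top] at h2
    exact h2
  choose L hL using hlim
  have hmem : ∀ n, m - ∑ j, L j • xs j ∈ F.N n := by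
    intro n
    set N' := n + ∑ j, d j with hN'
    have hdN : ∀ j, d j ≤ N' := by
      intro j
      have : d j ≤ ∑ j, d j :=
        Finset.single_le_sum (f := d) (fun _ _ => Nat.zero_le _) (Finset.mem_univ j)
      omega
    have e : m - ∑ j, L j • xs j =
        (m - ∑ j, s N' j • xs j) + ∑ j, (s N' j - L j) • xs j := by
      simp only [sub_smul, Finset.sum_sub_distrib]
      abel
    rw [e]
    apply Submodule.add_mem
    · exact F.antitone (by omega : n ≤ N') (hP N')
    · apply Submodule.sum_mem
      intro j _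
      have h1 := hL j (N' - d j)
      rw [Nat.sub_add_cancel (hdN j)] at h1
      have h2 : (s N' j - L j) • xs j ∈ I ^ (N' - d j) • F.N (d j) :=
        Submodule.smul_mem_smul h1 (x j).2
      have h3 := F.pow_smul_le (N' - d j) (d j) h2
      rw [Nat.sub_add_cancel (hdN j)] at h3
      exact F.antitone (by omega : n ≤ N') h3
  have hzero : m - ∑ j, L j • xs j = 0 := by
    have h1 : m - ∑ j, L j • xs j ∈ (⨅ n, F.N n) := by
      rw [Submodule.mem_iInf]
      exact hmem
    rw [hsep] at h1
    exact (Submodule.mem_bot A).mp h1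
  rw [sub_eq_zero] at hzero
  have hfin : ∑ j, L j • xs j ∈ Submodule.span A (Set.range xs) := by
    apply Submodule.sum_mem
    intro j _
    exact Submodule.smul_mem _ _ (Submodule.subset_span ⟨j, rfl⟩)
  rw [← hzero] at hfin
  exact hfin

end Groth.Agent.S16457
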