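import Groth.Statements.S16458
import Mathlib
import Groth.Agent.S16457

set_option autoImplicit false
universe u
open AdicGr

namespace Groth.Agent.S16458

/-- Let A be a commutative ring and I an ideal such that every I-adically Cauchy sequence in A has a
limit, and let M be an A-module with an I-filtration M = N₀ ⊇ N₁ ⊇ … (I·Nₙ ⊆ Nₙ₊₁) which is
separated, ⋂ₙ Nₙ = 0. If the associated graded module gr(M) = ⊕ₙ Nₙ/Nₙ₊₁ is finitely generated as a
module over the associated graded ring ⊕ₙ Iⁿ/Iⁿ⁺¹, then M is a finitely generated A-module. (The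
published statement allows any complete filtered ring and also concludes that M is complete for its
filtration; this row takes the I-adic filtration on A and states the finiteness.) -/
theorem result (A : Type u) [CommRing A] (I : Ideal A)
    [IsPrecomplete I A] (M : Type u) [AddCommGroup M] [Module A M] (F : I.Filtration M)
    (h0 : F.N 0 = ⊤) (hsep : ⨅ n, F.N n = ⊥)
    [Module.Finite (AssocGr.GrRing (FiltBl.IdealFiltration.adic I)) (AssocGr.GrMod F)] :
    Module.Finite A M := by
  classical
  obtain ⟨S, hS⟩ := (Module.Finite.fg_top :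
    (⊤ : Submodule (AssocGr.GrRing (FiltBl.IdealFiltration.adic I)) (AssocGr.GrMod F)).FG)
  have hx : ∀ (g : AssocGr.GrMod F) (n : ℕ), ∃ y : F.N n,
      AssocGr.inDegM F n y = DirectSum.decompose (AssocGr.grM F) g n :=
    fun g n => AssocGr.inDegM_surjective F n _
  choose xg hxg using hx
  set D := S.sup (fun g => (DirectSum.decompose (AssocGr.grM F) g).support.sup id) with hD
  let e := Fintype.equivFin (↥S × Fin (D + 1))
  have key := Groth.Agent.S16457.result A I M F h0 hsep (k := Fintype.card (↥S × Fin (D + 1)))
    (fun j => ((e.symm j).2 : ℕ)) (fun j => xg (e.symm j).1 (e.symm j).2) ?_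
  · exact ⟨by rw [← key]; exact Submodule.fg_span (Set.finite_range _)⟩
  · rw [eq_top_iff, ← hS, Submodule.span_le]
    intro g hg
    have hg' : g ∈ S := Finset.mem_coe.mp hg
    have h1 : ∑ n : Fin (D + 1), (AssocGr.inDegM F n (xg g n) : AssocGr.GrMod F) = g := by
      have h2 : ∀ n : Fin (D + 1), (AssocGr.inDegM F n (xg g n) : AssocGr.GrMod F) =
          (DirectSum.decompose (AssocGr.grM F) g (n : ℕ) : AssocGr.GrMod F) := fun n => by rw [hxg]
      rw [Finset.sum_congr rfl (fun n _ => h2 n),
        Fin.sum_univ_eq_sum_range
          (fun n => (DirectSum.decompose (AssocGr.grM F) g n : AssocGr.GrMod F)) (D + 1)]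
      conv_rhs => rw [← DirectSum.sum_support_decompose (AssocGr.grM F) g]
      symm
      apply Finset.sum_subset
      · intro n hn
        rw [Finset.mem_range, Nat.lt_succ_iff]
        calc n ≤ (DirectSum.decompose (AssocGr.grM F) g).support.sup id :=
              Finset.le_sup (f := id) hn
          _ ≤ D := Finset.le_sup
              (f := fun g => (DirectSum.decompose (AssocGr.grM F) g).support.sup id) hg'
      · intro n _ hn
        have h3 : (DirectSum.decompose (AssocGr.grM F) g) n = 0 := by
          by_contra h
          exact hn (DFinsupp.mem_support_iff.mpr h)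
        rw [h3]
        rfl
    rw [← h1]
    apply Submodule.sum_mem
    intro n _
    apply Submodule.subset_span
    refine ⟨e (⟨g, hg'⟩, n), ?_⟩
    have hq : ∀ q : ↥S × Fin (D + 1), q = (⟨g, hg'⟩, n) →
        (AssocGr.inDegM F ((q.2 : ℕ)) (xg q.1 q.2) : AssocGr.GrMod F) =
          (AssocGr.inDegM F n (xg g n) : AssocGr.GrMod F) := by
      rintro q rfl
      rfl
    exact hq _ (e.symm_apply_apply _)

end Groth.Agent.S16458
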