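import Groth.Statements.S16459
import Mathlib

set_option autoImplicit false
universe u
open AdicGr

namespace Groth.Agent.S16459

noncomputable def seq {A M : Type*} [CommRing A] [AddCommGroup M] [Module A M] {ι : Type*}
    [Fintype ι] (xs : ι → M) (bfun : ℕ → M → ι → A) (m : M) : ℕ → ι → A
  | 0 => fun _ => 0
  | (n + 1) => fun i => seq xs bfun m n i + bfun n (m - ∑ j, seq xs bfun m n j • xs j) i

theorem seq_succ {A M : Type*} [CommRing A] [AddCommGroup M] [Module A M] {ι : Type*}
    [Fintype ι] (xs : ι → M) (bfun : ℕ → M → ι → A) (m : M) (n : ℕ) (i : ι) :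
    seq xs bfun m (n + 1) i = seq xs bfun m n i + bfun n (m - ∑ j, seq xs bfun m n j • xs j) i := by
  rw [seq]

theorem step1g (A : Type u) [CommRing A] (I : Ideal A) (M : Type u) [AddCommGroup M] [Module A M]
    (F : I.Filtration M) {ι : Type u} [Fintype ι] (d : ι → ℕ) (x : (i : ι) → ↥(F.N (d i)))
    (n : ℕ) (y : M) (hy : y ∈ F.N n)
    (hmem : (AssocGr.inDegM F n ⟨y, hy⟩ : AssocGr.GrMod F) ∈
      Submodule.span (AssocGr.GrRing (FiltBl.IdealFiltration.adic I))
        (Set.range fun i => (AssocGr.inDegM F (d i) (x i) : AssocGr.GrMod F))) :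
    ∃ b : ι → A, (∀ i, (d i ≤ n → b i ∈ I ^ (n - d i)) ∧ (n < d i → b i = 0)) ∧
      y - ∑ i, b i • ((x i : ↥(F.N (d i))) : M) ∈ F.N (n + 1) := by
  classical
  rw [AssocGr.coe_inDegM, Submodule.mem_span_range_iff_exists_fun] at hmem
  obtain ⟨g, hg⟩ := hmem
  beta_reduce at hg
  choose f hf using fun i => AssocGr.mkG_surjective (FiltBl.IdealFiltration.adic I) (g i)
  have h1 : AssocGr.mkGM F (AssocGr.monomM F n ⟨y, hy⟩ -
      ∑ i, f i • AssocGr.monomM F (d i) (x i)) = 0 := by
    rw [map_sub, map_sum, ← hg, sub_eq_zero]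
    apply Finset.sum_congr rfl
    intro i _
    rw [← hf i, AssocGr.coe_inDegM, AssocGr.mkG_smul_mkGM]
  rw [AssocGr.mkGM_eq_zero_iff, AssocGr.mem_succMod_iff] at h1
  have h2 := h1 n
  have h3 : AssocGr.ReesM.coeff F (AssocGr.monomM F n ⟨y, hy⟩ -
      ∑ i, f i • AssocGr.monomM F (d i) (x i)) n =
      y - ∑ i, (if d i ≤ n then ((f i : Polynomial A)).coeff (n - d i) else 0) •
        ((x i : ↥(F.N (d i))) : M) := by
    rw [← AssocGr.ReesM.coeffHom_apply, map_sub, map_sum, AssocGr.ReesM.coeffHom_apply,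
      AssocGr.ReesM.coeff_monomM, if_pos rfl]
    congr 1
    apply Finset.sum_congr rfl
    intro i _
    rw [AssocGr.ReesM.coeffHom_apply, AssocGr.ReesM.coeff_smul]
    simp only [AssocGr.ReesM.coeff_monomM]
    split_ifs with hdn
    · rw [Finset.sum_eq_single (n - d i, d i)]
      · rw [if_pos rfl]
      · intro p hp hne
        replace hp : p.1 + p.2 = n := Finset.HasAntidiagonal.mem_antidiagonal.mp hp
        rw [if_neg, smul_zero]
        intro hd
        apply hne
        exact Prod.ext (by show p.1 = n - d i; omega) (by show p.2 = d i; omega)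
      · intro hnot
        exfalso
        apply hnot
        exact Finset.HasAntidiagonal.mem_antidiagonal.mpr (by show n - d i + d i = n; omega)
    · rw [zero_smul]
      apply Finset.sum_eq_zero
      intro p hp
      replace hp : p.1 + p.2 = n := Finset.HasAntidiagonal.mem_antidiagonal.mp hp
      rw [if_neg (by omega), smul_zero]
  rw [h3] at h2
  refine ⟨fun i => if d i ≤ n then ((f i : Polynomial A)).coeff (n - d i) else 0, ?_, h2⟩
  intro i
  constructor
  · intro h
    simp only [if_pos h]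
    exact (AssocGr.mem_rees_iff _ _).mp (f i).2 (n - d i)
  · intro h
    simp only [if_neg (by omega : ¬ d i ≤ n)]

theorem unified (A : Type u) [CommRing A] (I : Ideal A) [IsPrecomplete I A] (M : Type u)
    [AddCommGroup M] [Module A M] (F : I.Filtration M) (h0 : F.N 0 = ⊤) (hsep : ⨅ n, F.N n = ⊥)
    (M' : Submodule A M) {ι : Type u} [Fintype ι] (d : ι → ℕ) (x : (i : ι) → ↥(F.N (d i)))
    (hxM : ∀ i, ((x i : ↥(F.N (d i))) : M) ∈ M')
    (hgen : ∀ (n : ℕ) (y : F.N n), (y : M) ∈ M' → (AssocGr.inDegM F n y : AssocGr.GrMod F) ∈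
      Submodule.span (AssocGr.GrRing (FiltBl.IdealFiltration.adic I))
        (Set.range fun i => (AssocGr.inDegM F (d i) (x i) : AssocGr.GrMod F)))
    (m : M) (hm : ∀ k, m ∈ M' ⊔ F.N k) :
    m ∈ Submodule.span A (Set.range fun i => ((x i : ↥(F.N (d i))) : M)) := by
  classical
  have key : ∀ (n : ℕ) (y : M), ∃ b : ι → A, (y ∈ F.N n ∧ y ∈ M' ⊔ F.N (n + 1)) →
      ((∀ i, (d i ≤ n → b i ∈ I ^ (n - d i)) ∧ (n < d i → b i = 0)) ∧
        y - ∑ i, b i • ((x i : ↥(F.N (d i))) : M) ∈ F.N (n + 1)) := by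
    intro n y
    by_cases hy : y ∈ F.N n ∧ y ∈ M' ⊔ F.N (n + 1)
    · obtain ⟨hyn, hys⟩ := hy
      obtain ⟨m', hm', z, hz, hmz⟩ := Submodule.mem_sup.mp hys
      have hm'n : m' ∈ F.N n := by
        have e : m' = y - z := by
          rw [← hmz]
          abel
        rw [e]
        exact Submodule.sub_mem _ hyn (F.antitone (Nat.le_succ n) hz)
      obtain ⟨b, hb1, hb2⟩ := step1g A I M F d x n m' hm'n (hgen n ⟨m', hm'n⟩ hm')
      refine ⟨b, fun _ => ⟨hb1, ?_⟩⟩
      have e : y - ∑ i, b i • ((x i : ↥(F.N (d i))) : M) =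
          (m' - ∑ i, b i • ((x i : ↥(F.N (d i))) : M)) + z := by
        rw [← hmz]
        abel
      rw [e]
      exact Submodule.add_mem _ hb2 hz
    · exact ⟨fun _ => 0, fun h => absurd h hy⟩
  choose bfun hb using key
  set xs : ι → M := fun i => ((x i : ↥(F.N (d i))) : M) with hxs
  set s := seq xs bfun m with hs
  have hsS : ∀ n i, s (n + 1) i = s n i + bfun n (m - ∑ j, s n j • xs j) i :=
    fun n i => seq_succ xs bfun m n i
  have hsum_mem : ∀ n, ∑ j, s n j • xs j ∈ M' := fun n =>
    Submodule.sum_mem _ (fun j _ => Submodule.smul_mem _ _ (hxM j))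
  have hsup : ∀ n, m - ∑ j, s n j • xs j ∈ M' ⊔ F.N (n + 1) := by
    intro n
    obtain ⟨m', hm', z, hz, hmz⟩ := Submodule.mem_sup.mp (hm (n + 1))
    rw [← hmz]
    have e : m' + z - ∑ j, s n j • xs j = (m' - ∑ j, s n j • xs j) + z := by abel
    rw [e]
    exact Submodule.add_mem _ (Submodule.mem_sup_left (Submodule.sub_mem _ hm' (hsum_mem n)))
      (Submodule.mem_sup_right hz)
  have hP : ∀ n, m - ∑ j, s n j • xs j ∈ F.N n := by
    intro n
    induction n with
    | zero => rw [h0]; trivial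
    | succ n ih =>
      have h1 := (hb n _ ⟨ih, hsup n⟩).2
      have h2 : m - ∑ j, s (n + 1) j • xs j =
          (m - ∑ j, s n j • xs j) - ∑ j, bfun n (m - ∑ j, s n j • xs j) j • xs j := by
        simp only [hsS, add_smul, Finset.sum_add_distrib]
        abel
      rw [h2]
      exact h1
  have hB : ∀ n i, (d i ≤ n → s (n + 1) i - s n i ∈ I ^ (n - d i)) ∧
      (n < d i → s (n + 1) i - s n i = 0) := by
    intro n i
    have h1 := (hb n _ ⟨hP n, hsup n⟩).1 i
    rw [hsS, add_sub_cancel_left]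
    exact h1
  have hstep : ∀ i n, s (n + 1 + d i) i - s (n + d i) i ∈ I ^ n := by
    intro i n
    have h1 := (hB (n + d i) i).1 (by omega)
    rw [Nat.add_sub_cancel] at h1
    have e : n + 1 + d i = n + d i + 1 := by omega
    rw [e]
    exact h1
  have hcauchy : ∀ i (m' n' : ℕ), m' ≤ n' → s (m' + d i) i - s (n' + d i) i ∈ I ^ m' := by
    intro i m' n' h
    induction n', h using Nat.le_induction with
    | base => rw [sub_self]; exact Ideal.zero_mem _
    | succ n' hmn ih =>
      have e : s (m' + d i) i - s (n' + 1 + d i) i =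
          (s (m' + d i) i - s (n' + d i) i) - (s (n' + 1 + d i) i - s (n' + d i) i) := by ring
      rw [e]
      exact sub_mem ih (Ideal.pow_le_pow_right hmn (hstep i n'))
  have hlim : ∀ i, ∃ L : A, ∀ n, s (n + d i) i - L ∈ I ^ n := by
    intro i
    obtain ⟨L, hL⟩ := IsPrecomplete.prec (inferInstance : IsPrecomplete I A)
      (f := fun n => s (n + d i) i) (by
        intro m' n' h
        rw [SModEq.sub_mem]
        show _ ∈ (I ^ m' • ⊤ : Ideal A)
        rw [smul_eq_mul, Ideal.mul_top]
        exact hcauchy i m' n' h)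
    refine ⟨L, fun n => ?_⟩
    have h1 := hL n
    rw [SModEq.sub_mem] at h1
    have h2 : s (n + d i) i - L ∈ (I ^ n • ⊤ : Ideal A) := h1
    rw [smul_eq_mul, Ideal.mul_top] at h2
    exact h2
  choose L hL using hlim
  have hmem : ∀ n, m - ∑ j, L j • xs j ∈ F.N n := by
    intro n
    set N' := n + ∑ j, d j with hN'
    have hdN : ∀ j, d j ≤ N' := by
      intro j
      have : d j ≤ ∑ j, d j :=
        Finset.single_le_sum (f := d) (fun _ _ => Nat.zero_le _) (Finset.mem_univ j)
      omega
    have e : m - ∑ j, L j • xs j =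
        (m - ∑ j, s N' j • xs j) + ∑ j, (s N' j - L j) • xs j := by
      simp only [sub_smul, Finset.sum_sub_distrib]
      abel
    rw [e]
    apply Submodule.add_mem
    · exact F.antitone (by omega : n ≤ N') (hP N')
    · apply Submodule.sum_mem
      intro j _
      have h1 := hL j (N' - d j)
      rw [Nat.sub_add_cancel (hdN j)] at h1
      have h2 : (s N' j - L j) • xs j ∈ I ^ (N' - d j) • F.N (d j) :=
        Submodule.smul_mem_smul h1 (x j).2
      have h3 := F.pow_smul_le (N' - d j) (d j) h2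
      rw [Nat.sub_add_cancel (hdN j)] at h3
      exact F.antitone (by omega : n ≤ N') h3
  have hzero : m - ∑ j, L j • xs j = 0 := by
    have h1 : m - ∑ j, L j • xs j ∈ (⨅ n, F.N n) := by
      rw [Submodule.mem_iInf]
      exact hmem
    rw [hsep] at h1
    exact (Submodule.mem_bot A).mp h1
  rw [sub_eq_zero] at hzero
  have hfin : ∑ j, L j • xs j ∈ Submodule.span A (Set.range xs) := by
    apply Submodule.sum_mem
    intro j _
    exact Submodule.smul_mem _ _ (Submodule.subset_span ⟨j, rfl⟩)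
  rw [← hzero] at hfin
  exact hfin

theorem exists_family (A : Type u) [CommRing A] (I : Ideal A) (M : Type u) [AddCommGroup M]
    [Module A M] (F : I.Filtration M)
    [IsNoetherian (AssocGr.GrRing (FiltBl.IdealFiltration.adic I)) (AssocGr.GrMod F)]
    (M' : Submodule A M) :
    ∃ (ι : Type u) (_ : Fintype ι) (d : ι → ℕ) (x : (i : ι) → ↥(F.N (d i))),
      (∀ i, ((x i : ↥(F.N (d i))) : M) ∈ M') ∧
      ∀ (n : ℕ) (y : F.N n), (y : M) ∈ M' → (AssocGr.inDegM F n y : AssocGr.GrMod F) ∈
        Submodule.span (AssocGr.GrRing (FiltBl.IdealFiltration.adic I))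
          (Set.range fun i => (AssocGr.inDegM F (d i) (x i) : AssocGr.GrMod F)) := by
  classical
  set T : Set (AssocGr.GrMod F) := {z | ∃ (n : ℕ) (y : F.N n), (y : M) ∈ M' ∧
    (AssocGr.inDegM F n y : AssocGr.GrMod F) = z} with hT
  have hfg : (Submodule.span (AssocGr.GrRing (FiltBl.IdealFiltration.adic I)) T).FG :=
    IsNoetherian.noetherian _
  obtain ⟨s', hs'T, hs'⟩ := (Submodule.fg_span_iff_fg_span_finset_subset T).mp hfg
  have hch : ∀ z : ↥s', ∃ (n : ℕ) (y : F.N n), (y : M) ∈ M' ∧
      (AssocGr.inDegM F n y : AssocGr.GrMod F) = z := fun z => hs'T (Finset.mem_coe.mpr z.2)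
  choose dn yn hyM hyz using hch
  refine ⟨↥s', inferInstance, dn, yn, hyM, ?_⟩
  intro n y hy
  have h1 : (AssocGr.inDegM F n y : AssocGr.GrMod F) ∈
      Submodule.span (AssocGr.GrRing (FiltBl.IdealFiltration.adic I)) T :=
    Submodule.subset_span ⟨n, y, hy, rfl⟩
  rw [hs'] at h1
  refine Submodule.span_mono ?_ h1
  intro z hz
  exact ⟨⟨z, Finset.mem_coe.mp hz⟩, hyz ⟨z, Finset.mem_coe.mp hz⟩⟩


/-- Let A be a commutative ring and I an ideal such that every I-adically Cauchy sequence in A has a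
limit, and let M be an A-module with an I-filtration M = N₀ ⊇ N₁ ⊇ … (I·Nₙ ⊆ Nₙ₊₁) which is
separated, ⋂ₙ Nₙ = 0. If the associated graded module gr(M) = ⊕ₙ Nₙ/Nₙ₊₁ is a Noetherian module over
the associated graded ring ⊕ₙ Iⁿ/Iⁿ⁺¹, then M is a Noetherian A-module and every submodule M' of M
is closed for the topology defined by the filtration, that is ⋂ₙ (M' + Nₙ) = M'. (The published
statement allows any complete filtered ring; this row takes the I-adic filtration on A.) -/
theorem result (A : Type u) [CommRing A]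
    (I : Ideal A) [IsPrecomplete I A] (M : Type u) [AddCommGroup M] [Module A M] (F : I.Filtration M)
    (h0 : F.N 0 = ⊤) (hsep : ⨅ n, F.N n = ⊥)
    [IsNoetherian (AssocGr.GrRing (FiltBl.IdealFiltration.adic I)) (AssocGr.GrMod F)] :
    IsNoetherian A M ∧ ∀ M' : Submodule A M, ⨅ n, M' ⊔ F.N n = M' := by
  have main : ∀ M' : Submodule A M, ∃ (ι : Type u) (_ : Fintype ι) (xs : ι → M),
      (∀ i, xs i ∈ M') ∧ ∀ m, (∀ k, m ∈ M' ⊔ F.N k) → m ∈ Submodule.span A (Set.range xs) := by
    intro M'
    obtain ⟨ι, hι, d, x, hxM, hgen⟩ := exists_family A I M F M'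
    exact ⟨ι, hι, fun i => ((x i : ↥(F.N (d i))) : M), hxM,
      fun m hm => unified A I M F h0 hsep M' d x hxM hgen m hm⟩
  constructor
  · rw [isNoetherian_def]
    intro M'
    obtain ⟨ι, hι, xs, hxs, hspan⟩ := main M'
    have e : M' = Submodule.span A (Set.range xs) := by
      apply le_antisymm
      · intro m hm
        exact hspan m (fun k => Submodule.mem_sup_left hm)
      · rw [Submodule.span_le]
        rintro _ ⟨i, rfl⟩
        exact hxs i
    rw [e]
    exact Submodule.fg_span (Set.finite_range xs)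
  · intro M'
    obtain ⟨ι, hι, xs, hxs, hspan⟩ := main M'
    apply le_antisymm
    · intro m hm
      rw [Submodule.mem_iInf] at hm
      have h1 := hspan m hm
      have h2 : Submodule.span A (Set.range xs) ≤ M' := by
        rw [Submodule.span_le]
        rintro _ ⟨i, rfl⟩
        exact hxs i
      exact h2 h1
    · exact le_iInf fun n => le_sup_left

end Groth.Agent.S16459
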