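import Groth.Statements.S16460
import Mathlib

set_option autoImplicit false
universe u
open AdicGr

namespace Groth.Agent.S16460

/-- Let A be a commutative ring with a decreasing filtration by ideals A = F₀ ⊇ F₁ ⊇ F₂ ⊇ … satisfying
F_m·F_n ⊆ F_{m+n}, and assume the filtration is separated, ⋂ₙ Fₙ = 0. If the associated graded ring
⊕ₙ Fₙ/Fₙ₊₁ is an integral domain, then A is an integral domain. -/
theorem result (A : Type u) [CommRing A]
    (𝓕 : FiltBl.IdealFiltration A) (hsep : ⨅ n, 𝓕.F n = ⊥) [IsDomain (AssocGr.GrRing 𝓕)] :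
    IsDomain A := by
  classical
  have hnt : Nontrivial A := by
    by_contra h
    rw [not_nontrivial_iff_subsingleton] at h
    have h1 : (1 : AssocGr.GrRing 𝓕) = 0 := by
      rw [← map_one (algebraMap A (AssocGr.GrRing 𝓕)), Subsingleton.elim (1 : A) 0, map_zero]
    exact one_ne_zero h1
  -- order of a nonzero element
  have hord : ∀ a : A, a ≠ 0 → ∃ m : ℕ, a ∈ 𝓕.F m ∧ a ∉ 𝓕.F (m + 1) := by
    intro a ha
    have h1 : ∃ n, a ∉ 𝓕.F n := by
      by_contra hcon
      push Not at hcon
      have : a ∈ ⨅ n, 𝓕.F n := by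
        rw [Submodule.mem_iInf]
        exact hcon
      rw [hsep] at this
      exact ha this
    have h0 : Nat.find h1 ≠ 0 := by
      intro h
      have := Nat.find_spec h1
      rw [h, 𝓕.zero_eq] at this
      exact this Submodule.mem_top
    obtain ⟨m, hm⟩ := Nat.exists_eq_succ_of_ne_zero h0
    refine ⟨m, ?_, ?_⟩
    · by_contra hcon
      have := Nat.find_min' h1 hcon
      omega
    · have := Nat.find_spec h1
      rw [hm] at this
      exact this
  have hnzd : NoZeroDivisors A := by
    constructor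
    intro a b hab
    by_contra hcon
    push Not at hcon
    obtain ⟨m, ham, ham'⟩ := hord a hcon.1
    obtain ⟨n, hbn, hbn'⟩ := hord b hcon.2
    have h1 : (AssocGr.inDeg 𝓕 m ⟨a, ham⟩ : AssocGr.GrRing 𝓕) ≠ 0 := by
      intro h
      rw [Submodule.coe_eq_zero, AssocGr.inDeg_eq_zero_iff] at h
      exact ham' h
    have h2 : (AssocGr.inDeg 𝓕 n ⟨b, hbn⟩ : AssocGr.GrRing 𝓕) ≠ 0 := by
      intro h
      rw [Submodule.coe_eq_zero, AssocGr.inDeg_eq_zero_iff] at h
      exact hbn' h
    have h3 := mul_ne_zero h1 h2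
    rw [AssocGr.coe_inDeg_mul] at h3
    apply h3
    rw [Submodule.coe_eq_zero, AssocGr.inDeg_eq_zero_iff]
    show a * b ∈ 𝓕.F (m + n + 1)
    rw [hab]
    exact Ideal.zero_mem _
  exact NoZeroDivisors.to_isDomain A

end Groth.Agent.S16460
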