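import Groth.Statements.S16478
import Mathlib

set_option autoImplicit false
universe u
open GaDual

namespace Groth.Agent.S16478

open TensorProduct in
theorem binom_tmul {A : Type*} [CommRing A] {B : Type*} [CommRing B] [Algebra A B] (z : B) (i : ℕ) :
    (z ⊗ₜ[A] (1 : B) + (1 : B) ⊗ₜ[A] z) ^ i =
      ∑ m ∈ Finset.range (i + 1), i.choose m • ((z ^ m) ⊗ₜ[A] (z ^ (i - m))) := by
  rw [add_pow]
  apply Finset.sum_congr rfl
  intro m _
  rw [Algebra.TensorProduct.tmul_pow, Algebra.TensorProduct.tmul_pow, one_pow, one_pow,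
    Algebra.TensorProduct.tmul_mul_tmul, mul_one, one_mul, nsmul_eq_mul, mul_comm]


/-- Let A be a commutative ring of prime characteristic p and n ≥ 1, and let φ be the comorphism of the
closed immersion α_{p^n} → G_a over A: the bialgebra map from the Hopf algebra of the additive group
(generator t primitive) to A[x]/(x^(p^n)) (x primitive) sending t to x. Then the restriction map on
characters, from those of the additive group over A to those of α_{p^n} over A, is surjective: every
group-like element of A[x]/(x^(p^n)) is the image under φ of a group-like element of the Hopf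
algebra of the additive group. -/
theorem result (p : ℕ) [Fact p.Prime] (A : Type u) [CommRing A] [CharP A p]
    (n : ℕ) (hn : 1 ≤ n) (φ : SekSuwa.A A 0 →ₐc[A] AlphaPn.A p n A) (hφ : φ SekSuwa.A.t = AlphaPn.x p n A)
    (u : AlphaPn.A p n A) (hu : IsGroupLikeElem A u) :
    ∃ g : SekSuwa.A A 0, IsGroupLikeElem A g ∧ φ g = u := by
  rcases subsingleton_or_nontrivial A with hA | hA
  · have : Subsingleton (AlphaPn.A p n A) := Module.subsingleton A _
    exact ⟨1, IsGroupLikeElem.one, Subsingleton.elim _ _⟩
  · let b := AlphaPn.basis p n A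
    let σ : AlphaPn.A p n A →ₗ[A] SekSuwa.A A 0 := b.constr A (fun i => SekSuwa.A.t ^ (i : ℕ))
    have hσ : ∀ i : ℕ, i < p ^ n → σ (AlphaPn.x p n A ^ i) = SekSuwa.A.t ^ i := by
      intro i hi
      have h1 := b.constr_basis A (fun i : Fin (p ^ n) => (SekSuwa.A.t : SekSuwa.A A 0) ^ (i : ℕ)) ⟨i, hi⟩
      rw [AlphaPn.basis_apply] at h1
      exact h1
    let φl : SekSuwa.A A 0 →ₗ[A] AlphaPn.A p n A :=
      { toFun := φ, map_add' := map_add φ, map_smul' := fun c x => map_smul φ c x }
    have hφσ : ∀ v, φ (σ v) = v := by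
      intro v
      have h2 : φl ∘ₗ σ = LinearMap.id := by
        apply b.ext
        intro i
        rw [LinearMap.comp_apply, LinearMap.id_apply, AlphaPn.basis_apply, hσ _ i.2]
        change φ (SekSuwa.A.t ^ (i : ℕ)) = _
        rw [map_pow, hφ]
      exact LinearMap.congr_fun h2 v
    have hct : Coalgebra.comul (R := A) (SekSuwa.A.t : SekSuwa.A A 0) =
        (SekSuwa.A.t : SekSuwa.A A 0) ⊗ₜ[A] (1 : SekSuwa.A A 0) +
          (1 : SekSuwa.A A 0) ⊗ₜ[A] (SekSuwa.A.t : SekSuwa.A A 0) := by
      have h3 := SekSuwa.A.comul_t (R := A) (lam := 0)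
      rw [zero_smul, add_zero] at h3
      exact h3
    have hcomul : ∀ v, Coalgebra.comul (R := A) (σ v) =
        TensorProduct.map σ σ (Coalgebra.comul (R := A) v) := by
      intro v
      have h2 : (Coalgebra.comul (R := A) (A := SekSuwa.A A 0)) ∘ₗ σ =
          (TensorProduct.map σ σ) ∘ₗ (Coalgebra.comul (R := A) (A := AlphaPn.A p n A)) := by
        apply b.ext
        intro i
        rw [LinearMap.comp_apply, LinearMap.comp_apply, AlphaPn.basis_apply, hσ _ i.2,
          Bialgebra.comul_pow, Bialgebra.comul_pow, hct, AlphaPn.comul_x, binom_tmul, binom_tmul,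
          map_sum]
        apply Finset.sum_congr rfl
        intro m hm
        have hm' : m < (i : ℕ) + 1 := Finset.mem_range.mp hm
        rw [map_nsmul, TensorProduct.map_tmul, hσ _ (by omega), hσ _ (by omega)]
      exact LinearMap.congr_fun h2 v
    have hcounit : ∀ v, Coalgebra.counit (R := A) (σ v) = Coalgebra.counit (R := A) v := by
      intro v
      have h2 : (Coalgebra.counit (R := A) (A := SekSuwa.A A 0)) ∘ₗ σ =
          (Coalgebra.counit (R := A) (A := AlphaPn.A p n A)) := by
        apply b.ext
        intro i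
        rw [LinearMap.comp_apply, AlphaPn.basis_apply, hσ _ i.2,
          Bialgebra.counit_pow, Bialgebra.counit_pow, SekSuwa.A.counit_t, AlphaPn.counit_x]
      exact LinearMap.congr_fun h2 v
    refine ⟨σ u, ⟨?_, ?_⟩, hφσ u⟩
    · rw [hcounit]
      exact hu.counit_eq_one
    · rw [hcomul, hu.comul_eq_tmul_self, TensorProduct.map_tmul]

end Groth.Agent.S16478
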