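import Groth.Statements.S16482

set_option autoImplicit false
open CategoryTheory CategoryTheory.Limits AlgebraicGeometry
universe u
open FrobSch

namespace Groth.Agent.S16482


open CategoryTheory CategoryTheory.Limits Opposite

open AlgebraicGeometry

theorem epi_of_surj_inj {Y I : Scheme.{u}} (π : Y ⟶ I) (hsurj : Function.Surjective π)
    (hinjV : ∀ V : I.Opens, Function.Injective (π.app V)) : Epi π := by
  constructor
  intro Z g₁ g₂ h
  have hbase : g₁.base = g₂.base := by
    ext x
    obtain ⟨y, rfl⟩ := hsurj x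
    exact congr($h y)
  refine Scheme.Hom.ext hbase (fun U => ?_)
  have hmono : Mono (π.app (g₂ ⁻¹ᵁ U)) :=
    ConcreteCategory.mono_of_injective _ (hinjV _)
  rw [← cancel_mono (π.app (g₂ ⁻¹ᵁ U))]
  have h2 := Scheme.Hom.congr_app h U
  rw [Scheme.Hom.comp_app, Scheme.Hom.comp_app] at h2
  rw [Category.assoc, Scheme.Hom.naturality, reassoc_of% h2]
  have this : ∀ (V : Y.Opens) (e : V ⟶ V), Y.presheaf.map e.op = 𝟙 _ := fun V e => by
    rw [Subsingleton.elim e (𝟙 V)]; exact Y.presheaf.map_id _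
  have key : ∀ {A B C : CommRingCat.{u}} (a : A ⟶ B) (m₁ : B ⟶ C) (m₂ : C ⟶ B),
      m₁ ≫ m₂ = 𝟙 _ → (a ≫ m₁) ≫ m₂ = a := by
    intro A B C a m₁ m₂ h; rw [Category.assoc, h, Category.comp_id]
  refine key _ _ _ ?_
  erw [← Functor.map_comp]
  exact this _ _

theorem epi_frob (p : ℕ) [Fact p.Prime] (Y : Scheme.{u}) [FrobSch.IsCharP Y p] [IsReduced Y] :
    Epi (FrobSch.frob Y p) := by
  apply epi_of_surj_inj
  · intro y; exact ⟨y, rfl⟩
  · intro V
    rw [injective_iff_map_eq_zero]
    intro s hs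
    rw [FrobSch.frob_app] at hs
    exact IsReduced.eq_zero (R := Γ(Y, V)) s ⟨p, hs⟩

theorem main (p : ℕ) [Fact p.Prime]
    {Y Z S : Scheme.{u}} [FrobSch.IsCharP S p] [IsReduced S] [Flat (FrobSch.frob S p)]
    [IsReduced Y] (a : Y ⟶ S) (b : Z ⟶ S) (g₁ g₂ : Y ⟶ Z) (hg₁ : g₁ ≫ b = a) (hg₂ : g₂ ≫ b = a)
    (h : FrobSch.relFrob a p ≫ pullback.map a (FrobSch.frob S p) b (FrobSch.frob S p) g₁ (𝟙 S) (𝟙 S)
        ((Category.comp_id a).trans hg₁.symm) ((Category.comp_id _).trans (Category.id_comp _).symm) =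
      FrobSch.relFrob a p ≫ pullback.map a (FrobSch.frob S p) b (FrobSch.frob S p) g₂ (𝟙 S) (𝟙 S)
        ((Category.comp_id a).trans hg₂.symm) ((Category.comp_id _).trans (Category.id_comp _).symm)) :
    g₁ = g₂ := by
  haveI : FrobSch.IsCharP Y p := FrobSch.IsCharP.of_hom a p
  haveI := epi_frob p Y
  have h' := congrArg (fun m => m ≫ pullback.fst b (FrobSch.frob S p)) h
  simp only [Category.assoc, pullback.map, pullback.lift_fst] at h'
  rw [← Category.assoc, ← Category.assoc, FrobSch.relFrob_fst] at h'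
  exact (cancel_epi _).mp h'

/-- Let p be a prime and S a reduced scheme on which p = 0 whose absolute Frobenius is flat; let Y be a
reduced S-scheme with structure map a, Z an S-scheme with structure map b, and g₁, g₂ : Y ⟶ Z two
S-morphisms. For i = 1, 2 let h_i : Y ⟶ Z^(p) be the relative Frobenius F_{Y/S} : Y ⟶ Y^(p) followed
by the base change Y^(p) ⟶ Z^(p) of g_i along the absolute Frobenius of S. If h₁ = h₂, then g₁ = g₂.
(The published statement works over the reduced special fibre of a flat formal scheme of finite type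
over the Witt vectors of a perfect field; only reducedness of S and flatness of its absolute
Frobenius are kept here.) -/
theorem result (p : ℕ) [Fact p.Prime]
    {Y Z S : Scheme.{u}} [FrobSch.IsCharP S p] [IsReduced S] [Flat (FrobSch.frob S p)]
    [IsReduced Y] (a : Y ⟶ S) (b : Z ⟶ S) (g₁ g₂ : Y ⟶ Z) (hg₁ : g₁ ≫ b = a) (hg₂ : g₂ ≫ b = a)
    (h : FrobSch.relFrob a p ≫ pullback.map a (FrobSch.frob S p) b (FrobSch.frob S p) g₁ (𝟙 S) (𝟙 S)
        ((Category.comp_id a).trans hg₁.symm) ((Category.comp_id _).trans (Category.id_comp _).symm) =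
      FrobSch.relFrob a p ≫ pullback.map a (FrobSch.frob S p) b (FrobSch.frob S p) g₂ (𝟙 S) (𝟙 S)
        ((Category.comp_id a).trans hg₂.symm) ((Category.comp_id _).trans (Category.id_comp _).symm)) :
    g₁ = g₂ := by
  exact main p a b g₁ g₂ hg₁ hg₂ h

end Groth.Agent.S16482
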