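import Groth.Statements.S16498
import Mathlib

set_option autoImplicit false
universe u
open Curves

namespace Groth.Agent.S16498

theorem divmod (p a b : ℕ) (hb : b < p) : (a * p + b) / p = a ∧ (a * p + b) % p = b := by
  have hp : 0 < p := by omega
  constructor
  · rw [Nat.mul_comm, Nat.mul_add_div hp, Nat.div_eq_of_lt hb, add_zero]
  · rw [Nat.mul_comm, Nat.mul_add_mod, Nat.mod_eq_of_lt hb]

theorem lucas_cast (k : Type*) [Field k] (p : ℕ) [Fact p.Prime] [CharP k p] (a b c d : ℕ)
    (hb : b < p) (hd : d < p) :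
    (((a * p + b).choose (c * p + d) : ℕ) : k) = ((b.choose d : ℕ) : k) * ((a.choose c : ℕ) : k) := by
  have h := @Choose.choose_modEq_choose_mod_mul_choose_div_nat (a * p + b) (c * p + d) p _
  rw [(divmod p a b hb).1, (divmod p a b hb).2, (divmod p c d hd).1, (divmod p c d hd).2] at h
  have := (CharP.natCast_eq_natCast k p).mpr h
  rw [this]; push_cast; rfl

theorem phi_eq (p I J : ℕ) (hJ : J + 1 ≤ p) : (I + 1) * p - (J + 1) = I * p + (p - (J + 1)) := by
  rw [Nat.succ_mul]; omega


/-- Let k be a field of odd characteristic p, g ≤ p a natural number, f ∈ k[x] of degree at most 2g + 2,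
and α ∈ k. Write f^((p-1)/2) = Σ_l c_l x^l and f(x + α)^((p-1)/2) = Σ_l d_l x^l, and form the g × g
Cartier–Manin matrices (c_{ip-j}) and (d_{ip-j}), indices i, j = 1, …, g (below written with i, j
ranging over Fin g, so that the entry at (i, j) is the coefficient of x^((i+1)p-(j+1))). Then
(d_{ip-j}) = L · (c_{ip-j}) · U with L_{i,I} = binom(I-1, i-1) α^((I-i)p) and U_{J,j} = binom(p-J,
p-j) α^(j-J); both L and U are unitriangular since a binomial coefficient vanishes when its lower
index exceeds its upper index. (The source works over a perfect field, with f separable of degree 2g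
+ 2 and α ∈ k^* a root of f, hypotheses this identity does not use.) -/
theorem result (k : Type u) [Field k] (p : ℕ) [Fact p.Prime] (hp : p ≠ 2) [CharP k p]
    (g : ℕ) (hg : g ≤ p) (f : Polynomial k) (hf : f.natDegree ≤ 2 * g + 2) (α : k) :
    (Matrix.of fun i j : Fin g =>
        ((f.comp (Polynomial.X + Polynomial.C α)) ^ ((p - 1) / 2)).coeff (((i : ℕ) + 1) * p - ((j : ℕ) + 1))) =
      (Matrix.of fun i I : Fin g => (((I : ℕ).choose (i : ℕ) : ℕ) : k) * α ^ (((I : ℕ) - (i : ℕ)) * p)) *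
        (Matrix.of fun i j : Fin g => (f ^ ((p - 1) / 2)).coeff (((i : ℕ) + 1) * p - ((j : ℕ) + 1))) *
        (Matrix.of fun J j : Fin g => (((p - ((J : ℕ) + 1)).choose (p - ((j : ℕ) + 1)) : ℕ) : k) * α ^ ((j : ℕ) - (J : ℕ))) := by
  classical
  have hp0 : 0 < p := (Fact.out : p.Prime).pos
  have hp2 : 2 ≤ p := (Fact.out : p.Prime).two_le
  have hodd : p % 2 = 1 := (Fact.out : p.Prime).eq_two_or_odd.resolve_left hp
  set N := (p - 1) / 2 with hN
  have h2N : 2 * N = p - 1 := by omega
  set F := f ^ N with hF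
  have hFdeg : F.natDegree ≤ (g + 1) * (p - 1) := by
    calc F.natDegree ≤ N * f.natDegree := Polynomial.natDegree_pow_le
      _ ≤ N * (2 * g + 2) := Nat.mul_le_mul_left _ hf
      _ = (g + 1) * (2 * N) := by ring
      _ = (g + 1) * (p - 1) := by rw [h2N]
  have hK : (g + 1) * (p - 1) + (g + 1) = g * p + p := by
    rw [Nat.mul_sub_one, Nat.succ_mul]
    have : g + 1 ≤ g * p + p := by nlinarith
    omega
  have hcomp : (f.comp (Polynomial.X + Polynomial.C α)) ^ N = Polynomial.taylor α F := by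
    rw [Polynomial.taylor_apply, hF, Polynomial.pow_comp]
  have hcoeff : ∀ m, (Polynomial.taylor α F).coeff m =
      ∑ l ∈ Finset.range ((g + 1) * (p - 1) + 1),
        F.coeff l * ((l.choose m : ℕ) : k) * α ^ (l - m) := by
    intro m
    rw [Polynomial.taylor_coeff, Polynomial.hasseDeriv_apply,
      Polynomial.sum_over_range' _ _ ((g + 1) * (p - 1) + 1) (by omega)]
    · rw [Polynomial.eval_finsetSum]
      apply Finset.sum_congr rfl
      intro l _
      rw [Polynomial.eval_monomial]; ring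
    · intro n; simp
  ext i j
  rw [hcomp]
  simp only [Matrix.of_apply, Matrix.mul_apply]
  rw [hcoeff]
  symm
  simp_rw [Finset.sum_mul]
  rw [← Finset.sum_product']
  have hi : (i : ℕ) < g := i.2
  have hj : (j : ℕ) < g := j.2
  have hm : ((i : ℕ) + 1) * p - ((j : ℕ) + 1) = (i : ℕ) * p + (p - ((j : ℕ) + 1)) :=
    phi_eq p i j (by omega)
  rw [hm]
  -- the termwise identity
  have hRT : ∀ I J : Fin g,
      ↑((I : ℕ).choose ↑i) * α ^ (((I : ℕ) - ↑i) * p) * F.coeff (((I : ℕ) + 1) * p - ((J : ℕ) + 1)) *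
        (↑((p - ((J : ℕ) + 1)).choose (p - (↑j + 1))) * α ^ (↑j - (J : ℕ))) =
      F.coeff (((I : ℕ) + 1) * p - ((J : ℕ) + 1)) *
        ↑((((I : ℕ) + 1) * p - ((J : ℕ) + 1)).choose ((i : ℕ) * p + (p - ((j : ℕ) + 1)))) *
        α ^ ((((I : ℕ) + 1) * p - ((J : ℕ) + 1)) - ((i : ℕ) * p + (p - ((j : ℕ) + 1)))) := by
    intro I J
    have hI : (I : ℕ) < g := I.2
    have hJ : (J : ℕ) < g := J.2
    rw [phi_eq p I J (by omega)]
    rw [lucas_cast k p _ _ _ _ (by omega) (by omega)]
    by_cases h1 : (I : ℕ) < (i : ℕ)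
    · simp [Nat.choose_eq_zero_of_lt h1]
    by_cases h2 : p - ((J : ℕ) + 1) < p - ((j : ℕ) + 1)
    · simp [Nat.choose_eq_zero_of_lt h2]
    push Not at h1 h2
    obtain ⟨t, ht⟩ := Nat.exists_eq_add_of_le h1
    have e1 : (I : ℕ) - (i : ℕ) = t := by omega
    have e2 : (I : ℕ) * p = (i : ℕ) * p + t * p := by rw [ht]; ring
    have e3 : (I : ℕ) * p + (p - ((J : ℕ) + 1)) - ((i : ℕ) * p + (p - ((j : ℕ) + 1)))
        = t * p + ((j : ℕ) - (J : ℕ)) := by rw [e2]; omega
    rw [e3, e1, pow_add]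
    ring
  apply Finset.sum_bij_ne_zero (fun x _ _ => ((x.2 : ℕ) + 1) * p - ((x.1 : ℕ) + 1))
  · rintro ⟨J, I⟩ _ hne
    simp only [Finset.mem_range]
    by_contra hcon
    apply hne
    have : F.coeff (((I : ℕ) + 1) * p - ((J : ℕ) + 1)) = 0 :=
      Polynomial.coeff_eq_zero_of_natDegree_lt (by omega)
    simp [this]
  · rintro ⟨J, I⟩ _ _ ⟨J', I'⟩ _ _ h
    simp only at h
    have hI : (I : ℕ) < g := I.2
    have hJ : (J : ℕ) < g := J.2
    have hI' : (I' : ℕ) < g := I'.2
    have hJ' : (J' : ℕ) < g := J'.2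
    rw [phi_eq p I J (by omega), phi_eq p I' J' (by omega)] at h
    have d1 := divmod p I (p - ((J : ℕ) + 1)) (by omega)
    have d2 := divmod p I' (p - ((J' : ℕ) + 1)) (by omega)
    rw [h] at d1
    have hII : (I : ℕ) = I' := d1.1.symm.trans d2.1
    have hJJ : p - ((J : ℕ) + 1) = p - ((J' : ℕ) + 1) := d1.2.symm.trans d2.2
    have hJJ' : (J : ℕ) = J' := by omega
    exact Prod.ext (Fin.ext hJJ') (Fin.ext hII)
  · intro l hl hne
    have hl' : l ≤ (g + 1) * (p - 1) := by
      have := Finset.mem_range.mp hl; omega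
    set a := l / p with ha
    set b := l % p with hb
    have hbp : b < p := Nat.mod_lt _ hp0
    have hlab : l = a * p + b := (Nat.div_add_mod' l p).symm
    have hne' := hne
    rw [hlab, lucas_cast k p _ _ _ _ hbp (by omega)] at hne'
    have hc1 : b.choose (p - ((j : ℕ) + 1)) ≠ 0 := by
      intro h0
      apply hne'
      simp [h0]
    have hc2 : a.choose (i : ℕ) ≠ 0 := by
      intro h0
      apply hne'
      simp [h0]
    have hb1 : p - ((j : ℕ) + 1) ≤ b := by
      by_contra hcon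
      exact hc1 (Nat.choose_eq_zero_of_lt (by omega))
    have hag : a < g := by
      by_contra hcon
      push Not at hcon
      have : g * p ≤ a * p := Nat.mul_le_mul_right p hcon
      omega
    have hJ0 : p - 1 - b < g := by omega
    refine ⟨(⟨p - 1 - b, hJ0⟩, ⟨a, hag⟩), Finset.mem_univ _, ?_, ?_⟩
    · have e : ((a : ℕ) + 1) * p - ((p - 1 - b) + 1) = l := by
        rw [phi_eq p a (p - 1 - b) (by omega), hlab]; congr 1; omega
      have := hRT ⟨a, hag⟩ ⟨p - 1 - b, hJ0⟩
      simp only at this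
      rw [this, e]
      exact hne
    · simp only
      rw [phi_eq p a (p - 1 - b) (by omega), hlab]; congr 1; omega
  · rintro ⟨J, I⟩ _ _
    exact hRT I J

end Groth.Agent.S16498
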