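import Groth.Statements.S16500
import Mathlib

set_option autoImplicit false
universe u
open Curves

namespace Groth.Agent.S16500

/-- Let k be a field of odd characteristic p, g ≤ p a natural number and f ∈ k[x] of degree at most 2g +
2. Let F be f with its coefficients reversed in degrees 0, …, 2g + 2, i.e. F(X) = X^(2g+2) f(1/X)
(Mathlib's reflect (2g+2) f), and write f^((p-1)/2) = Σ_l c_l x^l and F^((p-1)/2) = Σ_l C_l X^l.
Then C_{ip-j} = c_{(g+1-i)p-(g+1-j)} for all i, j = 1, …, g; that is, the g × g Cartier–Manin matrix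
of F is that of f with the order of both rows and columns reversed (below the indices run over Fin
g, the entry at (i, j) being the coefficient of degree (i+1)p-(j+1), and reversal is Fin.rev). In
particular the two matrices have the same determinant. (The source applies this to f with f(0) = 0,
separable of degree 2g + 2 over a perfect field, so that F has odd degree 2g + 1; the identity uses
none of that.) -/
theorem result (k : Type u) [Field k] (p : ℕ) [Fact p.Prime] (hp : p ≠ 2) [CharP k p]
    (g : ℕ) (hg : g ≤ p) (f : Polynomial k) (hf : f.natDegree ≤ 2 * g + 2) :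
    (Matrix.of fun i j : Fin g =>
        ((Polynomial.reflect (2 * g + 2) f) ^ ((p - 1) / 2)).coeff (((i : ℕ) + 1) * p - ((j : ℕ) + 1))) =
      Matrix.of fun i j : Fin g =>
        (f ^ ((p - 1) / 2)).coeff (((Fin.rev i : ℕ) + 1) * p - ((Fin.rev j : ℕ) + 1)) := by
  have hpr : p.Prime := Fact.out
  have hpow : ∀ m : ℕ, Polynomial.reflect (2 * g + 2) f ^ m =
      Polynomial.reflect ((2 * g + 2) * m) (f ^ m) := by
    intro m
    induction m with
    | zero => simp [Polynomial.reflect_one]
    | succ m ih =>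
      rw [pow_succ, pow_succ, ih, Nat.mul_succ]
      refine (Polynomial.reflect_mul (f ^ m) f ?_ hf).symm
      calc (f ^ m).natDegree ≤ m * f.natDegree := Polynomial.natDegree_pow_le
        _ ≤ m * (2 * g + 2) := Nat.mul_le_mul_left m hf
        _ = (2 * g + 2) * m := Nat.mul_comm _ _
  have hodd : p % 2 = 1 := by
    rcases hpr.eq_two_or_odd with h | h
    · exact absurd h hp
    · exact h
  have hN : (2 * g + 2) * ((p - 1) / 2) = (g + 1) * (p - 1) := by
    have h2 : 2 * ((p - 1) / 2) = p - 1 := by omega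
    calc (2 * g + 2) * ((p - 1) / 2) = (g + 1) * (2 * ((p - 1) / 2)) := by ring
      _ = (g + 1) * (p - 1) := by rw [h2]
  ext i j
  simp only [Matrix.of_apply]
  rw [hpow, hN, Polynomial.coeff_reflect]
  have hi : (i : ℕ) < g := i.2
  have hj : (j : ℕ) < g := j.2
  have hp1 : 1 ≤ p := hpr.pos
  -- arithmetic
  have hrevi : ((Fin.rev i : Fin g) : ℕ) = g - 1 - i := by
    rw [Fin.val_rev]; omega
  have hrevj : ((Fin.rev j : Fin g) : ℕ) = g - 1 - j := by
    rw [Fin.val_rev]; omega
  rw [hrevi, hrevj]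
  have e1 : g - 1 - (i : ℕ) + 1 = g - i := by omega
  have e2 : g - 1 - (j : ℕ) + 1 = g - j := by omega
  rw [e1, e2]
  -- write everything additively
  obtain ⟨a, ha⟩ : ∃ a, g = (i : ℕ) + 1 + a := ⟨g - (i + 1), by omega⟩
  obtain ⟨b, hb⟩ : ∃ b, g = (j : ℕ) + 1 + b := ⟨g - (j + 1), by omega⟩
  obtain ⟨q, hq⟩ : ∃ q, p = q + 1 := ⟨p - 1, by omega⟩
  have hgp : g ≤ q + 1 := by omega
  have e3 : g - (i : ℕ) = a + 1 := by omega
  have e4 : g - (j : ℕ) = b + 1 := by omega
  rw [e3, e4, hq]
  have e5 : q + 1 - 1 = q := by omega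
  rw [e5]
  have hle : ((i : ℕ) + 1) * (q + 1) - ((j : ℕ) + 1) ≤ (g + 1) * q := by
    have h1 : ((i : ℕ) + 1) * (q + 1) ≤ g * (q + 1) := Nat.mul_le_mul_right _ (by omega)
    have h2 : g * (q + 1) = g * q + g := by ring
    have h3 : (g + 1) * q = g * q + q := by ring
    omega
  rw [Polynomial.revAt_le hle]
  congr 1
  have h1 : ((i : ℕ) + 1) * (q + 1) = (i + 1) * q + i + 1 := by ring
  have h2 : (a + 1) * (q + 1) = (a + 1) * q + a + 1 := by ring
  have hg1 : g + 1 = ((i : ℕ) + 1) + (a + 1) := by omega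
  have h3 : (g + 1) * q = ((i : ℕ) + 1) * q + (a + 1) * q := by
    calc (g + 1) * q = (((i : ℕ) + 1) + (a + 1)) * q := congrArg (· * q) hg1
      _ = _ := by ring
  have h4 : (j : ℕ) + 1 ≤ ((i : ℕ) + 1) * q + i + 1 := by
    have : q ≤ ((i : ℕ) + 1) * q := Nat.le_mul_of_pos_left q (by omega)
    omega
  omega

end Groth.Agent.S16500
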