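import Groth.Statements.S16515
import Mathlib

set_option autoImplicit false
universe u
open RatCurv

namespace Groth.Agent.S16515

theorem arith (n r k : ℕ) (hkn : k ≤ n) (hineq : (r + 1) * (n + 1) ≤ (r + 2) * k) :
    (n - k + 1) * (r + 1) < k + 1 := by
  obtain ⟨m, rfl⟩ := Nat.exists_eq_add_of_le hkn
  have : k + m - k = m := by omega
  rw [this]
  nlinarith

theorem finrank_homog (K : Type u) [Field K] (n : ℕ) :
    Module.Finite K (MvPolynomial.homogeneousSubmodule (Fin 2) K n) ∧
      Module.finrank K (MvPolynomial.homogeneousSubmodule (Fin 2) K n) = n + 1 := by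
  let e : ({d : Fin 2 →₀ ℕ | d.degree = n} : Set (Fin 2 →₀ ℕ)) ≃ Fin (n + 1) :=
    { toFun := fun d => ⟨d.1 0, by
        have h : d.1.degree = n := d.2
        rw [Finsupp.degree_eq_sum, Fin.sum_univ_two] at h; omega⟩
      invFun := fun i => ⟨Finsupp.single 0 i.val + Finsupp.single 1 (n - i.val), by
        show (Finsupp.single 0 i.val + Finsupp.single 1 (n - i.val) : Fin 2 →₀ ℕ).degree = n
        rw [Finsupp.degree_eq_sum, Fin.sum_univ_two]
        have := i.isLt
        simp
        omega⟩
      left_inv := by
        intro d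
        have h : d.1.degree = n := d.2
        rw [Finsupp.degree_eq_sum, Fin.sum_univ_two] at h
        apply Subtype.ext
        ext j
        fin_cases j
        · simp
        · simp; omega
      right_inv := by
        intro i
        apply Fin.ext
        simp }
  have : Fintype ({d : Fin 2 →₀ ℕ | d.degree = n} : Set (Fin 2 →₀ ℕ)) := Fintype.ofEquiv _ e.symm
  have hcard : Fintype.card ({d : Fin 2 →₀ ℕ | d.degree = n} : Set (Fin 2 →₀ ℕ)) = n + 1 := by
    rw [Fintype.card_congr e, Fintype.card_fin]
  rw [MvPolynomial.homogeneousSubmodule_eq_finsupp_supported]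
  let f := AddMonoidAlgebra.supportedEquivFinsupp (R := K) (S := K) {d : Fin 2 →₀ ℕ | d.degree = n}
  refine ⟨Module.Finite.equiv f.symm, ?_⟩
  rw [f.finrank_eq, Module.finrank_finsupp_self]
  exact hcard


/-- If C ⊂ P^n is a rational normal curve and P ⊂ P^n a linear r-plane with (r + 2) k ≥ (r + 1)(n + 1),
then P is contained in a k-secant (k − 1)-plane of C, i.e. in the span of some effective divisor of
degree k on C. Stated through the identification of the linear forms on P^n with the binary forms of
degree n on C ≅ P^1: the r-plane P is recorded by the space U of degree-n binary forms vanishing on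
it (of codimension r + 1), an effective divisor of degree k on C by a nonzero binary form g of
degree k, and P ⊂ span(div g) says that every degree-n form divisible by g lies in U. Here k ≤ n,
and the ground field is arbitrary (the source works over the complex numbers). -/
theorem result (K : Type u) [Field K] (n r k : ℕ)
    (hkn : k ≤ n) (hineq : (r + 1) * (n + 1) ≤ (r + 2) * k)
    (U : Submodule K (MvPolynomial (Fin 2) K))
    (hU : U ≤ MvPolynomial.homogeneousSubmodule (Fin 2) K n)
    (hcodim : Module.finrank K ↥U + (r + 1) = n + 1) :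
    ∃ g ∈ MvPolynomial.homogeneousSubmodule (Fin 2) K k, g ≠ 0 ∧
      ∀ h ∈ MvPolynomial.homogeneousSubmodule (Fin 2) K (n - k), g * h ∈ U := by
  obtain ⟨hfk, hrk⟩ := finrank_homog K k
  obtain ⟨hfm, hrm⟩ := finrank_homog K (n - k)
  obtain ⟨hfn, hrn⟩ := finrank_homog K n
  let U' : Submodule K (MvPolynomial.homogeneousSubmodule (Fin 2) K n) :=
    U.comap (MvPolynomial.homogeneousSubmodule (Fin 2) K n).subtype
  have hU' : Module.finrank K U' = Module.finrank K U :=
    (Submodule.comapSubtypeEquivOfLe hU).finrank_eq
  have hQ : Module.finrank K ((MvPolynomial.homogeneousSubmodule (Fin 2) K n) ⧸ U') + Module.finrank K U' =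
      Module.finrank K (MvPolynomial.homogeneousSubmodule (Fin 2) K n) :=
    Submodule.finrank_quotient_add_finrank U'
  have hmul : ∀ (g : MvPolynomial.homogeneousSubmodule (Fin 2) K k)
      (h : MvPolynomial.homogeneousSubmodule (Fin 2) K (n - k)),
      (g.1 * h.1) ∈ MvPolynomial.homogeneousSubmodule (Fin 2) K n := by
    intro g h
    have := MvPolynomial.IsHomogeneous.mul g.2 h.2
    rwa [Nat.add_sub_cancel' hkn] at this
  let Φ : (MvPolynomial.homogeneousSubmodule (Fin 2) K k) →ₗ[K]
      ((MvPolynomial.homogeneousSubmodule (Fin 2) K (n - k)) →ₗ[K]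
        ((MvPolynomial.homogeneousSubmodule (Fin 2) K n) ⧸ U')) :=
    LinearMap.mk₂ K (fun g h => Submodule.Quotient.mk ⟨g.1 * h.1, hmul g h⟩)
      (by
        intro g1 g2 h
        show Submodule.Quotient.mk _ = Submodule.Quotient.mk _ + Submodule.Quotient.mk _
        rw [← Submodule.Quotient.mk_add]; congr 1; exact Subtype.ext (add_mul _ _ _))
      (by
        intro c g h
        show Submodule.Quotient.mk _ = c • Submodule.Quotient.mk _
        rw [← Submodule.Quotient.mk_smul]; congr 1; exact Subtype.ext (smul_mul_assoc _ _ _))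
      (by
        intro g h1 h2
        show Submodule.Quotient.mk _ = Submodule.Quotient.mk _ + Submodule.Quotient.mk _
        rw [← Submodule.Quotient.mk_add]; congr 1; exact Subtype.ext (mul_add _ _ _))
      (by
        intro c g h
        show Submodule.Quotient.mk _ = c • Submodule.Quotient.mk _
        rw [← Submodule.Quotient.mk_smul]; congr 1; exact Subtype.ext (mul_smul_comm _ _ _))
  have hlt : Module.finrank K ((MvPolynomial.homogeneousSubmodule (Fin 2) K (n - k)) →ₗ[K]
        ((MvPolynomial.homogeneousSubmodule (Fin 2) K n) ⧸ U')) <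
      Module.finrank K (MvPolynomial.homogeneousSubmodule (Fin 2) K k) := by
    rw [Module.finrank_linearMap, hrk, hrm]
    have hq : Module.finrank K ((MvPolynomial.homogeneousSubmodule (Fin 2) K n) ⧸ U') = r + 1 := by
      omega
    rw [hq]
    exact arith n r k hkn hineq
  have hker := LinearMap.ker_ne_bot_of_finrank_lt (f := Φ) hlt
  obtain ⟨g, hg, hg0⟩ := Submodule.exists_mem_ne_zero_of_ne_bot hker
  refine ⟨g.1, g.2, fun h0 => hg0 (Subtype.ext h0), ?_⟩
  intro h hh
  have h1 : Φ g ⟨h, hh⟩ = 0 := by rw [LinearMap.mem_ker.1 hg]; rfl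
  have h2 : (⟨g.1 * h, hmul g ⟨h, hh⟩⟩ : MvPolynomial.homogeneousSubmodule (Fin 2) K n) ∈ U' :=
    (Submodule.Quotient.mk_eq_zero U').1 h1
  exact h2

end Groth.Agent.S16515
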