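import Groth.Statements.S16519
import Mathlib

set_option autoImplicit false
open CubicSurf

namespace Groth.Agent.S16519

noncomputable def FF : Finset (ℤ × ℤ × ℤ × ℤ × ℤ × ℤ × ℤ) :=
  ((Finset.Icc (1:ℤ) 5) ×ˢ (Finset.Icc (0:ℤ) 2) ×ˢ (Finset.Icc (0:ℤ) 2) ×ˢ (Finset.Icc (0:ℤ) 2) ×ˢ
    (Finset.Icc (0:ℤ) 2) ×ˢ (Finset.Icc (0:ℤ) 2) ×ˢ (Finset.Icc (0:ℤ) 2)).filter
    (fun t => 3 * t.1 - (t.2.1 + t.2.2.1 + t.2.2.2.1 + t.2.2.2.2.1 + t.2.2.2.2.2.1 + t.2.2.2.2.2.2) = 3 ∧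
      t.1 ^ 2 - (t.2.1 ^ 2 + t.2.2.1 ^ 2 + t.2.2.2.1 ^ 2 + t.2.2.2.2.1 ^ 2 + t.2.2.2.2.2.1 ^ 2
        + t.2.2.2.2.2.2 ^ 2) = 1)

set_option maxRecDepth 1000000 in
theorem cnt : FF.card = 72 := by
  decide

noncomputable def phi (t : ℤ × ℤ × ℤ × ℤ × ℤ × ℤ × ℤ) : ℤ × (Fin 6 → ℤ) :=
  (t.1, ![t.2.1, t.2.2.1, t.2.2.2.1, t.2.2.2.2.1, t.2.2.2.2.2.1, t.2.2.2.2.2.2])

theorem phi_inj : Function.Injective phi := by
  intro t t' h
  obtain ⟨a, b0, b1, b2, b3, b4, b5⟩ := t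
  obtain ⟨a', c0, c1, c2, c3, c4, c5⟩ := t'
  have h1 : a = a' := congrArg Prod.fst h
  have h2 : (![b0, b1, b2, b3, b4, b5] : Fin 6 → ℤ) = ![c0, c1, c2, c3, c4, c5] :=
    congrArg Prod.snd h
  have e0 : b0 = c0 := congrFun h2 0
  have e1 : b1 = c1 := congrFun h2 1
  have e2 : b2 = c2 := congrFun h2 2
  have e3 : b3 = c3 := congrFun h2 3
  have e4 : b4 = c4 := congrFun h2 4
  have e5 : b5 = c5 := congrFun h2 5
  subst h1 e0 e1 e2 e3 e4 e5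
  rfl

theorem bnd (a x : ℤ) (h : (2 * x - a + 1) ^ 2 ≤ 2 * (a - 1) * (5 - a)) :
    1 ≤ a ∧ a ≤ 5 ∧ 0 ≤ x ∧ x ≤ 2 := by
  have h0 : 0 ≤ 2 * (a - 1) * (5 - a) := le_trans (sq_nonneg _) h
  have ha1 : 1 ≤ a := by nlinarith [sq_nonneg a]
  have ha5 : a ≤ 5 := by nlinarith [sq_nonneg a]
  refine ⟨ha1, ha5, ?_, ?_⟩
  · interval_cases a <;> nlinarith
  · interval_cases a <;> nlinarith

/-- On a smooth cubic surface there are exactly 72 divisor classes L with L² = 1 and L · K = −3. Stated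
in the lattice ℤ^{1,6} with basis l, e_1, …, e_6 (l² = 1, e_i² = −1, K = −3l + Σ e_i): the integer
vectors (a, b) ∈ ℤ × ℤ^6, standing for a·l − Σ b_i e_i, with 3a − Σ b_i = 3 and a² − Σ b_i² = 1 form
a set of exactly 72 elements. -/
theorem result :
    {p : ℤ × (Fin 6 → ℤ) | 3 * p.1 - (Finset.univ.sum fun i => p.2 i) = 3 ∧
        p.1 ^ 2 - (Finset.univ.sum fun i => p.2 i ^ 2) = 1}.ncard = 72 := by
  have hS : {p : ℤ × (Fin 6 → ℤ) | 3 * p.1 - (Finset.univ.sum fun i => p.2 i) = 3 ∧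
        p.1 ^ 2 - (Finset.univ.sum fun i => p.2 i ^ 2) = 1} = ↑(FF.image phi) := by
    ext ⟨a, b⟩
    simp only [Set.mem_setOf_eq, Finset.coe_image, Set.mem_image, Finset.mem_coe]
    constructor
    · rintro ⟨h1, h2⟩
      rw [Fin.sum_univ_six] at h1 h2
      have key : (2 * b 0 - a + 1) ^ 2 + (2 * b 1 - a + 1) ^ 2 + (2 * b 2 - a + 1) ^ 2
          + (2 * b 3 - a + 1) ^ 2 + (2 * b 4 - a + 1) ^ 2 + (2 * b 5 - a + 1) ^ 2
          = 2 * (a - 1) * (5 - a) := by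
        have e1 : b 0 + b 1 + b 2 + b 3 + b 4 + b 5 = 3 * a - 3 := by linarith
        have e2 : b 0 ^ 2 + b 1 ^ 2 + b 2 ^ 2 + b 3 ^ 2 + b 4 ^ 2 + b 5 ^ 2 = a ^ 2 - 1 := by
          linarith
        linear_combination 4 * e2 - 4 * (a - 1) * e1
      have s0 := sq_nonneg (2 * b 0 - a + 1)
      have s1 := sq_nonneg (2 * b 1 - a + 1)
      have s2 := sq_nonneg (2 * b 2 - a + 1)
      have s3 := sq_nonneg (2 * b 3 - a + 1)
      have s4 := sq_nonneg (2 * b 4 - a + 1)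
      have s5 := sq_nonneg (2 * b 5 - a + 1)
      obtain ⟨ha1, ha5, l0, u0⟩ := bnd a (b 0) (by linarith)
      obtain ⟨-, -, l1, u1⟩ := bnd a (b 1) (by linarith)
      obtain ⟨-, -, l2, u2⟩ := bnd a (b 2) (by linarith)
      obtain ⟨-, -, l3, u3⟩ := bnd a (b 3) (by linarith)
      obtain ⟨-, -, l4, u4⟩ := bnd a (b 4) (by linarith)
      obtain ⟨-, -, l5, u5⟩ := bnd a (b 5) (by linarith)
      refine ⟨(a, b 0, b 1, b 2, b 3, b 4, b 5), ?_, ?_⟩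
      · unfold FF
        rw [Finset.mem_filter]
        refine ⟨?_, h1, h2⟩
        simp only [Finset.mem_product, Finset.mem_Icc]
        exact ⟨⟨ha1, ha5⟩, ⟨l0, u0⟩, ⟨l1, u1⟩, ⟨l2, u2⟩, ⟨l3, u3⟩, ⟨l4, u4⟩, ⟨l5, u5⟩⟩
      · unfold phi
        refine Prod.ext rfl ?_
        funext i
        fin_cases i <;> rfl
    · rintro ⟨t, ht, hte⟩
      unfold FF at ht
      rw [Finset.mem_filter] at ht
      obtain ⟨-, h1, h2⟩ := ht
      have ea : a = t.1 := (congrArg Prod.fst hte).symm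
      have eb : b = ![t.2.1, t.2.2.1, t.2.2.2.1, t.2.2.2.2.1, t.2.2.2.2.2.1, t.2.2.2.2.2.2] :=
        (congrArg Prod.snd hte).symm
      subst ea eb
      refine ⟨?_, ?_⟩
      · rw [Fin.sum_univ_six]; exact h1
      · rw [Fin.sum_univ_six]; exact h2
  rw [hS, Set.ncard_coe_finset, Finset.card_image_of_injective _ phi_inj]
  exact cnt

end Groth.Agent.S16519
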