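import Groth.Statements.S16542
import Groth.Statements.S16542
import Mathlib
import Groth.Agent.Lib.helper9.H9_BCInj

set_option autoImplicit false
universe u v
open Disp

namespace Groth.Agent.S16542

/-- Let p be a prime, S → R a faithfully flat homomorphism of commutative rings with p nilpotent in S,
(P, Q, F, V⁻¹) a display over S, and (P_R, Q_R, F_R, V_R⁻¹) a 3n-display structure on P_R = W(R)
⊗_{W(S)} P which is its base change along S → R (Q_R the kernel of P_R → R ⊗_S (P/Q), F_R(w ⊗ x) =
σ(w) ⊗ F x, V_R⁻¹(w ⊗ y) = σ(w) ⊗ V⁻¹ y for y ∈ Q, V_R⁻¹(V(w) ⊗ x) = w ⊗ F x). Then for x ∈ P one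
has x ∈ Q if and only if 1 ⊗ x ∈ Q_R: together with the exactness of 0 → P → P_R ⇉ P_{R ⊗ R} this is
the exactness of 0 → Q → Q_R ⇉ Q_{R ⊗ R} at Q. -/
theorem result (p : ℕ) [Fact p.Prime]
    (S R : Type u) [CommRing S] [CommRing R] [Algebra S R] [Module.FaithfullyFlat S R] (hp : IsNilpotent (p : S))
    (P : Type v) [AddCommGroup P] [Module (WittVector p S) P] (D : W4c1extbt610.Display3n p S P)
    (hD : Dieu.IsDisplay D)
    (DR : W4c1extbt610.Display3n p R (Dieu.BC (WittVector.map (algebraMap S R) : WittVector p S →+* WittVector p R) P))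
    (hDR : Dieu.IsDispBaseChange (algebraMap S R) D DR) (x : P) :
    x ∈ D.Q ↔ Dieu.BC.ι (WittVector.map (algebraMap S R) : WittVector p S →+* WittVector p R) P x ∈ DR.Q := by
  rw [hDR.Q_eq, LinearMap.mem_ker, Dieu.BC.ι_apply, Dieu.bcQuotMap_tmul]
  constructor
  · intro hx
    have : D.Q.mkQ x = 0 := by
      rw [Submodule.mkQ_apply, Submodule.Quotient.mk_eq_zero]; exact hx
    rw [this, Dieu.BC.tmul_zero]
  · intro h
    rw [map_one] at h
    have hm : D.Q.mkQ x = 0 := by
      refine Groth.Agent.H9BC.tmul_one_eq_zero_imp (A := WittVector p S) (S := S) (B := R)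
        (WittVector.constantCoeff : WittVector p S →+* S) ?_ (P ⧸ D.Q) ?_
        ((WittVector.constantCoeff : WittVector p R →+* R).comp
          (WittVector.map (algebraMap S R) : WittVector p S →+* WittVector p R)) ?_ _ h
      · intro s
        exact ⟨WittVector.teichmuller p s, WittVector.teichmuller_coeff_zero p s⟩
      · intro a ha m
        obtain ⟨y, rfl⟩ := Submodule.Quotient.mk_surjective _ m
        rw [← Submodule.Quotient.mk_smul, Submodule.Quotient.mk_eq_zero]
        apply D.IV_smul_le
        have hv : a = WittVector.verschiebung (a.shift 1) := by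
          have := WittVector.eq_iterate_verschiebung (x := a) (n := 1) (by
            intro i hi
            have : i = 0 := by omega
            subst this
            exact ha)
          simpa using this
        rw [hv]
        exact Submodule.smul_mem_smul (W4c1extbt610.verschiebung_mem_IV p S _) Submodule.mem_top
      · intro a
        simp [WittVector.constantCoeff, WittVector.map_coeff]
    rw [Submodule.mkQ_apply, Submodule.Quotient.mk_eq_zero] at hm
    exact hm

end Groth.Agent.S16542
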