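import Groth.Statements.S16597
import Mathlib
import Groth.Agent.H8LG

set_option autoImplicit false
universe u v
open LGRing

namespace Groth.Agent.S16597

/-- Let R be an LG-ring and M a finite locally free (finitely generated projective) R-module of constant
rank. Then M is free. In particular invertible R-modules are trivial: Pic(R) = 0. -/
theorem result {R : Type u} [CommRing R] (hR : LGRing.IsLGRing R)
    (M : Type v) [AddCommGroup M] [Module R M] [Module.Finite R M] [Module.Projective R M] (d : ℕ)
    (hd : ∀ p : PrimeSpectrum R, Module.rankAtStalk M p = d) : Module.Free R M := by
  classical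
  rcases subsingleton_or_nontrivial R with hsub | hnt
  · haveI : Subsingleton M := Module.subsingleton R M
    exact Module.Free.of_subsingleton R M
  · have h : Module.rankAtStalk (R := R) M = Module.rankAtStalk (Fin d → R) := by
      ext p
      rw [hd p, Module.rankAtStalk_eq_finrank_of_free]
      simp
    obtain ⟨e⟩ := H8LG.iso_of_rank_eq hR M (Fin d → R) h
    exact Module.Free.of_equiv e.symm

end Groth.Agent.S16597
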