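import Groth.Statements.S16598
import Mathlib
import Groth.Agent.H8LG

set_option autoImplicit false
universe u v
open LGRing

namespace Groth.Agent.S16598

/-- Let R be an LG-ring and M a faithfully projective R-module (finitely generated projective and
faithful). Then M contains a unimodular element: there are m ∈ M and a linear form f on M with f(m)
= 1 (so R·m is a free direct summand of M of rank one). -/
theorem result {R : Type u} [CommRing R] (hR : LGRing.IsLGRing R)
    (M : Type v) [AddCommGroup M] [Module R M] [Module.Finite R M] [Module.Projective R M] [FaithfulSMul R M] :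
    ∃ (m : M) (f : Module.Dual R M), f m = 1 := by
  classical
  obtain ⟨a, p, i, -, -, hpi⟩ := Module.Finite.exists_comp_eq_id_of_projective R M
  set e := LinearMap.toMatrix' (i ∘ₗ p) with he
  have hpos : ∀ q : PrimeSpectrum R, 0 < Module.rankAtStalk M q := by
    intro q
    rw [Module.rankAtStalk_pos_iff_mem_support, Module.support_eq_zeroLocus,
      Module.annihilator_eq_bot.mpr inferInstance]
    simp
  let G : MvPolynomial (Fin a ⊕ Fin a) R :=
    ∑ j, ∑ l, MvPolynomial.X (Sum.inl j) * MvPolynomial.C (e j l) * MvPolynomial.X (Sum.inr l)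
  have hG : ∀ (S : Type u) [CommRing S] [Algebra R S] (s : Fin a ⊕ Fin a → S),
      MvPolynomial.aeval s G =
        (fun j => s (Sum.inl j)) ⬝ᵥ (e.map (algebraMap R S)).mulVec (fun l => s (Sum.inr l)) := by
    intro S _ _ s
    simp only [G, map_sum, map_mul, MvPolynomial.aeval_X, MvPolynomial.aeval_C, dotProduct,
      Matrix.mulVec, Matrix.map_apply, Finset.mul_sum]
    refine Finset.sum_congr rfl fun j _ => Finset.sum_congr rfl fun l _ => ?_
    ring
  obtain ⟨s, hs⟩ := H8LG.lg_fintype hR G (by
    intro m hm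
    letI := Ideal.Quotient.field m
    have hr : 0 < Module.finrank (R ⧸ m) (LinearMap.range (Matrix.toLin'
        (e.map (algebraMap R (R ⧸ m))))) := by
      rw [he, H8LG.finrank_range_map (R ⧸ m) M p i hpi, H8LG.rank_residue m M]
      exact hpos _
    have hne : LinearMap.range (Matrix.toLin' (e.map (algebraMap R (R ⧸ m)))) ≠ ⊥ := by
      intro h0
      rw [h0] at hr
      simp at hr
    obtain ⟨w, hw, hw0⟩ := (Submodule.ne_bot_iff _).mp hne
    obtain ⟨v, rfl⟩ := hw
    have : ∃ j, Matrix.toLin' (e.map (algebraMap R (R ⧸ m))) v j ≠ 0 := by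
      by_contra hcon
      push Not at hcon
      exact hw0 (funext hcon)
    obtain ⟨j, hj⟩ := this
    refine ⟨Sum.elim (Pi.single j 1) v, ?_⟩
    rw [hG]
    simp only [Sum.elim_inl, Sum.elim_inr]
    rw [single_dotProduct, one_mul]
    rw [Matrix.toLin'_apply] at hj
    exact isUnit_iff_ne_zero.mpr hj)
  rw [hG] at hs
  have hmap : e.map (algebraMap R R) = e := by ext j k; simp
  rw [hmap] at hs
  obtain ⟨u, hu⟩ := hs
  set x : Fin a → R := fun l => s (Sum.inr l) with hx
  set y : Fin a → R := fun j => s (Sum.inl j) with hy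
  have hex : e.mulVec x = i (p x) := by
    rw [← Matrix.toLin'_apply, he, Matrix.toLin'_toMatrix']
    rfl
  let f : Module.Dual R M :=
    ((u⁻¹ : Rˣ) : R) • ∑ j, y j • ((LinearMap.proj (R := R) (φ := fun _ : Fin a => R) j).comp i)
  refine ⟨p x, f, ?_⟩
  have h1 : f (p x) = ((u⁻¹ : Rˣ) : R) * (y ⬝ᵥ i (p x)) := by
    simp only [f, LinearMap.smul_apply, LinearMap.sum_apply, LinearMap.comp_apply,
      LinearMap.proj_apply, smul_eq_mul, dotProduct]
  rw [h1, ← hex, ← hu]
  exact Units.inv_mul u

end Groth.Agent.S16598
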