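import Groth.Statements.S16599
import Mathlib
import Groth.Agent.H8LG

set_option autoImplicit false
open AlgebraicGeometry
universe u
open LGRing

namespace Groth.Agent.S16599

/-- Let R be an LG-ring, n ≥ 0, and U an open quasi-compact subscheme of affine n-space Spec R[X₁, …,
Xₙ]. If U has an (R ⧸ m)-valued point over R for every maximal ideal m of R, then U has an R-valued
point: some n-tuple x over R defines a section Spec R ⟶ Spec R[X₁, …, Xₙ] with image inside U. -/
theorem result {R : Type u} [CommRing R] (hR : LGRing.IsLGRing R)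
    (n : ℕ) (U : (Spec (CommRingCat.of (MvPolynomial (Fin n) R))).Opens)
    (hU : IsCompact (U : Set ↥(Spec (CommRingCat.of (MvPolynomial (Fin n) R)))))
    (h : ∀ (m : Ideal R) [m.IsMaximal], ∃ x : Fin n → R ⧸ m,
      Set.range (Spec.map (CommRingCat.ofHom (MvPolynomial.eval₂Hom (Ideal.Quotient.mk m) x))).base ⊆
        (U : Set ↥(Spec (CommRingCat.of (MvPolynomial (Fin n) R))))) :
    ∃ x : Fin n → R, Set.range (Spec.map (CommRingCat.ofHom (MvPolynomial.eval x))).base ⊆
      (U : Set ↥(Spec (CommRingCat.of (MvPolynomial (Fin n) R)))) := by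
  classical
  let U' : Set (PrimeSpectrum (MvPolynomial (Fin n) R)) :=
    (U : Set ↥(Spec (CommRingCat.of (MvPolynomial (Fin n) R))))
  obtain ⟨t, ht⟩ := PrimeSpectrum.isCompact_isOpen_iff.mp
    (show IsCompact U' ∧ IsOpen U' from ⟨hU, U.isOpen⟩)
  let g : Fin t.card → MvPolynomial (Fin n) R := fun j => (t.equivFin.symm j).1
  have hg : ∀ f ∈ t, ∃ j, g j = f := by
    intro f hf
    refine ⟨t.equivFin ⟨f, hf⟩, ?_⟩
    simp [g]
  have hgt : ∀ j, g j ∈ t := fun j => (t.equivFin.symm j).2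
  let G : MvPolynomial (Fin n ⊕ Fin t.card) R :=
    ∑ j, MvPolynomial.X (Sum.inr j) * MvPolynomial.rename Sum.inl (g j)
  have hG : ∀ (S : Type u) [CommRing S] [Algebra R S] (s : Fin n ⊕ Fin t.card → S),
      MvPolynomial.aeval s G = ∑ j, s (Sum.inr j) * MvPolynomial.aeval (s ∘ Sum.inl) (g j) := by
    intro S _ _ s
    simp only [G, map_sum, map_mul, MvPolynomial.aeval_X, MvPolynomial.aeval_rename]
  obtain ⟨s, hs⟩ := H8LG.lg_fintype hR G (by
    intro m hm
    letI := Ideal.Quotient.field m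
    obtain ⟨x, hx⟩ := h m
    set φ := MvPolynomial.eval₂Hom (Ideal.Quotient.mk m) x with hφ
    have hq : PrimeSpectrum.comap φ ⟨⊥, Ideal.isPrime_bot⟩ ∈ U' :=
      hx ⟨(⟨⊥, Ideal.isPrime_bot⟩ : PrimeSpectrum (R ⧸ m)), rfl⟩
    rw [← ht, Set.mem_compl_iff, PrimeSpectrum.mem_zeroLocus, Set.not_subset] at hq
    obtain ⟨f, hft, hfq⟩ := hq
    obtain ⟨j, rfl⟩ := hg f hft
    have hne : φ (g j) ≠ 0 := by
      intro h0
      apply hfq
      change g j ∈ Ideal.comap φ ⊥
      rw [Ideal.mem_comap, h0]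
      exact Ideal.zero_mem _
    refine ⟨Sum.elim x (Pi.single j 1), ?_⟩
    rw [hG]
    simp only [Sum.elim_inr, Sum.elim_comp_inl]
    rw [Finset.sum_eq_single j]
    · rw [Pi.single_eq_same, one_mul]
      have : MvPolynomial.aeval x (g j) = φ (g j) := by
        rw [hφ, MvPolynomial.aeval_def]
        rfl
      rw [this]
      exact isUnit_iff_ne_zero.mpr hne
    · intro l _ hl
      rw [Pi.single_eq_of_ne hl, zero_mul]
    · intro hj; exact absurd (Finset.mem_univ j) hj)
  rw [hG] at hs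
  refine ⟨s ∘ Sum.inl, ?_⟩
  rintro _ ⟨p, rfl⟩
  change PrimeSpectrum.comap (MvPolynomial.eval (s ∘ Sum.inl)) p ∈ U'
  rw [← ht, Set.mem_compl_iff, PrimeSpectrum.mem_zeroLocus]
  intro hsub
  have hmem : ∑ j, s (Sum.inr j) * MvPolynomial.aeval (s ∘ Sum.inl) (g j) ∈ p.asIdeal := by
    apply Ideal.sum_mem
    intro j _
    apply Ideal.mul_mem_left
    have := hsub (hgt j)
    exact this
  exact p.isPrime.ne_top (Ideal.eq_top_of_isUnit_mem _ hmem hs)

end Groth.Agent.S16599
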