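import Groth.Statements.S16644
import Mathlib

set_option autoImplicit false
open QuadZ

namespace Groth.Agent.S16644

/-- For odd n, the discriminant of the universal quadratic form Σ_{i ≤ j} A_{ij} x_i x_j in n variables
(variables A_{ij} indexed by unordered pairs), i.e. the determinant of the symmetric matrix with
diagonal entries 2 A_{ii} and off-diagonal entries A_{ij}, is divisible by 2 in the integral
polynomial ring ℤ[A_{ij}] (so the half-discriminant is an integral polynomial). -/
theorem result (n : ℕ) (hn : Odd n) :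
    (2 : MvPolynomial (Sym2 (Fin n)) ℤ) ∣
      (Matrix.of fun i j : Fin n =>
        if i = j then 2 * MvPolynomial.X (R := ℤ) (σ := Sym2 (Fin n)) (Sym2.mk i j)
        else MvPolynomial.X (R := ℤ) (σ := Sym2 (Fin n)) (Sym2.mk i j)).det := by
  classical
  have h2 : (2 : MvPolynomial (Sym2 (Fin n)) ℤ) = MvPolynomial.C (2 : ℤ) := by simp
  suffices h : MvPolynomial.C (2 : ℤ) ∣ (Matrix.of fun i j : Fin n =>
        if i = j then 2 * MvPolynomial.X (R := ℤ) (σ := Sym2 (Fin n)) (Sym2.mk i j)
        else MvPolynomial.X (R := ℤ) (σ := Sym2 (Fin n)) (Sym2.mk i j)).det by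
    rw [h2]; exact h
  rw [MvPolynomial.C_dvd_iff_map_hom_eq_zero (Int.castRingHom (ZMod 2)) 2
    (fun r' => by
      have := ZMod.intCast_zmod_eq_zero_iff_dvd r' 2
      simpa using this)]
  rw [RingHom.map_det]
  set M' : Matrix (Fin n) (Fin n) (MvPolynomial (Sym2 (Fin n)) (ZMod 2)) :=
    (MvPolynomial.map (Int.castRingHom (ZMod 2))).mapMatrix
      (Matrix.of fun i j : Fin n =>
        if i = j then 2 * MvPolynomial.X (R := ℤ) (σ := Sym2 (Fin n)) (Sym2.mk i j)
        else MvPolynomial.X (R := ℤ) (σ := Sym2 (Fin n)) (Sym2.mk i j)) with hM'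
  have hdiag : ∀ i, M' i i = 0 := by
    intro i
    simp only [hM', RingHom.mapMatrix_apply, Matrix.map_apply, Matrix.of_apply, if_true, map_mul,
      MvPolynomial.map_X]
    have : (MvPolynomial.map (Int.castRingHom (ZMod 2))) (2 : MvPolynomial (Sym2 (Fin n)) ℤ) = 0 := by
      rw [h2, MvPolynomial.map_C]
      have : (Int.castRingHom (ZMod 2)) 2 = 0 := by decide
      rw [this, map_zero]
    rw [this, zero_mul]
  have hsymm : ∀ i j, M' i j = M' j i := by
    intro i j
    simp only [hM', RingHom.mapMatrix_apply, Matrix.map_apply, Matrix.of_apply]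
    by_cases h : i = j
    · subst h; rfl
    · have h' : ¬ j = i := fun h'' => h h''.symm
      rw [if_neg h, if_neg h', Sym2.eq_swap]
  rw [Matrix.det_apply]
  haveI : CharP (MvPolynomial (Sym2 (Fin n)) (ZMod 2)) 2 := inferInstance
  apply Finset.sum_ninvolution (fun σ : Equiv.Perm (Fin n) => σ⁻¹)
  · intro σ
    have : (Equiv.Perm.sign σ⁻¹ • ∏ i, M' (σ⁻¹ i) i) = Equiv.Perm.sign σ • ∏ i, M' (σ i) i := by
      rw [Equiv.Perm.sign_inv]
      congr 1
      rw [← Equiv.prod_comp σ]
      apply Finset.prod_congr rfl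
      intro i _
      simp only [Equiv.Perm.coe_inv, Equiv.symm_apply_apply]
      exact hsymm _ _
    rw [this]
    exact CharTwo.add_self_eq_zero _
  · intro σ hne hσ
    apply hne
    have hσ2 : σ ^ 2 ^ 1 = 1 := by
      rw [pow_one, sq]
      nth_rewrite 1 [← hσ]
      exact inv_mul_cancel σ
    haveI : Fact (Nat.Prime 2) := ⟨Nat.prime_two⟩
    obtain ⟨a, ha⟩ := Equiv.Perm.exists_fixed_point_of_prime (p := 2) (n := 1)
      (by rw [Fintype.card_fin]; exact fun h => (Nat.not_even_iff_odd.2 hn) (even_iff_two_dvd.2 h)) hσ2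
    have : ∏ i, M' (σ i) i = 0 := by
      apply Finset.prod_eq_zero (Finset.mem_univ a)
      rw [ha]; exact hdiag a
    rw [this, smul_zero]
  · intro σ; exact Finset.mem_univ _
  · intro σ; exact inv_inv σ

end Groth.Agent.S16644
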