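import Groth.Statements.S16661
import Mathlib

set_option autoImplicit false
universe v u
open TensorProduct
open Conn

namespace Groth.Agent.S16661

/-- Let B be an A-algebra with a receptacle of differentials (Ω, δ), Ω a finite free B-module (the
affine-local form of differentials locally free of finite type), let M be a finite free B-module
(the local form of a vector bundle) with a connection ∇ : M → M ⊗ Ω, and let ∇_E be the induced
connection on the B-linear endomorphisms of M, the one with (ev_m ⊗ 1)(∇_E φ) = ∇(φ m) − (φ ⊗ 1)(∇
m). Give B the connection b ↦ 1 ⊗ δ b. Then the trace map End_B(M) → B is horizontal: 1 ⊗ δ(tr φ) =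
(tr ⊗ 1)(∇_E φ) for every endomorphism φ. -/
theorem result {A : Type v} {B Ω M : Type u}
    [CommRing A] [CommRing B] [Algebra A B]
    [AddCommGroup Ω] [Module B Ω] [Module A Ω] [IsScalarTower A B Ω] [Module.Finite B Ω] [Module.Free B Ω]
    [AddCommGroup M] [Module B M] [Module A M] [IsScalarTower A B M] [Module.Finite B M] [Module.Free B M]
    (δ : Derivation A B Ω) (nabla : M →ₗ[A] M ⊗[B] Ω) (hc : Conn.IsConn δ nabla)
    (nablaE : (M →ₗ[B] M) →ₗ[A] (M →ₗ[B] M) ⊗[B] Ω) (hE : Conn.IsHomConn nabla nabla nablaE) :
    Conn.IsHorizontal nablaE (Conn.triv δ) (LinearMap.trace B M) := by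
  classical
  intro φ
  let b := Module.Free.chooseBasis B M
  -- connection matrix
  let W : Module.Free.ChooseBasisIndex B M → Module.Free.ChooseBasisIndex B M → B ⊗[B] Ω :=
    fun i j => TensorProduct.map (b.coord i) LinearMap.id (nabla (b j))
  have htr : ∀ χ : M →ₗ[B] M, LinearMap.trace B M χ = ∑ i, b.coord i (χ (b i)) := by
    intro χ
    rw [LinearMap.trace_eq_matrix_trace B b, Matrix.trace]
    apply Finset.sum_congr rfl
    intro i _
    rw [Matrix.diag_apply, LinearMap.toMatrix_apply]
    rfl
  have hT : ∀ s : (M →ₗ[B] M) ⊗[B] Ω, TensorProduct.map (LinearMap.trace B M) LinearMap.id s =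
      ∑ i, TensorProduct.map (b.coord i) LinearMap.id
        (TensorProduct.map (LinearMap.applyₗ (b i)) LinearMap.id s) := by
    intro s
    induction s using TensorProduct.induction_on with
    | zero => simp
    | add s s' hs hs' =>
      rw [map_add, hs, hs', ← Finset.sum_add_distrib]
      apply Finset.sum_congr rfl
      intro i _
      rw [map_add, map_add]
    | tmul χ ω =>
      rw [TensorProduct.map_tmul, htr, TensorProduct.sum_tmul]
      rfl
  have h4 : ∀ (x : M) (i : Module.Free.ChooseBasisIndex B M),
      TensorProduct.map (b.coord i) LinearMap.id (nabla x) =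
        ∑ j, b.repr x j • W i j + (1 : B) ⊗ₜ[B] δ (b.repr x i) := by
    intro x i
    conv_lhs => rw [← b.sum_repr x]
    rw [map_sum, map_sum]
    have : ∀ j, TensorProduct.map (b.coord i) LinearMap.id (nabla (b.repr x j • b j)) =
        b.repr x j • W i j + (b.coord i (b j)) ⊗ₜ[B] δ (b.repr x j) := by
      intro j
      rw [hc, map_add, map_smul, TensorProduct.map_tmul]
      rfl
    rw [Finset.sum_congr rfl (fun j _ => this j), Finset.sum_add_distrib]
    congr 1
    rw [Finset.sum_eq_single i]
    · rw [Module.Basis.coord_apply, Module.Basis.repr_self, Finsupp.single_eq_same]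
    · intro j _ hji
      rw [Module.Basis.coord_apply, Module.Basis.repr_self, Finsupp.single_eq_of_ne hji.symm,
        TensorProduct.zero_tmul]
    · intro h; exact absurd (Finset.mem_univ i) h
  have h5 : ∀ (s : M ⊗[B] Ω) (i : Module.Free.ChooseBasisIndex B M),
      TensorProduct.map (b.coord i) LinearMap.id (TensorProduct.map φ LinearMap.id s) =
        ∑ j, b.repr (φ (b j)) i • TensorProduct.map (b.coord j) LinearMap.id s := by
    intro s i
    induction s using TensorProduct.induction_on with
    | zero => simp
    | add s s' hs hs' =>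
      rw [map_add, map_add, hs, hs', ← Finset.sum_add_distrib]
      apply Finset.sum_congr rfl
      intro j _
      rw [map_add, smul_add]
    | tmul x ω =>
      rw [TensorProduct.map_tmul, TensorProduct.map_tmul]
      have : b.coord i (φ x) = ∑ j, b.repr (φ (b j)) i * b.coord j x := by
        conv_lhs => rw [← b.sum_repr x]
        rw [map_sum, map_sum]
        apply Finset.sum_congr rfl
        intro j _
        rw [map_smul, map_smul, smul_eq_mul, mul_comm]
        rfl
      rw [this, TensorProduct.sum_tmul]
      apply Finset.sum_congr rfl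
      intro j _
      rw [TensorProduct.map_tmul, TensorProduct.smul_tmul', smul_eq_mul]
      rfl
  rw [hT]
  have h6 : ∀ i, TensorProduct.map (b.coord i) LinearMap.id
        (TensorProduct.map (LinearMap.applyₗ (b i)) LinearMap.id (nablaE φ)) =
      (∑ j, b.repr (φ (b i)) j • W i j + (1 : B) ⊗ₜ[B] δ (b.repr (φ (b i)) i)) -
        ∑ j, b.repr (φ (b j)) i • W j i := by
    intro i
    rw [hE, map_sub, h4, h5]
  rw [Finset.sum_congr rfl (fun i _ => h6 i), Finset.sum_sub_distrib, Finset.sum_add_distrib,
    Finset.sum_comm (f := fun i j => b.repr (φ (b j)) i • W j i)]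
  rw [add_sub_assoc, add_sub_cancel, Conn.triv_apply, htr, map_sum, TensorProduct.tmul_sum]
  rfl

end Groth.Agent.S16661
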