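import Groth.Statements.S16663
import Mathlib
import Groth.Agent.H8Conn
import Groth.Agent.S16661

set_option autoImplicit false
universe v u
open TensorProduct
open Conn

namespace Groth.Agent.S16663

/-- Let B be an A-algebra with a receptacle of differentials (Ω, δ), Ω a finite free B-module (the local
form of a weakly smooth scheme), and let M be a finitely ℤ-graded B-module presented as a finite
family of finite free B-modules M_i with integer degrees deg i (the local form of a graded vector
bundle), with total module Π_i M_i. Let ∇ be a connection on Π_i M_i preserving the grading, in the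
sense that (pr_j ⊗ 1)(∇(ι_i m)) = 0 for m ∈ M_i whenever deg i ≠ deg j, and let ∇_E be the induced
connection on the B-linear endomorphisms, the one with (ev_m ⊗ 1)(∇_E φ) = ∇(φ m) − (φ ⊗ 1)(∇ m).
Give B the connection b ↦ 1 ⊗ δ b. Then the supertrace, φ ↦ tr(ε ∘ φ) with ε = Σ_i (−1)^{deg i} ι_i
∘ pr_i the grading involution, is a horizontal map End_B(Π_i M_i) → B. -/
theorem result {A : Type v} {B Ω ι : Type u}
    [CommRing A] [CommRing B] [Algebra A B]
    [AddCommGroup Ω] [Module B Ω] [Module A Ω] [IsScalarTower A B Ω] [Module.Finite B Ω] [Module.Free B Ω]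
    [Fintype ι] [DecidableEq ι] (deg : ι → ℤ) (M : ι → Type u)
    [∀ i, AddCommGroup (M i)] [∀ i, Module B (M i)] [∀ i, Module A (M i)] [∀ i, IsScalarTower A B (M i)]
    [∀ i, Module.Free B (M i)] [∀ i, Module.Finite B (M i)]
    (δ : Derivation A B Ω) (nabla : (Π k, M k) →ₗ[A] (Π k, M k) ⊗[B] Ω) (hc : Conn.IsConn δ nabla)
    (hgr : ∀ i j : ι, deg i ≠ deg j → ∀ m : M i,
      TensorProduct.map (LinearMap.proj j : (Π k, M k) →ₗ[B] M j) LinearMap.id (nabla (LinearMap.single B M i m)) = 0)
    (nablaE : ((Π k, M k) →ₗ[B] (Π k, M k)) →ₗ[A] ((Π k, M k) →ₗ[B] (Π k, M k)) ⊗[B] Ω)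
    (hE : Conn.IsHomConn nabla nabla nablaE) :
    Conn.IsHorizontal nablaE (Conn.triv δ)
      (LinearMap.trace B (Π k, M k) ∘ₗ LinearMap.llcomp B (Π k, M k) (Π k, M k) (Π k, M k)
        (∑ i : ι, (LinearMap.single B M i) ∘ₗ (((-1 : B) ^ (deg i).natAbs) • (LinearMap.proj i : (Π k, M k) →ₗ[B] M i)))) := by
  classical
  let s : ι → B := fun i => (-1 : B) ^ (deg i).natAbs
  have hδs : ∀ i, δ (s i) = 0 := by
    intro i
    show δ ((-1 : B) ^ (deg i).natAbs) = 0
    rcases neg_one_pow_eq_or B (deg i).natAbs with h | h
    · rw [h]; exact δ.map_one_eq_zero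
    · rw [h, map_neg, δ.map_one_eq_zero, neg_zero]
  have hss : ∀ i j, deg i = deg j → s i = s j := by
    intro i j h
    show (-1 : B) ^ (deg i).natAbs = (-1 : B) ^ (deg j).natAbs
    rw [h]
  set ε : (Π k, M k) →ₗ[B] (Π k, M k) := ∑ i : ι, (LinearMap.single B M i) ∘ₗ
    (((-1 : B) ^ (deg i).natAbs) • (LinearMap.proj i : (Π k, M k) →ₗ[B] M i)) with hε
  have hεx : ∀ x : Π k, M k, ε x = ∑ j, s j • LinearMap.single B M j (x j) := by
    intro x
    rw [hε, LinearMap.sum_apply]
    apply Finset.sum_congr rfl
    intro j _
    rw [LinearMap.comp_apply, LinearMap.smul_apply, map_smul]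
    rfl
  have hid : ∀ x : Π k, M k, x = ∑ j, LinearMap.single B M j (x j) := by
    intro x
    exact (Finset.univ_sum_single x).symm
  have hεt : ∀ t : (Π k, M k) ⊗[B] Ω, TensorProduct.map ε LinearMap.id t =
      ∑ j, s j • TensorProduct.map (LinearMap.single B M j) LinearMap.id
        (TensorProduct.map (LinearMap.proj j : (Π k, M k) →ₗ[B] M j) LinearMap.id t) := by
    intro t
    induction t using TensorProduct.induction_on with
    | zero => simp
    | add t t' ht ht' =>
      rw [map_add, ht, ht', ← Finset.sum_add_distrib]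
      apply Finset.sum_congr rfl
      intro j _
      rw [map_add, map_add, smul_add]
    | tmul x ω =>
      rw [TensorProduct.map_tmul, hεx, TensorProduct.sum_tmul]
      apply Finset.sum_congr rfl
      intro j _
      rw [TensorProduct.map_tmul, TensorProduct.map_tmul, TensorProduct.smul_tmul']
      rfl
  have hidt : ∀ t : (Π k, M k) ⊗[B] Ω, t =
      ∑ j, TensorProduct.map (LinearMap.single B M j) LinearMap.id
        (TensorProduct.map (LinearMap.proj j : (Π k, M k) →ₗ[B] M j) LinearMap.id t) := by
    intro t
    induction t using TensorProduct.induction_on with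
    | zero => simp
    | add t t' ht ht' =>
      conv_lhs => rw [ht, ht', ← Finset.sum_add_distrib]
      apply Finset.sum_congr rfl
      intro j _
      rw [map_add, map_add]
    | tmul x ω =>
      conv_lhs => rw [hid x, TensorProduct.sum_tmul]
      apply Finset.sum_congr rfl
      intro j _
      rw [TensorProduct.map_tmul, TensorProduct.map_tmul]
      rfl
  -- ε is horizontal
  have hεh : ∀ x : Π k, M k, nabla (ε x) = TensorProduct.map ε LinearMap.id (nabla x) := by
    intro x
    have h1 : ∀ (i : ι) (m : M i), nabla (ε (LinearMap.single B M i m)) =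
        TensorProduct.map ε LinearMap.id (nabla (LinearMap.single B M i m)) := by
      intro i m
      have e1 : ε (LinearMap.single B M i m) = s i • LinearMap.single B M i m := by
        rw [hεx, Finset.sum_eq_single i]
        · congr 2
          exact Pi.single_eq_same i m
        · intro j _ hji
          have : (LinearMap.single B M i m) j = 0 := Pi.single_eq_of_ne hji m
          rw [this, map_zero, smul_zero]
        · intro h; exact absurd (Finset.mem_univ i) h
      rw [e1, hc, hδs, TensorProduct.tmul_zero, add_zero, hεt]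
      conv_lhs => rw [hidt (nabla (LinearMap.single B M i m)), Finset.smul_sum]
      apply Finset.sum_congr rfl
      intro j _
      by_cases hd : deg i = deg j
      · rw [hss i j hd]
      · rw [hgr i j hd m, map_zero, smul_zero, smul_zero]
    conv_lhs => rw [hid x, map_sum, map_sum]
    conv_rhs => rw [hid x, map_sum, map_sum]
    apply Finset.sum_congr rfl
    intro j _
    exact h1 j (x j)
  -- left composition with ε is horizontal
  have hL : ∀ φ : (Π k, M k) →ₗ[B] (Π k, M k), nablaE (ε ∘ₗ φ) =
      TensorProduct.map (LinearMap.llcomp B (Π k, M k) (Π k, M k) (Π k, M k) ε) LinearMap.id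
        (nablaE φ) := by
    intro φ
    apply H8Conn.tensor_hom_ext
    intro m
    have h2 : ∀ t : ((Π k, M k) →ₗ[B] (Π k, M k)) ⊗[B] Ω,
        TensorProduct.map (LinearMap.applyₗ m) LinearMap.id
          (TensorProduct.map (LinearMap.llcomp B (Π k, M k) (Π k, M k) (Π k, M k) ε) LinearMap.id t) =
        TensorProduct.map ε LinearMap.id (TensorProduct.map (LinearMap.applyₗ m) LinearMap.id t) := by
      intro t
      induction t using TensorProduct.induction_on with
      | zero => simp
      | add t t' ht ht' => rw [map_add, map_add, map_add, map_add, ht, ht']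
      | tmul χ ω => rfl
    have h3 : ∀ t : (Π k, M k) ⊗[B] Ω, TensorProduct.map (ε ∘ₗ φ) LinearMap.id t =
        TensorProduct.map ε LinearMap.id (TensorProduct.map φ LinearMap.id t) := by
      intro t
      induction t using TensorProduct.induction_on with
      | zero => simp
      | add t t' ht ht' => rw [map_add, map_add, map_add, ht, ht']
      | tmul χ ω => rfl
    rw [h2, hE, hE, map_sub, h3, LinearMap.comp_apply, hεh]
  have htr := Groth.Agent.S16661.result δ nabla hc nablaE hE
  intro φ
  have h4 : ∀ t : ((Π k, M k) →ₗ[B] (Π k, M k)) ⊗[B] Ω,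
      TensorProduct.map (LinearMap.trace B (Π k, M k) ∘ₗ
        LinearMap.llcomp B (Π k, M k) (Π k, M k) (Π k, M k) ε) LinearMap.id t =
      TensorProduct.map (LinearMap.trace B (Π k, M k)) LinearMap.id
        (TensorProduct.map (LinearMap.llcomp B (Π k, M k) (Π k, M k) (Π k, M k) ε) LinearMap.id t) := by
    intro t
    induction t using TensorProduct.induction_on with
    | zero => simp
    | add t t' ht ht' => rw [map_add, map_add, map_add, ht, ht']
    | tmul χ ω => rfl
  rw [h4, ← hL φ, ← htr (ε ∘ₗ φ)]
  rfl

end Groth.Agent.S16663
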