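import Groth.Statements.S16688
import Groth.Statements.S16688
import Mathlib
import Groth.Agent.Lib.helper9.H9_Antipode
open scoped TensorProduct

set_option autoImplicit false
universe u v w
open ComodSub

namespace Groth.Agent.S16688

/-- Let `k` be a commutative ring, `A` a commutative Hopf algebra over `k` with antipode `S`, and `M` a
`k`-module with a left `A`-comodule structure `m ↦ Σ m₋₁ ⊗ m₀`. Then the map `M → M ⊗ A`, `m ↦ Σ m₀
⊗ S(m₋₁)`, is coassociative and counital: it is the coaction of a right `A`-comodule structure on
`M` (a right structure is determined by its coaction, so this structure is unique). -/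
theorem result (k : Type u) [CommRing k]
    (A : Type v) [CommRing A] [HopfAlgebra k A]
    (M : Type w) [AddCommGroup M] [Module k M] (l : ComodSub.LComod k A M) :
    ∃ c : HopfRep.Comod k A M, c.coact = ComodSub.rcoactOfLeft l := by
  classical
  set lam : M →ₗ[k] A ⊗[k] M := l.coact with hlam
  set S : A →ₗ[k] A := HopfAlgebraStruct.antipode (R := k) (A := A) with hS
  set Δ : A →ₗ[k] A ⊗[k] A := CoalgebraStruct.comul (R := k) (A := A) with hΔ
  set R : M →ₗ[k] M ⊗[k] A := ComodSub.rcoactOfLeft l with hR
  have hRdef : ∀ m, R m = TensorProduct.comm k A M (S.rTensor M (lam m)) := fun m => rfl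
  -- the reversing map
  let Φ : A ⊗[k] (A ⊗[k] M) →ₗ[k] M ⊗[k] (A ⊗[k] A) :=
    ((TensorProduct.map S S ∘ₗ (TensorProduct.comm k A A).toLinearMap).lTensor M) ∘ₗ
      (TensorProduct.comm k (A ⊗[k] A) M).toLinearMap ∘ₗ
        (TensorProduct.assoc k A A M).symm.toLinearMap
  have hΦ : ∀ (m : M) (a b : A), Φ (a ⊗ₜ[k] (b ⊗ₜ[k] m)) = m ⊗ₜ[k] (S b ⊗ₜ[k] S a) := by
    intro m a b
    simp [Φ]
  have h1 : ∀ x : A ⊗[k] M,
      TensorProduct.assoc k M A A ((R.rTensor A) (TensorProduct.comm k A M (S.rTensor M x))) =
      Φ (lam.lTensor A x) := by
    intro x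
    induction x using TensorProduct.induction_on with
    | zero => simp
    | tmul a m =>
      rw [LinearMap.rTensor_tmul, TensorProduct.comm_tmul, LinearMap.rTensor_tmul,
        LinearMap.lTensor_tmul, hRdef]
      generalize lam m = y
      induction y using TensorProduct.induction_on with
      | zero => simp
      | tmul b m' =>
        rw [LinearMap.rTensor_tmul, TensorProduct.comm_tmul, TensorProduct.assoc_tmul, hΦ]
      | add y z hy hz =>
        simp only [map_add, TensorProduct.tmul_add, TensorProduct.add_tmul, hy, hz]
    | add x y hx hy => simp only [map_add, hx, hy]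
  have h2 : ∀ x : A ⊗[k] M,
      (Δ.lTensor M) (TensorProduct.comm k A M (S.rTensor M x)) =
      Φ (TensorProduct.assoc k A A M (Δ.rTensor M x)) := by
    intro x
    induction x using TensorProduct.induction_on with
    | zero => simp
    | tmul a m =>
      rw [LinearMap.rTensor_tmul, TensorProduct.comm_tmul, LinearMap.lTensor_tmul,
        LinearMap.rTensor_tmul]
      have h3 : Δ (S a) = TensorProduct.map S S (TensorProduct.comm k A A (Δ a)) :=
        H9_Antipode.comul_antipode (k := k) a
      rw [h3]
      generalize Δ a = z
      induction z using TensorProduct.induction_on with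
      | zero => simp
      | tmul p q =>
        rw [TensorProduct.assoc_tmul, hΦ, TensorProduct.comm_tmul, TensorProduct.map_tmul]
      | add y z hy hz =>
        simp only [map_add, TensorProduct.tmul_add, TensorProduct.add_tmul, hy, hz]
    | add x y hx hy => simp only [map_add, hx, hy]
  refine ⟨{ coact := R, coassoc := ?_, counit_comp := ?_ }, rfl⟩
  · apply LinearMap.ext
    intro m
    simp only [LinearMap.comp_apply, LinearEquiv.coe_coe]
    rw [hRdef, h1, h2]
    have h4 := LinearMap.congr_fun l.coassoc m
    simp only [LinearMap.comp_apply, LinearEquiv.coe_coe] at h4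
    rw [h4]
  · apply LinearMap.ext
    intro m
    simp only [LinearMap.comp_apply]
    rw [hRdef]
    have h5 := LinearMap.congr_fun l.counit_comp m
    simp only [LinearMap.comp_apply] at h5
    have h6 : ∀ x : A ⊗[k] M, (CoalgebraStruct.counit (R := k) (A := A)).lTensor M
        (TensorProduct.comm k A M (S.rTensor M x)) =
        TensorProduct.comm k k M ((CoalgebraStruct.counit (R := k) (A := A)).rTensor M x) := by
      intro x
      induction x using TensorProduct.induction_on with
      | zero => simp
      | tmul a m => simp [S]
      | add x y hx hy => simp only [map_add, hx, hy]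
    rw [h6, h5]
    simp

end Groth.Agent.S16688
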