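import Groth.Statements.S16689
import Groth.Statements.S16689
import Mathlib
import Groth.Agent.Lib.helper9.H9_Antipode
open scoped TensorProduct

set_option autoImplicit false
universe u v w
open ComodSub

namespace Groth.Agent.S16689

/-- Let `k` be a commutative ring, `A` a commutative Hopf algebra over `k` with antipode `S`, and `M` a
`k`-module with a right `A`-comodule structure `m ↦ Σ m₀ ⊗ m₁`. Then the map `M → A ⊗ M`, `m ↦ Σ
S(m₁) ⊗ m₀`, is coassociative and counital: it is the coaction of a left `A`-comodule structure on
`M` (a left structure is determined by its coaction, so this structure is unique). -/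
theorem result (k : Type u) [CommRing k]
    (A : Type v) [CommRing A] [HopfAlgebra k A]
    (M : Type w) [AddCommGroup M] [Module k M] (c : HopfRep.Comod k A M) :
    ∃ l : ComodSub.LComod k A M, l.coact = ComodSub.lcoactOfRight c := by
  classical
  set ρ : M →ₗ[k] M ⊗[k] A := c.coact with hρ
  set S : A →ₗ[k] A := HopfAlgebraStruct.antipode (R := k) (A := A) with hS
  set Δ : A →ₗ[k] A ⊗[k] A := CoalgebraStruct.comul (R := k) (A := A) with hΔ
  set L : M →ₗ[k] A ⊗[k] M := ComodSub.lcoactOfRight c with hL
  have hLdef : ∀ m, L m = TensorProduct.comm k M A (S.lTensor M (ρ m)) := fun m => rfl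
  -- the reversing map
  let Φ : M ⊗[k] (A ⊗[k] A) →ₗ[k] A ⊗[k] (A ⊗[k] M) :=
    (TensorProduct.assoc k A A M).toLinearMap ∘ₗ
      ((TensorProduct.map S S ∘ₗ (TensorProduct.comm k A A).toLinearMap).rTensor M) ∘ₗ
        (TensorProduct.comm k M (A ⊗[k] A)).toLinearMap
  have hΦ : ∀ (m : M) (a b : A), Φ (m ⊗ₜ[k] (a ⊗ₜ[k] b)) = S b ⊗ₜ[k] (S a ⊗ₜ[k] m) := by
    intro m a b
    simp [Φ]
  have h1 : ∀ x : M ⊗[k] A, (L.lTensor A) (TensorProduct.comm k M A (S.lTensor M x)) =
      Φ (TensorProduct.assoc k M A A (ρ.rTensor A x)) := by
    intro x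
    induction x using TensorProduct.induction_on with
    | zero => simp
    | tmul m a =>
      rw [LinearMap.lTensor_tmul, TensorProduct.comm_tmul, LinearMap.lTensor_tmul,
        LinearMap.rTensor_tmul, hLdef]
      generalize ρ m = y
      induction y using TensorProduct.induction_on with
      | zero => simp
      | tmul m' b =>
        rw [LinearMap.lTensor_tmul, TensorProduct.comm_tmul, TensorProduct.assoc_tmul, hΦ]
      | add y z hy hz =>
        simp only [map_add, TensorProduct.tmul_add, TensorProduct.add_tmul, hy, hz]
    | add x y hx hy => simp only [map_add, hx, hy]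
  have h2 : ∀ x : M ⊗[k] A,
      TensorProduct.assoc k A A M ((Δ.rTensor M) (TensorProduct.comm k M A (S.lTensor M x))) =
      Φ (Δ.lTensor M x) := by
    intro x
    induction x using TensorProduct.induction_on with
    | zero => simp
    | tmul m a =>
      rw [LinearMap.lTensor_tmul, TensorProduct.comm_tmul, LinearMap.rTensor_tmul,
        LinearMap.lTensor_tmul]
      have h3 : Δ (S a) = TensorProduct.map S S (TensorProduct.comm k A A (Δ a)) :=
        H9_Antipode.comul_antipode (k := k) a
      rw [h3]
      simp [Φ]
    | add x y hx hy => simp only [map_add, hx, hy]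
  refine ⟨{ coact := L, coassoc := ?_, counit_comp := ?_ }, rfl⟩
  · apply LinearMap.ext
    intro m
    simp only [LinearMap.comp_apply, LinearEquiv.coe_coe]
    rw [hLdef, h1, h2]
    have h4 := LinearMap.congr_fun c.coassoc m
    simp only [LinearMap.comp_apply, LinearEquiv.coe_coe] at h4
    rw [h4]
  · apply LinearMap.ext
    intro m
    simp only [LinearMap.comp_apply]
    rw [hLdef]
    have h5 := LinearMap.congr_fun c.counit_comp m
    simp only [LinearMap.comp_apply] at h5
    have h6 : ∀ x : M ⊗[k] A, (CoalgebraStruct.counit (R := k) (A := A)).rTensor M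
        (TensorProduct.comm k M A (S.lTensor M x)) =
        TensorProduct.comm k M k ((CoalgebraStruct.counit (R := k) (A := A)).lTensor M x) := by
      intro x
      induction x using TensorProduct.induction_on with
      | zero => simp
      | tmul m a => simp [S]
      | add x y hx hy => simp only [map_add, hx, hy]
    rw [h6, h5]
    simp

end Groth.Agent.S16689
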