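import Groth.Statements.S16707
import Mathlib
import Groth.Agent.H8Flat

set_option autoImplicit false
universe u v
open CAlg

namespace Groth.Agent.S16707

open TensorProduct in
/-- Let A be a commutative ring, I a nilpotent ideal of A and f : M → N a homomorphism of A-modules with
N flat over A (no finiteness assumption on M or N). If the base change of f to A/I, that is M/IM →
N/IN, is bijective, then f is bijective. -/
theorem result (A : Type u) [CommRing A] (I : Ideal A)
    (hI : IsNilpotent I) (M N : Type v) [AddCommGroup M] [Module A M] [AddCommGroup N] [Module A N]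
    [Module.Flat A N] (f : M →ₗ[A] N)
    (hf : Function.Bijective (f.baseChange (A ⧸ I))) :
    Function.Bijective f := by
  classical
  obtain ⟨n, hn⟩ := hI
  -- nilpotent Nakayama
  have nak : ∀ (Q : Type v) [AddCommGroup Q] [Module A Q],
      (⊤ : Submodule A Q) ≤ I • (⊤ : Submodule A Q) → ∀ q : Q, q = 0 := by
    intro Q _ _ hQ q
    have hk : ∀ k : ℕ, (⊤ : Submodule A Q) ≤ I ^ k • (⊤ : Submodule A Q) := by
      intro k
      induction k with
      | zero => simp
      | succ k ih =>
        calc (⊤ : Submodule A Q) ≤ I • (⊤ : Submodule A Q) := hQ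
          _ ≤ I • (I ^ k • (⊤ : Submodule A Q)) := Submodule.smul_mono le_rfl ih
          _ = I ^ (k + 1) • (⊤ : Submodule A Q) := by rw [← mul_smul, ← pow_succ']
    have := hk n (Submodule.mem_top : q ∈ ⊤)
    rw [hn] at this
    simpa using this
  -- characterisation of 1 ⊗ x = 0
  have hone : ∀ (Q : Type v) [AddCommGroup Q] [Module A Q] (x : Q),
      ((1 : A ⧸ I) ⊗ₜ[A] x : (A ⧸ I) ⊗[A] Q) = 0 → x ∈ I • (⊤ : Submodule A Q) := by
    intro Q _ _ x hx
    have := congrArg (TensorProduct.quotTensorEquivQuotSMul Q I) hx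
    rw [TensorProduct.quotTensorEquivQuotSMul_mk_one_tmul, map_zero,
      Submodule.Quotient.mk_eq_zero] at this
    exact this
  have hrep : ∀ (Q : Type v) [AddCommGroup Q] [Module A Q] (t : (A ⧸ I) ⊗[A] Q),
      ∃ x : Q, t = (1 : A ⧸ I) ⊗ₜ[A] x := by
    intro Q _ _ t
    obtain ⟨x, hx⟩ := Submodule.Quotient.mk_surjective _
      (TensorProduct.quotTensorEquivQuotSMul Q I t)
    refine ⟨x, ?_⟩
    apply (TensorProduct.quotTensorEquivQuotSMul Q I).injective
    rw [TensorProduct.quotTensorEquivQuotSMul_mk_one_tmul, hx]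
  have hbc : ∀ t, f.baseChange (A ⧸ I) t = (f.lTensor (A ⧸ I)) t := fun t => rfl
  -- surjectivity
  have hsurj : Function.Surjective f := by
    rw [← LinearMap.range_eq_top]
    have hq : ∀ q : N ⧸ LinearMap.range f, q = 0 := by
      apply nak
      rintro q -
      obtain ⟨y, rfl⟩ := Submodule.Quotient.mk_surjective _ q
      obtain ⟨s, hs⟩ := hf.2 ((1 : A ⧸ I) ⊗ₜ[A] y)
      obtain ⟨m, rfl⟩ := hrep M s
      rw [LinearMap.baseChange_tmul] at hs
      have h1 : ((1 : A ⧸ I) ⊗ₜ[A] (y - f m) : (A ⧸ I) ⊗[A] N) = 0 := by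
        rw [TensorProduct.tmul_sub, hs, sub_self]
      have h2 := hone N _ h1
      have h3 : (LinearMap.range f).mkQ (y - f m) ∈
          Submodule.map (LinearMap.range f).mkQ (I • (⊤ : Submodule A N)) :=
        Submodule.mem_map_of_mem h2
      rw [Submodule.map_smul''] at h3
      have h4 : (LinearMap.range f).mkQ (y - f m) = Submodule.Quotient.mk y := by
        rw [map_sub]
        have : (LinearMap.range f).mkQ (f m) = 0 := by
          rw [Submodule.mkQ_apply, Submodule.Quotient.mk_eq_zero]
          exact ⟨m, rfl⟩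
        rw [this, sub_zero]
        rfl
      rw [h4] at h3
      exact Submodule.smul_mono le_rfl le_top h3
    apply top_le_iff.mp
    intro y _
    have := hq (Submodule.Quotient.mk y)
    rwa [Submodule.Quotient.mk_eq_zero] at this
  refine ⟨?_, hsurj⟩
  -- injectivity
  rw [← LinearMap.ker_eq_bot]
  have hex : Function.Exact (LinearMap.ker f).subtype f := by
    intro y
    constructor
    · intro hy
      exact ⟨⟨y, hy⟩, rfl⟩
    · rintro ⟨z, rfl⟩
      exact z.2
  have hinj := Groth.Agent.H8Flat.lTensor_injective_of_flat_quotient (LinearMap.ker f).subtype f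
    (Submodule.injective_subtype _) hex hsurj (A ⧸ I)
  have hk : ∀ k : LinearMap.ker f, k = 0 := by
    apply nak
    rintro k -
    apply hone
    apply hinj
    apply hf.1
    rw [map_zero, map_zero, LinearMap.lTensor_tmul, LinearMap.baseChange_tmul]
    have : f ((LinearMap.ker f).subtype k) = 0 := k.2
    rw [this, TensorProduct.tmul_zero]
  rw [eq_bot_iff]
  intro y hy
  have := hk ⟨y, hy⟩
  exact congrArg Subtype.val this

end Groth.Agent.S16707
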