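import Groth.Statements.S16708
import Mathlib
import Groth.Agent.Lib.helper9.H9_Integral

set_option autoImplicit false
universe u
open HopfRep

namespace Groth.Agent.S16708

/-- Let G be a finite group and k a field in which the order of G is a nonzero element. Then the
constant group scheme of G over k is linearly reductive: every finite-dimensional comodule over its
coordinate Hopf algebra (the algebra of functions G → k with the Hopf structure of the constant
group) is semisimple, i.e. every subcomodule admits a complementary subcomodule. -/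
theorem result (k : Type u) [Field k] (G : Type u) [Group G]
    [Fintype G] [DecidableEq G] (hG : ((Fintype.card G : ℕ) : k) ≠ 0) :
    HopfRep.IsLinearlyReductive k (ConstGrp.F k G) := by
  classical
  intro V _ _ _ _
  -- the normalized counting integral
  let α : ConstGrp.F k G →ₗ[k] k :=
    ((Fintype.card G : ℕ) : k)⁻¹ • ∑ x : G, (ConstGrp.ev k x).toLinearMap
  have hα : ∀ f : ConstGrp.F k G, α f = ((Fintype.card G : ℕ) : k)⁻¹ * ∑ x : G, f x := by
    intro f
    simp [α, LinearMap.sum_apply]
  have h1 : α 1 = 1 := by
    rw [hα]
    simp only [ConstGrp.one_apply, Finset.sum_const, Finset.card_univ, nsmul_eq_mul, mul_one]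
    exact inv_mul_cancel₀ hG
  have hαe : ∀ x : G, α (ConstGrp.e k x) = ((Fintype.card G : ℕ) : k)⁻¹ := by
    intro x
    rw [hα]
    simp [ConstGrp.e_apply]
  have hinv : ∀ (g' : Module.Dual k (ConstGrp.F k G)) (a : ConstGrp.F k G),
      α (H9_ComodMod.T (C := ConstGrp.F k G) (ConstGrp.F k G) g' a) = g' 1 * α a := by
    intro g' a
    rw [H9_ComodMod.T_apply]
    show α (TensorProduct.rid k _ (g'.lTensor _ (Coalgebra.comul (R := k) a))) = _
    rw [ConstGrp.comul_eq_sum]
    simp only [map_sum, map_smul, LinearMap.lTensor_tmul, TensorProduct.rid_tmul, hαe, smul_eq_mul]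
    rw [Finset.sum_comm]
    have h2 : ∀ y : G, ∑ x : G, a (x * y) * (g' (ConstGrp.e k y) * ((Fintype.card G : ℕ) : k)⁻¹) =
        g' (ConstGrp.e k y) * α a := by
      intro y
      rw [← Finset.sum_mul, hα]
      have : ∑ x : G, a (x * y) = ∑ x : G, a x :=
        Fintype.sum_equiv (Equiv.mulRight y) _ _ fun x => rfl
      rw [this]
      ring
    simp only [h2]
    rw [← Finset.sum_mul, ← map_sum, ConstGrp.sum_e]
  intro W hW
  exact H9_Integral.exists_compl α hinv h1 W hW

end Groth.Agent.S16708
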