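import Groth.Statements.S16709
import Groth.Statements.S16709
import Mathlib
import Groth.Agent.Lib.helper9.H9_ExactInv

set_option autoImplicit false
universe u v
open HopfRep

namespace Groth.Agent.S16709

open TensorProduct in
/-- The equivalence of complete reducibility of finite-dimensional representations with the
invariant-section criterion. Let k be a field and A a finitely generated commutative Hopf algebra
over k, the coordinate ring of an affine algebraic group G. Then G is linearly reductive (every
finite-dimensional A-comodule is semisimple) if and only if for every finite-dimensional A-comodule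
V and every surjective k-linear map π : V → k which is a comodule map to the trivial comodule (that
is, (π ⊗ id) ∘ ρ_V = (c ↦ c ⊗ 1) ∘ π for the coaction ρ_V) there is a fixed vector v of V with π v ≠
0. (The published fourth condition is phrased with all G-fixed points of the projective space of V
and G-invariant linear forms; it fails for a fixed point on which G acts through a non-trivial
character, for instance the multiplicative group acting on a line with weight one, and this row
states the condition in the form the published proof uses: surjections onto the trivial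
one-dimensional comodule.) -/
theorem result (k : Type u) [Field k] (A : Type v)
    [CommRing A] [HopfAlgebra k A] (hA : Algebra.FiniteType k A) :
    HopfRep.IsLinearlyReductive k A ↔
      ∀ (V : Type v) [AddCommGroup V] [Module k V] [HopfRep.Comod k A V], Module.Finite k V →
        ∀ π : V →ₗ[k] k, Function.Surjective π →
          LinearMap.rTensor A π ∘ₗ HopfRep.Comod.coact (k := k) (A := A) (V := V) =
            (TensorProduct.mk k k A).flip (1 : A) ∘ₗ π →
          ∃ v ∈ HopfRep.fixedPts k A V, π v ≠ 0 := by
  classical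
  constructor
  · intro hLR V _ _ _ hfin π hπsurj hπ
    letI : HopfRep.Comod k A k := HopfRep.Comod.trivial k A k
    have h1 : (1 : k) ∈ HopfRep.fixedPts k A k := by
      show ((TensorProduct.mk k k A).flip 1) (1 : k) = (1 : k) ⊗ₜ[k] (1 : A)
      rfl
    have hπ' : Hoch.IsComodHom A π := hπ.symm
    obtain ⟨v, hv, hv1⟩ := H9_LinRed.exists_fixed_lift (H9_LinRed.isSemisimpleComod hLR V) π hπ'
      hπsurj 1 h1
    exact ⟨v, hv, by rw [hv1]; exact one_ne_zero⟩
  · intro hcrit
    apply H9_ExactInv.isLinearlyReductive_of_exactFD
    intro X Y _ _ cX _ _ cY φ hXfin hφ hsurj y hy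
    haveI := hXfin
    have hφ' : Hoch.IsComodHom A φ := hφ.symm
    by_cases hy0 : y = 0
    · exact ⟨0, Submodule.zero_mem _, by rw [map_zero, hy0]⟩
    -- a functional with ψ y = 1
    obtain ⟨ψ, hψ⟩ : ∃ ψ : Module.Dual k Y, ψ y = 1 := by
      obtain ⟨ψ₀, hψ₀⟩ : ∃ ψ₀ : Module.Dual k Y, ψ₀ y ≠ 0 := by
        by_contra hcon
        push_neg at hcon
        exact hy0 ((Module.forall_dual_apply_eq_zero_iff k y).1 hcon)
      exact ⟨(ψ₀ y)⁻¹ • ψ₀, by rw [LinearMap.smul_apply, smul_eq_mul, inv_mul_cancel₀ hψ₀]⟩
    let X' : Submodule k X := Submodule.comap φ (Submodule.span k {y})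
    have hy' : ∀ f : Module.Dual k A, H9_ComodMod.T (C := A) Y f y = f 1 • y :=
      (H9_ComodMod.mem_fixedPts_iff_T y).1 hy
    have hX' : HopfRep.IsSubcomod (k := k) (A := A) X' := by
      rw [H9_ComodMod.isSubcomod_iff_T]
      intro f x hx
      obtain ⟨c, hc⟩ := Submodule.mem_span_singleton.1 (Submodule.mem_comap.1 hx)
      rw [Submodule.mem_comap, H9_ComodMod.T_comm_of_isComodHom φ hφ', ← hc, map_smul, hy' f]
      exact Submodule.smul_mem _ _ (Submodule.smul_mem _ _ (Submodule.mem_span_singleton_self y))
    letI cX' : HopfRep.Comod k A X' := ComodSub.Comod.restr cX X' hX'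
    have hsub : Hoch.IsComodHom A X'.subtype := ComodSub.isComodHom_subtype cX X' hX'
    let π : X' →ₗ[k] k := ψ ∘ₗ φ ∘ₗ X'.subtype
    have hπφ : ∀ x : X', φ (x : X) = π x • y := by
      intro x
      obtain ⟨c, hc⟩ := Submodule.mem_span_singleton.1 (Submodule.mem_comap.1 x.2)
      show φ (x : X) = ψ (φ (x : X)) • y
      rw [← hc, map_smul, hψ, smul_eq_mul, mul_one]
    have hπsurj : Function.Surjective π := by
      obtain ⟨x₀, hx₀⟩ := hsurj y
      have hx₀' : x₀ ∈ X' := by
        rw [Submodule.mem_comap, hx₀]; exact Submodule.mem_span_singleton_self y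
      have h1 : π ⟨x₀, hx₀'⟩ = 1 := by
        show ψ (φ x₀) = 1
        rw [hx₀, hψ]
      intro c
      exact ⟨c • ⟨x₀, hx₀'⟩, by rw [map_smul, h1, smul_eq_mul, mul_one]⟩
    have hπT : ∀ (f : Module.Dual k A) (x : X'), π (H9_ComodMod.T (C := A) X' f x) = f 1 * π x := by
      intro f x
      show ψ (φ (X'.subtype (H9_ComodMod.T (C := A) X' f x))) = _
      rw [H9_ComodMod.T_comm_of_isComodHom X'.subtype hsub, H9_ComodMod.T_comm_of_isComodHom φ hφ']
      show ψ (H9_ComodMod.T (C := A) Y f (φ (x : X))) = _
      rw [hπφ x, map_smul, hy' f, map_smul, map_smul, hψ, smul_eq_mul, smul_eq_mul, mul_one, mul_comm]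
    have hπcomod : LinearMap.rTensor A π ∘ₗ HopfRep.Comod.coact (k := k) (A := A) (V := X') =
        (TensorProduct.mk k k A).flip (1 : A) ∘ₗ π := by
      apply LinearMap.ext
      intro x
      simp only [LinearMap.comp_apply, LinearMap.flip_apply, TensorProduct.mk_apply]
      rw [← sub_eq_zero]
      apply H9_TensorDual.eq_zero_of_forall_contr
      intro f
      rw [map_sub, H9_TensorDual.contr_rTensor, H9_TensorDual.contr_tmul, ← H9_ComodMod.T_eq_contr,
        hπT, smul_eq_mul, sub_self]
    obtain ⟨x', hx'inv, hx'⟩ := hcrit X' inferInstance π hπsurj hπcomod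
    refine ⟨(π x')⁻¹ • (x' : X), ?_, ?_⟩
    · apply Submodule.smul_mem
      exact H9_ComodMod.map_mem_fixedPts X'.subtype hsub x' hx'inv
    · rw [map_smul, hπφ x', smul_smul, inv_mul_cancel₀ hx', one_smul]

end Groth.Agent.S16709
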