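import Groth.Statements.S16737
import Mathlib

set_option autoImplicit false
universe u v
open DeRham

namespace Groth.Agent.S16737

/-- The case of affine space over an affine base of characteristic p, in degree zero. Let p be a prime
and R a commutative ring with p = 0 in R. For a polynomial f over R in any set of variables t_i, the
Kähler differential df in Ω_{R[t]/R} vanishes if and only if f is a polynomial in the p-th powers of
the variables, f = g(t_i^p). Equivalently, the functions on affine space over R killed by the
differential of the de Rham complex are exactly the functions on its Frobenius twist. (The published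
computation is for finitely many variables over a noetherian base of characteristic p; the statement
here allows any commutative ring with p = 0 and any set of variables.) -/
theorem result (p : ℕ) [Fact p.Prime]
    (R : Type u) [CommRing R] [CharP R p] (σ : Type v) (f : MvPolynomial σ R) :
    KaehlerDifferential.D R (MvPolynomial σ R) f = 0 ↔
      ∃ g : MvPolynomial σ R, f = MvPolynomial.expand p g := by
  classical
  have hp : p.Prime := Fact.out
  constructor
  · intro h
    -- all partial derivatives vanish
    have hpd : ∀ i, MvPolynomial.pderiv i f = 0 := by
      intro i
      have h1 : (KaehlerDifferential.mvPolynomialBasis R σ).repr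
          (KaehlerDifferential.D R (MvPolynomial σ R) f) = 0 := by rw [h, map_zero]
      rw [KaehlerDifferential.mvPolynomialBasis_repr_D] at h1
      have h2 : (Finsupp.lapply i).compDer
          (MvPolynomial.mkDerivation R (fun j : σ => Finsupp.single j (1 : MvPolynomial σ R))) =
          MvPolynomial.pderiv i := by
        apply MvPolynomial.derivation_ext
        intro j
        simp [MvPolynomial.pderiv_X, Finsupp.single_apply, Pi.single_apply, eq_comm]
      have h3 : ((Finsupp.lapply i).compDer
          (MvPolynomial.mkDerivation R (fun j : σ => Finsupp.single j (1 : MvPolynomial σ R)))) f =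
          (MvPolynomial.mkDerivation R
            (fun j : σ => Finsupp.single j (1 : MvPolynomial σ R)) f) i := rfl
      rw [← h2, h3, h1]
      rfl
    -- exponents in the support are divisible by p
    have hdiv : ∀ m ∈ f.support, ∀ i, p ∣ m i := by
      intro m hm i
      by_contra hnd
      have hmi : m i ≠ 0 := fun h0 => hnd (h0 ▸ dvd_zero p)
      have hm' : m = (m - Finsupp.single i 1) + Finsupp.single i 1 := by
        ext j
        by_cases hj : j = i
        · subst hj
          simp only [Finsupp.coe_add, Finsupp.coe_tsub, Pi.add_apply, Pi.sub_apply,
            Finsupp.single_eq_same]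
          omega
        · simp [Ne.symm hj]
      have h3 := MvPolynomial.coeff_pderiv (i := i) f (m - Finsupp.single i 1)
      rw [hpd i, MvPolynomial.coeff_zero, ← hm'] at h3
      have h4 : ((((m - Finsupp.single i 1 : σ →₀ ℕ) i : ℕ)) : R) + 1 = ((m i : ℕ) : R) := by
        have : (m - Finsupp.single i 1 : σ →₀ ℕ) i + 1 = m i := by
          simp only [Finsupp.coe_tsub, Pi.sub_apply, Finsupp.single_eq_same]
          omega
        rw [← this]
        push_cast
        rfl
      rw [h4] at h3
      have hcop : IsCoprime ((m i : ℕ) : ℤ) (p : ℤ) := by
        rw [Nat.isCoprime_iff_coprime]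
        exact ((Nat.Prime.coprime_iff_not_dvd hp).2 hnd).symm
      obtain ⟨a, b, hab⟩ := hcop
      have hab' : (a : R) * ((m i : ℕ) : R) = 1 := by
        have := congrArg (Int.cast (R := R)) hab
        push_cast at this
        rw [CharP.cast_eq_zero R p, mul_zero, add_zero] at this
        exact this
      have h5 : MvPolynomial.coeff m f = 0 := by
        calc MvPolynomial.coeff m f = MvPolynomial.coeff m f * ((a : R) * ((m i : ℕ) : R)) := by
              rw [hab', mul_one]
          _ = (MvPolynomial.coeff m f * ((m i : ℕ) : R)) * (a : R) := by ring
          _ = 0 := by rw [← h3, zero_mul]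
      exact (MvPolynomial.mem_support_iff.1 hm) h5
    refine ⟨∑ m ∈ f.support, MvPolynomial.monomial (m.mapRange (· / p) (Nat.zero_div p))
      (MvPolynomial.coeff m f), ?_⟩
    rw [map_sum]
    conv_lhs => rw [← MvPolynomial.support_sum_monomial_coeff f]
    apply Finset.sum_congr rfl
    intro m hm
    have hm_eq : p • m.mapRange (· / p) (Nat.zero_div p) = m := by
      ext i
      rw [Finsupp.smul_apply, Finsupp.mapRange_apply, smul_eq_mul]
      exact Nat.mul_div_cancel' (hdiv m hm i)
    rw [MvPolynomial.expand_monomial, hm_eq]
  · rintro ⟨g, rfl⟩
    induction g using MvPolynomial.induction_on with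
    | C a =>
      rw [MvPolynomial.expand_C, ← MvPolynomial.algebraMap_eq]
      exact Derivation.map_algebraMap _ a
    | add f g hf hg => rw [map_add, map_add, hf, hg, add_zero]
    | mul_X f i hf =>
      rw [map_mul, MvPolynomial.expand_X, Derivation.leibniz, hf, smul_zero, add_zero,
        Derivation.leibniz_pow, ← Nat.cast_smul_eq_nsmul R, CharP.cast_eq_zero R p, zero_smul,
        smul_zero]

end Groth.Agent.S16737
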