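import Groth.Statements.S16762
import Mathlib

set_option autoImplicit false
universe u
open CAlgX

namespace Groth.Agent.S16762

open TensorProduct in
theorem key (A A' : Type u) [CommRing A] [CommRing A'] [Algebra A A']
    {M N : Type u} [AddCommGroup M] [Module A M] [AddCommGroup N] [Module A N] (u : M →ₗ[A] N)
    (Q' : Type u) [AddCommGroup Q'] [Module A' Q'] [Module A Q'] [IsScalarTower A A' Q'] :
    Function.Injective ((u.baseChange A').rTensor Q') ↔ Function.Injective (u.rTensor Q') := by
  let eM : (A' ⊗[A] M) ⊗[A'] Q' ≃ₗ[A] M ⊗[A] Q' :=
    ((TensorProduct.comm A' (A' ⊗[A] M) Q').restrictScalars A).trans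
      (((TensorProduct.AlgebraTensorModule.cancelBaseChange A A' A' Q' M).restrictScalars A).trans
        (TensorProduct.comm A Q' M))
  let eN : (A' ⊗[A] N) ⊗[A'] Q' ≃ₗ[A] N ⊗[A] Q' :=
    ((TensorProduct.comm A' (A' ⊗[A] N) Q').restrictScalars A).trans
      (((TensorProduct.AlgebraTensorModule.cancelBaseChange A A' A' Q' N).restrictScalars A).trans
        (TensorProduct.comm A Q' N))
  have hsq : ∀ x, eN ((u.baseChange A').rTensor Q' x) = u.rTensor Q' (eM x) := by
    intro x
    induction x using TensorProduct.induction_on with
    | zero => simp
    | add x y hx hy => rw [map_add, map_add, map_add, map_add, hx, hy]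
    | tmul y q =>
      induction y using TensorProduct.induction_on with
      | zero => simp
      | add x y hx hy => rw [TensorProduct.add_tmul, map_add, map_add, map_add, map_add, hx, hy]
      | tmul a m => rfl
  constructor
  · intro h x y hxy
    apply eM.symm.injective
    apply h
    apply eN.injective
    rw [hsq, hsq, LinearEquiv.apply_symm_apply, LinearEquiv.apply_symm_apply, hxy]
  · intro h x y hxy
    apply eM.injective
    apply h
    rw [← hsq, ← hsq, hxy]


/-- Let A → A' be faithfully flat and u : M → N a map of A-modules. Then u is universally injective (u ⊗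
id_Q injective for every A-module Q) if and only if its base change A' ⊗_A M → A' ⊗_A N is
universally injective as a map of A'-modules. -/
theorem result (A A' : Type u) [CommRing A] [CommRing A']
    [Algebra A A'] [Module.FaithfullyFlat A A'] {M N : Type u} [AddCommGroup M] [Module A M]
    [AddCommGroup N] [Module A N] (u : M →ₗ[A] N) :
    CAlgX.UniversallyInjective A u ↔ CAlgX.UniversallyInjective A' (u.baseChange A') := by
  constructor
  · intro hA Q' _ _
    let _ : Module A Q' := Module.compHom Q' (algebraMap A A')
    have : IsScalarTower A A' Q' := IsScalarTower.of_algebraMap_smul fun r x => rfl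
    exact (key A A' u Q').mpr (hA Q')
  · intro hA' Q _ _
    have h1 : Function.Injective (u.rTensor (TensorProduct A A' Q)) :=
      (key A A' u (TensorProduct A A' Q)).mp (hA' (TensorProduct A A' Q))
    have hsq : ∀ x, (u.rTensor Q).lTensor A' (TensorProduct.leftComm A M A' Q x) =
        TensorProduct.leftComm A N A' Q (u.rTensor (TensorProduct A A' Q) x) := by
      intro x
      induction x using TensorProduct.induction_on with
      | zero => simp
      | add x y hx hy => rw [map_add, map_add, map_add, map_add, hx, hy]
      | tmul m y =>
        induction y using TensorProduct.induction_on with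
        | zero => simp
        | add x y hx hy => rw [TensorProduct.tmul_add, map_add, map_add, map_add, map_add, hx, hy]
        | tmul a q => rfl
    have h2 : Function.Injective ((u.rTensor Q).lTensor A') := by
      intro x y hxy
      apply (TensorProduct.leftComm A M A' Q).symm.injective
      apply h1
      apply (TensorProduct.leftComm A N A' Q).injective
      rw [← hsq, ← hsq, LinearEquiv.apply_symm_apply, LinearEquiv.apply_symm_apply, hxy]
    exact (Module.FaithfullyFlat.lTensor_injective_iff_injective A A' (u.rTensor Q)).mp h2

end Groth.Agent.S16762
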