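import Groth.Statements.S16795
import Mathlib
import Groth.Agent.H8LogConn

set_option autoImplicit false
universe v u
open LogConn

namespace Groth.Agent.S16795

open TensorProduct in
/-- Let B be a commutative algebra over a commutative ring A, λ ∈ B, and t₁, …, tₙ ∈ B elements whose
differentials dt₁, …, dtₙ form a basis of the Kähler differentials Ω of B over A; let L be a
B-module free on ω₁, …, ωₙ with a B-linear ι : Ω → L sending dtᵢ to tᵢ ωᵢ (ωᵢ playing the role of
dlog tᵢ), and E a B-module with an A-linear ∇ : E → E ⊗ L obeying the λ-twisted Leibniz rule ∇(b e)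
= b ∇e + λ e ⊗ ι(db); write ∇ᵢ for the components of ∇ in the basis ω, ∇_J for their composite over
a finite index set J in increasing order, and E_I = Σ_{J ⊆ I} (∏_{i ∈ I∖J} tᵢ) · ∇_J(E) (an
A-submodule of E) for a finite index set I. Suppose E is generated over B by finitely many elements
e₁, …, e_m. Then for every finite index set I the piece E_I is the B-span of the finitely many
elements (∏_{i ∈ I∖J} tᵢ) · ∇_J(e_k), J ⊆ I, 1 ≤ k ≤ m; in particular E_I is a finitely generated
B-module. (The published statement is phrased for sheaves — E_w is quasi-coherent, resp. coherent,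
when E is — and its proof exhibits these generators; flatness of ∇ is not used.) -/
theorem result {A : Type v} {B L E : Type u} [CommRing A] [CommRing B]
    [Algebra A B] [AddCommGroup L] [Module B L] [Module A L] [IsScalarTower A B L]
    [AddCommGroup E] [Module B E] [Module A E] [IsScalarTower A B E]
    (lam : B) {n : ℕ} (t : Fin n → B) (bΩ : Module.Basis (Fin n) B (KaehlerDifferential A B))
    (hbΩ : ∀ i, bΩ i = KaehlerDifferential.D A B (t i))
    (ω : Module.Basis (Fin n) B L) (ι : KaehlerDifferential A B →ₗ[B] L)
    (hι : ∀ i, ι (KaehlerDifferential.D A B (t i)) = t i • ω i)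
    (nabla : E →ₗ[A] E ⊗[B] L)
    (hc : Conn.IsLamConn (ι.compDer (KaehlerDifferential.D A B)) lam nabla)
    {m : ℕ} (e : Fin m → E) (he : Submodule.span B (Set.range e) = ⊤) (I : Finset (Fin n)) :
    (Submodule.span B (⋃ J ∈ I.powerset, Set.range (fun k : Fin m =>
        (∏ i ∈ I \ J, t i) • LogConn.compProd nabla ω J (e k)))).restrictScalars A =
      LogConn.piece nabla ω t I := by
  classical
  apply le_antisymm
  · -- span ≤ piece, using B-stability
    let P : Submodule B E :=
      { carrier := LogConn.piece nabla ω t I
        add_mem' := fun ha hb => Submodule.add_mem _ ha hb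
        zero_mem' := Submodule.zero_mem _
        smul_mem' := fun b x hx => H8LogConn.smul_mem_piece lam ω ι t bΩ hbΩ hι nabla hc I b x hx }
    have h1 : Submodule.span B (⋃ J ∈ I.powerset, Set.range (fun k : Fin m =>
        (∏ i ∈ I \ J, t i) • LogConn.compProd nabla ω J (e k))) ≤ P := by
      apply Submodule.span_le.mpr
      intro x hx
      simp only [Set.mem_iUnion, Set.mem_range] at hx
      obtain ⟨J, hJ, k, rfl⟩ := hx
      exact H8LogConn.mem_piece ω nabla t I J (Finset.mem_powerset.mp hJ) (e k)
    intro x hx
    exact h1 hx
  · set S := Submodule.span B (⋃ J ∈ I.powerset, Set.range (fun k : Fin m =>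
        (∏ i ∈ I \ J, t i) • LogConn.compProd nabla ω J (e k))) with hS
    have key : ∀ x : E, ∀ J, J ⊆ I → (∏ i ∈ I \ J, t i) • LogConn.compProd nabla ω J x ∈ S := by
      intro x
      have hx : x ∈ Submodule.span B (Set.range e) := by rw [he]; exact Submodule.mem_top
      induction hx using Submodule.span_induction with
      | mem x hx =>
        obtain ⟨k, rfl⟩ := hx
        intro J hJ
        apply Submodule.subset_span
        simp only [Set.mem_iUnion, Set.mem_range]
        exact ⟨J, Finset.mem_powerset.mpr hJ, k, rfl⟩
      | zero =>
        intro J hJ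
        rw [map_zero, smul_zero]
        exact Submodule.zero_mem _
      | add x y _ _ hx hy =>
        intro J hJ
        rw [map_add, smul_add]
        exact Submodule.add_mem _ (hx J hJ) (hy J hJ)
      | smul b x _ hx =>
        intro J hJ
        have h1 := H8LogConn.compProd_smul_mem lam ω ι t bΩ hbΩ hι nabla hc J b x
        have h2 : H8LogConn.G ω nabla t J x ≤ S.comap (LinearMap.lsmul B E (∏ i ∈ I \ J, t i)) := by
          unfold H8LogConn.G
          apply Submodule.span_le.mpr
          rintro _ ⟨K, hK, rfl⟩
          show (∏ i ∈ I \ J, t i) • ((∏ i ∈ J \ K, t i) • LogConn.compProd nabla ω K x) ∈ S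
          rw [← mul_smul, H8LogConn.prod_sdiff_mul t I J K hJ hK]
          exact hx K (hK.trans hJ)
        exact h2 h1
    have := H8LogConn.piece_le_comap ω nabla t I LinearMap.id (S.restrictScalars A)
      (fun J hJ x => key x J hJ)
    rwa [Submodule.comap_id] at this

end Groth.Agent.S16795
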