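import Groth.Statements.S16797
import Mathlib
import Groth.Agent.H8LogConn2

set_option autoImplicit false
universe v u
open LogConn

namespace Groth.Agent.S16797

open TensorProduct in
/-- Let B be a commutative algebra over a commutative ring A, λ ∈ B, and t₁, …, tₙ ∈ B elements whose
differentials dt₁, …, dtₙ form a basis of the Kähler differentials Ω of B over A; let L be a
B-module free on ω₁, …, ωₙ with a B-linear ι : Ω → L sending dtᵢ to tᵢ ωᵢ (ωᵢ playing the role of
dlog tᵢ), and E a B-module with an A-linear ∇ : E → E ⊗ L obeying the λ-twisted Leibniz rule ∇(b e)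
= b ∇e + λ e ⊗ ι(db); write ∇ᵢ for the components of ∇ in the basis ω, ∇_J for their composite over
a finite index set J in increasing order, and E_I = Σ_{J ⊆ I} (∏_{i ∈ I∖J} tᵢ) · ∇_J(E) (an
A-submodule of E) for a finite index set I. Let d be the logarithmic de Rham differential on the
exterior powers of L — the A-linear family pinned on generators by d(b₀ · e₁ ∧ ⋯ ∧ e_p) = ι(db₀) ∧
e₁ ∧ ⋯ ∧ e_p for factors eⱼ of the form ι(db) or ωᵢ — and let ∇^p : E ⊗ Λ^p L → E ⊗ Λ^{p+1} L be the
λ-twisted extension of ∇, ∇^p(e ⊗ η) = ∇(e) ∧ η + e ⊗ λ dη, with ∇ flat in the sense that ∇¹ ∘ ∇ =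
0. Then for every p, ∇^p maps the layer ⊕_{|K| = p} E_K ⊗ ω_K (elements all of whose ω_K-coordinates
lie in E_K) into the layer ⊕_{|K| = p+1} E_K ⊗ ω_K. -/
theorem result {A : Type v} {B L E : Type u} [CommRing A] [CommRing B]
    [Algebra A B] [AddCommGroup L] [Module B L] [Module A L] [IsScalarTower A B L]
    [AddCommGroup E] [Module B E] [Module A E] [IsScalarTower A B E]
    (lam : B) {n : ℕ} (t : Fin n → B) (bΩ : Module.Basis (Fin n) B (KaehlerDifferential A B))
    (hbΩ : ∀ i, bΩ i = KaehlerDifferential.D A B (t i))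
    (ω : Module.Basis (Fin n) B L) (ι : KaehlerDifferential A B →ₗ[B] L)
    (hι : ∀ i, ι (KaehlerDifferential.D A B (t i)) = t i • ω i)
    (nabla : E →ₗ[A] E ⊗[B] L)
    (hc : Conn.IsLamConn (ι.compDer (KaehlerDifferential.D A B)) lam nabla)
    (d : ∀ p : ℕ, ↥(⋀[B]^p L) →ₗ[A] ↥(⋀[B]^(p + 1) L))
    (hd : LogDiff.IsLogRule (KaehlerDifferential.D A B) ι (⇑ω) d)
    (nablas : ∀ p : ℕ, E ⊗[B] ↥(⋀[B]^p L) →ₗ[A] E ⊗[B] ↥(⋀[B]^(p + 1) L))
    (hint : Conn.IsIntegrable nabla (fun p => lam • d p) nablas)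
    (p : ℕ) (x : E ⊗[B] ↥(⋀[B]^p L)) (hx : x ∈ LogConn.layer nabla ω t p) :
    nablas p x ∈ LogConn.layer nabla ω t (p + 1) := by
  classical
  have hcomm := H8LogConn.comp_comm lam ω ι nabla d hd nablas hint
  have hxK : ∀ K : Set.powersetCard (Fin n) p,
      LogConn.coordE (E := E) ω p K x ∈ LogConn.piece nabla ω t (K : Finset (Fin n)) := by
    intro K
    unfold LogConn.layer at hx
    rw [Submodule.mem_iInf] at hx
    exact hx K
  unfold LogConn.layer
  rw [Submodule.mem_iInf]
  intro K'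
  rw [Submodule.mem_comap]
  show LogConn.coordE (E := E) ω (p + 1) K' (nablas p x) ∈ _
  have hx2 := H8LogConn.layer_expansion ω p x
  rw [hx2, map_sum, map_sum]
  apply Submodule.sum_mem
  intro K _
  rw [H8LogConn.nablas_tmul_basis lam ω ι nabla d hd nablas hint.1, map_sum]
  apply Submodule.sum_mem
  intro j _
  rw [H8LogConn.coordE_tmul]
  by_cases hc0 : (ω.exteriorPower (p + 1)).coord K'
      (Conn.wedge p ((exteriorPower.oneEquiv B L).symm (ω j)) (ω.exteriorPower p K)) = 0
  · rw [hc0, zero_smul]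
    exact Submodule.zero_mem _
  · obtain ⟨hj, hK'⟩ := H8LogConn.coord_wedge_basis_ne_zero ω p j K K' hc0
    apply H8LogConn.smul_mem_piece lam ω ι t bΩ hbΩ hι nabla hc
    rw [hK']
    exact H8LogConn.comp_piece_of_comm lam ω ι t hι nabla hc hcomm j _ hj _ (hxK K)

end Groth.Agent.S16797
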