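import Groth.Statements.S1682
import Mathlib

set_option autoImplicit false
universe u
open CategoryTheory CategoryTheory.Limits AlgebraicGeometry TopologicalSpace
open SDiv

namespace Groth.Agent.S1682

/-- Let b : X' ⟶ X be a blowing-up of X along the quasi-coherent ideal sheaf 𝓘, with centre Z = support
of 𝓘. Then b restricted over the open complement of Z is an isomorphism. -/
theorem result {X X' : Scheme.{u}} (𝓘 : X.IdealSheafData) (b : X' ⟶ X) (hb : BlowUp.IsBlowUp b 𝓘) :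
    IsIso (b ∣_ 𝓘.support.compl) := by
  obtain ⟨_, huniv⟩ := hb
  have htopEC : ∀ {Z : Scheme.{u}}, BlowUp.IsEffCartierIdeal (⊤ : Z.IdealSheafData) := by
    intro Z x
    obtain ⟨_, ⟨U, hU, rfl⟩, hxU, -⟩ :=
      Z.isBasis_affineOpens.exists_subset_of_mem_open (Set.mem_univ x) isOpen_univ
    refine ⟨⟨U, hU⟩, hxU, 1, one_mem _, ?_⟩
    show (⊤ : Ideal _) = Ideal.span {1}
    rw [Ideal.span_singleton_one]
  have hW : 𝓘.comap (Scheme.Opens.ι 𝓘.support.compl) = ⊤ := by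
    rw [← Scheme.IdealSheafData.support_eq_bot_iff, Scheme.IdealSheafData.support_comap]
    apply TopologicalSpace.Closeds.ext
    show _ = (∅ : Set _)
    refine Set.eq_empty_of_forall_notMem fun y hy => ?_
    have hyW : (Scheme.Opens.ι 𝓘.support.compl) y ∈ ((𝓘.support.compl : X.Opens) : Set X) := by
      rw [← Scheme.Opens.range_ι 𝓘.support.compl]; exact ⟨y, rfl⟩
    exact hyW hy
  obtain ⟨h, hh, -⟩ := huniv _ (Scheme.Opens.ι 𝓘.support.compl) (by rw [hW]; exact htopEC)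
  have hg : 𝓘.comap ((b ∣_ 𝓘.support.compl) ≫ Scheme.Opens.ι 𝓘.support.compl) = ⊤ := by
    rw [Scheme.IdealSheafData.comap_comp, hW, Scheme.IdealSheafData.comap_top]
  obtain ⟨h', -, hh'uniq⟩ := huniv _ ((b ∣_ 𝓘.support.compl) ≫ Scheme.Opens.ι 𝓘.support.compl)
    (by rw [hg]; exact htopEC)
  have e1 : (b ⁻¹ᵁ 𝓘.support.compl).ι = h' := hh'uniq _ (morphismRestrict_ι b _).symm
  have e2 : (b ∣_ 𝓘.support.compl) ≫ h = h' := hh'uniq _ (by
    show ((b ∣_ 𝓘.support.compl) ≫ h) ≫ b = _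
    rw [Category.assoc, hh])
  have hrange : Set.range h ⊆ Set.range (b ⁻¹ᵁ 𝓘.support.compl).ι := by
    rw [Scheme.Opens.range_ι]
    rintro _ ⟨y, rfl⟩
    show b (h y) ∈ ((𝓘.support.compl : X.Opens) : Set X)
    have e3 : b (h y) = (Scheme.Opens.ι 𝓘.support.compl) y := by
      rw [← hh]; rfl
    rw [e3, ← Scheme.Opens.range_ι 𝓘.support.compl]; exact ⟨y, rfl⟩
  refine ⟨⟨IsOpenImmersion.lift (b ⁻¹ᵁ 𝓘.support.compl).ι h hrange, ?_, ?_⟩⟩
  · rw [← cancel_mono (b ⁻¹ᵁ 𝓘.support.compl).ι, Category.assoc, IsOpenImmersion.lift_fac, e2,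
      ← e1, Category.id_comp]
  · rw [← cancel_mono (Scheme.Opens.ι 𝓘.support.compl), Category.assoc, morphismRestrict_ι,
      IsOpenImmersion.lift_fac_assoc, hh, Category.id_comp]

end Groth.Agent.S1682
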