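import Groth.Statements.S1693
import Mathlib

set_option autoImplicit false
universe u
open CategoryTheory CategoryTheory.Limits AlgebraicGeometry TopologicalSpace
open SDiv

namespace Groth.Agent.S1693

/-- Let X be a locally Noetherian scheme and Z a closed subset. Then the irreducible components of Z
form a locally finite family of subsets of X. -/
theorem result (X : Scheme.{u}) [IsLocallyNoetherian X] (Z : Set ↥X) (hZ : IsClosed Z) :
    LocallyFinite (fun T : ↥(irreducibleComponents ↥Z) => ((↑) '' (T.1 : Set ↥Z) : Set ↥X)) := by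
  intro x
  obtain ⟨_, ⟨U, hU : IsAffineOpen U, rfl⟩, hxU, -⟩ :=
    X.isBasis_affineOpens.exists_subset_of_mem_open (Set.mem_univ x) isOpen_univ
  refine ⟨U, U.isOpen.mem_nhds hxU, ?_⟩
  haveI : IsNoetherianRing Γ(X, U) := IsLocallyNoetherian.component_noetherian ⟨U, hU⟩
  haveI : NoetherianSpace U := noetherianSpace_of_isAffineOpen U hU
  -- the open subspace of Z
  let UZ : Set Z := (↑) ⁻¹' (U : Set X)
  have hUZ : IsOpen UZ := U.isOpen.preimage continuous_subtype_val
  let j : UZ → Z := (↑)
  have hj : Topology.IsOpenEmbedding j := hUZ.isOpenEmbedding_subtypeVal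
  let US : Set X := (U : Set X)
  haveI : NoetherianSpace US := ‹NoetherianSpace U›
  let k : UZ → US := fun z => ⟨z.1.1, z.2⟩
  have hk : Topology.IsInducing k := by
    have h1 : (Subtype.val : US → X) ∘ k = (Subtype.val : Z → X) ∘ j := rfl
    have h2 : Topology.IsInducing ((Subtype.val : US → X) ∘ k) := by
      rw [h1]
      exact Topology.IsInducing.subtypeVal.comp hj.isInducing
    exact Topology.IsInducing.of_comp
      (Continuous.subtype_mk (continuous_subtype_val.comp continuous_subtype_val) _)
      continuous_subtype_val h2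
  haveI : NoetherianSpace UZ := hk.noetherianSpace
  have hfin : (irreducibleComponents UZ).Finite := NoetherianSpace.finite_irreducibleComponents
  have hne : ∀ T : ↥(irreducibleComponents ↥Z),
      (((↑) '' (T.1 : Set ↥Z) : Set ↥X) ∩ U).Nonempty → (T.1 ∩ Set.range j).Nonempty := by
    rintro T ⟨_, ⟨z, hzT, rfl⟩, hzU⟩
    exact ⟨z, hzT, ⟨⟨z, hzU⟩, rfl⟩⟩
  refine Set.Finite.of_injOn (f := fun T : ↥(irreducibleComponents ↥Z) => j ⁻¹' T.1)
    (t := irreducibleComponents UZ) ?_ ?_ hfin
  · intro T hT
    exact preimage_mem_irreducibleComponents T.2 hj (hne T hT)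
  · intro T hT T' hT' h
    have e1 := closure_image_preimage_of_isPreirreducible j hj.isOpenMap T.1
      (by obtain ⟨z, hz, ⟨y, rfl⟩⟩ := hne T hT; exact ⟨y, hz⟩) T.2.1.2
      (isClosed_of_mem_irreducibleComponents T.1 T.2)
    have e2 := closure_image_preimage_of_isPreirreducible j hj.isOpenMap T'.1
      (by obtain ⟨z, hz, ⟨y, rfl⟩⟩ := hne T' hT'; exact ⟨y, hz⟩) T'.2.1.2
      (isClosed_of_mem_irreducibleComponents T'.1 T'.2)
    apply Subtype.ext
    rw [← e1, ← e2]
    simp only at h
    rw [h]

end Groth.Agent.S1693
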