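import Groth.Statements.S16962
import Mathlib

set_option autoImplicit false
universe u
open ConstAct

namespace Groth.Agent.S16962

open TensorProduct

section
variable (R : Type u) [CommRing R] (B : Type u) [CommRing B] [Algebra R B]
  (Γ : Type u) [Group Γ] [Fintype Γ] [DecidableEq Γ]

/-- coefficient extraction as algebra hom -/
noncomputable def T (γ : Γ) : B ⊗[R] ConstGrp.F R Γ →ₐ[R] B :=
  Algebra.TensorProduct.lift (AlgHom.id R B) ((Algebra.ofId R B).comp (ConstGrp.ev R γ))
    (fun _ _ => Commute.all _ _)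

theorem T_tmul (γ : Γ) (b : B) (f : ConstGrp.F R Γ) : T R B Γ γ (b ⊗ₜ[R] f) = f γ • b := by
  simp [T, Algebra.smul_def, mul_comm]

theorem sum_T (t : B ⊗[R] ConstGrp.F R Γ) :
    ∑ γ : Γ, T R B Γ γ t ⊗ₜ[R] ConstGrp.e R γ = t := by
  induction t using TensorProduct.induction_on with
  | zero => simp
  | add s s' hs hs' =>
    simp only [map_add, TensorProduct.add_tmul, Finset.sum_add_distrib, hs, hs']
  | tmul b f =>
    simp only [T_tmul]
    conv_rhs => rw [ConstGrp.eq_sum_smul_e f, TensorProduct.tmul_sum]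
    refine Finset.sum_congr rfl fun γ _ => ?_
    rw [TensorProduct.smul_tmul]

/-- pairing with a pair of group elements -/
noncomputable def pairF (γ δ : Γ) : ConstGrp.F R Γ ⊗[R] ConstGrp.F R Γ →ₗ[R] R :=
  (ConstGrp.ev R ((γ, δ) : Γ × Γ)).toLinearMap ∘ₗ (ConstGrp.pair R Γ).toLinearMap

theorem pairF_tmul (γ δ : Γ) (u v : ConstGrp.F R Γ) : pairF R Γ γ δ (u ⊗ₜ[R] v) = u γ * v δ := by
  simp [pairF]

theorem pairF_comul (γ δ : Γ) (f : ConstGrp.F R Γ) :
    pairF R Γ γ δ (Coalgebra.comul (R := R) f) = f (γ * δ) := by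
  simp only [pairF, LinearMap.comp_apply, AlgHom.toLinearMap_apply, ConstGrp.ev_apply]
  exact ConstGrp.pair_comul R Γ f γ δ

noncomputable def T2 (γ δ : Γ) : B ⊗[R] (ConstGrp.F R Γ ⊗[R] ConstGrp.F R Γ) →ₗ[R] B :=
  (TensorProduct.rid R B).toLinearMap ∘ₗ LinearMap.lTensor B (pairF R Γ γ δ)

theorem T2_tmul (γ δ : Γ) (b : B) (u v : ConstGrp.F R Γ) :
    T2 R B Γ γ δ (b ⊗ₜ[R] (u ⊗ₜ[R] v)) = (u γ * v δ) • b := by
  simp [T2, pairF_tmul]

theorem T2_assoc (γ δ : Γ) (s : B ⊗[R] ConstGrp.F R Γ) (f : ConstGrp.F R Γ) :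
    T2 R B Γ γ δ (TensorProduct.assoc R B (ConstGrp.F R Γ) (ConstGrp.F R Γ) (s ⊗ₜ[R] f)) =
      f δ • T R B Γ γ s := by
  induction s using TensorProduct.induction_on with
  | zero => simp
  | add s s' hs hs' => simp only [TensorProduct.add_tmul, map_add, hs, hs', smul_add]
  | tmul b u =>
    rw [TensorProduct.assoc_tmul, T2_tmul, T_tmul, smul_smul, mul_comm]

theorem T2_lTensor_comul (γ δ : Γ) (t : B ⊗[R] ConstGrp.F R Γ) :
    T2 R B Γ γ δ (LinearMap.lTensor B (Coalgebra.comul (R := R) (A := ConstGrp.F R Γ)) t) =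
      T R B Γ (γ * δ) t := by
  induction t using TensorProduct.induction_on with
  | zero => simp
  | add s s' hs hs' => simp only [map_add, hs, hs']
  | tmul b f =>
    rw [LinearMap.lTensor_tmul, T_tmul]
    simp only [T2, LinearMap.comp_apply, LinearMap.lTensor_tmul, LinearEquiv.coe_coe,
      TensorProduct.rid_tmul, pairF_comul]

theorem T_one_eq (t : B ⊗[R] ConstGrp.F R Γ) :
    T R B Γ 1 t = TensorProduct.rid R B
      (LinearMap.lTensor B (Coalgebra.counit (R := R) (A := ConstGrp.F R Γ)) t) := by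
  induction t using TensorProduct.induction_on with
  | zero => simp
  | add s s' hs hs' => simp only [map_add, hs, hs']
  | tmul b f =>
    rw [T_tmul, LinearMap.lTensor_tmul, TensorProduct.rid_tmul, ConstGrp.counit_apply]

variable [HopfRep.Comod R (ConstGrp.F R Γ) B] [GLin.IsCoactAlg R (ConstGrp.F R Γ) B]

noncomputable def act (γ : Γ) : B →ₐ[R] B :=
  (T R B Γ γ).comp (GLin.coactAlgHom R (ConstGrp.F R Γ) B)

theorem act_apply (γ : Γ) (b : B) :
    act R B Γ γ b = T R B Γ γ (HopfRep.Comod.coact (k := R) (A := ConstGrp.F R Γ) b) := rfl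

theorem act_one (b : B) : act R B Γ 1 b = b := by
  rw [act_apply, T_one_eq]
  have h := LinearMap.congr_fun (HopfRep.Comod.counit_comp (k := R) (A := ConstGrp.F R Γ) (V := B)) b
  rw [LinearMap.comp_apply] at h
  rw [h]
  simp

theorem act_mul (γ δ : Γ) (b : B) : act R B Γ (γ * δ) b = act R B Γ γ (act R B Γ δ b) := by
  have h := LinearMap.congr_fun (HopfRep.Comod.coassoc (k := R) (A := ConstGrp.F R Γ) (V := B)) b
  rw [LinearMap.comp_apply, LinearMap.comp_apply, LinearMap.comp_apply] at h
  have h2 := congrArg (T2 R B Γ γ δ) h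
  rw [T2_lTensor_comul] at h2
  rw [act_apply, ← h2]
  -- expand the inner coaction
  conv_lhs => rw [← sum_T R B Γ (HopfRep.Comod.coact (k := R) (A := ConstGrp.F R Γ) b)]
  rw [map_sum, map_sum]
  simp only [LinearMap.rTensor_tmul, LinearEquiv.coe_coe, map_sum, T2_assoc]
  rw [Finset.sum_eq_single δ]
  · rw [ConstGrp.e_apply_self, one_smul]
    rfl
  · intro a _ ha
    rw [ConstGrp.e_apply_of_ne (Ne.symm ha), zero_smul]
  · intro h; exact absurd (Finset.mem_univ _) h

noncomputable def msa : MulSemiringAction Γ B where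
  smul γ b := act R B Γ γ b
  one_smul := act_one R B Γ
  mul_smul := act_mul R B Γ
  smul_zero γ := map_zero _
  smul_add γ := map_add _
  smul_one γ := map_one _
  smul_mul γ := map_mul _

end

theorem msa_ext {M : Type*} {S : Type*} [Monoid M] [Semiring S] (a a' : MulSemiringAction M S)
    (h : ∀ (g : M) (x : S), a.smul g x = a'.smul g x) : a = a' := by
  cases a with
  | @mk toD h5 h6 =>
    cases a' with
    | @mk toD' h5' h6' =>
      have : toD = toD' := DistribMulAction.ext (funext fun g => funext fun x => h g x)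
      subst this
      rfl

/-- Let R be a commutative ring, Γ a finite group and B a commutative R-algebra equipped with a comodule
structure over the Hopf algebra of R-valued functions on Γ (the coordinate ring of the constant
group scheme of Γ over Spec R, with basis the indicator functions e_γ) whose coaction B → B ⊗ Fun(Γ,
R) is a homomorphism of algebras, i.e. an action of the constant group scheme on Spec B. Then there
is exactly one action of Γ on B by R-algebra automorphisms whose associated coaction b ↦ Σ_γ (γ · b)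
⊗ e_γ is the given coaction; and for that action the ring of invariants of the comodule algebra (the
b whose coaction is b ⊗ 1) equals the ring of elements fixed by Γ. (That the coaction associated
with an action is a comodule algebra structure is the other direction of the published equivalence
and is a construction here.) -/
theorem result (R : Type u) [CommRing R]
    (B : Type u) [CommRing B] [Algebra R B] (Γ : Type u) [Group Γ] [Fintype Γ] [DecidableEq Γ]
    [HopfRep.Comod R (ConstGrp.F R Γ) B] [GLin.IsCoactAlg R (ConstGrp.F R Γ) B] :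
    ∃! a : MulSemiringAction Γ B, ∃ _ : SMulCommClass Γ R B,
      ConstAct.coactLin R B Γ = HopfRep.Comod.coact (k := R) (A := ConstGrp.F R Γ) (V := B) ∧
        GLin.invariants R (ConstGrp.F R Γ) B = ConstAct.inv R B Γ := by
  have hsmul : ∀ (γ : Γ) (b : B), (msa R B Γ).smul γ b =
      T R B Γ γ (HopfRep.Comod.coact (k := R) (A := ConstGrp.F R Γ) b) := fun _ _ => rfl
  have hcomm : @SMulCommClass Γ R B (msa R B Γ).toSMul _ :=
    @SMulCommClass.mk Γ R B (msa R B Γ).toSMul _ (fun γ r b => by
      show (msa R B Γ).smul γ (r • b) = r • (msa R B Γ).smul γ b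
      rw [hsmul, hsmul, map_smul, map_smul])
  have hcoact : @ConstAct.coactLin R _ B _ _ Γ _ _ _ (msa R B Γ) hcomm =
      HopfRep.Comod.coact (k := R) (A := ConstGrp.F R Γ) (V := B) := by
    apply LinearMap.ext
    intro b
    rw [@ConstAct.coactLin_apply R _ B _ _ Γ _ _ _ (msa R B Γ) hcomm b]
    exact sum_T R B Γ _
  refine ⟨msa R B Γ, ⟨hcomm, hcoact, ?_⟩, ?_⟩
  · apply SetLike.ext
    intro b
    show HopfRep.Comod.coact (k := R) (A := ConstGrp.F R Γ) b = b ⊗ₜ[R] 1 ↔
      ∀ γ : Γ, (msa R B Γ).smul γ b = b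
    constructor
    · intro hb γ
      rw [hsmul, hb, T_tmul, ConstGrp.one_apply, one_smul]
    · intro hb
      rw [← sum_T R B Γ (HopfRep.Comod.coact (k := R) (A := ConstGrp.F R Γ) b)]
      simp only [← hsmul, hb]
      rw [← TensorProduct.tmul_sum, ConstGrp.sum_e]
  · rintro a' ⟨hc', h1', -⟩
    symm
    apply msa_ext
    intro γ b
    rw [hsmul, ← h1', @ConstAct.coactLin_apply R _ B _ _ Γ _ _ _ a' hc' b, map_sum]
    simp only [T_tmul]
    rw [Finset.sum_eq_single γ]
    · rw [ConstGrp.e_apply_self, one_smul]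
      rfl
    · intro g _ hg
      rw [ConstGrp.e_apply_of_ne (Ne.symm hg), zero_smul]
    · intro h; exact absurd (Finset.mem_univ _) h

end Groth.Agent.S16962
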