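import Groth.Statements.S16963
import Mathlib

set_option autoImplicit false
universe u
open scoped BigOperators
open ConstAct TensorProduct

namespace Groth.Agent.S16963

open TensorProduct in
/-- Let R be a commutative ring and Γ a finite group acting on a commutative R-algebra B by R-algebra
automorphisms; regard B as a comodule algebra over the Hopf algebra of R-valued functions on Γ (the
constant group scheme of Γ acting on Spec B) through the coaction b ↦ Σ_γ (γ · b) ⊗ e_γ. Then the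
action is tame — there is a comodule map α from the Hopf algebra, with its regular coaction, to B
with α(1) = 1 (a total integral) — if and only if the trace b ↦ Σ_γ γ · b, which takes values in the
ring of invariants B^Γ, maps B onto B^Γ. -/
theorem result (R : Type u) [CommRing R]
    (B : Type u) [CommRing B] [Algebra R B] (Γ : Type u) [Group Γ] [Fintype Γ] [DecidableEq Γ]
    [MulSemiringAction Γ B] [SMulCommClass Γ R B] :
    letI := ConstAct.comod R B Γ
    (∃ α : ConstGrp.F R Γ →ₗ[R] B, Hoch.IsComodHom (ConstGrp.F R Γ) α ∧ α 1 = 1) ↔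
      ∀ c : B, c ∈ ConstAct.inv R B Γ → ∃ b : B, ∑ γ : Γ, γ • b = c := by
  letI := ConstAct.comod R B Γ
  show (∃ α : ConstGrp.F R Γ →ₗ[R] B, Hoch.IsComodHom (ConstGrp.F R Γ) α ∧ α 1 = 1) ↔
      ∀ c : B, c ∈ ConstAct.inv R B Γ → ∃ b : B, ∑ γ : Γ, γ • b = c
  -- coefficient extraction
  let T : Γ → (B ⊗[R] ConstGrp.F R Γ →ₗ[R] B) := fun γ =>
    (TensorProduct.rid R B).toLinearMap ∘ₗ LinearMap.lTensor B (ConstGrp.ev R γ).toLinearMap
  have hT : ∀ (γ : Γ) (b : B) (f : ConstGrp.F R Γ), T γ (b ⊗ₜ[R] f) = f γ • b := by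
    intro γ b f
    simp [T]
  constructor
  · rintro ⟨α, hα, hα1⟩
    have key : ∀ g γ : Γ, γ • α (ConstGrp.e R g) = α (ConstGrp.e R (g * γ⁻¹)) := by
      intro g γ
      have h1 := LinearMap.congr_fun hα (ConstGrp.e R g)
      rw [LinearMap.comp_apply, LinearMap.comp_apply] at h1
      have h2 := congrArg (T γ) h1
      have hL : HopfRep.Comod.coact (k := R) (A := ConstGrp.F R Γ) (α (ConstGrp.e R g)) =
          ∑ γ' : Γ, (γ' • α (ConstGrp.e R g)) ⊗ₜ[R] ConstGrp.e R γ' :=
        ConstAct.coactLin_apply R B Γ _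
      have hR : HopfRep.Comod.coact (k := R) (A := ConstGrp.F R Γ) (ConstGrp.e R g) =
          ∑ a : Γ, ConstGrp.e R a ⊗ₜ[R] ConstGrp.e R (a⁻¹ * g) := ConstGrp.comul_e R Γ g
      rw [hL, hR, map_sum, map_sum, map_sum] at h2
      simp only [LinearMap.rTensor_tmul, hT] at h2
      rw [Finset.sum_eq_single γ, Finset.sum_eq_single (g * γ⁻¹)] at h2
      · rw [ConstGrp.e_apply_self, one_smul, ConstGrp.e_apply, if_pos (by group), one_smul] at h2
        exact h2
      · intro a _ ha
        rw [ConstGrp.e_apply, if_neg, zero_smul]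
        intro h
        apply ha
        rw [h]; group
      · intro h; exact absurd (Finset.mem_univ _) h
      · intro a _ ha
        rw [ConstGrp.e_apply_of_ne (Ne.symm ha), zero_smul]
      · intro h; exact absurd (Finset.mem_univ _) h
    have htr : ∑ γ : Γ, γ • α (ConstGrp.e R 1) = 1 := by
      rw [← hα1, ← ConstGrp.sum_e (R := R) (G := Γ), map_sum]
      refine Fintype.sum_equiv (Equiv.inv Γ) _ _ fun γ => ?_
      rw [key, one_mul]
      rfl
    intro c hc
    refine ⟨c * α (ConstGrp.e R 1), ?_⟩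
    rw [ConstAct.mem_inv] at hc
    simp only [smul_mul', hc]
    rw [← Finset.mul_sum, htr, mul_one]
  · intro h
    obtain ⟨b₀, hb₀⟩ := h 1 (Subalgebra.one_mem _)
    let α : ConstGrp.F R Γ →ₗ[R] B :=
      ∑ g : Γ, (ConstGrp.ev R g).toLinearMap.smulRight (g⁻¹ • b₀)
    have hαe : ∀ h : Γ, α (ConstGrp.e R h) = h⁻¹ • b₀ := by
      intro h
      simp only [α, LinearMap.sum_apply, LinearMap.smulRight_apply, AlgHom.toLinearMap_apply,
        ConstGrp.ev_apply]
      rw [Finset.sum_eq_single h]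
      · rw [ConstGrp.e_apply_self, one_smul]
      · intro a _ ha
        rw [ConstGrp.e_apply_of_ne ha, zero_smul]
      · intro hh; exact absurd (Finset.mem_univ _) hh
    refine ⟨α, ?_, ?_⟩
    · apply ConstGrp.linearMap_ext
      intro h
      rw [LinearMap.comp_apply, LinearMap.comp_apply]
      have hL : HopfRep.Comod.coact (k := R) (A := ConstGrp.F R Γ) (α (ConstGrp.e R h)) =
          ∑ γ' : Γ, (γ' • α (ConstGrp.e R h)) ⊗ₜ[R] ConstGrp.e R γ' :=
        ConstAct.coactLin_apply R B Γ _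
      have hR : HopfRep.Comod.coact (k := R) (A := ConstGrp.F R Γ) (ConstGrp.e R h) =
          ∑ a : Γ, ConstGrp.e R a ⊗ₜ[R] ConstGrp.e R (a⁻¹ * h) := ConstGrp.comul_e R Γ h
      rw [hL, hR, map_sum]
      simp only [LinearMap.rTensor_tmul, hαe]
      refine Fintype.sum_equiv ((Equiv.mulRight h⁻¹).trans (Equiv.inv Γ)) _ _ fun γ => ?_
      show (γ • h⁻¹ • b₀) ⊗ₜ[R] ConstGrp.e R γ =
        (((γ * h⁻¹)⁻¹)⁻¹ • b₀) ⊗ₜ[R] ConstGrp.e R (((γ * h⁻¹)⁻¹)⁻¹ * h)
      rw [inv_inv, mul_smul, inv_mul_cancel_right]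
    · rw [← ConstGrp.sum_e (R := R) (G := Γ), map_sum, ← hb₀]
      refine Fintype.sum_equiv (Equiv.inv Γ) _ _ fun γ => ?_
      rw [hαe]
      rfl

end Groth.Agent.S16963
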