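import Groth.Statements.S16979
import Mathlib

set_option autoImplicit false
universe u v
open CAlg

namespace Groth.Agent.S16979

/-- Let R be an integral domain with fraction field K and φ a square matrix over R whose characteristic
polynomial becomes separable in K[T] (equivalently, K[T] modulo the characteristic polynomial is
geometrically reduced over K). Then a polynomial f over R satisfies f(φ) = 0 exactly when the
characteristic polynomial of φ divides f in R[T]: the kernel of evaluation at φ (the minimal ideal
of φ) is the principal ideal generated by the characteristic polynomial. -/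
theorem result
    {R : Type u} [CommRing R] [IsDomain R] {n : Type v} [Fintype n] [DecidableEq n]
    (φ : Matrix n n R)
    (hsep : (φ.charpoly.map (algebraMap R (FractionRing R))).Separable) :
    RingHom.ker (Polynomial.aeval (R := R) φ) = Ideal.span {φ.charpoly} := by
  classical
  have hmonic : φ.charpoly.Monic := Matrix.charpoly_monic φ
  ext f
  rw [RingHom.mem_ker, Ideal.mem_span_singleton]
  constructor
  · intro hf
    have hdiv := Polynomial.modByMonic_add_div f (q := φ.charpoly)
    have hr0 : Polynomial.aeval φ (f %ₘ φ.charpoly) = 0 := by
      have := congrArg (Polynomial.aeval φ) hdiv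
      rw [map_add, map_mul, Matrix.aeval_self_charpoly, zero_mul, add_zero, hf] at this
      exact this
    suffices hrz : f %ₘ φ.charpoly = 0 by
      rw [← hdiv, hrz, zero_add]; exact dvd_mul_right _ _
    by_contra hne
    -- pass to the algebraic closure
    let K := FractionRing R
    let L := AlgebraicClosure K
    let i : R →+* L := (algebraMap K L).comp (algebraMap R K)
    have hi : Function.Injective i :=
      (algebraMap K L).injective.comp (IsFractionRing.injective R K)
    let ψ : Matrix n n L := φ.map i
    have hcomm : (algebraMap L (Matrix n n L)).comp i =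
        (RingHom.mapMatrix i).comp (algebraMap R (Matrix n n R)) := by
      ext x a b
      by_cases hab : a = b <;> simp [Matrix.algebraMap_matrix_apply, hab]
    have hψr : Polynomial.aeval ψ ((f %ₘ φ.charpoly).map i) = 0 := by
      have := Polynomial.map_aeval_eq_aeval_map hcomm (f %ₘ φ.charpoly) φ
      rw [hr0, map_zero] at this
      exact this.symm
    have hχ : ψ.charpoly = φ.charpoly.map i := Matrix.charpoly_map φ i
    have hsepL : ψ.charpoly.Separable := by
      rw [hχ, ← Polynomial.map_map]
      exact hsep.map
    have hsplit : ψ.charpoly.Splits := IsAlgClosed.splits _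
    have hψne : ψ.charpoly ≠ 0 := (Matrix.charpoly_monic ψ).ne_zero
    have hmin_dvd : minpoly L ψ ∣ (f %ₘ φ.charpoly).map i := minpoly.dvd L ψ hψr
    have hmin_ne : minpoly L ψ ≠ 0 := minpoly.ne_zero (Matrix.isIntegral ψ)
    have hroots : ψ.charpoly.roots ≤ (minpoly L ψ).roots := by
      rw [Multiset.le_iff_subset (Polynomial.nodup_roots hsepL)]
      intro a ha
      rw [Polynomial.mem_roots hψne, ← Matrix.charpoly_toLin',
        ← Module.End.hasEigenvalue_iff_isRoot_charpoly, Module.End.hasEigenvalue_iff_isRoot,
        Matrix.minpoly_toLin'] at ha
      exact (Polynomial.mem_roots hmin_ne).2 ha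
    have hdvd : ψ.charpoly ∣ (f %ₘ φ.charpoly).map i :=
      (hsplit.dvd_of_roots_le_roots hψne hroots).trans hmin_dvd
    have hne' : (f %ₘ φ.charpoly).map i ≠ 0 := by
      rwa [Ne, Polynomial.map_eq_zero_iff hi]
    have hdeg := Polynomial.degree_le_of_dvd hdvd hne'
    have hdeg2 : ((f %ₘ φ.charpoly).map i).degree < ψ.charpoly.degree := by
      rw [hχ, Polynomial.degree_map_eq_of_injective hi, Polynomial.degree_map_eq_of_injective hi]
      exact Polynomial.degree_modByMonic_lt f hmonic
    exact absurd hdeg (not_le.2 hdeg2)
  · rintro ⟨q, rfl⟩
    rw [map_mul, Matrix.aeval_self_charpoly, zero_mul]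

end Groth.Agent.S16979
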