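import Groth.Statements.S16984
import Mathlib

set_option autoImplicit false
universe u v w
open Hoch

namespace Groth.Agent.S16984

open TensorProduct in
/-- Let k be a commutative ring, A a commutative k-bialgebra that is flat over k (the coordinate ring of
a flat affine group scheme over Spec k; flatness and commutativity are the standing hypotheses of
the appendix and are not needed for the assertion) and P a k-module. Then p ↦ p ⊗ 1 is an injection
of P into the induced comodule P ⊗ A (coaction id ⊗ Δ) whose image is exactly the submodule of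
invariants, i.e. the elements with coaction x ↦ x ⊗ 1. (The published statement writes the
coordinate-ring factor on the left and calls this module coinduced; this row is its degree-zero
part, the identification of P with the invariants of the coinduced module.) -/
theorem result (k : Type u) [CommRing k] (A : Type v) [CommRing A] [Bialgebra k A]
    [Module.Flat k A] (P : Type w) [AddCommGroup P] [Module k P] :
    Function.Injective ((Hoch.Ind.equiv k A P).toLinearMap ∘ₗ (TensorProduct.mk k P A).flip (1 : A)) ∧
    LinearMap.range ((Hoch.Ind.equiv k A P).toLinearMap ∘ₗ (TensorProduct.mk k P A).flip (1 : A)) =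
      HopfRep.fixedPts k A (Hoch.Ind k A P) := by
  classical
  set ι : P →ₗ[k] Hoch.Ind k A P :=
    (Hoch.Ind.equiv k A P).toLinearMap ∘ₗ (TensorProduct.mk k P A).flip (1 : A) with hι
  have hι_apply : ∀ p : P, ι p = Hoch.Ind.equiv k A P (p ⊗ₜ[k] (1 : A)) := fun p => rfl
  have hretr : ∀ p : P, Hoch.Ind.counit k A P (ι p) = p := by
    intro p
    rw [hι_apply, Hoch.Ind.counit_equiv_tmul, Bialgebra.counit_one, one_smul]
  -- the map T
  let T : (P ⊗[k] A) ⊗[k] A →ₗ[k] P ⊗[k] A :=
    ((TensorProduct.rid k P).toLinearMap ∘ₗ
      (Coalgebra.counit (R := k) (A := A)).lTensor P).rTensor A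
  have hT1 : ∀ (p : P) (y : A ⊗[k] A),
      T ((TensorProduct.assoc k P A A).symm (p ⊗ₜ[k] y)) =
        p ⊗ₜ[k] (TensorProduct.lid k A ((Coalgebra.counit (R := k) (A := A)).rTensor A y)) := by
    intro p y
    induction y using TensorProduct.induction_on with
    | zero => simp
    | tmul a b =>
      simp only [TensorProduct.assoc_symm_tmul, T, LinearMap.rTensor_tmul, LinearMap.comp_apply,
        LinearMap.lTensor_tmul, LinearEquiv.coe_coe, TensorProduct.rid_tmul,
        TensorProduct.lid_tmul]
      rw [TensorProduct.smul_tmul]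
    | add y z hy hz =>
      simp only [TensorProduct.tmul_add, map_add, hy, hz]
  have hT : ∀ x : P ⊗[k] A, T (Hoch.Ind.coactAux k A P x) = x := by
    intro x
    induction x using TensorProduct.induction_on with
    | zero => simp
    | tmul p a =>
      rw [Hoch.Ind.coactAux_tmul, hT1, Coalgebra.rTensor_counit_comul]
      simp
    | add y z hy hz => simp only [map_add, hy, hz]
  have hT2 : ∀ x : P ⊗[k] A, T (x ⊗ₜ[k] (1 : A)) =
      ((TensorProduct.rid k P) ((Coalgebra.counit (R := k) (A := A)).lTensor P x)) ⊗ₜ[k] (1 : A) := by
    intro x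
    simp [T]
  refine ⟨?_, ?_⟩
  · intro p q hpq
    have := congrArg (Hoch.Ind.counit k A P) hpq
    rwa [hretr, hretr] at this
  · apply le_antisymm
    · rintro _ ⟨p, rfl⟩
      change HopfRep.Comod.coact (k := k) (A := A) (ι p) = (ι p) ⊗ₜ[k] (1 : A)
      rw [hι_apply, Hoch.Ind.coact_equiv_tmul, Bialgebra.comul_one]
      rfl
    · intro x hx
      obtain ⟨y, rfl⟩ := (Hoch.Ind.equiv k A P).surjective x
      have hx' : Hoch.Ind.coactAux k A P y = (y ⊗ₜ[k] (1 : A) : (P ⊗[k] A) ⊗[k] A) := hx
      have h1 := hT y
      rw [hx', hT2] at h1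
      exact ⟨_, h1⟩

end Groth.Agent.S16984
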