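import Groth.Statements.S16985
import Mathlib

set_option autoImplicit false
universe u v
open Hoch

namespace Groth.Agent.S16985

open TensorProduct in
theorem tail_nat (k : Type u) [CommRing k] (A : Type v) [CommRing A] [Bialgebra k A]
    (M M' : Type v) [AddCommGroup M] [Module k M] [AddCommGroup M'] [Module k M'] (f : M →ₗ[k] M')
    (x : M ⊗[k] A) :
    Hoch.tail k A M' (f.rTensor A x) = (f.rTensor A).rTensor A (Hoch.tail k A M x) := by
  induction x using TensorProduct.induction_on with
  | zero => simp
  | add x y hx hy => rw [map_add, map_add, map_add, map_add, hx, hy]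
  | tmul m a =>
    rw [LinearMap.rTensor_tmul, Hoch.tail_tmul, Hoch.tail_tmul]
    generalize (Coalgebra.comul (R := k) a - a ⊗ₜ[k] 1 - 1 ⊗ₜ[k] a) = t
    induction t using TensorProduct.induction_on with
    | zero => simp
    | add x y hx hy => rw [TensorProduct.tmul_add, TensorProduct.tmul_add, map_add, map_add, map_add, hx, hy]
    | tmul x y => rfl

/-- the contracting homotopy -/
noncomputable def s (k : Type u) [CommRing k] (A : Type v) [CommRing A] [Bialgebra k A]
    (P : Type v) [AddCommGroup P] [Module k P] :
    (n : ℕ) → ((Hoch.cochain k A (Hoch.Ind k A P) (n + 1) : Type v) →ₗ[k]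
      (Hoch.cochain k A (Hoch.Ind k A P) n : Type v))
  | 0 => (Hoch.Ind.equiv k A P).toLinearMap ∘ₗ (Hoch.Ind.counit k A P).rTensor A
  | n + 1 => (s k A P n).rTensor A


open TensorProduct in
theorem base_plain (k : Type u) [CommRing k] (A : Type v) [CommRing A] [Bialgebra k A]
    (P : Type v) [AddCommGroup P] [Module k P] (x : (P ⊗[k] A) ⊗[k] A) :
    (Hoch.Ind.coactAux k A P - (TensorProduct.mk k (P ⊗[k] A) A).flip 1)
        ((((TensorProduct.rid k P).toLinearMap ∘ₗ
          (Coalgebra.counit (R := k) (A := A)).lTensor P).rTensor A) x) +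
      ((((TensorProduct.rid k P).toLinearMap ∘ₗ
          (Coalgebra.counit (R := k) (A := A)).lTensor P).rTensor A).rTensor A)
        (((Hoch.Ind.coactAux k A P - (TensorProduct.mk k (P ⊗[k] A) A).flip 1).rTensor A) x -
          Hoch.tail k A (P ⊗[k] A) x) = x := by
  set c' : P ⊗[k] A →ₗ[k] P := (TensorProduct.rid k P).toLinearMap ∘ₗ
          (Coalgebra.counit (R := k) (A := A)).lTensor P with hc'
  have hc'a : ∀ (p : P) (a : A), c' (p ⊗ₜ[k] a) = Coalgebra.counit (R := k) a • p := by
    intro p a
    simp [c']
  -- L1
  have L1 : ∀ y : P ⊗[k] A, c'.rTensor A (Hoch.Ind.coactAux k A P y) = y := by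
    intro y
    induction y using TensorProduct.induction_on with
    | zero => simp
    | add x y hx hy => rw [map_add, map_add, hx, hy]
    | tmul p a =>
      rw [Hoch.Ind.coactAux_tmul]
      have h : ∀ t : A ⊗[k] A, c'.rTensor A ((TensorProduct.assoc k P A A).symm (p ⊗ₜ[k] t)) =
          p ⊗ₜ[k] (TensorProduct.lid k A ((Coalgebra.counit (R := k) (A := A)).rTensor A t)) := by
        intro t
        induction t using TensorProduct.induction_on with
        | zero => simp
        | add x y hx hy =>
          rw [TensorProduct.tmul_add, map_add, map_add, hx, hy, map_add, map_add,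
            TensorProduct.tmul_add]
        | tmul b b' =>
          rw [TensorProduct.assoc_symm_tmul, LinearMap.rTensor_tmul, hc'a, LinearMap.rTensor_tmul,
            TensorProduct.lid_tmul, TensorProduct.smul_tmul]
      rw [h, Coalgebra.rTensor_counit_comul, TensorProduct.lid_tmul, one_smul]
  -- L2
  have L2 : ∀ (y : P ⊗[k] A) (t : A ⊗[k] A),
      (c'.rTensor A).rTensor A ((TensorProduct.assoc k (P ⊗[k] A) A A).symm (y ⊗ₜ[k] t)) =
        (TensorProduct.assoc k P A A).symm (c' y ⊗ₜ[k] t) := by
    intro y t
    induction t using TensorProduct.induction_on with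
    | zero => simp
    | add x y hx hy => rw [TensorProduct.tmul_add, map_add, map_add, hx, hy, TensorProduct.tmul_add, map_add]
    | tmul b b' => rfl
  induction x using TensorProduct.induction_on with
  | zero => simp
  | add x y hx hy =>
    simp only [map_add, map_sub] at hx hy ⊢
    conv_rhs => rw [← hx, ← hy]
    abel
  | tmul y a =>
    rw [LinearMap.rTensor_tmul, LinearMap.rTensor_tmul, Hoch.tail_tmul, LinearMap.sub_apply,
      LinearMap.sub_apply, map_sub, LinearMap.rTensor_tmul, map_sub, L1, L2]
    simp only [LinearMap.flip_apply, TensorProduct.mk_apply, LinearMap.rTensor_tmul,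
      Hoch.Ind.coactAux_tmul, TensorProduct.tmul_sub, map_sub, TensorProduct.assoc_symm_tmul,
      TensorProduct.sub_tmul]
    abel

open TensorProduct in
theorem homotopy (k : Type u) [CommRing k] (A : Type v) [CommRing A] [Bialgebra k A]
    (P : Type v) [AddCommGroup P] [Module k P] (n : ℕ) :
    ∀ x : (Hoch.cochain k A (Hoch.Ind k A P) (n + 1) : Type v),
      Hoch.d k A (Hoch.Ind k A P) n (s k A P n x) +
        s k A P (n + 1) (Hoch.d k A (Hoch.Ind k A P) (n + 1) x) = x := by
  induction n with
  | zero =>
    intro x
    have h1 : Hoch.d k A (Hoch.Ind k A P) (0 + 1) x =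
        (Hoch.d k A (Hoch.Ind k A P) 0).rTensor A x -
          Hoch.tail k A (Hoch.cochain k A (Hoch.Ind k A P) 0) x := by
      have h0 : ((-1 : k)) ^ (0 + 1) = -1 := by norm_num
      rw [Hoch.d_succ, LinearMap.add_apply, LinearMap.smul_apply, h0, sub_eq_add_neg]
      congr 1
      exact neg_one_smul k _
    rw [h1]
    exact base_plain k A P x
  | succ n ih =>
    have h3 : ∀ x : (Hoch.cochain k A (Hoch.Ind k A P) (n + 1) : Type v) ⊗[k] A,
        (Hoch.d k A (Hoch.Ind k A P) n).rTensor A ((s k A P n).rTensor A x) +
        (s k A P (n + 1)).rTensor A ((Hoch.d k A (Hoch.Ind k A P) (n + 1)).rTensor A x) = x := by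
      intro x
      induction x using TensorProduct.induction_on with
      | zero => simp
      | add x y hx hy =>
        simp only [map_add]
        conv_rhs => rw [← hx, ← hy]
        abel
      | tmul y a =>
        rw [LinearMap.rTensor_tmul, LinearMap.rTensor_tmul, LinearMap.rTensor_tmul,
          LinearMap.rTensor_tmul, ← TensorProduct.add_tmul, ih y]
    intro x
    have h1 : Hoch.d k A (Hoch.Ind k A P) (n + 1) (s k A P (n + 1) x) =
        (Hoch.d k A (Hoch.Ind k A P) n).rTensor A ((s k A P n).rTensor A x) +
          ((-1 : k) ^ (n + 1)) • Hoch.tail k A (Hoch.cochain k A (Hoch.Ind k A P) n)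
            ((s k A P n).rTensor A x) := by
      rw [Hoch.d_succ]
      rfl
    have h2 : s k A P (n + 1 + 1) (Hoch.d k A (Hoch.Ind k A P) (n + 1 + 1) x) =
        (s k A P (n + 1)).rTensor A ((Hoch.d k A (Hoch.Ind k A P) (n + 1)).rTensor A x) +
          ((-1 : k) ^ (n + 1 + 1)) • ((s k A P n).rTensor A).rTensor A
            (Hoch.tail k A (Hoch.cochain k A (Hoch.Ind k A P) (n + 1)) x) := by
      rw [Hoch.d_succ k A _ (n + 1), LinearMap.add_apply, LinearMap.smul_apply, map_add, map_smul]
      rfl
    rw [h1, h2, tail_nat, pow_succ _ (n + 1), mul_neg_one]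
    conv_rhs => rw [← h3 x]
    module

open TensorProduct in
/-- Let k be a commutative ring, A a commutative k-bialgebra flat over k (the coordinate ring of a flat
affine group scheme over Spec k; flatness and commutativity are the standing hypotheses of the
appendix and are not needed for the assertion) and P a k-module. Then the cochain complex of the
induced comodule P ⊗ A (coaction id ⊗ Δ), with n-cochains (P ⊗ A) ⊗ A ⊗ ⋯ ⊗ A, has every
(n+1)-cocycle an (n+1)-coboundary, for all n. (The published statement is the vanishing of the
higher derived functors of invariants on coinduced modules; this row states the vanishing in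
positive degrees of the cohomology of the cochain complex above, which the same appendix identifies
with those derived functors. P is taken in the universe of A, as the cochain modules require.) -/
theorem result (k : Type u) [CommRing k] (A : Type v) [CommRing A]
    [Bialgebra k A] [Module.Flat k A] (P : Type v) [AddCommGroup P] [Module k P] (n : ℕ) :
    Hoch.cocycles k A (Hoch.Ind k A P) (n + 1) ≤ Hoch.coboundaries k A (Hoch.Ind k A P) (n + 1) := by
  intro c hc
  have h := homotopy k A P n c
  have hc' : Hoch.d k A (Hoch.Ind k A P) (n + 1) c = 0 := hc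
  rw [hc', map_zero, add_zero] at h
  exact ⟨s k A P n c, h⟩

end Groth.Agent.S16985
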