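import Groth.Statements.S17014
import Mathlib
import Groth.Agent.Lib.helper6.QuadHalfDisc2

set_option autoImplicit false
universe u v
open QuadGrp Groth.Agent.Lib.helper6
set_option linter.style.haveILetI false

namespace Groth.Agent.S17014

/-- For a quadratic form Q on a free module with a basis b indexed by Fin (2m+1) over a commutative ring
and any linear endomorphism g of the module, the half-discriminant of Q ∘ g relative to b is (det
g)² times that of Q. -/
theorem result {R : Type u} [CommRing R] {M : Type v} [AddCommGroup M] [Module R M]
    (m : ℕ) (b : Module.Basis (Fin (2 * m + 1)) R M) (Q : QuadraticForm R M) (g : M →ₗ[R] M) :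
    QuadGrp.halfDisc b (LinearEquiv.refl R R) (Q.comp g) =
      LinearMap.det g ^ 2 * QuadGrp.halfDisc b (LinearEquiv.refl R R) Q := by
  exact H6_halfDisc_comp ⟨m, rfl⟩ b Q g

end Groth.Agent.S17014
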