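import Groth.Statements.S17065
import Mathlib

set_option autoImplicit false
universe u
open CAlg

namespace Groth.Agent.S17065

/-- The local algebraic statement its proof establishes: let A be a Noetherian ring, I ≤ J radical
ideals and Â the J-adic completion of A. If J^n Â ⊆ I Â for some n, then the closed set V(J) is open
inside V(I) ⊆ Spec A. (Globally: if X₂ ⊆ X₁ are the completions of a locally Noetherian scheme along
nested closed subsets Z₂ ⊆ Z₁ and the ideal of Z₁ generates an ideal of definition of X₂, then X₂ is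
a union of connected components of X₁.) -/
theorem result (A : Type u) [CommRing A] [IsNoetherianRing A]
    (I J : Ideal A) (hIJ : I ≤ J) (hI : I.IsRadical) (hJ : J.IsRadical) (n : ℕ)
    (h : (J ^ n).map (algebraMap A (AdicCompletion J A)) ≤ I.map (algebraMap A (AdicCompletion J A))) :
    IsOpen ((fun x : PrimeSpectrum.zeroLocus (I : Set A) => (x : PrimeSpectrum A)) ⁻¹'
      PrimeSpectrum.zeroLocus (J : Set A)) := by
  classical
  have key : J ^ n ≤ I ⊔ J ^ (n + 1) := by
    intro x hx
    have h1 : algebraMap A (AdicCompletion J A) x ∈ I.map (algebraMap A (AdicCompletion J A)) :=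
      h (Ideal.mem_map_of_mem _ hx)
    have h2 := Ideal.mem_map_of_mem ((AdicCompletion.evalₐ J (n + 1)).toRingHom) h1
    rw [Ideal.map_map] at h2
    have h3 : ((AdicCompletion.evalₐ J (n + 1)).toRingHom).comp
        (algebraMap A (AdicCompletion J A)) = Ideal.Quotient.mk (J ^ (n + 1)) := by
      ext a
      simp
    rw [h3] at h2
    have h4 : ((AdicCompletion.evalₐ J (n + 1)).toRingHom)
        (algebraMap A (AdicCompletion J A) x) = Ideal.Quotient.mk (J ^ (n + 1)) x := by
      simp
    rw [h4] at h2
    have h5 : x ∈ (I.map (Ideal.Quotient.mk (J ^ (n + 1)))).comap (Ideal.Quotient.mk (J ^ (n + 1))) :=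
      h2
    rw [Ideal.comap_map_of_surjective _ Ideal.Quotient.mk_surjective] at h5
    have h6 : Ideal.comap (Ideal.Quotient.mk (J ^ (n + 1))) ⊥ = J ^ (n + 1) := by
      rw [← RingHom.ker_eq_comap_bot, Ideal.mk_ker]
    rw [h6] at h5
    exact h5
  -- Nakayama
  obtain ⟨r, hr1, hr2⟩ := Submodule.exists_sub_one_mem_and_smul_eq_zero_of_fg_of_le_smul J
    (Submodule.map (Submodule.mkQ I) (J ^ n)) ((IsNoetherian.noetherian (J ^ n)).map _) (by
      rintro _ ⟨x, hx, rfl⟩
      obtain ⟨i, hi, y, hy, rfl⟩ := Submodule.mem_sup.mp (key hx)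
      have hi0 : Submodule.mkQ I i = 0 := by
        rw [Submodule.mkQ_apply]
        exact (Submodule.Quotient.mk_eq_zero I).mpr hi
      rw [map_add, hi0, zero_add]
      rw [pow_succ', ← smul_eq_mul] at hy
      rw [← Submodule.map_smul'']
      exact Submodule.mem_map_of_mem hy)
  have hrI : ∀ x ∈ J ^ n, r * x ∈ I := by
    intro x hx
    have := hr2 _ (Submodule.mem_map_of_mem hx)
    rw [← map_smul, smul_eq_mul, Submodule.mkQ_apply] at this
    exact (Submodule.Quotient.mk_eq_zero I).mp this
  have hset : ((fun x : PrimeSpectrum.zeroLocus (I : Set A) => (x : PrimeSpectrum A)) ⁻¹'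
      PrimeSpectrum.zeroLocus (J : Set A)) =
      ((fun x : PrimeSpectrum.zeroLocus (I : Set A) => (x : PrimeSpectrum A)) ⁻¹'
      (PrimeSpectrum.basicOpen r : Set (PrimeSpectrum A))) := by
    ext ⟨q, hq⟩
    simp only [Set.mem_preimage, PrimeSpectrum.mem_zeroLocus, SetLike.coe_subset_coe,
      SetLike.mem_coe, PrimeSpectrum.mem_basicOpen]
    rw [PrimeSpectrum.mem_zeroLocus, SetLike.coe_subset_coe] at hq
    constructor
    · intro hJq hrq
      have h1 : r - 1 ∈ q.asIdeal := hJq hr1
      have : (1 : A) ∈ q.asIdeal := by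
        have := q.asIdeal.sub_mem hrq h1
        simpa using this
      exact q.isPrime.ne_top ((Ideal.eq_top_iff_one _).mpr this)
    · intro hrq x hx
      have h1 : r * x ^ n ∈ q.asIdeal := hq (hrI _ (Ideal.pow_mem_pow hx n))
      rcases q.isPrime.mem_or_mem h1 with h2 | h2
      · exact absurd h2 hrq
      · exact q.isPrime.mem_of_pow_mem n h2
  rw [hset]
  exact (PrimeSpectrum.basicOpen r).isOpen.preimage continuous_subtype_val

end Groth.Agent.S17065
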