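import Groth.Statements.S17077
import Mathlib

set_option autoImplicit false
universe u
open RatCurve

namespace Groth.Agent.S17077

/-- Let k be an algebraically closed field and F_0, …, F_{n-1} homogeneous polynomials in k[u, v] (of
possibly different degrees). Then the F_i have a common factor which is not a unit if and only if
they have a common zero (a, b) ≠ (0, 0) in k², that is, a common zero in the projective line. -/
theorem result
    {k : Type u} [Field k] [IsAlgClosed k] {n : ℕ} (F : Fin n → MvPolynomial (Fin 2) k)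
    (d : Fin n → ℕ) (hF : ∀ i, (F i).IsHomogeneous (d i)) :
    (∃ H : MvPolynomial (Fin 2) k, ¬ IsUnit H ∧ ∀ i, H ∣ F i) ↔
      ∃ a : Fin 2 → k, a ≠ 0 ∧ ∀ i, MvPolynomial.eval a (F i) = 0 := by
  classical
  have SL : ∀ {S : Type u} [CommRing S] (g : k →+* S) (t : S) (v : Fin 2 → S)
      (P : MvPolynomial (Fin 2) k) (e : ℕ), P.IsHomogeneous e →
      MvPolynomial.eval₂ g (fun i => t * v i) P = t ^ e * MvPolynomial.eval₂ g v P := by
    intro S _ g t v P e hP
    rw [MvPolynomial.eval₂_eq, MvPolynomial.eval₂_eq, Finset.mul_sum]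
    refine Finset.sum_congr rfl fun m hm => ?_
    have hdeg := hP.degree_eq_sum_deg_support hm
    rw [show (∏ i ∈ m.support, (t * v i) ^ m i) = t ^ e * ∏ i ∈ m.support, v i ^ m i from by
      rw [hdeg, ← Finset.prod_pow_eq_pow_sum, ← Finset.prod_mul_distrib]
      exact Finset.prod_congr rfl fun i _ => mul_pow _ _ _]
    ring
  constructor
  · rintro ⟨H, hHu, hHF⟩
    by_contra hno
    push Not at hno
    apply hHu
    obtain ⟨I, hI⟩ : ∃ I : Ideal (MvPolynomial (Fin 2) k), I = Ideal.span (Set.range F) :=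
      ⟨_, rfl⟩
    have hIH : I ≤ Ideal.span {H} := by
      rw [hI, Ideal.span_le]
      rintro _ ⟨i, rfl⟩
      exact Ideal.mem_span_singleton.mpr (hHF i)
    have hX : ∀ j : Fin 2, ∃ N : ℕ, H ∣ (MvPolynomial.X j) ^ N := by
      intro j
      have h1 : (MvPolynomial.X j : MvPolynomial (Fin 2) k) ∈
          MvPolynomial.vanishingIdeal k (MvPolynomial.zeroLocus k I) := by
        rw [MvPolynomial.mem_vanishingIdeal_iff]
        intro a ha
        have ha0 : a = 0 := by
          by_contra hne
          obtain ⟨i, hi⟩ := hno a hne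
          apply hi
          have h2 := (MvPolynomial.mem_zeroLocus_iff.mp ha) (F i)
            (by rw [hI]; exact Ideal.subset_span ⟨i, rfl⟩)
          exact h2
        rw [ha0, MvPolynomial.aeval_X]
        rfl
      rw [MvPolynomial.vanishingIdeal_zeroLocus_eq_radical] at h1
      obtain ⟨N, hN⟩ := h1
      exact ⟨N, Ideal.mem_span_singleton.mp (hIH hN)⟩
    obtain ⟨N0, h0⟩ := hX 0
    obtain ⟨N1, h1⟩ := hX 1
    have hrel0 : IsRelPrime (MvPolynomial.X 0 : MvPolynomial (Fin 2) k) (MvPolynomial.X 1) := by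
      rw [(MvPolynomial.X_prime (R := k) (σ := Fin 2) (i := 0)).irreducible.isRelPrime_iff_not_dvd]
      rintro ⟨G, hG⟩
      have h3 := congrArg (MvPolynomial.eval (![0, 1] : Fin 2 → k)) hG
      simp at h3
    exact (hrel0.pow (m := N0) (n := N1)) h0 h1
  · rintro ⟨a, ha, haF⟩
    obtain ⟨L, hL⟩ : ∃ L : MvPolynomial (Fin 2) k, L =
        MvPolynomial.C (a 1) * MvPolynomial.X 0 - MvPolynomial.C (a 0) * MvPolynomial.X 1 :=
      ⟨_, rfl⟩
    obtain ⟨J, hJ⟩ : ∃ J : Ideal (MvPolynomial (Fin 2) k), J = Ideal.span {L} := ⟨_, rfl⟩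
    obtain ⟨g, hg⟩ : ∃ g : k →+* (MvPolynomial (Fin 2) k ⧸ J),
        ∀ c, g c = Ideal.Quotient.mk J (MvPolynomial.C c) :=
      ⟨(Ideal.Quotient.mk J).comp MvPolynomial.C, fun _ => rfl⟩
    obtain ⟨x, hx⟩ : ∃ x : Fin 2 → (MvPolynomial (Fin 2) k ⧸ J),
        ∀ j, x j = Ideal.Quotient.mk J (MvPolynomial.X j) := ⟨_, fun _ => rfl⟩
    have hmk : ∀ P : MvPolynomial (Fin 2) k,
        Ideal.Quotient.mk J P = MvPolynomial.eval₂ g x P := by
      intro P
      induction P using MvPolynomial.induction_on with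
      | C c => rw [MvPolynomial.eval₂_C, hg]
      | add p q hp hq => rw [map_add, MvPolynomial.eval₂_add, hp, hq]
      | mul_X p j hp => rw [map_mul, MvPolynomial.eval₂_mul, MvPolynomial.eval₂_X, hp, hx j]
    have hga : ∀ P : MvPolynomial (Fin 2) k,
        MvPolynomial.eval₂ g (fun i => g (a i)) P = g (MvPolynomial.eval a P) := by
      intro P
      induction P using MvPolynomial.induction_on with
      | C c => rw [MvPolynomial.eval₂_C, MvPolynomial.eval_C]
      | add p q hp hq => rw [MvPolynomial.eval₂_add, map_add, map_add, hp, hq]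
      | mul_X p n hp =>
        rw [MvPolynomial.eval₂_mul, MvPolynomial.eval₂_X, map_mul, map_mul, MvPolynomial.eval_X, hp]
    have hL0 : Ideal.Quotient.mk J L = 0 := by
      rw [Ideal.Quotient.eq_zero_iff_mem, hJ]
      exact Ideal.mem_span_singleton_self L
    rw [hL, map_sub, map_mul, map_mul, ← hg, ← hg, ← hx, ← hx, sub_eq_zero] at hL0
    have h2 : ∀ i : Fin 2, i = 0 ∨ i = 1 := by decide
    have hsym : ∀ i j : Fin 2, g (a j) * x i = g (a i) * x j := by
      intro i j
      rcases h2 i with rfl | rfl <;> rcases h2 j with rfl | rfl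
      · rfl
      · exact hL0
      · exact hL0.symm
      · rfl
    obtain ⟨j, hj⟩ : ∃ j, a j ≠ 0 := by
      by_contra h
      push Not at h
      exact ha (funext h)
    have hginv : g (a j)⁻¹ * g (a j) = 1 := by rw [← map_mul, inv_mul_cancel₀ hj, map_one]
    have hxv : ∀ i, x i = (g (a j)⁻¹ * x j) * g (a i) := by
      intro i
      calc x i = (g (a j)⁻¹ * g (a j)) * x i := by rw [hginv, one_mul]
        _ = g (a j)⁻¹ * (g (a j) * x i) := by ring
        _ = g (a j)⁻¹ * (g (a i) * x j) := by rw [hsym i j]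
        _ = (g (a j)⁻¹ * x j) * g (a i) := by ring
    refine ⟨L, ?_, fun i => ?_⟩
    · intro hu
      have h1 := hu.map (MvPolynomial.eval a)
      have h3 : MvPolynomial.eval a L = 0 := by
        rw [hL]
        simp only [map_sub, map_mul, MvPolynomial.eval_C, MvPolynomial.eval_X]
        ring
      rw [h3] at h1
      exact not_isUnit_zero h1
    · rw [← Ideal.mem_span_singleton, ← hJ, ← Ideal.Quotient.eq_zero_iff_mem]
      have key : MvPolynomial.eval₂ g (fun i' => (g (a j)⁻¹ * x j) * g (a i')) (F i) =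
          (g (a j)⁻¹ * x j) ^ d i * MvPolynomial.eval₂ g (fun i' => g (a i')) (F i) :=
        SL g (g (a j)⁻¹ * x j) (fun i' => g (a i')) (F i) (d i) (hF i)
      have hxfun : x = fun i' => (g (a j)⁻¹ * x j) * g (a i') := funext hxv
      rw [hmk, hxfun, key, hga, haF i, map_zero, mul_zero]

end Groth.Agent.S17077
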