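import Groth.Statements.S17078
import Mathlib
import Groth.Agent.S17077

set_option autoImplicit false
universe u
open RatCurve

namespace Groth.Agent.S17078

/-- Let k be an algebraically closed field and F_0, …, F_{n-1} homogeneous polynomials of degree d in
k[u, v]. Then the F_i have no common factor other than units if and only if there is an integer m ≥
d such that every homogeneous polynomial of degree m can be written Σ_i F_i G_i with each G_i
homogeneous of degree m − d, i.e. the k-linear map (G_i)_i ↦ Σ_i F_i G_i from n copies of k[u,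
v]_{m−d} to k[u, v]_m is surjective. -/
theorem result
    {k : Type u} [Field k] [IsAlgClosed k] {n : ℕ} (F : Fin n → MvPolynomial (Fin 2) k)
    (d : ℕ) (hF : ∀ i, (F i).IsHomogeneous d) :
    (¬ ∃ H : MvPolynomial (Fin 2) k, ¬ IsUnit H ∧ ∀ i, H ∣ F i) ↔
      ∃ m : ℕ, d ≤ m ∧ ∀ P : MvPolynomial (Fin 2) k, P.IsHomogeneous m →
        ∃ G : Fin n → MvPolynomial (Fin 2) k, (∀ i, (G i).IsHomogeneous (m - d)) ∧
          P = ∑ i, F i * G i := by
  classical
  letI : GradedAlgebra (MvPolynomial.homogeneousSubmodule (Fin 2) k) := MvPolynomial.gradedAlgebra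
  have hdec : ∀ (φ : MvPolynomial (Fin 2) k) (i : ℕ),
      ((DirectSum.decompose (MvPolynomial.homogeneousSubmodule (Fin 2) k) φ i :
        MvPolynomial.homogeneousSubmodule (Fin 2) k i) : MvPolynomial (Fin 2) k) =
      MvPolynomial.homogeneousComponent i φ :=
    fun φ i => MvPolynomial.decomposition.decompose'_apply φ i
  have hrel0 : IsRelPrime (MvPolynomial.X 0 : MvPolynomial (Fin 2) k) (MvPolynomial.X 1) := by
    rw [(MvPolynomial.X_prime (R := k) (σ := Fin 2) (i := 0)).irreducible.isRelPrime_iff_not_dvd]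
    rintro ⟨G, hG⟩
    have h3 := congrArg (MvPolynomial.eval (![0, 1] : Fin 2 → k)) hG
    simp at h3
  constructor
  · intro hno
    have hno' : ¬ ∃ a : Fin 2 → k, a ≠ 0 ∧ ∀ i, MvPolynomial.eval a (F i) = 0 := by
      intro h
      exact hno ((Groth.Agent.S17077.result F (fun _ => d) hF).mpr h)
    push Not at hno'
    obtain ⟨I, hI⟩ : ∃ I : Ideal (MvPolynomial (Fin 2) k), I = Ideal.span (Set.range F) :=
      ⟨_, rfl⟩
    have hX : ∀ j : Fin 2, ∃ N : ℕ, (MvPolynomial.X j : MvPolynomial (Fin 2) k) ^ N ∈ I := by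
      intro j
      have h1 : (MvPolynomial.X j : MvPolynomial (Fin 2) k) ∈
          MvPolynomial.vanishingIdeal k (MvPolynomial.zeroLocus k I) := by
        rw [MvPolynomial.mem_vanishingIdeal_iff]
        intro a ha
        have ha0 : a = 0 := by
          by_contra hne
          obtain ⟨i, hi⟩ := hno' a hne
          apply hi
          have h2 := (MvPolynomial.mem_zeroLocus_iff.mp ha) (F i)
            (by rw [hI]; exact Ideal.subset_span ⟨i, rfl⟩)
          exact h2
        rw [ha0, MvPolynomial.aeval_X]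
        rfl
      rw [MvPolynomial.vanishingIdeal_zeroLocus_eq_radical] at h1
      exact h1
    obtain ⟨N0, h0⟩ := hX 0
    obtain ⟨N1, h1⟩ := hX 1
    refine ⟨N0 + N1 + d, by omega, ?_⟩
    intro P hP
    have hPI : P ∈ I := by
      rw [← MvPolynomial.support_sum_monomial_coeff P]
      refine Ideal.sum_mem _ fun s hs => ?_
      have hdeg := hP.degree_eq_sum_deg_support hs
      have hs01 : s 0 + s 1 = N0 + N1 + d := by
        rw [hdeg, Finset.sum_subset (Finset.subset_univ s.support)
          (fun i _ hi => Finsupp.notMem_support_iff.mp hi), Fin.sum_univ_two]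
      rcases le_or_gt N0 (s 0) with h | h
      · have hdvd : (MvPolynomial.X 0 : MvPolynomial (Fin 2) k) ^ N0 ∣
            MvPolynomial.monomial s (MvPolynomial.coeff s P) := by
          rw [MvPolynomial.X_pow_eq_monomial, MvPolynomial.monomial_dvd_monomial]
          exact ⟨Or.inr (Finsupp.single_le_iff.mpr h), one_dvd _⟩
        obtain ⟨Q, hQ⟩ := hdvd
        rw [hQ]
        exact Ideal.mul_mem_right _ _ h0
      · have h' : N1 ≤ s 1 := by omega
        have hdvd : (MvPolynomial.X 1 : MvPolynomial (Fin 2) k) ^ N1 ∣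
            MvPolynomial.monomial s (MvPolynomial.coeff s P) := by
          rw [MvPolynomial.X_pow_eq_monomial, MvPolynomial.monomial_dvd_monomial]
          exact ⟨Or.inr (Finsupp.single_le_iff.mpr h'), one_dvd _⟩
        obtain ⟨Q, hQ⟩ := hdvd
        rw [hQ]
        exact Ideal.mul_mem_right _ _ h1
    rw [hI] at hPI
    obtain ⟨G', hG'⟩ := Ideal.mem_span_range_iff_exists_fun.mp hPI
    refine ⟨fun i => MvPolynomial.homogeneousComponent (N0 + N1 + d - d) (G' i),
      fun i => MvPolynomial.homogeneousComponent_isHomogeneous _ _, ?_⟩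
    have hPmem : P ∈ MvPolynomial.homogeneousSubmodule (Fin 2) k (N0 + N1 + d) := hP
    have hFmem : ∀ i, F i ∈ MvPolynomial.homogeneousSubmodule (Fin 2) k d := hF
    have h5 := congrArg
      (GradedAlgebra.proj (MvPolynomial.homogeneousSubmodule (Fin 2) k) (N0 + N1 + d)) hG'
    rw [map_sum, GradedAlgebra.proj_apply,
      DirectSum.decompose_of_mem_same (MvPolynomial.homogeneousSubmodule (Fin 2) k) hPmem] at h5
    rw [← h5]
    refine Finset.sum_congr rfl fun i _ => ?_
    rw [GradedAlgebra.proj_apply,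
      DirectSum.coe_decompose_mul_of_right_mem_of_le (MvPolynomial.homogeneousSubmodule (Fin 2) k)
        (hFmem i) (by omega : d ≤ N0 + N1 + d), hdec, mul_comm]
  · rintro ⟨m, hm, hsurj⟩
    rintro ⟨H, hHu, hHF⟩
    apply hHu
    have hdvd : ∀ j : Fin 2, H ∣ (MvPolynomial.X j : MvPolynomial (Fin 2) k) ^ m := by
      intro j
      obtain ⟨G, _, hG⟩ := hsurj ((MvPolynomial.X j) ^ m) (by
        have h := (MvPolynomial.isHomogeneous_X k j).pow m
        rwa [one_mul] at h)
      rw [hG]
      exact Finset.dvd_sum fun i _ => Dvd.dvd.mul_right (hHF i) _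
    exact (hrel0.pow (m := m) (n := m)) (hdvd 0) (hdvd 1)

end Groth.Agent.S17078
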