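import Groth.Statements.S17139
import Mathlib
import Groth.Agent.H8Isoc

set_option autoImplicit false
universe u v
open Isoc

namespace Groth.Agent.S17139

/-- Let k be a perfect field of characteristic p, a ∈ ℤ, and (N, F) a non-zero σ^a-F-isocrystal over k
of height h, with b an L-basis of N indexed by Fin h and d the p-adic order of the determinant
coefficient of F in the basis b. If M is a W(k)-lattice in N and r ∈ ℤ, s > 0 satisfy F^s(M) = p^r ·
M, then the first Newton slope λ₁(N, F) equals r/s, and r · h = s · d. (The published statement adds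
that F^h(M) = p^d · M for the same lattice M; that clause is not established by the published proof
and fails when gcd(r, s) ≠ 1 — for a = 0, N = L², M = W², F with matrix rows (p, 1), (0, p) and p
odd one has F^p(M) = p^p · M, h = d = 2, but F²(M) ≠ p² · M — so it is omitted here; the converse
direction is a separate statement.) -/
theorem result (p : ℕ) [Fact p.Prime] (k : Type u) [Field k] [CharP k p] [PerfectRing k p] (a : ℤ)
    (N : Type v) [AddCommGroup N] [Module (WittVector p k) N] [Module (FractionRing (WittVector p k)) N]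
    [IsScalarTower (WittVector p k) (FractionRing (WittVector p k)) N]
    [Nontrivial N] (F : N →ₛₗ[Isoc.frob p k a] N) (hF : Isoc.IsIsoc F)
    (h : ℕ) (b : Module.Basis (Fin h) (FractionRing (WittVector p k)) N)
    (d : ℤ) (hd : Isoc.IsOrdP (Isoc.detCoeff b F) d)
    (M : Submodule (WittVector p k) N) (hM : M.IsLattice (FractionRing (WittVector p k)))
    (r : ℤ) (s : ℕ) (hs : 0 < s) (hFM : Isoc.latImg F s M = Isoc.pPow r M) :
    Isoc.IsFirstSlope F ((r : ℝ) / s) ∧ r * h = s * d := by
  have hM0 : M ≠ ⊥ := H8Isoc.lattice_ne_bot hM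
  constructor
  · obtain ⟨o, ho, lam, hlam⟩ := H8Isoc.exists_ord_limit F hF.bijective hM hM0
    refine ⟨M, hM, o, fun n _ => ho n, ?_⟩
    have hsub : ∀ n : ℕ, o (n * s) = n * r := by
      intro n
      have h1 : Isoc.IsOrd M F (n * s) (n * r) := by
        constructor
        · rw [H8Isoc.latImg_iter F hFM]
        · rw [H8Isoc.latImg_iter F hFM]
          intro hle
          have := H8Isoc.le_of_pPow_le_pPow hM.fg hM0 hle
          omega
      exact le_antisymm (H8Isoc.isOrd_le F h1 (ho (n * s)).1) (H8Isoc.isOrd_le F (ho (n * s)) h1.1)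
    have hmul : Filter.Tendsto (fun n : ℕ => n * s) Filter.atTop Filter.atTop :=
      (strictMono_mul_right_of_pos hs).tendsto_atTop
    have h2 : Filter.Tendsto (fun n : ℕ => (o (n * s) : ℝ) / ((n * s : ℕ) : ℝ)) Filter.atTop
        (nhds lam) := hlam.comp hmul
    have h3 : (fun n : ℕ => (o (n * s) : ℝ) / ((n * s : ℕ) : ℝ)) =ᶠ[Filter.atTop]
        fun _ => (r : ℝ) / s := by
      filter_upwards [Filter.eventually_ge_atTop 1] with n hn
      have hn0 : (n : ℝ) ≠ 0 := by positivity
      have hs0 : (s : ℝ) ≠ 0 := by positivity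
      rw [hsub n]
      push_cast
      field_simp
    rw [Filter.tendsto_congr' h3] at h2
    have := tendsto_nhds_unique h2 tendsto_const_nhds
    rw [← this]
    exact hlam
  · obtain ⟨e, he, hint⟩ := H8Isoc.exists_lattice_basis b hM
    have hd' : Isoc.IsOrdP (H8Isoc.mat e F).det d := H8Isoc.isOrdP_basis_change b e F hd
    have h1 := H8Isoc.isOrdP_det_iter e F hd' s
    have h2 : Isoc.IsOrdP (H8Isoc.mat e (Isoc.iter F s)).det (r * h) := by
      apply H8Isoc.isOrdP_det_of_eq (H8Isoc.frob_pow_W a s) e he hint (Isoc.iter F s) r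
      · intro m hm
        rw [← hFM]
        exact (H8Isoc.mem_latImg F s M _).mpr ⟨m, hm, rfl⟩
      · intro y hy
        rw [← hFM] at hy
        exact (H8Isoc.mem_latImg F s M y).mp hy
    exact H8Isoc.isOrdP_unique h2 h1

end Groth.Agent.S17139
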