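import Groth.Statements.S17140
import Mathlib
import Groth.Agent.H8Isoc

set_option autoImplicit false
universe u v
open Isoc

namespace Groth.Agent.S17140

/-- Let k be a perfect field of characteristic p, a ∈ ℤ, W = W(k) with fraction field L, and (N, F) a
σ^a-F-isocrystal over k (N finite-dimensional over L, F a bijective σ^a-semilinear endomorphism) of
height h, b an L-basis of N indexed by Fin h and d the p-adic order of the determinant coefficient
of F in b. Let M be a W-lattice in N (so (M, F|M) is a σ^a-F-crystal), n ≥ 1, r = ord_M(F) and rn =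
ord_M(F^n), i.e. F(M) ⊆ p^r M, F(M) ⊄ p^(r+1) M and similarly for F^n with rn. Then ord(F) ≤
ord(F^n)/n ≤ orddet(F)/h, that is, n · r ≤ rn and rn · h ≤ n · d. -/
theorem result (p : ℕ) [Fact p.Prime] (k : Type u) [Field k] [CharP k p] [PerfectRing k p] (a : ℤ)
    (N : Type v) [AddCommGroup N] [Module (WittVector p k) N] [Module (FractionRing (WittVector p k)) N]
    [IsScalarTower (WittVector p k) (FractionRing (WittVector p k)) N]
    (F : N →ₛₗ[Isoc.frob p k a] N) (hF : Isoc.IsIsoc F)
    (h : ℕ) (b : Module.Basis (Fin h) (FractionRing (WittVector p k)) N)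
    (d : ℤ) (hd : Isoc.IsOrdP (Isoc.detCoeff b F) d)
    (M : Submodule (WittVector p k) N) (hM : M.IsLattice (FractionRing (WittVector p k)))
    (n : ℕ) (hn : 1 ≤ n) (r rn : ℤ) (hr : Isoc.IsOrd M F 1 r) (hrn : Isoc.IsOrd M F n rn) :
    (n : ℤ) * r ≤ rn ∧ rn * h ≤ n * d := by
  have hle : ∀ j : ℕ, Isoc.latImg F j M ≤ Isoc.pPow (j * r) M := by
    intro j
    induction j with
    | zero => simp [H8Isoc.latImg_zero, H8Isoc.pPow_zero]
    | succ j ih =>
      calc Isoc.latImg F (j + 1) M = Isoc.latImg F j (Isoc.latImg F 1 M) := H8Isoc.latImg_add F j 1 M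
        _ ≤ Isoc.latImg F j (Isoc.pPow r M) := H8Isoc.latImg_mono F j hr.1
        _ = Isoc.pPow r (Isoc.latImg F j M) := H8Isoc.latImg_pPow F j r M
        _ ≤ Isoc.pPow r (Isoc.pPow (j * r) M) := H8Isoc.pPow_mono _ ih
        _ = Isoc.pPow (((j + 1 : ℕ) : ℤ) * r) M := by
            rw [← H8Isoc.pPow_add]; congr 1; push_cast; ring
  constructor
  · exact H8Isoc.isOrd_le F hrn (hle n)
  · obtain ⟨e, he, hint⟩ := H8Isoc.exists_lattice_basis b hM
    have hd' : Isoc.IsOrdP (H8Isoc.mat e F).det d := H8Isoc.isOrdP_basis_change b e F hd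
    have h1 := H8Isoc.isOrdP_det_iter e F hd' n
    obtain ⟨w, hw⟩ := H8Isoc.det_of_le e he hint (Isoc.iter F n) rn (by
      intro m hm
      apply hrn.1
      exact (H8Isoc.mem_latImg F n M _).mpr ⟨m, hm, rfl⟩)
    exact H8Isoc.isOrdP_ge h1 hw

end Groth.Agent.S17140
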