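import Groth.Statements.S17142
import Mathlib
import Groth.Agent.H8Isoc

set_option autoImplicit false
universe u v
open Isoc

namespace Groth.Agent.S17142

/-- Let k be a perfect field of characteristic p, a ∈ ℤ, W = W(k) with fraction field L, and (N, F) a
σ^a-F-isocrystal over k (N finite-dimensional over L, F a bijective σ^a-semilinear endomorphism).
Let M₁, M₂ be W-lattices in N and let o₁(n) = ord_{M₁}(F^n), o₂(n) = ord_{M₂}(F^n) for n ≥ 1
(largest r with F^n(M_i) ⊆ p^r M_i). If o₁(n)/n → lam₁ and o₂(n)/n → lam₂ then lam₁ = lam₂; so the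
limit defining the first Newton slope is independent of the chosen lattice. -/
theorem result (p : ℕ) [Fact p.Prime] (k : Type u) [Field k] [CharP k p] [PerfectRing k p] (a : ℤ)
    (N : Type v) [AddCommGroup N] [Module (WittVector p k) N] [Module (FractionRing (WittVector p k)) N]
    [IsScalarTower (WittVector p k) (FractionRing (WittVector p k)) N]
    (F : N →ₛₗ[Isoc.frob p k a] N) (hF : Isoc.IsIsoc F)
    (M₁ M₂ : Submodule (WittVector p k) N) (hM₁ : M₁.IsLattice (FractionRing (WittVector p k))) (hM₂ : M₂.IsLattice (FractionRing (WittVector p k)))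
    (o₁ o₂ : ℕ → ℤ) (ho₁ : ∀ n : ℕ, 1 ≤ n → Isoc.IsOrd M₁ F n (o₁ n))
    (ho₂ : ∀ n : ℕ, 1 ≤ n → Isoc.IsOrd M₂ F n (o₂ n)) (lam₁ lam₂ : ℝ)
    (h₁ : Filter.Tendsto (fun n : ℕ => (o₁ n : ℝ) / n) Filter.atTop (nhds lam₁))
    (h₂ : Filter.Tendsto (fun n : ℕ => (o₂ n : ℝ) / n) Filter.atTop (nhds lam₂)) :
    lam₁ = lam₂ := by
  obtain ⟨c₁, hc₁⟩ := H8Isoc.exists_le_pPow_neg hM₁.fg hM₂
  obtain ⟨c₂, hc₂⟩ := H8Isoc.exists_le_pPow_neg hM₂.fg hM₁
  -- key comparison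
  have key : ∀ (M M' : Submodule (WittVector p k) N) (c c' : ℕ) (o o' : ℕ → ℤ),
      M ≤ Isoc.pPow (-(c : ℤ)) M' → M' ≤ Isoc.pPow (-(c' : ℤ)) M →
      (∀ n : ℕ, 1 ≤ n → Isoc.IsOrd M F n (o n)) → (∀ n : ℕ, 1 ≤ n → Isoc.IsOrd M' F n (o' n)) →
      ∀ n : ℕ, 1 ≤ n → o n - c - c' ≤ o' n := by
    intro M M' c c' o o' h h' ho ho' n hn
    apply H8Isoc.isOrd_le F (ho' n hn)
    calc Isoc.latImg F n M' ≤ Isoc.latImg F n (Isoc.pPow (-(c' : ℤ)) M) :=
          H8Isoc.latImg_mono F n h'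
      _ = Isoc.pPow (-(c' : ℤ)) (Isoc.latImg F n M) := H8Isoc.latImg_pPow F n _ M
      _ ≤ Isoc.pPow (-(c' : ℤ)) (Isoc.pPow (o n) M) := H8Isoc.pPow_mono _ (ho n hn).1
      _ ≤ Isoc.pPow (-(c' : ℤ)) (Isoc.pPow (o n) (Isoc.pPow (-(c : ℤ)) M')) :=
          H8Isoc.pPow_mono _ (H8Isoc.pPow_mono _ h)
      _ = Isoc.pPow (o n - c - c') M' := by
          rw [← H8Isoc.pPow_add, ← H8Isoc.pPow_add]; congr 1; ring
  have k1 := key M₁ M₂ c₁ c₂ o₁ o₂ hc₁ hc₂ ho₁ ho₂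
  have k2 := key M₂ M₁ c₂ c₁ o₂ o₁ hc₂ hc₁ ho₂ ho₁
  have hdiff : Filter.Tendsto (fun n : ℕ => (o₁ n : ℝ) / n - (o₂ n : ℝ) / n) Filter.atTop
      (nhds (lam₁ - lam₂)) := h₁.sub h₂
  have hzero : Filter.Tendsto (fun n : ℕ => (o₁ n : ℝ) / n - (o₂ n : ℝ) / n) Filter.atTop
      (nhds 0) := by
    apply squeeze_zero_norm' (a := fun n : ℕ => ((c₁ : ℝ) + c₂) / n)
    · filter_upwards [Filter.eventually_ge_atTop 1] with n hn
      have hn0 : (0 : ℝ) < n := by exact_mod_cast hn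
      rw [← sub_div, Real.norm_eq_abs, abs_div, abs_of_pos hn0]
      apply div_le_div_of_nonneg_right _ hn0.le
      have a1 := k1 n hn
      have a2 := k2 n hn
      rw [abs_le]
      constructor
      · have : (o₂ n : ℝ) - c₂ - c₁ ≤ o₁ n := by exact_mod_cast a2
        linarith
      · have : (o₁ n : ℝ) - c₁ - c₂ ≤ o₂ n := by exact_mod_cast a1
        linarith
    · exact tendsto_const_div_atTop_nhds_zero_nat _
  have := tendsto_nhds_unique hdiff hzero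
  linarith

end Groth.Agent.S17142
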