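import Groth.Statements.S17143
import Mathlib
import Groth.Agent.H8Isoc

set_option autoImplicit false
universe u v
open Isoc

namespace Groth.Agent.S17143

/-- Let k be a perfect field of characteristic p, a ∈ ℤ, W = W(k) with fraction field L, and (N, F) a
σ^a-F-isocrystal over k (N finite-dimensional over L, F a bijective σ^a-semilinear endomorphism)
with first Newton slope λ₁(N, F) = lam. Then for m ∈ ℤ and n ∈ ℕ the twisted iterate (N, p^m F^n), a
σ^(an)-F-isocrystal, has first Newton slope n · lam + m. (The published statement allows every n ∈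
ℤ, with F^n the inverse iterate for n < 0; that case is false in general, since the first slope of
(N, F⁻¹) is minus the LARGEST slope of (N, F): for N = N_0 ⊕ N_1, the sum of the standard
isocrystals of slopes 0 and 1, λ₁(N, F) = 0 while λ₁(N, F⁻¹) = −1. Only n ≥ 0 is stated here.) -/
theorem result (p : ℕ) [Fact p.Prime] (k : Type u) [Field k] [CharP k p] [PerfectRing k p] (a : ℤ)
    (N : Type v) [AddCommGroup N] [Module (WittVector p k) N] [Module (FractionRing (WittVector p k)) N]
    [IsScalarTower (WittVector p k) (FractionRing (WittVector p k)) N]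
    (F : N →ₛₗ[Isoc.frob p k a] N) (hF : Isoc.IsIsoc F) (lam : ℝ) (hlam : Isoc.IsFirstSlope F lam) (m : ℤ) (n : ℕ) :
    Isoc.IsFirstSlope ((p : (FractionRing (WittVector p k))) ^ m • Isoc.iter F n) (n * lam + m) := by
  obtain ⟨M, hM, o, ho, hlim⟩ := hlam
  have hM0 : M ≠ ⊥ := H8Isoc.isOrd_ne_bot F (ho 1 le_rfl)
  refine ⟨M, hM, ?_⟩
  rcases Nat.eq_zero_or_pos n with hn | hn
  · -- n = 0
    subst hn
    refine ⟨fun j => m * j, ?_, ?_⟩
    · intro j _
      constructor
      · rw [H8Isoc.latImg_twist, Nat.zero_mul, H8Isoc.latImg_zero]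
      · rw [H8Isoc.latImg_twist, Nat.zero_mul, H8Isoc.latImg_zero]
        intro h
        have := H8Isoc.le_of_pPow_le_pPow hM.fg hM0 h
        simp only at this
        omega
    · have : (fun j : ℕ => ((m * j : ℤ) : ℝ) / j) =ᶠ[Filter.atTop] fun _ => (m : ℝ) := by
        filter_upwards [Filter.eventually_ge_atTop 1] with j hj
        have hj0 : (j : ℝ) ≠ 0 := by positivity
        push_cast
        field_simp
      rw [Filter.tendsto_congr' this]
      simp
  · refine ⟨fun j => m * j + o (n * j), ?_, ?_⟩
    · intro j hj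
      have hnj : 1 ≤ n * j := Nat.mul_pos hn hj
      have h1 := ho (n * j) hnj
      constructor
      · rw [H8Isoc.latImg_twist, H8Isoc.pPow_add]
        exact H8Isoc.pPow_mono _ h1.1
      · rw [H8Isoc.latImg_twist, add_assoc, H8Isoc.pPow_add, H8Isoc.pPow_le_iff]
        exact h1.2
    · have hcomp : Filter.Tendsto (fun j : ℕ => (o (n * j) : ℝ) / ((n * j : ℕ) : ℝ)) Filter.atTop
          (nhds lam) := by
        have hmul : Filter.Tendsto (fun j : ℕ => n * j) Filter.atTop Filter.atTop :=
          (strictMono_mul_left_of_pos hn).tendsto_atTop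
        exact hlim.comp hmul
      have h2 : Filter.Tendsto (fun j : ℕ => (m : ℝ) + n * ((o (n * j) : ℝ) / ((n * j : ℕ) : ℝ)))
          Filter.atTop (nhds (m + n * lam)) := (hcomp.const_mul _).const_add _
      have : (fun j : ℕ => ((m * j + o (n * j) : ℤ) : ℝ) / j) =ᶠ[Filter.atTop]
          fun j : ℕ => (m : ℝ) + n * ((o (n * j) : ℝ) / ((n * j : ℕ) : ℝ)) := by
        filter_upwards [Filter.eventually_ge_atTop 1] with j hj
        have hj0 : (j : ℝ) ≠ 0 := by positivity
        have hn0 : (n : ℝ) ≠ 0 := by positivity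
        push_cast
        field_simp
      rw [Filter.tendsto_congr' this, add_comm]
      exact h2

end Groth.Agent.S17143
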