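import Groth.Statements.S17157
import Mathlib

set_option autoImplicit false
universe u
open Isoc

namespace Groth.Agent.S17157

theorem charZero_fr (p : ℕ) [Fact p.Prime] (k : Type u) [Field k] [CharP k p] [PerfectRing k p] :
    CharZero (FractionRing (WittVector p k)) := by
  rw [CharZero.charZero_iff_forall_prime_ne_zero]
  intro q hq h0
  have hinj := IsFractionRing.injective (WittVector p k) (FractionRing (WittVector p k))
  have h1 : ((q : ℕ) : WittVector p k) = 0 := by
    apply hinj
    rw [map_natCast, map_zero]
    exact h0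
  have h2 : ((q : ℕ) : k) = 0 := by
    have := congrArg (WittVector.constantCoeff (p := p) (R := k)) h1
    rw [map_natCast, map_zero] at this
    exact this
  have h3 : p ∣ q := (CharP.cast_eq_zero_iff k p q).mp h2
  have h4 : p = q := (Nat.prime_dvd_prime_iff_eq (Fact.out : p.Prime) hq).mp h3
  subst h4
  exact WittVector.FractionRing.p_nonzero p k h0

theorem frob_iter_fix (p : ℕ) [Fact p.Prime] (k : Type u) [Field k] [CharP k p] [PerfectRing k p]
    [Finite k] : ∃ m : ℕ, 0 < m ∧ ∀ c : FractionRing (WittVector p k),
      (⇑(Isoc.frob p k 1))^[m] c = c := by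
  classical
  haveI : Fintype k := Fintype.ofFinite k
  obtain ⟨n, hp, hcard⟩ := FiniteField.card k p
  refine ⟨n, n.pos, ?_⟩
  have hW : ∀ w : WittVector p k, (⇑(WittVector.frobenius (p := p) (R := k)))^[n] w = w := by
    intro w
    ext i
    rw [WittVector.iterate_frobenius_coeff, ← hcard, FiniteField.pow_card]
  have hstep : ∀ (j : ℕ) (w : WittVector p k),
      (⇑(Isoc.frob p k 1))^[j] (algebraMap (WittVector p k) (FractionRing (WittVector p k)) w) =
      algebraMap (WittVector p k) (FractionRing (WittVector p k))
        ((⇑(WittVector.frobenius (p := p) (R := k)))^[j] w) := by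
    intro j
    induction j with
    | zero => intro w; rfl
    | succ j ih =>
      intro w
      rw [Function.iterate_succ_apply', Function.iterate_succ_apply', ih, Isoc.frob_algebraMap,
        zpow_one]
      rfl
  intro c
  obtain ⟨w₁, w₂, hw₂, rfl⟩ := IsFractionRing.div_surjective (A := WittVector p k) c
  have hiter : ∀ (j : ℕ) (x y : FractionRing (WittVector p k)),
      (⇑(Isoc.frob p k 1))^[j] (x / y) =
        (⇑(Isoc.frob p k 1))^[j] x / (⇑(Isoc.frob p k 1))^[j] y := by
    intro j
    induction j with
    | zero => intro x y; rfl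
    | succ j ih =>
      intro x y
      rw [Function.iterate_succ_apply', Function.iterate_succ_apply', Function.iterate_succ_apply',
        ih, map_div₀]
  rw [hiter, hstep, hstep, hW, hW]


/-- Let k be a finite field of characteristic p, W = W(k), L its fraction field with Frobenius σ, and
let U be the σ-semilinear endomorphism of L² = (Fin 2 → L) determined by U(e₀) = e₀ and U(e₁) = e₀ +
e₁ on the standard basis. Then (L², U) is an F-isocrystal in which the sub-isocrystal L · e₀ admits
no U-stable complementary L-subspace; in particular the category of F-isocrystals over a finite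
field is not semisimple. (Over an algebraically closed field a complement exists.) -/
theorem result
    (p : ℕ) [Fact p.Prime] (k : Type u) [Field k] [CharP k p] [PerfectRing k p] [Finite k]
    (U : (Fin 2 → (FractionRing (WittVector p k))) →ₛₗ[Isoc.frob p k 1] (Fin 2 → (FractionRing (WittVector p k))))
    (hU0 : U (Pi.single 0 1) = Pi.single 0 1)
    (hU1 : U (Pi.single 1 1) = Pi.single 0 1 + Pi.single 1 1)
    (Q : Submodule (FractionRing (WittVector p k)) (Fin 2 → (FractionRing (WittVector p k)))) (hQ : ∀ x ∈ Q, U x ∈ Q) :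
    ¬ IsCompl (Submodule.span (FractionRing (WittVector p k)) {(Pi.single 0 1 : Fin 2 → (FractionRing (WittVector p k)))}) Q := by
  classical
  intro hc
  haveI := charZero_fr p k
  obtain ⟨m, hm, hfix⟩ := frob_iter_fix p k
  set L := FractionRing (WittVector p k) with hL
  set e₀ : Fin 2 → L := Pi.single 0 1 with he₀
  set e₁ : Fin 2 → L := Pi.single 1 1 with he₁
  have htop : e₁ ∈ Submodule.span L {e₀} ⊔ Q := by
    rw [hc.sup_eq_top]; exact Submodule.mem_top
  obtain ⟨x, hx, q, hq, hxq⟩ := Submodule.mem_sup.mp htop
  obtain ⟨α, rfl⟩ := Submodule.mem_span_singleton.mp hx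
  have hqe : q = e₁ - α • e₀ := by rw [← hxq]; abel
  have hUq : U q = e₀ + e₁ - (Isoc.frob p k 1 α) • e₀ := by
    rw [hqe, map_sub, map_smulₛₗ, hU0, hU1]
  have hdiff : U q - q = (1 - Isoc.frob p k 1 α + α) • e₀ := by
    rw [hUq, hqe]
    simp only [sub_smul, add_smul, one_smul]
    abel
  have hmemQ : (1 - Isoc.frob p k 1 α + α) • e₀ ∈ Q := by
    rw [← hdiff]; exact Q.sub_mem (hQ q hq) hq
  have hmemS : (1 - Isoc.frob p k 1 α + α) • e₀ ∈ Submodule.span L {e₀} :=
    Submodule.smul_mem _ _ (Submodule.mem_span_singleton_self e₀)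
  have hzero : (1 - Isoc.frob p k 1 α + α) • e₀ = 0 := by
    have := hc.disjoint.le_bot ⟨hmemS, hmemQ⟩
    simpa using this
  have hcoef : 1 - Isoc.frob p k 1 α + α = 0 := by
    have := congrFun hzero 0
    simpa [he₀] using this
  have hτ : Isoc.frob p k 1 α = α + 1 := by
    have h5 : Isoc.frob p k 1 α = (α + 1) - (1 - Isoc.frob p k 1 α + α) := by ring
    rw [h5, hcoef, sub_zero]
  have hiter : ∀ j : ℕ, (⇑(Isoc.frob p k 1))^[j] α = α + j := by
    intro j
    induction j with
    | zero => simp
    | succ j ih =>
      rw [Function.iterate_succ_apply', ih, map_add, hτ, map_natCast]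
      push_cast
      ring
  have h1 := hfix α
  rw [hiter m] at h1
  have h2 : (m : L) = 0 := by
    have := sub_eq_zero.mpr h1
    simpa using this
  have h3 : m = 0 := by exact_mod_cast h2
  omega

end Groth.Agent.S17157
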