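import Groth.Statements.S17171
import Mathlib

set_option autoImplicit false
open QSymFn

namespace Groth.Agent.S17171

theorem degree_mapDomain {α β : Type*} (g : α → β) (v : α →₀ ℕ) :
    (Finsupp.mapDomain g v).degree = v.degree := by
  induction v using Finsupp.induction_linear with
  | zero => simp
  | add f h hf hh => rw [Finsupp.mapDomain_add, map_add, map_add, hf, hh]
  | single a b => rw [Finsupp.mapDomain_single, Finsupp.degree_single, Finsupp.degree_single]

theorem mapDomain_eq_sum_orderEmb {n : ℕ} {β : Type*} (g : Fin n → β) (e : Fin n →₀ ℕ) :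
    Finsupp.mapDomain g e = ∑ t : Fin e.support.card,
      Finsupp.single (g (e.support.orderEmbOfFin rfl t)) (e (e.support.orderEmbOfFin rfl t)) := by
  have h1 : Finsupp.mapDomain g e = ∑ x ∈ e.support, Finsupp.single (g x) (e x) := rfl
  rw [h1, ← Finset.sum_coe_sort e.support (fun x => Finsupp.single (g x) (e x)),
    ← Equiv.sum_comp (e.support.orderIsoOfFin rfl).toEquiv]
  rfl

theorem part1 (F : MvPowerSeries ℕ ℤ)
    (hq : ∀ (ℓ : ℕ) (i j : Fin ℓ → ℕ) (a : Fin ℓ → ℕ), StrictMono i → StrictMono j →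
      (∀ t, 0 < a t) →
        MvPowerSeries.coeff (∑ t : Fin ℓ, Finsupp.single (i t) (a t)) F =
          MvPowerSeries.coeff (∑ t : Fin ℓ, Finsupp.single (j t) (a t)) F)
    (n m : ℕ) (φ : Fin n ↪o Fin m) (e : Fin n →₀ ℕ) :
    MvPowerSeries.coeff (Finsupp.mapDomain Fin.val e) F =
      MvPowerSeries.coeff (Finsupp.mapDomain Fin.val (Finsupp.mapDomain φ e)) F := by
  rw [← Finsupp.mapDomain_comp, mapDomain_eq_sum_orderEmb, mapDomain_eq_sum_orderEmb]
  exact hq _ (fun t => Fin.val (e.support.orderEmbOfFin rfl t))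
    (fun t => (Fin.val ∘ ⇑φ) (e.support.orderEmbOfFin rfl t))
    (fun t => e (e.support.orderEmbOfFin rfl t))
    (fun s t hst => (e.support.orderEmbOfFin rfl).strictMono hst)
    (fun s t hst => φ.strictMono ((e.support.orderEmbOfFin rfl).strictMono hst))
    (fun t => Nat.pos_of_ne_zero
      (Finsupp.mem_support_iff.mp (Finset.orderEmbOfFin_mem _ _ t)))

noncomputable def NN (E : ℕ →₀ ℕ) : ℕ := E.support.sup (fun x => x + 1)

theorem supp_lt (E : ℕ →₀ ℕ) :
    (↑E.support : Set ℕ) ⊆ Set.range (Fin.val : Fin (NN E) → ℕ) := by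
  intro x hx
  have h : x + 1 ≤ NN E := Finset.le_sup (f := fun x => x + 1) hx
  exact ⟨⟨x, by omega⟩, rfl⟩

noncomputable def EE (E : ℕ →₀ ℕ) : Fin (NN E) →₀ ℕ :=
  Finsupp.comapDomain Fin.val E Fin.val_injective.injOn

theorem EE_map (E : ℕ →₀ ℕ) : Finsupp.mapDomain Fin.val (EE E) = E :=
  Finsupp.mapDomain_comapDomain _ Fin.val_injective E (supp_lt E)

noncomputable def FF (f : (n : ℕ) → MvPolynomial (Fin n) ℤ) : MvPowerSeries ℕ ℤ :=
  fun E => MvPolynomial.coeff (EE E) (f (NN E))

theorem FF_coeff (f : (n : ℕ) → MvPolynomial (Fin n) ℤ)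
    (hcompat : ∀ (n m : ℕ) (φ : Fin n ↪o Fin m) (e : Fin n →₀ ℕ),
      MvPolynomial.coeff e (f n) = MvPolynomial.coeff (Finsupp.mapDomain φ e) (f m))
    (n : ℕ) (e : Fin n →₀ ℕ) :
    MvPowerSeries.coeff (Finsupp.mapDomain Fin.val e) (FF f) = MvPolynomial.coeff e (f n) := by
  classical
  obtain ⟨E, hE⟩ : ∃ E, E = Finsupp.mapDomain Fin.val e := ⟨_, rfl⟩
  rw [← hE]
  have hN : NN E ≤ n := by
    apply Finset.sup_le
    intro x hx
    rw [hE] at hx
    have h := Finsupp.mapDomain_support hx
    rw [Finset.mem_image] at h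
    obtain ⟨y, _, rfl⟩ := h
    exact y.2
  show MvPolynomial.coeff (EE E) (f (NN E)) = _
  rw [hcompat (NN E) n (Fin.castLEOrderEmb hN) (EE E)]
  congr 1
  apply Finsupp.mapDomain_injective Fin.val_injective
  rw [← Finsupp.mapDomain_comp]
  have h : (Fin.val ∘ ⇑(Fin.castLEOrderEmb hN)) = (Fin.val : Fin (NN E) → ℕ) := by
    funext x; rfl
  rw [h, EE_map, hE]


/-- The ring QSym of quasisymmetric functions over ℤ, with its restriction maps to the polynomial rings
in finitely many ordered variables, is the limit of the diagram S ↦ ℤ[α_s : s ∈ S] over finite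
ordered sets S and order-preserving injections (an injection φ : S → T acting by α_t ↦ α_s when t =
φ s and α_t ↦ 0 otherwise), the limit being taken in graded rings. Stated here on degree-d
components, with the variables indexed by ℕ in place of the positive integers and the finite ordered
sets taken to be the Fin n: (a) if F is a formal power series over ℤ in variables indexed by ℕ which
is quasisymmetric (for strictly increasing i, j : Fin ℓ → ℕ and positive exponents a, the
coefficients of ∏ x_{i t}^{a t} and ∏ x_{j t}^{a t} agree) and all of whose monomials have degree d,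
then its restrictions to the initial segments Fin n ⊂ ℕ are compatible with every order embedding
Fin n ↪o Fin m; (b) every family of degree-d homogeneous polynomials f n ∈ ℤ[x_s : s ∈ Fin n],
compatible with all order embeddings Fin n ↪o Fin m in this sense, is the family of restrictions of
exactly one such quasisymmetric F of degree d. -/
theorem result (d : ℕ) :
    (∀ F : MvPowerSeries ℕ ℤ,
      (∀ (ℓ : ℕ) (i j : Fin ℓ → ℕ) (a : Fin ℓ → ℕ), StrictMono i → StrictMono j → (∀ t, 0 < a t) →
        MvPowerSeries.coeff (∑ t : Fin ℓ, Finsupp.single (i t) (a t)) F =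
          MvPowerSeries.coeff (∑ t : Fin ℓ, Finsupp.single (j t) (a t)) F) →
      (∀ e : ℕ →₀ ℕ, MvPowerSeries.coeff e F ≠ 0 → e.degree = d) →
      ∀ (n m : ℕ) (φ : Fin n ↪o Fin m) (e : Fin n →₀ ℕ),
        MvPowerSeries.coeff (Finsupp.mapDomain Fin.val e) F =
          MvPowerSeries.coeff (Finsupp.mapDomain Fin.val (Finsupp.mapDomain φ e)) F) ∧
    (∀ f : (n : ℕ) → MvPolynomial (Fin n) ℤ,
      (∀ n, (f n).IsHomogeneous d) →
      (∀ (n m : ℕ) (φ : Fin n ↪o Fin m) (e : Fin n →₀ ℕ),
        MvPolynomial.coeff e (f n) = MvPolynomial.coeff (Finsupp.mapDomain φ e) (f m)) →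
      ∃! F : MvPowerSeries ℕ ℤ,
        (∀ (ℓ : ℕ) (i j : Fin ℓ → ℕ) (a : Fin ℓ → ℕ), StrictMono i → StrictMono j → (∀ t, 0 < a t) →
          MvPowerSeries.coeff (∑ t : Fin ℓ, Finsupp.single (i t) (a t)) F =
            MvPowerSeries.coeff (∑ t : Fin ℓ, Finsupp.single (j t) (a t)) F) ∧
        (∀ e : ℕ →₀ ℕ, MvPowerSeries.coeff e F ≠ 0 → e.degree = d) ∧
        (∀ (n : ℕ) (e : Fin n →₀ ℕ),
          MvPowerSeries.coeff (Finsupp.mapDomain Fin.val e) F = MvPolynomial.coeff e (f n))) := by
  refine ⟨fun F hq _ n m φ e => part1 F hq n m φ e, ?_⟩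
  intro f hhom hcompat
  refine ⟨FF f, ⟨?_, ?_, ?_⟩, ?_⟩
  · intro ℓ i j a hi hj ha
    classical
    obtain ⟨n, hn⟩ : ∃ n : ℕ, ∀ t, i t < n ∧ j t < n :=
      ⟨(Finset.univ.sup fun t => max (i t) (j t)) + 1, fun t => by
        have := Finset.le_sup (f := fun t => max (i t) (j t)) (Finset.mem_univ t)
        constructor <;> omega⟩
    have key : ∀ (g : Fin ℓ → ℕ) (hg : StrictMono g) (hgn : ∀ t, g t < n),
        MvPowerSeries.coeff (∑ t : Fin ℓ, Finsupp.single (g t) (a t)) (FF f)
          = MvPolynomial.coeff (Finsupp.equivFunOnFinite.symm a) (f ℓ) := by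
      intro g hg hgn
      obtain ⟨ψ, hψ⟩ : ∃ ψ : Fin ℓ ↪o Fin n, ∀ t, (ψ t : ℕ) = g t :=
        ⟨OrderEmbedding.ofStrictMono (fun t => ⟨g t, hgn t⟩) (fun s t hst => hg hst),
          fun t => rfl⟩
      have h1 : (∑ t : Fin ℓ, Finsupp.single (g t) (a t))
          = Finsupp.mapDomain Fin.val
              (Finsupp.mapDomain ψ (Finsupp.equivFunOnFinite.symm a)) := by
        rw [← Finsupp.mapDomain_comp]
        show _ = (Finsupp.equivFunOnFinite.symm a).sum
          fun t c => Finsupp.single ((Fin.val ∘ ⇑ψ) t) c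
        rw [Finsupp.sum_fintype _ _ (fun _ => Finsupp.single_zero _)]
        refine Finset.sum_congr rfl (fun t _ => ?_)
        show Finsupp.single (g t) (a t) = Finsupp.single ((ψ t : ℕ)) (a t)
        rw [hψ]
      rw [h1, FF_coeff f hcompat n, ← hcompat ℓ n ψ]
    rw [key i hi (fun t => (hn t).1), key j hj (fun t => (hn t).2)]
  · intro E hE
    have hE' : MvPolynomial.coeff (EE E) (f (NN E)) ≠ 0 := hE
    have h1 := hhom (NN E) hE'
    have h2 : (EE E).degree = d := by
      rw [Finsupp.degree_eq_weight_one]; exact h1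
    rw [← EE_map E, degree_mapDomain]; exact h2
  · exact fun n e => FF_coeff f hcompat n e
  · rintro F' ⟨_, _, h3⟩
    apply MvPowerSeries.ext
    intro E
    rw [← EE_map E, h3, FF_coeff f hcompat]

end Groth.Agent.S17171
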