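import Groth.Statements.S17175
import Mathlib

set_option autoImplicit false
universe u
open CAlg

namespace Groth.Agent.S17175

open PowerSeries in
/-- Let k be a field, O₀ = k[[x, y]]/(xy) the complete local ring of a node and Õ₀ = k[[x]] × k[[y]] its
normalization, O₀ being embedded in Õ₀ by h ↦ (h(x, 0), h(0, y)) as the subring of pairs with equal
constant coefficients. Regard Õ₀ as an O₀-module: it is the rank-one torsion-free O₀-module that is
not free. Then every O₀-linear endomorphism of this module is Õ₀-linear, i.e. it is multiplication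
by a unique element of Õ₀; consequently its O₀-endomorphism ring is Õ₀ and its O₀-automorphism group
is the unit group of Õ₀. Here an O₀-linear endomorphism is an additive map of k[[X]] × k[[X]]
commuting with multiplication by every pair whose two constant coefficients agree. (The source works
over an algebraically closed field; only the field structure is used.) -/
theorem result (k : Type u) [Field k]
    (φ : (k⟦X⟧ × k⟦X⟧) →+ (k⟦X⟧ × k⟦X⟧))
    (hφ : ∀ a s : k⟦X⟧ × k⟦X⟧, constantCoeff a.1 = constantCoeff a.2 → φ (a * s) = a * φ s) :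
    ∃! b : k⟦X⟧ × k⟦X⟧, ∀ s : k⟦X⟧ × k⟦X⟧, φ s = b * s := by
  set b := φ 1 with hb
  have hO : ∀ a : k⟦X⟧ × k⟦X⟧, constantCoeff a.1 = constantCoeff a.2 → φ a = b * a := by
    intro a ha
    have := hφ a 1 ha
    rw [mul_one] at this
    rw [this, mul_comm]
  have hX : ∀ f g : k⟦X⟧, (X : k⟦X⟧) * f = X * g → f = g := by
    intro f g h
    exact mul_left_cancel₀ PowerSeries.X_ne_zero h
  have h2 : ∀ t : k⟦X⟧, φ (0, t) = b * (0, t) := by
    intro t
    have e1 := hφ ((0 : k⟦X⟧), (X : k⟦X⟧)) (0, t) (by simp)
    have e2 := hO ((0 : k⟦X⟧), (X : k⟦X⟧) * t) (by simp)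
    have e3 := hφ ((X : k⟦X⟧), (0 : k⟦X⟧)) (0, t) (by simp)
    simp only [Prod.mk_mul_mk, zero_mul, mul_zero] at e1 e3
    rw [e2] at e1
    have e30 : φ ((0 : k⟦X⟧), (0 : k⟦X⟧)) = 0 := map_zero φ
    rw [e30] at e3
    ext1
    · have := congrArg Prod.fst e3
      simp only [Prod.fst_zero, Prod.fst_mul] at this
      simp only [Prod.fst_mul, mul_zero]
      exact hX _ _ (by rw [← this, mul_zero])
    · have := congrArg Prod.snd e1
      simp only [Prod.snd_mul] at this
      simp only [Prod.snd_mul]
      apply hX
      rw [← this]; ring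
  refine ⟨b, ?_, ?_⟩
  · intro s
    have hs : s = (s.1, C (constantCoeff s.1)) + (0, s.2 - C (constantCoeff s.1)) := by
      ext <;> simp
    rw [hs, map_add, hO _ (by simp), h2, mul_add]
  · intro b' hb'
    have := hb' 1
    rw [mul_one] at this
    rw [← this]

end Groth.Agent.S17175
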