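import Groth.Statements.S17179
import Mathlib

set_option autoImplicit false
universe u
open LabGraph

namespace Groth.Agent.S17179

open LabGraph in
/-- Let Γ be the weighted dual graph of a Deligne–Mumford semistable curve X of genus g ≥ 3 (connected;
every weight-zero vertex without loop joined to the other vertices by at least two edges), d a
multidegree of total degree D satisfying the Basic Inequality, and Z a set of vertices whose degree
equals the upper extreme M_Z of the inequality, that is 2((2g - 2)·d_Z - D·canDeg Z) = cut Z·(2g -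
2). Then d + z again satisfies the Basic Inequality, where z, the multidegree of O(Z) on the total
space of a regular smoothing, is the twist of the indicator function of Z (it lowers the degree on Z
by cut Z and raises it on each outside vertex by its number of edges to Z). -/
theorem result {V E : Type u} [Fintype V] [Fintype E]
    [DecidableEq V] [DecidableEq E] (ends : E → V × V) (w : V → ℕ) (hX : IsSemistableGraph ends w)
    (hg : 3 ≤ genus ends w) (d : V → ℤ) (hBI : SatisfiesBI ends w d) (Z : Finset V)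
    (hZ : 2 * (canDeg ends w Finset.univ * (∑ v ∈ Z, d v) - (∑ v : V, d v) * canDeg ends w Z) =
      (cut ends Z : ℤ) * canDeg ends w Finset.univ) :
    SatisfiesBI ends w (fun v => d v + twist ends (fun u => if u ∈ Z then 1 else 0) v) := by
  intro Y
  show 2 * |canDeg ends w Finset.univ *
        (∑ v ∈ Y, (d v + twist ends (fun u => if u ∈ Z then (1 : ℤ) else 0) v))
      - (∑ v : V, (d v + twist ends (fun u => if u ∈ Z then (1 : ℤ) else 0) v)) * canDeg ends w Y|
      ≤ (cut ends Y : ℤ) * canDeg ends w Finset.univ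
  obtain ⟨φ, hφ⟩ : ∃ φ : V → ℤ, φ = fun u => if u ∈ Z then (1 : ℤ) else 0 := ⟨_, rfl⟩
  rw [← hφ]
  have hφv : ∀ u, φ u = if u ∈ Z then 1 else 0 := fun u => by rw [hφ]
  have hcut : ∀ S : Finset V, (cut ends S : ℤ) = ∑ e : E,
      (if ((ends e).1 ∈ S ∧ (ends e).2 ∉ S) ∨ ((ends e).1 ∉ S ∧ (ends e).2 ∈ S)
        then (1 : ℤ) else 0) := by
    intro S
    simp only [cut, Finset.card_filter, Nat.cast_sum, Nat.cast_ite, Nat.cast_one, Nat.cast_zero]
  have htw : ∀ S : Finset V, ∑ v ∈ S, twist ends φ v = ∑ e : E,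
      ((if (ends e).1 ∈ S then φ (ends e).2 - φ (ends e).1 else 0) +
        (if (ends e).2 ∈ S then φ (ends e).1 - φ (ends e).2 else 0)) := by
    intro S
    unfold twist
    rw [Finset.sum_comm]
    apply Finset.sum_congr rfl
    intro e _
    rw [Finset.sum_add_distrib, Finset.sum_ite_eq, Finset.sum_ite_eq]
  have htot : ∑ v : V, twist ends φ v = 0 := by
    rw [htw Finset.univ]
    apply Finset.sum_eq_zero
    intro e _
    rw [if_pos (Finset.mem_univ _), if_pos (Finset.mem_univ _)]; ring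
  have hhandN : ∑ v : V, endCount ends Finset.univ v = 2 * Fintype.card E := by
    unfold endCount
    rw [Finset.sum_comm]
    have : ∀ e : E, ∑ v : V,
        ((if (ends e).1 = v then 1 else 0) + (if (ends e).2 = v then 1 else 0)) = 2 := by
      intro e
      rw [Finset.sum_add_distrib, Finset.sum_ite_eq, Finset.sum_ite_eq,
        if_pos (Finset.mem_univ _), if_pos (Finset.mem_univ _)]
    rw [Finset.sum_congr rfl (fun e _ => this e), Finset.sum_const, Finset.card_univ, smul_eq_mul,
      mul_comm]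
  have hhand : ∑ v : V, (endCount ends Finset.univ v : ℤ) = 2 * (Fintype.card E : ℤ) := by
    exact_mod_cast hhandN
  have hKval : canDeg ends w Finset.univ = 2 * genus ends w - 2 := by
    unfold canDeg genus
    simp only [Finset.sum_add_distrib, Finset.sum_sub_distrib, ← Finset.mul_sum, Finset.sum_const,
      Finset.card_univ, nsmul_eq_mul]
    rw [hhand]; ring
  obtain ⟨K, hK⟩ : ∃ K : ℤ, K = canDeg ends w Finset.univ := ⟨_, rfl⟩
  obtain ⟨D, hD⟩ : ∃ D : ℤ, D = ∑ v : V, d v := ⟨_, rfl⟩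
  have hK0 : 0 ≤ K := by rw [hK, hKval]; linarith
  have hsplitY : ∀ g : V → ℤ, ∑ v ∈ Y, g v = ∑ v ∈ Y ∩ Z, g v + ∑ v ∈ Y \ Z, g v := fun g =>
    (Finset.sum_inter_add_sum_sdiff Y Z g).symm
  have hsplitZ : ∀ g : V → ℤ, ∑ v ∈ Z, g v = ∑ v ∈ Y ∩ Z, g v + ∑ v ∈ Z \ Y, g v := fun g => by
    rw [Finset.inter_comm Y Z]; exact (Finset.sum_inter_add_sum_sdiff Z Y g).symm
  have hsplitU : ∀ g : V → ℤ, ∑ v ∈ Z ∪ Y, g v = ∑ v ∈ Z, g v + ∑ v ∈ Y \ Z, g v := fun g => by
    rw [← Finset.union_sdiff_self_eq_union, Finset.sum_union Finset.disjoint_sdiff]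
  have hup : (cut ends (Z ∪ Y) : ℤ) - cut ends Z + cut ends (Y ∩ Z)
      + 2 * ∑ v ∈ Y, twist ends φ v ≤ cut ends Y := by
    rw [hcut, hcut, hcut, hcut, htw, Finset.mul_sum, ← Finset.sum_sub_distrib,
      ← Finset.sum_add_distrib, ← Finset.sum_add_distrib]
    apply Finset.sum_le_sum
    intro e _
    simp only [hφv]
    by_cases h1 : (ends e).1 ∈ Y <;> by_cases h2 : (ends e).1 ∈ Z <;>
      by_cases h3 : (ends e).2 ∈ Y <;> by_cases h4 : (ends e).2 ∈ Z <;>
      simp [h1, h2, h3, h4, Finset.mem_union, Finset.mem_inter]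
  have hlow : -(cut ends Y : ℤ) ≤ (cut ends Z : ℤ) - cut ends (Z \ Y) - cut ends (Y \ Z)
      + 2 * ∑ v ∈ Y, twist ends φ v := by
    rw [hcut, hcut, hcut, hcut, htw, Finset.mul_sum, ← Finset.sum_sub_distrib,
      ← Finset.sum_sub_distrib, ← Finset.sum_add_distrib, ← Finset.sum_neg_distrib]
    apply Finset.sum_le_sum
    intro e _
    simp only [hφv]
    by_cases h1 : (ends e).1 ∈ Y <;> by_cases h2 : (ends e).1 ∈ Z <;>
      by_cases h3 : (ends e).2 ∈ Y <;> by_cases h4 : (ends e).2 ∈ Z <;>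
      simp [h1, h2, h3, h4, Finset.mem_sdiff]
  have hBIup : ∀ S : Finset V,
      2 * (K * (∑ v ∈ S, d v) - D * canDeg ends w S) ≤ (cut ends S : ℤ) * K := by
    intro S
    have h1 := hBI S
    rw [← hK, ← hD] at h1
    have h2 := le_abs_self (K * (∑ v ∈ S, d v) - D * canDeg ends w S)
    linarith
  have hBIlow : ∀ S : Finset V,
      -((cut ends S : ℤ) * K) ≤ 2 * (K * (∑ v ∈ S, d v) - D * canDeg ends w S) := by
    intro S
    have h1 := hBI S
    rw [← hK, ← hD] at h1
    have h2 := neg_abs_le (K * (∑ v ∈ S, d v) - D * canDeg ends w S)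
    linarith
  have key : ∀ a b : ℤ, -b ≤ 2 * a → 2 * a ≤ b → 2 * |a| ≤ b := by
    intro a b h1 h2
    rcases abs_cases a with ⟨h, _⟩ | ⟨h, _⟩ <;> rw [h] <;> linarith
  rw [← hK, ← hD] at hZ
  rw [Finset.sum_add_distrib, Finset.sum_add_distrib, htot, add_zero, ← hK, ← hD]
  have sY := hsplitY d
  have sZ := hsplitZ d
  have sU := hsplitU d
  have cYs : canDeg ends w Y = canDeg ends w (Y ∩ Z) + canDeg ends w (Y \ Z) :=
    hsplitY (fun v => 2 * (w v : ℤ) - 2 + (endCount ends Finset.univ v : ℤ))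
  have cZs : canDeg ends w Z = canDeg ends w (Y ∩ Z) + canDeg ends w (Z \ Y) :=
    hsplitZ (fun v => 2 * (w v : ℤ) - 2 + (endCount ends Finset.univ v : ℤ))
  have cUs : canDeg ends w (Z ∪ Y) = canDeg ends w Z + canDeg ends w (Y \ Z) :=
    hsplitU (fun v => 2 * (w v : ℤ) - 2 + (endCount ends Finset.univ v : ℤ))
  have bA := hBIup (Y ∩ Z)
  have bC := hBIup (Z \ Y)
  have bU := hBIup (Z ∪ Y)
  have bB := hBIlow (Y \ Z)
  rw [sU, cUs, sZ, cZs] at bU
  rw [sZ, cZs] at hZ
  have mUp := mul_le_mul_of_nonneg_left hup hK0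
  have mLow := mul_le_mul_of_nonneg_left hlow hK0
  apply key
  · rw [sY, cYs]; linarith
  · rw [sY, cYs]; linarith

end Groth.Agent.S17179
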