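import Groth.Statements.S17266
import Mathlib
import Groth.Agent.Lib.helper1.FibCatFpUniv

set_option autoImplicit false
open CategoryTheory
universe v u
open Stk


open CategoryTheory in
/-- composition of slice functors -/
def H1_OMcomp {C : Type*} [Category C] {W V U : C} (k : W ⟶ V) (h : V ⟶ U) :
    BasedFunctor.comp (⟨Over.map k, Over.mapForget_eq k⟩ : FibCat.overCat W ⥤ᵇ FibCat.overCat V)
      (⟨Over.map h, Over.mapForget_eq h⟩ : FibCat.overCat V ⥤ᵇ FibCat.overCat U) ≅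
    (⟨Over.map (k ≫ h), Over.mapForget_eq (k ≫ h)⟩ : FibCat.overCat W ⥤ᵇ FibCat.overCat U) :=
  BasedNatIso.mkNatIso (NatIso.ofComponents (fun w => Over.isoMk (Iso.refl _) (by
      show 𝟙 w.left ≫ (w.hom ≫ k ≫ h) = (w.hom ≫ k) ≫ h
      simp))
    (by
      intro w w' g
      apply Over.OverMorphism.ext
      show g.left ≫ 𝟙 _ = 𝟙 _ ≫ g.left
      simp))
    (fun w => by
      apply IsHomLift.of_fac (Over.forget U) _ _ rfl rfl
      show 𝟙 w.left = eqToHom rfl ≫ 𝟙 w.left ≫ eqToHom rfl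
      simp)

namespace Groth.Agent.S17266

/-- Let C be a category with a Grothendieck topology J and let F : 𝒳 → 𝒴, G : 𝒴 → 𝒵 be functors over C
between categories fibred in groupoids over C. Say that a functor H : 𝒜 → ℬ over C is covering when
for every object U of C and every functor b : C/U → ℬ over C there is a J-covering sieve of U such
that for each of its arrows h : V → U the composite of C/V → C/U with b is 2-isomorphic over C to H
∘ a for some functor a : C/V → 𝒜 over C (locally on the base every object of ℬ lifts to 𝒜 up to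
isomorphism). If F and G are covering, then the composite G ∘ F is covering. -/
theorem result {C : Type u} [Category.{v} C] (J : GrothendieckTopology C)
    {𝒳 𝒴 𝒵 : BasedCategory.{v, max u v} C}
    (h𝒳 : FibCat.IsFibGrpd 𝒳.p) (h𝒴 : FibCat.IsFibGrpd 𝒴.p) (h𝒵 : FibCat.IsFibGrpd 𝒵.p)
    (F : 𝒳 ⥤ᵇ 𝒴) (G : 𝒴 ⥤ᵇ 𝒵)
    (hF : (∀ (U : C) (y : FibCat.overCat U ⥤ᵇ 𝒴), ∃ R ∈ J U, ∀ ⦃V : C⦄ (h : V ⟶ U), R.arrows h →
        ∃ x : FibCat.overCat V ⥤ᵇ 𝒳,
          Nonempty (BasedFunctor.comp x F ≅ BasedFunctor.comp (⟨Over.map h, Over.mapForget_eq h⟩ : FibCat.overCat V ⥤ᵇ FibCat.overCat U) y)))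
    (hG : (∀ (U : C) (y : FibCat.overCat U ⥤ᵇ 𝒵), ∃ R ∈ J U, ∀ ⦃V : C⦄ (h : V ⟶ U), R.arrows h →
        ∃ x : FibCat.overCat V ⥤ᵇ 𝒴,
          Nonempty (BasedFunctor.comp x G ≅ BasedFunctor.comp (⟨Over.map h, Over.mapForget_eq h⟩ : FibCat.overCat V ⥤ᵇ FibCat.overCat U) y))) :
    (∀ (U : C) (y : FibCat.overCat U ⥤ᵇ 𝒵), ∃ R ∈ J U, ∀ ⦃V : C⦄ (h : V ⟶ U), R.arrows h →
        ∃ x : FibCat.overCat V ⥤ᵇ 𝒳,
          Nonempty (BasedFunctor.comp x (BasedFunctor.comp F G) ≅ BasedFunctor.comp (⟨Over.map h, Over.mapForget_eq h⟩ : FibCat.overCat V ⥤ᵇ FibCat.overCat U) y)) := by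
  intro U y
  obtain ⟨R, hR, hx⟩ := hG U y
  choose xh ih using hx
  choose R' hR' hx' using fun (V : C) (h : V ⟶ U) (hh : R.arrows h) => hF V (xh h hh)
  choose x' ix' using hx'
  refine ⟨Sieve.bind R.arrows (fun V h hh => R' V h hh), J.bind_covering hR (fun V h hh => hR' V h hh), ?_⟩
  intro W m hm
  obtain ⟨V, k, h, hh, hk, rfl⟩ := hm
  obtain ⟨i1⟩ := ix' V h hh k hk
  obtain ⟨i2⟩ := ih h hh
  refine ⟨x' V h hh k hk, ⟨?_⟩⟩
  -- bicategory computation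
  let OMk : FibCat.overCat W ⟶ FibCat.overCat V := (⟨Over.map k, Over.mapForget_eq k⟩ : FibCat.overCat W ⥤ᵇ FibCat.overCat V)
  let OMh : FibCat.overCat V ⟶ FibCat.overCat U := (⟨Over.map h, Over.mapForget_eq h⟩ : FibCat.overCat V ⥤ᵇ FibCat.overCat U)
  let OMkh : FibCat.overCat W ⟶ FibCat.overCat U := (⟨Over.map (k ≫ h), Over.mapForget_eq (k ≫ h)⟩ : FibCat.overCat W ⥤ᵇ FibCat.overCat U)
  let X' : FibCat.overCat W ⟶ 𝒳 := x' V h hh k hk
  let Xh : FibCat.overCat V ⟶ 𝒴 := xh h hh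
  let F' : 𝒳 ⟶ 𝒴 := F
  let G' : 𝒴 ⟶ 𝒵 := G
  let y' : FibCat.overCat U ⟶ 𝒵 := y
  have j1 : X' ≫ F' ≅ OMk ≫ Xh := i1
  have j2 : Xh ≫ G' ≅ OMh ≫ y' := i2
  have j3 : OMk ≫ OMh ≅ OMkh := H1_OMcomp k h
  have j : X' ≫ (F' ≫ G') ≅ OMkh ≫ y' :=
    (Bicategory.associator X' F' G').symm ≪≫ Bicategory.whiskerRightIso j1 G' ≪≫
      Bicategory.associator OMk Xh G' ≪≫ Bicategory.whiskerLeftIso OMk j2 ≪≫
      (Bicategory.associator OMk OMh y').symm ≪≫ Bicategory.whiskerRightIso j3 y'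
  exact j

end Groth.Agent.S17266
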