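import Groth.Statements.S1728
import Mathlib

set_option autoImplicit false
universe u
open InjHull

namespace Groth.Agent.S1728

/-- Let I be an injective R-module and E a submodule of I. Then E is an injective module if and only if
every submodule E' of I containing E, such that every nonzero submodule of E' meets E nontrivially,
is equal to E. -/
theorem result (R : Type u) [CommRing R] (I : Type u) [AddCommGroup I] [Module R I] [Module.Injective R I] (E : Submodule R I) : Module.Injective R E ↔ ∀ E' : Submodule R I, E ≤ E' → (∀ N : Submodule R I, N ≤ E' → N ≠ ⊥ → N ⊓ E ≠ ⊥) → E' = E := by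
  classical
  constructor
  · -- (⇒)
    intro hE E' hEE' hess
    obtain ⟨π, hπ⟩ := Module.Injective.extension_property R E E I E.subtype
      Subtype.val_injective LinearMap.id
    have hπe : ∀ e : E, π (e : I) = e := fun e => by
      have := congrArg (fun φ : E →ₗ[R] E => φ e) hπ
      simpa using this
    apply le_antisymm _ hEE'
    intro x hx
    set y : I := x - (π x : I) with hy
    have hyE' : y ∈ E' := sub_mem hx (hEE' (π x).2)
    have hπy : π y = 0 := by
      rw [hy, map_sub, hπe, sub_self]
    by_cases hy0 : y = 0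
    · have : x = (π x : I) := sub_eq_zero.mp hy0
      rw [this]; exact (π x).2
    · exfalso
      have hN : Submodule.span R {y} ≤ E' := by
        rw [Submodule.span_singleton_le_iff_mem]; exact hyE'
      have hNne : Submodule.span R {y} ≠ ⊥ := by
        rw [Ne, Submodule.span_singleton_eq_bot]; exact hy0
      apply hess _ hN hNne
      rw [eq_bot_iff]
      rintro z ⟨hz1, hz2⟩
      rw [SetLike.mem_coe, Submodule.mem_span_singleton] at hz1
      obtain ⟨r, rfl⟩ := hz1
      have h1 : π (r • y) = 0 := by rw [map_smul, hπy, smul_zero]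
      have h2 := hπe ⟨r • y, hz2⟩
      rw [h1] at h2
      have : (r • y : I) = 0 := by
        have := congrArg (fun e : E => (e : I)) h2
        simpa using this.symm
      rw [this]; exact Submodule.zero_mem _
  · -- (⇐)
    intro H
    -- Zorn: maximal C disjoint from E
    obtain ⟨C, hC⟩ := zorn_le₀ {C : Submodule R I | Disjoint C E} (by
      intro c hc hchain
      refine ⟨sSup c, ?_, fun z hz => le_sSup hz⟩
      rw [Set.mem_setOf_eq, hchain.directedOn.disjoint_sSup_left]
      intro b hb
      exact hc hb)
    have hCE : Disjoint C E := hC.prop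
    have hCmax : ∀ x : I, x ∉ C → ∃ e : I, e ∈ E ∧ e ≠ 0 ∧ ∃ c ∈ C, ∃ r : R, e = c + r • x := by
      intro x hx
      have hlt : C < C ⊔ Submodule.span R {x} := by
        refine lt_of_le_of_ne le_sup_left ?_
        intro heq
        apply hx
        rw [heq]
        exact Submodule.mem_sup_right (Submodule.mem_span_singleton_self x)
      have hnd : ¬ Disjoint (C ⊔ Submodule.span R {x}) E := by
        intro hd
        exact absurd (hC.le_of_ge hd hlt.le) (not_le_of_gt hlt)
      rw [disjoint_iff, ← Ne, Submodule.ne_bot_iff] at hnd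
      obtain ⟨e, ⟨he1, he2⟩, he0⟩ := hnd
      rw [SetLike.mem_coe, Submodule.mem_sup] at he1
      obtain ⟨c, hc, z, hz, rfl⟩ := he1
      rw [Submodule.mem_span_singleton] at hz
      obtain ⟨r, rfl⟩ := hz
      exact ⟨_, he2, he0, c, hc, r, rfl⟩
    let j : E →ₗ[R] (I ⧸ C) := C.mkQ.comp E.subtype
    have hj : Function.Injective j := by
      rw [← LinearMap.ker_eq_bot, eq_bot_iff]
      intro e he
      rw [LinearMap.mem_ker] at he
      have h1 : (e : I) ∈ C := by
        simpa [j, Submodule.Quotient.mk_eq_zero] using he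
      have h2 : (e : I) ∈ C ⊓ E := ⟨h1, e.2⟩
      rw [hCE.eq_bot] at h2
      rw [Submodule.mem_bot]
      exact Subtype.ext (by simpa using h2)
    obtain ⟨g, hg⟩ := Module.Injective.extension_property R I E (I ⧸ C) j hj E.subtype
    have hge : ∀ e : I, e ∈ E → g (C.mkQ e) = e := fun e he => by
      have := congrArg (fun φ : E →ₗ[R] I => φ ⟨e, he⟩) hg
      simpa [j] using this
    -- key: for q ≠ 0 in the quotient, some nonzero e ∈ E with e = r • g q
    have hkey : ∀ q : I ⧸ C, q ≠ 0 → ∃ e : I, e ∈ E ∧ e ≠ 0 ∧ ∃ r : R, e = r • g q := by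
      intro q hq
      obtain ⟨x, rfl⟩ := C.mkQ_surjective q
      have hx : x ∉ C := by
        intro hx
        apply hq
        simpa [Submodule.Quotient.mk_eq_zero] using hx
      obtain ⟨e, he, he0, c, hc, r, hecr⟩ := hCmax x hx
      refine ⟨e, he, he0, r, ?_⟩
      have h1 : C.mkQ e = r • C.mkQ x := by
        rw [hecr, map_add, map_smul]
        have : C.mkQ c = 0 := by simpa [Submodule.Quotient.mk_eq_zero] using hc
        rw [this, zero_add]
      rw [← map_smul, ← h1, hge e he]
    have hginj : Function.Injective g := by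
      rw [← LinearMap.ker_eq_bot, eq_bot_iff]
      intro q hq
      rw [LinearMap.mem_ker] at hq
      by_contra hq0
      rw [Submodule.mem_bot] at hq0
      obtain ⟨e, he, he0, r, her⟩ := hkey q hq0
      rw [hq, smul_zero] at her
      exact he0 her
    have hEE' : E ≤ LinearMap.range g := by
      intro e he
      exact ⟨C.mkQ e, hge e he⟩
    have hess : ∀ N : Submodule R I, N ≤ LinearMap.range g → N ≠ ⊥ → N ⊓ E ≠ ⊥ := by
      intro N hN hN0
      rw [Submodule.ne_bot_iff] at hN0 ⊢
      obtain ⟨n, hn, hn0⟩ := hN0
      obtain ⟨q, rfl⟩ := hN hn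
      have hq0 : q ≠ 0 := by
        rintro rfl; exact hn0 (map_zero g)
      obtain ⟨e, he, he0, r, her⟩ := hkey q hq0
      refine ⟨e, ⟨?_, he⟩, he0⟩
      rw [her]
      exact N.smul_mem r hn
    have hrange : LinearMap.range g = E := H _ hEE' hess
    let ρ : I →ₗ[R] E := (g.comp C.mkQ).codRestrict E (fun x => by
      rw [← hrange]; exact ⟨C.mkQ x, rfl⟩)
    have hρ : ∀ e : E, ρ (e : I) = e := fun e => Subtype.ext (hge e e.2)
    refine ⟨fun X Y _ _ _ _ f hf h => ?_⟩
    obtain ⟨h', hh'⟩ := Module.Injective.extension_property R I X Y f hf (E.subtype.comp h)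
    refine ⟨ρ.comp h', fun x => ?_⟩
    have := congrArg (fun φ : X →ₗ[R] I => φ x) hh'
    simp only [LinearMap.comp_apply, Submodule.subtype_apply] at this
    rw [LinearMap.comp_apply, this, hρ]

end Groth.Agent.S1728
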