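import Groth.Statements.S1729
import Mathlib.RingTheory.LocalRing.Module
import Mathlib.LinearAlgebra.FreeModule.Finite.Basic

set_option autoImplicit false
universe u
open Dual2

namespace Groth.Agent.S1729

/-- Over a local ring, every finite module M admits a projective cover: a surjection from a projective
module P onto M such that no proper submodule of P maps onto M. -/
theorem result (R : Type u) [CommRing R] [IsLocalRing R] (M : Type u) [AddCommGroup M] [Module R M] [Module.Finite R M] : ∃ (P : Type u) (_ : AddCommGroup P) (_ : Module R P) (f : P →ₗ[R] M), Dual2.IsProjectiveCover f := by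
  classical
  let k := IsLocalRing.ResidueField R
  let b := Module.finBasis k (TensorProduct R k M)
  have hsurjmk : Function.Surjective (TensorProduct.mk R k M 1) :=
    TensorProduct.mk_surjective R M k Ideal.Quotient.mk_surjective
  choose x hx using fun i => hsurjmk (b i)
  let f : (Fin (Module.finrank k (TensorProduct R k M)) → R) →ₗ[R] M := Fintype.linearCombination R x
  have hspan : Submodule.span R (Set.range x) = ⊤ :=
    IsLocalRing.span_eq_top_of_tmul_eq_basis x b hx
  have hfsurj : Function.Surjective f := by
    rw [← LinearMap.range_eq_top, Fintype.range_linearCombination, hspan]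
  -- kernel is inside m • ⊤
  have hker : LinearMap.ker f ≤ (IsLocalRing.maximalIdeal R) • (⊤ : Submodule R (Fin (Module.finrank k (TensorProduct R k M)) → R)) := by
    intro c hc
    rw [LinearMap.mem_ker, Fintype.linearCombination_apply] at hc
    have h1 : ∑ i, (algebraMap R k (c i)) • b i = 0 := by
      have h2 := congrArg (TensorProduct.mk R k M 1) hc
      rw [map_sum, map_zero] at h2
      rw [← h2]
      refine Finset.sum_congr rfl fun i _ => ?_
      rw [map_smul, hx, algebraMap_smul]
    have h3 := Fintype.linearIndependent_iff.mp b.linearIndependent _ h1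
    have hci : ∀ i, c i ∈ IsLocalRing.maximalIdeal R := fun i => by
      have := h3 i
      rwa [IsLocalRing.ResidueField.algebraMap_eq, IsLocalRing.residue_eq_zero_iff] at this
    have hc' : c = ∑ i, c i • (Pi.single i (1 : R) : Fin (Module.finrank k (TensorProduct R k M)) → R) := by
      ext j
      simp [Finset.sum_apply, Pi.single_apply]
    rw [hc']
    exact Submodule.sum_mem _ fun i _ => Submodule.smul_mem_smul (hci i) Submodule.mem_top
  refine ⟨_, inferInstance, inferInstance, f, ⟨inferInstance, hfsurj, ?_⟩⟩
  intro N hN
  rw [← IsLocalRing.map_mkQ_eq_top]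
  rw [eq_top_iff]
  rintro y -
  obtain ⟨p, rfl⟩ := Submodule.mkQ_surjective _ y
  have hp : f p ∈ Submodule.map f N := by rw [hN]; trivial
  obtain ⟨q, hqN, hq⟩ := hp
  refine ⟨q, hqN, ?_⟩
  rw [Submodule.mkQ_apply, Submodule.mkQ_apply, Submodule.Quotient.eq]
  apply hker
  rw [LinearMap.mem_ker, map_sub, hq, sub_self]

end Groth.Agent.S1729
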