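import Groth.Statements.S17321
import Mathlib
import Groth.Agent.H8FinAlg

set_option autoImplicit false
universe u v
open CAlg

namespace Groth.Agent.S17321

/-- Let k be an algebraically closed field and A a commutative k-algebra which is finite-dimensional as
a k-vector space (the coordinate ring of a finite k-scheme). Then the space Der(A) of k-derivations
A → A is zero if and only if A is reduced. -/
theorem result (k : Type u) [Field k] [IsAlgClosed k]
    (A : Type v) [CommRing A] [Algebra k A] [Module.Finite k A] :
    Subsingleton (Derivation k A A) ↔ IsReduced A := by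
  classical
  constructor
  · intro hsub
    by_contra hred
    -- the nilradical is nonzero
    set N := nilradical A with hNdef
    have hNne : N ≠ ⊥ := by
      intro h
      apply hred
      rw [← nilradical_eq_bot_iff]
      exact h
    have hNoeth : IsNoetherianRing A := IsNoetherianRing.of_finite k A
    have hnilp : IsNilpotent N := IsNoetherianRing.isNilpotent_nilradical A
    have hex : ∃ m : ℕ, N ^ m = ⊥ := hnilp
    set m := Nat.find hex with hm
    have hNm : N ^ m = ⊥ := Nat.find_spec hex
    have hm1 : 2 ≤ m := by
      by_contra hlt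
      push Not at hlt
      have hcases : m = 0 ∨ m = 1 := by omega
      rcases hcases with h0 | h1
      · rw [h0, pow_zero, Ideal.one_eq_top] at hNm
        have : N = ⊥ := by
          rw [eq_bot_iff, ← hNm]; exact le_top
        exact hNne this
      · rw [h1, pow_one] at hNm
        exact hNne hNm
    have hprev : N ^ (m - 1) ≠ ⊥ := Nat.find_min hex (by omega : m - 1 < m)
    have hsplit : N ^ (m - 1) = N ^ (m - 2) * N := by
      rw [← pow_succ]; congr 1; omega
    -- find n₀ ∈ N^(m-2), n ∈ N with n₀ * n ≠ 0
    obtain ⟨n₀, hn₀, n, hn, hn₀n⟩ : ∃ n₀ ∈ N ^ (m - 2), ∃ n ∈ N, n₀ * n ≠ 0 := by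
      by_contra hall
      push Not at hall
      apply hprev
      rw [hsplit, eq_bot_iff, Ideal.mul_le]
      intro u hu v hv
      rw [Ideal.mem_bot]
      exact hall u hu v hv
    obtain ⟨s, hs, -⟩ := Groth.Agent.S17336.result k A
    have hs' : ∀ y, Ideal.Quotient.mk N (s y) = y := fun y => AlgHom.congr_fun hs y
    have hπ : ∀ x : A, x - s (Ideal.Quotient.mk N x) ∈ N := by
      intro x
      rw [← Ideal.Quotient.eq_zero_iff_mem, map_sub, hs', sub_self]
    have hkill : ∀ u ∈ N, ∀ v ∈ N, n₀ * (u * v) = 0 := by
      intro u hu v hv
      have h1 : n₀ * (u * v) ∈ N ^ m := by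
        have : N ^ m = N ^ (m - 2) * (N * N) := by
          rw [← pow_two, ← pow_add]; congr 1; omega
        rw [this]
        exact Ideal.mul_mem_mul hn₀ (Ideal.mul_mem_mul hu hv)
      rw [hNm, Ideal.mem_bot] at h1
      exact h1
    let L : A →ₗ[k] A :=
      (LinearMap.mulLeft k n₀).comp (LinearMap.id - s.toLinearMap.comp (Ideal.Quotient.mkₐ k N).toLinearMap)
    have hL : ∀ x, L x = n₀ * (x - s (Ideal.Quotient.mk N x)) := fun x => rfl
    let D : Derivation k A A :=
      { toLinearMap := L
        map_one_eq_zero' := by
          change L 1 = 0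
          rw [hL, map_one, map_one, sub_self, mul_zero]
        leibniz' := by
          intro x y
          change L (x * y) = x • L y + y • L x
          rw [hL, hL, hL, map_mul, map_mul, smul_eq_mul, smul_eq_mul]
          have h0 := hkill _ (hπ x) _ (hπ y)
          linear_combination (-1 : A) * h0 }
    have hD0 : D = 0 := Subsingleton.elim _ _
    have hDn : D n = n₀ * n := by
      change L n = n₀ * n
      rw [hL]
      have : Ideal.Quotient.mk N n = 0 := Ideal.Quotient.eq_zero_iff_mem.2 hn
      rw [this, map_zero, sub_zero]
    rw [hD0] at hDn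
    exact hn₀n hDn.symm
  · intro hred
    have hE : Algebra.FormallyEtale k A := Groth.Agent.H8FinAlg.formallyEtale_of_isReduced k A
    have hU : Algebra.FormallyUnramified k A := inferInstance
    have hΩ : Subsingleton (KaehlerDifferential k A) := inferInstance
    refine ⟨fun D D' => ?_⟩
    ext x
    rw [← Derivation.liftKaehlerDifferential_comp_D D x,
      ← Derivation.liftKaehlerDifferential_comp_D D' x,
      Subsingleton.elim (KaehlerDifferential.D k A x) 0, map_zero, map_zero]

end Groth.Agent.S17321
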