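import Groth.Statements.S17323
import Mathlib
import Groth.Agent.H8FinAlg

set_option autoImplicit false
universe u v
open CAlg

namespace Groth.Agent.S17323

/-- Let k be an algebraically closed field and A a commutative k-algebra which is finite-dimensional as
a k-vector space. Then A has a largest reduced subalgebra: a k-subalgebra B which is reduced and
contains every reduced k-subalgebra of A; moreover the composite of the inclusion B → A with the
projection A → A/nilradical(A) is bijective. -/
theorem result (k : Type u) [Field k] [IsAlgClosed k]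
    (A : Type v) [CommRing A] [Algebra k A] [Module.Finite k A] :
    ∃ B : Subalgebra k A, IsReduced ↥B ∧ (∀ C : Subalgebra k A, IsReduced ↥C → C ≤ B) ∧
      Function.Bijective ((Ideal.Quotient.mkₐ k (nilradical A)).comp B.val) := by
  classical
  obtain ⟨s, hs, -⟩ := Groth.Agent.S17336.result k A
  have hs' : ∀ y, Ideal.Quotient.mk (nilradical A) (s y) = y := fun y => AlgHom.congr_fun hs y
  have hsinj : Function.Injective s := by
    intro y y' h
    rw [← hs' y, ← hs' y', h]
  have hnil := Groth.Agent.H8FinAlg.isNilpotent_ker_mk k A
  have hred : IsReduced (A ⧸ nilradical A) :=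
    (Ideal.isRadical_iff_quotient_reduced (nilradical A)).1 (Ideal.radical_isRadical _)
  refine ⟨s.range, ?_, ?_, ?_, ?_⟩
  · -- reduced
    refine ⟨?_⟩
    rintro ⟨x, y, rfl⟩ ⟨n, hn⟩
    have h1 : s y ^ n = 0 := by
      have := congrArg Subtype.val hn
      simpa using this
    rw [← map_pow] at h1
    have h2 : y ^ n = 0 := hsinj (by rw [h1, map_zero])
    have h3 : y = 0 := IsReduced.eq_zero _ ⟨n, h2⟩
    apply Subtype.ext
    simp [h3]
  · -- maximal
    intro C hC
    have hCfin : Module.Finite k C := Module.Finite.of_injective C.val.toLinearMap Subtype.val_injective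
    have hCet : Algebra.FormallyEtale k C := Groth.Agent.H8FinAlg.formallyEtale_of_isReduced k C
    have heq : C.val = s.comp ((Ideal.Quotient.mkₐ k (nilradical A)).comp C.val) := by
      apply Algebra.FormallyUnramified.lift_unique' (Ideal.Quotient.mkₐ k (nilradical A)) hnil
      rw [← AlgHom.comp_assoc, hs, AlgHom.id_comp]
    intro c hc
    have := AlgHom.congr_fun heq ⟨c, hc⟩
    simp only [Subalgebra.coe_val, AlgHom.coe_comp, Function.comp_apply] at this
    rw [this]
    exact AlgHom.mem_range_self _ _
  · -- injective
    rintro ⟨x, y, rfl⟩ ⟨x', y', rfl⟩ h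
    have h1 : Ideal.Quotient.mk (nilradical A) (s y) = Ideal.Quotient.mk (nilradical A) (s y') := h
    rw [hs', hs'] at h1
    subst h1
    rfl
  · -- surjective
    intro y
    exact ⟨⟨s y, AlgHom.mem_range_self _ _⟩, hs' y⟩

end Groth.Agent.S17323
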