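import Groth.Statements.S17324
import Mathlib

set_option autoImplicit false
universe u v
open CAlg

namespace Groth.Agent.S17324

/-- (i) ⟺ (ii): let k be an algebraically closed field, A a commutative k-algebra which is
finite-dimensional as a k-vector space and is a local ring with maximal ideal m, and a_1, …, a_m ∈
m. Then A is generated as a k-algebra by a_1, …, a_m if and only if m is generated as an ideal by
a_1, …, a_m. (The printed lemma has a third equivalent condition, that the images of the a_i span
m/m²; its equivalence with (ii) is Nakayama's lemma.) -/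
theorem result (k : Type u) [Field k] [IsAlgClosed k]
    (A : Type v) [CommRing A] [Algebra k A] [Module.Finite k A] [IsLocalRing A]
    (m : ℕ) (a : Fin m → A) (ha : ∀ i, a i ∈ IsLocalRing.maximalIdeal A) :
    Algebra.adjoin k (Set.range a) = ⊤ ↔ Ideal.span (Set.range a) = IsLocalRing.maximalIdeal A := by
  classical
  set 𝔪 := IsLocalRing.maximalIdeal A with h𝔪
  have hArt : IsArtinianRing A := IsArtinianRing.of_finite k A
  have hspan_le : Ideal.span (Set.range a) ≤ 𝔪 := by
    rw [Ideal.span_le]
    rintro _ ⟨i, rfl⟩
    exact ha i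
  constructor
  · intro hadj
    apply le_antisymm hspan_le
    intro x hx
    have hdec : ∀ y ∈ Algebra.adjoin k (Set.range a),
        ∃ c : k, y - algebraMap k A c ∈ Ideal.span (Set.range a) := by
      intro y hy
      induction hy using Algebra.adjoin_induction with
      | mem y hy => exact ⟨0, by rw [map_zero, sub_zero]; exact Ideal.subset_span hy⟩
      | algebraMap c => exact ⟨c, by rw [sub_self]; exact Ideal.zero_mem _⟩
      | add y y' _ _ h h' =>
        obtain ⟨c, hc⟩ := h
        obtain ⟨c', hc'⟩ := h'
        refine ⟨c + c', ?_⟩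
        have : y + y' - algebraMap k A (c + c') =
            (y - algebraMap k A c) + (y' - algebraMap k A c') := by rw [map_add]; ring
        rw [this]
        exact Ideal.add_mem _ hc hc'
      | mul y y' _ _ h h' =>
        obtain ⟨c, hc⟩ := h
        obtain ⟨c', hc'⟩ := h'
        refine ⟨c * c', ?_⟩
        have : y * y' - algebraMap k A (c * c') =
            (y - algebraMap k A c) * y' + algebraMap k A c * (y' - algebraMap k A c') := by
          rw [map_mul]; ring
        rw [this]
        exact Ideal.add_mem _ (Ideal.mul_mem_right _ _ hc) (Ideal.mul_mem_left _ _ hc')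
    obtain ⟨c, hc⟩ := hdec x (by rw [hadj]; trivial)
    have hc𝔪 : algebraMap k A c ∈ 𝔪 := by
      have : algebraMap k A c = x - (x - algebraMap k A c) := by ring
      rw [this]
      exact Ideal.sub_mem _ hx (hspan_le hc)
    have hc0 : c = 0 := by
      by_contra hne
      have hunit : IsUnit (algebraMap k A c) := (IsUnit.mk0 c hne).map (algebraMap k A)
      exact (IsLocalRing.mem_maximalIdeal _).1 hc𝔪 hunit
    rw [hc0, map_zero, sub_zero] at hc
    exact hc
  · intro hspan
    set B := Algebra.adjoin k (Set.range a) with hB
    have haB : ∀ i, a i ∈ B := fun i => Algebra.subset_adjoin ⟨i, rfl⟩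
    -- residue field is k
    have hres : ∀ x : A, ∃ c : k, x - algebraMap k A c ∈ 𝔪 := by
      intro x
      let _ : Field (A ⧸ 𝔪) := Ideal.Quotient.field 𝔪
      have hbij : Function.Bijective (algebraMap k (A ⧸ 𝔪)) :=
        IsAlgClosed.algebraMap_bijective_of_isIntegral
      obtain ⟨c, hc⟩ := hbij.2 (Ideal.Quotient.mk 𝔪 x)
      refine ⟨c, ?_⟩
      rw [← Ideal.Quotient.eq_zero_iff_mem, map_sub, ← hc, sub_eq_zero]
      rfl
    -- nilpotency
    obtain ⟨N, hN⟩ : ∃ N : ℕ, 𝔪 ^ N = ⊥ := by
      have h1 : IsNilpotent (Ideal.jacobson (⊥ : Ideal A)) := IsArtinianRing.isNilpotent_jacobson_bot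
      rw [IsLocalRing.jacobson_eq_maximalIdeal ⊥ bot_ne_top] at h1
      obtain ⟨N, hN⟩ := h1
      exact ⟨N, hN⟩
    -- key step
    have hT : ∀ n : ℕ, ∀ y ∈ 𝔪 ^ n, ∃ b ∈ B, y - b ∈ 𝔪 ^ (n + 1) := by
      intro n
      induction n with
      | zero =>
        intro y _
        obtain ⟨c, hc⟩ := hres y
        exact ⟨algebraMap k A c, B.algebraMap_mem c, by simpa using hc⟩
      | succ n ih =>
        intro y hy
        rw [pow_succ] at hy
        refine Submodule.mul_induction_on hy ?_ ?_
        · intro u hu v hv
          rw [← hspan] at hv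
          revert u
          refine Submodule.span_induction ?_ ?_ ?_ ?_ hv
          · rintro _ ⟨i, rfl⟩ u hu
            obtain ⟨b, hb, hub⟩ := ih u hu
            refine ⟨b * a i, B.mul_mem hb (haB i), ?_⟩
            have : u * a i - b * a i = (u - b) * a i := by ring
            rw [this, pow_succ (n := n + 1)]
            exact Ideal.mul_mem_mul hub (ha i)
          · intro u _
            exact ⟨0, B.zero_mem, by simp⟩
          · intro v v' _ _ h h' u hu
            obtain ⟨b, hb, hub⟩ := h u hu
            obtain ⟨b', hb', hub'⟩ := h' u hu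
            refine ⟨b + b', B.add_mem hb hb', ?_⟩
            have : u * (v + v') - (b + b') = (u * v - b) + (u * v' - b') := by ring
            rw [this]
            exact Ideal.add_mem _ hub hub'
          · intro r v _ h u hu
            have hur : u * r ∈ 𝔪 ^ n := Ideal.mul_mem_right _ _ hu
            obtain ⟨b, hb, hub⟩ := h (u * r) hur
            refine ⟨b, hb, ?_⟩
            have : u * r • v - b = u * r * v - b := by rw [smul_eq_mul]; ring
            rw [this]
            exact hub
        · intro y y' h h'
          obtain ⟨b, hb, hyb⟩ := h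
          obtain ⟨b', hb', hyb'⟩ := h'
          refine ⟨b + b', B.add_mem hb hb', ?_⟩
          have : y + y' - (b + b') = (y - b) + (y' - b') := by ring
          rw [this]
          exact Ideal.add_mem _ hyb hyb'
    have happrox : ∀ n : ℕ, ∀ x : A, ∃ b ∈ B, x - b ∈ 𝔪 ^ n := by
      intro n
      induction n with
      | zero => intro x; exact ⟨0, B.zero_mem, by simp⟩
      | succ n ih =>
        intro x
        obtain ⟨b, hb, hxb⟩ := ih x
        obtain ⟨b', hb', hxb'⟩ := hT n _ hxb
        refine ⟨b + b', B.add_mem hb hb', ?_⟩
        have : x - (b + b') = x - b - b' := by ring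
        rw [this]
        exact hxb'
    rw [eq_top_iff]
    intro x _
    obtain ⟨b, hb, hxb⟩ := happrox N x
    rw [hN, Ideal.mem_bot, sub_eq_zero] at hxb
    rw [hxb]
    exact hb

end Groth.Agent.S17324
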