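import Groth.Statements.S17326
import Mathlib
import Groth.Agent.S17335

set_option autoImplicit false
universe u v
open CAlg

namespace Groth.Agent.S17326

/-- Let k be an algebraically closed field of characteristic p > 0, A a commutative k-algebra which is
finite-dimensional as a k-vector space (a finite k-scheme X), and n ≥ 1. The n-th iterated relative
Frobenius morphism X → X^(p^n) is an isomorphism if and only if X is reduced; on rings: the map a ↦
a^(p^n) of A to itself (which is the ring homomorphism underlying the relative Frobenius, the twist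
A^(p^n) having the same underlying ring as A) is bijective if and only if A is reduced. -/
theorem result (k : Type u) [Field k] [IsAlgClosed k]
    (p : ℕ) [Fact p.Prime] [CharP k p] (A : Type v) [CommRing A] [Algebra k A] [Module.Finite k A]
    (n : ℕ) (hn : 1 ≤ n) :
    Function.Bijective (fun a : A => a ^ p ^ n) ↔ IsReduced A := by
  classical
  have hp : p.Prime := Fact.out
  have hq : 0 < p ^ n := pow_pos hp.pos n
  constructor
  · rintro ⟨hinj, -⟩
    refine ⟨?_⟩
    intro a ha
    obtain ⟨m, hm⟩ := ha
    -- iterate of the map
    have hiter : ∀ N : ℕ, a ^ (p ^ n) ^ N = 0 → a = 0 := by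
      intro N
      induction N with
      | zero => intro h; simpa using h
      | succ N ih =>
        intro h
        apply ih
        have h1 : (a ^ (p ^ n) ^ N) ^ p ^ n = (0 : A) ^ p ^ n := by
          rw [← pow_mul, ← pow_succ, h, zero_pow hq.ne']
        exact hinj h1
    apply hiter m
    have h2 : m ≤ (p ^ n) ^ m := by
      have h3 : 2 ≤ p ^ n := by
        calc 2 ≤ p := hp.two_le
          _ = p ^ 1 := (pow_one p).symm
          _ ≤ p ^ n := Nat.pow_le_pow_right hp.pos hn
      calc m ≤ 2 ^ m := Nat.lt_two_pow_self.le
        _ ≤ (p ^ n) ^ m := Nat.pow_le_pow_left h3 m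
    exact pow_eq_zero_of_le h2 hm
  · intro hred
    obtain ⟨hfin, hsurj, hker⟩ := Groth.Agent.S17335.result k A
    have hinj : Function.Injective (AlgHom.pi (R := k) (fun f : A →ₐ[k] k => f)) := by
      rw [injective_iff_map_eq_zero]
      intro a ha
      have : a ∈ nilradical A := by rw [← hker]; exact ha
      rw [nilradical_eq_zero, Ideal.zero_eq_bot, Ideal.mem_bot] at this
      exact this
    constructor
    · intro x y hxy
      apply hinj
      funext f
      have h1 : (f x) ^ p ^ n = (f y) ^ p ^ n := by
        rw [← map_pow, ← map_pow]
        exact congrArg f hxy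
      have h2 : (f x - f y) ^ p ^ n = 0 := by
        rw [sub_pow_char_pow, h1, sub_self]
      exact sub_eq_zero.1 (pow_eq_zero_iff hq.ne' |>.1 h2)
    · intro y
      have hc : ∀ f : A →ₐ[k] k, ∃ c : k, c ^ p ^ n = f y := fun f =>
        IsAlgClosed.exists_pow_nat_eq (f y) hq
      choose c hc using hc
      obtain ⟨x, hx⟩ := hsurj c
      refine ⟨x, ?_⟩
      apply hinj
      funext f
      have h1 : f x = c f := congrFun hx f
      change f (x ^ p ^ n) = f y
      rw [map_pow, h1, hc]

end Groth.Agent.S17326
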