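import Groth.Statements.S1733

set_option autoImplicit false
universe u
open LocCoh

namespace Groth.Agent.S1733

/-- Let f_1, …, f_r and g be elements of a ring (r ≥ 1). If the family f_1, …, f_{r-1}, f_r g is
independent (every linear relation has coefficients in the ideal the family generates), then f_1, …,
f_r is independent. -/
theorem result (A : Type u) [CommRing A] (r : ℕ) (f : Fin (r + 1) → A) (g : A) (h : Dual2.Independent (Function.update f (Fin.last r) (f (Fin.last r) * g))) : Dual2.Independent f := by
  classical
  set f' := Function.update f (Fin.last r) (f (Fin.last r) * g) with hf'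
  have hf'cs : ∀ j : Fin r, f' (Fin.castSucc j) = f (Fin.castSucc j) := fun j =>
    Function.update_of_ne (Fin.castSucc_lt_last j).ne _ _
  have hf'last : f' (Fin.last r) = f (Fin.last r) * g := Function.update_self _ _ _
  have hle : Ideal.span (Set.range f') ≤ Ideal.span (Set.range f) := by
    rw [Ideal.span_le]
    rintro _ ⟨i, rfl⟩
    by_cases hi : i = Fin.last r
    · rw [hi, hf'last]
      exact Ideal.mul_mem_right _ _ (Ideal.subset_span ⟨_, rfl⟩)
    · rw [hf', Function.update_of_ne hi]
      exact Ideal.subset_span ⟨_, rfl⟩
  intro a ha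
  rw [Fin.sum_univ_castSucc] at ha
  -- first relation
  have h1 := h (fun i => if i = Fin.last r then a i else a i * g) (by
    rw [Fin.sum_univ_castSucc]
    simp only [hf'cs, hf'last, (Fin.castSucc_lt_last _).ne, if_false, if_true]
    have : ∑ j : Fin r, a (Fin.castSucc j) * g * f (Fin.castSucc j) + a (Fin.last r) * (f (Fin.last r) * g)
        = g * (∑ j : Fin r, a (Fin.castSucc j) * f (Fin.castSucc j) + a (Fin.last r) * f (Fin.last r)) := by
      rw [mul_add, Finset.mul_sum]
      congr 1
      · exact Finset.sum_congr rfl fun j _ => by ring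
      · ring
    rw [this, ha, mul_zero])
  have hlast : a (Fin.last r) ∈ Ideal.span (Set.range f') := by
    simpa using h1 (Fin.last r)
  obtain ⟨c, hc⟩ := Ideal.mem_span_range_iff_exists_fun.mp hlast
  rw [Fin.sum_univ_castSucc] at hc
  simp only [hf'cs, hf'last] at hc
  -- second relation
  have h2 := h (fun i => if i = Fin.last r then c i * f (Fin.last r) else a i + c i * f (Fin.last r)) (by
    rw [Fin.sum_univ_castSucc]
    simp only [hf'cs, hf'last, (Fin.castSucc_lt_last _).ne, if_false, if_true]
    have : ∑ j : Fin r, (a (Fin.castSucc j) + c (Fin.castSucc j) * f (Fin.last r)) * f (Fin.castSucc j) +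
          c (Fin.last r) * f (Fin.last r) * (f (Fin.last r) * g)
        = (∑ j : Fin r, a (Fin.castSucc j) * f (Fin.castSucc j)) +
          (∑ j : Fin r, c (Fin.castSucc j) * f (Fin.castSucc j) + c (Fin.last r) * (f (Fin.last r) * g)) *
            f (Fin.last r) := by
      rw [add_mul, Finset.sum_mul, ← add_assoc, ← Finset.sum_add_distrib]
      congr 1
      · exact Finset.sum_congr rfl fun j _ => by ring
      · ring
    rw [this, hc, ha])
  intro i
  by_cases hi : i = Fin.last r
  · rw [hi]; exact hle hlast
  · have h3 := h2 i
    simp only [hi, if_false] at h3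
    have h4 : a i = (a i + c i * f (Fin.last r)) - c i * f (Fin.last r) := by ring
    rw [h4]
    exact sub_mem (hle h3) (Ideal.mul_mem_left _ _ (Ideal.subset_span ⟨_, rfl⟩))

end Groth.Agent.S1733
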