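import Groth.Statements.S17332
import Mathlib

set_option autoImplicit false
universe u v w
open CAlg

namespace Groth.Agent.S17332

/-- Let k be a field, E and F finite sets, and O(E), O(F) the k-algebras of k-valued functions with
pointwise operations. Then every k-algebra homomorphism u : O(F) → O(E) is pull-back along a unique
map φ : E → F, i.e. u(g) = g ∘ φ for all g. (In the source k is algebraically closed; the printed
argument only uses that k is a field.) -/
theorem result (k : Type u) [Field k] (E : Type v) [Finite E]
    (F : Type w) [Finite F] (u : (F → k) →ₐ[k] (E → k)) :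
    ∃! φ : E → F, ∀ g : F → k, u g = g ∘ φ := by
  classical
  haveI : Fintype F := Fintype.ofFinite F
  have key : ∀ e : E, ∃ f₀ : F, ∀ g : F → k, u g e = g f₀ := by
    intro e
    let χ : (F → k) →ₐ[k] k := (Pi.evalAlgHom k (fun _ : E => k) e).comp u
    have hχ : ∀ g, χ g = u g e := fun g => rfl
    have hsum : ∑ f : F, χ (Pi.single f 1) = 1 := by
      rw [← map_sum, Finset.univ_sum_single]
      exact map_one χ
    have hex : ∃ f₀, χ (Pi.single f₀ 1) ≠ 0 := by
      by_contra hcon
      push Not at hcon
      rw [Finset.sum_eq_zero (fun f _ => hcon f)] at hsum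
      exact zero_ne_one hsum
    obtain ⟨f₀, hf₀⟩ := hex
    have hidem : χ (Pi.single f₀ 1) = 1 := by
      have h1 : χ (Pi.single f₀ 1) * χ (Pi.single f₀ 1) = χ (Pi.single f₀ 1) := by
        rw [← map_mul, ← Pi.single_mul, mul_one]
      have h2 : χ (Pi.single f₀ 1) * (χ (Pi.single f₀ 1) - 1) = 0 := by
        rw [mul_sub, h1, mul_one, sub_self]
      rcases mul_eq_zero.1 h2 with h | h
      · exact absurd h hf₀
      · exact sub_eq_zero.1 h
    have hother : ∀ f, f ≠ f₀ → χ (Pi.single f 1) = 0 := by
      intro f hf
      have h1 : χ (Pi.single f 1) * χ (Pi.single f₀ 1) = 0 := by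
        rw [← map_mul]
        have : (Pi.single f (1 : k) * Pi.single f₀ (1 : k) : F → k) = 0 := by
          ext x
          by_cases hx : x = f
          · subst hx; simp [Pi.single_eq_of_ne hf]
          · simp [Pi.single_eq_of_ne hx]
        rw [this, map_zero]
      rw [hidem, mul_one] at h1
      exact h1
    refine ⟨f₀, fun g => ?_⟩
    rw [← hχ]
    have hg : g = ∑ f : F, g f • (Pi.single f (1 : k) : F → k) := by
      ext x
      simp [Finset.sum_apply, Pi.single_apply]
    conv_lhs => rw [hg]
    rw [map_sum]
    simp only [map_smul, smul_eq_mul]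
    rw [Finset.sum_eq_single f₀]
    · rw [hidem, mul_one]
    · intro f _ hf
      rw [hother f hf, mul_zero]
    · intro h; exact absurd (Finset.mem_univ _) h
  choose φ hφ using key
  refine ⟨φ, ?_, ?_⟩
  · intro g
    ext e
    exact hφ e g
  · intro ψ hψ
    ext e
    by_contra hne
    have h1 := congrFun (hψ (Pi.single (φ e) 1)) e
    rw [hφ e] at h1
    simp only [Function.comp_apply, Pi.single_eq_same] at h1
    rw [Pi.single_eq_of_ne hne] at h1
    exact one_ne_zero h1

end Groth.Agent.S17332
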