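import Groth.Statements.S17333
import Mathlib

set_option autoImplicit false
universe u v w
open CAlg

namespace Groth.Agent.S17333

/-- Let k be a field and A = B × C a decomposable commutative k-algebra. Then the natural map Der(B) ×
Der(C) → Der(A) is bijective: every k-derivation D : A → A is (b, c) ↦ (D₁ b, D₂ c) for a unique
pair of k-derivations D₁ : B → B, D₂ : C → C. Compatibility with brackets is not stated. (The
published statement takes k algebraically closed; this row takes any field.) -/
theorem result (k : Type u) [Field k] (B : Type v) [CommRing B] [Algebra k B]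
    (C : Type w) [CommRing C] [Algebra k C] (D : Derivation k (B × C) (B × C)) :
    ∃! P : Derivation k B B × Derivation k C C, ∀ (b : B) (c : C), D (b, c) = (P.1 b, P.2 c) := by
  have he : D ((1 : B), (0 : C)) = 0 := by
    have h1 : D (((1 : B), (0 : C)) * ((1 : B), (0 : C))) = D ((1 : B), (0 : C)) := by
      congr 1; simp
    rw [D.leibniz] at h1
    have h2 : (((1 : B), (0 : C)) : B × C) • D ((1 : B), (0 : C)) = 0 := by
      have h3 := congrArg (fun z => (((1 : B), (0 : C)) : B × C) • z) h1
      simp only [smul_add, smul_smul] at h3
      have h4 : (((1 : B), (0 : C)) * ((1 : B), (0 : C)) : B × C) = ((1 : B), (0 : C)) := by simp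
      rw [h4] at h3
      exact add_eq_left.1 h3
    rw [h2, add_zero] at h1
    exact h1.symm
  have he' : D ((0 : B), (1 : C)) = 0 := by
    have h1 : D (((1 : B), (0 : C)) + ((0 : B), (1 : C))) = 0 := by
      have : (((1 : B), (0 : C)) + ((0 : B), (1 : C)) : B × C) = 1 := by
        ext <;> simp
      rw [this]; exact D.map_one_eq_zero
    rw [map_add, he, zero_add] at h1
    exact h1
  have hb : ∀ b : B, (D (b, 0)).2 = 0 := by
    intro b
    have h1 : D (((1 : B), (0 : C)) * (b, 0)) = D (b, 0) := by
      congr 1; simp
    rw [D.leibniz, he, smul_zero, add_zero] at h1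
    have := congrArg Prod.snd h1
    simp only [smul_eq_mul, Prod.snd_mul, zero_mul] at this
    exact this.symm
  have hc : ∀ c : C, (D (0, c)).1 = 0 := by
    intro c
    have h1 : D (((0 : B), (1 : C)) * (0, c)) = D (0, c) := by
      congr 1; simp
    rw [D.leibniz, he', smul_zero, add_zero] at h1
    have := congrArg Prod.fst h1
    simp only [smul_eq_mul, Prod.fst_mul, zero_mul] at this
    exact this.symm
  let D₁ : Derivation k B B :=
    { toLinearMap := (LinearMap.fst k B C) ∘ₗ D.toLinearMap ∘ₗ (LinearMap.inl k B C)
      map_one_eq_zero' := by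
        simp only [LinearMap.coe_comp, Function.comp_apply, LinearMap.inl_apply, LinearMap.fst_apply,
          Derivation.coeFn_coe]
        rw [he]; rfl
      leibniz' := by
        intro a b
        simp only [LinearMap.coe_comp, Function.comp_apply, LinearMap.inl_apply, LinearMap.fst_apply,
          Derivation.coeFn_coe]
        have : ((a * b, 0) : B × C) = (a, 0) * (b, 0) := by simp
        rw [this, D.leibniz]
        simp }
  let D₂ : Derivation k C C :=
    { toLinearMap := (LinearMap.snd k B C) ∘ₗ D.toLinearMap ∘ₗ (LinearMap.inr k B C)
      map_one_eq_zero' := by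
        simp only [LinearMap.coe_comp, Function.comp_apply, LinearMap.inr_apply, LinearMap.snd_apply,
          Derivation.coeFn_coe]
        rw [he']; rfl
      leibniz' := by
        intro a b
        simp only [LinearMap.coe_comp, Function.comp_apply, LinearMap.inr_apply, LinearMap.snd_apply,
          Derivation.coeFn_coe]
        have : ((0, a * b) : B × C) = (0, a) * (0, b) := by simp
        rw [this, D.leibniz]
        simp }
  have hD₁ : ∀ b, D₁ b = (D (b, 0)).1 := fun b => rfl
  have hD₂ : ∀ c, D₂ c = (D (0, c)).2 := fun c => rfl
  refine ⟨(D₁, D₂), ?_, ?_⟩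
  · intro b c
    have : ((b, c) : B × C) = (b, 0) + (0, c) := by simp
    rw [this, map_add]
    ext
    · simp [hD₁, hc]
    · simp [hD₂, hb]
  · rintro ⟨P₁, P₂⟩ hP
    ext x
    · have := congrArg Prod.fst (hP x 0)
      simp only at this
      rw [hD₁, this]
    · have := congrArg Prod.snd (hP 0 x)
      simp only at this
      rw [hD₂, this]

end Groth.Agent.S17333
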