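import Groth.Statements.S17334
import Mathlib

set_option autoImplicit false
universe u v
open CAlg

namespace Groth.Agent.S17334

/-- Let k be a field and A a nonzero commutative k-algebra which is finite-dimensional as a k-vector
space. Then A is indecomposable (no decomposition as a product of two nonzero rings, i.e. no
idempotent other than 0 and 1) if and only if A is a local ring. (In the source k is algebraically
closed and the lemma adds that the maximal ideal is then the nilradical, is nilpotent, and has
residue field k; the equivalence itself uses only that k is a field, and the zero algebra is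
excluded here explicitly.) -/
theorem result (k : Type u) [Field k]
    (A : Type v) [CommRing A] [Algebra k A] [Module.Finite k A] [Nontrivial A] :
    (∀ e : A, IsIdempotentElem e → e = 0 ∨ e = 1) ↔ IsLocalRing A := by
  haveI : IsArtinianRing A := IsArtinianRing.of_finite k A
  constructor
  · intro h
    have key : ∀ a : A, IsUnit a ∨ IsNilpotent a := by
      intro a
      let f : ℕ →o (Ideal A)ᵒᵈ :=
        { toFun := fun n => OrderDual.toDual (Ideal.span {a ^ n})
          monotone' := by
            intro m n hmn
            show Ideal.span {a ^ n} ≤ Ideal.span {a ^ m}
            rw [Ideal.span_singleton_le_span_singleton]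
            exact pow_dvd_pow a hmn }
      obtain ⟨n, hn⟩ := IsArtinian.monotone_stabilizes f
      have h2 : Ideal.span {a ^ n} = Ideal.span {a ^ (n + n)} := by
        have := hn (n + n) (Nat.le_add_right n n)
        exact congrArg OrderDual.ofDual this
      have h3 : a ^ n ∈ Ideal.span {a ^ (n + n)} := by
        rw [← h2]; exact Ideal.subset_span rfl
      obtain ⟨b, hb⟩ := Ideal.mem_span_singleton'.1 h3
      have hidem : IsIdempotentElem (a ^ n * b) := by
        unfold IsIdempotentElem
        calc a ^ n * b * (a ^ n * b) = (b * a ^ (n + n)) * b := by rw [pow_add]; ring
          _ = a ^ n * b := by rw [hb]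
      rcases h _ hidem with h0 | h1
      · right
        refine ⟨n, ?_⟩
        calc a ^ n = b * a ^ (n + n) := hb.symm
          _ = a ^ n * (a ^ n * b) := by rw [pow_add]; ring
          _ = 0 := by rw [h0, mul_zero]
      · left
        rcases Nat.eq_zero_or_pos n with hn0 | hnpos
        · subst hn0
          simp only [pow_zero, one_mul] at h1
          have := hb
          simp only [pow_zero, add_zero, mul_one] at this
          -- a^0 = 1; need a unit: use h with idempotent... fallback
          by_contra hna
          -- span {1} = span {a^0} stabilizes: span{a} = span {1}
          have h5 := hn 1 (Nat.zero_le 1)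
          have h6 : Ideal.span {a ^ 0} = Ideal.span {a ^ 1} := congrArg OrderDual.ofDual h5
          rw [pow_zero, pow_one, Ideal.span_singleton_one] at h6
          exact hna (Ideal.span_singleton_eq_top.1 h6.symm)
        · have : IsUnit (a ^ n) := IsUnit.of_mul_eq_one _ h1
          exact (isUnit_pow_iff (Nat.pos_iff_ne_zero.1 hnpos)).1 this
    apply IsLocalRing.of_nonunits_add
    intro a b ha hb
    have ha' : IsNilpotent a := (key a).resolve_left ha
    have hb' : IsNilpotent b := (key b).resolve_left hb
    have hab : IsNilpotent (a + b) := (Commute.all a b).isNilpotent_add ha' hb'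
    exact fun hu => hab.not_isUnit hu
  · intro hloc e he
    rcases IsLocalRing.isUnit_or_isUnit_one_sub_self e with hu | hu
    · right
      have h1 : e * (1 - e) = 0 := by rw [mul_sub, mul_one, he.eq, sub_self]
      have := hu.mul_right_eq_zero.1 h1
      exact (sub_eq_zero.1 this).symm
    · left
      have h1 : e * (1 - e) = 0 := by rw [mul_sub, mul_one, he.eq, sub_self]
      exact hu.mul_left_eq_zero.1 h1

end Groth.Agent.S17334
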