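import Groth.Statements.S17409
import Mathlib

set_option autoImplicit false
universe u
open Prym5

namespace Groth.Agent.S17409

/-- Over a perfect field K of characteristic different from 2 and 3, let G₂, G₃, G₄ be polynomials in
two variables x, y and consider G₂ z² + 2 G₃ z + G₄ as a polynomial in the three variables x, y, z.
If it lies in the square of the ideal (x, y, z) — the surface it defines has a double point at the
origin — then the discriminant G₃² − G₂ G₄ lies in the square of the ideal (x, y) of K[x, y], so the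
plane curve G₃² − G₂ G₄ = 0 is singular at the origin. (This is the affine-local form used in the
published proof: the surface is a quartic with a node at the centre of projection placed at infinity
on the z-axis, and the curve is the branch sextic of that projection.) -/
theorem result (K : Type u) [Field K] [PerfectField K]
    (h2 : (2 : K) ≠ 0) (h3 : (3 : K) ≠ 0) (G₂ G₃ G₄ : MvPolynomial (Fin 2) K)
    (h : MvPolynomial.rename (Fin.castSucc : Fin 2 → Fin 3) G₂ * MvPolynomial.X (2 : Fin 3) ^ 2
        + 2 * MvPolynomial.rename (Fin.castSucc : Fin 2 → Fin 3) G₃ * MvPolynomial.X (2 : Fin 3)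
        + MvPolynomial.rename (Fin.castSucc : Fin 2 → Fin 3) G₄
        ∈ (Ideal.span (Set.range (MvPolynomial.X : Fin 3 → MvPolynomial (Fin 3) K))) ^ 2) :
    G₃ ^ 2 - G₂ * G₄ ∈ (Ideal.span (Set.range (MvPolynomial.X : Fin 2 → MvPolynomial (Fin 2) K))) ^ 2 := by
  set J := Ideal.span (Set.range (MvPolynomial.X : Fin 3 → MvPolynomial (Fin 3) K)) with hJ
  set I := Ideal.span (Set.range (MvPolynomial.X : Fin 2 → MvPolynomial (Fin 2) K)) with hI
  -- first substitution: z ↦ 0
  let f : Fin 3 → MvPolynomial (Fin 2) K := Fin.lastCases 0 (fun i => MvPolynomial.X i)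
  have hf : f ∘ (Fin.castSucc : Fin 2 → Fin 3) = MvPolynomial.X := by
    funext i; simp [f]
  have hf2 : f (2 : Fin 3) = 0 := by
    show f (Fin.last 2) = 0
    exact Fin.lastCases_last
  let ψ : MvPolynomial (Fin 3) K →ₐ[K] MvPolynomial (Fin 2) K := MvPolynomial.aeval f
  have hψren : ∀ G : MvPolynomial (Fin 2) K,
      ψ (MvPolynomial.rename (Fin.castSucc : Fin 2 → Fin 3) G) = G := by
    intro G
    simp only [ψ, MvPolynomial.aeval_rename, hf, MvPolynomial.aeval_X_left, AlgHom.id_apply]
  have hψJ : Ideal.map ψ J ≤ I := by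
    rw [hJ, Ideal.map_span, Ideal.span_le]
    rintro _ ⟨_, ⟨i, rfl⟩, rfl⟩
    simp only [ψ, MvPolynomial.aeval_X]
    induction i using Fin.lastCases with
    | last =>
      have : f (Fin.last 2) = 0 := Fin.lastCases_last
      rw [this]; exact Ideal.zero_mem _
    | cast i => simp only [f, Fin.lastCases_castSucc]; exact Ideal.subset_span ⟨i, rfl⟩
  have hψX2 : ψ (MvPolynomial.X (2 : Fin 3)) = 0 := by
    simp only [ψ, MvPolynomial.aeval_X, hf2]
  have hG4 : G₄ ∈ I ^ 2 := by
    have h1 : ψ _ ∈ Ideal.map ψ (J ^ 2) := Ideal.mem_map_of_mem ψ h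
    rw [Ideal.map_pow] at h1
    have h2' := Ideal.pow_right_mono hψJ 2 h1
    simp only [map_add, map_mul, map_pow, hψren, hψX2] at h2'
    simpa using h2'
  -- second substitution: x, y ↦ 0, z ↦ t
  let g : Fin 3 → Polynomial K := Fin.lastCases Polynomial.X (fun _ => 0)
  have hg : g ∘ (Fin.castSucc : Fin 2 → Fin 3) = 0 := by
    funext i; simp [g]
  have hg2 : g (2 : Fin 3) = Polynomial.X := by
    show g (Fin.last 2) = Polynomial.X
    exact Fin.lastCases_last
  let θ : MvPolynomial (Fin 3) K →ₐ[K] Polynomial K := MvPolynomial.aeval g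
  have hθren : ∀ G : MvPolynomial (Fin 2) K,
      θ (MvPolynomial.rename (Fin.castSucc : Fin 2 → Fin 3) G) =
        Polynomial.C (MvPolynomial.constantCoeff G) := by
    intro G
    simp only [θ, MvPolynomial.aeval_rename, hg, MvPolynomial.aeval_zero]
    rfl
  have hθJ : Ideal.map θ J ≤ Ideal.span {(Polynomial.X : Polynomial K)} := by
    rw [hJ, Ideal.map_span, Ideal.span_le]
    rintro _ ⟨_, ⟨i, rfl⟩, rfl⟩
    simp only [θ, MvPolynomial.aeval_X]
    induction i using Fin.lastCases with
    | last =>
      have : g (Fin.last 2) = Polynomial.X := Fin.lastCases_last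
      rw [this]; exact Ideal.subset_span rfl
    | cast i => simp [g]
  have hG3 : MvPolynomial.constantCoeff G₃ = 0 := by
    have h1 : θ _ ∈ Ideal.map θ (J ^ 2) := Ideal.mem_map_of_mem θ h
    rw [Ideal.map_pow] at h1
    have h2' := Ideal.pow_right_mono hθJ 2 h1
    rw [Ideal.span_singleton_pow, Ideal.mem_span_singleton, Polynomial.X_pow_dvd_iff] at h2'
    have h3 := h2' 1 (by norm_num)
    have hθX2 : θ (MvPolynomial.X (2 : Fin 3)) = Polynomial.X := by
      simp only [θ, MvPolynomial.aeval_X, hg2]
    simp only [map_add, map_mul, map_pow, hθren, hθX2, map_ofNat] at h3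
    have h4 : (Polynomial.C (MvPolynomial.constantCoeff G₂) * Polynomial.X ^ 2 +
        2 * Polynomial.C (MvPolynomial.constantCoeff G₃) * Polynomial.X +
        Polynomial.C (MvPolynomial.constantCoeff G₄) : Polynomial K).coeff 1 =
          2 * MvPolynomial.constantCoeff G₃ := by
      simp [Polynomial.coeff_C, Polynomial.coeff_X, mul_assoc]
    rw [h4] at h3
    rcases mul_eq_zero.1 h3 with h5 | h5
    · exact absurd h5 h2
    · exact h5
  have hG3I : G₃ ∈ I := by
    have := (MvPolynomial.mem_pow_idealOfVars_iff' (σ := Fin 2) (R := K) 1 G₃).2 (by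
      intro x hx
      have hx0 : x = 0 := by
        have : x.degree = 0 := by omega
        exact (Finsupp.degree_eq_zero_iff x).1 this
      rw [hx0]; exact hG3)
    simpa using this
  apply Ideal.sub_mem
  · rw [sq, sq]; exact Ideal.mul_mem_mul hG3I hG3I
  · exact Ideal.mul_mem_left _ _ hG4

end Groth.Agent.S17409
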