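import Groth.Statements.S17414
import Mathlib
import Groth.Agent.S17409

set_option autoImplicit false
universe u
open Prym5

namespace Groth.Agent.S17414

/-- Over a perfect field K of characteristic different from 2 and 3, let G₂, G₃, G₄ be polynomials in x,
y, let h = G₂ z² + 2 G₃ z + G₄ in K[x, y, z] and D = G₃² − G₂ G₄ in K[x, y]. Suppose h ∈ (x, y, z) —
the origin Q lies on the surface h = 0 — and D ∈ (x, y) — the image of Q under (x, y, z) ↦ (x, y)
lies on the discriminant curve D = 0. Then D ∈ (x, y)², i.e. the image point is singular on the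
discriminant curve, if and only if either h ∈ (x, y, z)², i.e. Q is a singular point of the surface,
or G₂, G₃, G₄ ∈ (x, y), i.e. Q lies on all three cones G₂ = G₃ = G₄ = 0. (Affine-local form, in a
chart where the node projected from sits at infinity on the z-axis and Q at the origin, of the
published claim: for a point Q ≠ P of the nodal quartic whose projection lies on the branch sextic,
the projection is singular on the sextic exactly when Q is singular on the quartic or lies on the
cones u₂ = u₃ = u₄ = 0.) -/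
theorem result (K : Type u) [Field K] [PerfectField K]
    (h2 : (2 : K) ≠ 0) (h3 : (3 : K) ≠ 0) (G₂ G₃ G₄ : MvPolynomial (Fin 2) K)
    (hQ : MvPolynomial.rename (Fin.castSucc : Fin 2 → Fin 3) G₂ * MvPolynomial.X (2 : Fin 3) ^ 2
        + 2 * MvPolynomial.rename (Fin.castSucc : Fin 2 → Fin 3) G₃ * MvPolynomial.X (2 : Fin 3)
        + MvPolynomial.rename (Fin.castSucc : Fin 2 → Fin 3) G₄
        ∈ Ideal.span (Set.range (MvPolynomial.X : Fin 3 → MvPolynomial (Fin 3) K)))
    (hD : G₃ ^ 2 - G₂ * G₄ ∈ Ideal.span (Set.range (MvPolynomial.X : Fin 2 → MvPolynomial (Fin 2) K))) :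
    G₃ ^ 2 - G₂ * G₄ ∈ (Ideal.span (Set.range (MvPolynomial.X : Fin 2 → MvPolynomial (Fin 2) K))) ^ 2 ↔
      (MvPolynomial.rename (Fin.castSucc : Fin 2 → Fin 3) G₂ * MvPolynomial.X (2 : Fin 3) ^ 2
          + 2 * MvPolynomial.rename (Fin.castSucc : Fin 2 → Fin 3) G₃ * MvPolynomial.X (2 : Fin 3)
          + MvPolynomial.rename (Fin.castSucc : Fin 2 → Fin 3) G₄
          ∈ (Ideal.span (Set.range (MvPolynomial.X : Fin 3 → MvPolynomial (Fin 3) K))) ^ 2 ∨
        (G₂ ∈ Ideal.span (Set.range (MvPolynomial.X : Fin 2 → MvPolynomial (Fin 2) K)) ∧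
          G₃ ∈ Ideal.span (Set.range (MvPolynomial.X : Fin 2 → MvPolynomial (Fin 2) K)) ∧
          G₄ ∈ Ideal.span (Set.range (MvPolynomial.X : Fin 2 → MvPolynomial (Fin 2) K)))) := by
  set J := Ideal.span (Set.range (MvPolynomial.X : Fin 3 → MvPolynomial (Fin 3) K)) with hJ
  set I := Ideal.span (Set.range (MvPolynomial.X : Fin 2 → MvPolynomial (Fin 2) K)) with hI
  have memI : ∀ p : MvPolynomial (Fin 2) K, p ∈ I ↔ MvPolynomial.constantCoeff p = 0 := by
    intro p
    have := MvPolynomial.mem_pow_idealOfVars_iff' (σ := Fin 2) (R := K) 1 p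
    rw [pow_one] at this
    rw [hI, this]
    constructor
    · intro h; exact h 0 (by simp)
    · intro h x hx
      have hx0 : x = 0 := by
        have : x.degree = 0 := by omega
        exact (Finsupp.degree_eq_zero_iff x).1 this
      rw [hx0]; exact h
  have memJ : ∀ p : MvPolynomial (Fin 3) K, p ∈ J ↔ MvPolynomial.constantCoeff p = 0 := by
    intro p
    have := MvPolynomial.mem_pow_idealOfVars_iff' (σ := Fin 3) (R := K) 1 p
    rw [pow_one] at this
    rw [hJ, this]
    constructor
    · intro h; exact h 0 (by simp)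
    · intro h x hx
      have hx0 : x = 0 := by
        have : x.degree = 0 := by omega
        exact (Finsupp.degree_eq_zero_iff x).1 this
      rw [hx0]; exact h
  have hg4 : MvPolynomial.constantCoeff G₄ = 0 := by
    have := (memJ _).1 hQ
    simpa [MvPolynomial.constantCoeff_rename] using this
  have hg3 : MvPolynomial.constantCoeff G₃ = 0 := by
    have := (memI _).1 hD
    simpa [hg4] using this
  have hG3I : G₃ ∈ I := (memI _).2 hg3
  have hG4I : G₄ ∈ I := (memI _).2 hg4
  have hG3sq : G₃ ^ 2 ∈ I ^ 2 := by rw [sq, sq]; exact Ideal.mul_mem_mul hG3I hG3I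
  have hrenI : ∀ G : MvPolynomial (Fin 2) K, G ∈ I →
      MvPolynomial.rename (Fin.castSucc : Fin 2 → Fin 3) G ∈ J := by
    intro G hG
    rw [memJ, MvPolynomial.constantCoeff_rename]
    exact (memI G).1 hG
  have hrenI2 : ∀ G : MvPolynomial (Fin 2) K, G ∈ I ^ 2 →
      MvPolynomial.rename (Fin.castSucc : Fin 2 → Fin 3) G ∈ J ^ 2 := by
    intro G hG
    have h1 : Ideal.map (MvPolynomial.rename (Fin.castSucc : Fin 2 → Fin 3)) I ≤ J := by
      rw [Ideal.map_le_iff_le_comap]
      intro x hx
      exact hrenI x hx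
    have h2 := Ideal.mem_map_of_mem (MvPolynomial.rename (Fin.castSucc : Fin 2 → Fin 3)) hG
    rw [Ideal.map_pow] at h2
    exact Ideal.pow_right_mono h1 2 h2
  have hX2 : (MvPolynomial.X (2 : Fin 3) : MvPolynomial (Fin 3) K) ∈ J := Ideal.subset_span ⟨2, rfl⟩
  constructor
  · intro hDD
    have hprod : G₂ * G₄ ∈ I ^ 2 := by
      have := Ideal.sub_mem _ hG3sq hDD
      simpa using this
    by_cases hg2 : MvPolynomial.constantCoeff G₂ = 0
    · right
      exact ⟨(memI _).2 hg2, hG3I, hG4I⟩
    · left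
      have hG2' : G₂ - MvPolynomial.C (MvPolynomial.constantCoeff G₂) ∈ I := by
        rw [memI]; simp
      have h1 : (G₂ - MvPolynomial.C (MvPolynomial.constantCoeff G₂)) * G₄ ∈ I ^ 2 := by
        rw [sq]; exact Ideal.mul_mem_mul hG2' hG4I
      have h2' : MvPolynomial.C (MvPolynomial.constantCoeff G₂) * G₄ ∈ I ^ 2 := by
        have := Ideal.sub_mem _ hprod h1
        have e : G₂ * G₄ - (G₂ - MvPolynomial.C (MvPolynomial.constantCoeff G₂)) * G₄ =
            MvPolynomial.C (MvPolynomial.constantCoeff G₂) * G₄ := by ring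
        rwa [e] at this
      have hG4sq : G₄ ∈ I ^ 2 := by
        have := Ideal.mul_mem_left (I ^ 2) (MvPolynomial.C (MvPolynomial.constantCoeff G₂)⁻¹) h2'
        rw [← mul_assoc, ← MvPolynomial.C_mul, inv_mul_cancel₀ hg2, MvPolynomial.C_1, one_mul] at this
        exact this
      apply Ideal.add_mem
      · apply Ideal.add_mem
        · apply Ideal.mul_mem_left
          rw [sq, sq]; exact Ideal.mul_mem_mul hX2 hX2
        · rw [sq]
          apply Ideal.mul_mem_mul _ hX2
          exact Ideal.mul_mem_left _ _ (hrenI G₃ hG3I)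
      · exact hrenI2 G₄ hG4sq
  · rintro (hh | ⟨hG2, _, _⟩)
    · exact Groth.Agent.S17409.result K h2 h3 G₂ G₃ G₄ hh
    · apply Ideal.sub_mem _ hG3sq
      rw [sq]; exact Ideal.mul_mem_mul hG2 hG4I

end Groth.Agent.S17414
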