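import Groth.Statements.S17444
import Mathlib

set_option autoImplicit false
universe u v
open SSRed

namespace Groth.Agent.S17444

/-- Let K be a field of characteristic zero, V a K-vector space and g a K-linear endomorphism of V such
that g - 1 is nilpotent (a unipotent automorphism). Then for every integer n > 0 the endomorphisms
gⁿ - 1 and g - 1 have the same kernel: a vector fixed by gⁿ is fixed by g. (The published statement
assumes V finite-dimensional; this row allows any V.) -/
theorem result (K : Type u) (V : Type v) [Field K] [CharZero K]
    [AddCommGroup V] [Module K V] (g : Module.End K V) (hg : IsNilpotent (g - 1)) (n : ℕ) (hn : 0 < n) :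
    LinearMap.ker (g ^ n - 1) = LinearMap.ker (g - 1) := by
  open Polynomial in
  obtain ⟨m, hm⟩ := hg
  let q : K[X] := ∑ i ∈ Finset.range n, X ^ i
  have hq : q * (X - 1) = X ^ n - 1 := geom_sum_mul X n
  have hq1 : q.eval 1 ≠ 0 := by
    simp only [q, eval_finset_sum, eval_pow, eval_X, one_pow, Finset.sum_const, Finset.card_range,
      nsmul_eq_mul, mul_one]
    exact_mod_cast hn.ne'
  have hcop : IsCoprime q ((X - C 1) ^ m) := by
    apply IsCoprime.pow_right
    apply IsCoprime.symm
    rw [(irreducible_X_sub_C (1 : K)).coprime_iff_not_dvd, dvd_iff_isRoot]
    exact hq1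
  obtain ⟨a, b, hab⟩ := hcop
  have h1 : aeval g a * aeval g q = 1 := by
    have := congrArg (aeval g) hab
    simp only [map_add, map_mul, map_pow, map_sub, aeval_X, aeval_C, map_one] at this
    rw [hm, mul_zero, add_zero] at this
    exact this
  have h2 : g ^ n - 1 = aeval g q * (g - 1) := by
    have := congrArg (aeval g) hq
    simp only [map_mul, map_sub, map_pow, aeval_X, map_one] at this
    exact this.symm
  ext v
  simp only [LinearMap.mem_ker]
  constructor
  · intro hv
    rw [h2, Module.End.mul_apply] at hv
    have := congrArg (aeval g a) hv
    rw [← Module.End.mul_apply, h1, map_zero] at this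
    exact this
  · intro hv
    rw [h2, Module.End.mul_apply, hv, map_zero]

end Groth.Agent.S17444
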