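import Groth.Statements.S17446
import Mathlib

set_option autoImplicit false
universe u v
open SSRed

namespace Groth.Agent.S17446

/-- Let K be a field, V a finite-dimensional K-vector space and H₁, H₂ subgroups of the group of
K-linear automorphisms of V such that H₂ normalizes H₁. Call the action of a subgroup H unipotent
when, for some n, every product (h₁ - 1)(h₂ - 1)⋯(hₙ - 1) with all hᵢ in H is the zero endomorphism
(equivalently, V has an H-stable flag on whose successive quotients H acts trivially). If H₁ and H₂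
act unipotently, then the subgroup generated by H₁ and H₂ acts unipotently. (In the published result
H₁ and H₂ are the absolute Galois groups of two finite Galois extensions of a strictly henselian
discretely valued field over which an abelian variety becomes semistable, acting on its rational
ℓ-adic Tate module, and the conclusion is semistability over the intersection of the two fields; the
printed argument uses only that H₂ normalizes H₁.) -/
theorem result (K : Type u) (V : Type v) [Field K]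
    [AddCommGroup V] [Module K V] [FiniteDimensional K V]
    (H₁ H₂ : Subgroup (V ≃ₗ[K] V)) (hnorm : ∀ g ∈ H₂, ∀ h ∈ H₁, g * h * g⁻¹ ∈ H₁)
    (h₁ : ∃ n : ℕ, ∀ f : Fin n → ↥H₁,
      (List.ofFn fun i => (((f i : ↥H₁) : V ≃ₗ[K] V) : Module.End K V) - 1).prod = 0)
    (h₂ : ∃ n : ℕ, ∀ f : Fin n → ↥H₂,
      (List.ofFn fun i => (((f i : ↥H₂) : V ≃ₗ[K] V) : Module.End K V) - 1).prod = 0) :
    ∃ n : ℕ, ∀ f : Fin n → ↥(H₁ ⊔ H₂),
      (List.ofFn fun i => (((f i : ↥(H₁ ⊔ H₂)) : V ≃ₗ[K] V) : Module.End K V) - 1).prod = 0 := by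
  classical
  obtain ⟨n₁, h₁⟩ := h₁
  obtain ⟨n₂, h₂⟩ := h₂
  let ψ : (V ≃ₗ[K] V) →* Module.End K V := LinearEquiv.automorphismGroup.toLinearMapMonoidHom
  have hψ : ∀ g : V ≃ₗ[K] V, ψ g = (g : Module.End K V) := fun g => rfl
  let S₁ : Set (Module.End K V) := (fun g => ψ g - 1) '' (H₁ : Set (V ≃ₗ[K] V))
  let S₂ : Set (Module.End K V) := (fun g => ψ g - 1) '' (H₂ : Set (V ≃ₗ[K] V))
  let S : Set (Module.End K V) := (fun g => ψ g - 1) '' ((H₁ ⊔ H₂ : Subgroup (V ≃ₗ[K] V)) : Set (V ≃ₗ[K] V))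
  let SG : Set (Module.End K V) := ψ '' ((H₁ ⊔ H₂ : Subgroup (V ≃ₗ[K] V)) : Set (V ≃ₗ[K] V))
  let W₁ : Submodule K (Module.End K V) := Submodule.span K S₁
  let W₂ : Submodule K (Module.End K V) := Submodule.span K S₂
  let W : Submodule K (Module.End K V) := Submodule.span K S
  let B : Submodule K (Module.End K V) := Submodule.span K SG
  let P : Submodule K (Module.End K V) := W₁ * B
  -- general vanishing lemma
  have hvan : ∀ (H : Subgroup (V ≃ₗ[K] V)) (n : ℕ),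
      (∀ f : Fin n → ↥H, (List.ofFn fun i => (((f i : ↥H) : V ≃ₗ[K] V) : Module.End K V) - 1).prod = 0) →
      (Submodule.span K ((fun g => ψ g - 1) '' (H : Set (V ≃ₗ[K] V)))) ^ n = ⊥ := by
    intro H n hH
    rw [Submodule.span_pow, Submodule.span_eq_bot]
    intro x hx
    obtain ⟨f, rfl⟩ := Set.mem_pow.1 hx
    have hf : ∀ i, ∃ g : H, ψ g - 1 = (f i : Module.End K V) := by
      intro i
      obtain ⟨g, hg, hgf⟩ := (f i).2
      exact ⟨⟨g, hg⟩, hgf⟩
    choose g hg using hf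
    have := hH g
    simp only [← hg]
    exact this
  have hW₁ : W₁ ^ n₁ = ⊥ := hvan H₁ n₁ h₁
  have hW₂ : W₂ ^ n₂ = ⊥ := hvan H₂ n₂ h₂
  -- normalizer
  have hN : H₁ ⊔ H₂ ≤ Subgroup.normalizer (H₁ : Set (V ≃ₗ[K] V)) := by
    apply sup_le
    · rw [Subgroup.le_normalizer_iff]
      intro h hh k hk
      exact H₁.mul_mem (H₁.mul_mem hh hk) (H₁.inv_mem hh)
    · rw [Subgroup.le_normalizer_iff]
      exact hnorm
  have hconj : ∀ g ∈ H₁ ⊔ H₂, ∀ h ∈ H₁, g * h * g⁻¹ ∈ H₁ := Subgroup.le_normalizer_iff.1 hN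
  have hBB : B * B ≤ B := by
    rw [Submodule.span_mul_span]
    apply Submodule.span_mono
    rintro _ ⟨_, ⟨g, hg, rfl⟩, _, ⟨g', hg', rfl⟩, rfl⟩
    exact ⟨g * g', Subgroup.mul_mem _ hg hg', by simp⟩
  have h1B : (1 : Module.End K V) ∈ B :=
    Submodule.subset_span ⟨1, Subgroup.one_mem _, by simp⟩
  have h1leB : (1 : Submodule K (Module.End K V)) ≤ B := Submodule.one_le.2 h1B
  have hBW : B * W₁ ≤ W₁ * B := by
    rw [Submodule.span_mul_span, Submodule.span_mul_span]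
    apply Submodule.span_mono
    rintro _ ⟨_, ⟨g, hg, rfl⟩, _, ⟨h, hh, rfl⟩, rfl⟩
    refine ⟨ψ (g * h * g⁻¹) - 1, ⟨g * h * g⁻¹, hconj g hg h hh, rfl⟩, ψ g, ⟨g, hg, rfl⟩, ?_⟩
    simp only [sub_mul, one_mul, mul_sub, mul_one, ← map_mul]
    simp
  have hSGB : ∀ g ∈ H₁ ⊔ H₂, ψ g ∈ B := fun g hg => Submodule.subset_span ⟨g, hg, rfl⟩
  have hW₁B : W₁ ≤ B := by
    apply Submodule.span_le.2
    rintro _ ⟨g, hg, rfl⟩
    exact B.sub_mem (hSGB g (le_sup_left (a := H₁) hg)) h1B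
  have hW₂B : W₂ ≤ B := by
    apply Submodule.span_le.2
    rintro _ ⟨g, hg, rfl⟩
    exact B.sub_mem (hSGB g (le_sup_right (b := H₂) hg)) h1B
  have hPB : P ≤ B := (mul_le_mul' hW₁B le_rfl).trans hBB
  have hBP : B * P ≤ P := by
    calc B * P = (B * W₁) * B := by rw [mul_assoc]
      _ ≤ (W₁ * B) * B := mul_le_mul' hBW le_rfl
      _ = W₁ * (B * B) := by rw [mul_assoc]
      _ ≤ W₁ * B := mul_le_mul' le_rfl hBB
  have hPBr : P * B ≤ P := by
    calc P * B = W₁ * (B * B) := by rw [mul_assoc]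
      _ ≤ W₁ * B := mul_le_mul' le_rfl hBB
  have hPk : ∀ k : ℕ, P ^ k ≤ W₁ ^ k * B := by
    intro k
    induction k with
    | zero => simpa using h1leB
    | succ k ih =>
      calc P ^ (k + 1) = P ^ k * P := pow_succ _ _
        _ ≤ (W₁ ^ k * B) * (W₁ * B) := mul_le_mul' ih le_rfl
        _ = W₁ ^ k * ((B * W₁) * B) := by simp only [mul_assoc]
        _ ≤ W₁ ^ k * ((W₁ * B) * B) := mul_le_mul' le_rfl (mul_le_mul' hBW le_rfl)
        _ = W₁ ^ (k + 1) * (B * B) := by rw [pow_succ]; simp only [mul_assoc]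
        _ ≤ W₁ ^ (k + 1) * B := mul_le_mul' le_rfl hBB
  have hPn : P ^ n₁ = ⊥ := by
    rw [eq_bot_iff]
    refine (hPk n₁).trans ?_
    rw [hW₁, Submodule.bot_mul]
  -- every g is congruent to some b ∈ H₂ mod P
  have hcong : ∀ g ∈ H₁ ⊔ H₂, ∃ b ∈ H₂, ψ g - ψ b ∈ P := by
    let T : Subgroup (V ≃ₗ[K] V) :=
      { carrier := {g | g ∈ H₁ ⊔ H₂ ∧ ∃ b ∈ H₂, ψ g - ψ b ∈ P}
        mul_mem' := by
          rintro g g' ⟨hg, b, hb, hgb⟩ ⟨hg', b', hb', hgb'⟩
          refine ⟨Subgroup.mul_mem _ hg hg', b * b', H₂.mul_mem hb hb', ?_⟩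
          have : ψ (g * g') - ψ (b * b') = (ψ g - ψ b) * ψ g' + ψ b * (ψ g' - ψ b') := by
            simp only [map_mul]; noncomm_ring
          rw [this]
          apply P.add_mem
          · exact hPBr (Submodule.mul_mem_mul hgb (hSGB g' hg'))
          · exact hBP (Submodule.mul_mem_mul (hSGB b (le_sup_right (b := H₂) hb)) hgb')
        one_mem' := ⟨Subgroup.one_mem _, 1, H₂.one_mem, by simp⟩
        inv_mem' := by
          rintro g ⟨hg, b, hb, hgb⟩
          refine ⟨Subgroup.inv_mem _ hg, b⁻¹, H₂.inv_mem hb, ?_⟩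
          have : ψ g⁻¹ - ψ b⁻¹ = - (ψ g⁻¹ * ((ψ g - ψ b) * ψ b⁻¹)) := by
            have e1 : ψ g⁻¹ * ψ g = 1 := by rw [← map_mul]; simp
            have e2 : ψ b * ψ b⁻¹ = 1 := by rw [← map_mul]; simp
            calc ψ g⁻¹ - ψ b⁻¹ = ψ g⁻¹ * (ψ b * ψ b⁻¹) - (ψ g⁻¹ * ψ g) * ψ b⁻¹ := by
                  rw [e1, e2, mul_one, one_mul]
              _ = - (ψ g⁻¹ * ((ψ g - ψ b) * ψ b⁻¹)) := by noncomm_ring
          rw [this]
          apply P.neg_mem
          apply hBP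
          apply Submodule.mul_mem_mul (hSGB _ (Subgroup.inv_mem _ hg))
          apply hPBr
          exact Submodule.mul_mem_mul hgb (hSGB _ (le_sup_right (b := H₂) (H₂.inv_mem hb))) }
    have hT : H₁ ⊔ H₂ ≤ T := by
      apply sup_le
      · intro h hh
        refine ⟨le_sup_left (a := H₁) hh, 1, H₂.one_mem, ?_⟩
        have : ψ h - ψ 1 = (ψ h - 1) * 1 := by simp
        rw [this]
        exact Submodule.mul_mem_mul (Submodule.subset_span ⟨h, hh, rfl⟩) h1B
      · intro b hb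
        exact ⟨le_sup_right (b := H₂) hb, b, hb, by simp⟩
    intro g hg
    exact (hT hg).2
  have hWle : W ≤ W₂ ⊔ P := by
    apply Submodule.span_le.2
    rintro _ ⟨g, hg, rfl⟩
    obtain ⟨b, hb, hgb⟩ := hcong g hg
    have : ψ g - 1 = (ψ b - 1) + (ψ g - ψ b) := by abel
    change ψ g - 1 ∈ W₂ ⊔ P
    rw [this]
    exact Submodule.add_mem_sup (Submodule.subset_span ⟨b, hb, rfl⟩) hgb
  have hBpow : ∀ k : ℕ, B ^ k ≤ B := by
    intro k
    induction k with
    | zero => simpa using h1leB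
    | succ k ih =>
      rw [pow_succ]
      exact (mul_le_mul' ih le_rfl).trans hBB
  have hbinom : ∀ X : Submodule K (Module.End K V), X ≤ B → ∀ k : ℕ, (X ⊔ P) ^ k ≤ X ^ k ⊔ P := by
    intro X hX k
    induction k with
    | zero => simp
    | succ k ih =>
      have hXk : X ^ k ≤ B := (pow_le_pow_left' hX k).trans (hBpow k)
      calc (X ⊔ P) ^ (k + 1) = (X ⊔ P) ^ k * (X ⊔ P) := pow_succ _ _
        _ ≤ (X ^ k ⊔ P) * (X ⊔ P) := mul_le_mul' ih le_rfl
        _ = (X ^ k * X ⊔ X ^ k * P) ⊔ (P * X ⊔ P * P) := by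
            rw [Submodule.sup_mul, Submodule.mul_sup, Submodule.mul_sup]
        _ ≤ X ^ (k + 1) ⊔ P := by
            apply sup_le
            · apply sup_le
              · rw [pow_succ]; exact le_sup_left
              · exact ((mul_le_mul' hXk le_rfl).trans hBP).trans le_sup_right
            · apply sup_le
              · exact ((mul_le_mul' le_rfl hX).trans hPBr).trans le_sup_right
              · exact ((mul_le_mul' le_rfl hPB).trans hPBr).trans le_sup_right
  have hWn₂ : W ^ n₂ ≤ P := by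
    calc W ^ n₂ ≤ (W₂ ⊔ P) ^ n₂ := pow_le_pow_left' hWle n₂
      _ ≤ W₂ ^ n₂ ⊔ P := hbinom W₂ hW₂B n₂
      _ = P := by rw [hW₂, bot_sup_eq]
  have hWN : W ^ (n₂ * n₁) = ⊥ := by
    rw [eq_bot_iff, pow_mul, ← hPn]
    exact pow_le_pow_left' hWn₂ n₁
  refine ⟨n₂ * n₁, fun f => ?_⟩
  have hmem : (List.ofFn fun i => (((f i : ↥(H₁ ⊔ H₂)) : V ≃ₗ[K] V) : Module.End K V) - 1).prod
      ∈ W ^ (n₂ * n₁) := by
    rw [Submodule.span_pow]
    apply Submodule.subset_span
    rw [Set.mem_pow]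
    exact ⟨fun i => ⟨ψ (f i) - 1, ⟨(f i : V ≃ₗ[K] V), (f i).2, rfl⟩⟩, rfl⟩
  rw [hWN] at hmem
  exact (Submodule.mem_bot K).1 hmem

end Groth.Agent.S17446
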