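import Groth.Statements.S17463
import Mathlib

set_option autoImplicit false
universe u v w
open SSRed

namespace Groth.Agent.S17463

/-- Let K be a field of characteristic zero, V a K-vector space, G a group with a K-linear action ρ : G
→ GL(V) such that every ρ(g) is unipotent (ρ(g) - 1 is nilpotent), and H a subgroup of G of finite
index. Then the H-invariants equal the G-invariants: a vector fixed by every element of H is fixed
by every element of G. (In the source G and H are the absolute Galois groups of K and of a finite
extension K', acting unipotently on the rational ℓ-adic Tate module of an abelian variety.) -/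
theorem result (K : Type u) (V : Type v) (G : Type w) [Field K] [CharZero K]
    [AddCommGroup V] [Module K V] [Group G] (ρ : G →* (V ≃ₗ[K] V))
    (hunip : ∀ g : G, IsNilpotent (((ρ g : V ≃ₗ[K] V) : Module.End K V) - 1))
    (H : Subgroup G) [H.FiniteIndex] (v : V) (hv : ∀ h ∈ H, ρ h v = v) (g : G) :
    ρ g v = v := by
  classical
  obtain ⟨n, hn0, -, hn⟩ := Subgroup.exists_pow_mem_of_index_ne_zero (H := H) Subgroup.FiniteIndex.index_ne_zero g
  set u : Module.End K V := ((ρ g : V ≃ₗ[K] V) : Module.End K V) with hu
  have hN : IsNilpotent (u - 1) := hunip g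
  -- u^n v = v
  have hpow : ∀ m : ℕ, ((ρ (g ^ m) : V ≃ₗ[K] V) : Module.End K V) = u ^ m := by
    intro m
    induction m with
    | zero => simp; rfl
    | succ m ih =>
      rw [pow_succ, map_mul, pow_succ, ← ih]
      rfl
  have hunv : (u ^ n) v = v := by
    rw [← hpow n]
    exact hv _ hn
  set S : Module.End K V := ∑ i ∈ Finset.range n, u ^ i with hS
  set T : Module.End K V := ∑ i ∈ Finset.range n, ∑ j ∈ Finset.range i, u ^ j with hT
  have hST : S = (n : Module.End K V) + (u - 1) * T := by
    rw [hT, Finset.mul_sum]
    have : ∀ i ∈ Finset.range n, (u - 1) * ∑ j ∈ Finset.range i, u ^ j = u ^ i - 1 :=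
      fun i _ => mul_geom_sum u i
    rw [Finset.sum_congr rfl this, Finset.sum_sub_distrib]
    simp [hS]
  have hcomm : Commute (u - 1) T := by
    apply Commute.sum_right
    intro i _
    apply Commute.sum_right
    intro j _
    exact ((Commute.refl u).pow_right j).sub_left (Commute.one_left _)
  have hnil : IsNilpotent ((u - 1) * T) := hcomm.isNilpotent_mul_right hN
  have hnunit : IsUnit (n : Module.End K V) := by
    have h1 : (n : Module.End K V) = algebraMap K (Module.End K V) (n : K) := by simp
    rw [h1]
    apply IsUnit.map
    exact isUnit_iff_ne_zero.mpr (Nat.cast_ne_zero.mpr hn0.ne')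
  have hSunit : IsUnit S := by
    rw [hST]
    exact hnil.isUnit_add_left_of_commute hnunit (Nat.cast_commute n _).symm
  have h0 : S ((u - 1) v) = 0 := by
    have : (S * (u - 1)) v = (u ^ n - 1) v := by rw [hS, geom_sum_mul]
    rw [Module.End.mul_apply] at this
    rw [this]
    simp [hunv]
  have hinj : Function.Injective S := by
    obtain ⟨w, hw⟩ := hSunit
    intro a b hab
    have := congrArg (fun x => (↑w⁻¹ : Module.End K V) x) hab
    simp only [← hw, ← Module.End.mul_apply, Units.inv_mul] at this
    simpa using this
  have h1 : (u - 1) v = 0 := hinj (by rw [h0, map_zero])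
  have h2 : u v - v = 0 := by simpa using h1
  exact sub_eq_zero.mp h2

end Groth.Agent.S17463
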