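import Groth.Statements.S17466
import Mathlib

set_option autoImplicit false
universe u v
open BigOperators
open NRGIT

namespace Groth.Agent.S17466

/-- Let A be a commutative algebra graded by the natural numbers, let σ_1, …, σ_n be homogeneous
elements of degree 1 and let s ≥ 1 be an integer such that, for every i, the degree-zero homogeneous
localisation of A away from σ_i is generated over A_0 by the fractions f / σ_i ^ s with f
homogeneous of degree s. Then for every exponent vector K = (k_1, …, k_n) with k_1 + ⋯ + k_n = s,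
the degree-zero homogeneous localisation of A away from the monomial σ^K = ∏ σ_i ^ (k_i) is
generated over A_0 by the fractions f / σ^K with f homogeneous of degree s. (Equivalently: the
natural map from the degree-zero localisation of the symmetric algebra on A_s, taken away from σ^K
viewed as an element of degree one, to the degree-zero localisation of A away from σ^K is
surjective. The published lemma concerns the algebra of invariant sections of the powers of a
linearised line bundle on an irreducible projective scheme over a field, with the σ_i a basis of a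
weight space of sections, and concludes a closed immersion of a quotient into an open piece of a
projective space; this row keeps only the graded-algebra step, for any commutative graded algebra,
with the base field replaced by A_0, which generates nothing new since a / 1 = a σ^s / σ^s for a of
degree zero.) -/
theorem result
    {R : Type u} {A : Type v} [CommRing R] [CommRing A] [Algebra R A]
    (𝒜 : ℕ → Submodule R A) [GradedAlgebra 𝒜]
    {n : ℕ} (σ : Fin n → A) (hσ : ∀ i, σ i ∈ 𝒜 1) {s : ℕ} (hs : 0 < s)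
    (hgen : ∀ i, Algebra.adjoin (𝒜 0)
      {z : HomogeneousLocalization.Away 𝒜 (σ i) |
        ∃ f ∈ 𝒜 s, z.val = Localization.mk f ⟨σ i ^ s, Submonoid.pow_mem _ (Submonoid.mem_powers (σ i)) s⟩} = ⊤)
    (K : Fin n → ℕ) (hK : ∑ i, K i = s) :
    Algebra.adjoin (𝒜 0)
      {z : HomogeneousLocalization.Away 𝒜 (∏ i, σ i ^ K i) |
        ∃ f ∈ 𝒜 s, z.val = Localization.mk f ⟨∏ i, σ i ^ K i, Submonoid.mem_powers _⟩} = ⊤ := by
  classical
  have hτ0 : (∏ i, σ i ^ K i) ∈ 𝒜 s := by
    have h := SetLike.prod_pow_mem_graded 𝒜 (fun _ : Fin n => (1 : ℕ)) σ (F := Finset.univ) K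
      (fun k _ => hσ k)
    simp only [smul_eq_mul, mul_one, hK] at h
    exact h
  have hσsj : ∀ j, σ j ^ s ∈ 𝒜 s := fun j => by
    have := SetLike.pow_mem_graded s (hσ j)
    simpa using this
  have hτpow0 : ∀ P : ℕ, (∏ i, σ i ^ K i) ^ (s * P) = ∏ j, (σ j ^ s) ^ (K j * P) := by
    intro P
    rw [← Finset.prod_pow]
    exact Finset.prod_congr rfl (fun j _ => by ring)
  -- extraction from the hypothesis
  have L0 : ∀ (i : Fin n) (z : HomogeneousLocalization.Away 𝒜 (σ i)), ∃ e : ℕ, ∃ h ∈ (𝒜 s) ^ e,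
      z.val = Localization.mk h (⟨σ i ^ (s * e), pow_mem (Submonoid.mem_powers (σ i)) _⟩ : Submonoid.powers (σ i)) := by
    intro i z
    have hz := (hgen i).ge (Algebra.mem_top (x := z))
    have hσs : σ i ^ s ∈ 𝒜 s := hσsj i
    induction hz using Algebra.adjoin_induction with
    | mem x hx =>
      obtain ⟨f, hf, ef⟩ := hx
      refine ⟨1, f, by rw [pow_one]; exact hf, ?_⟩
      rw [ef]
      congr 1
      exact Subtype.ext (by rw [mul_one])
    | algebraMap a =>
      refine ⟨1, (a : A) * σ i ^ s, ?_, ?_⟩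
      · rw [pow_one]
        have := SetLike.mul_mem_graded a.2 hσs
        simpa using this
      · have hval : ((algebraMap (𝒜 0) (HomogeneousLocalization.Away 𝒜 (σ i))) a).val
            = Localization.mk (a : A) 1 := rfl
        rw [hval]
        refine Localization.mk_eq_mk_iff.mpr (Localization.r_of_eq ?_)
        show σ i ^ (s * 1) * (a : A) = (1 : A) * ((a : A) * σ i ^ s)
        rw [mul_one]; ring
    | add x y hx hy ihx ihy =>
      obtain ⟨e1, h1, hh1, E1⟩ := ihx
      obtain ⟨e2, h2, hh2, E2⟩ := ihy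
      refine ⟨e1 + e2, h1 * (σ i ^ s) ^ e2 + h2 * (σ i ^ s) ^ e1, ?_, ?_⟩
      · refine add_mem ?_ ?_
        · rw [pow_add]
          exact Submodule.mul_mem_mul hh1 (Submodule.pow_mem_pow _ hσs e2)
        · rw [add_comm e1 e2, pow_add]
          exact Submodule.mul_mem_mul hh2 (Submodule.pow_mem_pow _ hσs e1)
      · rw [HomogeneousLocalization.val_add, E1, E2, Localization.add_mk]
        refine Localization.mk_eq_mk_iff.mpr (Localization.r_of_eq ?_)
        show σ i ^ (s * (e1 + e2)) * (σ i ^ (s * e1) * h2 + σ i ^ (s * e2) * h1)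
          = (σ i ^ (s * e1) * σ i ^ (s * e2)) * (h1 * (σ i ^ s) ^ e2 + h2 * (σ i ^ s) ^ e1)
        ring
    | mul x y hx hy ihx ihy =>
      obtain ⟨e1, h1, hh1, E1⟩ := ihx
      obtain ⟨e2, h2, hh2, E2⟩ := ihy
      refine ⟨e1 + e2, h1 * h2, ?_, ?_⟩
      · rw [pow_add]
        exact Submodule.mul_mem_mul hh1 hh2
      · rw [HomogeneousLocalization.val_mul, E1, E2, Localization.mk_mul]
        congr 1
        exact Subtype.ext (show σ i ^ (s * e1) * σ i ^ (s * e2) = σ i ^ (s * (e1 + e2)) by ring)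
  generalize hτe : ∏ i, σ i ^ K i = τ at hτ0 hτpow0 ⊢
  have hτ : τ ∈ 𝒜 s := hτ0
  -- production of elements of the adjoin
  have L1 : ∀ E : ℕ, 1 ≤ E → ∀ h ∈ (𝒜 s) ^ E, ∃ z ∈ Algebra.adjoin (𝒜 0)
      {z : HomogeneousLocalization.Away 𝒜 τ | ∃ f ∈ 𝒜 s,
        z.val = Localization.mk f ⟨τ, Submonoid.mem_powers _⟩},
      z.val = Localization.mk h (⟨τ ^ E, pow_mem (Submonoid.mem_powers τ) _⟩ : Submonoid.powers τ) := by
    have base : ∀ h ∈ 𝒜 s, ∃ z ∈ Algebra.adjoin (𝒜 0)
        {z : HomogeneousLocalization.Away 𝒜 τ | ∃ f ∈ 𝒜 s,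
          z.val = Localization.mk f ⟨τ, Submonoid.mem_powers _⟩},
        z.val = Localization.mk h (⟨τ ^ 1, pow_mem (Submonoid.mem_powers τ) _⟩ : Submonoid.powers τ) := by
      intro h hh
      refine ⟨HomogeneousLocalization.Away.mk 𝒜 hτ 1 h (by simpa using hh),
        Algebra.subset_adjoin ⟨h, hh, ?_⟩, rfl⟩
      rw [HomogeneousLocalization.Away.val_mk]
      congr 1
      exact Subtype.ext (pow_one τ)
    intro E hE
    induction E, hE using Nat.le_induction with
    | base =>
      intro h hh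
      rw [pow_one] at hh
      exact base h hh
    | succ E hE ih =>
      intro h hh
      rw [pow_succ] at hh
      refine Submodule.mul_induction_on hh ?_ ?_
      · intro a ha b hb
        obtain ⟨z1, hz1, e1⟩ := ih a ha
        obtain ⟨z2, hz2, e2⟩ := base b hb
        refine ⟨z1 * z2, mul_mem hz1 hz2, ?_⟩
        rw [HomogeneousLocalization.val_mul, e1, e2, Localization.mk_mul]
        congr 1
        exact Subtype.ext (show τ ^ E * τ ^ 1 = τ ^ (E + 1) by ring)
      · rintro x y ⟨z1, hz1, e1⟩ ⟨z2, hz2, e2⟩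
        refine ⟨z1 + z2, add_mem hz1 hz2, ?_⟩
        rw [HomogeneousLocalization.val_add, e1, e2, Localization.add_mk_self]
  -- pick an index with positive exponent
  obtain ⟨i0, hi0⟩ : ∃ i, 0 < K i := by
    by_contra hcon
    push Not at hcon
    have h0 : ∑ i, K i = 0 := Finset.sum_eq_zero (fun i _ => Nat.le_zero.mp (hcon i))
    omega
  obtain ⟨k0, hk0⟩ : ∃ k0, K i0 = k0 + 1 := ⟨K i0 - 1, by omega⟩
  obtain ⟨s', hs'⟩ : ∃ s', s = s' + 1 := ⟨s - 1, by omega⟩
  have hσs : σ i0 ^ s ∈ 𝒜 s := hσsj i0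
  rw [eq_top_iff]
  rintro z -
  obtain ⟨m, g, hg, rfl⟩ := HomogeneousLocalization.Away.mk_surjective 𝒜 hτ z
  obtain ⟨e, h, hh, hw⟩ := L0 i0 (HomogeneousLocalization.Away.mk 𝒜 (hσ i0) (m * s) g
    (by simpa using hg))
  rw [HomogeneousLocalization.Away.val_mk, Localization.mk_eq_mk_iff,
    Localization.r_iff_exists] at hw
  obtain ⟨c, hc⟩ := hw
  obtain ⟨N, hN⟩ := (Submonoid.mem_powers_iff _ _).mp c.2
  have hc' : σ i0 ^ N * (σ i0 ^ (s * e) * g) = σ i0 ^ N * (σ i0 ^ (m * s) * h) := by
    rw [hN]; exact hc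
  have key : g * (σ i0 ^ s) ^ (N + e) = (σ i0 ^ s) ^ (N + m) * h := by
    rw [hs'] at hc' ⊢
    linear_combination (σ i0 ^ (N * s')) * hc'
  obtain ⟨P, hP⟩ : ∃ P, P = N + e + 1 := ⟨_, rfl⟩
  have hPpos : 0 < P := by omega
  have hmemP : g * (σ i0 ^ s) ^ P ∈ (𝒜 s) ^ (P + m) := by
    have e1 : g * (σ i0 ^ s) ^ P = (σ i0 ^ s) ^ (N + m + 1) * h := by
      rw [hP]; linear_combination (σ i0 ^ s) * key
    have e2 : P + m = (N + m + 1) + e := by omega
    rw [e1, e2, pow_add]
    exact Submodule.mul_mem_mul (Submodule.pow_mem_pow _ hσs _) hh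
  have hrest : ∏ j ∈ Finset.univ.erase i0, (σ j ^ s) ^ (K j * P)
      ∈ (𝒜 s) ^ (∑ j ∈ Finset.univ.erase i0, K j * P) :=
    SetLike.prod_mem_graded (fun E : ℕ => (𝒜 s) ^ E) (fun j => K j * P)
      (fun j => (σ j ^ s) ^ (K j * P)) (fun j _ => Submodule.pow_mem_pow _ (hσsj j) _)
  have hmem : g * τ ^ (s * P) ∈ (𝒜 s) ^ (m + s * P) := by
    have e1 : g * τ ^ (s * P) = (g * (σ i0 ^ s) ^ P) * ((σ i0 ^ s) ^ (k0 * P) *
        ∏ j ∈ Finset.univ.erase i0, (σ j ^ s) ^ (K j * P)) := by
      rw [hτpow0, ← Finset.mul_prod_erase Finset.univ (fun j => (σ j ^ s) ^ (K j * P))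
        (Finset.mem_univ i0)]
      simp only [hk0]
      ring
    have e2 : m + s * P = (P + m) + (k0 * P + ∑ j ∈ Finset.univ.erase i0, K j * P) := by
      have h1 : s = (k0 + 1) + ∑ j ∈ Finset.univ.erase i0, K j := by
        rw [← hk0, Finset.add_sum_erase Finset.univ K (Finset.mem_univ i0)]
        exact hK.symm
      rw [← Finset.sum_mul]
      calc m + s * P = m + ((k0 + 1) + ∑ j ∈ Finset.univ.erase i0, K j) * P := by rw [← h1]
        _ = _ := by ring
    rw [e1, e2, pow_add, pow_add _ (k0 * P)]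
    exact Submodule.mul_mem_mul hmemP
      (Submodule.mul_mem_mul (Submodule.pow_mem_pow _ hσs _) hrest)
  obtain ⟨z', hz', ez'⟩ := L1 (m + s * P)
    (Nat.succ_le_of_lt (Nat.add_pos_right m (Nat.mul_pos hs hPpos))) (g * τ ^ (s * P)) hmem
  have hfin : HomogeneousLocalization.Away.mk 𝒜 hτ m g hg = z' := by
    apply HomogeneousLocalization.val_injective
    rw [ez', HomogeneousLocalization.Away.val_mk]
    refine Localization.mk_eq_mk_iff.mpr (Localization.r_of_eq ?_)
    show τ ^ (m + s * P) * g = τ ^ m * (g * τ ^ (s * P))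
    ring
  rw [hfin]
  exact hz'

end Groth.Agent.S17466
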