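import Groth.Statements.S17471
import Mathlib

set_option autoImplicit false
universe u v w x
open RootCh

namespace Groth.Agent.S17471

/-- Let Φ be a finite, reduced, crystallographic, irreducible root system with a base, and θ a positive
root such that θ + β is a root for no positive root β (so θ is the highest root). Then Σ_{β>0} ⟨β,
θ^∨⟩² = 2 + Σ_{β>0} ⟨β, θ^∨⟩ = 2(1 + ⟨ρ, θ^∨⟩), ρ being half the sum of the positive roots; in the
source the left side is the index of the adjoint representation obtained from its formal character,
and 1 + ⟨ρ, θ^∨⟩ is the dual Coxeter number. -/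
theorem result
    {ι : Type u} {R : Type v} {M : Type w} {N : Type x}
    [Field R] [LinearOrder R] [IsStrictOrderedRing R]
    [AddCommGroup M] [Module R M] [AddCommGroup N] [Module R N] [Fintype ι]
    (P : RootPairing ι R M N) [P.IsRootSystem] [P.IsCrystallographic] [P.IsReduced]
    [P.IsIrreducible] (b : P.Base) (θ : ι) (hθ : b.IsPos θ)
    (hmax : ∀ i : ι, b.IsPos i → P.root θ + P.root i ∉ Set.range P.root) :
    ∑ i ∈ Finset.univ.filter (fun i => 0 < b.height i), P.pairing i θ ^ 2 =
      2 + ∑ i ∈ Finset.univ.filter (fun i => 0 < b.height i), P.pairing i θ := by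
  classical
  have hθ' : 0 < b.height θ := hθ
  -- negative of a root
  have hneg : ∀ k : ι, ∃ k' : ι, P.root k' = - P.root k ∧ b.height k' = - b.height k := by
    intro k
    refine ⟨P.reflectionPerm k k, by simp, ?_⟩
    have := b.height_reflectionPerm_self k
    simpa using this
  have hnz : ∀ k, b.height k ≠ 0 := b.height_ne_zero
  have key : ∀ i : ι, 0 < b.height i → i ≠ θ →
      P.pairingIn ℤ i θ = 0 ∨ P.pairingIn ℤ i θ = 1 := by
    intro i hi hne
    have h0 : 0 ≤ P.pairingIn ℤ i θ := by
      by_contra hlt
      push Not at hlt
      have hne' : P.root i ≠ - P.root θ := by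
        intro h
        obtain ⟨k', hk', hk''⟩ := hneg θ
        have : i = k' := P.root.injective (h.trans hk'.symm)
        subst this
        lia
      have := P.root_add_root_mem_of_pairingIn_neg hlt hne'
      rw [add_comm] at this
      exact hmax i hi this
    have h1 : P.pairingIn ℤ i θ ≤ 1 := by
      by_contra hgt
      push Not at hgt
      obtain ⟨k, hk⟩ := P.root_sub_root_mem_of_pairingIn_pos (by lia : 0 < P.pairingIn ℤ i θ) hne
      rcases lt_or_gt_of_ne (hnz k) with hkneg | hkpos
      · -- k negative: k' = -k positive with root k' = root θ - root i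
        obtain ⟨k', hk', hk''⟩ := hneg k
        have hk'pos : 0 < b.height k' := by lia
        have hk'root : P.root k' = P.root θ - P.root i := by rw [hk', hk]; abel
        apply hmax k' hk'pos
        have hpair : P.pairingIn ℤ k' θ = 2 - P.pairingIn ℤ i θ := by
          have h2 : P.root θ = P.root k' + P.root i := by rw [hk'root]; abel
          have := RootPairing.pairingIn_eq_add_of_root_eq_add (P := P) (S := ℤ) (j := θ) h2
          rw [P.pairingIn_same] at this
          lia
        rcases eq_or_lt_of_le (by lia : 2 ≤ P.pairingIn ℤ i θ) with h2 | h3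
        · -- pairing = 2
          have hp2 : P.pairing i θ = 2 := by
            rw [← P.algebraMap_pairingIn ℤ, ← h2]; simp
          have hr : P.root (P.reflectionPerm θ i) = P.root i - (2 : R) • P.root θ := by
            rw [P.root_reflectionPerm, P.reflection_apply_root, hp2]
          rw [← P.neg_mem_range_root_iff]
          refine ⟨P.reflectionPerm θ i, ?_⟩
          rw [hr, hk'root, two_smul]; abel
        · have hlt : P.pairingIn ℤ k' θ < 0 := by lia
          have hne' : P.root k' ≠ - P.root θ := by
            intro h
            obtain ⟨m, hm, hm'⟩ := hneg θ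
            have : k' = m := P.root.injective (h.trans hm.symm)
            subst this
            lia
          have := P.root_add_root_mem_of_pairingIn_neg hlt hne'
          rw [add_comm] at this
          exact this
      · apply hmax k hkpos
        exact ⟨i, by rw [hk]; abel⟩
    lia
  have hθS : θ ∈ Finset.univ.filter (fun i => 0 < b.height i) := by
    simp only [Finset.mem_filter, Finset.mem_univ, true_and]
    exact hθ'
  rw [← Finset.add_sum_erase _ _ hθS, ← Finset.add_sum_erase _ (fun i => P.pairing i θ) hθS]
  have hsum : ∑ i ∈ (Finset.univ.filter (fun i => 0 < b.height i)).erase θ, P.pairing i θ ^ 2 =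
      ∑ i ∈ (Finset.univ.filter (fun i => 0 < b.height i)).erase θ, P.pairing i θ := by
    apply Finset.sum_congr rfl
    intro i hi
    obtain ⟨hne, hiS⟩ := Finset.mem_erase.mp hi
    simp only [Finset.mem_filter, Finset.mem_univ, true_and] at hiS
    rcases key i hiS hne with h | h
    · rw [← P.algebraMap_pairingIn ℤ, h]; simp
    · rw [← P.algebraMap_pairingIn ℤ, h]; simp
  rw [hsum, P.pairing_same]
  ring

end Groth.Agent.S17471
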