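import Groth.Statements.S1750
import Groth.Statements.S1750
import Groth.Agent.Lib.helper9.H9_FlatInj
import Groth.Agent.Lib.helper9.H9_HullCrit

set_option autoImplicit false
universe u
open InjHull

namespace Groth.Agent.S1750

/-- Let R → S be a flat local homomorphism of Noetherian local rings with m_R S = m_S inducing a
bijection on residue fields. If κ_S → E is an injective hull of the residue field of S over S, then
E regarded as an R-module is an injective hull of the residue field of R (for a suitable R-linear
map κ_R → E). -/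
theorem result (R S : Type u) [CommRing R] [CommRing S] [IsLocalRing R] [IsLocalRing S] [IsNoetherianRing R] [IsNoetherianRing S] [Algebra R S] [IsLocalHom (algebraMap R S)] [Module.Flat R S] (hm : (IsLocalRing.maximalIdeal R).map (algebraMap R S) = IsLocalRing.maximalIdeal S) (hk : Function.Bijective (IsLocalRing.ResidueField.map (algebraMap R S))) (E : Type u) [AddCommGroup E] [Module S E] [Module R E] [IsScalarTower R S E] (f : IsLocalRing.ResidueField S →ₗ[S] E) (hf : InjHull.IsInjectiveHull f) : ∃ g : IsLocalRing.ResidueField R →ₗ[R] E, InjHull.IsInjectiveHull g := by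
  classical
  have hEinjS := hf.isInjective
  have hEinjR : Module.Injective R E :=
    Groth.Agent.H9.FlatInj.injective_restrict_of_flat R S E hEinjS
  -- the `R`-linear map `κ_R → E`
  let ρ := IsLocalRing.ResidueField.map (algebraMap R S)
  let g : IsLocalRing.ResidueField R →ₗ[R] E :=
    { toFun := fun x => f (ρ x)
      map_add' := fun x y => by rw [map_add, map_add]
      map_smul' := fun r x => by
        rw [RingHom.id_apply, Groth.Agent.H9.MatlisLen.smul_residue, map_mul,
          IsLocalRing.ResidueField.map_residue, ← Groth.Agent.H9.MatlisLen.smul_residue,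
          map_smul, algebraMap_smul] }
  have hgapp : ∀ x, g x = f (ρ x) := fun x => rfl
  -- `E` is `m_R`-power torsion
  have hmap : ∀ (n : ℕ) (a : R), a ∈ IsLocalRing.maximalIdeal R ^ n →
      algebraMap R S a ∈ IsLocalRing.maximalIdeal S ^ n := by
    intro n a ha
    have h1 : algebraMap R S a ∈ (IsLocalRing.maximalIdeal R ^ n).map (algebraMap R S) :=
      Ideal.mem_map_of_mem _ ha
    rw [Ideal.map_pow, hm] at h1
    exact h1
  have htors : LocCoh.IsPowerTorsion (IsLocalRing.maximalIdeal R) E := by
    intro e
    obtain ⟨n, hn⟩ := Groth.Agent.H9.MatlisEnd.hull_powerTorsion f hf e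
    refine ⟨n, fun a ha => ?_⟩
    rw [← algebraMap_smul S a e]
    exact hn _ (hmap n a ha)
  refine ⟨g, ⟨⟨?_, ?_⟩, hEinjR⟩⟩
  · intro x y hxy
    rw [hgapp, hgapp] at hxy
    exact hk.1 (hf.injective hxy)
  · apply Groth.Agent.H9.InjHullEx.essential_of_ess
    intro x _ hx0
    obtain ⟨r, hr0, hr⟩ := Groth.Agent.H9.HullCrit.exists_socle_mul htors x hx0
    refine ⟨r, hr0, ?_⟩
    -- `r • x` lies in the socle over `S`
    have hsoc : r • x ∈ Submodule.torsionBySet S E (IsLocalRing.maximalIdeal S : Set S) := by
      rw [Submodule.mem_torsionBySet_iff]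
      rintro ⟨b, hb⟩
      show b • r • x = 0
      rw [← hm] at hb
      refine Submodule.span_induction (p := fun b _ => b • r • x = 0) ?_ ?_ ?_ ?_ hb
      · rintro _ ⟨a, ha, rfl⟩
        rw [algebraMap_smul]
        exact hr a ha
      · rw [zero_smul]
      · intro u v _ _ hu hv
        rw [add_smul, hu, hv, add_zero]
      · intro c u _ hu
        rw [smul_eq_mul, mul_smul, hu, smul_zero]
    have hrange := Groth.Agent.H9.EssArt.torsion_le_range (IsLocalRing.maximalIdeal S) f
      hf.toIsEssentialInj hsoc
    obtain ⟨y, hy⟩ := hrange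
    obtain ⟨y', rfl⟩ := hk.2 y
    exact ⟨y', hy⟩

end Groth.Agent.S1750
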