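import Groth.Statements.S17526
import Mathlib
import Groth.Agent.Lib.helper9.H9_ReynLR

set_option autoImplicit false
universe u
open GLin

namespace Groth.Agent.S17526

/-- Let `k` be a field, `H` a commutative Hopf algebra of finite type over `k` which is linearly
reductive (every finite-dimensional comodule is semisimple; `G = Spec H` is a linearly reductive
affine group), and `A` a Noetherian commutative `k`-algebra with a coaction of `H` that is an
algebra map (an action of `G` on `Spec A`). Then the ring of invariants `A^G` is Noetherian. (The
published corollary is stated over an algebraically closed field; it is the affine case of a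
statement about good moduli spaces valid over any field, and is stated here over any field.) -/
theorem result
    (k : Type u) [Field k] (H : Type u) [CommRing H] [HopfAlgebra k H] [Algebra.FiniteType k H]
    (hG : HopfRep.IsLinearlyReductive k H)
    (A : Type u) [CommRing A] [Algebra k A] [IsNoetherianRing A]
    [HopfRep.Comod k H A] [GLin.IsCoactAlg k H A] :
    IsNoetherianRing ↥(GLin.invariants k H A) := by
  classical
  obtain ⟨α₀, hα₀1, hα₀⟩ := H9_RInt.exists_integral hG
  set α : H →ₗ[k] A := Algebra.linearMap k A ∘ₗ α₀ with hαdef
  have hα1 : α 1 = 1 := by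
    rw [hαdef, LinearMap.comp_apply, hα₀1, Algebra.linearMap_apply, map_one]
  have hα : Hoch.IsComodHom H α := H9_ReynLR.isComodHom_total α₀ hα₀
  haveI : TameAct.IsHopfMod k H A A := H9_Reyn.isHopfMod_self
  set S := GLin.invariants k H A with hS
  rw [isNoetherianRing_iff_ideal_fg]
  intro I
  -- the extended ideal is finitely generated by elements of `I`
  have hfg : (Submodule.span A ((fun x : S => (x : A)) '' (I : Set S))).FG :=
    IsNoetherian.noetherian _
  obtain ⟨s', hs', hspan⟩ := (Submodule.fg_span_iff_fg_span_finset_subset _).1 hfg
  -- pull the generators back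
  have hpull : ∀ y ∈ s', ∃ x : S, x ∈ I ∧ (x : A) = y := fun y hy => hs' hy
  choose! g hgI hgy using hpull
  refine ⟨s'.image g, le_antisymm ?_ ?_⟩
  · rw [Submodule.span_le]
    intro x hx
    simp only [Finset.coe_image, Set.mem_image, Finset.mem_coe] at hx
    obtain ⟨y, hy, rfl⟩ := hx
    exact hgI y hy
  · intro x hx
    have hx' : (x : A) ∈ Submodule.span A (s' : Set A) := by
      rw [← hspan]
      exact Submodule.subset_span ⟨x, hx, rfl⟩
    obtain ⟨c, -, hc⟩ := Submodule.mem_span_finset.1 hx'
    have h1 : TameAct.reynolds k H A A α (x : A) = x :=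
      H9_Reyn.reynolds_of_mem_fixedPts α hα1 (x : A) x.2
    have hmem : ∀ a : A, TameAct.reynolds k H A A α a ∈ S :=
      fun a => H9_Reyn.reynolds_mem_fixedPts (M := A) α hα a
    have h2 : (x : A) = ∑ y ∈ s', TameAct.reynolds k H A A α (c y) * y := by
      conv_lhs => rw [← h1, ← hc, map_sum]
      refine Finset.sum_congr rfl ?_
      intro y hy
      have hyfix : y ∈ HopfRep.fixedPts k H A := by
        rw [← hgy y hy]
        exact (g y).2
      have := H9_ReynLR.reynolds_smul_fixed α (c y) y hyfix
      simpa [smul_eq_mul] using this
    have h3 : x = ∑ y ∈ s', (⟨TameAct.reynolds k H A A α (c y), hmem _⟩ : S) * g y := by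
      apply Subtype.ext
      rw [h2]
      simp only [AddSubmonoidClass.coe_finset_sum, MulMemClass.coe_mul]
      refine Finset.sum_congr rfl ?_
      intro y hy
      rw [hgy y hy]
    rw [h3]
    refine Ideal.sum_mem _ ?_
    intro y hy
    refine Ideal.mul_mem_left _ _ (Ideal.subset_span ?_)
    simp only [Finset.coe_image, Set.mem_image, Finset.mem_coe]
    exact ⟨y, hy, rfl⟩

end Groth.Agent.S17526
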