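import Groth.Statements.S17530
import Mathlib
import Groth.Agent.Lib.helper9.H9_ReynLR

set_option autoImplicit false
universe u
open GLin

namespace Groth.Agent.S17530

/-- Let `k` be a field, `H` a commutative Hopf algebra of finite type over `k` which is linearly
reductive (every finite-dimensional comodule semisimple; `G = Spec H`), `A` a commutative
`k`-algebra of finite type with a coaction of `H` that is an algebra map (an action of `G` on `Spec
A`), and `M` a finitely generated `A`-module with an `H`-coaction compatible with the module
structure and with the coaction on `A` (a `G`-equivariant coherent module on `Spec A`). Then the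
invariants `M^G` form a finitely generated module over the ring of invariants `A^G`. (The published
corollary is stated over an algebraically closed field; it is the affine case of a statement about
good moduli spaces valid over any Noetherian base, and is stated here over any field.) -/
theorem result
    (k : Type u) [Field k] (H : Type u) [CommRing H] [HopfAlgebra k H] [Algebra.FiniteType k H]
    (hG : HopfRep.IsLinearlyReductive k H)
    (A : Type u) [CommRing A] [Algebra k A] [Algebra.FiniteType k A]
    [HopfRep.Comod k H A] [GLin.IsCoactAlg k H A]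
    (M : Type u) [AddCommGroup M] [Module k M] [Module A M] [IsScalarTower k A M] [Module.Finite A M]
    [HopfRep.Comod k H M] [TameAct.IsHopfMod k H A M] :
    ∃ s : Finset M, (↑s : Set M) ⊆ ↑(HopfRep.fixedPts k H M) ∧
      (↑(HopfRep.fixedPts k H M) : Set M) ⊆
        ↑(Submodule.span ↥(GLin.invariants k H A) (↑s : Set M)) := by
  classical
  obtain ⟨α₀, hα₀1, hα₀⟩ := H9_RInt.exists_integral hG
  set α : H →ₗ[k] A := Algebra.linearMap k A ∘ₗ α₀ with hαdef
  have hα1 : α 1 = 1 := by
    rw [hαdef, LinearMap.comp_apply, hα₀1, Algebra.linearMap_apply, map_one]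
  have hα : Hoch.IsComodHom H α := H9_ReynLR.isComodHom_total α₀ hα₀
  haveI : TameAct.IsHopfMod k H A A := H9_Reyn.isHopfMod_self
  haveI : IsNoetherianRing A := Algebra.FiniteType.isNoetherianRing k A
  haveI : IsNoetherian A M := isNoetherian_of_isNoetherianRing_of_finite A M
  have hfg : (Submodule.span A (HopfRep.fixedPts k H M : Set M)).FG :=
    IsNoetherian.noetherian _
  obtain ⟨s, hs, hspan⟩ := (Submodule.fg_span_iff_fg_span_finset_subset _).1 hfg
  refine ⟨s, hs, ?_⟩
  intro m hm
  have hm' : m ∈ Submodule.span A (s : Set M) := by
    rw [← hspan]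
    exact Submodule.subset_span hm
  obtain ⟨c, -, hc⟩ := Submodule.mem_span_finset.1 hm'
  have h1 : TameAct.reynolds k H A M α m = m := H9_Reyn.reynolds_of_mem_fixedPts α hα1 m hm
  have h2 : m = ∑ y ∈ s, TameAct.reynolds k H A A α (c y) • y := by
    conv_lhs => rw [← h1, ← hc, map_sum]
    refine Finset.sum_congr rfl ?_
    intro y hy
    exact H9_ReynLR.reynolds_smul_fixed α (c y) y (hs hy)
  show m ∈ Submodule.span ↥(GLin.invariants k H A) (↑s : Set M)
  rw [h2]
  refine Submodule.sum_mem _ ?_
  intro y hy
  have hmem : TameAct.reynolds k H A A α (c y) ∈ GLin.invariants k H A :=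
    H9_Reyn.reynolds_mem_fixedPts (M := A) α hα (c y)
  have : TameAct.reynolds k H A A α (c y) • y =
      (⟨TameAct.reynolds k H A A α (c y), hmem⟩ : ↥(GLin.invariants k H A)) • y := rfl
  rw [this]
  exact Submodule.smul_mem _ _ (Submodule.subset_span hy)

end Groth.Agent.S17530
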