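import Groth.Statements.S17536
import Mathlib

set_option autoImplicit false
universe u v w
open W4c5adicflatcompl
open CAlg

namespace Groth.Agent.S17536

/-- If the A-module M is I-adically separated then so is the module of I-adically decaying functions
from a set Z to M. -/
theorem result {A : Type u} [CommRing A] (I : Ideal A) (Z : Type v)
    (M : Type w) [AddCommGroup M] [Module A M] [IsHausdorff I M] :
    IsHausdorff I (decaying I Z M) := by
  refine ⟨fun f hf => ?_⟩
  apply Subtype.ext
  funext z
  have hz : ∀ n : ℕ, (f : Z → M) z ≡ 0 [SMOD (I ^ n • ⊤ : Submodule A M)] := by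
    intro n
    have h1 := hf n
    rw [SModEq.zero] at h1 ⊢
    let ev : decaying I Z M →ₗ[A] M := (LinearMap.proj z).comp (decaying I Z M).subtype
    have h2 : ev f ∈ Submodule.map ev (I ^ n • ⊤ : Submodule A (decaying I Z M)) :=
      Submodule.mem_map_of_mem h1
    rw [Submodule.map_smul''] at h2
    exact Submodule.smul_mono le_rfl le_top h2
  exact IsHausdorff.haus ‹IsHausdorff I M› _ hz

end Groth.Agent.S17536
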