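import Groth.Statements.S17537
import Mathlib

set_option autoImplicit false
universe u v
open CAlg

namespace Groth.Agent.S17537

/-- For a commutative ring A, an ideal I and an A-module M, the I-adic completion M^ of M is itself
I-adically complete if and only if, for every n, every element of M^ is congruent modulo I^n M^ to
the image of an element of M (the maps M/I^n M → M^/I^n M^ are surjective). -/
theorem result {A : Type u} [CommRing A] (I : Ideal A)
    (M : Type v) [AddCommGroup M] [Module A M] :
    IsAdicComplete I (AdicCompletion I M) ↔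
      ∀ (n : ℕ) (x : AdicCompletion I M), ∃ y : M,
        x - AdicCompletion.of I M y ∈ (I ^ n • ⊤ : Submodule A (AdicCompletion I M)) := by
  have hof : ∀ (n : ℕ) (y : M), y ∈ (I ^ n • ⊤ : Submodule A M) →
      AdicCompletion.of I M y ∈ (I ^ n • ⊤ : Submodule A (AdicCompletion I M)) := by
    intro n y hy
    refine Submodule.smul_induction_on hy (fun r hr z _ => ?_) (fun a b ha hb => ?_)
    · rw [map_smul]
      exact Submodule.smul_mem_smul hr Submodule.mem_top
    · rw [map_add]
      exact Submodule.add_mem _ ha hb
  have hker : ∀ (n : ℕ) (z : AdicCompletion I M),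
      z ∈ (I ^ n • ⊤ : Submodule A (AdicCompletion I M)) → z.val n = 0 := by
    intro n z hz
    have := AdicCompletion.pow_smul_top_le_ker_eval (I := I) (M := M) n hz
    simpa using this
  constructor
  · intro hc n x
    have hy : ∀ k, ∃ y : M, Submodule.mkQ (I ^ k • ⊤ : Submodule A M) y = x.val k :=
      fun k => Submodule.mkQ_surjective _ _
    choose y hy using hy
    have hcauchy : ∀ {m k : ℕ}, m ≤ k → AdicCompletion.of I M (y m) ≡ AdicCompletion.of I M (y k)
        [SMOD (I ^ m • ⊤ : Submodule A (AdicCompletion I M))] := by
      intro m k hmk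
      rw [SModEq.sub_mem, ← map_sub]
      apply hof
      rw [← Submodule.Quotient.mk_eq_zero, Submodule.Quotient.mk_sub, sub_eq_zero]
      have h1 : Submodule.Quotient.mk (p := (I ^ m • ⊤ : Submodule A M)) (y m) = x.val m := hy m
      have h2 : Submodule.Quotient.mk (p := (I ^ m • ⊤ : Submodule A M)) (y k) = x.val m := by
        rw [← AdicCompletion.transitionMap_comp_eval_apply I M hmk x, ← hy k]
        rfl
      rw [h1, h2]
    obtain ⟨L, hL⟩ := hc.toIsPrecomplete.prec' (fun k => AdicCompletion.of I M (y k)) hcauchy
    have hLx : L = x := by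
      apply AdicCompletion.ext
      intro k
      have h1 := hker k _ (SModEq.sub_mem.1 (hL k))
      rw [AdicCompletion.val_sub_apply, sub_eq_zero] at h1
      rw [← h1, AdicCompletion.of_apply, hy k]
    refine ⟨y n, ?_⟩
    rw [← hLx]
    have := SModEq.sub_mem.1 (hL n).symm
    exact this
  · intro h
    have hker' : ∀ (n : ℕ) (z : AdicCompletion I M), z.val n = 0 →
        z ∈ (I ^ n • ⊤ : Submodule A (AdicCompletion I M)) := by
      intro n z hz
      obtain ⟨y, hy⟩ := h n z
      have h1 : (AdicCompletion.of I M y).val n = 0 := by
        have h2 := hker n _ hy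
        rw [AdicCompletion.val_sub_apply, hz, zero_sub, neg_eq_zero] at h2
        exact h2
      rw [AdicCompletion.of_apply, Submodule.mkQ_apply, Submodule.Quotient.mk_eq_zero] at h1
      have h3 := hof n y h1
      have : z = (z - AdicCompletion.of I M y) + AdicCompletion.of I M y := by abel
      rw [this]
      exact Submodule.add_mem _ hy h3
    refine { toIsHausdorff := inferInstance, toIsPrecomplete := ⟨?_⟩ }
    intro f hf
    have hcompat : ∀ {m n : ℕ} (hmn : m ≤ n),
        AdicCompletion.transitionMap I M hmn ((f n).val n) = (f m).val m := by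
      intro m n hmn
      rw [AdicCompletion.transitionMap_comp_eval_apply I M hmn (f n)]
      have h1 := hker m _ (SModEq.sub_mem.1 (hf hmn))
      rw [AdicCompletion.val_sub_apply, sub_eq_zero] at h1
      exact h1.symm
    let L : AdicCompletion I M := ⟨fun n => (f n).val n, fun hmn => hcompat hmn⟩
    have hLval : ∀ n, L.val n = (f n).val n := fun n => rfl
    refine ⟨L, fun n => ?_⟩
    rw [SModEq.sub_mem]
    apply hker'
    rw [AdicCompletion.val_sub_apply, hLval, sub_self]

end Groth.Agent.S17537
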