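import Groth.Statements.S17538
import Mathlib

set_option autoImplicit false
universe u v
open CAlg

namespace Groth.Agent.S17538

/-- For a commutative ring A, an ideal I and an A-module M, the canonical map from the I-adic completion
M^ to the I-adic completion of M^ admits an A-linear retraction (it is a split injection). (That M^
is I-adically separated is standard.) -/
theorem result {A : Type u} [CommRing A] (I : Ideal A)
    (M : Type v) [AddCommGroup M] [Module A M] :
    ∃ ψ : AdicCompletion I (AdicCompletion I M) →ₗ[A] AdicCompletion I M,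
      ψ ∘ₗ AdicCompletion.of I (AdicCompletion I M) = LinearMap.id := by
  classical
  have hker : ∀ n : ℕ, (I ^ n • ⊤ : Submodule A (AdicCompletion I M)) ≤
      LinearMap.ker (AdicCompletion.eval I M n) := by
    intro n x hx
    rw [LinearMap.mem_ker]
    refine Submodule.smul_induction_on hx (fun r hr y _ => ?_) (fun y z hy hz => ?_)
    · rw [map_smul]
      obtain ⟨m, hm⟩ := Submodule.Quotient.mk_surjective _ (AdicCompletion.eval I M n y)
      rw [← hm, ← Submodule.Quotient.mk_smul, Submodule.Quotient.mk_eq_zero]
      exact Submodule.smul_mem_smul hr Submodule.mem_top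
    · rw [map_add, hy, hz, add_zero]
  let g : ∀ n : ℕ, (AdicCompletion I M ⧸ (I ^ n • ⊤ : Submodule A (AdicCompletion I M))) →ₗ[A]
      M ⧸ (I ^ n • ⊤ : Submodule A M) := fun n =>
    (I ^ n • ⊤ : Submodule A (AdicCompletion I M)).liftQ (AdicCompletion.eval I M n) (hker n)
  let fam : ∀ n : ℕ, AdicCompletion I (AdicCompletion I M) →ₗ[A] M ⧸ (I ^ n • ⊤ : Submodule A M) :=
    fun n => (g n).comp (AdicCompletion.eval I (AdicCompletion I M) n)
  have hcompat : ∀ {m n : ℕ} (hle : m ≤ n),
      AdicCompletion.transitionMap I M hle ∘ₗ fam n = fam m := by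
    intro m n hle
    apply LinearMap.ext
    intro x
    simp only [fam, LinearMap.comp_apply, AdicCompletion.eval_apply]
    have hx : x.val m = AdicCompletion.transitionMap I (AdicCompletion I M) hle (x.val n) :=
      (x.property hle).symm
    rw [hx]
    obtain ⟨z, hz⟩ := Submodule.Quotient.mk_surjective _ (x.val n)
    rw [← hz]
    change AdicCompletion.transitionMap I M hle (z.val n) = z.val m
    exact z.property hle
  refine ⟨AdicCompletion.lift I fam hcompat, ?_⟩
  apply LinearMap.ext
  intro z
  apply AdicCompletion.ext
  intro n
  simp only [LinearMap.comp_apply, LinearMap.id_apply, AdicCompletion.eval_lift_apply, fam,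
    AdicCompletion.eval_apply, AdicCompletion.of_apply, g]
  erw [Submodule.liftQ_apply]
  rfl

end Groth.Agent.S17538
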