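import Groth.Statements.S17539
import Mathlib
import Groth.Agent.H8Dec
import Groth.Agent.S17537

set_option autoImplicit false
universe u v w
open W4c5adicflatcompl
open CAlg

namespace Groth.Agent.S17539

/-- For a commutative ring A, an ideal I, a set Z and an A-module M whose I-adic completion M^ is itself
I-adically complete, the canonical map from the I-adic completion of Z →₀ M to the functions Z → M^,
whose z-th coordinate is the completion of evaluation at z, is injective with image the I-adically
decaying functions Z → M^. (The source states bijectivity of the inverse map, from decaying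
functions to the limit of the finitely supported functions Z → M/I^n M, induced by the projections
M^ → M/I^n M; the two formulations are equivalent.) -/
theorem result {A : Type u} [CommRing A] (I : Ideal A) (Z : Type v)
    (M : Type w) [AddCommGroup M] [Module A M] [IsAdicComplete I (AdicCompletion I M)] :
    Function.Injective
        (LinearMap.pi fun z : Z =>
          (AdicCompletion.map I (Finsupp.lapply (M := M) (R := A) z)).restrictScalars A) ∧
      LinearMap.range
        (LinearMap.pi fun z : Z =>
          (AdicCompletion.map I (Finsupp.lapply (M := M) (R := A) z)).restrictScalars A) =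
        decaying I Z (AdicCompletion I M) := by
  classical
  set Φ := LinearMap.pi fun z : Z =>
    (AdicCompletion.map I (Finsupp.lapply (M := M) (R := A) z)).restrictScalars A with hΦ
  have hΦval : ∀ (ξ : AdicCompletion I (Z →₀ M)) (z : Z) (n : ℕ) (f : Z →₀ M),
      ξ.val n = Submodule.Quotient.mk f → (Φ ξ z).val n = Submodule.Quotient.mk (f z) := by
    intro ξ z n f hf
    show (AdicCompletion.map I (Finsupp.lapply z) ξ).val n = _
    rw [AdicCompletion.map_val_apply, hf]
    rfl
  have hfin : ∀ (n : ℕ) (f : Z →₀ M), f ∈ (I ^ n • ⊤ : Submodule A (Z →₀ M)) ↔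
      ∀ z, f z ∈ (I ^ n • ⊤ : Submodule A M) := by
    intro n f
    constructor
    · intro hf z
      exact H8Dec.map_mem_pow_smul_top I (Finsupp.lapply z) n f hf
    · intro hf
      rw [← Finsupp.sum_single f]
      apply Submodule.sum_mem
      intro z _
      exact H8Dec.map_mem_pow_smul_top I (Finsupp.lsingle z) n (f z) (hf z)
  have hdense := (Groth.Agent.S17537.result I M).1 inferInstance
  have hof : ∀ (n : ℕ) (y : M), y ∈ (I ^ n • ⊤ : Submodule A M) →
      AdicCompletion.of I M y ∈ (I ^ n • ⊤ : Submodule A (AdicCompletion I M)) :=
    fun n y hy => H8Dec.map_mem_pow_smul_top I (AdicCompletion.of I M) n y hy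
  have hker : ∀ (n : ℕ) (z : AdicCompletion I M),
      z ∈ (I ^ n • ⊤ : Submodule A (AdicCompletion I M)) → z.val n = 0 := by
    intro n z hz
    have := AdicCompletion.pow_smul_top_le_ker_eval (I := I) (M := M) n hz
    simpa using this
  have hker' : ∀ (n : ℕ) (z : AdicCompletion I M), z.val n = 0 →
      z ∈ (I ^ n • ⊤ : Submodule A (AdicCompletion I M)) := by
    intro n z hz
    obtain ⟨y, hy⟩ := hdense n z
    have h1 : (AdicCompletion.of I M y).val n = 0 := by
      have h2 := hker n _ hy
      rw [AdicCompletion.val_sub_apply, hz, zero_sub, neg_eq_zero] at h2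
      exact h2
    rw [AdicCompletion.of_apply, Submodule.mkQ_apply, Submodule.Quotient.mk_eq_zero] at h1
    have h3 := hof n y h1
    have : z = (z - AdicCompletion.of I M y) + AdicCompletion.of I M y := by abel
    rw [this]
    exact Submodule.add_mem _ hy h3
  constructor
  · rw [injective_iff_map_eq_zero]
    intro ξ hξ
    apply AdicCompletion.ext
    intro n
    obtain ⟨f, hf⟩ := Submodule.Quotient.mk_surjective _ (ξ.val n)
    rw [← hf, AdicCompletion.val_zero_apply, Submodule.Quotient.mk_eq_zero, hfin]
    intro z
    have h1 := hΦval ξ z n f hf.symm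
    rw [hξ] at h1
    rw [← Submodule.Quotient.mk_eq_zero, ← h1]
    rfl
  · apply le_antisymm
    · rintro _ ⟨ξ, rfl⟩
      intro n
      obtain ⟨f, hf⟩ := Submodule.Quotient.mk_surjective _ (ξ.val n)
      refine (f.support.finite_toSet).subset ?_
      intro z hz
      simp only [Set.mem_ofPred_eq] at hz
      by_contra hzs
      apply hz
      apply hker'
      have hfz : f z = 0 := by
        by_contra h0
        exact hzs (Finsupp.mem_support_iff.2 h0)
      rw [hΦval ξ z n f hf.symm, hfz, Submodule.Quotient.mk_zero]
    · intro g hg
      have hy : ∀ (z : Z) (n : ℕ), ∃ y : M,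
          (Submodule.Quotient.mk y : M ⧸ (I ^ n • ⊤ : Submodule A M)) = (g z).val n :=
        fun z n => Submodule.Quotient.mk_surjective _ _
      choose y hy using hy
      let S : ℕ → Finset Z := fun n => (hg n).toFinset
      let f : ℕ → (Z →₀ M) := fun n =>
        Finsupp.onFinset (S n) (fun z => if z ∈ S n then y z n else 0) (by
          intro z hz
          by_contra h
          exact hz (if_neg h))
      have hfval : ∀ n z, (Submodule.Quotient.mk (f n z) : M ⧸ (I ^ n • ⊤ : Submodule A M)) =
          (g z).val n := by
        intro n z
        show Submodule.Quotient.mk (if z ∈ S n then y z n else 0) = _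
        by_cases hz : z ∈ S n
        · rw [if_pos hz, hy]
        · rw [if_neg hz, Submodule.Quotient.mk_zero]
          have : g z ∈ (I ^ n • ⊤ : Submodule A (AdicCompletion I M)) := by
            by_contra hmem
            exact hz ((Set.Finite.mem_toFinset _).2 hmem)
          exact (hker n _ this).symm
      have hcompat : ∀ {m n : ℕ} (hmn : m ≤ n),
          AdicCompletion.transitionMap I (Z →₀ M) hmn (Submodule.Quotient.mk (f n)) =
            Submodule.Quotient.mk (f m) := by
        intro m n hmn
        show (Submodule.Quotient.mk (f n) : (Z →₀ M) ⧸ (I ^ m • ⊤ : Submodule A (Z →₀ M))) =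
          Submodule.Quotient.mk (f m)
        rw [← sub_eq_zero, ← Submodule.Quotient.mk_sub, Submodule.Quotient.mk_eq_zero, hfin]
        intro z
        rw [Finsupp.sub_apply, ← Submodule.Quotient.mk_eq_zero, Submodule.Quotient.mk_sub,
          sub_eq_zero, hfval m z, ← AdicCompletion.transitionMap_comp_eval_apply I M hmn (g z)]
        show _ = AdicCompletion.transitionMap I M hmn ((g z).val n)
        rw [← hfval n z]
        rfl
      let ξ : AdicCompletion I (Z →₀ M) :=
        ⟨fun n => Submodule.Quotient.mk (f n), fun hmn => hcompat hmn⟩
      refine ⟨ξ, ?_⟩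
      funext z
      apply AdicCompletion.ext
      intro n
      rw [hΦval ξ z n (f n) rfl, hfval]

end Groth.Agent.S17539
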