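import Groth.Statements.S17540
import Mathlib

set_option autoImplicit false
universe u v w
open W4c5adicflatcompl
open CAlg

namespace Groth.Agent.S17540

/-- Let A be I-adically complete, M an I-adically complete A-module and m : Z → M a family. The images
of the m z generate M/IM (the span of the family together with IM is all of M) if and only if the
family I-adically generates M: every x in M is the I-adically convergent sum of g z • m z for some
I-adically decaying function g : Z → A. -/
theorem result {A : Type u} [CommRing A] (I : Ideal A) [IsAdicComplete I A]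
    (M : Type v) [AddCommGroup M] [Module A M] [IsAdicComplete I M] (Z : Type w) (m : Z → M) :
    Submodule.span A (Set.range m) ⊔ I • ⊤ = ⊤ ↔
      ∀ x : M, ∃ g : Z → A, g ∈ decaying I Z A ∧
        ∀ n : ℕ, ∃ S : Finset Z,
          (∀ z, z ∉ S → g z • m z ∈ (I ^ n • ⊤ : Submodule A M)) ∧
          x - (∑ z ∈ S, g z • m z) ∈ (I ^ n • ⊤ : Submodule A M) := by
  classical
  let N : ℕ → Submodule A M := fun n => (I ^ n • ⊤ : Submodule A M)
  have hmemA : ∀ (n : ℕ) (a : A), a ∈ (I ^ n • ⊤ : Submodule A A) ↔ a ∈ I ^ n := by
    intro n a
    rw [smul_eq_mul, Ideal.mul_top]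
  constructor
  · intro htop
    -- step lemma
    have L : ∀ n : ℕ, ∀ x ∈ N n, ∃ a : Z →₀ A, (∀ z, a z ∈ I ^ n) ∧
        x - Finsupp.linearCombination A m a ∈ N (n + 1) := by
      intro n x hx
      refine Submodule.smul_induction_on (p := fun x => ∃ a : Z →₀ A, (∀ z, a z ∈ I ^ n) ∧
        x - Finsupp.linearCombination A m a ∈ N (n + 1)) hx ?_ ?_
      · intro r hr y _
        have hy : y ∈ Submodule.span A (Set.range m) ⊔ I • ⊤ := by rw [htop]; exact Submodule.mem_top
        obtain ⟨s, hs, w, hw, rfl⟩ := Submodule.mem_sup.mp hy
        obtain ⟨c, rfl⟩ := (Finsupp.mem_span_range_iff_exists_finsupp).mp hs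
        refine ⟨r • c, ?_, ?_⟩
        · intro z
          rw [Finsupp.smul_apply, smul_eq_mul]
          exact Ideal.mul_mem_right _ _ hr
        · have h1 : (c.sum fun i a => a • m i) = Finsupp.linearCombination A m c := rfl
          rw [h1, map_smul, smul_add, add_sub_cancel_left]
          have : r • w ∈ I ^ n • (I • ⊤ : Submodule A M) := Submodule.smul_mem_smul hr hw
          rwa [← mul_smul, ← pow_succ] at this
      · rintro x y ⟨a, ha1, ha2⟩ ⟨b, hb1, hb2⟩
        refine ⟨a + b, fun z => ?_, ?_⟩
        · rw [Finsupp.add_apply]
          exact Ideal.add_mem _ (ha1 z) (hb1 z)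
        · rw [map_add, add_sub_add_comm]
          exact Submodule.add_mem _ ha2 hb2
    intro x
    -- the sequence of remainders
    let s : (n : ℕ) → {y : M // y ∈ N n} := fun n =>
      Nat.rec (motive := fun n => {y : M // y ∈ N n})
        ⟨x, by show x ∈ (I ^ 0 • ⊤ : Submodule A M); rw [pow_zero, Ideal.one_eq_top, Submodule.top_smul]; exact Submodule.mem_top⟩
        (fun n prev => ⟨prev.1 - Finsupp.linearCombination A m (L n prev.1 prev.2).choose,
          (L n prev.1 prev.2).choose_spec.2⟩) n
    let a : ℕ → (Z →₀ A) := fun n => (L n (s n).1 (s n).2).choose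
    have ha : ∀ n z, a n z ∈ I ^ n := fun n => (L n (s n).1 (s n).2).choose_spec.1
    have hs0 : (s 0).1 = x := rfl
    have hs : ∀ n, (s (n + 1)).1 = (s n).1 - Finsupp.linearCombination A m (a n) := fun n => rfl
    have hx : ∀ n, x = ∑ j ∈ Finset.range n, Finsupp.linearCombination A m (a j) + (s n).1 := by
      intro n
      induction n with
      | zero => simp [hs0]
      | succ n ih =>
        rw [Finset.sum_range_succ, hs]
        conv_lhs => rw [ih]
        abel
    -- partial sums of coefficients
    let G : ℕ → Z → A := fun n z => ∑ j ∈ Finset.range n, a j z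
    have hG : ∀ z n n', n ≤ n' → G n z - G n' z ∈ I ^ n := by
      intro z n n' hnn'
      induction n', hnn' using Nat.le_induction with
      | base => simp
      | succ k hk ih =>
        have : G n z - G (k + 1) z = (G n z - G k z) - a k z := by
          show _ - ∑ j ∈ Finset.range (k + 1), a j z = _
          rw [Finset.sum_range_succ]
          show _ = (G n z - G k z) - a k z
          abel
        rw [this]
        exact Ideal.sub_mem _ ih (Ideal.pow_le_pow_right hk (ha k z))
    have hlim : ∀ z, ∃ gz : A, ∀ n, G n z - gz ∈ I ^ n := by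
      intro z
      obtain ⟨gz, hgz⟩ := IsPrecomplete.prec' (I := I) (fun n => G n z) (by
        intro n n' hnn'
        rw [SModEq.sub_mem, hmemA]
        exact hG z n n' hnn')
      refine ⟨gz, fun n => ?_⟩
      have := hgz n
      rwa [SModEq.sub_mem, hmemA] at this
    choose g hg using hlim
    let S : ℕ → Finset Z := fun n => (Finset.range n).biUnion (fun j => (a j).support)
    have hGS : ∀ n z, z ∉ S n → G n z = 0 := by
      intro n z hz
      apply Finset.sum_eq_zero
      intro j hj
      by_contra h
      exact hz (Finset.mem_biUnion.mpr ⟨j, hj, Finsupp.mem_support_iff.mpr h⟩)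
    have hgS : ∀ n z, z ∉ S n → g z ∈ I ^ n := by
      intro n z hz
      have := hg z n
      rw [hGS n z hz, zero_sub] at this
      exact (Ideal.neg_mem_iff _).mp this
    refine ⟨g, ?_, ?_⟩
    · intro n
      refine (S n).finite_toSet.subset ?_
      intro z hz
      by_contra h
      exact hz ((hmemA n (g z)).mpr (hgS n z h))
    · intro n
      refine ⟨S n, fun z hz => Submodule.smul_mem_smul (hgS n z hz) Submodule.mem_top, ?_⟩
      have h1 : ∑ j ∈ Finset.range n, Finsupp.linearCombination A m (a j) =
          ∑ z ∈ S n, G n z • m z := by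
        have : ∀ j ∈ Finset.range n, Finsupp.linearCombination A m (a j) =
            ∑ z ∈ S n, a j z • m z := by
          intro j hj
          rw [Finsupp.linearCombination_apply]
          apply Finsupp.sum_of_support_subset
          · intro z hz
            exact Finset.mem_biUnion.mpr ⟨j, hj, hz⟩
          · intro z _
            exact zero_smul _ _
        rw [Finset.sum_congr rfl this, Finset.sum_comm]
        apply Finset.sum_congr rfl
        intro z _
        rw [← Finset.sum_smul]
      have h2 : x - ∑ z ∈ S n, g z • m z = (s n).1 + ∑ z ∈ S n, (G n z - g z) • m z := by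
        conv_lhs => rw [hx n, h1]
        simp only [sub_smul, Finset.sum_sub_distrib]
        abel
      rw [h2]
      apply Submodule.add_mem _ (s n).2
      exact Submodule.sum_mem _ (fun z _ => Submodule.smul_mem_smul (hg z n) Submodule.mem_top)
  · intro h
    rw [eq_top_iff]
    intro x _
    obtain ⟨g, _, hg⟩ := h x
    obtain ⟨S, _, hS⟩ := hg 1
    rw [pow_one] at hS
    have : x = ∑ z ∈ S, g z • m z + (x - ∑ z ∈ S, g z • m z) := by abel
    rw [this]
    apply Submodule.add_mem_sup _ hS
    exact Submodule.sum_mem _ (fun z _ => Submodule.smul_mem _ _ (Submodule.subset_span ⟨z, rfl⟩))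

end Groth.Agent.S17540
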