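import Groth.Statements.S17542
import Mathlib

set_option autoImplicit false
universe u v w
open W4c5adicflatcompl
open CAlg

namespace Groth.Agent.S17542

/-- Over a Noetherian ring A which is I-adically complete, for a surjection φ : M → M'' of A-modules
with M finitely generated and a set Z, every I-adically decaying function Z → M'' is the composite
of φ with an I-adically decaying function Z → M. (This is the right exactness of the
decaying-functions functor on finitely generated modules; left exactness is the statement about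
submodules.) -/
theorem result {A : Type u} [CommRing A] [IsNoetherianRing A] (I : Ideal A)
    [IsAdicComplete I A] (Z : Type v) {M : Type w} {M'' : Type w} [AddCommGroup M] [Module A M]
    [Module.Finite A M] [AddCommGroup M''] [Module A M''] (φ : M →ₗ[A] M'')
    (hφ : Function.Surjective φ) (g : Z → M'') (hg : g ∈ decaying I Z M'') :
    ∃ f : Z → M, f ∈ decaying I Z M ∧ ∀ z, φ (f z) = g z := by
  classical
  have hfin : Module.Finite A M'' := Module.Finite.of_surjective φ hφ
  have hHaus : (⨅ i : ℕ, I ^ i • ⊤ : Submodule A M'') = ⊥ :=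
    Ideal.iInf_pow_smul_eq_bot_of_le_jacobson I (IsAdicComplete.le_jacobson_bot I)
  have hmap : ∀ n : ℕ, Submodule.map φ (I ^ n • ⊤ : Submodule A M) = (I ^ n • ⊤ : Submodule A M'') := by
    intro n
    rw [Submodule.map_smul'', Submodule.map_top, LinearMap.range_eq_top.2 hφ]
  have hanti : ∀ {a b : ℕ}, a ≤ b → (I ^ b • ⊤ : Submodule A M) ≤ I ^ a • ⊤ := fun h =>
    Submodule.smul_mono (Ideal.pow_le_pow_right h) le_rfl
  have hanti'' : ∀ {a b : ℕ}, a ≤ b → (I ^ b • ⊤ : Submodule A M'') ≤ I ^ a • ⊤ := fun h =>
    Submodule.smul_mono (Ideal.pow_le_pow_right h) le_rfl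
  have key : ∀ z, ∃ x : M, φ x = g z ∧
      ∀ n : ℕ, g z ∈ (I ^ n • ⊤ : Submodule A M'') → x ∈ (I ^ n • ⊤ : Submodule A M) := by
    intro z
    by_cases hz : g z = 0
    · exact ⟨0, by rw [map_zero, hz], fun n _ => Submodule.zero_mem _⟩
    · have hex : ∃ n : ℕ, g z ∉ (I ^ n • ⊤ : Submodule A M'') := by
        by_contra hall
        push Not at hall
        apply hz
        have : g z ∈ (⨅ i : ℕ, I ^ i • ⊤ : Submodule A M'') := by
          rw [Submodule.mem_iInf]; exact hall
        rw [hHaus] at this
        exact (Submodule.mem_bot A).1 this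
      let n₀ := Nat.find hex
      have hn₀ : g z ∉ (I ^ n₀ • ⊤ : Submodule A M'') := Nat.find_spec hex
      have hn₀pos : n₀ ≠ 0 := by
        intro h0
        apply hn₀
        rw [h0, pow_zero, Ideal.one_eq_top, Submodule.top_smul]
        trivial
      have hprev : g z ∈ (I ^ (n₀ - 1) • ⊤ : Submodule A M'') := by
        by_contra hnot
        exact Nat.find_min hex (by omega : n₀ - 1 < n₀) hnot
      rw [← hmap] at hprev
      obtain ⟨x, hx, hxz⟩ := Submodule.mem_map.1 hprev
      refine ⟨x, hxz, fun n hn => ?_⟩
      have hlt : n < n₀ := by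
        by_contra hge
        push Not at hge
        exact hn₀ (hanti'' hge hn)
      exact hanti (by omega : n ≤ n₀ - 1) hx
  choose f hf1 hf2 using key
  refine ⟨f, ?_, hf1⟩
  intro n
  refine (hg n).subset ?_
  intro z hz
  simp only [Set.mem_ofPred_eq] at hz ⊢
  exact fun hmem => hz (hf2 z n hmem)

end Groth.Agent.S17542
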