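import Groth.Statements.S17543
import Mathlib
import Groth.Agent.H8Dec
import Groth.Agent.S17541

set_option autoImplicit false
universe u v w
open W4c5adicflatcompl
open CAlg

namespace Groth.Agent.S17543

/-- Over a Noetherian ring A which is I-adically complete, for a finitely generated A-module M and a set
Z, the canonical map from M ⊗ (decaying functions Z → A) to functions Z → M is injective and its
image is the module of decaying functions Z → M. -/
theorem result {A : Type u} [CommRing A] [IsNoetherianRing A] (I : Ideal A)
    [IsAdicComplete I A] (Z : Type v) (M : Type w) [AddCommGroup M] [Module A M]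
    [Module.Finite A M] :
    Function.Injective
        ((TensorProduct.piScalarRightHom A A M Z) ∘ₗ ((decaying I Z A).subtype.lTensor M)) ∧
      LinearMap.range
        ((TensorProduct.piScalarRightHom A A M Z) ∘ₗ ((decaying I Z A).subtype.lTensor M)) =
        decaying I Z M := by
  classical
  set T := (TensorProduct.piScalarRightHom A A M Z) ∘ₗ ((decaying I Z A).subtype.lTensor M) with hT
  have hT_tmul : ∀ (m : M) (g : decaying I Z A),
      T (m ⊗ₜ[A] g) = fun z => (g : Z → A) z • m := by
    intro m g
    rw [hT, LinearMap.comp_apply, LinearMap.lTensor_tmul, TensorProduct.piScalarRightHom_tmul]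
    rfl
  have hIA : ∀ (n : ℕ) (a : A), a ∈ (I ^ n • ⊤ : Submodule A A) ↔ a ∈ I ^ n := by
    intro n a
    rw [smul_eq_mul, Ideal.mul_top]
  obtain ⟨k, m, hm⟩ := Module.Finite.exists_fin (R := A) (M := M)
  let π : (Fin k → A) →ₗ[A] M := Fintype.linearCombination A m
  have hπ : Function.Surjective π := by
    rw [← LinearMap.range_eq_top, Fintype.range_linearCombination, hm]
  have hcomp : ∀ (r : ℕ) (c : Z → Fin r → A), c ∈ decaying I Z (Fin r → A) →
      ∀ j, (fun z => c z j) ∈ decaying I Z A := by
    intro r c hc j n
    refine (hc n).subset ?_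
    intro z hz
    simp only [Set.mem_ofPred_eq] at hz ⊢
    intro hmem
    apply hz
    rw [H8Dec.pi_mem_pow_smul_top_iff] at hmem
    exact (hIA n _).2 (hmem j)
  have hrep : ∀ ξ : TensorProduct A M (decaying I Z A), ∃ g : Fin k → decaying I Z A,
      ξ = ∑ i, m i ⊗ₜ[A] g i := by
    intro ξ
    induction ξ using TensorProduct.induction_on with
    | zero => exact ⟨0, by simp⟩
    | tmul x g =>
      obtain ⟨c, hc⟩ := hπ x
      refine ⟨fun i => c i • g, ?_⟩
      rw [← hc]
      show (Fintype.linearCombination A m c) ⊗ₜ[A] g = _
      rw [Fintype.linearCombination_apply, TensorProduct.sum_tmul]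
      apply Finset.sum_congr rfl
      intro i _
      rw [TensorProduct.smul_tmul]
    | add x y hx hy =>
      obtain ⟨g, hg⟩ := hx
      obtain ⟨g', hg'⟩ := hy
      refine ⟨g + g', ?_⟩
      rw [hg, hg', ← Finset.sum_add_distrib]
      apply Finset.sum_congr rfl
      intro i _
      rw [Pi.add_apply, TensorProduct.tmul_add]
  have hTsum : ∀ g : Fin k → decaying I Z A, T (∑ i, m i ⊗ₜ[A] g i) =
      fun z => ∑ i, ((g i : decaying I Z A) : Z → A) z • m i := by
    intro g
    rw [map_sum]
    funext z
    rw [Finset.sum_apply]
    apply Finset.sum_congr rfl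
    intro i _
    rw [hT_tmul]
  constructor
  · rw [injective_iff_map_eq_zero]
    intro ξ hξ
    obtain ⟨g, rfl⟩ := hrep ξ
    rw [hTsum] at hξ
    let N : Submodule A (Fin k → A) := LinearMap.ker π
    have hc : ∀ z, (fun i => ((g i : decaying I Z A) : Z → A) z) ∈ N := by
      intro z
      rw [LinearMap.mem_ker]
      show Fintype.linearCombination A m _ = 0
      rw [Fintype.linearCombination_apply]
      exact congrFun hξ z
    let c : Z → N := fun z => ⟨_, hc z⟩
    have hcdec : c ∈ decaying I Z N := by
      rw [Groth.Agent.S17541.result I Z (Fin k → A) N c]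
      intro n
      refine (Set.finite_iUnion (fun i : Fin k => (g i).2 n)).subset ?_
      intro z hz
      simp only [Set.mem_ofPred_eq] at hz
      rw [H8Dec.pi_mem_pow_smul_top_iff] at hz
      push Not at hz
      obtain ⟨i, hi⟩ := hz
      rw [Set.mem_iUnion]
      refine ⟨i, ?_⟩
      simp only [Set.mem_ofPred_eq]
      intro h
      apply hi
      exact (hIA n _).1 h
    obtain ⟨r, nn, hnn⟩ := Module.Finite.exists_fin (R := A) (M := N)
    let ρ : (Fin r → A) →ₗ[A] N := Fintype.linearCombination A nn
    have hρ : Function.Surjective ρ := by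
      rw [← LinearMap.range_eq_top, Fintype.range_linearCombination, hnn]
    obtain ⟨h, hdec, hh⟩ := H8Dec.lift_decaying I Z ρ hρ c hcdec
    have hjdec := hcomp r h hdec
    have hg : ∀ i, g i = ∑ j, ((nn j : N) : Fin k → A) i •
        (⟨fun z => h z j, hjdec j⟩ : decaying I Z A) := by
      intro i
      apply Subtype.ext
      funext z
      rw [Submodule.coe_sum, Finset.sum_apply]
      have h1 := hh z
      have h2 : ((ρ (h z) : N) : Fin k → A) i = ((c z : N) : Fin k → A) i := by rw [h1]
      have h3 : ((ρ (h z) : N) : Fin k → A) = ∑ j, h z j • ((nn j : N) : Fin k → A) := by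
        show ((Fintype.linearCombination A nn (h z) : N) : Fin k → A) = _
        rw [Fintype.linearCombination_apply, Submodule.coe_sum]
        rfl
      rw [h3, Finset.sum_apply] at h2
      rw [← show ((c z : N) : Fin k → A) i = ((g i : decaying I Z A) : Z → A) z from rfl, ← h2]
      apply Finset.sum_congr rfl
      intro j _
      show h z j * _ = _ * h z j
      rw [mul_comm]
    have hzero : ∀ j, ∑ i, ((nn j : N) : Fin k → A) i • m i = 0 := by
      intro j
      have := (nn j).2
      rw [LinearMap.mem_ker] at this
      rw [← this]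
      show _ = Fintype.linearCombination A m _
      rw [Fintype.linearCombination_apply]
    calc ∑ i, m i ⊗ₜ[A] g i
        = ∑ i, ∑ j, (((nn j : N) : Fin k → A) i • m i) ⊗ₜ[A]
            (⟨fun z => h z j, hjdec j⟩ : decaying I Z A) := by
          apply Finset.sum_congr rfl
          intro i _
          rw [hg i, TensorProduct.tmul_sum]
          apply Finset.sum_congr rfl
          intro j _
          rw [TensorProduct.tmul_smul, TensorProduct.smul_tmul']
      _ = ∑ j, (∑ i, ((nn j : N) : Fin k → A) i • m i) ⊗ₜ[A]
            (⟨fun z => h z j, hjdec j⟩ : decaying I Z A) := by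
          rw [Finset.sum_comm]
          apply Finset.sum_congr rfl
          intro j _
          rw [TensorProduct.sum_tmul]
      _ = 0 := by
          apply Finset.sum_eq_zero
          intro j _
          rw [hzero j, TensorProduct.zero_tmul]
  · apply le_antisymm
    · rintro _ ⟨ξ, rfl⟩
      obtain ⟨g, rfl⟩ := hrep ξ
      rw [hTsum]
      have : (fun z => ∑ i, ((g i : decaying I Z A) : Z → A) z • m i) =
          ∑ i, (fun z => ((g i : decaying I Z A) : Z → A) z • m i) := by
        funext z; rw [Finset.sum_apply]
      rw [this]
      apply Submodule.sum_mem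
      intro i _ n
      refine ((g i).2 n).subset ?_
      intro z hz
      simp only [Set.mem_ofPred_eq] at hz ⊢
      intro hmem
      apply hz
      exact Submodule.smul_mem_smul ((hIA n _).1 hmem) Submodule.mem_top
    · intro f hf
      obtain ⟨c, hcdec, hc⟩ := H8Dec.lift_decaying I Z π hπ f hf
      have hjdec := hcomp k c hcdec
      refine ⟨∑ i, m i ⊗ₜ[A] (⟨fun z => c z i, hjdec i⟩ : decaying I Z A), ?_⟩
      rw [hTsum]
      funext z
      rw [← hc z]
      show _ = Fintype.linearCombination A m (c z)
      rw [Fintype.linearCombination_apply]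

end Groth.Agent.S17543
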