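import Groth.Statements.S17544
import Mathlib

set_option autoImplicit false
universe u v w
open W4c5adicflatcompl
open CAlg

namespace Groth.Agent.S17544

/-- For a Noetherian ring A which is I-adically complete, a set Z and n ≥ 0, reduction modulo I^n maps
the decaying functions Z → A onto the finitely supported functions Z → A/I^n, and its kernel, the
decaying functions with all values in I^n, equals I^n times the module of decaying functions; so
(A/I^n) ⊗ F_dec(Z, A) → F_fin(Z, A/I^n) is bijective. -/
theorem result {A : Type u} [CommRing A] [IsNoetherianRing A]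
    (I : Ideal A) [IsAdicComplete I A] (Z : Type v) (n : ℕ) :
    (∀ g : Z →₀ A ⧸ I ^ n, ∃ f : decaying I Z A,
        ∀ z, Ideal.Quotient.mk (I ^ n) ((f : Z → A) z) = g z) ∧
      ∀ f : decaying I Z A,
        f ∈ (I ^ n • ⊤ : Submodule A (decaying I Z A)) ↔ ∀ z, (f : Z → A) z ∈ I ^ n := by
  classical
  constructor
  · intro g
    have hlift : ∀ z, ∃ a : A, Ideal.Quotient.mk (I ^ n) a = g z ∧ (g z = 0 → a = 0) := by
      intro z
      by_cases hz : g z = 0
      · exact ⟨0, by rw [map_zero, hz], fun _ => rfl⟩
      · obtain ⟨a, ha⟩ := Ideal.Quotient.mk_surjective (g z)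
        exact ⟨a, ha, fun h => absurd h hz⟩
    choose a ha1 ha2 using hlift
    refine ⟨⟨a, ?_⟩, ha1⟩
    intro m
    refine (g.support.finite_toSet).subset ?_
    intro z hz
    simp only [Set.mem_ofPred_eq] at hz
    simp only [Finset.mem_coe, Finsupp.mem_support_iff]
    intro h0
    apply hz
    rw [ha2 z h0]
    exact Submodule.zero_mem _
  · intro f
    constructor
    · intro hf z
      refine Submodule.smul_induction_on hf (fun r hr h _ => ?_) (fun x y hx hy => ?_)
      · change r • (h : Z → A) z ∈ I ^ n
        rw [smul_eq_mul]
        exact Ideal.mul_mem_right _ _ hr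
      · change (x : Z → A) z + (y : Z → A) z ∈ I ^ n
        exact Ideal.add_mem _ hx hy
    · intro hf
      obtain ⟨s, hs⟩ := (IsNoetherian.noetherian (I ^ n) : (I ^ n).FG)
      have hHaus : (⨅ i : ℕ, I ^ i • ⊤ : Submodule A A) = ⊥ :=
        Ideal.iInf_pow_smul_eq_bot_of_le_jacobson I (IsAdicComplete.le_jacobson_bot I)
      have hpow : ∀ m : ℕ, I ^ (n + m) = I ^ m • Submodule.span A (Set.range (Subtype.val : s → A)) := by
        intro m
        rw [Subtype.range_coe, show Submodule.span A (s : Set A) = I ^ n from hs, smul_eq_mul,
          ← pow_add, add_comm]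
      have hanti : ∀ {a b : ℕ}, a ≤ b → I ^ b ≤ I ^ a := fun h => Ideal.pow_le_pow_right h
      have key : ∀ z, ∃ c : s → A, (f : Z → A) z = ∑ i : s, c i * (i : A) ∧
          ∀ m : ℕ, (f : Z → A) z ∈ I ^ (n + m) → ∀ i, c i ∈ I ^ m := by
        intro z
        by_cases hz : (f : Z → A) z = 0
        · exact ⟨fun _ => 0, by simp [hz], fun m _ i => Ideal.zero_mem _⟩
        · have hex : ∃ m : ℕ, (f : Z → A) z ∉ I ^ (n + m) := by
            by_contra hall
            push Not at hall
            apply hz
            have : (f : Z → A) z ∈ (⨅ i : ℕ, I ^ i • ⊤ : Submodule A A) := by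
              rw [Submodule.mem_iInf]
              intro i
              rw [smul_eq_mul, Ideal.mul_top]
              exact hanti (by omega : i ≤ n + i) (hall i)
            rw [hHaus] at this
            exact (Submodule.mem_bot A).1 this
          let m₀ := Nat.find hex
          have hm₀ : (f : Z → A) z ∉ I ^ (n + m₀) := Nat.find_spec hex
          have hm₀pos : m₀ ≠ 0 := by
            intro h0
            apply hm₀
            rw [h0, add_zero]
            exact hf z
          have hprev : (f : Z → A) z ∈ I ^ (n + (m₀ - 1)) := by
            by_contra hnot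
            exact Nat.find_min hex (by omega : m₀ - 1 < m₀) hnot
          rw [hpow, Submodule.mem_ideal_smul_span_iff_exists_sum] at hprev
          obtain ⟨c, hc, hsum⟩ := hprev
          refine ⟨fun i => c i, ?_, fun m hm i => ?_⟩
          · rw [← hsum, Finsupp.sum_fintype _ _ (fun i => by simp)]
            rfl
          · have hlt : m < m₀ := by
              by_contra hge
              push Not at hge
              exact hm₀ (hanti (by omega : n + m₀ ≤ n + m) hm)
            exact hanti (by omega : m ≤ m₀ - 1) (hc i)
      choose c hc1 hc2 using key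
      have hdec : ∀ i : s, (fun z => c z i) ∈ W4c5adicflatcompl.decaying I Z A := by
        intro i m
        refine (f.2 (n + m)).subset ?_
        intro z hz
        simp only [Set.mem_ofPred_eq] at hz ⊢
        intro hmem
        apply hz
        rw [smul_eq_mul, Ideal.mul_top] at hmem ⊢
        exact hc2 z m hmem i
      have hfeq : f = ∑ i : s, (i : A) • (⟨fun z => c z i, hdec i⟩ : W4c5adicflatcompl.decaying I Z A) := by
        apply Subtype.ext
        funext z
        rw [Submodule.coe_sum, Finset.sum_apply, hc1 z]
        apply Finset.sum_congr rfl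
        intro i _
        change c z i * (i : A) = (i : A) • c z i
        rw [smul_eq_mul, mul_comm]
      rw [hfeq]
      apply Submodule.sum_mem
      intro i _
      apply Submodule.smul_mem_smul _ Submodule.mem_top
      rw [← hs]
      exact Submodule.subset_span i.2

end Groth.Agent.S17544
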