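import Groth.Statements.S17545
import Mathlib
import Groth.Agent.S17543

set_option autoImplicit false
universe u v w
open W4c5adicflatcompl
open CAlg

namespace Groth.Agent.S17545

/-- For a Noetherian ring A which is I-adically complete and any set Z, the A-module of I-adically
decaying functions Z → A is flat. -/
theorem result {A : Type u} [CommRing A] [IsNoetherianRing A]
    (I : Ideal A) [IsAdicComplete I A] (Z : Type v) :
    Module.Flat A (decaying I Z A) := by
  rw [Module.Flat.iff_rTensor_injective']
  intro J
  have hJ := (Groth.Agent.S17543.result I Z J).1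
  set TJ := (TensorProduct.piScalarRightHom A A J Z) ∘ₗ ((decaying I Z A).subtype.lTensor J) with hTJ
  set TA := (TensorProduct.piScalarRightHom A A A Z) ∘ₗ ((decaying I Z A).subtype.lTensor A) with hTA
  have hcomm : TA ∘ₗ (J.subtype.rTensor (decaying I Z A)) = (J.subtype.compLeft Z) ∘ₗ TJ := by
    apply TensorProduct.ext'
    intro j g
    show TA ((J.subtype.rTensor _) (j ⊗ₜ[A] g)) = (J.subtype.compLeft Z) (TJ (j ⊗ₜ[A] g))
    rw [LinearMap.rTensor_tmul, hTA, hTJ,
      LinearMap.comp_apply, LinearMap.comp_apply, LinearMap.lTensor_tmul, LinearMap.lTensor_tmul,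
      TensorProduct.piScalarRightHom_tmul, TensorProduct.piScalarRightHom_tmul]
    funext z
    rfl
  intro x y hxy
  apply hJ
  have h2 : ∀ w, TA ((J.subtype.rTensor (decaying I Z A)) w) = (J.subtype.compLeft Z) (TJ w) :=
    fun w => LinearMap.congr_fun hcomm w
  have h1 : (J.subtype.compLeft Z) (TJ x) = (J.subtype.compLeft Z) (TJ y) := by
    rw [← h2, ← h2, hxy]
  funext z
  apply Subtype.ext
  exact congrFun h1 z

end Groth.Agent.S17545
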