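import Groth.Statements.S17546
import Mathlib
import Groth.Agent.S17544
import Groth.Agent.S17536

set_option autoImplicit false
universe u v w
open W4c5adicflatcompl
open CAlg

namespace Groth.Agent.S17546

/-- For a Noetherian ring A which is I-adically complete and any set Z, the A-module of I-adically
decaying functions Z → A is I-adically complete. -/
theorem result {A : Type u} [CommRing A] [IsNoetherianRing A]
    (I : Ideal A) [IsAdicComplete I A] (Z : Type v) :
    IsAdicComplete I (decaying I Z A) := by
  have hH : IsHausdorff I (decaying I Z A) := Groth.Agent.S17536.result I Z A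
  have hP : IsPrecomplete I (decaying I Z A) := by
    constructor
    intro f hf
    have hmemA : ∀ (n : ℕ) (a : A), a ∈ (I ^ n • ⊤ : Submodule A A) ↔ a ∈ I ^ n := by
      intro n a
      rw [smul_eq_mul, Ideal.mul_top]
    -- pointwise Cauchy
    have hpt : ∀ z n n', n ≤ n' → ((f n : decaying I Z A) : Z → A) z - ((f n' : decaying I Z A) : Z → A) z ∈ I ^ n := by
      intro z n n' hnn'
      have h1 := hf hnn'
      rw [SModEq.sub_mem] at h1
      exact ((Groth.Agent.S17544.result I Z n).2 (f n - f n')).mp h1 z
    have hlim : ∀ z, ∃ Lz : A, ∀ n, ((f n : decaying I Z A) : Z → A) z - Lz ∈ I ^ n := by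
      intro z
      obtain ⟨Lz, hLz⟩ := IsPrecomplete.prec' (I := I) (fun n => ((f n : decaying I Z A) : Z → A) z) (by
        intro n n' hnn'
        rw [SModEq.sub_mem, hmemA]
        exact hpt z n n' hnn')
      refine ⟨Lz, fun n => ?_⟩
      have := hLz n
      rwa [SModEq.sub_mem, hmemA] at this
    choose L hL using hlim
    have hLdec : L ∈ decaying I Z A := by
      intro n
      refine ((f n).2 n).subset ?_
      intro z hz
      simp only [Set.mem_ofPred_eq] at hz ⊢
      intro hmem
      apply hz
      rw [hmemA] at hmem ⊢
      have := hL z n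
      have h2 : L z = ((f n : decaying I Z A) : Z → A) z - (((f n : decaying I Z A) : Z → A) z - L z) := by ring
      rw [h2]
      exact Ideal.sub_mem _ hmem this
    refine ⟨⟨L, hLdec⟩, fun n => ?_⟩
    rw [SModEq.sub_mem]
    apply ((Groth.Agent.S17544.result I Z n).2 _).mpr
    intro z
    exact hL z n
  exact { toIsHausdorff := hH, toIsPrecomplete := hP }

end Groth.Agent.S17546
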