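import Groth.Statements.S17548
import Mathlib
import Groth.Agent.H8Dec

set_option autoImplicit false
universe u v w
open W4c5adicflatcompl
open CAlg

namespace Groth.Agent.S17548

/-- For a Noetherian ring A with I-adic completion Â, a set Z, an I-adically complete A-module M and any
function f : Z → M, there is a unique A-linear map from the module of I-adically decaying functions
Z → Â to M taking, for every z, the function supported at z with value 1 to f z. -/
theorem result {A : Type u} [CommRing A] [IsNoetherianRing A]
    (I : Ideal A) (Z : Type v) [DecidableEq Z] (M : Type w) [AddCommGroup M] [Module A M]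
    [IsAdicComplete I M] (f : Z → M) :
    ∃! φ : decaying I Z (AdicCompletion I A) →ₗ[A] M,
      ∀ z, φ (single I z (1 : AdicCompletion I A)) = f z := by
  classical
  have hfg : I.FG := IsNoetherian.noetherian I
  have hAc : IsAdicComplete I (AdicCompletion I A) :=
    AdicCompletion.isAdicComplete (I := I) (M := A) hfg
  -- density of A in its completion
  have hdense : ∀ (n : ℕ) (r : AdicCompletion I A), ∃ a : A,
      r - AdicCompletion.of I A a ∈ (I ^ n • ⊤ : Submodule A (AdicCompletion I A)) := by
    intro n r
    obtain ⟨a, ha⟩ := Submodule.mkQ_surjective _ (AdicCompletion.eval I A n r)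
    refine ⟨a, ?_⟩
    rw [AdicCompletion.pow_smul_top_eq_ker_eval hfg, LinearMap.mem_ker, map_sub,
      AdicCompletion.eval_of, ha, sub_self]
  let ψ : Z → AdicCompletion I A →ₗ[A] M := fun z =>
    (AdicCompletion.ofLinearEquiv I M).symm.toLinearMap ∘ₗ
      (AdicCompletion.map I (LinearMap.toSpanSingleton A M (f z))).restrictScalars A
  have hψ1 : ∀ z, ψ z 1 = f z := by
    intro z
    show (AdicCompletion.ofLinearEquiv I M).symm
      (AdicCompletion.map I (LinearMap.toSpanSingleton A M (f z)) 1) = f z
    have h1 : (1 : AdicCompletion I A) = AdicCompletion.of I A 1 := by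
      ext n
      simp
    rw [h1, AdicCompletion.map_of, AdicCompletion.ofLinearEquiv_symm_of,
      LinearMap.toSpanSingleton_apply, one_smul]
  obtain ⟨φ, hφ⟩ := H8Dec.exists_sum_map (I := I) (Z := Z) (M := M) ψ
  have hφs : ∀ z, φ (single I z (1 : AdicCompletion I A)) = f z := by
    intro z
    rw [← hψ1 z, ← sub_eq_zero]
    apply IsHausdorff.haus' (I := I)
    intro n
    rw [SModEq.zero]
    obtain ⟨S, h1, h2⟩ := hφ (single I z (1 : AdicCompletion I A)) n
    have hsum : ∑ w ∈ S, ψ w (((single I z (1 : AdicCompletion I A)) : Z → AdicCompletion I A) w) =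
        if z ∈ S then ψ z 1 else 0 := by
      rw [coe_single]
      by_cases hz : z ∈ S
      · rw [if_pos hz, Finset.sum_eq_single z]
        · rw [Pi.single_eq_same]
        · intro w _ hwz
          rw [Pi.single_eq_of_ne hwz, map_zero]
        · intro h; exact absurd hz h
      · rw [if_neg hz]
        apply Finset.sum_eq_zero
        intro w hw
        have : w ≠ z := fun h => hz (h ▸ hw)
        rw [Pi.single_eq_of_ne this, map_zero]
    rw [hsum] at h2
    by_cases hz : z ∈ S
    · rw [if_pos hz] at h2
      exact h2
    · rw [if_neg hz, sub_zero] at h2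
      have h3 := h1 z hz
      rw [coe_single, Pi.single_eq_same] at h3
      exact Submodule.sub_mem _ h2 h3
  refine ⟨φ, hφs, ?_⟩
  intro φ' hφ'
  -- uniqueness
  have hlin : ∀ (χ : decaying I Z (AdicCompletion I A) →ₗ[A] M) (n : ℕ)
      (g : decaying I Z (AdicCompletion I A)),
      g ∈ (I ^ n • ⊤ : Submodule A (decaying I Z (AdicCompletion I A))) →
      χ g ∈ (I ^ n • ⊤ : Submodule A M) := by
    intro χ n g hg
    refine Submodule.smul_induction_on hg (fun r hr w _ => ?_) (fun a b ha hb => ?_)
    · rw [map_smul]
      exact Submodule.smul_mem_smul hr Submodule.mem_top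
    · rw [map_add]
      exact Submodule.add_mem _ ha hb
  let δ := φ' - φ
  have hδ1 : ∀ z, δ (single I z (1 : AdicCompletion I A)) = 0 := by
    intro z
    show φ' _ - φ _ = 0
    rw [hφ' z, hφs z, sub_self]
  have hsingle_mem : ∀ (n : ℕ) (z : Z) (r : AdicCompletion I A),
      r ∈ (I ^ n • ⊤ : Submodule A (AdicCompletion I A)) →
      single I z r ∈ (I ^ n • ⊤ : Submodule A (decaying I Z (AdicCompletion I A))) := by
    intro n z r hr
    rw [H8Dec.mem_pow_smul_top_iff]
    intro w
    rw [coe_single]
    by_cases hwz : w = z
    · subst hwz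
      rw [Pi.single_eq_same]
      exact hr
    · rw [Pi.single_eq_of_ne hwz]
      exact Submodule.zero_mem _
  have hsingle_add : ∀ (z : Z) (r r' : AdicCompletion I A),
      single I z (r + r') = single I z r + single I z r' := by
    intro z r r'
    apply Subtype.ext
    funext w
    show (Pi.single z (r + r') : Z → AdicCompletion I A) w =
      (Pi.single z r : Z → AdicCompletion I A) w + (Pi.single z r' : Z → AdicCompletion I A) w
    by_cases h : w = z
    · subst h; simp
    · simp [Pi.single_eq_of_ne h]
  have hsingle_smul : ∀ (z : Z) (a : A) (r : AdicCompletion I A),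
      single I z (a • r) = a • single I z r := by
    intro z a r
    apply Subtype.ext
    funext w
    show (Pi.single z (a • r) : Z → AdicCompletion I A) w =
      a • (Pi.single z r : Z → AdicCompletion I A) w
    by_cases h : w = z
    · subst h; simp
    · simp [Pi.single_eq_of_ne h]
  have hone : (1 : AdicCompletion I A) = AdicCompletion.of I A 1 := by
    ext n
    simp
  have hofa : ∀ a : A, AdicCompletion.of I A a = a • (1 : AdicCompletion I A) := by
    intro a
    conv_lhs => rw [← mul_one a, ← smul_eq_mul, map_smul, ← hone]
  have hδs : ∀ (z : Z) (r : AdicCompletion I A), δ (single I z r) = 0 := by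
    intro z r
    apply IsHausdorff.haus' (I := I)
    intro n
    rw [SModEq.zero]
    obtain ⟨a, ha⟩ := hdense n r
    have h1 : r = a • (1 : AdicCompletion I A) + (r - AdicCompletion.of I A a) := by
      rw [hofa]; abel
    rw [h1, hsingle_add, hsingle_smul, map_add, map_smul, hδ1, smul_zero, zero_add]
    exact hlin δ n _ (hsingle_mem n z _ ha)
  -- conclude
  apply LinearMap.ext
  intro g
  have hg0 : δ g = 0 := by
    apply IsHausdorff.haus' (I := I)
    intro n
    rw [SModEq.zero]
    let S : Finset Z := (g.2 n).toFinset
    let g1 : decaying I Z (AdicCompletion I A) := ∑ z ∈ S, single I z ((g : Z → AdicCompletion I A) z)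
    have hg1 : δ g1 = 0 := by
      rw [map_sum]
      exact Finset.sum_eq_zero (fun z _ => hδs z _)
    have hg2 : g - g1 ∈ (I ^ n • ⊤ : Submodule A (decaying I Z (AdicCompletion I A))) := by
      rw [H8Dec.mem_pow_smul_top_iff]
      intro w
      have hval : ((g - g1 : decaying I Z (AdicCompletion I A)) : Z → AdicCompletion I A) w =
          (g : Z → AdicCompletion I A) w - ∑ z ∈ S, (Pi.single z ((g : Z → AdicCompletion I A) z) : Z → AdicCompletion I A) w := by
        show (g : Z → AdicCompletion I A) w - ((g1 : decaying I Z (AdicCompletion I A)) : Z → AdicCompletion I A) w = _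
        congr 1
        show ((∑ z ∈ S, single I z ((g : Z → AdicCompletion I A) z) : decaying I Z (AdicCompletion I A)) : Z → AdicCompletion I A) w = _
        rw [Submodule.coe_sum, Finset.sum_apply]
        rfl
      rw [hval]
      by_cases hw : w ∈ S
      · rw [Finset.sum_eq_single w, Pi.single_eq_same, sub_self]
        · exact Submodule.zero_mem _
        · intro z _ hzw
          exact Pi.single_eq_of_ne hzw.symm _
        · intro h; exact absurd hw h
      · rw [Finset.sum_eq_zero, sub_zero]
        · by_contra hmem
          exact hw ((Set.Finite.mem_toFinset _).mpr hmem)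
        · intro z hz
          have : w ≠ z := fun h => hw (h ▸ hz)
          exact Pi.single_eq_of_ne this _
    have : δ g = δ (g - g1) := by rw [map_sub, hg1, sub_zero]
    rw [this]
    exact hlin δ n _ hg2
  have : φ' g - φ g = 0 := hg0
  exact sub_eq_zero.mp this

end Groth.Agent.S17548
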