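import Groth.Statements.S17552
import Mathlib
import Groth.Agent.H8Dec
import Groth.Agent.S17545

set_option autoImplicit false
universe u
open W4c5adicflatcompl
open CAlg

namespace Groth.Agent.S17552

/-- For a complete Noetherian local ring A (maximal ideal m, m-adic completion Â), an A-module M is
isomorphic to the module of m-adically decaying functions Z → Â for some set Z (m-adically free)
exactly when M is flat and m-adically complete. M and Z live in the universe of A. -/
theorem result {A : Type u} [CommRing A] [IsNoetherianRing A] [IsLocalRing A]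
    [IsAdicComplete (IsLocalRing.maximalIdeal A) A]
    (M : Type u) [AddCommGroup M] [Module A M] :
    IsAdicFree (IsLocalRing.maximalIdeal A) M ↔
      Module.Flat A M ∧ IsAdicComplete (IsLocalRing.maximalIdeal A) M := by
  classical
  set m := IsLocalRing.maximalIdeal A with hm
  have eA : A ≃ₗ[A] AdicCompletion m A := AdicCompletion.ofLinearEquiv m A
  have hHausA : IsHausdorff m A := inferInstance
  constructor
  · rintro ⟨Z, ⟨e⟩⟩
    have e2 : decaying m Z A ≃ₗ[A] decaying m Z (AdicCompletion m A) :=
      H8Dec.decayingCongr m Z eA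
    have e3 : M ≃ₗ[A] decaying m Z A := e.trans e2.symm
    have hflat : Module.Flat A (decaying m Z A) := Groth.Agent.S17545.result m Z
    have hcomp : IsAdicComplete m (decaying m Z A) := H8Dec.isAdicComplete_decaying
    exact ⟨Module.Flat.of_linearEquiv e3,
      H8Dec.isAdicComplete_of_retract m e3.toLinearMap e3.symm.toLinearMap
        (fun x => e3.symm_apply_apply x)⟩
  · rintro ⟨hflat, hcomp⟩
    let _ : Field (A ⧸ m) := Ideal.Quotient.field m
    let V := M ⧸ (m • ⊤ : Submodule A M)
    let b := Module.Basis.ofVectorSpace (A ⧸ m) V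
    let Z := Module.Basis.ofVectorSpaceIndex (A ⧸ m) V
    have hx : ∀ z : Z, ∃ y : M, (Submodule.Quotient.mk y : V) = b z :=
      fun z => Submodule.Quotient.mk_surjective _ _
    choose x hx using hx
    obtain ⟨φ, hφ⟩ := H8Dec.exists_map_single m Z x
    have F1 : ∀ (S : Finset Z) (c : Z → A),
        (∑ z ∈ S, c z • x z) ∈ (m • ⊤ : Submodule A M) → ∀ z ∈ S, c z ∈ m := by
      intro S c hmem z hz
      have h0 : (Submodule.Quotient.mk (∑ z ∈ S, c z • x z) : V) = 0 :=
        (Submodule.Quotient.mk_eq_zero _).2 hmem
      have h1 : ∑ z ∈ S, (Ideal.Quotient.mk m (c z)) • b z = 0 := by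
        rw [← h0, ← Submodule.mkQ_apply, map_sum]
        apply Finset.sum_congr rfl
        intro w _
        rw [← hx w]
        rfl
      have := linearIndependent_iff'.1 b.linearIndependent S
        (fun z => Ideal.Quotient.mk m (c z)) h1 z hz
      exact Ideal.Quotient.eq_zero_iff_mem.1 this
    have hsurj_mod : Function.Surjective ((Submodule.mkQ (m • ⊤ : Submodule A M)) ∘ₗ φ) := by
      intro v
      choose c hc using fun r : A ⧸ m => Ideal.Quotient.mk_surjective r
      refine ⟨∑ z ∈ (b.repr v).support, single m z (c (b.repr v z)), ?_⟩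
      rw [LinearMap.comp_apply, map_sum, map_sum]
      conv_rhs => rw [← b.linearCombination_repr v, Finsupp.linearCombination_apply, Finsupp.sum]
      apply Finset.sum_congr rfl
      intro z _
      have h1 : (b.repr v z) • (b z) = (Ideal.Quotient.mk m (c (b.repr v z))) •
          (Submodule.Quotient.mk (x z) : V) := by rw [hc, hx]
      rw [h1, hφ]
      rfl
    have hHausD : IsHausdorff m (decaying m Z A) := H8Dec.isHausdorff_decaying
    have hcompD : IsAdicComplete m (decaying m Z A) := H8Dec.isAdicComplete_decaying
    have hsurj : Function.Surjective φ := surjective_of_mkQ_comp_surjective (I := m) hsurj_mod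
    set K := LinearMap.ker φ with hK
    have I1 : K ≤ (m • ⊤ : Submodule A (decaying m Z A)) := by
      intro g hg
      have hg0 : φ g = 0 := hg
      have hpow1 : (m ^ 1 • ⊤ : Submodule A (decaying m Z A)) = m • ⊤ := by rw [pow_one]
      rw [← hpow1, H8Dec.mem_pow_smul_top_iff]
      intro z
      by_contra hz
      set S := (g.2 1).toFinset with hS
      have hzS : z ∈ S := (Set.Finite.mem_toFinset _).2 hz
      have h1 := H8Dec.sub_sum_single_mem m Z g 1
      have h2 := H8Dec.map_mem_pow_smul_top m φ 1 _ h1
      rw [map_sub, hg0, zero_sub, map_sum] at h2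
      have h3 : ∑ w ∈ S, (g : Z → A) w • x w ∈ (m • ⊤ : Submodule A M) := by
        have h5 : ∑ w ∈ S, φ (single m w ((g : Z → A) w)) = ∑ w ∈ S, (g : Z → A) w • x w :=
          Finset.sum_congr rfl (fun w _ => hφ w _)
        rw [← h5]
        have h6 := Submodule.neg_mem _ h2
        rw [neg_neg] at h6
        have h7 : (m ^ 1 • ⊤ : Submodule A M) = m • ⊤ := by rw [pow_one]
        rw [← h7]
        exact h6
      have h4 := F1 S (fun w => (g : Z → A) w) h3 z hzS
      apply hz
      rw [pow_one, smul_eq_mul, Ideal.mul_top]
      exact h4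
    have I2 : K ⊓ (m • ⊤ : Submodule A (decaying m Z A)) ≤ m • K := by
      rintro g ⟨hgK, hgm⟩
      obtain ⟨s, hs⟩ := (IsNoetherian.noetherian m : m.FG)
      have hgm' : g ∈ (Submodule.span A (s : Set A) : Ideal A) •
          (⊤ : Submodule A (decaying m Z A)) := by
        rw [hs]
        exact hgm
      obtain ⟨h, -, hsum⟩ := H8Dec.exists_coeffs (decaying m Z A) s ⊤ g hgm'
      have hrel : ∑ i : s, (i : A) • φ (h i) = 0 := by
        have h7 : φ g = 0 := hgK
        rw [hsum, map_sum] at h7
        rw [← h7]
        apply Finset.sum_congr rfl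
        intro i _
        rw [map_smul]
      obtain ⟨κ, a, y, hy1, hy2⟩ := Module.Flat.isTrivialRelation_of_sum_smul_eq_zero hrel
      have hy1' : ∀ i : s, φ (h i) = ∑ j, a i j • y j := hy1
      choose u hu using fun j => hsurj (y j)
      have hk : ∀ i : s, h i - ∑ j, a i j • u j ∈ K := by
        intro i
        show φ _ = 0
        rw [map_sub, map_sum, hy1' i, sub_eq_zero]
        apply Finset.sum_congr rfl
        intro j _
        rw [map_smul, hu]
      have hg2 : g = ∑ i : s, (i : A) • (h i - ∑ j, a i j • u j) := by
        rw [hsum]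
        have h8 : ∑ i : s, (i : A) • (h i - ∑ j, a i j • u j) =
            ∑ i : s, (i : A) • h i - ∑ j, (∑ i : s, (i : A) * a i j) • u j := by
          simp only [smul_sub, Finset.sum_sub_distrib, Finset.smul_sum, Finset.sum_smul, mul_smul]
          congr 1
          rw [Finset.sum_comm]
        rw [h8]
        simp only [hy2, zero_smul, Finset.sum_const_zero, sub_zero]
      rw [hg2]
      apply Submodule.sum_mem
      intro i _
      apply Submodule.smul_mem_smul _ (hk i)
      rw [← hs]
      exact Submodule.subset_span i.2
    have hKm : K ≤ m • K := fun g hg => I2 ⟨hg, I1 hg⟩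
    have hKpow : ∀ n : ℕ, K ≤ m ^ n • K := by
      intro n
      induction n with
      | zero => rw [pow_zero, Ideal.one_eq_top, Submodule.top_smul]
      | succ n ih =>
        calc K ≤ m ^ n • K := ih
          _ ≤ m ^ n • (m • K) := Submodule.smul_mono le_rfl hKm
          _ = m ^ (n + 1) • K := by rw [← Submodule.mul_smul, pow_succ]
    have hinj : Function.Injective φ := by
      rw [← LinearMap.ker_eq_bot, eq_bot_iff]
      intro g hg
      rw [Submodule.mem_bot]
      apply IsHausdorff.haus' (I := m)
      intro n
      rw [SModEq.zero]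
      exact Submodule.smul_mono le_rfl le_top (hKpow n hg)
    exact ⟨Z, ⟨(LinearEquiv.ofBijective φ ⟨hinj, hsurj⟩).symm.trans
      (H8Dec.decayingCongr m Z eA)⟩⟩

end Groth.Agent.S17552
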