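import Groth.Statements.S17553
import Mathlib

set_option autoImplicit false
universe u v w
open W4c5adicflatcompl
open CAlg

namespace Groth.Agent.S17553

/-- Let A be I-adically complete, M an I-adically complete A-module, Z a set and f : Z → M a function.
There is an A-linear map from the I-adically decaying functions Z → A to M whose value on g is the
I-adically convergent sum of the g z • f z. -/
theorem result {A : Type u} [CommRing A] (I : Ideal A) [IsAdicComplete I A]
    (Z : Type v) (M : Type w) [AddCommGroup M] [Module A M] [IsAdicComplete I M] (f : Z → M) :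
    ∃ φ : decaying I Z A →ₗ[A] M, ∀ (g : decaying I Z A) (n : ℕ), ∃ S : Finset Z,
      (∀ z, z ∉ S → (g : Z → A) z • f z ∈ (I ^ n • ⊤ : Submodule A M)) ∧
      φ g - (∑ z ∈ S, (g : Z → A) z • f z) ∈ (I ^ n • ⊤ : Submodule A M) := by
  classical
  -- N n = I^n • ⊤
  let N : ℕ → Submodule A M := fun n => (I ^ n • ⊤ : Submodule A M)
  let P : (Z → A) → M → Prop := fun g x => ∀ n : ℕ, ∃ S : Finset Z,
      (∀ z, z ∉ S → g z • f z ∈ N n) ∧ x - (∑ z ∈ S, g z • f z) ∈ N n
  -- enlarging S
  have hmono : ∀ (g : Z → A) (x : M) (n : ℕ) (S T : Finset Z), S ⊆ T →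
      (∀ z, z ∉ S → g z • f z ∈ N n) → x - (∑ z ∈ S, g z • f z) ∈ N n →
      (∀ z, z ∉ T → g z • f z ∈ N n) ∧ x - (∑ z ∈ T, g z • f z) ∈ N n := by
    intro g x n S T hST h1 h2
    refine ⟨fun z hz => h1 z (fun h => hz (hST h)), ?_⟩
    have h3 : ∑ z ∈ T, g z • f z = ∑ z ∈ T \ S, g z • f z + ∑ z ∈ S, g z • f z :=
      (Finset.sum_sdiff hST).symm
    have h4 : ∑ z ∈ T \ S, g z • f z ∈ N n :=
      Submodule.sum_mem _ (fun z hz => h1 z (Finset.mem_sdiff.mp hz).2)
    have : x - ∑ z ∈ T, g z • f z = (x - ∑ z ∈ S, g z • f z) - ∑ z ∈ T \ S, g z • f z := by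
      rw [h3]; abel
    rw [this]
    exact Submodule.sub_mem _ h2 h4
  -- uniqueness
  have huniq : ∀ (g : Z → A) (x x' : M), P g x → P g x' → x = x' := by
    intro g x x' hx hx'
    rw [← sub_eq_zero]
    apply IsHausdorff.haus' (I := I)
    intro n
    rw [SModEq.zero]
    obtain ⟨S, h1, h2⟩ := hx n
    obtain ⟨S', h1', h2'⟩ := hx' n
    have a1 := (hmono g x n S (S ∪ S') Finset.subset_union_left h1 h2).2
    have a2 := (hmono g x' n S' (S ∪ S') Finset.subset_union_right h1' h2').2
    have : x - x' = (x - ∑ z ∈ S ∪ S', g z • f z) - (x' - ∑ z ∈ S ∪ S', g z • f z) := by abel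
    rw [this]
    exact Submodule.sub_mem _ a1 a2
  -- existence
  have hex : ∀ g : decaying I Z A, ∃ x, P (g : Z → A) x := by
    intro g
    have hg := g.2
    have hmem : ∀ (n : ℕ) (a : A), a ∈ (I ^ n • ⊤ : Submodule A A) ↔ a ∈ I ^ n := by
      intro n a
      rw [smul_eq_mul, Ideal.mul_top]
    let S : ℕ → Finset Z := fun n => (hg n).toFinset
    have hS : ∀ n z, z ∉ S n → (g : Z → A) z • f z ∈ N n := by
      intro n z hz
      have : ¬ ((g : Z → A) z ∉ (I ^ n • ⊤ : Submodule A A)) := by
        intro h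
        exact hz ((Set.Finite.mem_toFinset _).mpr h)
      rw [not_not, hmem] at this
      exact Submodule.smul_mem_smul this Submodule.mem_top
    have hSmono : ∀ a b, a ≤ b → S a ⊆ S b := by
      intro a b hab z hz
      rw [Set.Finite.mem_toFinset] at hz ⊢
      intro h
      apply hz
      rw [hmem] at h ⊢
      exact Ideal.pow_le_pow_right hab h
    obtain ⟨L, hL⟩ := IsPrecomplete.prec' (I := I) (fun n => ∑ z ∈ S n, (g : Z → A) z • f z) (by
      intro a b hab
      rw [SModEq.sub_mem]
      have h3 : ∑ z ∈ S b, (g : Z → A) z • f z =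
          ∑ z ∈ S b \ S a, (g : Z → A) z • f z + ∑ z ∈ S a, (g : Z → A) z • f z :=
        (Finset.sum_sdiff (hSmono a b hab)).symm
      rw [h3, sub_add_cancel_right]
      apply Submodule.neg_mem
      exact Submodule.sum_mem _ (fun z hz => hS a z (Finset.mem_sdiff.mp hz).2))
    refine ⟨L, fun n => ⟨S n, hS n, ?_⟩⟩
    have := hL n
    rw [SModEq.sub_mem] at this
    have h5 : L - ∑ z ∈ S n, (g : Z → A) z • f z = -(∑ z ∈ S n, (g : Z → A) z • f z - L) := by abel
    rw [h5]
    exact Submodule.neg_mem _ this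
  choose φ hφ using hex
  have hadd : ∀ g g' : decaying I Z A, φ (g + g') = φ g + φ g' := by
    intro g g'
    apply huniq ((g + g' : decaying I Z A) : Z → A) _ _ (hφ (g + g'))
    intro n
    obtain ⟨S, h1, h2⟩ := hφ g n
    obtain ⟨S', h1', h2'⟩ := hφ g' n
    obtain ⟨b1, a1⟩ := hmono _ _ n S (S ∪ S') Finset.subset_union_left h1 h2
    obtain ⟨b2, a2⟩ := hmono _ _ n S' (S ∪ S') Finset.subset_union_right h1' h2'
    refine ⟨S ∪ S', ?_, ?_⟩
    · intro z hz
      show ((g : Z → A) z + (g' : Z → A) z) • f z ∈ N n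
      rw [add_smul]
      exact Submodule.add_mem _ (b1 z hz) (b2 z hz)
    · have : φ g + φ g' - ∑ z ∈ S ∪ S', ((g + g' : decaying I Z A) : Z → A) z • f z =
          (φ g - ∑ z ∈ S ∪ S', (g : Z → A) z • f z) + (φ g' - ∑ z ∈ S ∪ S', (g' : Z → A) z • f z) := by
        have : ∀ z, ((g + g' : decaying I Z A) : Z → A) z • f z =
            (g : Z → A) z • f z + (g' : Z → A) z • f z := fun z => add_smul _ _ _
        simp only [this, Finset.sum_add_distrib]
        abel
      rw [this]
      exact Submodule.add_mem _ a1 a2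
  have hsmul : ∀ (a : A) (g : decaying I Z A), φ (a • g) = a • φ g := by
    intro a g
    apply huniq ((a • g : decaying I Z A) : Z → A) _ _ (hφ (a • g))
    intro n
    obtain ⟨S, h1, h2⟩ := hφ g n
    refine ⟨S, ?_, ?_⟩
    · intro z hz
      show (a • (g : Z → A) z) • f z ∈ N n
      rw [smul_assoc]
      exact Submodule.smul_mem _ a (h1 z hz)
    · have : a • φ g - ∑ z ∈ S, ((a • g : decaying I Z A) : Z → A) z • f z =
          a • (φ g - ∑ z ∈ S, (g : Z → A) z • f z) := by
        have : ∀ z, ((a • g : decaying I Z A) : Z → A) z • f z = a • ((g : Z → A) z • f z) := by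
          intro z
          show (a • (g : Z → A) z) • f z = _
          rw [smul_assoc]
        simp only [this, ← Finset.smul_sum, smul_sub]
      rw [this]
      exact Submodule.smul_mem _ a h2
  exact ⟨{ toFun := φ, map_add' := hadd, map_smul' := hsmul }, fun g n => hφ g n⟩

end Groth.Agent.S17553
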