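import Groth.Statements.S17605
import Mathlib

set_option autoImplicit false
universe u
open Hensel

namespace Groth.Agent.S17605

/-- Let A be a ring with an ideal I and let f₁, f₂ be elements of A such that D(f₂) ∩ V(I) ⊆ D(f₁) ∩
V(I) in Spec A. If H₁ is a Henselization of the pair (A_{f₁}, IA_{f₁}) and H₂ a Henselization of the
pair (A_{f₂}, IA_{f₂}), with their induced A-algebra structures, then there is exactly one A-algebra
map H₁ → H₂. -/
theorem result (A : Type u) [CommRing A]
    (I : Ideal A) (f₁ f₂ : A)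
    (h : (PrimeSpectrum.basicOpen f₂ : Set (PrimeSpectrum A)) ∩ PrimeSpectrum.zeroLocus (I : Set A) ⊆
      (PrimeSpectrum.basicOpen f₁ : Set (PrimeSpectrum A)) ∩ PrimeSpectrum.zeroLocus (I : Set A))
    (H₁ : Type u) [CommRing H₁] [Algebra (Localization.Away f₁) H₁] [Algebra A H₁]
    [IsScalarTower A (Localization.Away f₁) H₁]
    (hH₁ : Hens2.IsPairHenselization (Localization.Away f₁)
      (I.map (algebraMap A (Localization.Away f₁))) H₁)
    (H₂ : Type u) [CommRing H₂] [Algebra (Localization.Away f₂) H₂] [Algebra A H₂]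
    [IsScalarTower A (Localization.Away f₂) H₂]
    (hH₂ : Hens2.IsPairHenselization (Localization.Away f₂)
      (I.map (algebraMap A (Localization.Away f₂))) H₂) :
    Nonempty (H₁ →ₐ[A] H₂) ∧ Subsingleton (H₁ →ₐ[A] H₂) := by
  classical
  obtain ⟨hens₂, -⟩ := hH₂
  obtain ⟨-, huniv⟩ := hH₁
  set J₂ : Ideal H₂ := (I.map (algebraMap A (Localization.Away f₂))).map
    (algebraMap (Localization.Away f₂) H₂) with hJ₂
  have hJ₂' : J₂ = I.map (algebraMap A H₂) := by
    rw [hJ₂, Ideal.map_map, ← IsScalarTower.algebraMap_eq]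
  -- f₂ is a unit in H₂
  have hu2 : IsUnit (algebraMap A H₂ f₂) := by
    rw [IsScalarTower.algebraMap_apply A (Localization.Away f₂) H₂]
    exact (IsLocalization.Away.algebraMap_isUnit f₂).map _
  -- f₁ is a unit in H₂
  have hu1 : IsUnit (algebraMap A H₂ f₁) := by
    by_contra hnu
    obtain ⟨M, hM, hfM⟩ := exists_max_ideal_of_mem_nonunits (mem_nonunits_iff.mpr hnu)
    have hJM : J₂ ≤ M := by
      refine le_trans hens₂.jac ?_
      rw [Ideal.jacobson_bot]
      exact Ring.jacobson_le_of_isMaximal M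
    set p : PrimeSpectrum A := ⟨M.comap (algebraMap A H₂), Ideal.comap_isPrime _ _⟩ with hp
    have hp2 : p ∈ (PrimeSpectrum.basicOpen f₂ : Set (PrimeSpectrum A)) := by
      rw [SetLike.mem_coe, PrimeSpectrum.mem_basicOpen]
      intro hmem
      have : algebraMap A H₂ f₂ ∈ M := hmem
      exact hM.ne_top (Ideal.eq_top_of_isUnit_mem _ this hu2)
    have hpI : p ∈ PrimeSpectrum.zeroLocus (I : Set A) := by
      rw [PrimeSpectrum.mem_zeroLocus]
      intro a ha
      have : algebraMap A H₂ a ∈ J₂ := by
        rw [hJ₂']; exact Ideal.mem_map_of_mem _ ha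
      exact hJM this
    have := (h ⟨hp2, hpI⟩).1
    rw [SetLike.mem_coe, PrimeSpectrum.mem_basicOpen] at this
    exact this hfM
  set L : Localization.Away f₁ →+* H₂ := IsLocalization.Away.lift f₁ hu1 with hL
  have hLcomp : L.comp (algebraMap A (Localization.Away f₁)) = algebraMap A H₂ :=
    IsLocalization.Away.lift_comp f₁ hu1
  have hle : (I.map (algebraMap A (Localization.Away f₁))).map L ≤ J₂ := by
    rw [Ideal.map_map, hLcomp, hJ₂']
  obtain ⟨g, hg, huniq⟩ := huniv H₂ J₂ L hens₂ hle
  have hcomp1 : (algebraMap (Localization.Away f₁) H₁).comp (algebraMap A (Localization.Away f₁))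
      = algebraMap A H₁ := (IsScalarTower.algebraMap_eq A (Localization.Away f₁) H₁).symm
  have key : ∀ φ : H₁ →ₐ[A] H₂, φ.toRingHom = g := by
    intro φ
    apply huniq
    apply IsLocalization.ringHom_ext (Submonoid.powers f₁)
    rw [RingHom.comp_assoc, hcomp1, hLcomp]
    ext a
    simp
  constructor
  · refine ⟨{ g with commutes' := ?_ }⟩
    intro a
    have : g (algebraMap A H₁ a) = algebraMap A H₂ a := by
      rw [← hcomp1, ← hLcomp, ← hg]
      rfl
    exact this
  · constructor
    intro φ ψ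
    have h1 := key φ
    have h2 := key ψ
    ext x
    have := congrArg (fun r : H₁ →+* H₂ => r x) (h1.trans h2.symm)
    exact this

end Groth.Agent.S17605
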