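import Groth.Statements.S17635
import Mathlib

set_option autoImplicit false
open Finset
open Variety

namespace Groth.Agent.S17635

/-- Let r and n be natural numbers and f : ℚ^r → ℝ a nonnegative function which is homogeneous of degree
n for positive rational scalars, f(q · v) = q^n · f(v) for q > 0; give ℚ^r the maximum norm ‖v‖ =
max_j |v_j| of its standard basis. Suppose that for every standard basis vector e_i there is a
constant C_i with |f(v − b · e_i) − f(v)| ≤ C_i · Σ_{q=1}^{n} ‖v‖^{n−q} · b^q for all v ∈ ℚ^r and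
all integers b ≥ 1. Then there is a constant C > 0 such that |f(v) − f(w)| ≤ C · Σ_{q=1}^{n}
max(‖v‖, ‖w‖)^{n−q} · ‖v − w‖^q for all v, w ∈ ℚ^r. (The source allows any norm on an r-dimensional
rational vector space with a chosen basis and argues with the maximum norm of that basis, which is
the case stated here.) -/
theorem result (r n : ℕ) (f : (Fin r → ℚ) → ℝ)
    (hf0 : ∀ v, 0 ≤ f v)
    (hhom : ∀ (q : ℚ) (v : Fin r → ℚ), 0 < q → f (q • v) = (q : ℝ) ^ n * f v)
    (hdir : ∀ i : Fin r, ∃ Ci : ℝ, ∀ (v : Fin r → ℚ) (b : ℕ), 1 ≤ b →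
      |f (v - (b : ℚ) • Pi.single i 1) - f v| ≤
        Ci * (Finset.Icc 1 n).sum (fun q => ‖(fun j => ((v j : ℚ) : ℝ))‖ ^ (n - q) * (b : ℝ) ^ q)) :
    ∃ C : ℝ, 0 < C ∧ ∀ v w : Fin r → ℚ,
      |f v - f w| ≤ C * (Finset.Icc 1 n).sum (fun q =>
        (max ‖(fun j => ((v j : ℚ) : ℝ))‖ ‖(fun j => ((w j : ℚ) : ℝ))‖) ^ (n - q) *
          ‖(fun j => ((v j - w j : ℚ) : ℝ))‖ ^ q) := by
  classical
  set nrm : (Fin r → ℚ) → ℝ := fun v => ‖(fun j => ((v j : ℚ) : ℝ))‖ with hnrm
  choose C hC using hdir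
  have hnrm0 : ∀ v, 0 ≤ nrm v := fun v => norm_nonneg _
  -- rational version
  have hrat : ∀ (i : Fin r) (v : Fin r → ℚ) (b : ℚ), 0 < b →
      |f (v - b • Pi.single i 1) - f v| ≤
        C i * (Finset.Icc 1 n).sum (fun q => nrm v ^ (n - q) * (b : ℝ) ^ q) := by
    intro i v b hb
    obtain ⟨p, m, hp, hm, rfl⟩ : ∃ p m : ℕ, 0 < p ∧ 0 < m ∧ b = (p : ℚ) / (m : ℚ) := by
      have hnum : 0 < b.num := Rat.num_pos.mpr hb
      refine ⟨b.num.toNat, b.den, ?_, b.den_pos, ?_⟩
      · omega
      · have h2 : ((b.num.toNat : ℕ) : ℚ) = (b.num : ℚ) := by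
          have : ((b.num.toNat : ℕ) : ℤ) = b.num := Int.toNat_of_nonneg hnum.le
          exact_mod_cast this
        rw [h2]; exact (Rat.num_div_den b).symm
    have hmq : (0 : ℚ) < m := by exact_mod_cast hm
    have hmr : (0 : ℝ) < m := by exact_mod_cast hm
    have e1 : (m : ℚ) • (v - ((p : ℚ) / (m : ℚ)) • Pi.single i 1)
        = (m : ℚ) • v - ((p : ℕ) : ℚ) • Pi.single i 1 := by
      rw [smul_sub, smul_smul]
      congr 2
      field_simp
    have h1 := hhom m (v - ((p : ℚ) / (m : ℚ)) • Pi.single i 1) hmq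
    rw [e1] at h1
    have h2 := hhom m v hmq
    have h3 := hC i ((m : ℚ) • v) p hp
    rw [h1, h2] at h3
    have hn : ‖(fun j => ((((m : ℚ) • v) j : ℚ) : ℝ))‖ = (m : ℝ) * nrm v := by
      have : (fun j => ((((m : ℚ) • v) j : ℚ) : ℝ)) = (m : ℝ) • (fun j => ((v j : ℚ) : ℝ)) := by
        ext j; simp
      rw [this, norm_smul]; simp [hnrm]
    rw [hn] at h3
    have h4 : |((m : ℚ) : ℝ) ^ n * f (v - ((p : ℚ) / (m : ℚ)) • Pi.single i 1)
        - ((m : ℚ) : ℝ) ^ n * f v|
        = (m : ℝ) ^ n * |f (v - ((p : ℚ) / (m : ℚ)) • Pi.single i 1) - f v| := by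
      rw [← mul_sub, abs_mul, abs_of_pos (by positivity)]; simp
    rw [h4] at h3
    have h5 : (Finset.Icc 1 n).sum (fun q => ((m : ℝ) * nrm v) ^ (n - q) * ((p : ℕ) : ℝ) ^ q)
        = (m : ℝ) ^ n * (Finset.Icc 1 n).sum
          (fun q => nrm v ^ (n - q) * (((p : ℚ) / (m : ℚ) : ℚ) : ℝ) ^ q) := by
      rw [Finset.mul_sum]
      apply Finset.sum_congr rfl
      intro q hq
      have hq' := (Finset.mem_Icc.mp hq).2
      have : (m : ℝ) ^ n = (m : ℝ) ^ (n - q) * (m : ℝ) ^ q := by
        rw [← pow_add]; congr 1; omega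
      rw [this, mul_pow]; push_cast; rw [div_pow]; field_simp
    rw [h5] at h3
    have h6 : (m : ℝ) ^ n * |f (v - ((p : ℚ) / (m : ℚ)) • Pi.single i 1) - f v| ≤
        (m : ℝ) ^ n * (C i * (Finset.Icc 1 n).sum
          (fun q => nrm v ^ (n - q) * (((p : ℚ) / (m : ℚ) : ℚ) : ℝ) ^ q)) := by
      calc _ ≤ _ := h3
        _ = _ := by ring
    exact le_of_mul_le_mul_left h6 (by positivity)
  -- one coordinate step
  have hstep : ∀ (i : Fin r) (x y : Fin r → ℚ), (∀ j, j ≠ i → x j = y j) →
      |f x - f y| ≤ |C i| * (Finset.Icc 1 n).sum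
        (fun q => (max (nrm x) (nrm y)) ^ (n - q) * |((x i - y i : ℚ) : ℝ)| ^ q) := by
    have aux : ∀ (i : Fin r) (x y : Fin r → ℚ), (∀ j, j ≠ i → x j = y j) → y i < x i →
      |f y - f x| ≤ |C i| * (Finset.Icc 1 n).sum
        (fun q => (max (nrm x) (nrm y)) ^ (n - q) * |((x i - y i : ℚ) : ℝ)| ^ q) := by
      intro i x y hxy hlt
      have hb : (0 : ℚ) < x i - y i := sub_pos.mpr hlt
      have hy : y = x - (x i - y i) • Pi.single i 1 := by
        ext j
        by_cases hj : j = i
        · subst hj; simp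
        · simp [Pi.single_eq_of_ne hj, hxy j hj]
      have h := hrat i x (x i - y i) hb
      rw [← hy] at h
      have hbr : (0 : ℝ) < ((x i - y i : ℚ) : ℝ) := by exact_mod_cast hb
      have hS : 0 ≤ (Finset.Icc 1 n).sum (fun q => nrm x ^ (n - q) * ((x i - y i : ℚ) : ℝ) ^ q) :=
        Finset.sum_nonneg (fun q _ => mul_nonneg (pow_nonneg (hnrm0 x) _) (pow_nonneg hbr.le _))
      calc |f y - f x| ≤ C i * (Finset.Icc 1 n).sum
            (fun q => nrm x ^ (n - q) * ((x i - y i : ℚ) : ℝ) ^ q) := h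
        _ ≤ |C i| * (Finset.Icc 1 n).sum
            (fun q => nrm x ^ (n - q) * ((x i - y i : ℚ) : ℝ) ^ q) :=
          mul_le_mul_of_nonneg_right (le_abs_self _) hS
        _ ≤ _ := by
          apply mul_le_mul_of_nonneg_left _ (abs_nonneg _)
          apply Finset.sum_le_sum
          intro q _
          rw [abs_of_pos hbr]
          apply mul_le_mul_of_nonneg_right _ (pow_nonneg hbr.le _)
          exact pow_le_pow_left₀ (hnrm0 x) (le_max_left _ _) _
    intro i x y hxy
    rcases lt_trichotomy (x i) (y i) with h | h | h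
    · have := aux i y x (fun j hj => (hxy j hj).symm) h
      rw [max_comm]
      have e : |((x i - y i : ℚ) : ℝ)| = |((y i - x i : ℚ) : ℝ)| := by
        rw [← abs_neg]; congr 1; push_cast; ring
      rw [e]; exact this
    · have : x = y := by
        ext j
        by_cases hj : j = i
        · subst hj; exact h
        · exact hxy j hj
      subst this
      simp only [sub_self, abs_zero]
      apply mul_nonneg (abs_nonneg _)
      apply Finset.sum_nonneg
      intro q _
      positivity
    · have := aux i x y hxy h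
      rw [abs_sub_comm]; exact this
  -- main induction
  refine ⟨∑ i, |C i| + 1, by positivity, ?_⟩
  intro v w
  set N : ℝ := max (nrm v) (nrm w) with hN
  set D : ℝ := ‖(fun j => ((v j - w j : ℚ) : ℝ))‖ with hD
  set S : ℝ := (Finset.Icc 1 n).sum (fun q => N ^ (n - q) * D ^ q) with hS
  have hN0 : 0 ≤ N := le_max_of_le_left (hnrm0 v)
  have hD0 : 0 ≤ D := norm_nonneg _
  have hS0 : 0 ≤ S := Finset.sum_nonneg (fun q _ => by positivity)
  have hvj : ∀ j, |((v j : ℚ) : ℝ)| ≤ N := fun j =>
    le_trans (norm_le_pi_norm (fun j => ((v j : ℚ) : ℝ)) j) (le_max_left _ _)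
  have hwj : ∀ j, |((w j : ℚ) : ℝ)| ≤ N := fun j =>
    le_trans (norm_le_pi_norm (fun j => ((w j : ℚ) : ℝ)) j) (le_max_right _ _)
  have hDj : ∀ j, |((v j - w j : ℚ) : ℝ)| ≤ D := fun j =>
    norm_le_pi_norm (fun j => ((v j - w j : ℚ) : ℝ)) j
  have key : ∀ s : Finset (Fin r),
      |f v - f (fun j => if j ∈ s then w j else v j)| ≤ (∑ i ∈ s, |C i|) * S := by
    intro s
    induction s using Finset.induction_on with
    | empty => simp
    | insert a s ha ih =>
      rw [Finset.sum_insert ha]
      set x : Fin r → ℚ := fun j => if j ∈ s then w j else v j with hx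
      set y : Fin r → ℚ := fun j => if j ∈ insert a s then w j else v j with hy
      have hxy : ∀ j, j ≠ a → x j = y j := by
        intro j hj
        simp [hx, hy, Finset.mem_insert, hj]
      have hxn : nrm x ≤ N := by
        rw [hnrm]
        apply (pi_norm_le_iff_of_nonneg hN0).mpr
        intro j
        simp only [hx]
        split_ifs
        · exact hwj j
        · exact hvj j
      have hyn : nrm y ≤ N := by
        rw [hnrm]
        apply (pi_norm_le_iff_of_nonneg hN0).mpr
        intro j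
        simp only [hy]
        split_ifs
        · exact hwj j
        · exact hvj j
      have hxa : x a = v a := by simp [hx, ha]
      have hya : y a = w a := by simp [hy]
      have h1 := hstep a x y hxy
      have h2 : (Finset.Icc 1 n).sum
          (fun q => (max (nrm x) (nrm y)) ^ (n - q) * |((x a - y a : ℚ) : ℝ)| ^ q) ≤ S := by
        apply Finset.sum_le_sum
        intro q _
        rw [hxa, hya]
        apply mul_le_mul
        · exact pow_le_pow_left₀ (le_max_of_le_left (hnrm0 x)) (max_le hxn hyn) _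
        · exact pow_le_pow_left₀ (abs_nonneg _) (hDj a) _
        · positivity
        · positivity
      calc |f v - f y| ≤ |f v - f x| + |f x - f y| := abs_sub_le _ _ _
        _ ≤ (∑ i ∈ s, |C i|) * S + |C a| * S := by
          apply add_le_add ih
          exact le_trans h1 (mul_le_mul_of_nonneg_left h2 (abs_nonneg _))
        _ = (|C a| + ∑ i ∈ s, |C i|) * S := by ring
  have hfin := key Finset.univ
  simp only [Finset.mem_univ, if_true] at hfin
  calc |f v - f w| ≤ (∑ i, |C i|) * S := hfin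
    _ ≤ (∑ i, |C i| + 1) * S := by
      apply mul_le_mul_of_nonneg_right _ hS0
      linarith

end Groth.Agent.S17635
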