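import Groth.Statements.S17662
import Mathlib

set_option autoImplicit false
universe u
open CIDisc

namespace Groth.Agent.S17662

open Matrix Equiv

/-- expansion of the determinant of a product along functions -/
theorem det_mul_expand {R : Type*} [CommRing R] (e r : ℕ) (B : Matrix (Fin e) (Fin r) R)
    (C : Matrix (Fin r) (Fin e) R) :
    (B * C).det = ∑ f : Fin e → Fin r, (∏ i, C (f i) i) * (B.submatrix id f).det := by
  simp only [Matrix.det_apply', Matrix.mul_apply, Matrix.submatrix_apply, id_eq]
  simp only [Fintype.prod_sum, Finset.mul_sum]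
  rw [Finset.sum_comm]
  refine Finset.sum_congr rfl fun f _ => ?_
  refine Finset.sum_congr rfl fun σ _ => ?_
  rw [Finset.prod_mul_distrib]
  ring

theorem det_submatrix_noninj {R : Type*} [CommRing R] (e r : ℕ) (B : Matrix (Fin e) (Fin r) R)
    (f : Fin e → Fin r) (hf : ¬ Function.Injective f) : (B.submatrix id f).det = 0 := by
  rw [Function.Injective] at hf
  push Not at hf
  obtain ⟨i, j, hij, hne⟩ := hf
  exact Matrix.det_zero_of_column_eq hne (fun k => by simp [Matrix.submatrix_apply, hij])

/-- the parametrisation of injective maps by (image, permutation) -/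
noncomputable def Phi (e r : ℕ) (p : {s : Finset (Fin r) // s.card = e} × Perm (Fin e)) :
    Fin e → Fin r := fun i => p.1.1.orderEmbOfFin p.1.2 (p.2 i)

theorem Phi_injective (e r : ℕ) : Function.Injective (Phi e r) := by
  rintro ⟨S, τ⟩ ⟨S', τ'⟩ h
  have hrange : ∀ (S : {s : Finset (Fin r) // s.card = e}) (τ : Perm (Fin e)),
      Set.range (Phi e r (S, τ)) = (S.1 : Set (Fin r)) := by
    intro S τ
    have : Phi e r (S, τ) = (S.1.orderEmbOfFin S.2) ∘ τ := rfl
    rw [this, Set.range_comp, τ.surjective.range_eq, Set.image_univ, Finset.range_orderEmbOfFin]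
  have hS : S = S' := by
    apply Subtype.ext
    apply Finset.coe_injective
    rw [← hrange S τ, ← hrange S' τ', h]
  subst hS
  have hτ : τ = τ' := by
    apply Equiv.ext
    intro i
    have := congrFun h i
    exact (S.1.orderEmbOfFin S.2).injective this
  rw [hτ]

theorem Phi_surj (e r : ℕ) (f : Fin e → Fin r) (hf : Function.Injective f) :
    ∃ p, Phi e r p = f := by
  classical
  have hcard : (Finset.univ.image f).card = e := by
    rw [Finset.card_image_of_injective _ hf, Finset.card_univ, Fintype.card_fin]
  let S : {s : Finset (Fin r) // s.card = e} := ⟨Finset.univ.image f, hcard⟩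
  have hmem : ∀ i, f i ∈ S.1 := fun i => Finset.mem_image_of_mem f (Finset.mem_univ i)
  let t : Fin e → Fin e := fun i => (S.1.orderIsoOfFin S.2).symm ⟨f i, hmem i⟩
  have htinj : Function.Injective t := by
    intro i j hij
    have := (S.1.orderIsoOfFin S.2).symm.injective hij
    exact hf (Subtype.ext_iff.1 this)
  have htbij : Function.Bijective t := Finite.injective_iff_bijective.1 htinj
  refine ⟨(S, Equiv.ofBijective t htbij), ?_⟩
  funext i
  show S.1.orderEmbOfFin S.2 (t i) = f i
  rw [← Finset.coe_orderIsoOfFin_apply]
  show ((S.1.orderIsoOfFin S.2) ((S.1.orderIsoOfFin S.2).symm ⟨f i, hmem i⟩) : Fin r) = f i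
  rw [OrderIso.apply_symm_apply]

theorem cauchy_binet {R : Type*} [CommRing R] (e r : ℕ) (B : Matrix (Fin e) (Fin r) R)
    (C : Matrix (Fin r) (Fin e) R) :
    (B * C).det = ∑ S : {s : Finset (Fin r) // s.card = e},
      (B.submatrix id (S.1.orderEmbOfFin S.2)).det * (C.submatrix (S.1.orderEmbOfFin S.2) id).det := by
  classical
  rw [det_mul_expand]
  -- restrict to injective functions
  have h1 : ∑ f : Fin e → Fin r, (∏ i, C (f i) i) * (B.submatrix id f).det =
      ∑ f ∈ Finset.univ.image (Phi e r), (∏ i, C (f i) i) * (B.submatrix id f).det := by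
    symm
    apply Finset.sum_subset (Finset.subset_univ _)
    intro f _ hf
    have : ¬ Function.Injective f := by
      intro hinj
      obtain ⟨p, hp⟩ := Phi_surj e r f hinj
      exact hf (Finset.mem_image.2 ⟨p, Finset.mem_univ _, hp⟩)
    rw [det_submatrix_noninj e r B f this, mul_zero]
  rw [h1, Finset.sum_image (fun x _ y _ h => Phi_injective e r h), Fintype.sum_prod_type]
  refine Finset.sum_congr rfl fun S _ => ?_
  have h2 : ∀ τ : Perm (Fin e), (B.submatrix id (Phi e r (S, τ))).det =
      Perm.sign τ * (B.submatrix id (S.1.orderEmbOfFin S.2)).det := by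
    intro τ
    have : B.submatrix id (Phi e r (S, τ)) = (B.submatrix id (S.1.orderEmbOfFin S.2)).submatrix id τ := rfl
    rw [this, Matrix.det_permute']
  rw [Matrix.det_apply' (C.submatrix (S.1.orderEmbOfFin S.2) id), Finset.mul_sum]
  refine Finset.sum_congr rfl fun τ _ => ?_
  rw [h2]
  simp only [Matrix.submatrix_apply, id_eq, Phi]
  ring


/-- Let R be a commutative ring, M an r × n matrix over R and e ≥ 0; for each e-element set L of row
indices let A_L be an e × r matrix over R, and form the square matrix, indexed by the e-element sets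
of row indices, whose (L, L') entry is the e × e minor of A_L on the columns L'. If the determinant
of that square matrix is a unit, then the sum over L of the ideals generated by the e × e minors of
the products A_L · M is the ideal generated by all e × e minors of M. (In the source R is the
coordinate ring of an affine scheme X of codimension e cut out by f_1, …, f_r in affine n-space, M
is the image of the Jacobian matrix of the f_j, the A_L have entries in the ground field and cut out
complete intersections Z_L = V(A_L · f), so that the two sides are Σ_L Jac(Z_L) and Jac(X); the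
source states the equality for general A_L and establishes it under the present invertibility
condition, which it shows to be generic.) -/
theorem result {R : Type u} [CommRing R] (e r n : ℕ)
    (M : Matrix (Fin r) (Fin n) R)
    (A : {s : Finset (Fin r) // s.card = e} → Matrix (Fin e) (Fin r) R)
    (hA : IsUnit (Matrix.det (Matrix.of fun i j : {s : Finset (Fin r) // s.card = e} =>
      ((A i).submatrix id (j.1.orderEmbOfFin j.2)).det))) :
    (⨆ i, Ideal.span (Set.range fun t : {s : Finset (Fin n) // s.card = e} =>
        ((A i * M).submatrix id (t.1.orderEmbOfFin t.2)).det)) =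
      Ideal.span (Set.range fun p : {s : Finset (Fin r) // s.card = e} × {s : Finset (Fin n) // s.card = e} =>
        (M.submatrix (p.1.1.orderEmbOfFin p.1.2) (p.2.1.orderEmbOfFin p.2.2)).det) := by
  classical
  -- the compound matrix
  set Cm : Matrix {s : Finset (Fin r) // s.card = e} {s : Finset (Fin r) // s.card = e} R :=
    Matrix.of fun i j : {s : Finset (Fin r) // s.card = e} =>
      ((A i).submatrix id (j.1.orderEmbOfFin j.2)).det with hCm
  have hcb : ∀ (i : {s : Finset (Fin r) // s.card = e}) (t : {s : Finset (Fin n) // s.card = e}),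
      ((A i * M).submatrix id (t.1.orderEmbOfFin t.2)).det =
        ∑ j : {s : Finset (Fin r) // s.card = e}, Cm i j *
          (M.submatrix (j.1.orderEmbOfFin j.2) (t.1.orderEmbOfFin t.2)).det := by
    intro i t
    have h1 : (A i * M).submatrix id (t.1.orderEmbOfFin t.2) =
        A i * M.submatrix id (t.1.orderEmbOfFin t.2) := by
      ext a b
      simp [Matrix.mul_apply, Matrix.submatrix_apply]
    rw [h1, cauchy_binet]
    refine Finset.sum_congr rfl fun j _ => ?_
    rfl
  apply le_antisymm
  · apply iSup_le
    intro i
    rw [Ideal.span_le]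
    rintro _ ⟨t, rfl⟩
    show ((A i * M).submatrix id (t.1.orderEmbOfFin t.2)).det ∈ _
    rw [hcb]
    refine Ideal.sum_mem _ fun j _ => Ideal.mul_mem_left _ _ (Ideal.subset_span ⟨(j, t), rfl⟩)
  · rw [Ideal.span_le]
    rintro _ ⟨⟨j, t⟩, rfl⟩
    show (M.submatrix (j.1.orderEmbOfFin j.2) (t.1.orderEmbOfFin t.2)).det ∈ _
    -- invert the compound matrix
    have hinv : Cm⁻¹ * Cm = 1 := Matrix.nonsing_inv_mul Cm hA
    have hrec : (M.submatrix (j.1.orderEmbOfFin j.2) (t.1.orderEmbOfFin t.2)).det =
        ∑ i : {s : Finset (Fin r) // s.card = e}, Cm⁻¹ j i *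
          ((A i * M).submatrix id (t.1.orderEmbOfFin t.2)).det := by
      simp only [hcb, Finset.mul_sum]
      rw [Finset.sum_comm]
      have : ∀ j' : {s : Finset (Fin r) // s.card = e},
          ∑ i : {s : Finset (Fin r) // s.card = e}, Cm⁻¹ j i * (Cm i j' *
            (M.submatrix (j'.1.orderEmbOfFin j'.2) (t.1.orderEmbOfFin t.2)).det) =
          (Cm⁻¹ * Cm) j j' * (M.submatrix (j'.1.orderEmbOfFin j'.2) (t.1.orderEmbOfFin t.2)).det := by
        intro j'
        rw [Matrix.mul_apply, Finset.sum_mul]
        refine Finset.sum_congr rfl fun i _ => ?_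
        ring
      simp only [this, hinv, Matrix.one_apply]
      rw [Finset.sum_eq_single j]
      · rw [if_pos rfl, one_mul]
      · intro j' _ hne
        rw [if_neg (Ne.symm hne), zero_mul]
      · intro h; exact absurd (Finset.mem_univ j) h
    rw [hrec]
    refine Ideal.sum_mem _ fun i _ => Ideal.mul_mem_left _ _ ?_
    exact (le_iSup (fun i => Ideal.span (Set.range fun t : {s : Finset (Fin n) // s.card = e} =>
        ((A i * M).submatrix id (t.1.orderEmbOfFin t.2)).det)) i) (Ideal.subset_span ⟨t, rfl⟩)

end Groth.Agent.S17662
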