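import Groth.Statements.S17677
import Mathlib

set_option autoImplicit false
universe u
open Hoch

namespace Groth.Agent.S17677

open TensorProduct in
theorem key (k : Type u) [CommRing k] (M : Type u)
    [AddCommMonoid M] (V : Type u) [AddCommGroup V] [Module k V]
    [HopfRep.Comod k (AddMonoidAlgebra k M) V] (c : V ⊗[k] AddMonoidAlgebra k M)
    (hc : (Hoch.d k (AddMonoidAlgebra k M) V 0).rTensor (AddMonoidAlgebra k M) c +
      ((-1 : k) ^ (0 + 1)) • Hoch.tail k (AddMonoidAlgebra k M) V c = 0) :
    ∃ v : V, Hoch.d k (AddMonoidAlgebra k M) V 0 v = c := by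
  classical
  let ev0 : AddMonoidAlgebra k M →ₗ[k] k :=
    (Finsupp.lapply 0) ∘ₗ (AddMonoidAlgebra.coeffLinearEquiv k).toLinearMap
  have hev_single : ∀ (m : M) (r : k), ev0 (AddMonoidAlgebra.single m r) = if m = 0 then r else 0 := by
    intro m r
    show (AddMonoidAlgebra.single m r).coeff 0 = _
    rw [AddMonoidAlgebra.coeff_single, Finsupp.single_apply]
  let S : V ⊗[k] AddMonoidAlgebra k M →ₗ[k] V := (TensorProduct.rid k V).toLinearMap ∘ₗ ev0.lTensor V
  let T : (V ⊗[k] AddMonoidAlgebra k M) ⊗[k] AddMonoidAlgebra k M →ₗ[k] V ⊗[k] AddMonoidAlgebra k M :=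
    (TensorProduct.rid k (V ⊗[k] AddMonoidAlgebra k M)).toLinearMap ∘ₗ
      ev0.lTensor (V ⊗[k] AddMonoidAlgebra k M)
  have hT : ∀ (x : V ⊗[k] AddMonoidAlgebra k M) (a : AddMonoidAlgebra k M), T (x ⊗ₜ[k] a) = ev0 a • x := by
    intro x a
    simp [T]
  have hSa : ∀ (v : V) (a : AddMonoidAlgebra k M), S (v ⊗ₜ[k] a) = ev0 a • v := by
    intro v a
    simp [S]
  have h1 : ∀ x : V ⊗[k] AddMonoidAlgebra k M,
      T ((Hoch.d k (AddMonoidAlgebra k M) V 0).rTensor (AddMonoidAlgebra k M) x) =
        Hoch.d k (AddMonoidAlgebra k M) V 0 (S x) := by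
    intro x
    induction x using TensorProduct.induction_on with
    | zero => simp
    | add x y hx hy => rw [map_add, map_add, hx, hy, map_add, map_add]
    | tmul v a =>
      rw [LinearMap.rTensor_tmul, hT, hSa, map_smul]
  have h2 : ∀ x : V ⊗[k] AddMonoidAlgebra k M, T (Hoch.tail k (AddMonoidAlgebra k M) V x) = - x := by
    intro x
    induction x using TensorProduct.induction_on with
    | zero => simp
    | add x y hx hy => rw [map_add, map_add, hx, hy, neg_add]
    | tmul v a =>
      induction a using AddMonoidAlgebra.induction_linear with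
      | zero => simp
      | add a b ha hb => rw [TensorProduct.tmul_add, map_add, map_add, ha, hb, neg_add]
      | single m r =>
        rw [Hoch.tail_tmul, AddMonoidAlgebra.comul_single]
        simp only [CommSemiring.comul_apply, TensorProduct.map_tmul, TensorProduct.tmul_sub, map_sub,
          TensorProduct.assoc_symm_tmul, hT]
        rw [AddMonoidAlgebra.one_def]
        simp only [AddMonoidAlgebra.lsingle_apply, hev_single]
        by_cases hm : m = 0
        · subst hm
          simp
        · simp [hm]
  refine ⟨- S c, ?_⟩
  have h3 := congrArg T hc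
  rw [map_add, map_smul, h1, h2, map_zero] at h3
  rw [map_neg]
  have h4 : ((-1 : k) ^ (0 + 1)) • (- c) = c := by simp
  rw [h4] at h3
  exact neg_eq_of_add_eq_zero_right h3


/-- Let k be a commutative ring, M a commutative monoid and V a right comodule over the monoid bialgebra
k[M] (a quasi-coherent module with an action of the diagonalizable monoid scheme Spec k[M]). Then
every 1-cocycle of the Hochschild complex of V is a 1-coboundary, i.e. the first Hochschild
cohomology module of the diagonalizable monoid with coefficients in V is zero. (The source works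
over an algebraic space with M finitely generated and cancellative, hypotheses it uses only to
identify modules under the monoid with comodules; the cocycle computation, which is the affine
statement given here, uses neither.) -/
theorem result (k : Type u) [CommRing k] (M : Type u)
    [AddCommMonoid M] (V : Type u) [AddCommGroup V] [Module k V]
    [HopfRep.Comod k (AddMonoidAlgebra k M) V] :
    Hoch.cocycles k (AddMonoidAlgebra k M) V 1 ≤ Hoch.coboundaries k (AddMonoidAlgebra k M) V 1 := by
  intro c hc
  obtain ⟨v, hv⟩ := key k M V c hc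
  exact ⟨v, hv⟩

end Groth.Agent.S17677
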