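import Groth.Statements.S17678
import Mathlib

set_option autoImplicit false
universe u v
open DiagMon

namespace Groth.Agent.S17678

/-- Let R be a commutative ring and N an abelian group. Then the ring map R[N] → R[N × N] of monoid
algebras induced by the diagonal n ↦ (n, n), which is the comorphism of the multiplication morphism
of the diagonalizable group scheme Spec R[N] over Spec R, is flat. (The published statement asserts
flatness for every cancellative commutative monoid N, on the ground that N acts freely on N × N
through the diagonal; but for the submonoid N of the natural numbers generated by 2 and 3, the pairs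
(x, x − 1) with x ≥ 3 form one orbit class that is not a free orbit, and the corresponding direct
summand of k[N × N] is the ideal t³k[t] viewed as a module over k[t², t³], which is not flat. The
statement is therefore given for groups, where N × N is a free N-set with basis the pairs (0, b).) -/
theorem result (R : Type u) [CommRing R] (N : Type v)
    [AddCommGroup N] :
    (AddMonoidAlgebra.mapDomainRingHom R ((AddMonoidHom.id N).prod (AddMonoidHom.id N))).Flat := by
  classical
  let σ : N × N ≃+ N × N :=
    { toFun := fun p => (p.2 - p.1, p.1)
      invFun := fun q => (q.2, q.1 + q.2)
      left_inv := fun p => by simp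
      right_inv := fun q => by simp
      map_add' := fun p q => by simp [sub_add_sub_comm] }
  let e : AddMonoidAlgebra R (N × N) ≃+* AddMonoidAlgebra (AddMonoidAlgebra R N) N :=
    (AddMonoidAlgebra.domCongr R R σ).toRingEquiv.trans AddMonoidAlgebra.curryRingEquiv
  have hcomp : AddMonoidAlgebra.mapDomainRingHom R ((AddMonoidHom.id N).prod (AddMonoidHom.id N)) =
      e.symm.toRingHom.comp
        (algebraMap (AddMonoidAlgebra R N) (AddMonoidAlgebra (AddMonoidAlgebra R N) N)) := by
    apply AddMonoidAlgebra.ringHom_ext
    · intro b
      apply e.injective
      simp [e, σ]
    · intro a
      apply e.injective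
      simp [e, σ]
  rw [hcomp]
  apply RingHom.Flat.comp
  · rw [RingHom.flat_algebraMap_iff]; infer_instance
  · exact RingHom.Flat.of_bijective e.symm.bijective

end Groth.Agent.S17678
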