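import Groth.Statements.S17679
import Groth.Statements.S17679
import Mathlib

set_option autoImplicit false
open DiagMon

namespace Groth.Agent.S17679

/-- For n ≥ 1 the minimal number of generators of ℤ^n as an additive monoid is n + 1: some n + 1
elements generate ℤ^n as a monoid, and every finite set generating ℤ^n as a monoid has at least n +
1 elements. (For n = 0 the empty set generates the zero monoid, so the count n + 1 is stated for n ≥
1 only.) -/
theorem result (n : ℕ) (hn : 1 ≤ n) :
    (∃ s : Finset (Fin n → ℤ), s.card = n + 1 ∧ AddSubmonoid.closure (s : Set (Fin n → ℤ)) = ⊤) ∧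
    ∀ s : Finset (Fin n → ℤ), AddSubmonoid.closure (s : Set (Fin n → ℤ)) = ⊤ → n + 1 ≤ s.card := by
  classical
  constructor
  · let e : Fin n → (Fin n → ℤ) := fun i => Pi.single i 1
    let z : Fin n → ℤ := fun _ => -1
    have he : Function.Injective e := by
      intro i j h
      by_contra hij
      have := congrFun h i
      simp [e, Pi.single_apply, hij] at this
    refine ⟨insert z (Finset.univ.image e), ?_, ?_⟩
    · rw [Finset.card_insert_of_notMem, Finset.card_image_of_injective _ he, Finset.card_univ,
        Fintype.card_fin]
      intro h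
      rw [Finset.mem_image] at h
      obtain ⟨i, -, hi⟩ := h
      have := congrFun hi i
      simp [e, z] at this
    · rw [eq_top_iff]
      intro v _
      let N : ℕ := ∑ i, (v i).natAbs
      have hN : ∀ j, 0 ≤ v j + N := by
        intro j
        have h1 : (v j).natAbs ≤ N := Finset.single_le_sum (f := fun i => (v i).natAbs)
          (fun _ _ => Nat.zero_le _) (Finset.mem_univ j)
        have h2 : -((v j).natAbs : ℤ) ≤ v j := by
          have := neg_abs_le (v j)
          rwa [Int.abs_eq_natAbs] at this
        have h3 : ((v j).natAbs : ℤ) ≤ (N : ℤ) := by exact_mod_cast h1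
        linarith
      have hv : v = N • z + ∑ i, (v i + N).toNat • e i := by
        ext j
        simp only [Pi.add_apply, Pi.smul_apply, Finset.sum_apply, z, e, Pi.single_apply]
        simp only [smul_ite, smul_zero, Finset.sum_ite_eq, Finset.mem_univ, if_true, nsmul_eq_mul]
        rw [Int.toNat_of_nonneg (hN j)]
        ring
      rw [hv]
      refine AddSubmonoid.add_mem _ (AddSubmonoid.nsmul_mem _ (AddSubmonoid.subset_closure ?_) N)
        (AddSubmonoid.sum_mem _ fun i _ => AddSubmonoid.nsmul_mem _ (AddSubmonoid.subset_closure ?_) _)
      · simp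
      · simp only [Finset.coe_insert, Finset.coe_image, Finset.coe_univ, Set.image_univ]
        exact Set.mem_insert_of_mem _ ⟨i, rfl⟩
  · intro s hs
    by_contra hlt
    rw [not_le] at hlt
    let ι : (Fin n → ℤ) →+ (Fin n → ℚ) := (Int.castAddHom ℚ).compLeft (Fin n)
    have key : ∀ ψ : (Fin n → ℚ) →ₗ[ℚ] ℚ, (∀ v ∈ s, 0 ≤ ψ (ι v)) → ψ = 0 := by
      intro ψ hψ
      have h1 : ∀ v : Fin n → ℤ, 0 ≤ ψ (ι v) := by
        intro v
        have hv : v ∈ AddSubmonoid.closure (s : Set (Fin n → ℤ)) := by rw [hs]; trivial
        induction hv using AddSubmonoid.closure_induction with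
        | mem x hx => exact hψ x hx
        | zero => simp
        | add x y _ _ hx hy => rw [map_add, map_add]; exact add_nonneg hx hy
      have h2 : ∀ v : Fin n → ℤ, ψ (ι v) = 0 := by
        intro v
        have := h1 (-v)
        rw [map_neg, map_neg] at this
        linarith [h1 v]
      apply LinearMap.pi_ext
      intro i x
      have : (Pi.single i x : Fin n → ℚ) = x • ι (Pi.single i 1) := by
        ext j
        simp [ι, Pi.single_apply]
      rw [this, map_smul, h2, smul_zero, LinearMap.zero_apply]
    have hne : s.Nonempty := by
      by_contra h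
      rw [Finset.not_nonempty_iff_eq_empty] at h
      subst h
      have h0 := key (LinearMap.proj ⟨0, hn⟩) (by simp)
      have := congrArg (fun f => f (Pi.single ⟨0, hn⟩ 1)) h0
      simp at this
    obtain ⟨s0, hs0⟩ := hne
    let s' := (s.erase s0).image ι
    have hcard : s'.card < n := by
      calc s'.card ≤ (s.erase s0).card := Finset.card_image_le
        _ = s.card - 1 := Finset.card_erase_of_mem hs0
        _ < n := by have := Finset.card_pos.mpr ⟨s0, hs0⟩; omega
    have hlt2 : Submodule.span ℚ (s' : Set (Fin n → ℚ)) < ⊤ := by
      rw [lt_top_iff_ne_top]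
      intro h
      have := finrank_span_finset_le_card (R := ℚ) s'
      rw [Set.finrank, h, finrank_top, Module.finrank_fin_fun] at this
      omega
    obtain ⟨φ, hφ0, hφ⟩ := Submodule.exists_le_ker_of_lt_top _ hlt2
    have hs' : ∀ v ∈ s, v ≠ s0 → φ (ι v) = 0 := by
      intro v hv hne
      have : ι v ∈ Submodule.span ℚ (s' : Set (Fin n → ℚ)) := by
        apply Submodule.subset_span
        simp only [s', Finset.coe_image]
        exact ⟨v, by simp [hv, hne], rfl⟩
      exact hφ this
    rcases le_total 0 (φ (ι s0)) with h | h
    · apply hφ0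
      apply key
      intro v hv
      by_cases hvs : v = s0
      · rw [hvs]; exact h
      · rw [hs' v hv hvs]
    · apply hφ0
      have : -φ = 0 := by
        apply key
        intro v hv
        by_cases hvs : v = s0
        · rw [hvs, LinearMap.neg_apply]; linarith
        · rw [LinearMap.neg_apply, hs' v hv hvs, neg_zero]
      rwa [neg_eq_zero] at this

end Groth.Agent.S17679
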