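import Groth.Statements.S17683
import Mathlib

set_option autoImplicit false
universe u
open DiagMon

namespace Groth.Agent.S17683

/-- Let N be a commutative monoid and F a submonoid of N. The additive projection ℤ[N] → ℤ[F] of monoid
algebras keeping the monomials with exponent in F and killing the others is multiplicative, i.e. F
is a face of N, if and only if for all x, y in N the sum x + y lies in F exactly when both x and y
do. -/
theorem result {N : Type u} [AddCommMonoid N] (F : AddSubmonoid N) :
    (∀ a b : AddMonoidAlgebra ℤ N,
        AddMonoidAlgebra.comapDomain ((↑) : F → N) Subtype.val_injective (a * b) =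
          AddMonoidAlgebra.comapDomain ((↑) : F → N) Subtype.val_injective a *
            AddMonoidAlgebra.comapDomain ((↑) : F → N) Subtype.val_injective b) ↔
      ∀ x y : N, x + y ∈ F ↔ (x ∈ F ∧ y ∈ F) := by
  classical
  have hsingle_mem : ∀ (x : N) (hx : x ∈ F) (r : ℤ),
      AddMonoidAlgebra.comapDomain ((↑) : F → N) Subtype.val_injective
        (AddMonoidAlgebra.single x r) = AddMonoidAlgebra.single (⟨x, hx⟩ : F) r := by
    intro x hx r
    exact AddMonoidAlgebra.comapDomain_single_map ((↑) : F → N) Subtype.val_injective ⟨x, hx⟩ r
  have hsingle_not : ∀ (x : N) (_ : x ∉ F) (r : ℤ),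
      AddMonoidAlgebra.comapDomain ((↑) : F → N) Subtype.val_injective
        (AddMonoidAlgebra.single x r) = 0 := by
    intro x hx r
    ext ⟨y, hy⟩
    have hne : x ≠ y := fun hxy => hx (hxy ▸ hy)
    simp [hne]
  constructor
  · intro h x y
    constructor
    · intro hxy
      have h1 := h (AddMonoidAlgebra.single x 1) (AddMonoidAlgebra.single y 1)
      rw [AddMonoidAlgebra.single_mul_single, hsingle_mem _ hxy] at h1
      have hne : (AddMonoidAlgebra.single (⟨x + y, hxy⟩ : F) ((1 : ℤ) * 1)) ≠ 0 := by
        rw [AddMonoidAlgebra.single_ne_zero]; norm_num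
      constructor
      · by_contra hx
        rw [hsingle_not x hx, zero_mul] at h1
        exact hne h1
      · by_contra hy
        rw [hsingle_not y hy, mul_zero] at h1
        exact hne h1
    · rintro ⟨hx, hy⟩
      exact F.add_mem hx hy
  · intro h a b
    induction a using AddMonoidAlgebra.induction_linear with
    | zero => simp
    | add a1 a2 h1 h2 => rw [add_mul, AddMonoidAlgebra.comapDomain_add, h1, h2,
        AddMonoidAlgebra.comapDomain_add, add_mul]
    | single x r =>
      induction b using AddMonoidAlgebra.induction_linear with
      | zero => simp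
      | add b1 b2 h1 h2 => rw [mul_add, AddMonoidAlgebra.comapDomain_add, h1, h2,
          AddMonoidAlgebra.comapDomain_add, mul_add]
      | single y s =>
        rw [AddMonoidAlgebra.single_mul_single]
        by_cases hx : x ∈ F
        · by_cases hy : y ∈ F
          · rw [hsingle_mem _ (F.add_mem hx hy), hsingle_mem _ hx, hsingle_mem _ hy,
              AddMonoidAlgebra.single_mul_single]
            rfl
          · rw [hsingle_not y hy, mul_zero, hsingle_not]
            exact fun hxy => hy ((h x y).1 hxy).2
        · rw [hsingle_not x hx, zero_mul, hsingle_not]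
          exact fun hxy => hx ((h x y).1 hxy).1

end Groth.Agent.S17683
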