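import Groth.Statements.S17687
import Mathlib

set_option autoImplicit false
universe u v w
open DiagMon

namespace Groth.Agent.S17687

/-- Let R be a commutative ring and A a commutative R-algebra of finite type graded by a commutative
monoid M. Then the set of ideals J_N, N running over all submonoids of M, where J_N is generated by
the homogeneous elements of degree not in N (the ideal of the attractor of Spec A for the magnet N),
is finite: Spec A has finitely many attractors and hence finitely many pure magnets. (The source
assumes Spec A of finite presentation over the base; its proof uses only a finite set of homogeneous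
algebra generators, so finite type is assumed here.) -/
theorem result (R : Type u) [CommRing R] (A : Type v) [CommRing A]
    [Algebra R A] [Algebra.FiniteType R A] (M : Type w) [AddCommMonoid M] [DecidableEq M]
    (𝒜 : M → Submodule R A) [GradedAlgebra 𝒜] :
    (Set.range fun N : AddSubmonoid M => Ideal.span {a : A | ∃ m : M, m ∉ N ∧ a ∈ 𝒜 m}).Finite := by
  classical
  obtain ⟨s, hs⟩ := (Algebra.FiniteType.out : (⊤ : Subalgebra R A).FG)
  let S' : Finset A := s.biUnion fun a =>
    (DirectSum.decompose 𝒜 a).support.image fun m => ((DirectSum.decompose 𝒜 a m : 𝒜 m) : A)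
  have hS'hom : ∀ g ∈ S', ∃ d, g ∈ 𝒜 d := by
    intro g hg
    simp only [S', Finset.mem_biUnion, Finset.mem_image] at hg
    obtain ⟨a, -, m, -, rfl⟩ := hg
    exact ⟨m, Subtype.mem _⟩
  have hS'top : Algebra.adjoin R (S' : Set A) = ⊤ := by
    rw [eq_top_iff, ← hs]
    apply Algebra.adjoin_le
    intro a ha
    rw [← DirectSum.sum_support_decompose 𝒜 a]
    apply Subalgebra.sum_mem
    intro m hm
    apply Algebra.subset_adjoin
    exact Finset.mem_coe.2 (Finset.mem_biUnion.2 ⟨a, ha, Finset.mem_image.2 ⟨m, hm, rfl⟩⟩)
  have key : ∀ N : AddSubmonoid M, Ideal.span {a : A | ∃ m : M, m ∉ N ∧ a ∈ 𝒜 m} =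
      Ideal.span ((S'.filter fun g => ∃ m, m ∉ N ∧ g ∈ 𝒜 m : Finset A) : Set A) := by
    intro N
    apply le_antisymm
    · rw [Ideal.span_le]
      rintro a ⟨m, hm, ha⟩
      have hP : ∀ a : A, ∀ m, m ∉ N → ((DirectSum.decompose 𝒜 a m : 𝒜 m) : A) ∈
          Ideal.span ((S'.filter fun g => ∃ m, m ∉ N ∧ g ∈ 𝒜 m : Finset A) : Set A) := by
        intro a
        have hmem : a ∈ Algebra.adjoin R (S' : Set A) := by rw [hS'top]; trivial
        induction hmem using Algebra.adjoin_induction with
        | mem g hg =>
          intro m hm
          obtain ⟨d, hd⟩ := hS'hom g hg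
          by_cases hdm : d = m
          · subst hdm
            rw [DirectSum.decompose_of_mem_same 𝒜 hd]
            apply Ideal.subset_span
            exact Finset.mem_coe.2 (Finset.mem_filter.2 ⟨hg, d, hm, hd⟩)
          · rw [DirectSum.decompose_of_mem_ne 𝒜 hd hdm]
            exact Ideal.zero_mem _
        | algebraMap r =>
          intro m hm
          have h0 : algebraMap R A r ∈ 𝒜 0 := SetLike.algebraMap_mem_graded 𝒜 r
          have hm0 : (0 : M) ≠ m := fun h => hm (h ▸ N.zero_mem)
          rw [DirectSum.decompose_of_mem_ne 𝒜 h0 hm0]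
          exact Ideal.zero_mem _
        | add a b _ _ ha hb =>
          intro m hm
          rw [DirectSum.decompose_add, DirectSum.add_apply, Submodule.coe_add]
          exact Ideal.add_mem _ (ha m hm) (hb m hm)
        | mul a b _ _ ha hb =>
          intro m hm
          rw [DirectSum.decompose_mul, DirectSum.coe_mul_apply]
          apply Ideal.sum_mem
          intro ij hij
          have hsum : ij.1 + ij.2 = m := (Finset.mem_filter.1 hij).2
          by_cases h1 : ij.1 ∈ N
          · have h2 : ij.2 ∉ N := fun h2 => hm (hsum ▸ N.add_mem h1 h2)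
            exact Ideal.mul_mem_left _ _ (hb _ h2)
          · exact Ideal.mul_mem_right _ _ (ha _ h1)
      have := hP a m hm
      rwa [DirectSum.decompose_of_mem_same 𝒜 ha] at this
    · apply Ideal.span_mono
      intro g hg
      exact (Finset.mem_filter.1 (Finset.mem_coe.1 hg)).2
  apply Set.Finite.subset ((S'.powerset.image fun T : Finset A => Ideal.span (↑T : Set A)).finite_toSet)
  rintro _ ⟨N, rfl⟩
  simp only []
  rw [key N]
  exact Finset.mem_coe.2 (Finset.mem_image.2 ⟨_, Finset.mem_powerset.2 (Finset.filter_subset _ _), rfl⟩)

end Groth.Agent.S17687
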