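import Groth.Statements.S17713
import Mathlib
import Groth.Agent.H8Todd2

set_option autoImplicit false
open MoretBailly

namespace Groth.Agent.S17713

/-- Let n ≥ 2 and d ≥ 1 be natural numbers and s an integer, and write B(x) = x/(1 - e^(-x)) for the
exponential generating series of the Bernoulli numbers B'_i (convention B'_1 = 1/2). For a natural
number p consider the product B(-dx)^(-1) B(-dpx) B(x)^(n+1) e^((dp-d-n-1+s)x) in ℚ[[x]] (the
Todd-class integrand of a Hirzebruch–Riemann–Roch computation) and let λ_n(p) be its coefficient of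
x^n. Then λ_n(p) is a polynomial in p whose two top terms are B'_n (dp)^n/n! and ((2s-d-n-1)/2)
B'_(n-1) (dp)^(n-1)/(n-1)!: there is a polynomial P over ℚ of degree at most n - 2 with λ_n(p) equal
to the sum of these two terms and P(p), for every p. -/
theorem result (n d : ℕ) (s : ℤ) (hn : 2 ≤ n) (hd : 1 ≤ d) :
    ∃ P : Polynomial ℚ, P.natDegree ≤ n - 2 ∧ ∀ p : ℕ,
      PowerSeries.coeff n ((PowerSeries.rescale (-(d : ℚ)) (bernoulli'PowerSeries ℚ))⁻¹ * PowerSeries.rescale (-((d : ℚ) * p)) (bernoulli'PowerSeries ℚ) * bernoulli'PowerSeries ℚ ^ (n + 1) * PowerSeries.rescale ((d : ℚ) * p - d - n - 1 + s) (PowerSeries.exp ℚ)) =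
        bernoulli' n * ((d : ℚ) * p) ^ n / (Nat.factorial n : ℚ) +
          (2 * (s : ℚ) - d - n - 1) / 2 * bernoulli' (n - 1) * ((d : ℚ) * p) ^ (n - 1) / (Nat.factorial (n - 1) : ℚ) +
          P.eval (p : ℚ) := by
  obtain ⟨m, rfl⟩ : ∃ m, n = m + 2 := ⟨n - 2, by omega⟩
  refine ⟨∑ k ∈ Finset.range (m + 1),
    Polynomial.C ((d : ℚ) ^ k * (bernoulli' k / (Nat.factorial k : ℚ)) *
      PowerSeries.coeff (m + 2 - k) (Groth.Agent.H8Todd2.G (m + 2) d s)) * Polynomial.X ^ k, ?_, ?_⟩
  · apply Polynomial.natDegree_sum_le_of_forall_le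
    intro k hk
    have hk' : k ≤ m := Nat.lt_succ_iff.1 (Finset.mem_range.1 hk)
    exact (Polynomial.natDegree_C_mul_X_pow_le _ _).trans (by omega)
  · intro p
    rw [Groth.Agent.H8Todd2.coeff_formula, Finset.sum_range_succ, Finset.sum_range_succ]
    have e1 : m + 2 - (m + 2) = 0 := by omega
    have e2 : m + 2 - (m + 1) = 1 := by omega
    have e3 : m + 2 - 1 = m + 1 := by omega
    rw [e1, e2, Groth.Agent.H8Todd2.G0, Groth.Agent.H8Todd2.G1, e3, Polynomial.eval_finsetSum]
    simp only [Polynomial.eval_mul, Polynomial.eval_C, Polynomial.eval_pow, Polynomial.eval_X]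
    have hsum : ∀ k ∈ Finset.range (m + 1),
        ((d : ℚ) * p) ^ k * (bernoulli' k / (Nat.factorial k : ℚ)) *
          PowerSeries.coeff (m + 2 - k) (Groth.Agent.H8Todd2.G (m + 2) d s) =
        (d : ℚ) ^ k * (bernoulli' k / (Nat.factorial k : ℚ)) *
          PowerSeries.coeff (m + 2 - k) (Groth.Agent.H8Todd2.G (m + 2) d s) * (p : ℚ) ^ k := by
      intro k _
      rw [mul_pow]
      ring
    rw [Finset.sum_congr rfl hsum]
    ring

end Groth.Agent.S17713
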