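import Groth.Statements.S17714
import Mathlib
import Groth.Agent.S17713
import Groth.Agent.H8Todd3

set_option autoImplicit false
open MoretBailly

namespace Groth.Agent.S17714

/-- Let n ≥ 2 and d ≥ 1 be natural numbers with n congruent to 0 or 1 modulo 4, and s an integer with 2s
> n + d + 1. Write B(x) = x/(1 - e^(-x)) for the exponential generating series of the Bernoulli
numbers (B'_1 = 1/2). Then for all sufficiently large natural numbers p the coefficient of x^n in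
B(-dx)^(-1) B(-dpx) B(x)^(n+1) e^((dp-d-n-1+s)x) is strictly negative. (The published statement
asserts this for every n ≥ 2 not congruent to 2 modulo 4. For n congruent to 3 modulo 4 the
coefficient is a polynomial in p of degree n - 1 with leading coefficient (2s-d-n-1) B'_(n-1)
d^(n-1)/(2 (n-1)!) > 0, so it is eventually positive: for n = 3, d = 1, s = 3 it equals (p^2 -
1)/24. The residues 0 and 1 are exactly the ones the leading-term argument gives.) -/
theorem result (n d : ℕ) (s : ℤ) (hn : 2 ≤ n)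
    (hmod : n % 4 = 0 ∨ n % 4 = 1) (hd : 1 ≤ d) (hs : (n : ℤ) + d + 1 < 2 * s) :
    ∃ P : ℕ, ∀ p : ℕ, P ≤ p →
      PowerSeries.coeff n ((PowerSeries.rescale (-(d : ℚ)) (bernoulli'PowerSeries ℚ))⁻¹ * PowerSeries.rescale (-((d : ℚ) * p)) (bernoulli'PowerSeries ℚ) * bernoulli'PowerSeries ℚ ^ (n + 1) * PowerSeries.rescale ((d : ℚ) * p - d - n - 1 + s) (PowerSeries.exp ℚ)) < 0 := by
  obtain ⟨P, hPdeg, hP⟩ := Groth.Agent.S17713.result n d s hn hd
  have hdpos : (0 : ℚ) < d := by exact_mod_cast hd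
  have hs' : (0 : ℚ) < (2 * (s : ℚ) - d - n - 1) / 2 := by
    have : ((n : ℤ) : ℚ) + ((d : ℤ) : ℚ) + 1 < 2 * (s : ℚ) := by exact_mod_cast hs
    simp only [Int.cast_natCast] at this
    linarith
  rcases hmod with h0 | h1
  · -- n = 4 j
    obtain ⟨j, rfl⟩ : ∃ j, n = 4 * j := ⟨n / 4, by omega⟩
    have hj : j ≠ 0 := by omega
    have hB := Groth.Agent.H8Todd3.bernoulli'_neg_of_four_dvd j hj
    have ha : bernoulli' (4 * j) * (d : ℚ) ^ (4 * j) / (Nat.factorial (4 * j) : ℚ) < 0 := by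
      have h1 : (0 : ℚ) < (d : ℚ) ^ (4 * j) / (Nat.factorial (4 * j) : ℚ) := by positivity
      have : bernoulli' (4 * j) * (d : ℚ) ^ (4 * j) / (Nat.factorial (4 * j) : ℚ) =
          bernoulli' (4 * j) * ((d : ℚ) ^ (4 * j) / (Nat.factorial (4 * j) : ℚ)) := by ring
      rw [this]
      exact mul_neg_of_neg_of_pos hB h1
    set c₂ : ℚ := (2 * (s : ℚ) - d - ((4 * j : ℕ) : ℚ) - 1) / 2 * bernoulli' (4 * j - 1) *
      (d : ℚ) ^ (4 * j - 1) / (Nat.factorial (4 * j - 1) : ℚ) with hc₂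
    have hRdeg : (Polynomial.C c₂ * Polynomial.X ^ (4 * j - 1) + P).natDegree < 4 * j := by
      refine lt_of_le_of_lt (Polynomial.natDegree_add_le _ _) ?_
      rw [max_lt_iff]
      constructor
      · exact lt_of_le_of_lt (Polynomial.natDegree_C_mul_X_pow_le _ _) (by omega)
      · omega
    obtain ⟨P0, hP0⟩ := Groth.Agent.H8Todd3.eventually_neg _ ha (4 * j) (by omega) _ hRdeg
    refine ⟨P0, fun p hp => ?_⟩
    rw [hP p]
    have := hP0 p hp
    simp only [Polynomial.eval_add, Polynomial.eval_mul, Polynomial.eval_C, Polynomial.eval_pow,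
      Polynomial.eval_X] at this
    rw [hc₂] at this
    have heq : bernoulli' (4 * j) * ((d : ℚ) * p) ^ (4 * j) / (Nat.factorial (4 * j) : ℚ) +
        (2 * (s : ℚ) - d - ((4 * j : ℕ) : ℚ) - 1) / 2 * bernoulli' (4 * j - 1) *
          ((d : ℚ) * p) ^ (4 * j - 1) / (Nat.factorial (4 * j - 1) : ℚ) + Polynomial.eval (p : ℚ) P =
        bernoulli' (4 * j) * (d : ℚ) ^ (4 * j) / (Nat.factorial (4 * j) : ℚ) * (p : ℚ) ^ (4 * j) +
        ((2 * (s : ℚ) - d - ((4 * j : ℕ) : ℚ) - 1) / 2 * bernoulli' (4 * j - 1) *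
          (d : ℚ) ^ (4 * j - 1) / (Nat.factorial (4 * j - 1) : ℚ) * (p : ℚ) ^ (4 * j - 1) +
          Polynomial.eval (p : ℚ) P) := by
      rw [mul_pow, mul_pow]; ring
    rw [heq]
    exact this
  · -- n = 4 j + 1
    obtain ⟨j, rfl⟩ : ∃ j, n = 4 * j + 1 := ⟨n / 4, by omega⟩
    have hj : j ≠ 0 := by omega
    have hB := Groth.Agent.H8Todd3.bernoulli'_neg_of_four_dvd j hj
    have hodd : bernoulli' (4 * j + 1) = 0 :=
      bernoulli'_eq_zero_of_odd ⟨2 * j, by ring⟩ (by omega)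
    have e1 : 4 * j + 1 - 1 = 4 * j := by omega
    have ha : (2 * (s : ℚ) - d - ((4 * j + 1 : ℕ) : ℚ) - 1) / 2 * bernoulli' (4 * j) *
        (d : ℚ) ^ (4 * j) / (Nat.factorial (4 * j) : ℚ) < 0 := by
      have h1 : (0 : ℚ) < (d : ℚ) ^ (4 * j) / (Nat.factorial (4 * j) : ℚ) := by positivity
      have : (2 * (s : ℚ) - d - ((4 * j + 1 : ℕ) : ℚ) - 1) / 2 * bernoulli' (4 * j) *
          (d : ℚ) ^ (4 * j) / (Nat.factorial (4 * j) : ℚ) =
          bernoulli' (4 * j) * ((2 * (s : ℚ) - d - ((4 * j + 1 : ℕ) : ℚ) - 1) / 2 *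
            ((d : ℚ) ^ (4 * j) / (Nat.factorial (4 * j) : ℚ))) := by ring
      rw [this]
      exact mul_neg_of_neg_of_pos hB (mul_pos hs' h1)
    have hRdeg : P.natDegree < 4 * j := by omega
    obtain ⟨P0, hP0⟩ := Groth.Agent.H8Todd3.eventually_neg _ ha (4 * j) (by omega) _ hRdeg
    refine ⟨P0, fun p hp => ?_⟩
    rw [hP p, hodd, e1]
    have := hP0 p hp
    have heq : 0 * ((d : ℚ) * p) ^ (4 * j + 1) / (Nat.factorial (4 * j + 1) : ℚ) +
        (2 * (s : ℚ) - d - ((4 * j + 1 : ℕ) : ℚ) - 1) / 2 * bernoulli' (4 * j) *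
          ((d : ℚ) * p) ^ (4 * j) / (Nat.factorial (4 * j) : ℚ) + Polynomial.eval (p : ℚ) P =
        (2 * (s : ℚ) - d - ((4 * j + 1 : ℕ) : ℚ) - 1) / 2 * bernoulli' (4 * j) *
          (d : ℚ) ^ (4 * j) / (Nat.factorial (4 * j) : ℚ) * (p : ℚ) ^ (4 * j) +
          Polynomial.eval (p : ℚ) P := by
      rw [mul_pow]; ring
    rw [heq]
    exact this

end Groth.Agent.S17714
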