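import Groth.Statements.S17715
import Mathlib
import Groth.Agent.H8Todd

set_option autoImplicit false
open MoretBailly

namespace Groth.Agent.S17715

/-- Write B(x) = x/(1 - e^(-x)) for the exponential generating series of the Bernoulli numbers (B'_1 =
1/2). For all natural numbers d and p the coefficient of x^3 in B(-dx)^(-1) B(-dpx) B(x)^4
e^((dp-d-3)x), i.e. the case n = 3, s = 1 of the Todd-class integrand, equals
-d(d+2)(p-1)(dp-d-2)/24 = -(d^3+2d^2) p^2/24 + (d^3+3d^2+2d) p/12 - (d^3+4d^2+4d)/24. (The published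
closed form has the same p^2 and p coefficients but constant term -(d^3+2d^2+2d)/24; direct
expansion gives the value stated here, which vanishes at p = 1.) -/
theorem result (d p : ℕ) :
    PowerSeries.coeff 3 ((PowerSeries.rescale (-(d : ℚ)) (bernoulli'PowerSeries ℚ))⁻¹ * PowerSeries.rescale (-((d : ℚ) * p)) (bernoulli'PowerSeries ℚ) * bernoulli'PowerSeries ℚ ^ (4) * PowerSeries.rescale ((d : ℚ) * p - d - 3) (PowerSeries.exp ℚ)) =
      -((d : ℚ) * (d + 2) * (p - 1) * (d * p - d - 2)) / 24 := by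
  obtain ⟨g0, g1, g2, g3⟩ := Groth.Agent.H8Todd.inv_rescale_bern_coeffs (-(d : ℚ))
  obtain ⟨h0, h1, h2, h3⟩ := Groth.Agent.H8Todd.rescale_bern_coeffs (-((d : ℚ) * p))
  obtain ⟨b0, b1, b2, b3⟩ := Groth.Agent.H8Todd.bern_coeffs
  obtain ⟨e0, e1, e2, e3⟩ := Groth.Agent.H8Todd.rescale_exp_coeffs ((d : ℚ) * p - d - 3)
  obtain ⟨gh0, gh1, gh2, gh3⟩ := Groth.Agent.H8Todd.coeffs_mul _ _ _ _ _ _ _ _ _ _
    g0 g1 g2 g3 h0 h1 h2 h3
  obtain ⟨bb0, bb1, bb2, bb3⟩ := Groth.Agent.H8Todd.coeffs_mul _ _ _ _ _ _ _ _ _ _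
    b0 b1 b2 b3 b0 b1 b2 b3
  obtain ⟨b40, b41, b42, b43⟩ := Groth.Agent.H8Todd.coeffs_mul _ _ _ _ _ _ _ _ _ _
    bb0 bb1 bb2 bb3 bb0 bb1 bb2 bb3
  have hpow : bernoulli'PowerSeries ℚ ^ 4 =
      (bernoulli'PowerSeries ℚ * bernoulli'PowerSeries ℚ) *
        (bernoulli'PowerSeries ℚ * bernoulli'PowerSeries ℚ) := by ring
  rw [hpow]
  obtain ⟨t0, t1, t2, t3⟩ := Groth.Agent.H8Todd.coeffs_mul _ _ _ _ _ _ _ _ _ _
    gh0 gh1 gh2 gh3 b40 b41 b42 b43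
  obtain ⟨u0, u1, u2, u3⟩ := Groth.Agent.H8Todd.coeffs_mul _ _ _ _ _ _ _ _ _ _
    t0 t1 t2 t3 e0 e1 e2 e3
  rw [u3]
  ring

end Groth.Agent.S17715
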