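import Groth.Statements.S17721
import Mathlib

set_option autoImplicit false
universe u
open CAlg

namespace Groth.Agent.S17721

open PowerSeries in
theorem ker_aux (R : Type u) [CommRing R] [IsDomain R] [IsDiscreteValuationRing R]
    (π : R) (hπ : Irreducible π) (G : PowerSeries R)
    (h : PowerSeries.map (IsLocalRing.residue R) G = 0) : C π ∣ G := by
  have h1 : ∀ j, π ∣ coeff j G := by
    intro j
    have : IsLocalRing.residue R (coeff j G) = 0 := by
      rw [← PowerSeries.coeff_map, h, map_zero]
    rw [IsLocalRing.residue_eq_zero_iff, hπ.maximalIdeal_eq, Ideal.mem_span_singleton] at this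
    exact this
  choose q hq using h1
  refine ⟨PowerSeries.mk q, ?_⟩
  ext j
  rw [PowerSeries.coeff_C_mul, PowerSeries.coeff_mk, hq j]

open PowerSeries in
theorem prime_aux (R : Type u) [CommRing R] [IsDomain R] [IsDiscreteValuationRing R]
    (π : R) (hπ : Irreducible π) (F G : PowerSeries R) (h : C π ∣ F * G) :
    C π ∣ F ∨ C π ∣ G := by
  have h0 : PowerSeries.map (IsLocalRing.residue R) (C π) = 0 := by
    rw [PowerSeries.map_C]
    have : IsLocalRing.residue R π = 0 := by
      rw [IsLocalRing.residue_eq_zero_iff, hπ.maximalIdeal_eq]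
      exact Ideal.mem_span_singleton_self π
    rw [this, map_zero]
  obtain ⟨Q, hQ⟩ := h
  have h1 : PowerSeries.map (IsLocalRing.residue R) F * PowerSeries.map (IsLocalRing.residue R) G
      = 0 := by
    rw [← map_mul, hQ, map_mul, h0, zero_mul]
  rcases mul_eq_zero.mp h1 with h2 | h2
  · exact Or.inl (ker_aux R π hπ F h2)
  · exact Or.inr (ker_aux R π hπ G h2)

open PowerSeries in
theorem ind_aux (R : Type u) [CommRing R] [IsDomain R] [IsDiscreteValuationRing R]
    (π : R) (hπ : Irreducible π) : ∀ m : ℕ, ∀ (F G : PowerSeries R) (u : Rˣ),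
    F * G = C ((u : R) * π ^ m) → ∃ (t : ℕ) (U : PowerSeries R), IsUnit U ∧ F = C (π ^ t) * U := by
  intro m
  induction m with
  | zero =>
    intro F G u h
    refine ⟨0, F, ?_, by simp⟩
    apply IsUnit.of_mul_eq_one (G * C ((u⁻¹ : Rˣ) : R))
    rw [← mul_assoc, h, pow_zero, mul_one, ← map_mul, Units.mul_inv, map_one]
  | succ m ih =>
    intro F G u h
    have hπ0 : (C π : PowerSeries R) ≠ 0 := by
      intro h'
      have := congrArg (coeff 0) h'
      simp at this
      exact hπ.ne_zero this
    have hdiv : C π ∣ F * G := by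
      refine ⟨C ((u : R) * π ^ m), ?_⟩
      rw [h, ← map_mul]
      congr 1
      ring
    rcases prime_aux R π hπ F G hdiv with ⟨F', hF'⟩ | ⟨G', hG'⟩
    · have h2 : F' * G = C ((u : R) * π ^ m) := by
        apply mul_left_cancel₀ hπ0
        rw [← mul_assoc, ← hF', h, ← map_mul]
        congr 1
        ring
      obtain ⟨t, U, hU, hFU⟩ := ih F' G u h2
      refine ⟨t + 1, U, hU, ?_⟩
      rw [hF', hFU, ← mul_assoc, ← map_mul, pow_succ']
    · have h2 : F * G' = C ((u : R) * π ^ m) := by
        apply mul_left_cancel₀ hπ0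
        rw [mul_left_comm, ← hG', h, ← map_mul]
        congr 1
        ring
      exact ih F G' u h2


open Polynomial IsLocalRing in
/-- Let R be a complete discrete valuation ring with fraction field K, and f a polynomial over R with
non-zero constant term a₀ such that a₀ does not divide some coefficient of f of positive degree
(equivalently, the Newton polygon of f has a side of negative slope). Let b be the power series over
K with b · f = a₀, the expansion of the geometric series in 1 − f/a₀. Then the valuations of the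
coefficients b_j are not bounded below: for every non-zero c in R there is an index j with c · b_j
outside R. -/
theorem result
    (R : Type u) [CommRing R] [IsDomain R] [IsDiscreteValuationRing R]
    [IsAdicComplete (maximalIdeal R) R]
    (K : Type u) [Field K] [Algebra R K] [IsFractionRing R K]
    (f : R[X]) (h0 : f.coeff 0 ≠ 0) (hslope : ∃ i : ℕ, 0 < i ∧ ¬ (f.coeff 0 ∣ f.coeff i))
    (b : PowerSeries K)
    (hb : b * ((f.map (algebraMap R K) : K[X]) : PowerSeries K) = PowerSeries.C (algebraMap R K (f.coeff 0))) :
    ∀ c : R, c ≠ 0 → ∃ j : ℕ, algebraMap R K c * PowerSeries.coeff j b ∉ (algebraMap R K).range := by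
  intro c hc
  by_contra hcon
  push Not at hcon
  obtain ⟨π, hπ⟩ := IsDiscreteValuationRing.exists_irreducible R
  have hinj : Function.Injective (algebraMap R K) := IsFractionRing.injective R K
  choose g hg using hcon
  -- g j maps to c * b_j
  set G : PowerSeries R := PowerSeries.mk g with hG
  have hGmap : PowerSeries.map (algebraMap R K) G = PowerSeries.C (algebraMap R K c) * b := by
    ext j
    rw [PowerSeries.coeff_map, hG, PowerSeries.coeff_mk, PowerSeries.coeff_C_mul]
    exact hg j
  have hprod : G * (f : PowerSeries R) = PowerSeries.C (c * f.coeff 0) := by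
    apply PowerSeries.map_injective (algebraMap R K) hinj
    rw [map_mul, hGmap, ← Polynomial.polynomial_map_coe, mul_assoc, hb, PowerSeries.map_C,
      ← map_mul, map_mul (algebraMap R K)]
  have hne : c * f.coeff 0 ≠ 0 := mul_ne_zero hc h0
  obtain ⟨m, u, hu⟩ := IsDiscreteValuationRing.eq_unit_mul_pow_irreducible hne hπ
  rw [hu, mul_comm] at hprod
  obtain ⟨t, U, hU, hFU⟩ := ind_aux R π hπ m (f : PowerSeries R) G u hprod
  obtain ⟨i, hi, hndvd⟩ := hslope
  apply hndvd
  have hU0 : IsUnit (PowerSeries.constantCoeff U) := PowerSeries.isUnit_iff_constantCoeff.mp hU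
  obtain ⟨v, hv⟩ := hU0
  have e0 : f.coeff 0 = π ^ t * v := by
    have := congrArg (PowerSeries.coeff 0) hFU
    rw [Polynomial.coeff_coe, PowerSeries.coeff_C_mul, PowerSeries.coeff_zero_eq_constantCoeff_apply,
      ← hv] at this
    exact this
  have ei : f.coeff i = π ^ t * PowerSeries.coeff i U := by
    have := congrArg (PowerSeries.coeff i) hFU
    rw [Polynomial.coeff_coe, PowerSeries.coeff_C_mul] at this
    exact this
  refine ⟨((v⁻¹ : Rˣ) : R) * PowerSeries.coeff i U, ?_⟩
  rw [e0, ei]
  have : (v : R) * ((v⁻¹ : Rˣ) : R) = 1 := Units.mul_inv v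
  calc π ^ t * PowerSeries.coeff i U = π ^ t * (((v : R) * ((v⁻¹ : Rˣ) : R)) * PowerSeries.coeff i U) := by
        rw [this, one_mul]
    _ = π ^ t * ↑v * (↑v⁻¹ * (PowerSeries.coeff i) U) := by ring

end Groth.Agent.S17721
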