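import Groth.Statements.S17722
import Mathlib

set_option autoImplicit false
universe u
open CAlg

namespace Groth.Agent.S17722

/-- Let R → R' be a faithfully flat ring map between Noetherian integrally closed local domains, and p
an ideal of R. If the ideal pR' generated by the image of p is principal, then p is principal. (The
second assertion of the published lemma, descent of unique factorization, is not part of this row.) -/
theorem result
    (R R' : Type u) [CommRing R] [CommRing R'] [IsDomain R] [IsDomain R']
    [IsNoetherianRing R] [IsNoetherianRing R'] [IsLocalRing R] [IsLocalRing R']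
    [IsIntegrallyClosed R] [IsIntegrallyClosed R']
    [Algebra R R'] [Module.FaithfullyFlat R R']
    (p : Ideal R) (hp : (p.map (algebraMap R R')).IsPrincipal) :
    p.IsPrincipal := by
  obtain ⟨g, hg⟩ := hp
  have hg' : p.map (algebraMap R R') = Ideal.span {g} := hg
  by_cases hex : ∃ a ∈ p, ∃ s : R', IsUnit s ∧ algebraMap R R' a = s * g
  · obtain ⟨a, hap, s, hs, has⟩ := hex
    refine ⟨a, ?_⟩
    have h1 : (Ideal.span {a}).map (algebraMap R R') = p.map (algebraMap R R') := by
      rw [Ideal.map_span, Set.image_singleton, hg', has]
      exact Ideal.span_singleton_mul_left_unit hs g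
    change p = Ideal.span {a}
    rw [← Ideal.comap_map_eq_self_of_faithfullyFlat (B := R') p, ← h1,
      Ideal.comap_map_eq_self_of_faithfullyFlat]
  · push Not at hex
    have hg0 : g = 0 := by
      have hle : p.map (algebraMap R R') ≤ (IsLocalRing.maximalIdeal R') * Ideal.span {g} := by
        rw [Ideal.map_le_iff_le_comap]
        intro a ha
        have hmem : algebraMap R R' a ∈ Ideal.span {g} := by
          rw [← hg']; exact Ideal.mem_map_of_mem _ ha
        obtain ⟨s, hs⟩ := Ideal.mem_span_singleton'.mp hmem
        have hns : ¬ IsUnit s := fun h => hex a ha s h hs.symm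
        change algebraMap R R' a ∈ (IsLocalRing.maximalIdeal R') * Ideal.span {g}
        rw [← hs]
        exact Ideal.mul_mem_mul ((IsLocalRing.mem_maximalIdeal s).mpr hns)
          (Ideal.mem_span_singleton_self g)
      have hgmem : g ∈ (IsLocalRing.maximalIdeal R') * Ideal.span {g} :=
        hle (hg' ▸ Ideal.mem_span_singleton_self g)
      obtain ⟨t, ht, htg⟩ := Ideal.mem_mul_span_singleton.mp hgmem
      have hu : IsUnit (1 - t) := by
        by_contra hnu
        have h1t : (1 - t) ∈ IsLocalRing.maximalIdeal R' := (IsLocalRing.mem_maximalIdeal _).mpr hnu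
        have h1 : (1 : R') ∈ IsLocalRing.maximalIdeal R' := by
          have := Ideal.add_mem _ h1t ht
          rwa [sub_add_cancel] at this
        exact (Ideal.ne_top_iff_one _).mp (IsLocalRing.maximalIdeal.isMaximal R').ne_top h1
      have hz : (1 - t) * g = 0 := by rw [sub_mul, htg, one_mul, sub_self]
      exact (hu.mul_right_eq_zero).mp hz
    have hbot : p = ⊥ := by
      rw [← Ideal.comap_map_eq_self_of_faithfullyFlat (B := R') p, hg', hg0,
        Ideal.span_singleton_eq_bot.mpr rfl, ← Ideal.map_bot (f := algebraMap R R'),
        Ideal.comap_map_eq_self_of_faithfullyFlat]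
    rw [hbot]
    exact bot_isPrincipal

end Groth.Agent.S17722
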