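import Groth.Statements.S17723
import Mathlib

set_option autoImplicit false
universe u
open LabGraph

namespace Groth.Agent.S17723

def Elem {V E : Type u} (ends : E → V × V) (l : E → ℕ) : Set (V → ℤ) :=
  {g : V → ℤ | ∃ n : ℕ, 0 < n ∧ (∀ v, (n : ℤ) ∣ g v) ∧
      ∀ e, ¬ (l e ∣ n) → g (ends e).1 = g (ends e).2}

theorem main {V E : Type u} [Fintype V] [Fintype E] (ends : E → V × V) :
    ∀ (N : ℕ) (l : E → ℕ), (∀ e, 0 < l e) → ∑ e, l e = N →
      ∀ f : V → ℤ, (∀ e : E, (l e : ℤ) ∣ f (ends e).1 - f (ends e).2) →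
        f ∈ Submodule.span ℤ (Elem ends l) := by
  classical
  intro N
  induction N using Nat.strong_induction_on with
  | _ N ih =>
  intro l hl hN f hf
  by_cases hall : ∀ e, l e = 1
  · apply Submodule.subset_span
    refine ⟨1, one_pos, fun v => by simp, fun e he => ?_⟩
    exact absurd (by rw [hall e]) he
  · push Not at hall
    obtain ⟨e0, he0⟩ := hall
    obtain ⟨p, hp, hpe0⟩ := Nat.exists_prime_and_dvd he0
    have hp0 : (p : ℤ) ≠ 0 := by exact_mod_cast hp.ne_zero
    -- reduced labels
    obtain ⟨l', hl'def⟩ : ∃ l' : E → ℕ, ∀ e, l' e = if p ∣ l e then l e / p else l e :=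
      ⟨_, fun _ => rfl⟩
    have hl'1 : ∀ e, p ∣ l e → l' e = l e / p := fun e h => by rw [hl'def, if_pos h]
    have hl'2 : ∀ e, ¬ p ∣ l e → l' e = l e := fun e h => by rw [hl'def, if_neg h]
    have hl'pos : ∀ e, 0 < l' e := by
      intro e
      by_cases h : p ∣ l e
      · rw [hl'1 e h]
        exact Nat.div_pos (Nat.le_of_dvd (hl e) h) hp.pos
      · rw [hl'2 e h]; exact hl e
    have hle : ∀ e, l' e ≤ l e := by
      intro e
      by_cases h : p ∣ l e
      · rw [hl'1 e h]; exact Nat.div_le_self _ _
      · rw [hl'2 e h]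
    have hlt : l' e0 < l e0 := by
      rw [hl'1 e0 hpe0]
      exact Nat.div_lt_self (hl e0) hp.one_lt
    have hsum : ∑ e, l' e < N := by
      rw [← hN]
      exact Finset.sum_lt_sum (fun e _ => hle e) ⟨e0, Finset.mem_univ _, hlt⟩
    -- the prime-to-p part of the product
    have hL0 : (∏ e, l e) ≠ 0 := Finset.prod_ne_zero_iff.mpr (fun e _ => (hl e).ne')
    obtain ⟨k, n, hpn, hL⟩ := Nat.exists_eq_pow_mul_and_not_dvd hL0 p hp.ne_one
    have hn0 : 0 < n := by
      rcases Nat.eq_zero_or_pos n with h | h
      · rw [h, mul_zero] at hL; exact absurd hL hL0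
      · exact h
    have hdivn : ∀ e, ¬ p ∣ l e → l e ∣ n := by
      intro e h
      have h1 : l e ∣ n * p ^ k := by
        rw [mul_comm, ← hL]
        exact Finset.dvd_prod_of_mem l (Finset.mem_univ e)
      have hc : Nat.Coprime (l e) (p ^ k) :=
        Nat.Coprime.pow_right k ((Nat.Prime.coprime_iff_not_dvd hp).mpr h).symm
      exact Nat.Coprime.dvd_of_dvd_mul_right hc h1
    -- Bezout
    obtain ⟨u, w, hbez⟩ : ∃ u w : ℤ, (n : ℤ) * u + (p : ℤ) * w = 1 := by
      have h1 := Int.gcd_eq_gcd_ab (n : ℤ) (p : ℤ)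
      have h2 : Int.gcd (n : ℤ) (p : ℤ) = 1 := by
        rw [Int.gcd_natCast_natCast]
        exact ((Nat.Prime.coprime_iff_not_dvd hp).mpr hpn).symm
      rw [h2] at h1
      exact ⟨_, _, by rw [← h1]; simp⟩
    -- the equivalence relation
    obtain ⟨R, hR⟩ : ∃ R : V → V → Prop,
        ∀ a b, R a b ↔ ∃ e, p ∣ l e ∧ (ends e).1 = a ∧ (ends e).2 = b :=
      ⟨_, fun _ _ => Iff.rfl⟩
    have fmod : ∀ a b, Relation.EqvGen R a b → (p : ℤ) ∣ f a - f b := by
      intro a b hab
      induction hab with
      | rel a b hr =>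
        obtain ⟨e, hpe, h1, h2⟩ := (hR a b).mp hr
        have h3 := hf e
        rw [h1, h2] at h3
        exact dvd_trans (Int.natCast_dvd_natCast.mpr hpe) h3
      | refl a => rw [sub_self]; exact dvd_zero _
      | symm a b _ ih => exact (dvd_sub_comm).mp ih
      | trans a b c _ _ ih1 ih2 =>
        have h3 : f a - f c = (f a - f b) + (f b - f c) := by ring
        rw [h3]; exact dvd_add ih1 ih2
    obtain ⟨rep, hrep, hrepeq⟩ : ∃ rep : V → V, (∀ v, Relation.EqvGen R (rep v) v) ∧
        ∀ a b, R a b → rep a = rep b := by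
      refine ⟨fun v => (Quotient.mk (Relation.EqvGen.setoid R) v).out, ?_, ?_⟩
      · intro v
        exact Quotient.exact (Quotient.out_eq (Quotient.mk (Relation.EqvGen.setoid R) v))
      · intro a b hab
        have h1 : Quotient.mk (Relation.EqvGen.setoid R) a
            = Quotient.mk (Relation.EqvGen.setoid R) b :=
          Quotient.sound (Relation.EqvGen.rel a b hab)
        show (Quotient.mk (Relation.EqvGen.setoid R) a).out
          = (Quotient.mk (Relation.EqvGen.setoid R) b).out
        rw [h1]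
    obtain ⟨h0, hh0⟩ : ∃ h0 : V → ℤ, ∀ v, h0 v = (n : ℤ) * (u * f (rep v)) :=
      ⟨_, fun _ => rfl⟩
    have h0eq : ∀ e, p ∣ l e → h0 (ends e).1 = h0 (ends e).2 := by
      intro e hpe
      rw [hh0, hh0, hrepeq _ _ ((hR _ _).mpr ⟨e, hpe, rfl, rfl⟩)]
    have h0mem : h0 ∈ Elem ends l := by
      refine ⟨n, hn0, fun v => by rw [hh0]; exact dvd_mul_right _ _, fun e he => ?_⟩
      apply h0eq
      by_contra hpe
      exact he (hdivn e hpe)
    have pdiv : ∀ v, (p : ℤ) ∣ f v - h0 v := by
      intro v
      have h1 : f v - h0 v = (f v - f (rep v)) + (p : ℤ) * (w * f (rep v)) := by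
        rw [hh0]
        linear_combination (-(f (rep v))) * hbez
      rw [h1]
      exact dvd_add ((dvd_sub_comm).mp (fmod _ _ (hrep v))) (dvd_mul_right _ _)
    obtain ⟨f1, hf1def⟩ : ∃ f1 : V → ℤ, ∀ v, f1 v = (f v - h0 v) / (p : ℤ) :=
      ⟨_, fun _ => rfl⟩
    have hf1 : ∀ v, f v = h0 v + (p : ℤ) * f1 v := by
      intro v
      rw [hf1def, Int.mul_ediv_cancel' (pdiv v)]
      ring
    have hf1cart : ∀ e : E, (l' e : ℤ) ∣ f1 (ends e).1 - f1 (ends e).2 := by
      intro e
      have key : (p : ℤ) * (f1 (ends e).1 - f1 (ends e).2)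
          = (f (ends e).1 - f (ends e).2) - (h0 (ends e).1 - h0 (ends e).2) := by
        rw [hf1 (ends e).1, hf1 (ends e).2]; ring
      by_cases hpe : p ∣ l e
      · rw [h0eq e hpe, sub_self, sub_zero] at key
        have h1 : ((p : ℤ) * (l' e : ℤ)) ∣ (p : ℤ) * (f1 (ends e).1 - f1 (ends e).2) := by
          rw [key, hl'1 e hpe]
          have h2 : ((p : ℤ) * ((l e / p : ℕ) : ℤ)) = (l e : ℤ) := by
            rw [← Nat.cast_mul, Nat.mul_div_cancel' hpe]
          rw [h2]
          exact hf e
        exact (mul_dvd_mul_iff_left hp0).mp h1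
      · rw [hl'2 e hpe]
        have h1 : (l e : ℤ) ∣ (p : ℤ) * (f1 (ends e).1 - f1 (ends e).2) := by
          rw [key]
          apply dvd_sub (hf e)
          have h2 : (l e : ℤ) ∣ (n : ℤ) := Int.natCast_dvd_natCast.mpr (hdivn e hpe)
          rw [hh0, hh0]
          exact dvd_sub (dvd_mul_of_dvd_left h2 _) (dvd_mul_of_dvd_left h2 _)
        have h3 : Int.gcd (l e : ℤ) (p : ℤ) = 1 := by
          rw [Int.gcd_natCast_natCast]
          exact ((Nat.Prime.coprime_iff_not_dvd hp).mpr hpe).symm
        exact Int.dvd_of_dvd_mul_right_of_gcd_one h1 h3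
    have ih' := ih (∑ e, l' e) hsum l' hl'pos rfl f1 hf1cart
    have pmul : ∀ g ∈ Submodule.span ℤ (Elem ends l'),
        (p : ℤ) • g ∈ Submodule.span ℤ (Elem ends l) := by
      intro g hg
      induction hg using Submodule.span_induction with
      | mem g hg =>
        apply Submodule.subset_span
        obtain ⟨n', hn', hdv, hcst⟩ := hg
        refine ⟨p * n', Nat.mul_pos hp.pos hn', fun v => ?_, fun e he => ?_⟩
        · rw [Pi.smul_apply, smul_eq_mul, Nat.cast_mul]
          exact mul_dvd_mul_left _ (hdv v)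
        · rw [Pi.smul_apply, Pi.smul_apply]
          congr 1
          apply hcst
          intro hd
          apply he
          by_cases hpe : p ∣ l e
          · rw [hl'1 e hpe] at hd
            rw [← Nat.mul_div_cancel' hpe]
            exact Nat.mul_dvd_mul_left p hd
          · rw [hl'2 e hpe] at hd
            exact dvd_mul_of_dvd_right hd p
      | zero => rw [smul_zero]; exact Submodule.zero_mem _
      | add x y _ _ hx hy => rw [smul_add]; exact Submodule.add_mem _ hx hy
      | smul a x _ hx => rw [smul_comm]; exact Submodule.smul_mem _ a hx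
    have hfeq : f = h0 + (p : ℤ) • f1 := by
      funext v
      rw [Pi.add_apply, Pi.smul_apply, smul_eq_mul]
      exact hf1 v
    rw [hfeq]
    exact Submodule.add_mem _ (Submodule.subset_span h0mem) (pmul f1 ih')

/-- Let G be a finite connected multigraph with endpoint map ends and edge labels l taking positive
integer values. We say g : V → ℤ is elementary-Cartier if, for some integer n ≥ 1, all values of g
are multiples of n and, for each edge whose label fails to divide n, g agrees at its two endpoints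
(equivalently, once the edges with label dividing n are removed, g takes a single value on each
connected piece of what remains). Then every Cartier function f (for each edge, the label divides
the difference of the values of f at its endpoints) lies in the ℤ-span of the elementary-Cartier
functions. -/
theorem result
    {V E : Type u} [Fintype V] [Fintype E] [DecidableEq V] [DecidableEq E]
    (ends : E → V × V) (l : E → ℕ) (hl : ∀ e, 0 < l e) (hconn : LabGraph.Connected ends)
    (f : V → ℤ) (hf : LabGraph.IsCartier ends l f) :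
    f ∈ Submodule.span ℤ {g : V → ℤ | ∃ n : ℕ, 0 < n ∧ (∀ v, (n : ℤ) ∣ g v) ∧
      ∀ e, ¬ (l e ∣ n) → g (ends e).1 = g (ends e).2} := by
  exact main ends (∑ e, l e) l hl rfl f hf

end Groth.Agent.S17723
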