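import Groth.Statements.S17726
import Mathlib

set_option autoImplicit false
universe u
open CAlg

namespace Groth.Agent.S17726

/-- Let f and g be non-zero-divisors of a commutative ring A, not both units; think of them as local
equations, at a point of the union of the supports, of two effective Cartier divisors E and D. If
the ideals generated by g^{m₁} and f^{n₁} coincide, and likewise for g^{m₂} and f^{n₂}, then m₁ n₂ =
m₂ n₁. So all pairs (m, n) with m D = n E locally at the point are proportional, and the saturation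
of the monoid they form is generated by a single element. -/
theorem result
    (A : Type u) [CommRing A] (f g : A)
    (hf : f ∈ nonZeroDivisors A) (hg : g ∈ nonZeroDivisors A) (hfg : ¬ (IsUnit f ∧ IsUnit g))
    (m₁ n₁ m₂ n₂ : ℕ)
    (h₁ : Ideal.span {g ^ m₁} = Ideal.span {f ^ n₁})
    (h₂ : Ideal.span {g ^ m₂} = Ideal.span {f ^ n₂}) :
    m₁ * n₂ = m₂ * n₁ := by
  classical
  -- key lemma: for a nonzerodivisor h, if span {h^a} = span {h^b} with a ≠ b then h is a unit
  have key : ∀ h : A, h ∈ nonZeroDivisors A → ∀ a b : ℕ, a < b →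
      Ideal.span {h ^ a} = Ideal.span {h ^ b} → IsUnit h := by
    intro h hh a b hab hspan
    have hmem : h ^ a ∈ Ideal.span {h ^ b} := by
      rw [← hspan]; exact Ideal.mem_span_singleton_self _
    obtain ⟨c, hc⟩ := Ideal.mem_span_singleton'.mp hmem
    -- c * h^b = h^a
    obtain ⟨d, rfl⟩ := Nat.exists_eq_add_of_lt hab
    have h1 : (c * h ^ (d + 1) - 1) * h ^ a = 0 := by
      have : c * h ^ (a + d + 1) = c * h ^ (d + 1) * h ^ a := by ring
      rw [sub_mul, one_mul, ← this, hc, sub_self]
    have h2 : c * h ^ (d + 1) - 1 = 0 :=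
      (mem_nonZeroDivisors_iff_right.mp (pow_mem hh a)) _ h1
    have h3 : h * (c * h ^ d) = 1 := by
      have := sub_eq_zero.mp h2
      rw [← this]; ring
    exact IsUnit.of_mul_eq_one _ h3
  -- powers of span equalities
  have hp : ∀ (x y : A) (k : ℕ), Ideal.span {x} = Ideal.span {y} →
      Ideal.span {x ^ k} = Ideal.span {y ^ k} := by
    intro x y k hxy
    rw [← Ideal.span_singleton_pow, ← Ideal.span_singleton_pow, hxy]
  by_contra hne
  apply hfg
  have e1 : Ideal.span {g ^ (m₁ * n₂)} = Ideal.span {f ^ (n₁ * n₂)} := by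
    rw [pow_mul, pow_mul]; exact hp _ _ _ h₁
  have e2 : Ideal.span {g ^ (m₂ * n₁)} = Ideal.span {f ^ (n₁ * n₂)} := by
    rw [pow_mul, mul_comm n₁ n₂, pow_mul]; exact hp _ _ _ h₂
  have e3 : Ideal.span {f ^ (n₁ * m₂)} = Ideal.span {g ^ (m₁ * m₂)} := by
    rw [pow_mul, pow_mul]; exact (hp _ _ _ h₁).symm
  have e4 : Ideal.span {f ^ (n₂ * m₁)} = Ideal.span {g ^ (m₁ * m₂)} := by
    rw [pow_mul, mul_comm m₁ m₂, pow_mul]; exact (hp _ _ _ h₂).symm
  have eg : Ideal.span {g ^ (m₁ * n₂)} = Ideal.span {g ^ (m₂ * n₁)} := e1.trans e2.symm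
  have ef : Ideal.span {f ^ (n₁ * m₂)} = Ideal.span {f ^ (n₂ * m₁)} := e3.trans e4.symm
  have hne' : n₁ * m₂ ≠ n₂ * m₁ := by
    intro h; apply hne; rw [mul_comm m₁ n₂, mul_comm m₂ n₁]; exact h.symm
  constructor
  · rcases lt_or_gt_of_ne hne' with h | h
    · exact key f hf _ _ h ef
    · exact key f hf _ _ h ef.symm
  · rcases lt_or_gt_of_ne hne with h | h
    · exact key g hg _ _ h eg
    · exact key g hg _ _ h eg.symm

end Groth.Agent.S17726
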