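import Groth.Statements.S17751
import Mathlib

set_option autoImplicit false
universe u
open LocCoh

namespace Groth.Agent.S17751

/-- Suppose R is a Noetherian ring, r is a natural number, and I is an ideal of R. Then there are
elements f_1, …, f_r of I such that for every prime ideal p of R of height less than r, p contains I
if and only if p contains f_1, …, f_r. (For r = 0 there is nothing to prove.) -/
theorem result (R : Type u) [CommRing R] [IsNoetherianRing R] (I : Ideal R) (r : ℕ) : ∃ f : Fin r → R, (∀ i, f i ∈ I) ∧ ∀ (p : Ideal R) [p.IsPrime], p.height < r → (I ≤ p ↔ Ideal.span (Set.range f) ≤ p) := by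
  classical
  suffices h : ∃ f : Fin r → R, (∀ i, f i ∈ I) ∧ ∀ (p : Ideal R) [p.IsPrime],
      Ideal.span (Set.range f) ≤ p → ¬ I ≤ p → (r : ℕ∞) ≤ p.height by
    obtain ⟨f, hfI, hf⟩ := h
    refine ⟨f, hfI, fun p _ hp => ⟨fun hIp => ?_, fun hfp => ?_⟩⟩
    · rw [Ideal.span_le]
      rintro _ ⟨i, rfl⟩
      exact hIp (hfI i)
    · by_contra hIp
      exact absurd (hf p hfp hIp) (not_le.mpr hp)
  induction r with
  | zero =>
    exact ⟨Fin.elim0, fun i => i.elim0, fun p _ _ _ => by simp⟩
  | succ r ih =>
    obtain ⟨f, hfI, hf⟩ := ih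
    set J := Ideal.span (Set.range f) with hJ
    have hfin : J.minimalPrimes.Finite := Ideal.finite_minimalPrimes_of_isNoetherianRing R J
    let S : Finset (Ideal R) := hfin.toFinset.filter (fun q => ¬ I ≤ q)
    have hx : ∃ x ∈ I, ∀ q ∈ S, x ∉ q := by
      by_contra hcon
      push Not at hcon
      have hsub : (I : Set R) ⊆ ⋃ q ∈ (↑S : Set (Ideal R)), ((fun q => q) q : Ideal R) := by
        intro x hx
        obtain ⟨q, hqS, hxq⟩ := hcon x hx
        simp only [Set.mem_iUnion]
        exact ⟨q, hqS, hxq⟩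
      have hprime : ∀ q ∈ S, q ≠ ⊥ → q ≠ ⊥ → ((fun q => q) q : Ideal R).IsPrime := by
        intro q hq _ _
        have : q ∈ J.minimalPrimes := by
          have := (Finset.mem_filter.mp hq).1
          exact hfin.mem_toFinset.mp this
        exact this.1.1
      obtain ⟨q, hqS, hIq⟩ := (Ideal.subset_union_prime (s := S) (f := fun q => q) ⊥ ⊥ hprime).mp hsub
      exact (Finset.mem_filter.mp hqS).2 hIq
    obtain ⟨x, hxI, hxS⟩ := hx
    refine ⟨Fin.snoc f x, ?_, ?_⟩
    · intro i
      refine Fin.lastCases ?_ (fun j => ?_) i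
      · simpa using hxI
      · simpa using hfI j
    · intro p _ hp hIp
      have hJp : J ≤ p := by
        rw [hJ, Ideal.span_le]
        rintro _ ⟨i, rfl⟩
        apply hp
        apply Ideal.subset_span
        exact ⟨i.castSucc, by simp⟩
      have hxp : x ∈ p := by
        apply hp
        apply Ideal.subset_span
        exact ⟨Fin.last r, by simp⟩
      obtain ⟨q, hqmin, hqp⟩ := Ideal.exists_minimalPrimes_le hJp
      have : q.IsPrime := hqmin.1.1
      have hIq : ¬ I ≤ q := fun h => hIp (h.trans hqp)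
      have hqS : q ∈ S := Finset.mem_filter.mpr ⟨hfin.mem_toFinset.mpr hqmin, hIq⟩
      have hlt : q < p := lt_of_le_of_ne hqp (fun h => hxS q hqS (h ▸ hxp))
      have h1 : (r : ℕ∞) ≤ q.height := hf q hqmin.1.2 hIq
      have h2 := Ideal.height_add_one_le_of_lt_of_isPrime hlt
      calc ((r + 1 : ℕ) : ℕ∞) = (r : ℕ∞) + 1 := by push_cast; rfl
        _ ≤ q.height + 1 := by gcongr
        _ ≤ p.height := h2

end Groth.Agent.S17751
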