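import Groth.Statements.S17754
import Mathlib

set_option autoImplicit false
universe u
open CAlg

namespace Groth.Agent.S17754

open IsLocalRing in
/-- ideals are closed: `⨅ k, (J ⊔ m^k) = J`. -/
theorem closed (R : Type u) [CommRing R] [IsNoetherianRing R] [IsLocalRing R] (J : Ideal R) (x : R)
    (hx : ∀ k : ℕ, x ∈ J ⊔ maximalIdeal R ^ k) : x ∈ J := by
  have h1 := Ideal.iInf_pow_smul_eq_bot_of_isLocalRing (R := R) (M := R ⧸ J) (maximalIdeal R)
    (Ideal.IsPrime.ne_top (maximalIdeal.isMaximal R).isPrime)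
  have h2 : (Ideal.Quotient.mk J x) ∈ (⨅ i : ℕ, maximalIdeal R ^ i • ⊤ : Submodule R (R ⧸ J)) := by
    rw [Submodule.mem_iInf]
    intro k
    obtain ⟨i, hi, y, hy, rfl⟩ := Submodule.mem_sup.mp (hx k)
    have : Ideal.Quotient.mk J (i + y) = y • (Ideal.Quotient.mk J 1) := by
      rw [map_add, Ideal.Quotient.eq_zero_iff_mem.mpr hi, zero_add]
      show Ideal.Quotient.mk J y = y • (Ideal.Quotient.mk J) 1
      rw [Algebra.smul_def, map_one, mul_one]
      rfl
    rw [this]
    exact Submodule.smul_mem_smul hy Submodule.mem_top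
  rw [h1, Submodule.mem_bot] at h2
  exact Ideal.Quotient.eq_zero_iff_mem.mp h2

open IsLocalRing in
/-- stabilization of `I s ⊔ m^k`. -/
theorem stab (R : Type u) [CommRing R] [IsNoetherianRing R] [IsLocalRing R] (I : ℕ → Ideal R)
    (hI : Antitone I) (k : ℕ) :
    ∃ s0, ∀ s, s0 ≤ s → I s ⊔ maximalIdeal R ^ k = I s0 ⊔ maximalIdeal R ^ k := by
  rcases Nat.eq_zero_or_pos k with rfl | hk
  · exact ⟨0, fun s _ => by simp⟩
  have hmin : maximalIdeal R ∈ (maximalIdeal R ^ k).minimalPrimes := by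
    refine ⟨⟨(maximalIdeal.isMaximal R).isPrime, Ideal.pow_le_self hk.ne'⟩, ?_⟩
    rintro P ⟨hP, hle⟩ _
    exact hP.le_of_pow_le hle
  have hart : IsArtinianRing (R ⧸ maximalIdeal R ^ k) :=
    IsLocalRing.quotient_artinian_of_mem_minimalPrimes_of_isLocalRing _ hmin
  let f : ℕ →o (Ideal (R ⧸ maximalIdeal R ^ k))ᵒᵈ :=
    ⟨fun s => OrderDual.toDual ((I s).map (Ideal.Quotient.mk (maximalIdeal R ^ k))),
      fun a b hab => Ideal.map_mono (hI hab)⟩
  obtain ⟨s0, hs0⟩ := IsArtinian.monotone_stabilizes f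
  refine ⟨s0, fun s hs => ?_⟩
  have h1 : (I s).map (Ideal.Quotient.mk (maximalIdeal R ^ k)) =
      (I s0).map (Ideal.Quotient.mk (maximalIdeal R ^ k)) := (hs0 s hs).symm
  have h2 := congrArg (Ideal.comap (Ideal.Quotient.mk (maximalIdeal R ^ k))) h1
  rw [Ideal.comap_map_of_surjective _ Ideal.Quotient.mk_surjective,
    Ideal.comap_map_of_surjective _ Ideal.Quotient.mk_surjective, ← RingHom.ker_eq_comap_bot,
    Ideal.mk_ker] at h2
  exact h2


/-- Let R be a complete Noetherian local ring with maximal ideal m, and let I_0 ⊇ I_1 ⊇ I_2 ⊇ ⋯ be a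
descending sequence of ideals of R whose intersection is zero. Then for every natural number n there
is an index s with I_s contained in m^n; that is, the filtration by the I_s is at least as fine as
the m-adic one. -/
theorem result (R : Type u) [CommRing R] [IsNoetherianRing R] [IsLocalRing R] [IsAdicComplete (IsLocalRing.maximalIdeal R) R] (I : ℕ → Ideal R) (hI : Antitone I) (hinf : ⨅ s, I s = ⊥) (n : ℕ) : ∃ s : ℕ, I s ≤ IsLocalRing.maximalIdeal R ^ n := by
  classical
  set m := IsLocalRing.maximalIdeal R with hm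
  by_contra hcon
  push Not at hcon
  let J : ℕ → Ideal R := fun k => ⨅ s, I s ⊔ m ^ k
  have hJm : ∀ k, m ^ k ≤ J k := fun k => le_iInf fun s => le_sup_right
  have hJstab : ∀ k, ∃ s0, ∀ s, s0 ≤ s → J k = I s ⊔ m ^ k := by
    intro k
    obtain ⟨s0, hs0⟩ := stab R I hI k
    refine ⟨s0, fun s hs => ?_⟩
    apply le_antisymm
    · exact iInf_le _ s
    · apply le_iInf
      intro s'
      rcases le_total s' s with h | h
      · exact sup_le_sup_right (hI h) _
      · rw [hs0 s' (hs.trans h), hs0 s hs]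
  have hJstep : ∀ k, J k ≤ J (k + 1) ⊔ m ^ k := by
    intro k
    obtain ⟨s1, h1⟩ := hJstab k
    obtain ⟨s2, h2⟩ := hJstab (k + 1)
    rw [h1 (max s1 s2) (le_max_left _ _), h2 (max s1 s2) (le_max_right _ _)]
    exact sup_le (le_sup_of_le_left le_sup_left) le_sup_right
  have hstep : ∀ k, ∀ x ∈ J k, ∃ y ∈ J (k + 1), x - y ∈ m ^ k := by
    intro k x hx
    obtain ⟨y, hy, z, hz, rfl⟩ := Submodule.mem_sup.mp (hJstep k hx)
    exact ⟨y, hy, by simpa using hz⟩
  obtain ⟨sn, hsn⟩ := hJstab n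
  have hJn : ¬ J n ≤ m ^ n := fun h =>
    hcon sn (le_trans (by rw [hsn sn le_rfl]; exact le_sup_left) h)
  obtain ⟨x0, hx0J, hx0⟩ := SetLike.not_le_iff_exists.mp hJn
  let g : (j : ℕ) → {x : R // x ∈ J (n + j)} := fun j =>
    Nat.rec (motive := fun j => {x : R // x ∈ J (n + j)}) ⟨x0, hx0J⟩
      (fun j prev => ⟨(hstep (n + j) prev.1 prev.2).choose,
        (hstep (n + j) prev.1 prev.2).choose_spec.1⟩) j
  have hg : ∀ j, (g j).1 - (g (j + 1)).1 ∈ m ^ (n + j) := fun j =>
    (hstep (n + j) (g j).1 (g j).2).choose_spec.2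
  have hgi : ∀ i j, i ≤ j → (g i).1 - (g j).1 ∈ m ^ (n + i) := by
    intro i j hij
    induction j, hij using Nat.le_induction with
    | base => simp
    | succ j hij ih =>
      have : (g i).1 - (g (j + 1)).1 = ((g i).1 - (g j).1) + ((g j).1 - (g (j + 1)).1) := by ring
      rw [this]
      exact Ideal.add_mem _ ih (Ideal.pow_le_pow_right (by omega) (hg j))
  let h : ℕ → R := fun a => (g (a - n)).1
  obtain ⟨L, hL⟩ := IsPrecomplete.prec' (I := m) h (by
    intro a b hab
    rw [SModEq.sub_mem, smul_eq_mul, Ideal.mul_top]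
    exact Ideal.pow_le_pow_right (by omega) (hgi (a - n) (b - n) (by omega)))
  have hL' : ∀ a, h a - L ∈ m ^ a := by
    intro a
    have := hL a
    rwa [SModEq.sub_mem, smul_eq_mul, Ideal.mul_top] at this
  have hLJ : ∀ k, n ≤ k → L ∈ J k := by
    intro k hk
    have h1 : h k ∈ J k := by
      have := (g (k - n)).2
      have hJeq : J (n + (k - n)) = J k := by rw [Nat.add_sub_cancel' hk]
      rw [← hJeq]
      exact this
    have : L = h k - (h k - L) := by ring
    rw [this]
    exact Ideal.sub_mem _ h1 (hJm k (hL' k))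
  have hLI : ∀ s, L ∈ I s := by
    intro s
    apply closed R (I s) L
    intro k
    have := hLJ (max n k) (le_max_left _ _)
    have h2 : J (max n k) ≤ I s ⊔ m ^ (max n k) := iInf_le _ s
    have h3 : I s ⊔ m ^ (max n k) ≤ I s ⊔ m ^ k :=
      sup_le_sup_left (Ideal.pow_le_pow_right (le_max_right n k)) (I s)
    exact h3 (h2 this)
  have hL0 : L = 0 := by
    have : L ∈ ⨅ s, I s := (Ideal.mem_iInf).mpr hLI
    rwa [hinf] at this
  apply hx0
  have h3 := hL' n
  rw [hL0, sub_zero] at h3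
  have : h n = x0 := by
    show (g (n - n)).1 = x0
    rw [Nat.sub_self]
    rfl
  rw [← this]
  exact h3

end Groth.Agent.S17754
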