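import Groth.Statements.S17756
import Groth.Statements.S17756
import Groth.Agent.Lib.helper9.H9_MatlisLen

set_option autoImplicit false
universe u
open Matlis

namespace Groth.Agent.S17756

/-- Let R be a Noetherian local ring with maximal ideal m and residue field k, E an injective hull of k,
and M a finitely generated R-module with Matlis dual M^v = Hom_R(M, E). Then the minimal number of
generators of M equals the k-dimension of the socle of M^v, the submodule of elements of M^v killed
by m (stated as its length as an R-module). -/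
theorem result (R : Type u) [CommRing R] [IsNoetherianRing R] [IsLocalRing R] (E : Type u) [AddCommGroup E] [Module R E] (f : IsLocalRing.ResidueField R →ₗ[R] E) (hf : InjHull.IsInjectiveHull f) (M : Type u) [AddCommGroup M] [Module R M] [Module.Finite R M] : ((⊤ : Submodule R M).spanFinrank : ℕ∞) = Module.length R (LocCoh.torsionBy (IsLocalRing.maximalIdeal R) (M →ₗ[R] E)) := by
  classical
  set m := IsLocalRing.maximalIdeal R with hm
  letI : Field (R ⧸ m) := Ideal.Quotient.field m
  have h1 := IsLocalRing.spanFinrank_eq_finrank_quotient (⊤ : Submodule R M) Module.Finite.fg_top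
  -- X and Y
  have e : ((⊤ : Submodule R M) ⧸ (m • (⊤ : Submodule R (⊤ : Submodule R M)))) ≃ₗ[R]
      (M ⧸ (m • (⊤ : Submodule R M))) :=
    Submodule.Quotient.equiv _ _ Submodule.topEquiv (by
      rw [Submodule.map_smul'', Submodule.map_top]
      congr 1
      exact LinearMap.range_eq_top.2 (Submodule.topEquiv (R := R) (M := M)).surjective)
  haveI : Module.Finite (R ⧸ m) ((⊤ : Submodule R M) ⧸ (m • (⊤ : Submodule R (⊤ : Submodule R M)))) :=
    Module.Finite.of_restrictScalars_finite R (R ⧸ m) _
  have h2 : Module.length (R ⧸ m) ((⊤ : Submodule R M) ⧸ (m • (⊤ : Submodule R (⊤ : Submodule R M))))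
      = Module.finrank (R ⧸ m) ((⊤ : Submodule R M) ⧸ (m • (⊤ : Submodule R (⊤ : Submodule R M)))) :=
    Module.length_eq_finrank _ _
  have h3 : Module.length R ((⊤ : Submodule R M) ⧸ (m • (⊤ : Submodule R (⊤ : Submodule R M))))
      = Module.length (R ⧸ m) ((⊤ : Submodule R M) ⧸ (m • (⊤ : Submodule R (⊤ : Submodule R M)))) :=
    Module.length_eq_of_surjective Ideal.Quotient.mk_surjective
  have h4 : Module.length R (M ⧸ (m • (⊤ : Submodule R M))) = ((⊤ : Submodule R M).spanFinrank : ℕ∞) := by
    rw [← e.length_eq, h3, h2, h1]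
  have hfl : IsFiniteLength R (M ⧸ (m • (⊤ : Submodule R M))) := by
    rw [← Module.length_ne_top_iff, h4]
    exact ENat.coe_ne_top _
  have h5 := Groth.Agent.H9.MatlisLen.length_dual f hf _ hfl
  -- D(Y) ≃ socle D(M)
  set Y := M ⧸ (m • (⊤ : Submodule R M)) with hY
  let π : M →ₗ[R] Y := (m • (⊤ : Submodule R M)).mkQ
  have hπ : Function.Surjective π := Submodule.mkQ_surjective _
  let Φ : (Y →ₗ[R] E) →ₗ[R] LocCoh.torsionBy m (M →ₗ[R] E) :=
    LinearMap.codRestrict _ (LinearMap.lcomp R E π) (by
      intro ψ
      change _ ∈ Submodule.torsionBySet R (M →ₗ[R] E) (m : Set R)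
      rw [Submodule.mem_torsionBySet_iff]
      rintro ⟨r, hr⟩
      ext x
      change r • ψ (π x) = 0
      rw [← map_smul, ← map_smul]
      have : π (r • x) = 0 := by
        change (m • (⊤ : Submodule R M)).mkQ (r • x) = 0
        rw [Submodule.mkQ_apply, Submodule.Quotient.mk_eq_zero]
        exact Submodule.smul_mem_smul hr trivial
      rw [this, map_zero])
  have hΦinj : Function.Injective Φ := by
    intro ψ₁ ψ₂ h
    have h' := congrArg Subtype.val h
    ext x
    exact LinearMap.congr_fun h' x
  have hΦsurj : Function.Surjective Φ := by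
    rintro ⟨φ, hφ⟩
    change φ ∈ Submodule.torsionBySet R (M →ₗ[R] E) (m : Set R) at hφ
    rw [Submodule.mem_torsionBySet_iff] at hφ
    have hle : m • (⊤ : Submodule R M) ≤ LinearMap.ker φ := by
      rw [Submodule.smul_le]
      intro r hr x _
      rw [LinearMap.mem_ker, map_smul]
      have := LinearMap.congr_fun (hφ ⟨r, hr⟩) x
      simpa using this
    refine ⟨(m • (⊤ : Submodule R M)).liftQ φ hle, ?_⟩
    apply Subtype.ext
    ext x
    change (m • (⊤ : Submodule R M)).liftQ φ hle (π x) = φ x
    exact Submodule.liftQ_apply _ _ _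
  have h6 := (LinearEquiv.ofBijective Φ ⟨hΦinj, hΦsurj⟩).length_eq
  rw [← h4, ← h5, h6]

end Groth.Agent.S17756
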