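import Groth.Statements.S9263
import Mathlib

set_option autoImplicit false
universe u
attribute [local instance] HasDerivedCategory.standard
open CategoryTheory
open DerCA

namespace Groth.Agent.S9263


open CategoryTheory CategoryTheory.Limits Opposite


open CategoryTheory CategoryTheory.Limits Opposite CochainComplex Pretriangulated

noncomputable section
section
variable {R : Type u} [CommRing R]

/-- the cone of a morphism which is invertible in the homotopy category is contractible. -/
lemma cone_contractible {K L : CochainComplex (ModuleCat.{u} R) ℤ} (φ : K ⟶ L)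
    (h : IsIso ((HomotopyCategory.quotient _ _).map φ)) :
    Nonempty (Homotopy (𝟙 (mappingCone φ)) 0) := by
  rw [← HomotopyCategory.isZero_quotient_obj_iff]
  exact (mappingCone.triangleh φ).isZero₃_of_isIso₁
    (HomotopyCategory.mappingCone_triangleh_distinguished φ) h

lemma cocone_contractible {K L : CochainComplex (ModuleCat.{u} R) ℤ} (φ : K ⟶ L)
    (h : IsIso ((HomotopyCategory.quotient _ _).map φ)) :
    Nonempty (Homotopy (𝟙 (mappingCocone φ)) 0) := by
  obtain ⟨H⟩ := cone_contractible φ h
  have H' := H.shift (-1)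
  rw [CategoryTheory.Functor.map_id, Functor.map_zero] at H'
  exact ⟨H'⟩

lemma isIso_of_contractible {K L : CochainComplex (ModuleCat.{u} R) ℤ} (φ : K ⟶ L)
    (hK : Nonempty (Homotopy (𝟙 K) 0)) (hL : Nonempty (Homotopy (𝟙 L) 0)) :
    IsIso ((HomotopyCategory.quotient _ _).map φ) := by
  rw [← HomotopyCategory.isZero_quotient_obj_iff] at hK hL
  exact ⟨⟨0, hK.eq_of_src _ _, hL.eq_of_src _ _⟩⟩

lemma loc_contractible (S : Submonoid R) {K : CochainComplex (ModuleCat.{u} R) ℤ}
    (hK : Nonempty (Homotopy (𝟙 K) 0)) :
    Nonempty (Homotopy (𝟙 ((DerCA.locCx S).obj K)) 0) := by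
  obtain ⟨H⟩ := hK
  have H' := (DerCA.locFunctor S).mapHomotopy H
  rw [CategoryTheory.Functor.map_id, Functor.map_zero] at H'
  exact ⟨H'⟩

lemma bijective_mk_of_isUnit (f : R) (hf : IsUnit f) (M : ModuleCat.{u} R) :
    Function.Bijective (LocalizedModule.mkLinearMap (Submonoid.powers f) M) := by
  have hS : ∀ s : Submonoid.powers f, IsUnit (algebraMap R (Module.End R M) s) := by
    rintro ⟨s, n, rfl⟩
    exact (hf.pow n).map _
  haveI : IsLocalizedModule (Submonoid.powers f) (LinearMap.id : M →ₗ[R] M) :=
    { map_units := hS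
      surj := fun m => ⟨(m, 1), one_smul _ _⟩
      exists_of_eq := fun h => ⟨1, congr_arg _ h⟩ }
  obtain ⟨e, he⟩ : ∃ e : M ≃ₗ[R] LocalizedModule (Submonoid.powers f) M,
      ∀ x, e x = LocalizedModule.mkLinearMap (Submonoid.powers f) M x :=
    ⟨IsLocalizedModule.linearEquiv (Submonoid.powers f) (LinearMap.id : M →ₗ[R] M)
      (LocalizedModule.mkLinearMap (Submonoid.powers f) M), fun x =>
      IsLocalizedModule.linearEquiv_apply (Submonoid.powers f) LinearMap.id
        (LocalizedModule.mkLinearMap (Submonoid.powers f) M) x⟩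
  have : (LocalizedModule.mkLinearMap (Submonoid.powers f) M : M → _) = e := by
    funext x; exact (he x).symm
  rw [this]
  exact e.bijective

lemma isIso_locCxUnit (f : R) (hf : IsUnit f) (K : CochainComplex (ModuleCat.{u} R) ℤ) :
    IsIso (DerCA.locCxUnit (Submonoid.powers f) K) := by
  haveI : ∀ i, IsIso ((DerCA.locCxUnit (Submonoid.powers f) K).f i) := by
    intro i
    change IsIso ((DerCA.locUnit (Submonoid.powers f)).app (K.X i))
    rw [ConcreteCategory.isIso_iff_bijective]
    exact bijective_mk_of_isUnit f hf (K.X i)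
  exact HomologicalComplex.Hom.isIso_of_components _

theorem main : ∀ (fs : List R) (_ : ∃ f ∈ fs, IsUnit f) (M : ModuleCat.{u} R),
    Nonempty (Homotopy (𝟙 (DerCA.extCech M fs)) 0)
  | [], hf, M => by
    obtain ⟨f, hf, _⟩ := hf
    simp at hf
  | g :: fs, hf, M => by
    change Nonempty (Homotopy (𝟙 (mappingCocone (DerCA.locCxUnit (Submonoid.powers g)
      (DerCA.extCech M fs)))) 0)
    apply cocone_contractible
    by_cases hg : IsUnit g
    · haveI := isIso_locCxUnit g hg (DerCA.extCech M fs)
      infer_instance
    · have hfs : ∃ f ∈ fs, IsUnit f := by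
        obtain ⟨f, hf1, hf2⟩ := hf
        rcases List.mem_cons.1 hf1 with rfl | h
        · exact absurd hf2 hg
        · exact ⟨f, h, hf2⟩
      have hK := main fs hfs M
      exact isIso_of_contractible _ hK (loc_contractible _ hK)

end
end

/-- Let R be a ring, f_1, ..., f_r elements of R such that some f_i is a unit, and M an R-module. Then
the extended alternating Cech complex of M with respect to f_1, ..., f_r is homotopy equivalent to
zero: its identity map is null-homotopic. -/
theorem result (R : Type u) [CommRing R] (fs : List R)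
    (hf : ∃ f ∈ fs, IsUnit f) (M : ModuleCat.{u} R) :
    Nonempty (Homotopy (𝟙 (DerCA.extCech M fs)) 0) := by
  exact main fs hf M

end Groth.Agent.S9263
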