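import Groth.Statements.S17777
import Groth.Agent.S9263
import Mathlib

set_option autoImplicit false
universe u
open CategoryTheory CategoryTheory.Limits
attribute [local instance] HasDerivedCategory.standard
open LocCoh

namespace Groth.Agent.S17777


open CategoryTheory CategoryTheory.Limits Opposite


open CategoryTheory CategoryTheory.Limits Opposite CochainComplex Pretriangulated

noncomputable section
section
variable {R : Type u} [CommRing R]

/-- `g` acts invertibly on `X`. -/
abbrev Q (g : R) (X : ModuleCat.{u} R) : Prop := IsIso (g • 𝟙 X)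

lemma Q_of_iso (g : R) {X Y : ModuleCat.{u} R} (e : X ≅ Y) (h : Q g Y) : Q g X := by
  have : g • 𝟙 X = e.hom ≫ (g • 𝟙 Y) ≫ e.inv := by
    rw [Linear.smul_comp, Linear.comp_smul, Category.id_comp, e.hom_inv_id]
  unfold Q
  rw [this]
  infer_instance

lemma Q_biprod (g : R) {A B : ModuleCat.{u} R} (hA : Q g A) (hB : Q g B) : Q g (A ⊞ B) := by
  have : g • 𝟙 (A ⊞ B) = biprod.map (g • 𝟙 A) (g • 𝟙 B) := by
    apply biprod.hom_ext <;> simp [Linear.smul_comp, Linear.comp_smul]
  unfold Q
  rw [this]
  haveI : IsIso (g • 𝟙 A) := hA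
  haveI : IsIso (g • 𝟙 B) := hB
  exact (biprod.mapIso (asIso (g • 𝟙 A)) (asIso (g • 𝟙 B))).isIso_hom

lemma Q_zero (g : R) {X : ModuleCat.{u} R} (h : IsZero X) : Q g X :=
  ⟨⟨0, h.eq_of_src _ _, h.eq_of_src _ _⟩⟩

lemma locFunctor_map_smul (S : Submonoid R) (g : R) (X : ModuleCat.{u} R) :
    (DerCA.locFunctor S).map (g • 𝟙 X) = g • 𝟙 _ := by
  ext x
  induction x using LocalizedModule.induction_on with
  | h a s =>
    change (IsLocalizedModule.map S (LocalizedModule.mkLinearMap S X) (LocalizedModule.mkLinearMap S X)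
      (g • LinearMap.id)) (LocalizedModule.mk a s) = g • LocalizedModule.mk a s
    rw [map_smul]
    simp

lemma Q_loc (S : Submonoid R) (g : R) {X : ModuleCat.{u} R} (h : Q g X) :
    Q g ((DerCA.locFunctor S).obj X) := by
  unfold Q
  rw [← locFunctor_map_smul]
  infer_instance

lemma Q_extCech (g : R) : ∀ (fs : List R) (M : ModuleCat.{u} R), Q g M →
    ∀ i, Q g ((DerCA.extCech M fs).X i)
  | [], M, hM, i => by
    by_cases hi : i = 0
    · subst hi
      exact Q_of_iso g (HomologicalComplex.singleObjXSelf (ComplexShape.up ℤ) 0 M) hM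
    · exact Q_zero g (HomologicalComplex.isZero_single_obj_X (ComplexShape.up ℤ) 0 M i hi)
  | h :: fs, M, hM, i => by
    refine Q_of_iso g (DerCA.mappingCoconeXIso _ i) (Q_biprod g ?_ ?_)
    · exact Q_extCech g fs M hM i
    · exact Q_loc _ g (Q_extCech g fs M hM (i - 1))

lemma isIso_locUnit (g : R) (X : ModuleCat.{u} R) (h : Q g X) :
    IsIso ((DerCA.locUnit (Submonoid.powers g)).app X) := by
  have hbij : Function.Bijective (fun m : X => g • m) := by
    have := (ConcreteCategory.isIso_iff_bijective (g • 𝟙 X)).1 h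
    exact this
  have hg : IsUnit (algebraMap R (Module.End R X) g) := by
    rw [Module.End.isUnit_iff]
    exact hbij
  have hS : ∀ s : Submonoid.powers g, IsUnit (algebraMap R (Module.End R X) s) := by
    rintro ⟨s, n, rfl⟩
    rw [map_pow]
    exact hg.pow n
  haveI : IsLocalizedModule (Submonoid.powers g) (LinearMap.id : X →ₗ[R] X) :=
    { map_units := hS
      surj := fun m => ⟨(m, 1), one_smul _ _⟩
      exists_of_eq := fun h => ⟨1, congr_arg _ h⟩ }
  obtain ⟨e, he⟩ : ∃ e : X ≃ₗ[R] LocalizedModule (Submonoid.powers g) X,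
      ∀ x, e x = LocalizedModule.mkLinearMap (Submonoid.powers g) X x :=
    ⟨IsLocalizedModule.linearEquiv (Submonoid.powers g) (LinearMap.id : X →ₗ[R] X)
      (LocalizedModule.mkLinearMap (Submonoid.powers g) X), fun x =>
      IsLocalizedModule.linearEquiv_apply (Submonoid.powers g) LinearMap.id
        (LocalizedModule.mkLinearMap (Submonoid.powers g) X) x⟩
  rw [ConcreteCategory.isIso_iff_bijective]
  have : (LocalizedModule.mkLinearMap (Submonoid.powers g) X : X → _) = e := by
    funext x; exact (he x).symm
  change Function.Bijective (LocalizedModule.mkLinearMap (Submonoid.powers g) X)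
  rw [this]
  exact e.bijective

lemma isIso_locCxUnit (g : R) (K : CochainComplex (ModuleCat.{u} R) ℤ) (h : ∀ i, Q g (K.X i)) :
    IsIso (DerCA.locCxUnit (Submonoid.powers g) K) := by
  haveI : ∀ i, IsIso ((DerCA.locCxUnit (Submonoid.powers g) K).f i) := by
    intro i
    change IsIso ((DerCA.locUnit (Submonoid.powers g)).app (K.X i))
    exact isIso_locUnit g _ (h i)
  exact HomologicalComplex.Hom.isIso_of_components _

theorem main : ∀ (fs : List R) (M : ModuleCat.{u} R) (_ : ∃ f ∈ fs, Q f M),
    Nonempty (Homotopy (𝟙 (DerCA.extCech M fs)) 0)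
  | [], M, hf => by
    obtain ⟨f, hf, _⟩ := hf
    simp at hf
  | g :: fs, M, hf => by
    change Nonempty (Homotopy (𝟙 (mappingCocone (DerCA.locCxUnit (Submonoid.powers g)
      (DerCA.extCech M fs)))) 0)
    apply Groth.Agent.S9263.cocone_contractible
    by_cases hg : Q g M
    · haveI := isIso_locCxUnit g (DerCA.extCech M fs) (Q_extCech g fs M hg)
      infer_instance
    · have hfs : ∃ f ∈ fs, Q f M := by
        obtain ⟨f, hf1, hf2⟩ := hf
        rcases List.mem_cons.1 hf1 with rfl | h
        · exact absurd hf2 hg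
        · exact ⟨f, h, hf2⟩
      have hK := main fs M hfs
      exact Groth.Agent.S9263.isIso_of_contractible _ hK (Groth.Agent.S9263.loc_contractible _ hK)

theorem main' (fs : List R) (M : Type u) [AddCommGroup M] [Module R M] (f : R) (hf : f ∈ fs)
    (hu : Function.Bijective (fun m : M => f • m)) (q : ℤ) :
    IsZero (DerCA.extCechH fs (ModuleCat.of R M) q) := by
  have hQ : Q f (ModuleCat.of R M) := by
    unfold Q
    rw [ConcreteCategory.isIso_iff_bijective]
    exact hu
  obtain ⟨H⟩ := main fs (ModuleCat.of R M) ⟨f, hf, hQ⟩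
  rw [IsZero.iff_id_eq_zero]
  have h := H.homologyMap_eq q
  rw [HomologicalComplex.homologyMap_id, HomologicalComplex.homologyMap_zero] at h
  exact h

end
end

/-- Let R be an arbitrary commutative ring, x_1, …, x_n a finite list of elements of R and M an R-module
such that some x_i acts bijectively on M (so M is an R_{x_i}-module). Then every cohomology module
of the extended Čech complex of M on x_1, …, x_n is zero, in all degrees. -/
theorem result (R : Type u) [CommRing R] (fs : List R) (M : Type u) [AddCommGroup M] [Module R M] (f : R) (hf : f ∈ fs) (hu : Function.Bijective (fun m : M => f • m)) (q : ℤ) : IsZero (DerCA.extCechH fs (ModuleCat.of R M) q) := by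
  exact main' fs M f hf hu q

end Groth.Agent.S17777
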