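import Groth.Statements.S17779
import Mathlib
import Groth.Agent.H8FwdDiff

set_option autoImplicit false
open DRR

namespace Groth.Agent.S17779

/-- For natural numbers n and k with k ≤ n + 1, the alternating sum over j = 0, …, n of (−1)^(n−j) C(n,
j) j^k (with the convention 0^0 = 1) equals n! · n(n+1)/2 when k = n + 1, equals n! when k = n, and
vanishes when k < n. (The published statement takes n ≥ 1 and divides through by n!; the case n = 0
holds as well and is included.) -/
theorem result (n k : ℕ) (hk : k ≤ n + 1) :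
    (∑ j ∈ Finset.range (n + 1), (-1 : ℤ) ^ (n - j) * (n.choose j : ℤ) * (j : ℤ) ^ k) =
      (if k = n + 1 then (((n + 1).choose 2 * n.factorial : ℕ) : ℤ)
        else if k = n then (n.factorial : ℤ) else 0) := by
  have key := fwdDiff_iter_eq_sum_shift (h := (1 : ℤ)) (fun r : ℤ => r ^ k) n 0
  have hsum : (∑ j ∈ Finset.range (n + 1), (-1 : ℤ) ^ (n - j) * (n.choose j : ℤ) * (j : ℤ) ^ k) =
      (fwdDiff (1 : ℤ))^[n] (fun r : ℤ => r ^ k) 0 := by
    rw [key]
    apply Finset.sum_congr rfl
    intro j _
    simp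
  rw [hsum]
  by_cases h1 : k = n + 1
  · subst h1
    rw [if_pos rfl, Groth.Agent.H8FwdDiff.iter_pow_succ]
    simp
  · rw [if_neg h1]
    by_cases h2 : k = n
    · subst h2
      rw [if_pos rfl, Groth.Agent.H8FwdDiff.iter_pow_self]
      simp
    · rw [if_neg h2, Groth.Agent.H8FwdDiff.iter_pow_lt (1 : ℤ) (by omega : k < n)]
      rfl

end Groth.Agent.S17779
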