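import Groth.Statements.S17859
import Groth.Statements.S17859
import Mathlib

set_option autoImplicit false
open CategoryTheory MonoidalCategory
universe u
open Algz

namespace Groth.Agent.S17859

/-- Over an affine scheme, that is for modules over a commutative ring `R`, a finitely generated
projective `R`-module `M`, viewed as an object of the monoidal category of `R`-modules (tensor
product over `R`), has a right dual. (The published statement is the equivalence, for quasi-coherent
sheaves on a quasi-compact quasi-separated scheme, between being dualizable and being a vector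
bundle; stated here is the affine case of the implication from vector bundle to dualizable. The
converse implication, that a module admitting a dual is finitely generated projective, is stated
separately and is not repeated here.) -/
theorem result (R : Type u) [CommRing R] (M : ModuleCat.{u} R)
    [Module.Finite R M] [Module.Projective R M] : Nonempty (HasRightDual M) := by
  classical
  obtain ⟨n, f, g, -, -, hfg⟩ := Module.Finite.exists_comp_eq_id_of_projective R M
  let m : Fin n → M := fun i => f (Pi.single i 1)
  let φ : Fin n → Module.Dual R M := fun i => (LinearMap.proj i) ∘ₗ g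
  have hdb : ∀ x : M, ∑ i, φ i x • m i = x := by
    intro x
    have h1 : f (g x) = x := LinearMap.congr_fun hfg x
    have h2 : g x = ∑ i, (g x i) • (Pi.single i (1 : R) : Fin n → R) := by
      ext j
      simp [Finset.sum_apply, Pi.single_apply]
    conv_rhs => rw [← h1, h2]
    rw [map_sum]
    refine Finset.sum_congr rfl fun i _ => ?_
    rw [map_smul]
    rfl
  have hdb' : ∀ y : Module.Dual R M, ∑ i, y (m i) • φ i = y := by
    intro y
    ext x
    rw [LinearMap.sum_apply]
    conv_rhs => rw [← hdb x, map_sum]
    refine Finset.sum_congr rfl fun i _ => ?_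
    rw [LinearMap.smul_apply, map_smul, smul_eq_mul, smul_eq_mul, mul_comm]
  let Y : ModuleCat.{u} R := ModuleCat.of R (Module.Dual R M)
  let η : 𝟙_ (ModuleCat.{u} R) ⟶ M ⊗ Y :=
    ModuleCat.ofHom (LinearMap.toSpanSingleton R (TensorProduct R M (Module.Dual R M))
      (∑ i, (m i) ⊗ₜ[R] (φ i)))
  let ε : Y ⊗ M ⟶ 𝟙_ (ModuleCat.{u} R) := ModuleCat.ofHom (contractLeft R M)
  have hη : ∀ r : R, η.hom r = r • ∑ i, (m i) ⊗ₜ[R] (φ i) := fun r => rfl
  have hε : ∀ (y : Module.Dual R M) (x : M), ε.hom (y ⊗ₜ[R] x) = y x := fun y x => rfl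
  refine ⟨@HasRightDual.mk _ _ _ M Y ?_⟩
  refine ExactPairing.mk η ε ?_ ?_
  · apply ModuleCat.MonoidalCategory.tensor_ext
    intro y r
    rw [ModuleCat.hom_comp, ModuleCat.hom_comp, ModuleCat.hom_comp, LinearMap.comp_apply,
      LinearMap.comp_apply, LinearMap.comp_apply, ModuleCat.MonoidalCategory.whiskerLeft_apply,
      ModuleCat.MonoidalCategory.rightUnitor_hom_apply,
      ModuleCat.MonoidalCategory.leftUnitor_inv_apply]
    erw [hη r]
    rw [TensorProduct.tmul_smul, map_smul, map_smul, TensorProduct.tmul_sum, map_sum, map_sum]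
    have hterm : ∀ i, (ModuleCat.Hom.hom (ε ▷ Y))
        ((ModuleCat.Hom.hom (α_ Y M Y).inv) (y ⊗ₜ[R] (m i ⊗ₜ[R] φ i))) =
        (1 : R) ⊗ₜ[R] (y (m i) • φ i) := by
      intro i
      erw [ModuleCat.MonoidalCategory.associator_inv_apply,
        ModuleCat.MonoidalCategory.whiskerRight_apply]
      erw [hε y (m i)]
      rw [TensorProduct.tmul_smul, TensorProduct.smul_tmul', smul_eq_mul, mul_one]
    rw [Finset.sum_congr rfl fun i _ => hterm i, ← TensorProduct.tmul_sum]
    erw [hdb' y]
    rw [TensorProduct.tmul_smul]
  · apply ModuleCat.MonoidalCategory.tensor_ext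
    intro r x
    rw [ModuleCat.hom_comp, ModuleCat.hom_comp, ModuleCat.hom_comp, LinearMap.comp_apply,
      LinearMap.comp_apply, LinearMap.comp_apply, ModuleCat.MonoidalCategory.whiskerRight_apply,
      ModuleCat.MonoidalCategory.leftUnitor_hom_apply,
      ModuleCat.MonoidalCategory.rightUnitor_inv_apply]
    erw [hη r]
    rw [← TensorProduct.smul_tmul', map_smul, map_smul, TensorProduct.sum_tmul, map_sum, map_sum]
    have hterm : ∀ i, (ModuleCat.Hom.hom (M ◁ ε))
        ((ModuleCat.Hom.hom (α_ M Y M).hom) ((m i ⊗ₜ[R] φ i) ⊗ₜ[R] x)) =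
        (φ i x • m i) ⊗ₜ[R] (1 : R) := by
      intro i
      erw [ModuleCat.MonoidalCategory.associator_hom_apply,
        ModuleCat.MonoidalCategory.whiskerLeft_apply]
      erw [hε (φ i) x]
      rw [TensorProduct.smul_tmul, smul_eq_mul, mul_one]
    rw [Finset.sum_congr rfl fun i _ => hterm i, ← TensorProduct.sum_tmul, hdb x,
      ← TensorProduct.smul_tmul']

end Groth.Agent.S17859
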