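import Groth.Statements.S17872
import Mathlib

set_option autoImplicit false
universe u v
open GRRSing

namespace Groth.Agent.S17872

/-- Let H be a vector space over a field K and let b_0, …, b_l be elements of H. If the sum of the t ^ i
• b_i vanishes for infinitely many scalars t of K, then all the b_i are zero. -/
theorem result {K : Type u} {H : Type v} [Field K] [AddCommGroup H] [Module K H]
    (l : ℕ) (b : Fin (l + 1) → H)
    (h : Set.Infinite {t : K | ∑ i : Fin (l + 1), t ^ (i : ℕ) • b i = 0}) :
    b = 0 := by
  classical
  funext i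
  rw [Pi.zero_apply]
  rw [← Module.forall_dual_apply_eq_zero_iff K]
  intro φ
  -- polynomial with coefficients φ (b i)
  let P : Polynomial K := ∑ j : Fin (l + 1), Polynomial.C (φ (b j)) * Polynomial.X ^ (j : ℕ)
  have hroots : {t : K | ∑ i : Fin (l + 1), t ^ (i : ℕ) • b i = 0} ⊆ {t : K | P.IsRoot t} := by
    intro t ht
    simp only [Set.mem_ofPred_eq] at ht ⊢
    have h2 : φ (∑ i : Fin (l + 1), t ^ (i : ℕ) • b i) = 0 := by rw [ht, map_zero]
    rw [map_sum] at h2
    simp only [map_smul, smul_eq_mul] at h2
    simp only [Polynomial.IsRoot.def, P, Polynomial.eval_finsetSum, Polynomial.eval_mul,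
      Polynomial.eval_C, Polynomial.eval_pow, Polynomial.eval_X]
    rw [← h2]
    apply Finset.sum_congr rfl
    intro j _
    ring
  have hP : P = 0 := by
    by_contra hne
    exact (h.mono hroots) (Polynomial.finite_setOfPred_isRoot hne)
  have hc : P.coeff (i : ℕ) = φ (b i) := by
    simp only [P, Polynomial.finsetSum_coeff, Polynomial.coeff_C_mul, Polynomial.coeff_X_pow]
    rw [Finset.sum_eq_single i]
    · simp
    · intro j _ hji
      have : (i : ℕ) ≠ (j : ℕ) := fun h' => hji (Fin.ext h'.symm)
      simp [this]
    · intro h'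
      exact absurd (Finset.mem_univ i) h'
  rw [← hc, hP, Polynomial.coeff_zero]

end Groth.Agent.S17872
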