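import Groth.Statements.S17875
import Mathlib

set_option autoImplicit false
universe u
open Polynomial
open GRRSing

namespace Groth.Agent.S17875

/-- Let R be a commutative ℚ-algebra, r an element of R and δ a natural number with (r - 1) ^ (δ + 1) =
0. Write s(k, j) for the signed Stirling numbers of the first kind, the coefficients of x (x - 1) ⋯
(x - k + 1) = Σ_j s(k, j) x ^ j. Then (i) for every natural number n, r ^ n = Σ_{k ≤ δ} [n (n - 1) ⋯
(n - k + 1) / k!] (r - 1) ^ k; and (ii) in the polynomial ring R[x], Σ_{k ≤ δ} [x (x - 1) ⋯ (x - k +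
1) / k!] (r - 1) ^ k = Σ_{j ≤ δ} [Σ_{k ≤ δ} Σ_{u ≤ k} (-1) ^ (k - u) s(k, j) / (u! (k - u)!) · r ^
u] x ^ j. -/
theorem result {R : Type u} [CommRing R] [Algebra ℚ R]
    (r : R) (δ : ℕ) (hr : (r - 1) ^ (δ + 1) = 0) :
    (∀ n : ℕ, r ^ n = ∑ k ∈ Finset.range (δ + 1), ((descPochhammer ℚ k).eval (n : ℚ) / (k.factorial : ℚ)) • (r - 1) ^ k) ∧
    (∑ k ∈ Finset.range (δ + 1), ((k.factorial : ℚ)⁻¹ • (descPochhammer R k * Polynomial.C ((r - 1) ^ k))) =
      ∑ j ∈ Finset.range (δ + 1), Polynomial.C (∑ k ∈ Finset.range (δ + 1), ∑ u ∈ Finset.range (k + 1),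
        (((-1 : ℚ) ^ (k - u) * (((descPochhammer ℤ k).coeff j : ℤ) : ℚ)) / ((u.factorial * (k - u).factorial : ℕ) : ℚ)) • r ^ u) * Polynomial.X ^ j) := by
  classical
  constructor
  · intro n
    have hterm : ∀ k, ((descPochhammer ℚ k).eval (n : ℚ) / (k.factorial : ℚ)) • (r - 1) ^ k =
        (n.choose k : R) * (r - 1) ^ k := by
      intro k
      rw [← Nat.cast_choose_eq_descPochhammer_div, Algebra.smul_def, map_natCast]
    simp_rw [hterm]
    have h0 : r ^ n = ∑ k ∈ Finset.range (n + 1), (n.choose k : R) * (r - 1) ^ k := by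
      conv_lhs => rw [show r = (r - 1) + 1 by ring, add_pow]
      refine Finset.sum_congr rfl fun k _ => ?_
      rw [one_pow, mul_one, mul_comm]
    rw [h0]
    have hz1 : ∀ k, n + 1 ≤ k → (n.choose k : R) * (r - 1) ^ k = 0 := by
      intro k hk; rw [Nat.choose_eq_zero_of_lt (by omega)]; simp
    have hz2 : ∀ k, δ + 1 ≤ k → (n.choose k : R) * (r - 1) ^ k = 0 := by
      intro k hk
      have : (r - 1) ^ k = 0 := by
        rw [← Nat.add_sub_cancel' hk, pow_add, hr, zero_mul]
      rw [this, mul_zero]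
    rcases le_total (n + 1) (δ + 1) with h | h
    · exact Finset.sum_subset (Finset.range_mono h)
        (fun k _ hk => hz1 k (by simpa using hk))
    · exact (Finset.sum_subset (Finset.range_mono h)
        (fun k _ hk => hz2 k (by simpa using hk))).symm
  · ext j
    simp only [Polynomial.finsetSum_coeff, Polynomial.coeff_smul, Polynomial.coeff_mul_C,
      Polynomial.coeff_C_mul_X_pow]
    have hcoef : ∀ k, (descPochhammer R k).coeff j = (((descPochhammer ℤ k).coeff j : ℤ) : R) := by
      intro k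
      rw [← descPochhammer_map (Int.castRingHom R) k, Polynomial.coeff_map]; rfl
    rw [Finset.sum_ite_eq (Finset.range (δ + 1)) j]
    by_cases hj : j < δ + 1
    · rw [if_pos (Finset.mem_range.2 hj)]
      refine Finset.sum_congr rfl fun k _ => ?_
      rw [hcoef]
      set s : ℤ := (descPochhammer ℤ k).coeff j with hs
      have hexp : (r - 1) ^ k = ∑ u ∈ Finset.range (k + 1), r ^ u * (-1) ^ (k - u) * (k.choose u : R) := by
        rw [sub_eq_add_neg, add_pow]
      rw [hexp, Finset.mul_sum, Finset.smul_sum]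
      refine Finset.sum_congr rfl fun u hu => ?_
      have hu' : u ≤ k := Nat.lt_succ_iff.1 (Finset.mem_range.1 hu)
      have hk0 : (k.factorial : ℚ) ≠ 0 := by positivity
      have hne : ((u.factorial * (k - u).factorial : ℕ) : ℚ) ≠ 0 := by positivity
      have hc : ((k.choose u : ℕ) : ℚ) * (u.factorial : ℚ) * ((k - u).factorial : ℚ) = (k.factorial : ℚ) := by
        exact_mod_cast Nat.choose_mul_factorial_mul_factorial hu'
      have h1 : (k.factorial : ℚ)⁻¹ * (((k.choose u : ℕ) : ℚ) * (u.factorial : ℚ) * ((k - u).factorial : ℚ)) = 1 := by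
        rw [hc]; exact inv_mul_cancel₀ hk0
      have hq : ((-1 : ℚ) ^ (k - u) * (s : ℚ)) / ((u.factorial * (k - u).factorial : ℕ) : ℚ) =
          (k.factorial : ℚ)⁻¹ * (s : ℚ) * (-1) ^ (k - u) * ((k.choose u : ℕ) : ℚ) := by
        rw [div_eq_iff hne]; push_cast
        linear_combination (-((s : ℚ) * (-1) ^ (k - u))) * h1
      rw [hq, Algebra.smul_def, Algebra.smul_def]
      have e1 : (s : R) = algebraMap ℚ R (s : ℚ) := (map_intCast (algebraMap ℚ R) s).symm
      have e2 : ((-1 : R)) ^ (k - u) = algebraMap ℚ R ((-1) ^ (k - u)) := by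
        rw [map_pow, map_neg, map_one]
      have e3 : ((k.choose u : ℕ) : R) = algebraMap ℚ R ((k.choose u : ℕ) : ℚ) :=
        (map_natCast (algebraMap ℚ R) _).symm
      rw [e1, e2, e3, map_mul, map_mul, map_mul]
      ring
    · rw [if_neg (by simpa using hj)]
      refine Finset.sum_eq_zero fun k hk => ?_
      have hk' : k < δ + 1 := Finset.mem_range.1 hk
      have : (descPochhammer ℤ k).coeff j = 0 :=
        Polynomial.coeff_eq_zero_of_natDegree_lt (by rw [descPochhammer_natDegree]; omega)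
      rw [hcoef, this]; simp

end Groth.Agent.S17875
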