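import Groth.Statements.S17881
import Mathlib

set_option autoImplicit false
universe u
open CAlg

namespace Groth.Agent.S17881

/-- Let O be a subring of a nontrivial commutative ring A. The following are equivalent: (i) A is a
local ring, every non-unit of A belongs to O, and for every unit u of A one of u, u⁻¹ belongs to O —
equivalently O is the preimage in the local ring A of a valuation ring of the residue field of A,
which makes O a semi-valuation ring with semi-fraction ring A; (ii) for all f, g in A generating the
unit ideal, either f ∈ gO or g ∈ fO. (A is taken nontrivial: over the zero ring (ii) holds and (i)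
fails.) -/
theorem result (A : Type u) [CommRing A] [Nontrivial A]
    (O : Subring A) :
    (IsLocalRing A ∧ (∀ a : A, ¬ IsUnit a → a ∈ O) ∧ (∀ u : Aˣ, (u : A) ∈ O ∨ ((u⁻¹ : Aˣ) : A) ∈ O)) ↔
      ∀ f g : A, IsCoprime f g → (∃ o ∈ O, f = g * o) ∨ (∃ o ∈ O, g = f * o) := by
  classical
  constructor
  · rintro ⟨hloc, hnon, hunit⟩ f g hfg
    obtain ⟨a, b, hab⟩ := hfg
    have hfu : IsUnit f ∨ IsUnit g := by
      rcases IsLocalRing.isUnit_or_isUnit_of_add_one hab with h | h
      · exact Or.inl (isUnit_of_mul_isUnit_right h)
      · exact Or.inr (isUnit_of_mul_isUnit_right h)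
    by_cases hf : IsUnit f
    · by_cases hg : IsUnit g
      · obtain ⟨uf, rfl⟩ := hf
        obtain ⟨ug, rfl⟩ := hg
        rcases hunit (uf⁻¹ * ug) with h | h
        · right
          refine ⟨_, h, ?_⟩
          simp [Units.val_mul, ← mul_assoc]
        · left
          refine ⟨_, h, ?_⟩
          simp [mul_inv_rev, ← mul_assoc]
      · right
        obtain ⟨uf, rfl⟩ := hf
        refine ⟨(↑uf⁻¹ : A) * g, hnon _ ?_, ?_⟩
        · intro h
          apply hg
          have := (uf.isUnit).mul h
          simpa [← mul_assoc] using this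
        · simp [← mul_assoc]
    · have hg : IsUnit g := hfu.resolve_left hf
      left
      obtain ⟨ug, rfl⟩ := hg
      refine ⟨(↑ug⁻¹ : A) * f, hnon _ ?_, ?_⟩
      · intro h
        apply hf
        have := (ug.isUnit).mul h
        simpa [← mul_assoc] using this
      · simp [← mul_assoc]
  · intro h
    have hcop1 : ∀ a : A, IsCoprime a 1 := fun a => ⟨0, 1, by simp⟩
    refine ⟨?_, ?_, ?_⟩
    · refine IsLocalRing.of_is_unit_or_is_unit_of_add_one ?_
      intro a b hab
      have hc : IsCoprime a b := ⟨1, 1, by simpa using hab⟩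
      rcases h a b hc with ⟨o, _, ho⟩ | ⟨o, _, ho⟩
      · right
        apply IsUnit.of_mul_eq_one (1 + o)
        linear_combination hab - ho
      · left
        apply IsUnit.of_mul_eq_one (1 + o)
        linear_combination hab - ho
    · intro a ha
      rcases h a 1 (hcop1 a) with ⟨o, ho, hao⟩ | ⟨o, _, hao⟩
      · rw [hao, one_mul]; exact ho
      · exact absurd (IsUnit.of_mul_eq_one o hao.symm) ha
    · intro u
      rcases h u 1 (hcop1 _) with ⟨o, ho, hao⟩ | ⟨o, ho, hao⟩
      · left
        rw [hao, one_mul]; exact ho
      · right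
        have : ((u⁻¹ : Aˣ) : A) = o := by
          have h1 : (u : A) * o = 1 := hao.symm
          calc ((u⁻¹ : Aˣ) : A) = ((u⁻¹ : Aˣ) : A) * ((u : A) * o) := by rw [h1, mul_one]
            _ = o := by rw [← mul_assoc, Units.inv_mul, one_mul]
        rw [this]; exact ho

end Groth.Agent.S17881
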