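import Groth.Statements.S17882
import Mathlib

set_option autoImplicit false
universe u
open CAlg
open Matrix

namespace Groth.Agent.S17882

/-- Let B be a commutative ring, r ≥ 1, N a finitely generated submodule of B^r, and n_1, …, n_r ∈ N.
Suppose the determinant of the matrix with rows n_1, …, n_r is a nonzerodivisor of B and that the
determinant of every matrix whose rows lie in N is a multiple of it (the image of the top exterior
power of N in that of B^r ≅ B is the principal ideal generated by n_1 ∧ ⋯ ∧ n_r, a nonzerodivisor).
Then n_1, …, n_r are linearly independent over B and span N: N is free of rank r with this basis. -/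
theorem result (B : Type u) [CommRing B] (r : ℕ) (hr : 0 < r)
    (N : Submodule B (Fin r → B)) (hN : N.FG) (n : Fin r → (Fin r → B)) (hn : ∀ i, n i ∈ N)
    (hgen : ∀ m : Fin r → (Fin r → B), (∀ i, m i ∈ N) →
      Matrix.det (Matrix.of m) ∈ Ideal.span {Matrix.det (Matrix.of n)})
    (hnzd : Matrix.det (Matrix.of n) ∈ nonZeroDivisors B) :
    LinearIndependent B n ∧ Submodule.span B (Set.range n) = N := by
  classical
  set A : Matrix (Fin r) (Fin r) B := Matrix.of n with hA
  set D : B := A.det with hD
  have hmulVec : ∀ c : Fin r → B, A.transpose *ᵥ c = ∑ i, c i • n i := by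
    intro c
    ext j
    simp [Matrix.mulVec, dotProduct, hA, Finset.sum_apply, mul_comm]
  have hcancel : ∀ x y : B, D * x = D * y → x = y := by
    intro x y hxy
    have h0 : (x - y) * D = 0 := by rw [sub_mul, mul_comm x, mul_comm y, hxy, sub_self]
    exact sub_eq_zero.1 ((mem_nonZeroDivisors_iff_right.1 hnzd) _ h0)
  constructor
  · rw [Fintype.linearIndependent_iff]
    intro g hg i
    rw [← hmulVec] at hg
    have h1 : (Matrix.adjugate A.transpose) *ᵥ (A.transpose *ᵥ g) = 0 := by rw [hg, Matrix.mulVec_zero]
    rw [Matrix.mulVec_mulVec, Matrix.adjugate_mul, Matrix.smul_mulVec, Matrix.one_mulVec,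
      Matrix.det_transpose] at h1
    have h2 := congrFun h1 i
    simp only [Pi.smul_apply, smul_eq_mul, Pi.zero_apply] at h2
    exact hcancel _ _ (by rw [h2, mul_zero])
  · apply le_antisymm
    · rw [Submodule.span_le]
      rintro _ ⟨i, rfl⟩
      exact hn i
    · intro x hx
      have hc : ∀ i, ∃ c : B, (A.updateRow i x).det = D * c := by
        intro i
        have hrows : ∀ k, (Function.update n i x) k ∈ N := by
          intro k
          by_cases hk : k = i
          · subst hk; simpa using hx
          · simpa [Function.update_of_ne hk] using hn k
        have := hgen (Function.update n i x) hrows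
        rw [Ideal.mem_span_singleton] at this
        obtain ⟨c, hc⟩ := this
        exact ⟨c, hc⟩
      choose c hc using hc
      have hcr : Matrix.cramer A.transpose x = D • c := by
        ext i
        rw [Matrix.cramer_transpose_apply, hc i]
        rfl
      have h1 := Matrix.mulVec_cramer A.transpose x
      rw [hcr, Matrix.mulVec_smul, Matrix.det_transpose] at h1
      have h2 : x = A.transpose *ᵥ c := by
        ext j
        have := congrFun h1 j
        simp only [Pi.smul_apply, smul_eq_mul] at this
        exact (hcancel _ _ this).symm
      rw [h2, hmulVec]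
      apply Submodule.sum_mem
      intro i _
      exact Submodule.smul_mem _ _ (Submodule.subset_span ⟨i, rfl⟩)

end Groth.Agent.S17882
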