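import Groth.Statements.S17900
import Mathlib
import Groth.Agent.H8Flat

set_option autoImplicit false
universe u
open TensorProduct
open Pinch

namespace Groth.Agent.S17900

/-- Let R be a commutative ring and let B' → B → A, B' → A' → A be a commutative square of R-algebras
which is a fibre square (B' = B ×_A A') with A' → A surjective. If B, A' and A are flat over R then
B' is flat over R. -/
theorem result (R B' B A' A : Type u) [CommRing R] [CommRing B'] [CommRing B] [CommRing A'] [CommRing A]
    [Algebra B' B] [Algebra B' A'] [Algebra B A] [Algebra A' A] [Algebra B' A]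
    [IsScalarTower B' B A] [IsScalarTower B' A' A]
    [Algebra R B'] [Algebra R B] [Algebra R A'] [Algebra R A]
    [IsScalarTower R B' B] [IsScalarTower R B' A'] [IsScalarTower R B' A] [IsScalarTower R B A] [IsScalarTower R A' A]
    (hsq : EtMil.IsFibreSquare B' B A' A)
    [Module.Flat R B] [Module.Flat R A'] [Module.Flat R A] :
    Module.Flat R B' := by
  classical
  obtain ⟨hsurj, huniq⟩ := hsq
  let i : B' →ₗ[R] B × A' :=
    LinearMap.prod (IsScalarTower.toAlgHom R B' B).toLinearMap
      (IsScalarTower.toAlgHom R B' A').toLinearMap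
  let p : B × A' →ₗ[R] A :=
    LinearMap.coprod (IsScalarTower.toAlgHom R B A).toLinearMap
      (-(IsScalarTower.toAlgHom R A' A).toLinearMap)
  have hi_apply : ∀ b', i b' = (algebraMap B' B b', algebraMap B' A' b') := fun b' => rfl
  have hp_apply : ∀ x : B × A', p x = algebraMap B A x.1 - algebraMap A' A x.2 := by
    intro x
    simp [p, sub_eq_add_neg]
  have hcompat : ∀ b' : B', algebraMap B A (algebraMap B' B b') =
      algebraMap A' A (algebraMap B' A' b') := by
    intro b'
    rw [← IsScalarTower.algebraMap_apply B' B A, ← IsScalarTower.algebraMap_apply B' A' A]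
  have hi : Function.Injective i := by
    intro x y hxy
    rw [hi_apply, hi_apply, Prod.mk.injEq] at hxy
    obtain ⟨z, _, hz⟩ := huniq (algebraMap B' B y) (algebraMap B' A' y) (hcompat y)
    rw [hz x ⟨hxy.1, hxy.2⟩, hz y ⟨rfl, rfl⟩]
  have hex : Function.Exact i p := by
    intro x
    rw [hp_apply]
    constructor
    · intro hx
      obtain ⟨z, ⟨hz1, hz2⟩, _⟩ := huniq x.1 x.2 (sub_eq_zero.mp hx)
      exact ⟨z, by rw [hi_apply, hz1, hz2]⟩
    · rintro ⟨z, rfl⟩
      rw [hi_apply]
      exact sub_eq_zero.mpr (hcompat z)
  have hp : Function.Surjective p := by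
    intro a
    obtain ⟨a', rfl⟩ := hsurj a
    refine ⟨(0, -a'), ?_⟩
    rw [hp_apply]
    simp
  have : Module.Flat R (B × A') := Groth.Agent.H8Flat.flat_prod
  exact Groth.Agent.H8Flat.flat_of_exact i p hi hex hp

end Groth.Agent.S17900
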