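import Groth.Statements.S17901
import Mathlib
import Groth.Agent.H8Flat

set_option autoImplicit false
universe u
open TensorProduct
open Pinch

namespace Groth.Agent.S17901

/-- Let R be a commutative ring and let B' → B → A, B' → A' → A be a fibre square of R-algebras (B' = B
×_A A') with A' → A surjective, where B, A' and A are flat over R. Then for every commutative
R-algebra R' the square obtained by applying R' ⊗_R − is again a fibre square: R' ⊗_R A' → R' ⊗_R A
is surjective and every pair of elements of R' ⊗_R B and R' ⊗_R A' with the same image in R' ⊗_R A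
is the image of a unique element of R' ⊗_R B'. (The published lemma concludes that the base-changed
square of spectra is co-cartesian in ringed spaces; this row states the ring form, surjective edge
and fibre product, which its proof establishes before translating it to ringed spaces.) -/
theorem result (R B' B A' A : Type u) [CommRing R] [CommRing B'] [CommRing B] [CommRing A'] [CommRing A]
    [Algebra B' B] [Algebra B' A'] [Algebra B A] [Algebra A' A] [Algebra B' A]
    [IsScalarTower B' B A] [IsScalarTower B' A' A]
    [Algebra R B'] [Algebra R B] [Algebra R A'] [Algebra R A]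
    [IsScalarTower R B' B] [IsScalarTower R B' A'] [IsScalarTower R B' A] [IsScalarTower R B A] [IsScalarTower R A' A]
    (hsq : EtMil.IsFibreSquare B' B A' A)
    [Module.Flat R B] [Module.Flat R A'] [Module.Flat R A]
    (R' : Type u) [CommRing R'] [Algebra R R'] :
    Function.Surjective (Algebra.TensorProduct.map (AlgHom.id R R') (IsScalarTower.toAlgHom R A' A)) ∧
    ∀ (x : R' ⊗[R] B) (y : R' ⊗[R] A'),
      Algebra.TensorProduct.map (AlgHom.id R R') (IsScalarTower.toAlgHom R B A) x =
        Algebra.TensorProduct.map (AlgHom.id R R') (IsScalarTower.toAlgHom R A' A) y →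
      ∃! z : R' ⊗[R] B',
        Algebra.TensorProduct.map (AlgHom.id R R') (IsScalarTower.toAlgHom R B' B) z = x ∧
        Algebra.TensorProduct.map (AlgHom.id R R') (IsScalarTower.toAlgHom R B' A') z = y := by
  classical
  obtain ⟨hsurj, huniq⟩ := hsq
  let ιB : B' →ₗ[R] B := (IsScalarTower.toAlgHom R B' B).toLinearMap
  let ιA' : B' →ₗ[R] A' := (IsScalarTower.toAlgHom R B' A').toLinearMap
  let β : B →ₗ[R] A := (IsScalarTower.toAlgHom R B A).toLinearMap
  let α : A' →ₗ[R] A := (IsScalarTower.toAlgHom R A' A).toLinearMap
  let i : B' →ₗ[R] B × A' := LinearMap.prod ιB ιA'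
  let p : B × A' →ₗ[R] A := LinearMap.coprod β (-α)
  have hi_apply : ∀ b', i b' = (algebraMap B' B b', algebraMap B' A' b') := fun b' => rfl
  have hp_apply : ∀ x : B × A', p x = algebraMap B A x.1 - algebraMap A' A x.2 := by
    intro x
    simp [p, β, α, sub_eq_add_neg]
  have hcompat : ∀ b' : B', algebraMap B A (algebraMap B' B b') =
      algebraMap A' A (algebraMap B' A' b') := by
    intro b'
    rw [← IsScalarTower.algebraMap_apply B' B A, ← IsScalarTower.algebraMap_apply B' A' A]
  have hi : Function.Injective i := by
    intro x y hxy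
    rw [hi_apply, hi_apply, Prod.mk.injEq] at hxy
    obtain ⟨z, _, hz⟩ := huniq (algebraMap B' B y) (algebraMap B' A' y) (hcompat y)
    rw [hz x ⟨hxy.1, hxy.2⟩, hz y ⟨rfl, rfl⟩]
  have hex : Function.Exact i p := by
    intro x
    rw [hp_apply]
    constructor
    · intro hx
      obtain ⟨z, ⟨hz1, hz2⟩, _⟩ := huniq x.1 x.2 (sub_eq_zero.mp hx)
      exact ⟨z, by rw [hi_apply, hz1, hz2]⟩
    · rintro ⟨z, rfl⟩
      rw [hi_apply]
      exact sub_eq_zero.mpr (hcompat z)
  have hp : Function.Surjective p := by
    intro a
    obtain ⟨a', rfl⟩ := hsurj a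
    refine ⟨(0, -a'), ?_⟩
    rw [hp_apply]
    simp
  -- tensoring
  have hinj : Function.Injective (i.lTensor R') :=
    Groth.Agent.H8Flat.lTensor_injective_of_flat_quotient i p hi hex hp R'
  have hexT : Function.Exact (i.lTensor R') (p.lTensor R') := lTensor_exact R' hex hp
  -- identities
  have hmap : ∀ {C D : Type u} [CommRing C] [CommRing D] [Algebra R C] [Algebra R D]
      (f : C →ₐ[R] D) (x : R' ⊗[R] C),
      Algebra.TensorProduct.map (AlgHom.id R R') f x = (f.toLinearMap.lTensor R') x := by
    intro C D _ _ _ _ f x
    induction x using TensorProduct.induction_on with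
    | zero => simp
    | tmul r c => simp
    | add x y hx hy => simp only [map_add, hx, hy]
  have ha : ∀ z : R' ⊗[R] B', TensorProduct.prodRight R R R' B A' ((i.lTensor R') z) =
      ((ιB.lTensor R') z, (ιA'.lTensor R') z) := by
    intro z
    induction z using TensorProduct.induction_on with
    | zero => simp; rfl
    | tmul r c => simp [i]
    | add x y hx hy => simp only [map_add, hx, hy, Prod.mk_add_mk]
  have hb : ∀ w : R' ⊗[R] (B × A'), (p.lTensor R') w =
      (β.lTensor R') (TensorProduct.prodRight R R R' B A' w).1 -
        (α.lTensor R') (TensorProduct.prodRight R R R' B A' w).2 := by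
    intro w
    induction w using TensorProduct.induction_on with
    | zero => simp
    | tmul r c =>
      simp only [LinearMap.lTensor_tmul, TensorProduct.prodRight_tmul]
      rw [← TensorProduct.tmul_sub]
      congr 1
      simp [p, sub_eq_add_neg]
    | add x y hx hy =>
      simp only [map_add, hx, hy, Prod.fst_add, Prod.snd_add]
      abel
  refine ⟨?_, ?_⟩
  · rw [show (⇑(Algebra.TensorProduct.map (AlgHom.id R R') (IsScalarTower.toAlgHom R A' A))) =
        ⇑(α.lTensor R') from funext (hmap _)]
    exact LinearMap.lTensor_surjective R' hsurj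
  · intro x y hxy
    rw [hmap, hmap] at hxy
    have hw : (p.lTensor R') ((TensorProduct.prodRight R R R' B A').symm (x, y)) = 0 := by
      rw [hb, LinearEquiv.apply_symm_apply]
      exact sub_eq_zero.mpr hxy
    obtain ⟨z, hz⟩ := (hexT _).mp hw
    have hz' := ha z
    rw [hz, LinearEquiv.apply_symm_apply, Prod.mk.injEq] at hz'
    refine ⟨z, ⟨?_, ?_⟩, ?_⟩
    · rw [hmap]; exact hz'.1.symm
    · rw [hmap]; exact hz'.2.symm
    · rintro z' ⟨h1, h2⟩
      rw [hmap] at h1 h2
      apply hinj
      apply (TensorProduct.prodRight R R R' B A').injective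
      rw [ha, ha, ← hz'.1, ← hz'.2]
      exact Prod.ext h1 h2

end Groth.Agent.S17901
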