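import Groth.Statements.S17933
import Mathlib

set_option autoImplicit false
universe u
open MultCrv

namespace Groth.Agent.S17933

/-- Let R be a discrete valuation ring, n ≥ 1, A = R[X]/(X^n) with z the class of X, and M a finitely
generated A-module. Then M is torsion-free as an R-module if and only if the submodule M^(1) of
elements killed by z is a free R-module. (This is the statement at a closed point of the sheaf
statement: for a primitive multiple curve of multiplicity n the local ring at a closed point is of
the form R[X]/(X^n) with R the local ring of the reduced smooth curve, torsion-freeness is the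
absence of sections with finite support, and local freeness on the reduced curve is freeness of the
stalk; the row is stated for every discrete valuation ring R.) -/
theorem result (R : Type u) [CommRing R] [IsDomain R] [IsDiscreteValuationRing R] (n : ℕ) (hn : 1 ≤ n) (M : Type u) [AddCommGroup M] [Module (MultCrv.Rn R n) M] [Module R M] [IsScalarTower R (MultCrv.Rn R n) M] [Module.Finite (MultCrv.Rn R n) M] : Module.IsTorsionFree R M ↔ Module.Free R ↥(MultCrv.filt2 R n M 1) := by
  classical
  have hAfin : Module.Finite R (MultCrv.Rn R n) :=
    (Polynomial.monic_X_pow n : ((Polynomial.X : Polynomial R) ^ n).Monic).finite_quotient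
  have hMfin : Module.Finite R M := Module.Finite.trans (MultCrv.Rn R n) M
  have hzn : (MultCrv.z R n) ^ n = 0 := by
    show (Ideal.Quotient.mk (Ideal.span {(Polynomial.X : Polynomial R) ^ n}) Polynomial.X) ^ n = 0
    rw [← map_pow, Ideal.Quotient.eq_zero_iff_mem]
    exact Ideal.mem_span_singleton_self _
  constructor
  · intro hTF
    have h1 : Module.IsTorsionFree R ↥(MultCrv.filt2 R n M 1) :=
      Function.Injective.moduleIsTorsionFree (f := fun x : ↥(MultCrv.filt2 R n M 1) => (x : M))
        Subtype.val_injective (fun r m => rfl)
    have hNoeth : IsNoetherian R M := inferInstance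
    have h2 : Module.Finite R ↥((MultCrv.filt2 R n M 1).restrictScalars R) := inferInstance
    have h3 : Module.Finite R ↥(MultCrv.filt2 R n M 1) := h2
    exact Module.free_of_finite_type_torsion_free'
  · intro hfree
    rw [Module.isTorsionFree_iff_smul_eq_zero]
    intro r m hrm
    by_contra hcon
    rw [not_or] at hcon
    obtain ⟨hr, hm⟩ := hcon
    have hex : ∃ j : ℕ, (MultCrv.z R n) ^ j • m = 0 := ⟨n, by rw [hzn]; exact zero_smul (MultCrv.Rn R n) m⟩
    have hj0 : Nat.find hex ≠ 0 := by
      intro h0
      have h1 := Nat.find_spec hex
      rw [h0, pow_zero, one_smul] at h1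
      exact hm h1
    obtain ⟨j, hj⟩ := Nat.exists_eq_succ_of_ne_zero hj0
    have htne : (MultCrv.z R n) ^ j • m ≠ 0 := by
      intro h1
      have h2 := Nat.find_min' hex h1
      omega
    have htz : (MultCrv.z R n) ^ 1 • ((MultCrv.z R n) ^ j • m) = 0 := by
      rw [← mul_smul, ← pow_add, add_comm, ← Nat.succ_eq_add_one, ← hj]
      exact Nat.find_spec hex
    have htK : (MultCrv.z R n) ^ j • m ∈ MultCrv.filt2 R n M 1 :=
      (Submodule.mem_torsionBy_iff _ _).mpr htz
    have hrt : r • (⟨(MultCrv.z R n) ^ j • m, htK⟩ : ↥(MultCrv.filt2 R n M 1)) = 0 := by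
      apply Subtype.ext
      show r • ((MultCrv.z R n) ^ j • m) = 0
      rw [smul_comm, hrm, smul_zero]
    have hTFK : Module.IsTorsionFree R ↥(MultCrv.filt2 R n M 1) := inferInstance
    rcases smul_eq_zero.mp hrt with h | h
    · exact hr h
    · exact htne (congrArg Subtype.val h)

end Groth.Agent.S17933
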