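import Groth.Statements.S17943
import Mathlib

set_option autoImplicit false
universe u
open MultCrv

namespace Groth.Agent.S17943

/-- Let R be a discrete valuation ring, n ≥ 1, A = R[X]/(X^n) with z the class of X, and M a finitely
generated A-module. For 0 ≤ i < n the R-modules G^(i+1)(M) = M^(i+1)/M^(i) (M^(j) the elements
killed by z^j) and G_i(M) = z^i M/z^(i+1) M have the same rank over R. (Statement at a closed point
of the sheaf statement on a primitive multiple curve of multiplicity n with local rings R[X]/(X^n),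
where the rank of a coherent sheaf on the reduced smooth curve is its generic rank, here the rank
over R of the stalk; the equality of degrees that the published statement gives together with this
rank equality is a statement on the global curve and is not part of this row; stated for every
discrete valuation ring R.) -/
theorem result (R : Type u) [CommRing R] [IsDomain R] [IsDiscreteValuationRing R] (n : ℕ) (hn : 1 ≤ n) (M : Type u) [AddCommGroup M] [Module (MultCrv.Rn R n) M] [Module R M] [IsScalarTower R (MultCrv.Rn R n) M] [Module.Finite (MultCrv.Rn R n) M] (i : ℕ) (hi : i < n) : Module.finrank R (MultCrv.G2 R n M (i + 1)) = Module.finrank R (MultCrv.G1 R n M i) := by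
  classical
  have hAfin : Module.Finite R (MultCrv.Rn R n) :=
    (Polynomial.monic_X_pow n : ((Polynomial.X : Polynomial R) ^ n).Monic).finite_quotient
  have hNA : IsNoetherianRing (MultCrv.Rn R n) := inferInstance
  have hNM : IsNoetherian (MultCrv.Rn R n) M := inferInstance
  have hPfinA : Module.Finite (MultCrv.Rn R n) ↥(MultCrv.filt R n M i) := inferInstance
  have hPfin : Module.Finite R ↥(MultCrv.filt R n M i) :=
    Module.Finite.trans (MultCrv.Rn R n) _
  let φ1 : ↥(MultCrv.filt R n M i) →ₗ[MultCrv.Rn R n] M :=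
    (MultCrv.z R n) • (MultCrv.filt R n M i).subtype
  let φ2 : ↥(MultCrv.filt2 R n M (i + 1)) →ₗ[MultCrv.Rn R n] M :=
    (MultCrv.z R n ^ i) • (MultCrv.filt2 R n M (i + 1)).subtype
  have hφ1 : ∀ x, φ1 x = MultCrv.z R n • (x : M) := fun x => rfl
  have hφ2 : ∀ x, φ2 x = MultCrv.z R n ^ i • (x : M) := fun x => rfl
  let q : Submodule (MultCrv.Rn R n) ↥(MultCrv.filt R n M i) :=
    Submodule.comap (MultCrv.filt R n M i).subtype (MultCrv.filt R n M (i + 1))
  -- P' ≤ P
  have hle : MultCrv.filt R n M (i + 1) ≤ MultCrv.filt R n M i := by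
    rintro y ⟨m, rfl⟩
    refine ⟨MultCrv.z R n • m, ?_⟩
    show MultCrv.z R n ^ i • (MultCrv.z R n • m) = MultCrv.z R n ^ (i + 1) • m
    rw [smul_smul, ← pow_succ]
  -- Q1
  have Q1 : Module.finrank R (MultCrv.G1 R n M i) + Module.finrank R ↥q =
      Module.finrank R ↥(MultCrv.filt R n M i) :=
    (q.restrictScalars R).finrank_quotient_add_finrank
  have Q2 : Module.finrank R (↥(MultCrv.filt R n M i) ⧸ LinearMap.ker φ1) +
      Module.finrank R ↥(LinearMap.ker φ1) = Module.finrank R ↥(MultCrv.filt R n M i) :=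
    ((LinearMap.ker φ1).restrictScalars R).finrank_quotient_add_finrank
  have Q2' : Module.finrank R (↥(MultCrv.filt R n M i) ⧸ LinearMap.ker φ1) =
      Module.finrank R ↥(LinearMap.range φ1) :=
    LinearEquiv.finrank_eq (φ1.quotKerEquivRange.restrictScalars R)
  have hrange1 : LinearMap.range φ1 = MultCrv.filt R n M (i + 1) := by
    ext y
    constructor
    · rintro ⟨x, rfl⟩
      obtain ⟨m, hm⟩ := x.2
      refine ⟨m, ?_⟩
      show MultCrv.z R n ^ (i + 1) • m = φ1 x
      rw [hφ1, ← hm]
      show _ = MultCrv.z R n • (MultCrv.z R n ^ i • m)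
      rw [smul_smul, ← pow_succ']
    · rintro ⟨m, rfl⟩
      refine ⟨⟨MultCrv.z R n ^ i • m, ⟨m, rfl⟩⟩, ?_⟩
      rw [hφ1]
      show MultCrv.z R n • (MultCrv.z R n ^ i • m) = MultCrv.z R n ^ (i + 1) • m
      rw [smul_smul, ← pow_succ']
  have Q3 : Module.finrank R ↥(LinearMap.range φ1) = Module.finrank R ↥q := by
    rw [hrange1]
    exact (LinearEquiv.finrank_eq ((Submodule.comapSubtypeEquivOfLe hle).restrictScalars R)).symm
  -- Q4
  have hker2 : LinearMap.ker φ2 = Submodule.comap (MultCrv.filt2 R n M (i + 1)).subtype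
      (MultCrv.filt2 R n M (i + 1 - 1)) := by
    ext x
    exact Iff.rfl
  let gA : MultCrv.G2 R n M (i + 1) →ₗ[MultCrv.Rn R n] M :=
    Submodule.liftQ _ φ2 (le_of_eq hker2.symm)
  have hgA : Function.Injective gA := by
    rw [← LinearMap.ker_eq_bot]
    exact Submodule.ker_liftQ_eq_bot _ _ _ (le_of_eq hker2)
  have hrgA : LinearMap.range gA = LinearMap.range φ2 := Submodule.range_liftQ _ _ _
  let β : ↥(LinearMap.ker φ1) →ₗ[MultCrv.Rn R n] M :=
    (MultCrv.filt R n M i).subtype ∘ₗ (LinearMap.ker φ1).subtype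
  have hβ : Function.Injective β := by
    intro a b hab
    exact Subtype.ext (Subtype.ext hab)
  have hrβ : LinearMap.range β = LinearMap.range φ2 := by
    ext y
    constructor
    · rintro ⟨x, rfl⟩
      obtain ⟨m, hm⟩ := (x : ↥(MultCrv.filt R n M i)).2
      have hx0 : φ1 (x : ↥(MultCrv.filt R n M i)) = 0 := x.2
      rw [hφ1, ← hm] at hx0
      have hm' : MultCrv.z R n ^ (i + 1) • m = 0 := by
        rw [pow_succ', ← smul_smul]
        exact hx0
      refine ⟨⟨m, hm'⟩, ?_⟩
      rw [hφ2]
      exact hm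
    · rintro ⟨w, rfl⟩
      have hw : MultCrv.z R n ^ (i + 1) • (w : M) = 0 := w.2
      have hwP : MultCrv.z R n ^ i • (w : M) ∈ MultCrv.filt R n M i := ⟨(w : M), rfl⟩
      have hwK : (⟨MultCrv.z R n ^ i • (w : M), hwP⟩ : ↥(MultCrv.filt R n M i)) ∈
          LinearMap.ker φ1 := by
        rw [LinearMap.mem_ker, hφ1]
        show MultCrv.z R n • (MultCrv.z R n ^ i • (w : M)) = 0
        rw [smul_smul, ← pow_succ']
        exact hw
      exact ⟨⟨⟨MultCrv.z R n ^ i • (w : M), hwP⟩, hwK⟩, rfl⟩
  have Q4 : Module.finrank R (MultCrv.G2 R n M (i + 1)) = Module.finrank R ↥(LinearMap.ker φ1) := by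
    rw [LinearEquiv.finrank_eq ((LinearEquiv.ofInjective gA hgA).restrictScalars R),
      LinearEquiv.finrank_eq ((LinearEquiv.ofInjective β hβ).restrictScalars R), hrgA, hrβ]
  omega

end Groth.Agent.S17943
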