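import Groth.Statements.S17969
import Mathlib

set_option autoImplicit false
universe u
open scoped TensorProduct
open CAlg

namespace Groth.Agent.S17969

/-- Let A be an integrally closed domain with fraction field K and B a commutative A-algebra which is
finite and torsion-free as an A-module and generated as an A-algebra by a single element x. Let P be
the characteristic polynomial of multiplication by 1 ⊗ x on the finite free K-module K ⊗_A B. Then P
has coefficients in A, namely P is the image of a monic polynomial over A, and the kernel of the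
A-algebra map A[T] → B sending T to x is generated by that polynomial, so that B is A[T]/(P). -/
theorem result
    (A : Type u) [CommRing A] [IsDomain A] [IsIntegrallyClosed A]
    (B : Type u) [CommRing B] [Algebra A B] [Module.Finite A B] [NoZeroSMulDivisors A B]
    (x : B) (hx : Algebra.adjoin A {x} = ⊤) :
    ∃ P : Polynomial A, P.Monic ∧
      Polynomial.map (algebraMap A (FractionRing A)) P =
        (LinearMap.mulLeft (FractionRing A) ((1 : FractionRing A) ⊗ₜ[A] x)).charpoly ∧
      RingHom.ker (Polynomial.aeval x).toRingHom = Ideal.span {P} := by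
  classical
  set K := FractionRing A with hK
  set ξ : K ⊗[A] B := (1 : K) ⊗ₜ[A] x with hξ
  let inc : B →ₐ[A] K ⊗[A] B := Algebra.TensorProduct.includeRight
  have hinc : ∀ b, inc b = (1 : K) ⊗ₜ[A] b := fun b => rfl
  -- adjoin K {ξ} = ⊤
  have hadj : Algebra.adjoin K {ξ} = ⊤ := by
    rw [eq_top_iff]
    intro z hz
    clear hz
    have h1 : ∀ b : B, (1 : K) ⊗ₜ[A] b ∈ Algebra.adjoin K {ξ} := by
      intro b
      have hb : b ∈ Algebra.adjoin A {x} := by rw [hx]; trivial
      induction hb using Algebra.adjoin_induction with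
      | mem y hy =>
        rw [Set.mem_singleton_iff] at hy
        rw [hy]
        exact Algebra.subset_adjoin rfl
      | algebraMap a =>
        have : (1 : K) ⊗ₜ[A] (algebraMap A B a) = algebraMap K (K ⊗[A] B) (algebraMap A K a) := by
          rw [Algebra.TensorProduct.algebraMap_apply, Algebra.algebraMap_eq_smul_one a,
            ← TensorProduct.smul_tmul, Algebra.algebraMap_eq_smul_one a]
          simp
        rw [this]
        exact Subalgebra.algebraMap_mem _ _
      | add y z _ _ hy hz =>
        rw [TensorProduct.tmul_add]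
        exact Subalgebra.add_mem _ hy hz
      | mul y z _ _ hy hz =>
        have : (1 : K) ⊗ₜ[A] (y * z) = ((1 : K) ⊗ₜ[A] y) * ((1 : K) ⊗ₜ[A] z) := by
          rw [Algebra.TensorProduct.tmul_mul_tmul, one_mul]
        rw [this]
        exact Subalgebra.mul_mem _ hy hz
    induction z using TensorProduct.induction_on with
    | zero => exact Subalgebra.zero_mem _
    | tmul k b =>
      have : k ⊗ₜ[A] b = k • ((1 : K) ⊗ₜ[A] b) := by
        rw [TensorProduct.smul_tmul', smul_eq_mul, mul_one]
      rw [this]
      exact Subalgebra.smul_mem _ (h1 b) k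
    | add y z hy hz => exact Subalgebra.add_mem _ hy hz
  have hint : IsIntegral K ξ := Algebra.IsIntegral.isIntegral ξ
  let pb : PowerBasis K (K ⊗[A] B) := PowerBasis.ofAdjoinEqTop hint hadj
  have hpbgen : pb.gen = ξ := PowerBasis.ofAdjoinEqTop_gen hint hadj
  set μ := minpoly K ξ with hμ
  set χ := (LinearMap.mulLeft K ξ).charpoly with hχ
  have hχmonic : χ.Monic := LinearMap.charpoly_monic _
  have hμmonic : μ.Monic := minpoly.monic hint
  have hχξ : Polynomial.aeval ξ χ = 0 := by
    have h1 := LinearMap.aeval_self_charpoly (LinearMap.mulLeft K ξ)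
    have h2 : Polynomial.aeval (Algebra.lmul K (K ⊗[A] B) ξ) χ
        = Algebra.lmul K (K ⊗[A] B) (Polynomial.aeval ξ χ) :=
      Polynomial.aeval_algHom_apply (Algebra.lmul K (K ⊗[A] B)) ξ χ
    have h3 : Algebra.lmul K (K ⊗[A] B) ξ = LinearMap.mulLeft K ξ := rfl
    rw [h3, h1] at h2
    have h4 := congrArg (fun φ : Module.End K (K ⊗[A] B) => φ 1) h2
    simpa using h4.symm
  have hdvd : μ ∣ χ := minpoly.dvd K ξ hχξ
  have hdeg : χ.natDegree ≤ μ.natDegree := by
    rw [hχ, LinearMap.charpoly_natDegree, pb.finrank, ← pb.natDegree_minpoly, hpbgen]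
  have hχμ : χ = μ := Polynomial.eq_of_monic_of_dvd_of_natDegree_le hμmonic hχmonic hdvd hdeg
  -- descend μ to A
  have hxint : IsIntegral A x := Algebra.IsIntegral.isIntegral x
  have hQ₀ : (minpoly A x).Monic := minpoly.monic hxint
  have hmapaeval : ∀ Q : Polynomial A,
      Polynomial.aeval ξ (Q.map (algebraMap A K)) = inc (Polynomial.aeval x Q) := by
    intro Q
    rw [Polynomial.aeval_map_algebraMap]
    exact Polynomial.aeval_algHom_apply inc x Q
  have hQ₀ξ : Polynomial.aeval ξ ((minpoly A x).map (algebraMap A K)) = 0 := by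
    rw [hmapaeval, minpoly.aeval, map_zero]
  have hdvd₀ : μ ∣ (minpoly A x).map (algebraMap A K) := minpoly.dvd K ξ hQ₀ξ
  obtain ⟨P, hP⟩ := IsIntegrallyClosed.eq_map_mul_C_of_dvd K hQ₀ hdvd₀
  rw [hμmonic.leadingCoeff, Polynomial.C_1, mul_one] at hP
  have hPmonic : P.Monic := by
    apply Polynomial.monic_of_injective (IsFractionRing.injective A K)
    rw [hP]; exact hμmonic
  -- injectivity of inc
  have hincinj : Function.Injective inc := by
    have hloc : IsLocalizedModule (nonZeroDivisors A) (TensorProduct.mk A K B 1) :=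
      (isLocalizedModule_iff_isBaseChange (nonZeroDivisors A) K _).2 (TensorProduct.isBaseChange A B K)
    rw [injective_iff_map_eq_zero]
    intro b hb
    have hb' : TensorProduct.mk A K B 1 b = 0 := hb
    rw [IsLocalizedModule.eq_zero_iff (nonZeroDivisors A)] at hb'
    obtain ⟨c, hc⟩ := hb'
    rcases smul_eq_zero.1 hc with h | h
    · exact absurd h (nonZeroDivisors.coe_ne_zero c)
    · exact h
  have hPx : Polynomial.aeval x P = 0 := by
    apply hincinj
    rw [← hmapaeval, hP, map_zero]
    exact minpoly.aeval K ξ
  refine ⟨P, hPmonic, ?_, ?_⟩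
  · rw [hP, ← hχμ]
  · ext Q
    rw [RingHom.mem_ker, Ideal.mem_span_singleton]
    constructor
    · intro hQ
      have hQ' : Polynomial.aeval x Q = 0 := hQ
      have h1 : Polynomial.aeval ξ (Q.map (algebraMap A K)) = 0 := by
        rw [hmapaeval, hQ', map_zero]
      have h2 : μ ∣ Q.map (algebraMap A K) := minpoly.dvd K ξ h1
      rw [← hP] at h2
      exact (Polynomial.map_dvd_map _ (IsFractionRing.injective A K) hPmonic).1 h2
    · rintro ⟨R, rfl⟩
      change Polynomial.aeval x (P * R) = 0
      rw [map_mul, hPx, zero_mul]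

end Groth.Agent.S17969
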