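import Groth.Statements.S17970
import Mathlib
import Groth.Agent.Lib.helper4.FiniteLocalProd

set_option autoImplicit false
universe u
open Hensel

namespace Groth.Agent.S17970

/-- Let A be a local ring with maximal ideal m and B a commutative A-algebra which is finitely generated
as an A-module. Then B is ring-isomorphic to a finite product of local rings if and only if every
idempotent of B/mB is the image of an idempotent of B. (Reduction modulo mB is always injective on
the idempotents of B, because mB lies in the Jacobson radical of B; so this surjectivity amounts to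
the bijectivity on idempotents in the printed assertion.) -/
theorem result
    (A : Type u) [CommRing A] [IsLocalRing A] (B : Type u) [CommRing B] [Algebra A B] [Module.Finite A B] :
    (∃ (ι : Type u) (_ : Fintype ι) (C : ι → Type u) (_ : ∀ j, CommRing (C j)),
        (∀ j, IsLocalRing (C j)) ∧ Nonempty (B ≃+* (∀ j, C j))) ↔
      Set.SurjOn (Ideal.Quotient.mk (Ideal.map (algebraMap A B) (IsLocalRing.maximalIdeal A)))
        {e : B | IsIdempotentElem e} {e | IsIdempotentElem e} := by
  classical
  haveI : IsArtinianRing (B ⧸ Ideal.map (algebraMap A B) (IsLocalRing.maximalIdeal A)) :=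
    Groth.Agent.H4.H4_finite_local_artinian_quotient A B
  have hI := Groth.Agent.H4.H4_map_maximalIdeal_le_jacobson A B
  constructor
  · rintro ⟨ι, _, C, _, hC, ⟨σ⟩⟩
    haveI := hC
    intro ebar hebar
    obtain ⟨x, rfl⟩ := Ideal.Quotient.mk_surjective ebar
    obtain ⟨e, he, w, hw⟩ := Groth.Agent.H4.H4_exists_idem_of_equiv_pi_local C σ x
    refine ⟨e, he, ?_⟩
    rw [Ideal.Quotient.eq, hw]
    refine Ideal.mul_mem_left _ _ ?_
    rw [← Ideal.Quotient.eq, map_mul]
    exact hebar
  · intro hs
    exact Groth.Agent.H4.H4_exists_equiv_pi_local_of_idem_lift _ hI hs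

end Groth.Agent.S17970
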