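import Groth.Statements.S17972
import Mathlib
import Groth.Agent.S0501
import Groth.Agent.Lib.helper4.EtaleLift

set_option autoImplicit false
universe u
open Hensel

namespace Groth.Agent.S17972

/-- Let A be a henselian local ring with maximal ideal m, let P_1, …, P_n be polynomials over A in n
variables and a₀ ∈ A^n a point with P_i(a₀) ∈ m for all i whose Jacobian determinant
det(∂P_i/∂T_j)(a₀) is a unit of A, i.e. nonzero in the residue field. Then there is a ∈ A^n
congruent to a₀ modulo m in each coordinate with P_i(a) = 0 for all i. -/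
theorem result
    (A : Type u) [CommRing A] [HenselianLocalRing A] (n : ℕ)
    (P : Fin n → MvPolynomial (Fin n) A) (a₀ : Fin n → A)
    (h₀ : ∀ i, MvPolynomial.eval a₀ (P i) ∈ IsLocalRing.maximalIdeal A)
    (hJ : IsUnit (Matrix.of (fun i j => MvPolynomial.eval a₀ (MvPolynomial.pderiv j (P i)))).det) :
    ∃ a : Fin n → A, (∀ i, MvPolynomial.eval a (P i) = 0) ∧
      ∀ j, a j - a₀ j ∈ IsLocalRing.maximalIdeal A := by
  classical
  let k := IsLocalRing.ResidueField A
  let B := Groth.Agent.H4.EtaleLift.S1 P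
  let Q1 := Groth.Agent.H4.EtaleLift.Q1 P id Function.injective_id
  let E := Groth.Agent.H4.EtaleLift.S2 P id Function.injective_id
  haveI hE : Algebra.Etale A E := Groth.Agent.H4.EtaleLift.etale_S2 P id Function.injective_id rfl
  -- evaluation at the residue of a₀
  have hev : ∀ p : MvPolynomial (Fin n) A,
      MvPolynomial.aeval (fun j => IsLocalRing.residue A (a₀ j)) p =
        IsLocalRing.residue A (MvPolynomial.eval a₀ p) := by
    intro p
    have := MvPolynomial.eval₂_comp_left (IsLocalRing.residue A) (RingHom.id A) a₀ p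
    rw [MvPolynomial.eval, MvPolynomial.coe_eval₂Hom, this]
    rfl
  let φ₁ : B →ₐ[A] k := Ideal.Quotient.liftₐ _
    (MvPolynomial.aeval (fun j => IsLocalRing.residue A (a₀ j))) (by
      intro p hp
      have hle : Ideal.span (Set.range P) ≤
          RingHom.ker (MvPolynomial.aeval (R := A) (fun j => IsLocalRing.residue A (a₀ j))) := by
        rw [Ideal.span_le]
        rintro _ ⟨i, rfl⟩
        rw [SetLike.mem_coe, RingHom.mem_ker, hev]
        exact (IsLocalRing.residue_eq_zero_iff _).mpr (h₀ i)
      exact hle hp)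
  have hφ₁ : ∀ p : MvPolynomial (Fin n) A, φ₁ (Ideal.Quotient.mk _ p) =
      IsLocalRing.residue A (MvPolynomial.eval a₀ p) := by
    intro p
    rw [← hev]
    rfl
  have hjac : IsUnit (φ₁ Q1.jacobian) := by
    rw [Algebra.PreSubmersivePresentation.jacobian_eq_jacobiMatrix_det]
    have h1 : (algebraMap Q1.Ring B) Q1.jacobiMatrix.det = Ideal.Quotient.mk _ Q1.jacobiMatrix.det := rfl
    rw [h1, hφ₁, RingHom.map_det]
    apply IsUnit.map
    have h2 : (MvPolynomial.eval a₀).mapMatrix Q1.jacobiMatrix =
        (Matrix.of (fun i j => MvPolynomial.eval a₀ (MvPolynomial.pderiv j (P i)))).transpose := by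
      apply Matrix.ext
      intro i j
      simp only [RingHom.mapMatrix_apply, Matrix.map_apply, Matrix.transpose_apply, Matrix.of_apply]
      rw [show Q1.jacobiMatrix i j = MvPolynomial.pderiv (id i) (P j) from
        Algebra.PreSubmersivePresentation.jacobiMatrix_naive _ _ _ _ i j]
      rfl
    rw [h2, Matrix.det_transpose]
    exact hJ
  have hpow : ∀ y : Submonoid.powers Q1.jacobian, IsUnit (φ₁ y) := by
    rintro ⟨_, m, rfl⟩
    rw [map_pow]
    exact hjac.pow m
  let φ₀ : E →ₐ[A] k := IsLocalization.liftAlgHom (M := Submonoid.powers Q1.jacobian) hpow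
  have hφ₀ : ∀ b : B, φ₀ (algebraMap B E b) = φ₁ b := fun b => IsLocalization.lift_eq _ b
  have hφ₀surj : Function.Surjective φ₀ := by
    intro y
    obtain ⟨r, rfl⟩ := IsLocalRing.residue_surjective y
    exact ⟨algebraMap A E r, φ₀.commutes r⟩
  let q : Ideal E := RingHom.ker φ₀
  have hqmax : q.IsMaximal := RingHom.ker_isMaximal_of_surjective φ₀ hφ₀surj
  haveI hqprime : q.IsPrime := hqmax.isPrime
  let τ : q.ResidueField →+* k := Ideal.ResidueField.lift q φ₀.toRingHom le_rfl (by
    intro e he
    rw [Submonoid.mem_comap, IsUnit.mem_submonoid_iff, isUnit_iff_ne_zero]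
    exact he)
  have hτ' : ∀ e : E, τ (algebraMap E q.ResidueField e) = φ₀ e := fun e =>
    Ideal.ResidueField.lift_algebraMap q φ₀.toRingHom _ _ e
  have hτ : τ.comp (algebraMap A q.ResidueField) = (IsLocalRing.residue A).comp (algebraMap A A) := by
    ext r
    simp only [RingHom.comp_apply]
    rw [IsScalarTower.algebraMap_apply A E q.ResidueField, hτ', AlgHom.commutes]
    rfl
  obtain ⟨f, ⟨-, hf⟩, -⟩ := Groth.Agent.S0501.result A A E q τ hτ
  let G : MvPolynomial (Fin n) A →ₐ[A] A :=
    f.comp ((IsScalarTower.toAlgHom A B E).comp (Ideal.Quotient.mkₐ A _))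
  have hG : G = MvPolynomial.aeval (fun j => G (MvPolynomial.X j)) := MvPolynomial.aeval_unique G
  refine ⟨fun j => G (MvPolynomial.X j), ?_, ?_⟩
  · intro i
    have h1 : MvPolynomial.eval (fun j => G (MvPolynomial.X j)) (P i) = G (P i) := by
      conv_rhs => rw [hG]
      rfl
    rw [h1]
    have h2 : (Ideal.Quotient.mkₐ A (Ideal.span (Set.range P))) (P i) = 0 :=
      Ideal.Quotient.eq_zero_iff_mem.mpr (Ideal.subset_span ⟨i, rfl⟩)
    simp only [G, AlgHom.comp_apply, h2, map_zero]
  · intro j
    rw [← IsLocalRing.residue_eq_zero_iff, map_sub, sub_eq_zero]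
    have h3 : IsLocalRing.residue A (G (MvPolynomial.X j)) =
        φ₀ (algebraMap B E (Ideal.Quotient.mk _ (MvPolynomial.X j))) := by
      rw [← hτ']
      exact hf _
    rw [h3, hφ₀, hφ₁, MvPolynomial.eval_X]

end Groth.Agent.S17972
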