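import Groth.Statements.S17973
import Mathlib
import Groth.Agent.Lib.helper4.EssEtTrans

set_option autoImplicit false
universe u
open EGA4loc

namespace Groth.Agent.S17973

/-- Let A be a local ring, B a local ring which is a local-etale A-algebra (isomorphic over A to the
localization of an etale A-algebra at a prime ideal lying over the maximal ideal of A), and C a
local-etale B-algebra, regarded as an A-algebra through B. Then C is a local-etale A-algebra. -/
theorem result (A : Type u) [CommRing A] [IsLocalRing A]
    (B : Type u) [CommRing B] [IsLocalRing B] [Algebra A B]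
    (C : Type u) [CommRing C] [Algebra B C] [Algebra A C] [IsScalarTower A B C]
    (hB : EGA4loc.IsEssentiallyEtale A B) (hC : EGA4loc.IsEssentiallyEtale B C) :
    EGA4loc.IsEssentiallyEtale A C := by
  classical
  obtain ⟨C₁, _, _, q₁, hq₁, hEt₁, hq₁A, ⟨eB⟩⟩ := hB
  obtain ⟨C₂, _, _, q₂, hq₂, hEt₂, hq₂B, ⟨eC⟩⟩ := hC
  exact Groth.Agent.H4.H4_essEt_trans A B C C₁ q₁ hq₁A eB C₂ q₂ hq₂B eC

end Groth.Agent.S17973
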