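import Groth.Statements.S17974
import Mathlib

set_option autoImplicit false
universe u
open Unram

namespace Groth.Agent.S17974

/-- Let A be a commutative ring, B an unramified A-algebra (formally unramified and of finite type), C
an A-algebra, p a prime ideal of C, and u, v : B → C two A-algebra homomorphisms which agree after
composition with C → C/p. Then there is an element f of C not in p such that u and v agree after
composition with the localization map C → C[1/f]. -/
theorem result
    (A : Type u) [CommRing A] (B : Type u) [CommRing B] [Algebra A B]
    [Algebra.FormallyUnramified A B] [Algebra.FiniteType A B]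
    (C : Type u) [CommRing C] [Algebra A C] (p : Ideal C) [p.IsPrime]
    (u v : B →ₐ[A] C)
    (huv : (Ideal.Quotient.mk p).comp u.toRingHom = (Ideal.Quotient.mk p).comp v.toRingHom) :
    ∃ f : C, f ∉ p ∧
      (algebraMap C (Localization.Away f)).comp u.toRingHom =
        (algebraMap C (Localization.Away f)).comp v.toRingHom := by
  classical
  obtain ⟨t, ht1, ht2⟩ := (Algebra.FormallyUnramified.iff_exists_tensorProduct (R := A) (S := B)).1
    inferInstance
  let Φ : TensorProduct A B B →ₐ[A] C := Algebra.TensorProduct.productMap u v
  have hΦ : ∀ a b : B, Φ (TensorProduct.tmul A a b) = u a * v b := fun a b =>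
    Algebra.TensorProduct.productMap_apply_tmul u v a b
  set ε : C := Φ t with hε
  have hkill : ∀ s : B, (v s - u s) * ε = 0 := by
    intro s
    have h := congrArg Φ (ht1 s)
    rw [map_mul, map_zero, map_sub, hΦ, hΦ, map_one, map_one, one_mul, mul_one] at h
    exact h
  have hπ : ∀ x : TensorProduct A B B,
      Ideal.Quotient.mk p (Φ x) = Ideal.Quotient.mk p (u (Algebra.TensorProduct.lmul' A x)) := by
    intro x
    induction x using TensorProduct.induction_on with
    | zero => simp
    | tmul a b =>
      rw [hΦ, Algebra.TensorProduct.lmul'_apply_tmul, map_mul, map_mul, map_mul]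
      congr 1
      have := congrArg (fun h => h b) huv
      exact this.symm
    | add x y hx hy => rw [map_add, map_add, hx, hy, map_add, map_add, map_add]
  have hεp : ε ∉ p := by
    intro h
    have h1 : Ideal.Quotient.mk p ε = 0 := (Ideal.Quotient.eq_zero_iff_mem).2 h
    rw [hε, hπ, ht2, map_one, map_one] at h1
    exact one_ne_zero h1
  refine ⟨ε, hεp, ?_⟩
  apply RingHom.ext
  intro s
  change algebraMap C (Localization.Away ε) (u s) = algebraMap C (Localization.Away ε) (v s)
  have h2 := congrArg (algebraMap C (Localization.Away ε)) (hkill s)
  rw [map_mul, map_zero, map_sub] at h2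
  have hu : IsUnit (algebraMap C (Localization.Away ε) ε) :=
    IsLocalization.Away.algebraMap_isUnit ε
  have h3 := (hu.mul_left_eq_zero).1 h2
  exact (sub_eq_zero.1 h3).symm

end Groth.Agent.S17974
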