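import Groth.Statements.S17975
import Mathlib

set_option autoImplicit false
universe u
open Hensel

namespace Groth.Agent.S17975

/-- Let A be a local ring with maximal ideal m and residue field k, C a commutative A-algebra which is
finitely generated as an A-module, Q₀ a monic polynomial of degree n over k, e an A-algebra
isomorphism from C/mC to k[T]/(Q₀), and x an element of C whose class is sent by e to the class of
T. Then x generates C as an A-algebra, and x is a root of a monic polynomial Q over A of degree n
whose reduction modulo m equals Q₀. -/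
theorem result
    (A : Type u) [CommRing A] [IsLocalRing A] (C : Type u) [CommRing C] [Algebra A C] [Module.Finite A C]
    (Q₀ : Polynomial (IsLocalRing.ResidueField A)) (hQ₀ : Q₀.Monic)
    (e : (C ⧸ Ideal.map (algebraMap A C) (IsLocalRing.maximalIdeal A)) ≃ₐ[A] AdjoinRoot Q₀)
    (x : C) (hx : e (Ideal.Quotient.mk (Ideal.map (algebraMap A C) (IsLocalRing.maximalIdeal A)) x) = AdjoinRoot.root Q₀) :
    Algebra.adjoin A {x} = ⊤ ∧
      ∃ Q : Polynomial A, Q.Monic ∧ Q.natDegree = Q₀.natDegree ∧
        Polynomial.map (IsLocalRing.residue A) Q = Q₀ ∧ Polynomial.aeval x Q = 0 := by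
  classical
  let m := IsLocalRing.maximalIdeal A
  let I := Ideal.map (algebraMap A C) m
  let n := Q₀.natDegree
  -- the A-algebra hom C → AdjoinRoot Q₀
  let ψ : C →ₐ[A] AdjoinRoot Q₀ := e.toAlgHom.comp (Ideal.Quotient.mkₐ A I)
  have hψx : ψ x = AdjoinRoot.root Q₀ := hx
  have hψker : ∀ c : C, ψ c = 0 → c ∈ I := by
    intro c hc
    have : (Ideal.Quotient.mk I c) = 0 := by
      apply e.injective
      rw [map_zero]
      exact hc
    exact Ideal.Quotient.eq_zero_iff_mem.mp this
  have hsmul : ∀ (a : A) (y : AdjoinRoot Q₀), a • y = (IsLocalRing.residue A a) • y := by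
    intro a y
    rw [Algebra.smul_def, Algebra.smul_def, AdjoinRoot.algebraMap_eq', AdjoinRoot.algebraMap_eq]
    rfl
  let pb := AdjoinRoot.powerBasis' hQ₀
  let N : Submodule A C := Submodule.span A (Set.range fun i : Fin n => x ^ (i : ℕ))
  have hNtop : N = ⊤ := by
    rw [eq_top_iff]
    apply Submodule.le_of_le_smul_of_le_jacobson_bot (I := m) Module.Finite.fg_top
    · exact IsLocalRing.maximalIdeal_le_jacobson ⊥
    · rintro c -
      -- expand ψ c in the power basis
      have hrepr := pb.basis.sum_repr (ψ c)
      choose lift hlift using fun i : Fin n => IsLocalRing.residue_surjective (pb.basis.repr (ψ c) i)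
      let c' : C := ∑ i : Fin n, lift i • x ^ (i : ℕ)
      have hc' : ψ c' = ψ c := by
        rw [← hrepr]
        simp only [c', map_sum, map_smul, map_pow, hψx]
        apply Finset.sum_congr rfl
        intro i _
        rw [hsmul, hlift, pb.basis_eq_pow]
        rfl
      have hmem : c - c' ∈ I := hψker _ (by rw [map_sub, hc', sub_self])
      have hc'N : c' ∈ N := by
        apply Submodule.sum_mem
        intro i _
        exact Submodule.smul_mem _ _ (Submodule.subset_span ⟨i, rfl⟩)
      have hI' : c - c' ∈ m • (⊤ : Submodule A C) := by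
        rw [Ideal.smul_top_eq_map]
        exact hmem
      have : c = c' + (c - c') := by ring
      rw [this]
      exact Submodule.add_mem_sup hc'N hI'
  have hadj : Algebra.adjoin A {x} = ⊤ := by
    rw [eq_top_iff]
    intro c _
    have hc : c ∈ N := by rw [hNtop]; trivial
    have hle : N ≤ Subalgebra.toSubmodule (Algebra.adjoin A {x}) := by
      apply Submodule.span_le.mpr
      rintro _ ⟨i, rfl⟩
      exact Subalgebra.pow_mem _ (Algebra.subset_adjoin (Set.mem_singleton x)) _
    exact hle hc
  refine ⟨hadj, ?_⟩
  have hxn : x ^ n ∈ N := by rw [hNtop]; trivial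
  obtain ⟨a, ha⟩ := (Submodule.mem_span_range_iff_exists_fun A).mp hxn
  let p : Polynomial A := ∑ i : Fin n, Polynomial.C (a i) * Polynomial.X ^ (i : ℕ)
  have hpdeg : p.degree < n := Polynomial.degree_sum_fin_lt a
  let Q : Polynomial A := Polynomial.X ^ n - p
  have hQmonic : Q.Monic := Polynomial.monic_X_pow_sub hpdeg
  have hQdeg : Q.natDegree = n := by
    have h1 : Q.degree = (n : WithBot ℕ) := by
      have : (Polynomial.X ^ n - p : Polynomial A).degree = (Polynomial.X ^ n : Polynomial A).degree := by
        apply Polynomial.degree_sub_eq_left_of_degree_lt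
        rw [Polynomial.degree_X_pow]
        exact hpdeg
      rw [this, Polynomial.degree_X_pow]
    exact Polynomial.natDegree_eq_of_degree_eq_some h1
  have hQx : Polynomial.aeval x Q = 0 := by
    simp only [Q, p, map_sub, map_pow, Polynomial.aeval_X, map_sum, map_mul, Polynomial.aeval_C]
    rw [← ha, sub_eq_zero]
    apply Finset.sum_congr rfl
    intro i _
    rw [Algebra.smul_def]
  refine ⟨Q, hQmonic, hQdeg, ?_, hQx⟩
  -- reduction equals Q₀
  have hQbar_monic : (Polynomial.map (IsLocalRing.residue A) Q).Monic := hQmonic.map _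
  have hQbar_deg : (Polynomial.map (IsLocalRing.residue A) Q).natDegree = n := by
    rw [hQmonic.natDegree_map, hQdeg]
  have hroot : Polynomial.aeval (AdjoinRoot.root Q₀) Q = 0 := by
    rw [← hψx, Polynomial.aeval_algHom_apply, hQx, map_zero]
  have hzero : AdjoinRoot.mk Q₀ (Polynomial.map (IsLocalRing.residue A) Q) = 0 := by
    rw [← AdjoinRoot.aeval_eq]
    have := Polynomial.aeval_map_algebraMap (R := A) (IsLocalRing.ResidueField A) (AdjoinRoot.root Q₀) Q
    rw [IsLocalRing.ResidueField.algebraMap_eq] at this
    rw [this]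
    exact hroot
  have hdvd : Q₀ ∣ Polynomial.map (IsLocalRing.residue A) Q := AdjoinRoot.mk_eq_zero.mp hzero
  exact Polynomial.eq_of_monic_of_dvd_of_natDegree_le hQ₀ hQbar_monic hdvd (le_of_eq hQbar_deg)

end Groth.Agent.S17975
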