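import Groth.Statements.S17979
import Mathlib

set_option autoImplicit false
universe u
open Hensel

namespace Groth.Agent.S17979

/-- Let A be a local ring with residue field k and Q, R polynomials over A with Q monic. If the images
of Q and R in k[T] generate the unit ideal, then Q and R already generate the unit ideal of A[T]. -/
theorem result (A : Type u) [CommRing A] [IsLocalRing A]
    (Q R : Polynomial A) (hQ : Q.Monic)
    (h : IsCoprime (Polynomial.map (IsLocalRing.residue A) Q) (Polynomial.map (IsLocalRing.residue A) R)) :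
    IsCoprime Q R := by
  classical
  obtain ⟨a, b, hab⟩ := h
  obtain ⟨a', rfl⟩ := Polynomial.map_surjective (IsLocalRing.residue A) IsLocalRing.residue_surjective a
  obtain ⟨b', rfl⟩ := Polynomial.map_surjective (IsLocalRing.residue A) IsLocalRing.residue_surjective b
  set 𝔪 := IsLocalRing.maximalIdeal A with h𝔪
  have hD : a' * Q + b' * R - 1 ∈ Ideal.map Polynomial.C 𝔪 := by
    rw [h𝔪, ← IsLocalRing.ker_residue, ← Polynomial.ker_mapRingHom, RingHom.mem_ker]
    simp only [Polynomial.coe_mapRingHom, Polynomial.map_sub, Polynomial.map_add, Polynomial.map_mul,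
      Polynomial.map_one]
    rw [hab, sub_self]
  haveI : Module.Finite A (Polynomial A ⧸ Ideal.span {Q}) := hQ.finite_quotient
  let mk := Ideal.Quotient.mkₐ A (Ideal.span {Q})
  have hmkQ : mk Q = 0 := by
    simp only [mk, Ideal.Quotient.mkₐ_eq_mk]
    exact Ideal.Quotient.eq_zero_iff_mem.mpr (Ideal.mem_span_singleton_self Q)
  have hcoef : ∀ F : Polynomial A, F ∈ Ideal.map Polynomial.C 𝔪 →
      mk F ∈ 𝔪 • (⊤ : Submodule A (Polynomial A ⧸ Ideal.span {Q})) := by
    intro F hF
    rw [Ideal.mem_map_C_iff] at hF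
    rw [F.as_sum_range_C_mul_X_pow, map_sum]
    refine Submodule.sum_mem _ fun i _ => ?_
    rw [← Polynomial.smul_eq_C_mul, map_smul]
    exact Submodule.smul_mem_smul (hF i) Submodule.mem_top
  set N : Submodule A (Polynomial A ⧸ Ideal.span {Q}) :=
    (Ideal.span {mk R}).restrictScalars A with hN
  have hle : (⊤ : Submodule A (Polynomial A ⧸ Ideal.span {Q})) ≤ N ⊔ 𝔪 • ⊤ := by
    intro p _
    obtain ⟨P, rfl⟩ := Ideal.Quotient.mk_surjective p
    have hP : P = P * b' * R + (P * a' * Q - P * (a' * Q + b' * R - 1)) := by ring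
    have : (Ideal.Quotient.mk (Ideal.span {Q})) P = mk (P * b') * mk R +
        (mk (P * a') * mk Q - mk (P * (a' * Q + b' * R - 1))) := by
      conv_lhs => rw [hP]
      simp only [mk, Ideal.Quotient.mkₐ_eq_mk, map_add, map_sub, map_mul]
    rw [this, hmkQ, mul_zero, zero_sub]
    apply Submodule.add_mem_sup
    · rw [hN, Submodule.restrictScalars_mem]
      exact Ideal.mul_mem_left _ _ (Ideal.mem_span_singleton_self _)
    · apply Submodule.neg_mem
      exact hcoef _ (Ideal.mul_mem_left _ _ hD)
  have htop := Submodule.le_of_le_smul_of_le_jacobson_bot (N := N) Module.Finite.fg_top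
    (IsLocalRing.maximalIdeal_le_jacobson ⊥) hle
  have h1 : (1 : Polynomial A ⧸ Ideal.span {Q}) ∈ N := htop Submodule.mem_top
  rw [hN, Submodule.restrictScalars_mem, Ideal.mem_span_singleton'] at h1
  obtain ⟨s, hs⟩ := h1
  obtain ⟨S, rfl⟩ := Ideal.Quotient.mk_surjective s
  have : S * R - 1 ∈ Ideal.span {Q} := by
    rw [← Ideal.Quotient.eq]
    simpa [mk] using hs
  rw [Ideal.mem_span_singleton'] at this
  obtain ⟨T, hT⟩ := this
  exact ⟨-T, S, by linear_combination -hT⟩

end Groth.Agent.S17979
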