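import Groth.Statements.S17981
import Mathlib

set_option autoImplicit false
universe u
open Hensel

namespace Groth.Agent.S17981

/-- Let A be a commutative ring, I an ideal contained in the Jacobson radical of A, and B a commutative
A-algebra which is finitely generated as an A-module. Then two idempotents of B with the same image
in B/IB are equal. -/
theorem result (A : Type u) [CommRing A] (I : Ideal A)
    (hI : I ≤ Ideal.jacobson ⊥) (B : Type u) [CommRing B] [Algebra A B] [Module.Finite A B] :
    Set.InjOn (Ideal.Quotient.mk (Ideal.map (algebraMap A B) I)) {e : B | IsIdempotentElem e} := by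
  intro e he e' he' hee'
  simp only [Set.mem_ofPred_eq] at he he'
  have hx : e - e' ∈ Ideal.map (algebraMap A B) I := by
    rw [← Ideal.Quotient.eq]; exact hee'
  set x := e - e' with hxdef
  have hx3 : x * x * x = x := by
    have h1 : e * e = e := he
    have h2 : e' * e' = e' := he'
    rw [hxdef]
    linear_combination (e + 1 - 3 * e') * h1 + (3 * e - e' - 1) * h2
  have hxtop : x ∈ I • (⊤ : Submodule A B) := by
    rw [Ideal.smul_top_eq_map]; exact hx
  set M : Submodule A B := LinearMap.range (LinearMap.mulRight A x) with hM
  have hfg : M.FG := by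
    rw [hM, LinearMap.range_eq_map]
    exact Submodule.FG.map _ Module.Finite.fg_top
  have hmul : ∀ y ∈ I • (⊤ : Submodule A B), ∀ m ∈ M, y * m ∈ I • M := by
    intro y hy m hm
    refine Submodule.smul_induction_on (p := fun y => y * m ∈ I • M) hy ?_ ?_
    · intro i hi b _
      rw [smul_mul_assoc]
      apply Submodule.smul_mem_smul hi
      obtain ⟨c, rfl⟩ := hm
      exact ⟨b * c, by simp [mul_assoc]⟩
    · intro y z hy hz
      rw [add_mul]; exact Submodule.add_mem _ hy hz
  have hle : M ≤ I • M := by
    rintro _ ⟨b, rfl⟩
    have : (LinearMap.mulRight A x) b = x * (b * x * x) := by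
      simp only [LinearMap.mulRight_apply]
      calc b * x = b * (x * x * x) := by rw [hx3]
        _ = x * (b * x * x) := by ring
    rw [this]
    exact hmul x hxtop _ ⟨b * x, by simp⟩
  have hbot := Submodule.eq_bot_of_le_smul_of_le_jacobson_bot I M hfg hle hI
  have hxM : x ∈ M := ⟨1, by simp⟩
  rw [hbot, Submodule.mem_bot] at hxM
  exact sub_eq_zero.mp hxM

end Groth.Agent.S17981
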