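import Groth.Statements.S18019
import Mathlib

set_option autoImplicit false
universe u
open ClassStk

namespace Groth.Agent.S18019

open Polynomial in
/-- Let R be an integral domain of characteristic 2 and let a be a nonzero element of R, so that x ↦ x +
a defines an R-algebra involution of the polynomial ring R[x] (an action of the group of order two).
A polynomial f is invariant, f(x + a) = f(x), if and only if f belongs to the R-subalgebra generated
by u = x (x + a); in other words the ring of invariants is the polynomial ring R[u]. -/
theorem result (R : Type u) [CommRing R] [IsDomain R]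
    [CharP R 2] (a : R) (ha : a ≠ 0) (f : Polynomial R) :
    f.comp (X + C a) = f ↔ f ∈ Algebra.adjoin R ({X * (X + C a)} : Set (Polynomial R)) := by
  have h2 : (2 : R) = 0 := by
    have := CharP.cast_eq_zero R 2
    exact_mod_cast this
  have haa : a + a = 0 := by rw [← two_mul, h2, zero_mul]
  have hneg : -a = a := by
    rw [neg_eq_iff_add_eq_zero]; exact haa
  have hu : (X * (X + C a) : R[X]).comp (X + C a) = X * (X + C a) := by
    rw [mul_comp, add_comp, X_comp, C_comp, add_assoc, ← C_add, haa, C_0, add_zero, mul_comm]
  constructor
  · intro hf
    induction hn : f.natDegree using Nat.strong_induction_on generalizing f with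
    | _ n ih =>
      set c := f.coeff 0 with hc
      have hg0 : (f - C c).coeff 0 = 0 := by simp [hc]
      obtain ⟨h, hh⟩ := X_dvd_iff.2 hg0
      have hfa : f.eval a = f.eval 0 := by
        have := congrArg (Polynomial.eval 0) hf
        rw [eval_comp] at this
        simpa using this
      have hha : h.eval a = 0 := by
        have h1 : (f - C c).eval a = 0 := by
          rw [eval_sub, eval_C, hfa, hc, coeff_zero_eq_eval_zero, sub_self]
        rw [hh, eval_mul, eval_X] at h1
        exact (mul_eq_zero.1 h1).resolve_left ha
      obtain ⟨q, hq⟩ := dvd_iff_isRoot.2 hha
      have hXa : (X - C a : R[X]) = X + C a := by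
        rw [sub_eq_add_neg, ← C_neg, hneg]
      rw [hXa] at hq
      have hfq : f = C c + X * (X + C a) * q := by
        rw [mul_assoc, ← hq, ← hh]; ring
      have hune : (X * (X + C a) : R[X]) ≠ 0 := by
        apply mul_ne_zero X_ne_zero
        exact (monic_X_add_C a).ne_zero
      have hqinv : q.comp (X + C a) = q := by
        have h3 : f.comp (X + C a) = C c + X * (X + C a) * q.comp (X + C a) := by
          conv_lhs => rw [hfq]
          rw [add_comp, C_comp, mul_comp, hu]
        rw [hf] at h3
        have h4 : X * (X + C a) * q.comp (X + C a) = X * (X + C a) * q := by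
          have := hfq.symm.trans h3
          exact (add_left_cancel this).symm
        exact mul_left_cancel₀ hune h4
      by_cases hq0 : q = 0
      · rw [hfq, hq0, mul_zero, add_zero]
        exact Subalgebra.algebraMap_mem _ c
      · have hdeg : f.natDegree = 2 + q.natDegree := by
          have hudeg : (X * (X + C a) : R[X]).natDegree = 2 := by
            rw [natDegree_mul X_ne_zero (monic_X_add_C a).ne_zero, natDegree_X, natDegree_X_add_C]
          have h5 : (X * (X + C a) * q).natDegree = 2 + q.natDegree := by
            rw [natDegree_mul hune hq0, hudeg]
          rw [hfq, add_comm, natDegree_add_C, h5]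
        have hqmem := ih q.natDegree (by omega) q hqinv rfl
        rw [hfq]
        apply Subalgebra.add_mem _ (Subalgebra.algebraMap_mem _ c)
        exact Subalgebra.mul_mem _ (Algebra.subset_adjoin (Set.mem_singleton _)) hqmem
  · intro hf
    induction hf using Algebra.adjoin_induction with
    | mem x hx =>
      rw [Set.mem_singleton_iff] at hx
      rw [hx, hu]
    | algebraMap r => simp
    | add x y _ _ hx hy => rw [add_comp, hx, hy]
    | mul x y _ _ hx hy => rw [mul_comp, hx, hy]

end Groth.Agent.S18019
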