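import Groth.Statements.S18020
import Mathlib

set_option autoImplicit false
open W4c5stacksedinertia

namespace Groth.Agent.S18020

theorem card_of (G : Type) [Group G] [Finite G] : (Idx.of G).card = Nat.card G := by
  unfold Idx.card Idx.rep Idx.of
  have h : FinGrp.setoid (Quotient.out (s := FinGrp.setoid) (Quotient.mk FinGrp.setoid (FinGrp.of G)))
      (FinGrp.of G) := Quotient.mk_out (s := FinGrp.setoid) (FinGrp.of G)
  obtain ⟨e⟩ := h
  rw [Nat.card_congr e.toEquiv]
  show Nat.card (Fin (Nat.card G)) = Nat.card G
  simp

open W4c5stacksedinertia in
/-- In the rational vector space K with basis the isomorphism classes of finite groups (the class of a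
group standing for its classifying groupoid), the inertia operator, which sends the class of a
finite group to the sum over its conjugacy classes of the classes of the centralizers of
representatives, preserves the subspace spanned by the classes of groups of order at most `n`. -/
theorem result (n : ℕ) (v : K) (hv : v ∈ Kle n) :
    inertia v ∈ Kle n := by
  have hcl : ∀ (m : ℕ) (G : Type) [Group G] [Finite G], Nat.card G ≤ m →
      ∀ (H : Subgroup G), cl H ∈ Kle m := by
    intro m G _ _ hG H
    unfold cl Kle
    apply Finsupp.single_mem_supported
    show (Idx.of H).card ≤ m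
    rw [card_of]
    exact le_trans (Subgroup.card_le_card_group H) hG
  have hin : ∀ i : Idx, i.card ≤ n → inertiaROf 1 i.rep ∈ Kle n := by
    intro i hi
    unfold inertiaROf
    apply finsum_induction (p := fun x => x ∈ Kle n)
    · exact Submodule.zero_mem _
    · intro x y hx hy
      exact Submodule.add_mem _ hx hy
    · intro O
      exact hcl n i.rep hi _
  show Finsupp.linearCombination ℚ (fun i : Idx => inertiaROf 1 i.rep) v ∈ Kle n
  rw [Finsupp.linearCombination_apply, Finsupp.sum]
  apply Submodule.sum_mem
  intro i hi
  apply Submodule.smul_mem
  apply hin
  have h1 := (Finsupp.mem_supported ℚ v).mp hv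
  exact h1 (Finset.mem_coe.mpr hi)

end Groth.Agent.S18020
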