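import Groth.Statements.S18049
import Mathlib

set_option autoImplicit false
open STCI

namespace Groth.Agent.S18049

/-- For natural numbers 0 < k < N such that k does not divide N, ⌊N/k⌋ ≤ (N - k)/gcd(k, N); stated here
in the equivalent cleared form ⌊N/k⌋ · gcd(k, N) ≤ N - k. -/
theorem result (k N : ℕ) (hk : 0 < k) (hkN : k < N) (hndvd : ¬ k ∣ N) :
    N / k * Nat.gcd k N ≤ N - k := by
  obtain ⟨k', n', hcop, hk', hn'⟩ := Nat.exists_coprime k N
  have hg : 0 < Nat.gcd k N := Nat.gcd_pos_of_pos_left N hk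
  generalize Nat.gcd k N = g at *
  subst hk' hn'
  have hk'pos : 0 < k' := Nat.pos_of_mul_pos_right hk
  have hdiv : n' * g / (k' * g) = n' / k' := Nat.mul_div_mul_right _ _ hg
  rw [hdiv]
  have hlt : k' < n' := Nat.lt_of_mul_lt_mul_right hkN
  have hnd : ¬ k' ∣ n' := fun h => hndvd (Nat.mul_dvd_mul_right h g)
  have hmod : n' % k' ≠ 0 := fun h => hnd (Nat.dvd_of_mod_eq_zero h)
  have hdm := Nat.div_add_mod n' k'
  have hq : 1 ≤ n' / k' := Nat.div_pos hlt.le hk'pos
  have hk2 : 2 ≤ k' := by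
    rcases Nat.lt_or_ge k' 2 with h | h
    · exfalso; apply hnd
      have : k' = 1 := by omega
      rw [this]; exact one_dvd _
    · exact h
  have hkey : n' / k' + k' ≤ n' := by
    set q := n' / k'
    set r' := n' % k'
    have : 1 ≤ r' := Nat.one_le_iff_ne_zero.mpr hmod
    nlinarith
  have : n' * g - k' * g = (n' - k') * g := (Nat.sub_mul _ _ _).symm
  rw [this]
  exact Nat.mul_le_mul_right g (by omega)

end Groth.Agent.S18049
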