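import Groth.Statements.S18051
import Mathlib
import Groth.Agent.Lib.helper9.H9_Euclid

set_option autoImplicit false
open STCI

namespace Groth.Agent.S18051

open W4c5stcicurvesp3 in
/-- Let k ≤ N/2 be positive integers and let r_i = rem_i(N, k), d_i = div_i(N, k) be the iterated
Euclidean remainders and quotients of (N, k) (r_0 = k, r_1 = N mod k, r_2 = r_0 mod r_1, d_1 =
⌊N/k⌋, d_2 = ⌊r_0/r_1⌋). If the least positive t with r_t = 0 satisfies t ≥ 3, i.e. r_1 ≠ 0 and r_2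
≠ 0, then (r_0 - r_1)/d_1 + (r_1 - r_2)/(d_1 + d_2) + r_2/(d_1 + d_2 + 1) ≤ k²/N (in ℚ). -/
theorem result (k N : ℕ) (hk : 0 < k) (hkN : 2 * k ≤ N)
    (h1 : irem N k 1 ≠ 0) (h2 : irem N k 2 ≠ 0) :
    ((irem N k 0 : ℚ) - irem N k 1) / (idiv N k 1)
      + ((irem N k 1 : ℚ) - irem N k 2) / ((idiv N k 1 : ℚ) + idiv N k 2)
      + (irem N k 2 : ℚ) / ((idiv N k 1 : ℚ) + idiv N k 2 + 1)
      ≤ (k : ℚ) ^ 2 / N := by
  have hr1def : irem N k 1 = N % k := by simp [irem]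
  have hr1 : N % k ≠ 0 := by rwa [hr1def] at h1
  have hr2def : irem N k 2 = k % (N % k) := by simp [irem, hr1]
  have hr0def : irem N k 0 = k := by simp [irem]
  have hd1def : idiv N k 1 = N / k := by simp [idiv]
  have hd2def : idiv N k 2 = k / (N % k) := by simp [idiv, irem, hr1]
  rw [hr0def, hr1def, hr2def, hd1def, hd2def]
  rw [hr2def] at h2
  set r1 := N % k with hr1'
  set r2 := k % r1 with hr2'
  set a := N / k with ha'
  set b := k / r1 with hb'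
  have hN : N = k * a + r1 := (Nat.div_add_mod N k).symm
  have hk' : k = r1 * b + r2 := (Nat.div_add_mod k r1).symm
  have hr1lt : r1 < k := Nat.mod_lt N hk
  have hr1pos : 0 < r1 := Nat.pos_of_ne_zero hr1
  have hr2lt : r2 < r1 := Nat.mod_lt k hr1pos
  have hr2pos : 0 < r2 := Nat.pos_of_ne_zero h2
  have ha2 : 2 ≤ a := by
    rw [ha', Nat.le_div_iff_mul_le hk]
    omega
  have hb1 : 1 ≤ b := Nat.div_pos hr1lt.le hr1pos
  -- cast everything
  have hNq : (N : ℚ) = (k : ℚ) * a + r1 := by exact_mod_cast hN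
  have hkq : (k : ℚ) = (r1 : ℚ) * b + r2 := by exact_mod_cast hk'
  have ha2q : (2 : ℚ) ≤ a := by exact_mod_cast ha2
  have hb1q : (1 : ℚ) ≤ b := by exact_mod_cast hb1
  have hr1q : (0 : ℚ) < r1 := by exact_mod_cast hr1pos
  have hr2q : (0 : ℚ) < r2 := by exact_mod_cast hr2pos
  have hkq0 : (0 : ℚ) < k := by exact_mod_cast hk
  have hNq0 : (0 : ℚ) < N := by rw [hNq]; positivity
  have haq0 : (0 : ℚ) < a := by linarith
  have habq0 : (0 : ℚ) < (a : ℚ) + b := by linarith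
  have hsq0 : (0 : ℚ) < (a : ℚ) + b + 1 := by linarith
  rw [← sub_nonneg]
  have key : (k : ℚ) ^ 2 / N - (((k : ℚ) - r1) / a + ((r1 : ℚ) - r2) / ((a : ℚ) + b)
      + (r2 : ℚ) / ((a : ℚ) + b + 1)) =
      ((k : ℚ) * r1 * ((a : ℚ) + b + 1) * (a * b - a - b) + (a : ℚ) ^ 2 * k * r2
        + (r1 : ℚ) ^ 2 * b * ((a : ℚ) + b + 1) + a * r1 * r2) /
        (a * N * ((a : ℚ) + b) * ((a : ℚ) + b + 1)) := by
    rw [hNq]
    have hne : (k : ℚ) * a + r1 ≠ 0 := by rw [← hNq]; exact hNq0.ne'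
    field_simp
    ring
  rw [key]
  apply div_nonneg _ (by positivity)
  rcases Nat.lt_or_ge b 2 with hb | hb
  · have hb1' : b = 1 := by omega
    have hbq : (b : ℚ) = 1 := by exact_mod_cast hb1'
    rw [hbq] at hkq ⊢
    rw [hkq]
    have : ((r1 : ℚ) * 1 + r2) * r1 * ((a : ℚ) + 1 + 1) * (a * 1 - a - 1) +
        (a : ℚ) ^ 2 * (r1 * 1 + r2) * r2 + (r1 : ℚ) ^ 2 * 1 * ((a : ℚ) + 1 + 1) + a * r1 * r2 =
        r1 * r2 * ((a : ℚ) ^ 2 - 2) + (a : ℚ) ^ 2 * r2 ^ 2 := by ring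
    rw [this]
    have h4 : (0 : ℚ) ≤ (a : ℚ) ^ 2 - 2 := by nlinarith
    positivity
  · have hb2q : (2 : ℚ) ≤ b := by exact_mod_cast hb
    have h5 : (0 : ℚ) ≤ (a : ℚ) * b - a - b := by nlinarith
    positivity

end Groth.Agent.S18051
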