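import Groth.Statements.S18052
import Mathlib
import Groth.Agent.Lib.helper9.H9_Euclid
import Groth.Agent.S18051

set_option autoImplicit false
open STCI

namespace Groth.Agent.S18052

open W4c5stcicurvesp3 in
/-- Let k ≤ N/2 be positive integers, let r_i = rem_i(N, k) and d_i = div_i(N, k) be the iterated
Euclidean remainders and quotients of (N, k) (r_0 = k, r_1 = N mod k, …; d_1 = ⌊N/k⌋, d_i =
⌊r_{i-2}/r_{i-1}⌋), and let t be the least positive integer with r_t = 0. Then the sum over i = 0,
…, t - 1 of (r_i - r_{i+1})/(d_1 + ⋯ + d_{i+1}) is at most k²/N (in ℚ). -/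
theorem result (k N t : ℕ) (hk : 0 < k) (hkN : 2 * k ≤ N) (ht : 0 < t)
    (hzero : irem N k t = 0) (hmin : ∀ i, 0 < i → i < t → irem N k i ≠ 0) :
    ∑ i ∈ Finset.range t, ((irem N k i : ℚ) - irem N k (i + 1)) / (∑ j ∈ Finset.Icc 1 (i + 1), (idiv N k j : ℚ))
      ≤ (k : ℚ) ^ 2 / N := by
  have hr0def : irem N k 0 = k := by simp [irem]
  have hr1def : irem N k 1 = N % k := by simp [irem]
  have hd1def : idiv N k 1 = N / k := by simp [idiv]
  have hkq0 : (0 : ℚ) < k := by exact_mod_cast hk
  have hNpos : 0 < N := by omega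
  have hNq0 : (0 : ℚ) < N := by exact_mod_cast hNpos
  have ha2 : 2 ≤ N / k := by
    rw [Nat.le_div_iff_mul_le hk]
    omega
  have hIcc1 : Finset.Icc 1 1 = {1} := by decide
  have hIcc2 : Finset.Icc 1 2 = {1, 2} := by decide
  -- monotonicity of remainders from index 1 on
  have hmono : ∀ n, irem N k (n + 2) ≤ irem N k (n + 1) := by
    intro n
    have e : irem N k (n + 2) =
        if irem N k (n + 1) = 0 then 0 else irem N k n % irem N k (n + 1) := by rw [irem]
    rw [e]
    split_ifs with h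
    · exact Nat.zero_le _
    · exact (Nat.mod_lt _ (Nat.pos_of_ne_zero h)).le
  rcases Nat.lt_or_ge t 2 with ht2 | ht2
  · -- t = 1
    have ht1 : t = 1 := by omega
    subst ht1
    rw [hr1def] at hzero
    have hdvd : k ∣ N := Nat.dvd_of_mod_eq_zero hzero
    have hN : N = k * (N / k) := (Nat.mul_div_cancel' hdvd).symm
    have hNq : (N : ℚ) = (k : ℚ) * ((N / k : ℕ) : ℚ) := by exact_mod_cast hN
    simp only [Finset.range_one, Finset.sum_singleton, zero_add, hIcc1, hr0def, hr1def, hzero,
      hd1def, Nat.cast_zero, sub_zero]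
    have haq : (0 : ℚ) < ((N / k : ℕ) : ℚ) := by
      have : 0 < N / k := by omega
      exact_mod_cast this
    rw [div_le_div_iff₀ haq hNq0, hNq]
    nlinarith
  have hr1 : N % k ≠ 0 := by
    have := hmin 1 (by omega) (by omega)
    rwa [hr1def] at this
  have hr2def : irem N k 2 = k % (N % k) := by simp [irem, hr1]
  have hd2def : idiv N k 2 = k / (N % k) := by simp [idiv, irem, hr1]
  have hr1lt : N % k < k := Nat.mod_lt N hk
  have hr1pos : 0 < N % k := Nat.pos_of_ne_zero hr1
  have hNeq : N = k * (N / k) + N % k := (Nat.div_add_mod N k).symm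
  have hkeq : k = (N % k) * (k / (N % k)) + k % (N % k) := (Nat.div_add_mod k (N % k)).symm
  rcases Nat.lt_or_ge t 3 with ht3 | ht3
  · -- t = 2
    have ht2' : t = 2 := by omega
    subst ht2'
    rw [hr2def] at hzero
    rw [hzero, add_zero] at hkeq
    have hb2 : 2 ≤ k / (N % k) := by
      rw [Nat.le_div_iff_mul_le hr1pos]
      by_contra hcon
      push_neg at hcon
      have : k / (N % k) ≤ 1 := by
        by_contra h'
        push_neg at h'
        have : (N % k) * 2 ≤ (N % k) * (k / (N % k)) := Nat.mul_le_mul_left _ h'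
        omega
      have h1 : (N % k) * (k / (N % k)) ≤ (N % k) * 1 := Nat.mul_le_mul_left _ this
      omega
    rw [Finset.sum_range_succ, Finset.sum_range_one]
    simp only [zero_add, hIcc1, hIcc2, hr0def, hr1def, hr2def, hzero, hd1def, Nat.cast_zero,
      sub_zero, Finset.sum_singleton]
    rw [Finset.sum_pair (by norm_num), hd1def, hd2def]
    set r1 := N % k
    set a := N / k
    set b := k / r1
    have hNq : (N : ℚ) = (k : ℚ) * a + r1 := by exact_mod_cast hNeq
    have hkq : (k : ℚ) = (r1 : ℚ) * b := by exact_mod_cast hkeq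
    have ha2q : (2 : ℚ) ≤ a := by exact_mod_cast ha2
    have hb2q : (2 : ℚ) ≤ b := by exact_mod_cast hb2
    have hr1q : (0 : ℚ) < r1 := by exact_mod_cast hr1pos
    have haq0 : (0 : ℚ) < a := by linarith
    have habq0 : (0 : ℚ) < (a : ℚ) + b := by linarith
    rw [← sub_nonneg]
    have key : (k : ℚ) ^ 2 / N - (((k : ℚ) - r1) / a + (r1 : ℚ) / ((a : ℚ) + b)) =
        (r1 * ((k : ℚ) * (a * b - a - b) + b * r1)) / (a * N * ((a : ℚ) + b)) := by
      rw [hNq]
      have hne : (k : ℚ) * a + r1 ≠ 0 := by rw [← hNq]; exact hNq0.ne'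
      field_simp
      ring
    rw [key]
    apply div_nonneg _ (by positivity)
    have h5 : (0 : ℚ) ≤ (a : ℚ) * b - a - b := by nlinarith
    positivity
  · -- t ≥ 3
    have hr2 : irem N k 2 ≠ 0 := hmin 2 (by omega) (by omega)
    have h1' : irem N k 1 ≠ 0 := by rw [hr1def]; exact hr1
    have hS := Groth.Agent.S18051.result k N hk hkN h1' hr2
    refine le_trans ?_ hS
    -- split the sum
    have hsplit : ∀ f : ℕ → ℚ, ∑ i ∈ Finset.range t, f i = f 0 + f 1 + ∑ i ∈ Finset.Ico 2 t, f i := by
      intro f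
      rw [Finset.range_eq_Ico, Finset.sum_eq_sum_Ico_succ_bot (by omega : 0 < t),
        Finset.sum_eq_sum_Ico_succ_bot (by omega : 0 + 1 < t)]
      ring
    rw [hsplit]
    simp only [zero_add, hIcc1, Finset.sum_singleton]
    have hI2 : ∑ j ∈ Finset.Icc 1 (1 + 1), (idiv N k j : ℚ) = (idiv N k 1 : ℚ) + idiv N k 2 := by
      rw [show (1 + 1 : ℕ) = 2 from rfl, hIcc2, Finset.sum_pair (by norm_num)]
    rw [hI2]
    have hD2pos : (0 : ℚ) < (idiv N k 1 : ℚ) + idiv N k 2 + 1 := by positivity
    -- d_3 ≥ 1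
    have hd3 : 1 ≤ idiv N k 3 := by
      have e : idiv N k 3 = if irem N k 2 = 0 then 0 else irem N k 1 / irem N k 2 := by
        rw [idiv]
      rw [e, if_neg hr2]
      apply Nat.div_pos _ (Nat.pos_of_ne_zero hr2)
      exact hmono 0
    have hDge : ∀ i, 2 ≤ i → (idiv N k 1 : ℚ) + idiv N k 2 + 1 ≤
        ∑ j ∈ Finset.Icc 1 (i + 1), (idiv N k j : ℚ) := by
      intro i hi
      have hsub : ({1, 2, 3} : Finset ℕ) ⊆ Finset.Icc 1 (i + 1) := by
        intro x hx
        simp only [Finset.mem_insert, Finset.mem_singleton] at hx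
        rw [Finset.mem_Icc]
        omega
      have h3 : ∑ j ∈ ({1, 2, 3} : Finset ℕ), (idiv N k j : ℚ) =
          (idiv N k 1 : ℚ) + idiv N k 2 + idiv N k 3 := by
        rw [Finset.sum_insert (by decide), Finset.sum_pair (by norm_num)]
        ring
      have h4 := Finset.sum_le_sum_of_subset_of_nonneg hsub
        (f := fun j => (idiv N k j : ℚ)) (fun j _ _ => Nat.cast_nonneg _)
      rw [h3] at h4
      have hd3q : (1 : ℚ) ≤ idiv N k 3 := by exact_mod_cast hd3
      linarith
    have htail : ∑ i ∈ Finset.Ico 2 t, ((irem N k i : ℚ) - irem N k (i + 1)) /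
        (∑ j ∈ Finset.Icc 1 (i + 1), (idiv N k j : ℚ)) ≤
        (irem N k 2 : ℚ) / ((idiv N k 1 : ℚ) + idiv N k 2 + 1) := by
      have hstep : ∀ i ∈ Finset.Ico 2 t, ((irem N k i : ℚ) - irem N k (i + 1)) /
          (∑ j ∈ Finset.Icc 1 (i + 1), (idiv N k j : ℚ)) ≤
          ((irem N k i : ℚ) - irem N k (i + 1)) / ((idiv N k 1 : ℚ) + idiv N k 2 + 1) := by
        intro i hi
        have hi2 := (Finset.mem_Ico.mp hi).1
        obtain ⟨n, rfl⟩ : ∃ n, i = n + 1 := ⟨i - 1, by omega⟩
        have hnn : (0 : ℚ) ≤ (irem N k (n + 1) : ℚ) - irem N k (n + 1 + 1) := by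
          have := hmono n
          have : (irem N k (n + 2) : ℚ) ≤ irem N k (n + 1) := by exact_mod_cast this
          linarith
        exact div_le_div_of_nonneg_left hnn hD2pos (hDge (n + 1) hi2)
      refine le_trans (Finset.sum_le_sum hstep) ?_
      rw [← Finset.sum_div, Finset.sum_Ico_eq_sum_range]
      have htel : ∑ x ∈ Finset.range (t - 2), ((irem N k (2 + x) : ℚ) - irem N k (2 + x + 1)) =
          (irem N k 2 : ℚ) - irem N k t := by
        have := Finset.sum_range_sub' (fun x => (irem N k (2 + x) : ℚ)) (t - 2)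
        simp only [add_zero] at this
        rw [show 2 + (t - 2) = t by omega] at this
        rw [← this]
        apply Finset.sum_congr rfl
        intro x _
        rw [add_assoc]
      rw [htel, hzero, Nat.cast_zero, sub_zero]
    linarith

end Groth.Agent.S18052
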