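import Groth.Statements.S18053
import Mathlib

set_option autoImplicit false
open STCI

namespace Groth.Agent.S18053

theorem arith1 (n a b c d e : ℕ) (H1 : 360 ≤ 15 * n + 30 * a + 10 * b + 5 * c + 3 * e)
    (H2 : 5 * a + 2 * n ≤ 45) (H3 : a + b + c + e + n ≤ 19) (h10 : b ≤ a) (h21 : c ≤ b)
    (H5 : e ≤ 16 * c) (H6 : d ≤ e) :
    n = 0 ∧ d = 0 ∧ ((a = 9 ∧ b = 8 ∧ c = 2) ∨ (a = 9 ∧ b = 9 ∧ c = 0) ∨
      (a = 9 ∧ b = 9 ∧ c = 1)) := by
  have ha8 : 8 ≤ a := by omega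
  have ha9 : a ≤ 9 := by omega
  have ha : a = 9 := by
    rcases Nat.lt_or_ge a 9 with h | h
    · have ha8' : a = 8 := by omega
      subst ha8'
      have hn2 : n ≤ 2 := by omega
      omega
    · omega
  subst ha
  have hn : n = 0 := by omega
  subst hn
  have hb : b = 8 ∨ b = 9 := by omega
  rcases hb with rfl | rfl
  · have hc : c = 2 := by omega
    subst hc
    omega
  · have hc : c = 0 ∨ c = 1 := by omega
    rcases hc with rfl | rfl <;> omega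

theorem arith2 (c e x3 x4 x5 x6 x7 x8 x9 x10 x11 x12 x13 x14 x15 x16 x17 x18 : ℕ)
    (he : e = x3 + x4 + x5 + x6 + x7 + x8 + x9 + x10 + x11 + x12 + x13 + x14 + x15 + x16 + x17 + x18)
    (h3 : x3 ≤ c) (h4 : x4 ≤ c) (h5 : x5 ≤ c) (h6 : x6 ≤ c) (h7 : x7 ≤ c) (h8 : x8 ≤ c)
    (h9 : x9 ≤ c) (h10 : x10 ≤ c) (h11 : x11 ≤ c) (h12 : x12 ≤ c) (h13 : x13 ≤ c) (h14 : x14 ≤ c)
    (h15 : x15 ≤ c) (h16 : x16 ≤ c) (h17 : x17 ≤ c) (h18 : x18 ≤ c) :
    e ≤ 16 * c ∧ x3 ≤ e := by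
  constructor <;> omega

/-- Let (p_k)_{k ≥ 1} be a sequence of nonnegative integers and n a nonnegative integer such that (i)
p_1 ≤ 9 - (2/5)n, (ii) p_1 ≥ p_2 ≥ p_3 ≥ ⋯, (iii) Σ_k p_k ≤ 19 - n, and (iv) n/4 + Σ_{k ≥ 1}
p_k/(k(k+1)) ≥ 6. Then n = 0 and (p_k) is one of (9, 8, 2), (9, 9), (9, 9, 1) (followed by zeros).
Here the sequence is indexed from 0 (so p 0 is p_1 and the weight of p k is 1/((k+1)(k+2))), (iii)
is stated for every partial sum, and the series in (iv) is the real sum Σ' over all k. -/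
theorem result (p : ℕ → ℕ) (n : ℕ)
    (h1 : (p 0 : ℝ) ≤ 9 - (2 / 5 : ℝ) * n) (h2 : Antitone p)
    (h3 : ∀ m : ℕ, ((∑ k ∈ Finset.range m, p k : ℕ) : ℝ) ≤ 19 - (n : ℝ))
    (h4 : (6 : ℝ) ≤ (n : ℝ) / 4 + ∑' k : ℕ, (p k : ℝ) / (((k : ℝ) + 1) * ((k : ℝ) + 2))) :
    n = 0 ∧ (p = (fun k => if k = 0 then 9 else if k = 1 then 8 else if k = 2 then 2 else 0)
      ∨ p = (fun k => if k = 0 then 9 else if k = 1 then 9 else 0)
      ∨ p = (fun k => if k = 0 then 9 else if k = 1 then 9 else if k = 2 then 1 else 0)) := by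
  have hn0 : (0 : ℝ) ≤ n := Nat.cast_nonneg n
  have hp : ∀ k, (0 : ℝ) ≤ p k := fun k => Nat.cast_nonneg _
  have hsum19 : ∀ k, 19 ≤ k → p k = 0 := by
    intro k hk
    by_contra h
    have h1' : 1 ≤ p k := Nat.one_le_iff_ne_zero.mpr h
    have h5 : k + 1 ≤ ∑ i ∈ Finset.range (k + 1), p i := by
      calc k + 1 = ∑ i ∈ Finset.range (k + 1), 1 := by simp
        _ ≤ ∑ i ∈ Finset.range (k + 1), p i := by
          apply Finset.sum_le_sum
          intro i hi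
          have hik : i ≤ k := by have := Finset.mem_range.mp hi; omega
          exact h1'.trans (h2 hik)
    have h6 : ((∑ i ∈ Finset.range (k + 1), p i : ℕ) : ℝ) ≤ 19 := by linarith [h3 (k + 1)]
    have h7 : (∑ i ∈ Finset.range (k + 1), p i) ≤ 19 := by exact_mod_cast h6
    omega
  have htsum : ∑' k : ℕ, (p k : ℝ) / (((k : ℝ) + 1) * ((k : ℝ) + 2))
      = ∑ k ∈ Finset.range 19, (p k : ℝ) / (((k : ℝ) + 1) * ((k : ℝ) + 2)) := by
    apply tsum_eq_sum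
    intro k hk
    have h19 : 19 ≤ k := by simpa using hk
    rw [hsum19 k h19]; simp
  rw [htsum] at h4
  have h319 := h3 19
  simp only [Finset.sum_range_succ, Finset.sum_range_zero] at h4 h319
  push_cast at h4 h319
  norm_num at h4
  obtain ⟨e, he⟩ : ∃ e : ℕ, e = p 3 + p 4 + p 5 + p 6 + p 7 + p 8 + p 9 + p 10 + p 11 + p 12
      + p 13 + p 14 + p 15 + p 16 + p 17 + p 18 := ⟨_, rfl⟩
  have heR : (e : ℝ) = p 3 + p 4 + p 5 + p 6 + p 7 + p 8 + p 9 + p 10 + p 11 + p 12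
      + p 13 + p 14 + p 15 + p 16 + p 17 + p 18 := by rw [he]; push_cast; ring
  have H1r : (360 : ℝ) ≤ ((15 * n + 30 * p 0 + 10 * p 1 + 5 * p 2 + 3 * e : ℕ) : ℝ) := by
    push_cast
    rw [heR]
    linarith [hp 0, hp 1, hp 2, hp 3, hp 4, hp 5, hp 6, hp 7, hp 8, hp 9, hp 10, hp 11, hp 12,
      hp 13, hp 14, hp 15, hp 16, hp 17, hp 18]
  have H1 : 360 ≤ 15 * n + 30 * p 0 + 10 * p 1 + 5 * p 2 + 3 * e := by exact_mod_cast H1r
  have H2r : ((5 * p 0 + 2 * n : ℕ) : ℝ) ≤ 45 := by push_cast; linarith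
  have H2 : 5 * p 0 + 2 * n ≤ 45 := by exact_mod_cast H2r
  have H3r : ((p 0 + p 1 + p 2 + e + n : ℕ) : ℝ) ≤ 19 := by
    push_cast; rw [heR]; linarith
  have H3 : p 0 + p 1 + p 2 + e + n ≤ 19 := by exact_mod_cast H3r
  have h10 : p 1 ≤ p 0 := h2 (by norm_num)
  have h21 : p 2 ≤ p 1 := h2 (by norm_num)
  have hle2 : ∀ k, 2 ≤ k → p k ≤ p 2 := fun k hk => h2 hk
  obtain ⟨H5, H6⟩ := arith2 (p 2) e (p 3) (p 4) (p 5) (p 6) (p 7) (p 8) (p 9) (p 10) (p 11) (p 12)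
    (p 13) (p 14) (p 15) (p 16) (p 17) (p 18) he (hle2 3 (by norm_num)) (hle2 4 (by norm_num))
    (hle2 5 (by norm_num)) (hle2 6 (by norm_num)) (hle2 7 (by norm_num)) (hle2 8 (by norm_num))
    (hle2 9 (by norm_num)) (hle2 10 (by norm_num)) (hle2 11 (by norm_num)) (hle2 12 (by norm_num))
    (hle2 13 (by norm_num)) (hle2 14 (by norm_num)) (hle2 15 (by norm_num)) (hle2 16 (by norm_num))
    (hle2 17 (by norm_num)) (hle2 18 (by norm_num))
  have hfin := arith1 n (p 0) (p 1) (p 2) (p 3) e H1 H2 H3 h10 h21 H5 H6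
  obtain ⟨hn, hp3, hcases⟩ := hfin
  have hge3 : ∀ k, p (k + 3) = 0 := fun k => by
    have := h2 (show 3 ≤ k + 3 by omega); omega
  refine ⟨hn, ?_⟩
  have hfun : ∀ (a b c : ℕ), p 0 = a → p 1 = b → p 2 = c →
      p = (fun k => if k = 0 then a else if k = 1 then b else if k = 2 then c else 0) := by
    intro a b c ha hb hc
    funext k
    beta_reduce
    by_cases h0 : k = 0
    · subst h0; rw [if_pos rfl, ha]
    · rw [if_neg h0]
      by_cases h1' : k = 1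
      · subst h1'; rw [if_pos rfl, hb]
      · rw [if_neg h1']
        by_cases h2' : k = 2
        · subst h2'; rw [if_pos rfl, hc]
        · rw [if_neg h2']
          obtain ⟨j, rfl⟩ : ∃ j, k = j + 3 := ⟨k - 3, by omega⟩
          exact hge3 j
  rcases hcases with ⟨a, b, c⟩ | ⟨a, b, c⟩ | ⟨a, b, c⟩
  · left; exact hfun 9 8 2 a b c
  · right; left
    rw [hfun 9 9 0 a b c]
    funext k
    by_cases h1' : k = 1
    · subst h1'; simp
    · by_cases h0 : k = 0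
      · subst h0; simp
      · simp [h0, h1']
  · right; right; exact hfun 9 9 1 a b c

end Groth.Agent.S18053
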