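import Groth.Statements.S18054
import Mathlib

set_option autoImplicit false
open STCI

namespace Groth.Agent.S18054

/-- Let s, t, d, g be integers with t ≥ s ≥ 4, d ≥ 1, g ≥ 0 and d dividing st; put n = st/d and assume n
≥ 2; put r = d[n(s - 4) + t] + (2 - 2g)n and assume r ≤ (s/3)(2s² - 6s + 7) - 1. Then d ≤ g + 3.
(The bound is written cleared of the denominator 3; s(2s² - 6s + 7) is always divisible by 3, so
this is the same condition.) -/
theorem result (s t d g n : ℤ) (hs : 4 ≤ s) (hst : s ≤ t) (hd : 1 ≤ d) (hg : 0 ≤ g)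
    (hn : s * t = d * n) (hn2 : 2 ≤ n)
    (hr : 3 * (d * (n * (s - 4) + t) + (2 - 2 * g) * n) ≤ s * (2 * s ^ 2 - 6 * s + 7) - 3) :
    d ≤ g + 3 := by
  have hd0 : 0 < d := by linarith
  have hn0 : 0 < n := by linarith
  have hs0 : 0 < s := by linarith
  have ht0 : 0 < t := by linarith
  -- key positivity
  have hG : 0 < 3 * s * t * (s - 6) * d + 3 * d ^ 2 * t + 30 * s * t -
      (2 * s ^ 3 - 6 * s ^ 2 + 7 * s - 3) * d := by
    have hK : 0 ≤ 3 * d ^ 2 + 3 * s * (s - 6) * d + 30 * s := by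
      rcases le_or_gt 6 s with h6 | h6
      · have : 0 ≤ s * (s - 6) * d :=
          mul_nonneg (mul_nonneg hs0.le (by linarith)) hd0.le
        nlinarith
      · interval_cases s
        · nlinarith [sq_nonneg (d - 4)]
        · nlinarith [sq_nonneg (2 * d - 5)]
    rcases eq_or_lt_of_le hs with h4 | h5
    · -- s = 4
      subst h4
      rcases eq_or_lt_of_le hst with h4t | h5t
      · subst h4t
        have hd8 : d ≤ 8 := by nlinarith
        interval_cases d
        all_goals first | omega | norm_num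
      · have h5t' : 5 ≤ t := by linarith
        have h1 : 0 ≤ (t - 5) * (3 * d ^ 2 + 3 * 4 * (4 - 6) * d + 30 * 4) :=
          mul_nonneg (by linarith) hK
        nlinarith [sq_nonneg (d - 5), sq_nonneg (d - 6)]
    · have h5' : 5 ≤ s := by linarith
      have hQ : 0 < 3 * s * d ^ 2 + (s ^ 3 - 12 * s ^ 2 - 7 * s + 3) * d + 30 * s ^ 2 := by
        rcases le_or_gt 13 s with h13 | h13
        · have h1 : 0 ≤ s ^ 2 * (s - 13) := mul_nonneg (sq_nonneg s) (by linarith)
          have h2 : 0 < s ^ 3 - 12 * s ^ 2 - 7 * s + 3 := by nlinarith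
          have h3 : 0 < (s ^ 3 - 12 * s ^ 2 - 7 * s + 3) * d := mul_pos h2 hd0
          have h4 : 0 ≤ 3 * s * d ^ 2 := by positivity
          have h5 : 0 < 30 * s ^ 2 := by positivity
          linarith
        · interval_cases s <;>
          nlinarith [sq_nonneg (d - 1), sq_nonneg (d - 2), sq_nonneg (d - 3), sq_nonneg (d - 4),
            sq_nonneg (d - 5), sq_nonneg (d - 6), sq_nonneg (d - 7), sq_nonneg (d - 8)]
      have h1 : 0 ≤ (t - s) * (3 * d ^ 2 + 3 * s * (s - 6) * d + 30 * s) :=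
        mul_nonneg (by linarith) hK
      have h2 : 3 * s * t * (s - 6) * d + 3 * d ^ 2 * t + 30 * s * t -
          (2 * s ^ 3 - 6 * s ^ 2 + 7 * s - 3) * d =
          (t - s) * (3 * d ^ 2 + 3 * s * (s - 6) * d + 30 * s) +
          (3 * s * d ^ 2 + (s ^ 3 - 12 * s ^ 2 - 7 * s + 3) * d + 30 * s ^ 2) := by ring
      rw [h2]
      linarith
  -- main claim
  have hMC : 2 * s ^ 3 - 6 * s ^ 2 + 7 * s - 3 < 3 * s * t * (s - 6) + 3 * d * t + 30 * n := by
    have h1 : 3 * s * t * (s - 6) * d + 3 * d ^ 2 * t + 30 * s * t -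
        (2 * s ^ 3 - 6 * s ^ 2 + 7 * s - 3) * d =
        d * (3 * s * t * (s - 6) + 3 * d * t + 30 * n - (2 * s ^ 3 - 6 * s ^ 2 + 7 * s - 3)) := by
      have : 30 * (s * t) = 30 * (d * n) := by rw [hn]
      linear_combination this
    rw [h1] at hG
    have := (mul_pos_iff_of_pos_left hd0).mp hG
    linarith
  by_contra hcon
  push_neg at hcon
  have h1 : 0 ≤ (d - 4 - g) * n := mul_nonneg (by linarith) hn0.le
  have h2 : d * n = s * t := hn.symm
  nlinarith

end Groth.Agent.S18054
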