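import Groth.Statements.S18055
import Mathlib

set_option autoImplicit false
open STCI

namespace Groth.Agent.S18055

/-- Let d ≥ 1, g ≥ 0 and 1 ≤ s ≤ t be integers with d dividing st, put n = st/d and r = d[n(s - 4) + t]
+ (2 - 2g)n, and assume n ≥ 2, r > 0 and (n - 1) divides r. Then s < 2d² and t < 2d⁴. This is the
statement about the degree data (d, g the degree and genus of the curve, s ≤ t the degrees of the
two surfaces) to which the published proof reduces the degree bound: there the divisibility and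
positivity express that r/(n - 1), the common value of the type numbers of the pair, is a positive
integer; the geometric hypotheses themselves are not part of this row. -/
theorem result (d g s t n : ℤ) (hd : 1 ≤ d) (hg : 0 ≤ g) (hs : 1 ≤ s) (hst : s ≤ t)
    (hn : s * t = d * n) (hn2 : 2 ≤ n)
    (hpos : 0 < d * (n * (s - 4) + t) + (2 - 2 * g) * n)
    (hdvd : (n - 1) ∣ d * (n * (s - 4) + t) + (2 - 2 * g) * n) :
    s < 2 * d ^ 2 ∧ t < 2 * d ^ 4 := by
  -- notation
  have hn0 : 0 < n := by linarith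
  have hm0 : 0 < n - 1 := by linarith
  have hd0 : 0 < d := by linarith
  have hs0 : 0 < s := by linarith
  have ht0 : 0 < t := by linarith
  set e := d * (s + t - 4) + 2 - 2 * g with he
  -- r = e * n - (n-1) * d * t
  have hr_eq : d * (n * (s - 4) + t) + (2 - 2 * g) * n = e * n - (n - 1) * (d * t) := by
    rw [he]
    have : d * n = s * t := hn.symm
    linear_combination (s - 4 - s - t + 4 + t) * this
  -- (n-1) ∣ e
  have hdiv : (n - 1) ∣ e := by
    have h1 : d * (n * (s - 4) + t) + (2 - 2 * g) * n - e = (n - 1) * (d * (s - 4) + 2 - 2 * g) := by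
      rw [he]; ring
    have h2 : (n - 1) ∣ d * (n * (s - 4) + t) + (2 - 2 * g) * n - e := ⟨_, h1⟩
    have := dvd_sub hdvd h2
    simpa using this
  have hpos' : 0 < e * n - (n - 1) * (d * t) := by rw [← hr_eq]; exact hpos
  have he_pos : 0 < e := by
    by_contra hcon
    push_neg at hcon
    have h1 : e * n ≤ 0 := mul_nonpos_of_nonpos_of_nonneg hcon hn0.le
    have h2 : 0 ≤ (n - 1) * (d * t) := by positivity
    linarith
  obtain ⟨c, hc⟩ := hdiv
  have hc_pos : 0 < c := by
    by_contra hcon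
    push_neg at hcon
    have : (n - 1) * c ≤ 0 := mul_nonpos_of_nonneg_of_nonpos hm0.le hcon
    linarith
  -- c * n > d * t
  have h2' : d * t < c * n := by
    have : (n - 1) * (d * t) < (n - 1) * (c * n) := by
      have : e * n = (n - 1) * (c * n) := by rw [hc]; ring
      linarith
    exact lt_of_mul_lt_mul_left this hm0.le
  -- c * s > d^2
  have hcs : d ^ 2 < c * s := by
    have : n * d ^ 2 < n * (c * s) := by
      have h1 : n * d ^ 2 = d * (d * n) := by ring
      have h2 : n * (c * s) = s * (c * n) := by ring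
      rw [h1, h2, ← hn]
      have : s * (d * t) < s * (c * n) := mul_lt_mul_of_pos_left h2' hs0
      linarith
    exact lt_of_mul_lt_mul_left this hn0.le
  -- e ≤ d (s+t-4) + 2
  have he_le : e ≤ d * (s + t - 4) + 2 := by rw [he]; linarith
  have h4' : c * (n - 1) ≤ d * (s + t - 4) + 2 := by
    have : (n - 1) * c = c * (n - 1) := by ring
    linarith
  -- first claim
  have hfirst : s < 2 * d ^ 2 := by
    -- n - 1 ≤ c (n-1) ≤ d (s+t) - 4d + 2, so n < d (s + t) ≤ 2 d t
    have h1 : n - 1 ≤ c * (n - 1) := by nlinarith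
    have h2 : n < 2 * d * t := by nlinarith
    have h3 : s * t < 2 * d ^ 2 * t := by
      have : d * n < d * (2 * d * t) := mul_lt_mul_of_pos_left h2 hd0
      rw [hn]
      nlinarith
    exact lt_of_mul_lt_mul_right h3 ht0.le
  refine ⟨hfirst, ?_⟩
  -- multiply h4' by d
  have h5 : c * s * t - c * d ≤ d ^ 2 * (s + t - 4) + 2 * d := by
    have : d * (c * (n - 1)) ≤ d * (d * (s + t - 4) + 2) := mul_le_mul_of_nonneg_left h4' hd0.le
    have h6 : d * (c * (n - 1)) = c * (d * n) - c * d := by ring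
    rw [h6, ← hn] at this
    nlinarith
  set u := c * s - d ^ 2 with hu
  have hu1 : 1 ≤ u := by rw [hu]; linarith
  have hstar : t * u ≤ d ^ 2 * s + c * d - 4 * d ^ 2 + 2 * d := by
    rw [hu]; nlinarith
  -- multiply by s
  have h7 : s * t * u ≤ d ^ 2 * s ^ 2 + d * u + d ^ 3 - 4 * d ^ 2 * s + 2 * d * s := by
    have : s * (t * u) ≤ s * (d ^ 2 * s + c * d - 4 * d ^ 2 + 2 * d) :=
      mul_le_mul_of_nonneg_left hstar hs0.le
    have hcs' : c * s = u + d ^ 2 := by rw [hu]; ring
    calc s * t * u = s * (t * u) := by ring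
      _ ≤ s * (d ^ 2 * s + c * d - 4 * d ^ 2 + 2 * d) := this
      _ = d ^ 2 * s ^ 2 + (c * s) * d - 4 * d ^ 2 * s + 2 * d * s := by ring
      _ = d ^ 2 * s ^ 2 + d * u + d ^ 3 - 4 * d ^ 2 * s + 2 * d * s := by rw [hcs']; ring
  have hstd : d ≤ s * t := by rw [hn]; nlinarith
  have h8 : s * t - d ≤ d ^ 2 * s ^ 2 + d ^ 3 - 4 * d ^ 2 * s + 2 * d * s := by
    have h9 : u * (s * t - d) ≤ d ^ 2 * s ^ 2 + d ^ 3 - 4 * d ^ 2 * s + 2 * d * s := by
      nlinarith
    have h10 : s * t - d ≤ u * (s * t - d) := by nlinarith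
    linarith
  by_contra hcon
  push_neg at hcon
  -- 2 d^4 ≤ t
  have h11 : 2 * d ^ 4 * s ≤ s * t := by nlinarith
  have hs_le : s ≤ 2 * d ^ 2 - 1 := by linarith
  have h12 : 0 ≤ (s - 1) * (2 * d ^ 2 - 1 - s) := mul_nonneg (by linarith) (by linarith)
  have hd4 : 1 ≤ d ^ 4 := one_le_pow₀ hd
  have hd3 : 1 ≤ d ^ 3 := one_le_pow₀ hd
  have hd2 : 1 ≤ d ^ 2 := one_le_pow₀ hd
  have h13 : d ^ 3 ≤ d ^ 4 := by nlinarith
  have h14 : d ≤ d ^ 2 := by nlinarith
  nlinarith

end Groth.Agent.S18055
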