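import Groth.Statements.S18121
import Mathlib

set_option autoImplicit false
universe u
open Pinch

namespace Groth.Agent.S18121

open Polynomial in
theorem decomp (B : Type u) [CommRing B] (b : B) (g : AdjoinRoot (X ^ 2 - C b : B[X])) :
    ∃ u v : B, g = AdjoinRoot.of (X ^ 2 - C b : B[X]) u
      + AdjoinRoot.of (X ^ 2 - C b : B[X]) v * AdjoinRoot.root (X ^ 2 - C b : B[X]) := by
  rcases subsingleton_or_nontrivial B with hB | hB
  · have : Subsingleton (AdjoinRoot (X ^ 2 - C b : B[X])) := by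
      refine subsingleton_of_zero_eq_one ?_
      have h01 : (0 : B) = 1 := Subsingleton.elim _ _
      rw [← map_zero (AdjoinRoot.of (X ^ 2 - C b : B[X])),
        ← map_one (AdjoinRoot.of (X ^ 2 - C b : B[X])), h01]
    exact ⟨0, 0, Subsingleton.elim _ _⟩
  · obtain ⟨p, rfl⟩ := AdjoinRoot.mk_surjective g
    have hq : (X ^ 2 - C b : B[X]).Monic := monic_X_pow_sub_C b two_ne_zero
    have hq1 : (X ^ 2 - C b : B[X]) ≠ 1 := by
      intro h
      have := congrArg natDegree h
      rw [natDegree_X_pow_sub_C, natDegree_one] at this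
      exact two_ne_zero this
    have h1 : AdjoinRoot.mk (X ^ 2 - C b : B[X]) p
        = AdjoinRoot.mk (X ^ 2 - C b : B[X]) (p %ₘ (X ^ 2 - C b)) := by
      conv_lhs => rw [← modByMonic_add_div p (X ^ 2 - C b)]
      rw [map_add, map_mul, AdjoinRoot.mk_self, zero_mul, add_zero]
    have hdeg : (p %ₘ (X ^ 2 - C b)).natDegree ≤ 1 := by
      have := natDegree_modByMonic_lt p hq hq1
      rw [natDegree_X_pow_sub_C] at this
      omega
    have h2 := eq_X_add_C_of_natDegree_le_one hdeg
    refine ⟨(p %ₘ (X ^ 2 - C b)).coeff 0, (p %ₘ (X ^ 2 - C b)).coeff 1, ?_⟩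
    rw [h1]
    conv_lhs => rw [h2]
    rw [map_add, map_mul, add_comm]
    rfl

open Polynomial in
theorem indep (B : Type u) [CommRing B] (b u v : B)
    (h : AdjoinRoot.of (X ^ 2 - C b : B[X]) u
      + AdjoinRoot.of (X ^ 2 - C b : B[X]) v * AdjoinRoot.root (X ^ 2 - C b : B[X]) = 0) :
    u = 0 ∧ v = 0 := by
  rcases subsingleton_or_nontrivial B with hB | hB
  · exact ⟨Subsingleton.elim _ _, Subsingleton.elim _ _⟩
  · have hq : (X ^ 2 - C b : B[X]).Monic := monic_X_pow_sub_C b two_ne_zero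
    have h1 : AdjoinRoot.mk (X ^ 2 - C b : B[X]) (C u + C v * X) = 0 := by
      rw [map_add, map_mul]; exact h
    rw [AdjoinRoot.mk_eq_zero] at h1
    have h2 : (C u + C v * X : B[X]) = 0 := by
      by_contra hne
      refine Monic.not_dvd_of_natDegree_lt hq hne ?_ h1
      rw [natDegree_X_pow_sub_C]
      have : (C u + C v * X : B[X]).natDegree ≤ 1 := by
        refine (natDegree_add_le _ _).trans (max_le ?_ ?_)
        · rw [natDegree_C]; exact Nat.zero_le _
        · exact (natDegree_C_mul_le _ _).trans natDegree_X_le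
      omega
    have e0 := congrArg (fun p => coeff p 0) h2
    have e1 := congrArg (fun p => coeff p 1) h2
    simp at e0 e1
    exact ⟨e0, e1⟩

open Polynomial in
theorem main (B : Type u) [CommRing B] (b : B) :
    RingHom.ker (MvPolynomial.aeval (R := B)
        ![C (AdjoinRoot.root (X ^ 2 - C b : B[X])) * X, X] :
          MvPolynomial (Fin 2) B →ₐ[B] (AdjoinRoot (X ^ 2 - C b : B[X]))[X]).toRingHom =
      Ideal.span {MvPolynomial.X 0 ^ 2 - MvPolynomial.C b * MvPolynomial.X 1 ^ 2} ∧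
    ∀ G : (AdjoinRoot (X ^ 2 - C b : B[X]))[X],
      (∃ c : B, G.coeff 0 = algebraMap B (AdjoinRoot (X ^ 2 - C b : B[X])) c) →
        G ∈ (MvPolynomial.aeval (R := B)
          ![C (AdjoinRoot.root (X ^ 2 - C b : B[X])) * X, X] :
            MvPolynomial (Fin 2) B →ₐ[B] (AdjoinRoot (X ^ 2 - C b : B[X]))[X]).range := by
  classical
  obtain ⟨Ψ, hΨdef⟩ : ∃ Ψ : MvPolynomial (Fin 2) B →ₐ[B] (AdjoinRoot (X ^ 2 - C b : B[X]))[X],
      Ψ = MvPolynomial.aeval ![C (AdjoinRoot.root (X ^ 2 - C b : B[X])) * X, X] := ⟨_, rfl⟩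
  rw [← hΨdef]
  have hΨ0 : Ψ (MvPolynomial.X 0) = C (AdjoinRoot.root (X ^ 2 - C b : B[X])) * X := by
    rw [hΨdef, MvPolynomial.aeval_X]; rfl
  have hΨ1 : Ψ (MvPolynomial.X 1) = X := by
    rw [hΨdef, MvPolynomial.aeval_X]; rfl
  have hΨC : ∀ r, Ψ (MvPolynomial.C r) = C (AdjoinRoot.of (X ^ 2 - C b : B[X]) r) := by
    intro r
    rw [hΨdef, MvPolynomial.aeval_C, Polynomial.algebraMap_apply, AdjoinRoot.algebraMap_eq]
  have hτ2 : AdjoinRoot.root (X ^ 2 - C b : B[X]) ^ 2
      = AdjoinRoot.of (X ^ 2 - C b : B[X]) b := by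
    have := AdjoinRoot.eval₂_root (X ^ 2 - C b : B[X])
    rw [eval₂_sub, eval₂_pow, eval₂_X, eval₂_C] at this
    exact sub_eq_zero.mp this
  have hqker : Ψ (MvPolynomial.X 0 ^ 2 - MvPolynomial.C b * MvPolynomial.X 1 ^ 2) = 0 := by
    rw [map_sub, map_mul, map_pow, map_pow, hΨ0, hΨ1, hΨC, mul_pow, ← C_pow, hτ2, sub_self]
  obtain ⟨ι, hιX, hιC⟩ : ∃ ι : B[X] →ₐ[B] MvPolynomial (Fin 2) B,
      ι X = MvPolynomial.X 1 ∧ ∀ r, ι (C r) = MvPolynomial.C r :=
    ⟨Polynomial.aeval (MvPolynomial.X 1), aeval_X _, fun r => by rw [aeval_C]; rfl⟩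
  have hcomp : Ψ.comp ι = Polynomial.mapAlg B (AdjoinRoot (X ^ 2 - C b : B[X])) := by
    apply Polynomial.algHom_ext
    rw [AlgHom.comp_apply, hιX, hΨ1, mapAlg_eq_map, map_X]
  have hΨι : ∀ p : B[X], Ψ (ι p) = p.map (AdjoinRoot.of (X ^ 2 - C b : B[X])) := by
    intro p
    have := AlgHom.congr_fun hcomp p
    rw [AlgHom.comp_apply, mapAlg_eq_map, AdjoinRoot.algebraMap_eq] at this
    exact this
  have hred : ∀ f : MvPolynomial (Fin 2) B, ∃ p0 p1 : B[X],
      f - (ι p0 + MvPolynomial.X 0 * ι p1) ∈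
        Ideal.span {(MvPolynomial.X 0 ^ 2 - MvPolynomial.C b * MvPolynomial.X 1 ^ 2 :
          MvPolynomial (Fin 2) B)} := by
    intro f
    induction f using MvPolynomial.induction_on with
    | C r =>
      exact ⟨C r, 0, by rw [map_zero, mul_zero, add_zero, hιC, sub_self]; exact Ideal.zero_mem _⟩
    | add p q hp hq =>
      obtain ⟨p0, p1, h1⟩ := hp
      obtain ⟨q0, q1, h2⟩ := hq
      refine ⟨p0 + q0, p1 + q1, ?_⟩
      have : p + q - (ι (p0 + q0) + MvPolynomial.X 0 * ι (p1 + q1))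
          = (p - (ι p0 + MvPolynomial.X 0 * ι p1)) + (q - (ι q0 + MvPolynomial.X 0 * ι q1)) := by
        rw [map_add, map_add]; ring
      rw [this]; exact Ideal.add_mem _ h1 h2
    | mul_X p i hp =>
      obtain ⟨p0, p1, h1⟩ := hp
      by_cases hi : i = 0
      · subst hi
        refine ⟨C b * X ^ 2 * p1, p0, ?_⟩
        have : p * MvPolynomial.X 0 - (ι (C b * X ^ 2 * p1) + MvPolynomial.X 0 * ι p0)
            = (p - (ι p0 + MvPolynomial.X 0 * ι p1)) * MvPolynomial.X 0
              + (MvPolynomial.X 0 ^ 2 - MvPolynomial.C b * MvPolynomial.X 1 ^ 2) * ι p1 := by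
          rw [map_mul, map_mul, map_pow, hιC, hιX]; ring
        rw [this]
        exact Ideal.add_mem _ (Ideal.mul_mem_right _ _ h1)
          (Ideal.mul_mem_right _ _ (Ideal.subset_span rfl))
      · have hi1 : i = 1 := Fin.eq_one_of_ne_zero i hi
        subst hi1
        refine ⟨X * p0, X * p1, ?_⟩
        have : p * MvPolynomial.X 1 - (ι (X * p0) + MvPolynomial.X 0 * ι (X * p1))
            = (p - (ι p0 + MvPolynomial.X 0 * ι p1)) * MvPolynomial.X 1 := by
          rw [map_mul, map_mul, hιX]; ring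
        rw [this]; exact Ideal.mul_mem_right _ _ h1
  have hspanker : ∀ x ∈ Ideal.span {(MvPolynomial.X 0 ^ 2 - MvPolynomial.C b * MvPolynomial.X 1 ^ 2 :
      MvPolynomial (Fin 2) B)}, Ψ x = 0 := by
    intro x hx
    rw [Ideal.mem_span_singleton] at hx
    obtain ⟨y, rfl⟩ := hx
    rw [map_mul, hqker, zero_mul]
  refine ⟨?_, ?_⟩
  · ext f
    rw [RingHom.mem_ker]
    constructor
    · intro hf
      have hf' : Ψ f = 0 := hf
      obtain ⟨p0, p1, h1⟩ := hred f
      have h2 := hspanker _ h1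
      rw [map_sub, hf', zero_sub, neg_eq_zero, map_add, map_mul, hΨι, hΨι, hΨ0] at h2
      have hcoef : ∀ n, (p0.map (AdjoinRoot.of (X ^ 2 - C b : B[X]))
          + C (AdjoinRoot.root (X ^ 2 - C b : B[X])) * X
            * p1.map (AdjoinRoot.of (X ^ 2 - C b : B[X]))).coeff n = 0 := by
        intro n; rw [h2, coeff_zero]
      have h0 : p0.coeff 0 = 0 := by
        have := hcoef 0
        rw [coeff_add, mul_assoc, coeff_C_mul, coeff_X_mul_zero, mul_zero, add_zero,
          coeff_map] at this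
        exact (indep B b (p0.coeff 0) 0 (by rw [map_zero, zero_mul, add_zero]; exact this)).1
      have hn : ∀ n, p0.coeff (n + 1) = 0 ∧ p1.coeff n = 0 := by
        intro n
        have := hcoef (n + 1)
        rw [coeff_add, mul_assoc, coeff_C_mul, coeff_X_mul, coeff_map, coeff_map] at this
        exact indep B b _ _ (by rw [mul_comm]; exact this)
      have hp0 : p0 = 0 := by
        ext n
        rcases n with _ | n
        · rw [h0, coeff_zero]
        · rw [(hn n).1, coeff_zero]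
      have hp1 : p1 = 0 := by
        ext n
        rw [(hn n).2, coeff_zero]
      rw [hp0, hp1, map_zero, mul_zero, add_zero, sub_zero] at h1
      exact h1
    · intro hf
      exact hspanker f hf
  · have hrangeX : (X : (AdjoinRoot (X ^ 2 - C b : B[X]))[X]) ∈ Ψ.range :=
      ⟨MvPolynomial.X 1, hΨ1⟩
    have hrangeτX : C (AdjoinRoot.root (X ^ 2 - C b : B[X])) * X ∈ Ψ.range :=
      ⟨MvPolynomial.X 0, hΨ0⟩
    have hrangeC : ∀ r : B, C (AdjoinRoot.of (X ^ 2 - C b : B[X]) r) ∈ Ψ.range :=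
      fun r => ⟨MvPolynomial.C r, hΨC r⟩
    have hmono : ∀ (n : ℕ) (g : AdjoinRoot (X ^ 2 - C b : B[X])),
        C g * X ^ (n + 1) ∈ Ψ.range := by
      intro n g
      obtain ⟨u, v, rfl⟩ := decomp B b g
      have : C (AdjoinRoot.of (X ^ 2 - C b : B[X]) u
            + AdjoinRoot.of (X ^ 2 - C b : B[X]) v * AdjoinRoot.root (X ^ 2 - C b : B[X]))
            * X ^ (n + 1)
          = C (AdjoinRoot.of (X ^ 2 - C b : B[X]) u) * X ^ (n + 1)
            + C (AdjoinRoot.of (X ^ 2 - C b : B[X]) v)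
              * (C (AdjoinRoot.root (X ^ 2 - C b : B[X])) * X) * X ^ n := by
        rw [C_add, C_mul, pow_succ]; ring
      rw [this]
      exact Subalgebra.add_mem _
        (Subalgebra.mul_mem _ (hrangeC u) (Subalgebra.pow_mem _ hrangeX _))
        (Subalgebra.mul_mem _ (Subalgebra.mul_mem _ (hrangeC v) hrangeτX)
          (Subalgebra.pow_mem _ hrangeX _))
    have hHX : ∀ H : (AdjoinRoot (X ^ 2 - C b : B[X]))[X], H * X ∈ Ψ.range := by
      intro H
      induction H using Polynomial.induction_on' with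
      | add p q hp hq => rw [add_mul]; exact Subalgebra.add_mem _ hp hq
      | monomial n g =>
        have : monomial n g * X = C g * X ^ (n + 1) := by
          rw [← C_mul_X_pow_eq_monomial]; ring
        rw [this]; exact hmono n g
    rintro G ⟨c, hc⟩
    rw [← Polynomial.divX_mul_X_add G, hc, AdjoinRoot.algebraMap_eq]
    exact Subalgebra.add_mem _ (hHX _) (hrangeC c)


/-- Let B be a commutative ring, b an element of B, B' := B[z]/(z^2 - b) the rank-two B-algebra with z^2
= b, and Ψ : B[u, v] → B'[t] the B-algebra homomorphism with u ↦ z t and v ↦ t. Then the kernel of Ψ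
is the principal ideal generated by u^2 - b v^2, and a polynomial of B'[t] lies in the image of Ψ as
soon as its constant coefficient lies in B. Equivalently, B[u, v]/(u^2 - b v^2) is the fibre product
of B'[t] and B over B' (for t ↦ 0 and the inclusion of B): the pinching of Spec B' × 𝔸¹ along Spec
B' × {0} by the double cover Spec B' → Spec B is the hypersurface u^2 = b v^2 over B; for B = K[w]
and b = w this is the pinch point u^2 = v^2 w. -/
theorem result (B : Type u) [CommRing B] (b : B) :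
    letI Ψ : MvPolynomial (Fin 2) B →ₐ[B] Polynomial (AdjoinRoot (Polynomial.X ^ 2 - Polynomial.C b)) :=
      MvPolynomial.aeval
        ![Polynomial.C (AdjoinRoot.root (Polynomial.X ^ 2 - Polynomial.C b)) * Polynomial.X, Polynomial.X]
    RingHom.ker Ψ.toRingHom =
        Ideal.span {MvPolynomial.X 0 ^ 2 - MvPolynomial.C b * MvPolynomial.X 1 ^ 2} ∧
      ∀ G : Polynomial (AdjoinRoot (Polynomial.X ^ 2 - Polynomial.C b)),
        (∃ c : B, G.coeff 0 = algebraMap B (AdjoinRoot (Polynomial.X ^ 2 - Polynomial.C b)) c) →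
          G ∈ Ψ.range := by
  exact main B b

end Groth.Agent.S18121
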