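import Groth.Statements.S18122
import Mathlib

set_option autoImplicit false
universe u
open Pinch

namespace Groth.Agent.S18122

open MvPolynomial in
theorem main (K : Type u) [Field K] [NeZero (2 : K)]
    (R : Subalgebra K (MvPolynomial (Fin 2) K))
    (hR : R = Algebra.adjoin K {(X 0 : MvPolynomial (Fin 2) K) ^ 2, X 0 * X 1, X 1})
    (δ : Derivation K R (MvPolynomial (Fin 2) K)) :
    ∃! D : Derivation K (MvPolynomial (Fin 2) K) (MvPolynomial (Fin 2) K),
      ∀ r : R, D (r : MvPolynomial (Fin 2) K) = δ r := by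
  classical
  have hx2 : (X 0 : MvPolynomial (Fin 2) K) ^ 2 ∈ R := by
    rw [hR]; exact Algebra.subset_adjoin (Set.mem_insert _ _)
  have hxy : (X 0 * X 1 : MvPolynomial (Fin 2) K) ∈ R := by
    rw [hR]; exact Algebra.subset_adjoin (Set.mem_insert_of_mem _ (Set.mem_insert _ _))
  have hy : (X 1 : MvPolynomial (Fin 2) K) ∈ R := by
    rw [hR]
    exact Algebra.subset_adjoin (Set.mem_insert_of_mem _ (Set.mem_insert_of_mem _ rfl))
  have hmem : ∀ r, r ∈ Algebra.adjoin K {(X 0 : MvPolynomial (Fin 2) K) ^ 2, X 0 * X 1, X 1} →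
      r ∈ R := fun r hr => by rw [hR]; exact hr
  obtain ⟨a, ha⟩ : ∃ a : R, (a : MvPolynomial (Fin 2) K) = X 0 ^ 2 := ⟨⟨_, hx2⟩, rfl⟩
  obtain ⟨b, hb⟩ : ∃ b : R, (b : MvPolynomial (Fin 2) K) = X 0 * X 1 := ⟨⟨_, hxy⟩, rfl⟩
  obtain ⟨c, hc⟩ : ∃ c : R, (c : MvPolynomial (Fin 2) K) = X 1 := ⟨⟨_, hy⟩, rfl⟩
  have hsm : ∀ (r : R) (s : MvPolynomial (Fin 2) K), r • s = (r : MvPolynomial (Fin 2) K) * s :=
    fun r s => rfl
  have hrel : b * b = a * (c * c) := by
    apply Subtype.ext
    rw [Subalgebra.coe_mul, Subalgebra.coe_mul, Subalgebra.coe_mul, ha, hb, hc]; ring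
  have h1 : δ (b * b) = δ (a * (c * c)) := congrArg δ hrel
  rw [δ.leibniz, δ.leibniz, δ.leibniz] at h1
  simp only [hsm, Subalgebra.coe_mul, ha, hb, hc] at h1
  have hX0 : (X 0 : MvPolynomial (Fin 2) K) ≠ 0 := X_ne_zero 0
  have hX1 : (X 1 : MvPolynomial (Fin 2) K) ≠ 0 := X_ne_zero 1
  have h2 : (X 0 : MvPolynomial (Fin 2) K) * δ b + X 0 * δ b
      = X 0 ^ 2 * (δ c + δ c) + X 1 * δ a := by
    apply mul_left_cancel₀ hX1
    linear_combination h1
  have hdvd : (X 0 : MvPolynomial (Fin 2) K) ∣ δ a := by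
    have hd : (X 0 : MvPolynomial (Fin 2) K) ∣ X 1 * δ a := by
      refine ⟨δ b + δ b - X 0 * (δ c + δ c), ?_⟩
      linear_combination (-1 : MvPolynomial (Fin 2) K) * h2
    rcases (X_prime (R := K) (σ := Fin 2) (i := 0)).dvd_or_dvd hd with h | h
    · exfalso
      rw [X_dvd_X] at h
      exact absurd h (by decide)
    · exact h
  obtain ⟨t, ht⟩ := hdvd
  have hC2 : (C (2⁻¹ : K) : MvPolynomial (Fin 2) K) + C 2⁻¹ = 1 := by
    rw [← C_add, ← two_mul, mul_inv_cancel₀ two_ne_zero, C_1]
  have h3 : δ b = X 0 * δ c + X 1 * (C 2⁻¹ * t) := by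
    have h4 : (X 0 : MvPolynomial (Fin 2) K) * (δ b + δ b)
        = X 0 * (X 0 * (δ c + δ c) + X 1 * t) := by
      rw [ht] at h2
      linear_combination h2
    have h5 := mul_left_cancel₀ hX0 h4
    linear_combination (C (2⁻¹ : K) : MvPolynomial (Fin 2) K) * h5
      - (δ b - X 0 * δ c) * hC2
  obtain ⟨D, hD0, hD1⟩ : ∃ D : Derivation K (MvPolynomial (Fin 2) K) (MvPolynomial (Fin 2) K),
      D (X 0) = C 2⁻¹ * t ∧ D (X 1) = δ c := by
    refine ⟨mkDerivation K ![C 2⁻¹ * t, δ c], ?_, ?_⟩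
    · rw [mkDerivation_X]; rfl
    · rw [mkDerivation_X]; rfl
  have key : ∀ (r : MvPolynomial (Fin 2) K)
      (hr : r ∈ Algebra.adjoin K {(X 0 : MvPolynomial (Fin 2) K) ^ 2, X 0 * X 1, X 1}),
      D r = δ ⟨r, hmem r hr⟩ := by
    intro r hr
    refine Algebra.adjoin_induction (p := fun r hr => D r = δ ⟨r, hmem r hr⟩) ?_ ?_ ?_ ?_ hr
    · intro z hz
      simp only [Set.mem_insert_iff, Set.mem_singleton_iff] at hz
      rcases hz with rfl | rfl | rfl
      · have e : (⟨X 0 ^ 2, hmem _ (Algebra.subset_adjoin (Set.mem_insert _ _))⟩ : R) = a :=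
          Subtype.ext ha.symm
        show D (X 0 ^ 2) = δ ⟨X 0 ^ 2, _⟩
        rw [e, ht, pow_two, D.leibniz, smul_eq_mul, hD0]
        linear_combination (X 0 * t) * hC2
      · have e : (⟨X 0 * X 1, hmem _ (Algebra.subset_adjoin
            (Set.mem_insert_of_mem _ (Set.mem_insert _ _)))⟩ : R) = b :=
          Subtype.ext hb.symm
        show D (X 0 * X 1) = δ ⟨X 0 * X 1, _⟩
        rw [e, h3, D.leibniz, smul_eq_mul, smul_eq_mul, hD0, hD1]
      · have e : (⟨X 1, hmem _ (Algebra.subset_adjoin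
            (Set.mem_insert_of_mem _ (Set.mem_insert_of_mem _ rfl)))⟩ : R) = c :=
          Subtype.ext hc.symm
        show D (X 1) = δ ⟨X 1, _⟩
        rw [e, hD1]
    · intro k
      rw [D.map_algebraMap]
      exact (δ.map_algebraMap k).symm
    · intro x y hx hy hpx hpy
      rw [map_add, hpx, hpy, ← map_add]
      rfl
    · intro x y hx hy hpx hpy
      have e : (⟨x * y, hmem _ (mul_mem hx hy)⟩ : R) = ⟨x, hmem _ hx⟩ * ⟨y, hmem _ hy⟩ := rfl
      rw [e, δ.leibniz, D.leibniz, hpx, hpy, hsm, hsm, smul_eq_mul, smul_eq_mul]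
  refine ⟨D, fun r => ?_, fun D' hD' => ?_⟩
  · have := key r.1 (by rw [← hR]; exact r.2)
    exact this
  · apply MvPolynomial.derivation_ext
    intro i
    by_cases hi : i = 0
    · subst hi
      have e1 : D' (X 0 ^ 2) = δ a := by rw [← ha]; exact hD' a
      rw [pow_two, D'.leibniz, smul_eq_mul, ht] at e1
      have e2 : (X 0 : MvPolynomial (Fin 2) K) * (D' (X 0) + D' (X 0)) = X 0 * t := by
        linear_combination e1
      have e3 := mul_left_cancel₀ hX0 e2
      rw [hD0]
      linear_combination (C (2⁻¹ : K) : MvPolynomial (Fin 2) K) * e3 - (D' (X 0)) * hC2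
    · have hi1 : i = 1 := Fin.eq_one_of_ne_zero i hi
      subst hi1
      rw [hD1, ← hc]; exact hD' c

/-- Let K be a field in which 2 ≠ 0, S = K[x, y], and R ⊆ S the K-subalgebra generated by x^2, x y and
y; R is the coordinate ring of the pinch point u^2 = v^2 w (u = x y, v = y, w = x^2) and S is its
normalization. Then restriction along R ⊆ S is a bijection from the K-derivations S → S onto the
K-derivations R → S: every K-derivation R → S extends uniquely to S. In sheaf terms, the natural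
injective map from the tangent sheaf of the normalization to the dual of the pulled-back sheaf of
differentials of the pinch point is an isomorphism. (The text works over an algebraically closed
field of characteristic different from 2 and for every semi-smooth variety; only this model case is
stated, and the computation uses only 2 ≠ 0.) -/
theorem result
    (K : Type u) [Field K] [NeZero (2 : K)] :
    letI R : Subalgebra K (MvPolynomial (Fin 2) K) :=
      Algebra.adjoin K {MvPolynomial.X 0 ^ 2, MvPolynomial.X 0 * MvPolynomial.X 1, MvPolynomial.X 1}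
    ∀ δ : Derivation K R (MvPolynomial (Fin 2) K),
      ∃! D : Derivation K (MvPolynomial (Fin 2) K) (MvPolynomial (Fin 2) K),
        ∀ r : R, D (r : MvPolynomial (Fin 2) K) = δ r := by
  intro δ
  exact main K _ rfl δ

end Groth.Agent.S18122
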