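import Groth.Statements.S18123
import Mathlib

set_option autoImplicit false
universe u
open Pinch

namespace Groth.Agent.S18123

open MvPolynomial in
theorem main (K : Type u) [Field K] [NeZero (2 : K)]
    (D : Derivation K (MvPolynomial (Fin 2) K) (MvPolynomial (Fin 2) K)) :
    (∀ r ∈ Algebra.adjoin K {(X 0 : MvPolynomial (Fin 2) K) ^ 2, X 0 * X 1, X 1}, D r ∈
        Algebra.adjoin K {(X 0 : MvPolynomial (Fin 2) K) ^ 2, X 0 * X 1, X 1}) ↔
      (D (X 1) ∈ Ideal.span {(X 1 : MvPolynomial (Fin 2) K)} ∧
        ∃ (s : MvPolynomial (Fin 2) K) (p : Polynomial K),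
          D (X 0) = X 1 * s + X 0 * Polynomial.aeval ((X 0 : MvPolynomial (Fin 2) K) ^ 2) p) := by
  classical
  obtain ⟨R, hR⟩ : ∃ R : Subalgebra K (MvPolynomial (Fin 2) K),
      R = Algebra.adjoin K {(X 0 : MvPolynomial (Fin 2) K) ^ 2, X 0 * X 1, X 1} := ⟨_, rfl⟩
  rw [← hR]
  have hx2 : (X 0 : MvPolynomial (Fin 2) K) ^ 2 ∈ R := by
    rw [hR]; exact Algebra.subset_adjoin (Set.mem_insert _ _)
  have hxy : (X 0 * X 1 : MvPolynomial (Fin 2) K) ∈ R := by
    rw [hR]; exact Algebra.subset_adjoin (Set.mem_insert_of_mem _ (Set.mem_insert _ _))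
  have hy : (X 1 : MvPolynomial (Fin 2) K) ∈ R := by
    rw [hR]
    exact Algebra.subset_adjoin (Set.mem_insert_of_mem _ (Set.mem_insert_of_mem _ rfl))
  have hY : ∀ g : MvPolynomial (Fin 2) K, X 1 * g ∈ R ∧ X 0 * X 1 * g ∈ R := by
    intro g
    induction g using MvPolynomial.induction_on with
    | C c =>
      constructor
      · have : (X 1 : MvPolynomial (Fin 2) K) * C c = c • X 1 := by
          rw [MvPolynomial.smul_eq_C_mul, mul_comm]
        rw [this]; exact R.smul_mem hy c
      · have : (X 0 * X 1 : MvPolynomial (Fin 2) K) * C c = c • (X 0 * X 1) := by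
          rw [MvPolynomial.smul_eq_C_mul, mul_comm]
        rw [this]; exact R.smul_mem hxy c
    | add p q hp hq =>
      exact ⟨by rw [mul_add]; exact R.add_mem hp.1 hq.1,
        by rw [mul_add]; exact R.add_mem hp.2 hq.2⟩
    | mul_X p i hp =>
      by_cases hi : i = 0
      · subst hi
        constructor
        · have : (X 1 : MvPolynomial (Fin 2) K) * (p * X 0) = X 0 * X 1 * p := by ring
          rw [this]; exact hp.2
        · have : (X 0 * X 1 : MvPolynomial (Fin 2) K) * (p * X 0) = X 0 ^ 2 * (X 1 * p) := by ring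
          rw [this]; exact R.mul_mem hx2 hp.1
      · have hi1 : i = 1 := Fin.eq_one_of_ne_zero i hi
        subst hi1
        constructor
        · have : (X 1 : MvPolynomial (Fin 2) K) * (p * X 1) = (X 1 * p) * X 1 := by ring
          rw [this]; exact R.mul_mem hp.1 hy
        · have : (X 0 * X 1 : MvPolynomial (Fin 2) K) * (p * X 1) = (X 0 * X 1 * p) * X 1 := by ring
          rw [this]; exact R.mul_mem hp.2 hy
  constructor
  · -- (⇒)
    intro hD
    obtain ⟨ε, hε0, hε1, hεC⟩ : ∃ ε : MvPolynomial (Fin 2) K →ₐ[K] Polynomial K,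
        ε (X 0) = Polynomial.X ∧ ε (X 1) = 0 ∧ ∀ c, ε (C c) = Polynomial.C c :=
      ⟨aeval ![Polynomial.X, 0], by simp, by simp, fun c => by simp⟩
    obtain ⟨ι, hιX, hιC⟩ : ∃ ι : Polynomial K →ₐ[K] MvPolynomial (Fin 2) K,
        ι Polynomial.X = X 0 ∧ ∀ c, ι (Polynomial.C c) = C c :=
      ⟨Polynomial.aeval (X 0), Polynomial.aeval_X _, fun c => by simp⟩
    have hE1 : ∀ r ∈ R, ∃ q : Polynomial K, ε r = Polynomial.expand K 2 q := by
      intro r hr
      rw [hR] at hr
      refine Algebra.adjoin_induction (p := fun r _ => ∃ q : Polynomial K,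
        ε r = Polynomial.expand K 2 q) ?_ ?_ ?_ ?_ hr
      · intro z hz
        simp only [Set.mem_insert_iff, Set.mem_singleton_iff] at hz
        rcases hz with rfl | rfl | rfl
        · exact ⟨Polynomial.X, by rw [map_pow, hε0, Polynomial.expand_X]⟩
        · exact ⟨0, by rw [map_mul, hε1, mul_zero, map_zero]⟩
        · exact ⟨0, by rw [hε1, map_zero]⟩
      · intro c
        refine ⟨Polynomial.C c, ?_⟩
        rw [Polynomial.expand_C, MvPolynomial.algebraMap_eq, hεC]
      · rintro a b _ _ ⟨q1, h1⟩ ⟨q2, h2⟩
        exact ⟨q1 + q2, by rw [map_add, h1, h2, map_add]⟩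
      · rintro a b _ _ ⟨q1, h1⟩ ⟨q2, h2⟩
        exact ⟨q1 * q2, by rw [map_mul, h1, h2, map_mul]⟩
    have hE2 : ∀ f : MvPolynomial (Fin 2) K, (X 1 : MvPolynomial (Fin 2) K) ∣ f - ι (ε f) := by
      intro f
      induction f using MvPolynomial.induction_on with
      | C c => rw [hεC, hιC, sub_self]; exact dvd_zero _
      | add p q hp hq =>
        rw [map_add, map_add]
        have : p + q - (ι (ε p) + ι (ε q)) = (p - ι (ε p)) + (q - ι (ε q)) := by ring
        rw [this]; exact dvd_add hp hq
      | mul_X p i hp =>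
        rw [map_mul, map_mul]
        by_cases hi : i = 0
        · subst hi
          rw [hε0, hιX, ← sub_mul]; exact Dvd.dvd.mul_right hp _
        · have hi1 : i = 1 := Fin.eq_one_of_ne_zero i hi
          subst hi1
          rw [hε1, map_zero, mul_zero, sub_zero]; exact Dvd.intro_left p rfl
    obtain ⟨q1, hq1⟩ := hE1 _ (hD _ hy)
    obtain ⟨q2, hq2⟩ := hE1 _ (hD _ hxy)
    obtain ⟨q3, hq3⟩ := hE1 _ (hD _ hx2)
    rw [D.leibniz, smul_eq_mul, smul_eq_mul, map_add, map_mul, map_mul, hε0, hε1, zero_mul,
      add_zero, hq1] at hq2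
    rw [pow_two, D.leibniz, smul_eq_mul, map_add, map_mul, hε0] at hq3
    have hq1z : q1 = 0 := by
      ext m
      have := congrArg (fun f => Polynomial.coeff f (2 * m + 1)) hq2
      beta_reduce at this
      rw [Polynomial.coeff_X_mul, Polynomial.coeff_expand (by norm_num),
        Polynomial.coeff_expand (by norm_num), if_pos (Dvd.intro m rfl),
        if_neg (by omega), Nat.mul_div_cancel_left m (by norm_num)] at this
      rw [this, Polynomial.coeff_zero]
    have hDy0 : ε (D (X 1)) = 0 := by rw [hq1, hq1z, map_zero]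
    refine ⟨?_, ?_⟩
    · rw [Ideal.mem_span_singleton]
      have := hE2 (D (X 1))
      rwa [hDy0, map_zero, sub_zero] at this
    · obtain ⟨w, hw⟩ : ∃ w : Polynomial K, w = ε (D (X 0)) := ⟨_, rfl⟩
      rw [← hw] at hq3
      have hweven : ∀ j, w.coeff (2 * j) = 0 := by
        intro j
        have := congrArg (fun f => Polynomial.coeff f (2 * j + 1)) hq3
        beta_reduce at this
        rw [Polynomial.coeff_add, Polynomial.coeff_X_mul, Polynomial.coeff_expand (by norm_num),
          if_neg (by omega)] at this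
        have h2 : (2 : K) * w.coeff (2 * j) = 0 := by rw [two_mul]; exact this
        rcases mul_eq_zero.mp h2 with h | h
        · exact absurd h two_ne_zero
        · exact h
      have hwform : w = Polynomial.X * Polynomial.expand K 2 (Polynomial.contract 2 w.divX) := by
        ext n
        rcases n with _ | m
        · rw [Polynomial.coeff_X_mul_zero]
          exact hweven 0
        · rw [Polynomial.coeff_X_mul, Polynomial.coeff_expand (by norm_num)]
          by_cases hm : 2 ∣ m
          · rw [if_pos hm, Polynomial.coeff_contract (by norm_num), Polynomial.coeff_divX,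
              Nat.div_mul_cancel hm]
          · rw [if_neg hm]
            obtain ⟨j, hj⟩ : ∃ j, m + 1 = 2 * j := ⟨(m + 1) / 2, by omega⟩
            rw [hj]; exact hweven j
      obtain ⟨s, hs⟩ := hE2 (D (X 0))
      refine ⟨s, Polynomial.contract 2 w.divX, ?_⟩
      have h5 : ι w = X 0 * Polynomial.aeval ((X 0 : MvPolynomial (Fin 2) K) ^ 2)
          (Polynomial.contract 2 w.divX) := by
        conv_lhs => rw [hwform]
        rw [map_mul, hιX]
        congr 1
        have hι : ι = Polynomial.aeval (X 0 : MvPolynomial (Fin 2) K) := by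
          apply Polynomial.algHom_ext
          rw [hιX, Polynomial.aeval_X]
        rw [hι, Polynomial.expand_aeval]
      rw [← hw] at hs
      rw [← h5]
      linear_combination hs
  · -- (⇐)
    rintro ⟨hDy, s, p, hDx⟩
    rw [Ideal.mem_span_singleton] at hDy
    obtain ⟨u, hu⟩ := hDy
    have hP : Polynomial.aeval ((X 0 : MvPolynomial (Fin 2) K) ^ 2) p ∈ R := by
      rw [Polynomial.aeval_eq_sum_range]
      exact R.sum_mem (fun i _ => R.smul_mem (R.pow_mem hx2 i) _)
    intro r hr
    rw [hR] at hr
    refine Algebra.adjoin_induction (p := fun r _ => D r ∈ R) ?_ ?_ ?_ ?_ hr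
    · intro z hz
      simp only [Set.mem_insert_iff, Set.mem_singleton_iff] at hz
      rcases hz with rfl | rfl | rfl
      · rw [pow_two, D.leibniz, smul_eq_mul, hDx]
        have : (X 0 : MvPolynomial (Fin 2) K) * (X 1 * s + X 0 *
              Polynomial.aeval ((X 0 : MvPolynomial (Fin 2) K) ^ 2) p)
            + X 0 * (X 1 * s + X 0 * Polynomial.aeval ((X 0 : MvPolynomial (Fin 2) K) ^ 2) p)
            = (X 0 * X 1 * s + X 0 * X 1 * s)
              + (X 0 ^ 2 * Polynomial.aeval ((X 0 : MvPolynomial (Fin 2) K) ^ 2) p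
                + X 0 ^ 2 * Polynomial.aeval ((X 0 : MvPolynomial (Fin 2) K) ^ 2) p) := by ring
        rw [this]
        exact R.add_mem (R.add_mem (hY s).2 (hY s).2)
          (R.add_mem (R.mul_mem hx2 hP) (R.mul_mem hx2 hP))
      · rw [D.leibniz, smul_eq_mul, smul_eq_mul, hDx, hu]
        have : (X 0 : MvPolynomial (Fin 2) K) * (X 1 * u) + X 1 * (X 1 * s + X 0 *
              Polynomial.aeval ((X 0 : MvPolynomial (Fin 2) K) ^ 2) p)
            = X 0 * X 1 * u + X 1 * (X 1 * s)
              + (X 0 * X 1) * Polynomial.aeval ((X 0 : MvPolynomial (Fin 2) K) ^ 2) p := by ring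
        rw [this]
        exact R.add_mem (R.add_mem (hY u).2 (hY (X 1 * s)).1) (R.mul_mem hxy hP)
      · rw [hu]; exact (hY u).1
    · intro c
      rw [D.map_algebraMap]; exact R.zero_mem
    · intro a b _ _ ha hb
      rw [map_add]; exact R.add_mem ha hb
    · intro a b ha' hb' ha hb
      rw [D.leibniz, smul_eq_mul, smul_eq_mul]
      rw [← hR] at ha' hb'
      exact R.add_mem (R.mul_mem ha' hb) (R.mul_mem hb' ha)


/-- Let K be a field in which 2 ≠ 0, S = K[x, y], and R ⊆ S the K-subalgebra generated by x^2, x y, y,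
the coordinate ring of the pinch point with normalization S, obtained by gluing the plane along the
line y = 0 via x ↦ -x. A K-derivation D of S maps R into R if and only if D(y) is a multiple of y
and D(x) = y s + x p(x^2) for some s in S and some polynomial p in one variable. Every K-derivation
R → S extends uniquely to S, and under this identification the derivations mapping R into R form the
image of the tangent sheaf of the pinch point in that of its normalization; so this image contains y
times all derivations of S, and modulo those it is spanned by the odd multiples x^(2k+1) ∂/∂x, the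
part of the tangent sheaf of the line y = 0 invariant under x ↦ -x. (The text works over an
algebraically closed field of characteristic different from 2; the computation uses only 2 ≠ 0.) -/
theorem result
    (K : Type u) [Field K] [NeZero (2 : K)]
    (D : Derivation K (MvPolynomial (Fin 2) K) (MvPolynomial (Fin 2) K)) :
    letI x : MvPolynomial (Fin 2) K := MvPolynomial.X 0
    letI y : MvPolynomial (Fin 2) K := MvPolynomial.X 1
    letI R : Subalgebra K (MvPolynomial (Fin 2) K) := Algebra.adjoin K {x ^ 2, x * y, y}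
    (∀ r ∈ R, D r ∈ R) ↔
      (D y ∈ Ideal.span {y} ∧
        ∃ (s : MvPolynomial (Fin 2) K) (p : Polynomial K), D x = y * s + x * Polynomial.aeval (x ^ 2) p) := by
  exact main K D

end Groth.Agent.S18123
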