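import Groth.Statements.S18125
import Mathlib

set_option autoImplicit false
universe u
open Pinch

namespace Groth.Agent.S18125

open MvPolynomial in
theorem main (K : Type u) [Field K] [NeZero (2 : K)] (n : ℕ) :
    Ideal.span {(X 0 : MvPolynomial (Fin (n + 3)) K), X 1} =
      Ideal.span {(X 0 : MvPolynomial (Fin (n + 3)) K) ^ 2 - X 1 ^ 2 * X 2, 2 * X 0,
        -(2 * X 1 * X 2), -(X 1 ^ 2)} ⊔ Ideal.span {X 1} ∧
    (Ideal.span {(X 0 : MvPolynomial (Fin (n + 3)) K) ^ 2 - X 1 ^ 2 * X 2, 2 * X 0,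
        -(2 * X 1 * X 2), -(X 1 ^ 2)}).colon (Ideal.span {(X 1 : MvPolynomial (Fin (n + 3)) K)}) =
      Ideal.span {X 0, X 1, X 2} := by
  classical
  obtain ⟨Jac, hJac⟩ : ∃ Jac : Ideal (MvPolynomial (Fin (n + 3)) K),
      Jac = Ideal.span {(X 0 : MvPolynomial (Fin (n + 3)) K) ^ 2 - X 1 ^ 2 * X 2, 2 * X 0,
        -(2 * X 1 * X 2), -(X 1 ^ 2)} := ⟨_, rfl⟩
  rw [← hJac]
  have h2 : (2 : MvPolynomial (Fin (n + 3)) K) = C 2 := (map_ofNat C 2).symm
  have hinv : C (2⁻¹ : K) * C 2 = (1 : MvPolynomial (Fin (n + 3)) K) := by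
    rw [← C_mul, inv_mul_cancel₀ two_ne_zero, C_1]
  have hg2 : (2 * X 0 : MvPolynomial (Fin (n + 3)) K) ∈ Jac := by
    rw [hJac]; exact Ideal.subset_span (Set.mem_insert_of_mem _ (Set.mem_insert _ _))
  have hg3 : (-(2 * X 1 * X 2) : MvPolynomial (Fin (n + 3)) K) ∈ Jac := by
    rw [hJac]
    exact Ideal.subset_span
      (Set.mem_insert_of_mem _ (Set.mem_insert_of_mem _ (Set.mem_insert _ _)))
  have hg4 : (-(X 1 ^ 2) : MvPolynomial (Fin (n + 3)) K) ∈ Jac := by
    rw [hJac]
    exact Ideal.subset_span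
      (Set.mem_insert_of_mem _ (Set.mem_insert_of_mem _ (Set.mem_insert_of_mem _ rfl)))
  have hJu : (X 0 : MvPolynomial (Fin (n + 3)) K) ∈ Jac := by
    have : (X 0 : MvPolynomial (Fin (n + 3)) K) = C (2⁻¹ : K) * (2 * X 0) := by
      rw [h2]; linear_combination (-(X 0 : MvPolynomial (Fin (n + 3)) K)) * hinv
    rw [this]; exact Ideal.mul_mem_left _ _ hg2
  have hJvw : (X 1 * X 2 : MvPolynomial (Fin (n + 3)) K) ∈ Jac := by
    have : (X 1 * X 2 : MvPolynomial (Fin (n + 3)) K)
        = (-C (2⁻¹ : K)) * (-(2 * X 1 * X 2)) := by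
      rw [h2]; linear_combination (-(X 1 * X 2 : MvPolynomial (Fin (n + 3)) K)) * hinv
    rw [this]; exact Ideal.mul_mem_left _ _ hg3
  have hJv2 : (X 1 ^ 2 : MvPolynomial (Fin (n + 3)) K) ∈ Jac := by
    have : (X 1 ^ 2 : MvPolynomial (Fin (n + 3)) K) = -(-(X 1 ^ 2)) := by ring
    rw [this]; exact neg_mem hg4
  have part1 : Ideal.span {(X 0 : MvPolynomial (Fin (n + 3)) K), X 1}
      = Jac ⊔ Ideal.span {X 1} := by
    apply le_antisymm
    · rw [Ideal.span_le]
      intro x hx
      simp only [Set.mem_insert_iff, Set.mem_singleton_iff] at hx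
      rcases hx with rfl | rfl
      · exact Ideal.mem_sup_left hJu
      · exact Ideal.mem_sup_right (Ideal.subset_span rfl)
    · apply sup_le
      · rw [hJac, Ideal.span_le]
        intro x hx
        simp only [Set.mem_insert_iff, Set.mem_singleton_iff] at hx
        rcases hx with rfl | rfl | rfl | rfl
        · exact Ideal.mem_span_pair.mpr ⟨X 0, -(X 1 * X 2), by ring⟩
        · exact Ideal.mem_span_pair.mpr ⟨2, 0, by ring⟩
        · exact Ideal.mem_span_pair.mpr ⟨0, -(2 * X 2), by ring⟩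
        · exact Ideal.mem_span_pair.mpr ⟨0, -X 1, by ring⟩
      · rw [Ideal.span_le]
        intro x hx
        rw [Set.mem_singleton_iff] at hx
        subst hx
        exact Ideal.subset_span (Set.mem_insert_of_mem _ rfl)
  obtain ⟨ε, hεX⟩ : ∃ ε : MvPolynomial (Fin (n + 3)) K →ₐ[K] MvPolynomial (Fin (n + 3)) K,
      ∀ i, ε (X i) = if (i : ℕ) < 3 then 0 else X i :=
    ⟨aeval (fun i : Fin (n + 3) =>
      if (i : ℕ) < 3 then (0 : MvPolynomial (Fin (n + 3)) K) else X i), fun i => aeval_X _ i⟩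
  obtain ⟨η, hηX⟩ : ∃ η : MvPolynomial (Fin (n + 3)) K →ₐ[K] MvPolynomial (Fin (n + 3)) K,
      ∀ i, η (X i) = if (i : ℕ) = 0 ∨ (i : ℕ) = 2 then 0 else X i :=
    ⟨aeval (fun i : Fin (n + 3) =>
      if (i : ℕ) = 0 ∨ (i : ℕ) = 2 then (0 : MvPolynomial (Fin (n + 3)) K) else X i),
      fun i => aeval_X _ i⟩
  have hεC : ∀ r, ε (C r) = C r := fun r => by rw [← algebraMap_eq]; exact ε.commutes r
  have hηC : ∀ r, η (C r) = C r := fun r => by rw [← algebraMap_eq]; exact η.commutes r
  have hv0 : ((0 : Fin (n + 3)) : ℕ) = 0 := by simp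
  have hv1 : ((1 : Fin (n + 3)) : ℕ) = 1 := by simp
  have hv2 : ((2 : Fin (n + 3)) : ℕ) = 2 := by simp
  have hε1 : ε (X 1) = 0 := by rw [hεX, hv1, if_pos (by norm_num)]
  have hη0 : η (X 0) = 0 := by rw [hηX, hv0, if_pos (Or.inl rfl)]
  have hη1 : η (X 1) = X 1 := by rw [hηX, hv1, if_neg (by norm_num)]
  have hη2 : η (X 2) = 0 := by rw [hηX, hv2, if_pos (Or.inr rfl)]
  have hcase : ∀ i : Fin (n + 3), (i : ℕ) < 3 → i = 0 ∨ i = 1 ∨ i = 2 := by
    intro i hi
    rcases (by omega : (i : ℕ) = 0 ∨ (i : ℕ) = 1 ∨ (i : ℕ) = 2) with h | h | h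
    · left; exact Fin.ext (by rw [h, hv0])
    · right; left; exact Fin.ext (by rw [h, hv1])
    · right; right; exact Fin.ext (by rw [h, hv2])
  have ha : ∀ f : MvPolynomial (Fin (n + 3)) K,
      f - ε f ∈ Ideal.span {(X 0 : MvPolynomial (Fin (n + 3)) K), X 1, X 2} := by
    intro f
    induction f using MvPolynomial.induction_on with
    | C r => rw [hεC, sub_self]; exact Ideal.zero_mem _
    | add p q hp hq =>
      rw [map_add]
      have : p + q - (ε p + ε q) = (p - ε p) + (q - ε q) := by ring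
      rw [this]; exact Ideal.add_mem _ hp hq
    | mul_X p i hp =>
      rw [map_mul, hεX]
      by_cases hi : (i : ℕ) < 3
      · rw [if_pos hi, mul_zero, sub_zero]
        apply Ideal.mul_mem_left
        rcases hcase i hi with rfl | rfl | rfl
        · exact Ideal.subset_span (Set.mem_insert _ _)
        · exact Ideal.subset_span (Set.mem_insert_of_mem _ (Set.mem_insert _ _))
        · exact Ideal.subset_span (Set.mem_insert_of_mem _ (Set.mem_insert_of_mem _ rfl))
      · rw [if_neg hi, ← sub_mul]; exact Ideal.mul_mem_right _ _ hp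
  have hb : ∀ f : MvPolynomial (Fin (n + 3)) K, ε (ε f) = ε f := by
    intro f
    induction f using MvPolynomial.induction_on with
    | C r => rw [hεC, hεC]
    | add p q hp hq => rw [map_add, map_add, hp, hq]
    | mul_X p i hp =>
      rw [map_mul, map_mul, hp, hεX]
      by_cases hi : (i : ℕ) < 3
      · rw [if_pos hi, map_zero]
      · rw [if_neg hi, hεX, if_neg hi]
  have hc : ∀ f : MvPolynomial (Fin (n + 3)) K, η (ε f) = ε f := by
    intro f
    induction f using MvPolynomial.induction_on with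
    | C r => rw [hεC, hηC]
    | add p q hp hq => rw [map_add, map_add, hp, hq]
    | mul_X p i hp =>
      rw [map_mul, map_mul, hp, hεX]
      by_cases hi : (i : ℕ) < 3
      · rw [if_pos hi, map_zero]
      · rw [if_neg hi, hηX, if_neg (by omega)]
  have hd : ∀ x ∈ Jac, (X 1 : MvPolynomial (Fin (n + 3)) K) ^ 2 ∣ η x := by
    intro x hx
    rw [hJac] at hx
    refine Submodule.span_induction
      (p := fun x _ => (X 1 : MvPolynomial (Fin (n + 3)) K) ^ 2 ∣ η x) ?_ ?_ ?_ ?_ hx
    · intro y hy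
      simp only [Set.mem_insert_iff, Set.mem_singleton_iff] at hy
      rcases hy with rfl | rfl | rfl | rfl
      · rw [map_sub, map_mul, map_pow, hη0, hη2, mul_zero, zero_pow two_ne_zero, sub_zero]
        exact dvd_zero _
      · rw [map_mul, hη0, mul_zero]; exact dvd_zero _
      · rw [map_neg, map_mul, hη2, mul_zero, neg_zero]; exact dvd_zero _
      · rw [map_neg, map_pow, hη1]; exact dvd_neg.mpr (dvd_refl _)
    · rw [map_zero]; exact dvd_zero _
    · intro x y _ _ hx hy; rw [map_add]; exact dvd_add hx hy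
    · intro a x _ hx; rw [smul_eq_mul, map_mul]; exact Dvd.dvd.mul_left hx _
  have hge : Ideal.span {(X 0 : MvPolynomial (Fin (n + 3)) K), X 1, X 2}
      ≤ Jac.colon (Ideal.span {(X 1 : MvPolynomial (Fin (n + 3)) K)}) := by
    rw [Ideal.span_le]
    intro r hr
    rw [SetLike.mem_coe, Submodule.mem_colon]
    intro s hs
    rw [SetLike.mem_coe, Ideal.mem_span_singleton'] at hs
    obtain ⟨c, rfl⟩ := hs
    simp only [Set.mem_insert_iff, Set.mem_singleton_iff] at hr
    rw [smul_eq_mul]
    rcases hr with rfl | rfl | rfl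
    · have : (X 0 : MvPolynomial (Fin (n + 3)) K) * (c * X 1) = (c * X 1) * X 0 := by ring
      rw [this]; exact Ideal.mul_mem_left _ _ hJu
    · have : (X 1 : MvPolynomial (Fin (n + 3)) K) * (c * X 1) = c * (X 1 ^ 2) := by ring
      rw [this]; exact Ideal.mul_mem_left _ _ hJv2
    · have : (X 2 : MvPolynomial (Fin (n + 3)) K) * (c * X 1) = c * (X 1 * X 2) := by ring
      rw [this]; exact Ideal.mul_mem_left _ _ hJvw
  have hle : Jac.colon (Ideal.span {(X 1 : MvPolynomial (Fin (n + 3)) K)})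
      ≤ Ideal.span {(X 0 : MvPolynomial (Fin (n + 3)) K), X 1, X 2} := by
    intro r hr
    rw [Submodule.mem_colon] at hr
    have hX1 : (X 1 : MvPolynomial (Fin (n + 3)) K) ∈
        ((Ideal.span {(X 1 : MvPolynomial (Fin (n + 3)) K)} :
          Ideal (MvPolynomial (Fin (n + 3)) K)) : Set (MvPolynomial (Fin (n + 3)) K)) :=
      Ideal.subset_span rfl
    have h1 : r * X 1 ∈ Jac := by
      have := hr (X 1) hX1
      rwa [smul_eq_mul] at this
    have h2 : (r - ε r) * X 1 ∈ Jac := by
      have h3 := hge (ha r)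
      rw [Submodule.mem_colon] at h3
      have := h3 (X 1) hX1
      rwa [smul_eq_mul] at this
    have h4 : ε r * X 1 ∈ Jac := by
      have : ε r * X 1 = r * X 1 - (r - ε r) * X 1 := by ring
      rw [this]; exact Ideal.sub_mem _ h1 h2
    have h5 := hd _ h4
    rw [map_mul, hc, hη1, pow_two] at h5
    have h6 : (X 1 : MvPolynomial (Fin (n + 3)) K) ∣ ε r :=
      (mul_dvd_mul_iff_right (X_ne_zero 1)).mp h5
    obtain ⟨q, hq⟩ := h6
    have h7 : ε r = 0 := by
      have := hb r
      rw [hq, map_mul, hε1, zero_mul] at this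
      exact hq.trans this.symm
    have h8 := ha r
    rw [h7, sub_zero] at h8
    exact h8
  exact ⟨part1, le_antisymm hle hge⟩


/-- Let K be a field in which 2 ≠ 0, n ≥ 0, S = K[u, v, w, t_1, …, t_n] (u, v, w the first three
variables), h = u^2 - v^2 w the equation of the pinch-point model, and Jac the ideal generated by h
and its three partial derivatives 2u, -2vw, -v^2, which cuts out the scheme-theoretic singular locus
of {h = 0}. Then the ideal (u, v) of the double locus is Jac + (v), and the colon ideal of Jac by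
(v) is (u, v, w). Consequently (u, v)/Jac, the ideal of the double locus restricted to the singular
locus, is an invertible sheaf on the pinch locus u = v = w = 0: it is free of rank one over K[t_1,
…, t_n] on the class of v. (The text states this for every semi-smooth variety and reduces to this
model; K algebraically closed is not needed for the model computation.) -/
theorem result
    (K : Type u) [Field K] [NeZero (2 : K)] (n : ℕ) :
    letI u : MvPolynomial (Fin (n + 3)) K := MvPolynomial.X 0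
    letI v : MvPolynomial (Fin (n + 3)) K := MvPolynomial.X 1
    letI w : MvPolynomial (Fin (n + 3)) K := MvPolynomial.X 2
    letI Jac : Ideal (MvPolynomial (Fin (n + 3)) K) :=
      Ideal.span {u ^ 2 - v ^ 2 * w, 2 * u, -(2 * v * w), -(v ^ 2)}
    Ideal.span {u, v} = Jac ⊔ Ideal.span {v} ∧ Jac.colon (Ideal.span {v}) = Ideal.span {u, v, w} := by
  exact main K n

end Groth.Agent.S18125
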