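import Groth.Statements.S18153
import Mathlib

set_option autoImplicit false
universe u w
open FrobAlg

namespace Groth.Agent.S18153

/-- Let R be a commutative ring of prime characteristic p and f_1, …, f_m (m ≥ 1) polynomials over R in
the variables t_1, …, t_m and a further, possibly empty, family of variables s_a. Then in the m × m
Jacobian determinant det(∂f_i/∂t_j) with respect to the t-variables, the coefficient of the monomial
t_1^{p-1} ⋯ t_m^{p-1} (all s-exponents zero) vanishes. (In the source this is the claim, for formal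
power series in n ≥ m variables over the base field, to which the proof of the proposition reduces;
the coefficient in question only involves truncations of the f_i, so the polynomial form over any
ring of characteristic p is the same assertion.) -/
theorem result
    (p : ℕ) [Fact p.Prime] (R : Type u) [CommRing R] [CharP R p]
    {m : ℕ} (hm : 0 < m) (σ : Type w) (f : Fin m → MvPolynomial (Fin m ⊕ σ) R) :
    MvPolynomial.coeff
        (Finsupp.sumElim (Finsupp.equivFunOnFinite.symm fun _ : Fin m => p - 1) (0 : σ →₀ ℕ))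
        (Matrix.of fun i j : Fin m => MvPolynomial.pderiv (Sum.inl j) (f i)).det = 0 := by
  classical
  set e₀ : (Fin m ⊕ σ) →₀ ℕ :=
    Finsupp.sumElim (Finsupp.equivFunOnFinite.symm fun _ : Fin m => p - 1) (0 : σ →₀ ℕ) with he₀
  -- multilinear reduction
  let L : MvPolynomial (Fin m ⊕ σ) R →ₗ[R] (Fin m → MvPolynomial (Fin m ⊕ σ) R) :=
    LinearMap.pi (fun j => ((MvPolynomial.pderiv (Sum.inl j) :
      Derivation R (MvPolynomial (Fin m ⊕ σ) R) (MvPolynomial (Fin m ⊕ σ) R)) :
        MvPolynomial (Fin m ⊕ σ) R →ₗ[R] MvPolynomial (Fin m ⊕ σ) R))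
  let Φ : MultilinearMap R (fun _ : Fin m => MvPolynomial (Fin m ⊕ σ) R) R :=
    (MvPolynomial.lcoeff R e₀).compMultilinearMap
      (((Matrix.detRowAlternating (R := MvPolynomial (Fin m ⊕ σ) R)
        (n := Fin m)).toMultilinearMap.restrictScalars R).compLinearMap (fun _ => L))
  have hΦ : ∀ g : Fin m → MvPolynomial (Fin m ⊕ σ) R, Φ g = MvPolynomial.coeff e₀
      (Matrix.of fun i j : Fin m => MvPolynomial.pderiv (Sum.inl j) (g i)).det := fun g => rfl
  suffices h : Φ = 0 by rw [← hΦ, h]; rfl
  refine Module.Basis.ext_multilinear (fun _ => MvPolynomial.basisMonomials (Fin m ⊕ σ) R)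
    (fun α => ?_)
  rw [zero_apply, hΦ]
  simp only [MvPolynomial.coe_basisMonomials]
  -- now monomials
  have prod_monomial : ∀ (s : Finset (Fin m)) (g : Fin m → ((Fin m ⊕ σ) →₀ ℕ)) (c : Fin m → R),
      ∏ i ∈ s, MvPolynomial.monomial (g i) (c i) =
        MvPolynomial.monomial (∑ i ∈ s, g i) (∏ i ∈ s, c i) := by
    intro s g c
    induction s using Finset.induction_on with
    | empty => simp
    | insert a s ha ih =>
      rw [Finset.prod_insert ha, Finset.sum_insert ha, Finset.prod_insert ha, ih,
        MvPolynomial.monomial_mul]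
  have hM : (Matrix.of fun i j : Fin m => MvPolynomial.pderiv (Sum.inl j)
      (MvPolynomial.monomial (α i) (1 : R))) =
      Matrix.of fun i j : Fin m => MvPolynomial.monomial (α i - Finsupp.single (Sum.inl j) 1)
        ((α i (Sum.inl j) : ℕ) : R) := by
    ext i j : 2
    simp only [Matrix.of_apply, MvPolynomial.pderiv_monomial, one_mul]
  rw [hM, Matrix.det_apply', MvPolynomial.coeff_sum]
  set A : (Fin m ⊕ σ) →₀ ℕ := ∑ i, α i with hA
  set T : (Fin m ⊕ σ) →₀ ℕ := ∑ i : Fin m, Finsupp.single (Sum.inl i) 1 with hT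
  set e₁ : (Fin m ⊕ σ) →₀ ℕ := e₀ + T with he₁
  have hterm : ∀ π : Equiv.Perm (Fin m),
      MvPolynomial.coeff e₀ ((((Equiv.Perm.sign π : ℤˣ) : ℤ) : MvPolynomial (Fin m ⊕ σ) R) *
        ∏ i, (Matrix.of fun i j : Fin m => MvPolynomial.monomial (α i - Finsupp.single (Sum.inl j) 1)
        ((α i (Sum.inl j) : ℕ) : R)) (π i) i) =
      (((Equiv.Perm.sign π : ℤˣ) : ℤ) : R) *
        (if A = e₁ then ∏ i, ((α (π i) (Sum.inl i) : ℕ) : R) else 0) := by
    intro π
    simp only [Matrix.of_apply]
    rw [prod_monomial, show ((((Equiv.Perm.sign π : ℤˣ) : ℤ) : MvPolynomial (Fin m ⊕ σ) R)) =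
      MvPolynomial.C ((((Equiv.Perm.sign π : ℤˣ) : ℤ)) : R) from (map_intCast (MvPolynomial.C : R →+* MvPolynomial (Fin m ⊕ σ) R) _).symm,
      MvPolynomial.coeff_C_mul, MvPolynomial.coeff_monomial]
    congr 1
    by_cases hz : ∃ i, α (π i) (Sum.inl i) = 0
    · obtain ⟨i, hi⟩ := hz
      have hc : ∏ i, ((α (π i) (Sum.inl i) : ℕ) : R) = 0 :=
        Finset.prod_eq_zero (Finset.mem_univ i) (by rw [hi, Nat.cast_zero])
      rw [hc, ite_self, ite_self]
    · push Not at hz
      have hS : (∑ i, (α (π i) - Finsupp.single (Sum.inl i) 1)) + T = A := by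
        rw [hT, ← Finset.sum_add_distrib, hA, ← Equiv.sum_comp π α]
        refine Finset.sum_congr rfl fun i _ => ?_
        refine tsub_add_cancel_of_le (Finsupp.single_le_iff.2 ?_)
        have := hz i
        omega
      by_cases hAe : A = e₁
      · rw [if_pos hAe, if_pos]
        have : (∑ i, (α (π i) - Finsupp.single (Sum.inl i) 1)) + T = e₀ + T := by
          rw [hS, hAe]
        exact add_right_cancel this
      · rw [if_neg hAe, if_neg]
        intro hS0
        apply hAe
        rw [← hS, hS0]
  rw [Finset.sum_congr rfl fun π _ => hterm π]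
  by_cases hAe : A = e₁
  · simp only [if_pos hAe]
    -- determinant of the exponent matrix
    set B : Matrix (Fin m) (Fin m) R := Matrix.of fun i j => ((α i (Sum.inl j) : ℕ) : R) with hB
    have hdetB : B.det = ∑ π : Equiv.Perm (Fin m), (((Equiv.Perm.sign π : ℤˣ) : ℤ) : R) *
        ∏ i, ((α (π i) (Sum.inl i) : ℕ) : R) := by
      rw [Matrix.det_apply']
      rfl
    rw [← hdetB]
    have hcol : ∀ j : Fin m, ∑ i, B i j = 0 := by
      intro j
      have h1 : ∑ i, B i j = ((A (Sum.inl j) : ℕ) : R) := by
        simp only [hB, Matrix.of_apply, hA, Finsupp.finsetSum_apply, Nat.cast_sum]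
      have hT1 : T (Sum.inl j) = 1 := by
        simp only [hT, Finsupp.finsetSum_apply, Finsupp.single_apply, Sum.inl.injEq]
        rw [Finset.sum_ite_eq' Finset.univ j]
        simp
      have h2 : A (Sum.inl j) = p := by
        rw [hAe, he₁, Finsupp.add_apply, hT1, he₀, Finsupp.sumElim_inl]
        have := (Fact.out : p.Prime).pos
        simp only [Finsupp.equivFunOnFinite_symm_apply_apply]
        omega
      rw [h1, h2, CharP.cast_eq_zero]
    have hv : Matrix.vecMul (fun _ : Fin m => (1 : R)) B = 0 := by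
      funext j
      simp only [Matrix.vecMul, dotProduct, one_mul, Pi.zero_apply]
      exact hcol j
    have h3 := congrArg (fun w => Matrix.vecMul w B.adjugate) hv
    simp only [Matrix.vecMul_vecMul, Matrix.mul_adjugate, Matrix.vecMul_smul, Matrix.vecMul_one,
      Matrix.zero_vecMul] at h3
    have h4 := congrFun h3 ⟨0, hm⟩
    simpa using h4
  · simp only [if_neg hAe, mul_zero, Finset.sum_const_zero]

end Groth.Agent.S18153
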