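import Groth.Statements.S18190
import Mathlib

set_option autoImplicit false
open OrbRR

namespace Groth.Agent.S18190

noncomputable def G (N : ℕ) (v : ℕ) : ℝ :=
  (((v : ℝ) * ((v : ℝ) - (N : ℝ))) / 2 + ((N : ℝ) ^ 2 - 1) / 12) / (N : ℝ)

noncomputable def g (N : ℕ) (x : ZMod N) : ℝ := G N x.val

lemma G_N (N : ℕ) : G N N = G N 0 := by
  unfold G
  simp

lemma val_add_one (N : ℕ) [NeZero N] (x : ZMod N) : (x + 1).val = (x.val + 1) % N := by
  have h : x + 1 = ((x.val + 1 : ℕ) : ZMod N) := by
    push_cast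
    rw [ZMod.natCast_zmod_val]
  rw [h, ZMod.val_natCast]

lemma val_sub_one (N : ℕ) [NeZero N] (x : ZMod N) : (x - 1).val = (x.val + (N - 1)) % N := by
  have hN : 1 ≤ N := Nat.one_le_iff_ne_zero.2 (NeZero.ne N)
  have h : x - 1 = ((x.val + (N - 1) : ℕ) : ZMod N) := by
    rw [Nat.cast_add, Nat.cast_sub hN, ZMod.natCast_zmod_val, ZMod.natCast_self, Nat.cast_one]
    ring
  rw [h, ZMod.val_natCast]

lemma lap (N : ℕ) [NeZero N] (x : ZMod N) :
    2 * g N x - g N (x - 1) - g N (x + 1) = (if x = 0 then 1 else 0) - 1 / (N : ℝ) := by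
  have hN : 1 ≤ N := Nat.one_le_iff_ne_zero.2 (NeZero.ne N)
  have hNr : (N : ℝ) ≠ 0 := Nat.cast_ne_zero.2 (NeZero.ne N)
  unfold g
  rw [val_add_one, val_sub_one]
  have hv := ZMod.val_lt x
  by_cases hx : x = 0
  · subst hx
    rw [if_pos rfl, ZMod.val_zero, zero_add, zero_add]
    have h1 : (N - 1) % N = N - 1 := Nat.mod_eq_of_lt (by omega)
    rw [h1]
    by_cases hN1 : N = 1
    · subst hN1
      simp [G]
    · have h2 : 1 % N = 1 := Nat.mod_eq_of_lt (by omega)
      rw [h2]
      unfold G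
      rw [Nat.cast_sub hN]
      push_cast
      field_simp
      ring
  · rw [if_neg hx]
    have hv0 : x.val ≠ 0 := fun h => hx ((ZMod.val_eq_zero x).1 h)
    have h1 : (x.val + (N - 1)) % N = x.val - 1 := by
      have h3 : x.val + (N - 1) = (x.val - 1) + N := by omega
      rw [h3, Nat.add_mod_right, Nat.mod_eq_of_lt (by omega)]
    rw [h1]
    have h2 : G N ((x.val + 1) % N) = G N (x.val + 1) := by
      by_cases h : x.val + 1 < N
      · rw [Nat.mod_eq_of_lt h]
      · have h4 : x.val + 1 = N := by omega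
        rw [h4, Nat.mod_self, G_N]
    rw [h2]
    unfold G
    rw [Nat.cast_sub (by omega : 1 ≤ x.val)]
    push_cast
    field_simp
    ring

lemma g_neg (N : ℕ) [NeZero N] (x : ZMod N) : g N (-x) = g N x := by
  unfold g
  rw [ZMod.neg_val]
  by_cases hx : x = 0
  · rw [if_pos hx, hx, ZMod.val_zero]
  · rw [if_neg hx]
    have hv := ZMod.val_lt x
    unfold G
    rw [Nat.cast_sub hv.le]
    ring

lemma sum_G (N : ℕ) (n : ℕ) :
    ∑ v ∈ Finset.range n, (((v : ℝ) * ((v : ℝ) - (N : ℝ))) / 2 + ((N : ℝ) ^ 2 - 1) / 12) =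
      ((n : ℝ) - 1) * n * (2 * n - 1) / 12 - N * n * (n - 1) / 4 + n * ((N : ℝ) ^ 2 - 1) / 12 := by
  induction n with
  | zero => simp
  | succ n ih =>
    rw [Finset.sum_range_succ, ih]
    push_cast
    ring

lemma sum_g (N : ℕ) [NeZero N] : ∑ x : ZMod N, g N x = 0 := by
  have hNr : (N : ℝ) ≠ 0 := Nat.cast_ne_zero.2 (NeZero.ne N)
  have h1 : ∑ x : ZMod N, g N x = ∑ v ∈ Finset.range N, G N v := by
    refine Finset.sum_nbij' (fun x : ZMod N => (x.val : ℕ)) (fun v : ℕ => (v : ZMod N)) ?_ ?_ ?_ ?_ ?_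
    · intro x _; exact Finset.mem_range.2 (ZMod.val_lt x)
    · intro v _; exact Finset.mem_univ _
    · intro x _; exact ZMod.natCast_zmod_val x
    · intro v hv; exact ZMod.val_natCast_of_lt (Finset.mem_range.1 hv)
    · intro x _; rfl
  rw [h1]
  unfold G
  rw [← Finset.sum_div, sum_G]
  field_simp
  ring

/-- Let N ≥ 1 and let f : ℤ/Nℤ → ℚ be f(x) = x(x − N)/2 + (N² − 1)/12, where x is read as its
representative with 0 ≤ x < N. The real N × N matrix indexed by ℤ/Nℤ whose (i, j) entry is f(j −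
i)/N, a symmetric circulant matrix, is positive semidefinite. -/
theorem result (N : ℕ) [NeZero N] :
    (Matrix.of fun i j : ZMod N =>
        ((((j - i).val : ℝ) * (((j - i).val : ℝ) - (N : ℝ))) / 2 + ((N : ℝ) ^ 2 - 1) / 12) / (N : ℝ)).PosSemidef := by
  classical
  let C : Matrix (ZMod N) (ZMod N) ℝ := Matrix.of fun i j => g N (j - i)
  let E : Matrix (ZMod N) (ZMod N) ℝ := Matrix.of fun k i => g N (i - k) - g N (i - k - 1)
  have hE : ∀ k i, E k i = g N (i - k) - g N (i - k - 1) := fun k i => rfl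
  have hmain : C = E.conjTranspose * E := by
    ext i j
    rw [Matrix.mul_apply]
    show g N (j - i) = ∑ k, star (E k i) * E k j
    simp only [star_trivial]
    have e1 : ∀ k, E k i * E k j = g N (i - k) * E k j - g N (i - k - 1) * E k j := by
      intro k
      rw [hE k i]
      ring
    have e2 : ∑ k, g N (i - k - 1) * E k j = ∑ k, g N (i - k) * E (k - 1) j := by
      apply Fintype.sum_equiv (Equiv.addRight (1 : ZMod N))
      intro k
      show g N (i - k - 1) * E k j = g N (i - (k + 1)) * E (k + 1 - 1) j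
      rw [add_sub_cancel_right, sub_sub]
    have e3 : ∀ k, E k j - E (k - 1) j = (if k = j then 1 else 0) - 1 / (N : ℝ) := by
      intro k
      rw [hE, hE]
      have h1 : j - (k - 1) = (j - k) + 1 := by ring
      have h2 : j - (k - 1) - 1 = j - k := by ring
      rw [h2, h1]
      have h3 := lap N (j - k)
      have h4 : (j - k = 0) ↔ (k = j) := by
        rw [sub_eq_zero]
        exact eq_comm
      simp only [h4] at h3
      rw [← h3]
      ring
    have e4 : ∑ k, g N (i - k) = 0 := by
      rw [← sum_g N]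
      exact Fintype.sum_equiv (Equiv.subLeft i) _ _ (fun k => rfl)
    calc g N (j - i) = g N (i - j) := by rw [← g_neg, neg_sub]
      _ = ∑ k, g N (i - k) * ((if k = j then 1 else 0) - 1 / (N : ℝ)) := by
          simp only [mul_sub, Finset.sum_sub_distrib, mul_ite, mul_one, mul_zero,
            Finset.sum_ite_eq', Finset.mem_univ, if_true, ← Finset.sum_mul, e4, zero_mul, sub_zero]
      _ = ∑ k, (g N (i - k) * E k j - g N (i - k) * E (k - 1) j) := by
          apply Finset.sum_congr rfl
          intro k _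
          rw [← e3 k]
          ring
      _ = ∑ k, E k i * E k j := by
          rw [Finset.sum_sub_distrib, ← e2, ← Finset.sum_sub_distrib]
          apply Finset.sum_congr rfl
          intro k _
          rw [e1 k]
  show C.PosSemidef
  rw [hmain]
  exact Matrix.posSemidef_conjTranspose_mul_self E

end Groth.Agent.S18190
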