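import Groth.Statements.S18247
import Mathlib

set_option autoImplicit false
universe u
open W4c5m1nsnscurves
open Curves

namespace Groth.Agent.S18247

open MvPolynomial

noncomputable def L6 : MvPolynomial (Fin 6) ℤ := X 0 + X 1 + X 2 + X 3 + X 4 - X 5

noncomputable def g0 : UGen 2 → MvPolynomial (Fin 6) ℤ
  | .a => X 0
  | .c => L6 * X 3 + X 5 * X 1 - X 1 * X 3
  | .cb => L6 * X 2 + X 5 * X 4 - X 2 * X 4
  | .ci i => if i = 0 then X 1 else X 3
  | .cbi i => if i = 0 then X 2 else X 4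
  | .cij i _ _ => if i = 0 then X 5 else L6

theorem pair_cases (i j : Fin 2) (h : i ≠ j) : (i = 0 ∧ j = 1) ∨ (i = 1 ∧ j = 0) := by
  revert i j; decide

theorem no_triple (i j l : Fin 2) (h1 : i ≠ j) (h2 : j ≠ l) (h3 : i ≠ l) : False := by
  revert i j l; decide

theorem G_rel : ∀ r ∈ URel ℤ 2, MvPolynomial.aeval g0 r = 0 := by
  rintro r (((⟨⟨⟨i, j⟩, hij⟩, rfl⟩ | ⟨⟨⟨i, j⟩, hij⟩, rfl⟩) | ⟨⟨⟨i, j⟩, hij⟩, rfl⟩) |
    ⟨⟨⟨i, j, l⟩, h1, h2, h3⟩, rfl⟩)
  · rcases pair_cases i j hij with ⟨rfl, rfl⟩ | ⟨rfl, rfl⟩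
    · simp [g0, L6] <;> ring
    · simp [g0, L6] <;> ring
  · rcases pair_cases i j hij with ⟨rfl, rfl⟩ | ⟨rfl, rfl⟩
    · simp [g0, L6] <;> ring
    · simp [g0, L6] <;> ring
  · rcases pair_cases i j hij with ⟨rfl, rfl⟩ | ⟨rfl, rfl⟩
    · simp [g0, L6] <;> ring
    · simp [g0, L6] <;> ring
  · exact (no_triple i j l h1 h2 h3).elim

/-- Case n = 5: the coordinate ring of U_5 over ℤ (m = 2 indices, standing for the points 4 and 5;
generators a, c, c̄, c_4, c̄_4, c_5, c̄_5, c_{45}, c_{54} with the linear and the two quadratic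
relations for the one pair of indices, and no triple) is the polynomial ring on a, c_4, c̄_4, c_5,
c̄_5, c_{45}: the ℤ-algebra map from the polynomial ring in six variables sending the variables to
these six classes, in this order, is bijective. -/
theorem result :
    Function.Bijective (MvPolynomial.aeval (R := ℤ) (S₁ := URing ℤ 2)
      ![ugen ℤ 2 .a, ugen ℤ 2 (.ci 0), ugen ℤ 2 (.cbi 0), ugen ℤ 2 (.ci 1), ugen ℤ 2 (.cbi 1),
        ugen ℤ 2 (.cij 0 1 Fin.zero_ne_one)]) := by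
  classical
  obtain ⟨G, hG⟩ : ∃ G : URing ℤ 2 →ₐ[ℤ] MvPolynomial (Fin 6) ℤ,
      ∀ x : MvPolynomial (UGen 2) ℤ,
        G (Ideal.Quotient.mk (Ideal.span (URel ℤ 2)) x) = MvPolynomial.aeval g0 x := by
    have hker : ∀ x ∈ Ideal.span (URel ℤ 2), (MvPolynomial.aeval g0 :
        MvPolynomial (UGen 2) ℤ →ₐ[ℤ] MvPolynomial (Fin 6) ℤ) x = 0 := by
      intro x hx
      have hle : Ideal.span (URel ℤ 2) ≤ RingHom.ker (MvPolynomial.aeval g0 :
          MvPolynomial (UGen 2) ℤ →ₐ[ℤ] MvPolynomial (Fin 6) ℤ) := by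
        rw [Ideal.span_le]
        intro r hr
        exact RingHom.mem_ker.mpr (G_rel r hr)
      exact RingHom.mem_ker.mp (hle hx)
    exact ⟨Ideal.Quotient.liftₐ (Ideal.span (URel ℤ 2)) (MvPolynomial.aeval g0) hker,
      fun x => rfl⟩
  obtain ⟨f, hf, hf0, hf1, hf2, hf3, hf4, hf5⟩ :
      ∃ f : MvPolynomial (Fin 6) ℤ →ₐ[ℤ] URing ℤ 2,
        f = MvPolynomial.aeval (R := ℤ) (S₁ := URing ℤ 2)
          ![ugen ℤ 2 .a, ugen ℤ 2 (.ci 0), ugen ℤ 2 (.cbi 0), ugen ℤ 2 (.ci 1), ugen ℤ 2 (.cbi 1),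
            ugen ℤ 2 (.cij 0 1 Fin.zero_ne_one)] ∧
        f (X 0) = ugen ℤ 2 .a ∧ f (X 1) = ugen ℤ 2 (.ci 0) ∧ f (X 2) = ugen ℤ 2 (.cbi 0) ∧
        f (X 3) = ugen ℤ 2 (.ci 1) ∧ f (X 4) = ugen ℤ 2 (.cbi 1) ∧
        f (X 5) = ugen ℤ 2 (.cij 0 1 Fin.zero_ne_one) :=
    ⟨_, rfl, by rw [aeval_X]; rfl, by rw [aeval_X]; rfl, by rw [aeval_X]; rfl,
      by rw [aeval_X]; rfl, by rw [aeval_X]; rfl, by rw [aeval_X]; rfl⟩
  rw [← hf]
  have hlin : ugen ℤ 2 (.cij 0 1 Fin.zero_ne_one) + ugen ℤ 2 (.cij 1 0 (Ne.symm Fin.zero_ne_one))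
      = ugen ℤ 2 .a + ugen ℤ 2 (.ci 0) + ugen ℤ 2 (.cbi 0) + ugen ℤ 2 (.ci 1)
        + ugen ℤ 2 (.cbi 1) := by
    have hmem : (X (.cij 0 1 Fin.zero_ne_one) + X (.cij 1 0 (Ne.symm Fin.zero_ne_one)) -
        (X .a + X (.ci 0) + X (.cbi 0) + X (.ci 1) + X (.cbi 1)) : MvPolynomial (UGen 2) ℤ)
        ∈ URel ℤ 2 := Or.inl (Or.inl (Or.inl ⟨⟨(0, 1), Fin.zero_ne_one⟩, rfl⟩))
    have h0 := Ideal.Quotient.eq_zero_iff_mem.mpr (Ideal.subset_span hmem)
    rw [map_sub, map_add, map_add, map_add, map_add, map_add, sub_eq_zero] at h0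
    exact h0
  have hqc : ugen ℤ 2 (.cij 1 0 (Ne.symm Fin.zero_ne_one)) * ugen ℤ 2 (.ci 1)
      + ugen ℤ 2 (.cij 0 1 Fin.zero_ne_one) * ugen ℤ 2 (.ci 0)
      - ugen ℤ 2 (.ci 0) * ugen ℤ 2 (.ci 1) = ugen ℤ 2 .c := by
    have hmem : (X (.cij 1 0 (Ne.symm Fin.zero_ne_one)) * X (.ci 1)
        + X (.cij 0 1 Fin.zero_ne_one) * X (.ci 0) - X (.ci 0) * X (.ci 1) - X .c :
        MvPolynomial (UGen 2) ℤ) ∈ URel ℤ 2 :=
      Or.inl (Or.inl (Or.inr ⟨⟨(0, 1), Fin.zero_ne_one⟩, rfl⟩))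
    have h0 := Ideal.Quotient.eq_zero_iff_mem.mpr (Ideal.subset_span hmem)
    rw [map_sub, map_sub, map_add, map_mul, map_mul, map_mul, sub_eq_zero] at h0
    exact h0
  have hqcb : ugen ℤ 2 (.cij 1 0 (Ne.symm Fin.zero_ne_one)) * ugen ℤ 2 (.cbi 0)
      + ugen ℤ 2 (.cij 0 1 Fin.zero_ne_one) * ugen ℤ 2 (.cbi 1)
      - ugen ℤ 2 (.cbi 0) * ugen ℤ 2 (.cbi 1) = ugen ℤ 2 .cb := by
    have hmem : (X (.cij 1 0 (Ne.symm Fin.zero_ne_one)) * X (.cbi 0)
        + X (.cij 0 1 Fin.zero_ne_one) * X (.cbi 1) - X (.cbi 0) * X (.cbi 1) - X .cb :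
        MvPolynomial (UGen 2) ℤ) ∈ URel ℤ 2 :=
      Or.inl (Or.inr ⟨⟨(0, 1), Fin.zero_ne_one⟩, rfl⟩)
    have h0 := Ideal.Quotient.eq_zero_iff_mem.mpr (Ideal.subset_span hmem)
    rw [map_sub, map_sub, map_add, map_mul, map_mul, map_mul, sub_eq_zero] at h0
    exact h0
  have hfL : f L6 = ugen ℤ 2 (.cij 1 0 (Ne.symm Fin.zero_ne_one)) := by
    rw [L6, map_sub, map_add, map_add, map_add, map_add, hf0, hf1, hf2, hf3, hf4, hf5]
    linear_combination -hlin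
  have hGf : G.comp f = AlgHom.id ℤ (MvPolynomial (Fin 6) ℤ) := by
    apply MvPolynomial.algHom_ext
    intro i
    show G (f (X i)) = X i
    have key : ∀ (gen : UGen 2), G (ugen ℤ 2 gen) = g0 gen := fun gen => by
      show G (Ideal.Quotient.mk _ (X gen)) = _
      rw [hG, aeval_X]
    fin_cases i
    · show G (f (X 0)) = X 0
      rw [hf0, key]; rfl
    · show G (f (X 1)) = X 1
      rw [hf1, key]; show (if (0 : Fin 2) = 0 then X 1 else X 3) = _; rw [if_pos rfl]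
    · show G (f (X 2)) = X 2
      rw [hf2, key]; show (if (0 : Fin 2) = 0 then X 2 else X 4) = _; rw [if_pos rfl]
    · show G (f (X 3)) = X 3
      rw [hf3, key]; show (if (1 : Fin 2) = 0 then X 1 else X 3) = _; rw [if_neg (by decide)]
    · show G (f (X 4)) = X 4
      rw [hf4, key]; show (if (1 : Fin 2) = 0 then X 2 else X 4) = _; rw [if_neg (by decide)]
    · show G (f (X 5)) = X 5
      rw [hf5, key]; show (if (0 : Fin 2) = 0 then X 5 else L6) = _; rw [if_pos rfl]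
  have hfG : f.comp G = AlgHom.id ℤ (URing ℤ 2) := by
    apply Ideal.Quotient.algHom_ext
    apply MvPolynomial.algHom_ext
    intro gen
    show f (G (Ideal.Quotient.mk _ (X gen))) = Ideal.Quotient.mk _ (X gen)
    rw [hG, aeval_X]
    cases gen with
    | a => exact hf0
    | c =>
      show f (L6 * X 3 + X 5 * X 1 - X 1 * X 3) = ugen ℤ 2 .c
      rw [map_sub, map_add, map_mul, map_mul, map_mul, hf1, hf3, hf5, hfL]
      exact hqc
    | cb =>
      show f (L6 * X 2 + X 5 * X 4 - X 2 * X 4) = ugen ℤ 2 .cb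
      rw [map_sub, map_add, map_mul, map_mul, map_mul, hf2, hf4, hf5, hfL]
      exact hqcb
    | ci i =>
      by_cases hi : i = 0
      · subst hi
        show f (if (0 : Fin 2) = 0 then X 1 else X 3) = _
        rw [if_pos rfl]; exact hf1
      · have hi1 : i = 1 := Fin.eq_one_of_ne_zero i hi
        subst hi1
        show f (if (1 : Fin 2) = 0 then X 1 else X 3) = _
        rw [if_neg (by decide)]; exact hf3
    | cbi i =>
      by_cases hi : i = 0
      · subst hi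
        show f (if (0 : Fin 2) = 0 then X 2 else X 4) = _
        rw [if_pos rfl]; exact hf2
      · have hi1 : i = 1 := Fin.eq_one_of_ne_zero i hi
        subst hi1
        show f (if (1 : Fin 2) = 0 then X 2 else X 4) = _
        rw [if_neg (by decide)]; exact hf4
    | cij i j h =>
      rcases pair_cases i j h with ⟨rfl, rfl⟩ | ⟨rfl, rfl⟩
      · show f (if (0 : Fin 2) = 0 then X 5 else L6) = _
        rw [if_pos rfl]; exact hf5
      · show f (if (1 : Fin 2) = 0 then X 5 else L6) = _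
        rw [if_neg (by decide)]; exact hfL
  rw [Function.bijective_iff_has_inverse]
  refine ⟨G, fun x => ?_, fun y => ?_⟩
  · exact DFunLike.congr_fun hGf x
  · exact DFunLike.congr_fun hfG y

end Groth.Agent.S18247
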