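import Groth.Statements.S18292
import Groth.Statements.S18292
import Mathlib

set_option autoImplicit false
universe v₁ u₁
open CategoryTheory MonoidalCategory CartesianMonoidalCategory MonObj Opposite
open Magnet Magnet.MonAct

namespace Groth.Agent.S18292

/-- Let A be a monoid object of a cartesian monoidal category acting on objects B, X₁, X₂, X₃ and P, let
f₁ : X₁ → X₂ and f₃ : X₃ → X₂ be equivariant, and let p₁ : P → X₁, p₃ : P → X₃ be equivariant
morphisms making P the fibre product X₁ ×_{X₂} X₃ (in the source A = A(M)_S acts on S-spaces, B =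
A(N)_S for a magnet N, and the fibre product carries its canonical action). Then attractors commute
with this fibre product: the square of functors T ↦ (equivariant maps B × T → ·) induced by p₁, p₃,
f₁, f₃ is cartesian, (X₁ ×_{X₂} X₃)^N = X₁^N ×_{X₂^N} X₃^N. -/
theorem result {C : Type u₁} [Category.{v₁} C] [CartesianMonoidalCategory C]
    {A B X₁ X₂ X₃ P : C} [MonObj A] (ρ : Magnet.MonAct A B) (a₁ : Magnet.MonAct A X₁) (a₂ : Magnet.MonAct A X₂)
    (a₃ : Magnet.MonAct A X₃) (aP : Magnet.MonAct A P) (f₁ : X₁ ⟶ X₂) (f₃ : X₃ ⟶ X₂) (p₁ : P ⟶ X₁) (p₃ : P ⟶ X₃)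
    (hsq : IsPullback p₁ p₃ f₁ f₃) (hf₁ : Magnet.MonAct.IsEquivariant a₁ a₂ f₁)
    (hf₃ : Magnet.MonAct.IsEquivariant a₃ a₂ f₃) (hp₁ : Magnet.MonAct.IsEquivariant aP a₁ p₁)
    (hp₃ : Magnet.MonAct.IsEquivariant aP a₃ p₃) :
    IsPullback (Magnet.MonAct.eqvHom.postcomp ρ p₁ hp₁) (Magnet.MonAct.eqvHom.postcomp ρ p₃ hp₃)
      (Magnet.MonAct.eqvHom.postcomp ρ f₁ hf₁) (Magnet.MonAct.eqvHom.postcomp ρ f₃ hf₃) := by
  refine IsPullback.of_forall_isPullback_app fun T => ?_
  rw [CategoryTheory.Limits.Types.isPullback_iff]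
  refine ⟨?_, ?_, ?_⟩
  · ext φ
    apply Subtype.ext
    change (φ.1 ≫ p₁) ≫ f₁ = (φ.1 ≫ p₃) ≫ f₃
    rw [Category.assoc, Category.assoc, hsq.w]
  · rintro φ ψ ⟨h1, h3⟩
    have h1' := congrArg Subtype.val h1
    have h3' := congrArg Subtype.val h3
    simp only [eqvHom.postcomp_app_coe] at h1' h3'
    apply Subtype.ext
    exact hsq.hom_ext h1' h3'
  · intro φ₁ φ₃ h
    have h' := congrArg Subtype.val h
    simp only [eqvHom.postcomp_app_coe] at h'
    have e1 := φ₁.2
    have e3 := φ₃.2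
    rw [mem_eqvHom_iff] at e1 e3
    have hp₁' := (isEquivariant_iff _ _ _).1 hp₁
    have hp₃' := (isEquivariant_iff _ _ _).1 hp₃
    refine ⟨⟨hsq.lift φ₁.1 φ₃.1 h', ?_⟩, ?_, ?_⟩
    · rw [mem_eqvHom_iff]
      intro T' g b t
      apply hsq.hom_ext
      · rw [Category.assoc, Category.assoc, hsq.lift_fst, hp₁', e1, Category.assoc, hsq.lift_fst]
      · rw [Category.assoc, Category.assoc, hsq.lift_snd, hp₃', e3, Category.assoc, hsq.lift_snd]
    · apply Subtype.ext
      simp only [eqvHom.postcomp_app_coe, hsq.lift_fst]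
    · apply Subtype.ext
      simp only [eqvHom.postcomp_app_coe, hsq.lift_snd]

end Groth.Agent.S18292
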