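import Groth.Statements.S18390
import Mathlib

set_option autoImplicit false
universe u
open LVCorr

namespace Groth.Agent.S18390

/-- In the affine, ring-theoretic form which its proof establishes. Let φ : A' → A be a ring
homomorphism, I' a finitely generated ideal of A' and I an ideal of A containing the image of I'.
Then some power I'^k is mapped into I^(k+1) if and only if for every n ≥ 1 and every a ∈ I'^n there
is a k with φ(a)^k ∈ I^(nk+1). (Geometrically, for a morphism f : (X, Z) → (X', Z') of pairs with Z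
a closed subscheme of the preimage of Z', the normal cone of Z in X is the spectrum of the
associated graded algebra of I, and the second condition says that the induced map of normal cones
sends the normal cone of Z set-theoretically into the zero section Z'; the source states the
equivalence in that language.) -/
theorem result (A' A : Type u) [CommRing A'] [CommRing A]
    (φ : A' →+* A) (I' : Ideal A') (hI' : I'.FG) (I : Ideal A) (hle : I'.map φ ≤ I) :
    (∃ k : ℕ, (I' ^ k).map φ ≤ I ^ (k + 1)) ↔
      ∀ n : ℕ, 1 ≤ n → ∀ a ∈ I' ^ n, ∃ k : ℕ, 1 ≤ k ∧ φ a ^ k ∈ I ^ (n * k + 1) := by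
  classical
  constructor
  · rintro ⟨k, hk⟩ n hn a ha
    rcases Nat.eq_zero_or_pos k with rfl | hkpos
    · -- I = ⊤
      have h1 : (1 : A) ∈ I ^ (0 + 1) := by
        apply hk
        rw [pow_zero, Ideal.one_eq_top, Ideal.map_top]
        exact Submodule.mem_top
      have hItop : I = ⊤ := by
        rw [Ideal.eq_top_iff_one]
        simpa using h1
      refine ⟨1, le_rfl, ?_⟩
      rw [hItop, Ideal.top_pow]
      exact Submodule.mem_top
    · refine ⟨k, hkpos, ?_⟩
      have h1 : a ^ k ∈ (I' ^ k) ^ n := by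
        rw [← pow_mul, mul_comm, pow_mul]
        exact Ideal.pow_mem_pow ha k
      have h2 : φ (a ^ k) ∈ ((I' ^ k) ^ n).map φ := Ideal.mem_map_of_mem φ h1
      rw [Ideal.map_pow] at h2
      have h3 : ((I' ^ k).map φ) ^ n ≤ (I ^ (k + 1)) ^ n := Ideal.pow_right_mono hk n
      have h4 : (I ^ (k + 1)) ^ n ≤ I ^ (n * k + 1) := by
        rw [← pow_mul]
        apply Ideal.pow_le_pow_right
        nlinarith
      rw [map_pow] at h2
      exact h4 (h3 h2)
  · intro H
    -- property of sub-ideals
    have hsingle : ∀ x ∈ I', ∃ k : ℕ, ((Ideal.span {x}) ^ k).map φ ≤ I ^ (k + 1) := by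
      intro x hx
      obtain ⟨k, _, hk⟩ := H 1 le_rfl x (by simpa using hx)
      refine ⟨k, ?_⟩
      rw [Ideal.span_singleton_pow, Ideal.map_span, Set.image_singleton, Ideal.span_le,
        Set.singleton_subset_iff, map_pow]
      simpa using hk
    have hsum : ∀ J₁ J₂ : Ideal A', J₁ ≤ I' → J₂ ≤ I' →
        (∃ k : ℕ, (J₁ ^ k).map φ ≤ I ^ (k + 1)) → (∃ k : ℕ, (J₂ ^ k).map φ ≤ I ^ (k + 1)) →
        ∃ k : ℕ, ((J₁ ⊔ J₂) ^ k).map φ ≤ I ^ (k + 1) := by
      rintro J₁ J₂ hJ₁ hJ₂ ⟨k₁, hk₁⟩ ⟨k₂, hk₂⟩
      have hm₁ : ∀ j, (J₁ ^ j).map φ ≤ I ^ j := fun j => by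
        rw [Ideal.map_pow]
        exact Ideal.pow_right_mono ((Ideal.map_mono hJ₁).trans hle) j
      have hm₂ : ∀ j, (J₂ ^ j).map φ ≤ I ^ j := fun j => by
        rw [Ideal.map_pow]
        exact Ideal.pow_right_mono ((Ideal.map_mono hJ₂).trans hle) j
      refine ⟨k₁ + k₂, ?_⟩
      rw [Ideal.map_le_iff_le_comap, ← Ideal.add_eq_sup, add_pow, Ideal.sum_eq_sup,
        Finset.sup_le_iff]
      intro m hm
      have hmle : m ≤ k₁ + k₂ := Nat.lt_succ_iff.mp (Finset.mem_range.mp hm)
      refine le_trans Ideal.mul_le_left ?_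
      rw [← Ideal.map_le_iff_le_comap, Ideal.map_mul]
      rcases Nat.lt_or_ge m k₁ with hlt | hge
      · -- k₁ + k₂ - m ≥ k₂ + 1 > k₂
        have e : k₁ + k₂ - m = k₂ + (k₁ - m) := by omega
        rw [e, pow_add, Ideal.map_mul, ← mul_assoc]
        have h1 : Ideal.map φ (J₁ ^ m) * Ideal.map φ (J₂ ^ k₂) * Ideal.map φ (J₂ ^ (k₁ - m)) ≤
            I ^ m * I ^ (k₂ + 1) * I ^ (k₁ - m) :=
          Ideal.mul_mono (Ideal.mul_mono (hm₁ m) hk₂) (hm₂ _)
        refine le_trans h1 ?_
        rw [← pow_add, ← pow_add]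
        apply Ideal.pow_le_pow_right
        omega
      · have e : m = k₁ + (m - k₁) := by omega
        rw [e, pow_add, Ideal.map_mul]
        have h1 : Ideal.map φ (J₁ ^ k₁) * Ideal.map φ (J₁ ^ (m - k₁)) *
            Ideal.map φ (J₂ ^ (k₁ + k₂ - (k₁ + (m - k₁)))) ≤
            I ^ (k₁ + 1) * I ^ (m - k₁) * I ^ (k₁ + k₂ - (k₁ + (m - k₁))) :=
          Ideal.mul_mono (Ideal.mul_mono hk₁ (hm₁ _)) (hm₂ _)
        refine le_trans h1 ?_
        rw [← pow_add, ← pow_add]
        apply Ideal.pow_le_pow_right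
        omega
    obtain ⟨S, hS⟩ := hI'
    have hfin : ∀ T : Finset A', (∀ x ∈ T, x ∈ I') →
        ∃ k : ℕ, ((Ideal.span (T : Set A')) ^ k).map φ ≤ I ^ (k + 1) := by
      intro T
      induction T using Finset.induction_on with
      | empty =>
        intro _
        refine ⟨1, ?_⟩
        simp
      | insert x T hx ih =>
        intro hT
        have h1 := hsingle x (hT x (Finset.mem_insert_self x T))
        have h2 := ih (fun y hy => hT y (Finset.mem_insert_of_mem hy))
        have hle1 : Ideal.span {x} ≤ I' := by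
          rw [Ideal.span_le, Set.singleton_subset_iff]
          exact hT x (Finset.mem_insert_self x T)
        have hle2 : Ideal.span (T : Set A') ≤ I' := by
          rw [Ideal.span_le]
          intro y hy
          exact hT y (Finset.mem_insert_of_mem hy)
        have := hsum _ _ hle1 hle2 h1 h2
        rwa [Finset.coe_insert, Ideal.span_insert]
    have := hfin S (fun x hx => by rw [← hS]; exact Ideal.subset_span hx)
    rwa [hS] at this

end Groth.Agent.S18390
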