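import Groth.Statements.S18392
import Mathlib

set_option autoImplicit false
universe u
open LVCorr

namespace Groth.Agent.S18392

/-- Let A be a normal (integrally closed) Noetherian domain and z an element of A such that the radical
of (z) is prime. Then for every non-empty open subset V of Spec A contained in the basic open set
D(z) (that is, every non-empty open subset of Spec A[1/z]) there is an element x of A, not in the
radical of (z), such that the basic open set D(xz) = Spec A[1/xz] is contained in V. -/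
theorem result (A : Type u) [CommRing A]
    [IsDomain A] [IsNoetherianRing A] [IsIntegrallyClosed A] (z : A)
    (hz : (Ideal.span {z}).radical.IsPrime) (V : Set (PrimeSpectrum A)) (hV : IsOpen V)
    (hVz : V ⊆ (PrimeSpectrum.basicOpen z : Set (PrimeSpectrum A))) (hne : V.Nonempty) :
    ∃ x : A, x ∉ (Ideal.span {z}).radical ∧
      ((PrimeSpectrum.basicOpen (x * z) : TopologicalSpace.Opens (PrimeSpectrum A)) :
        Set (PrimeSpectrum A)) ⊆ V := by
  classical
  haveI := hz
  obtain ⟨pt, hpt⟩ := hne
  obtain ⟨W, ⟨y, hyW⟩, hpty, hyV⟩ :=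
    PrimeSpectrum.isTopologicalBasis_basic_opens.exists_subset_of_mem_open hpt hV
  have hyW' : ((PrimeSpectrum.basicOpen y : TopologicalSpace.Opens (PrimeSpectrum A)) :
      Set (PrimeSpectrum A)) = W := hyW
  subst hyW'
  have hyp : y ∉ pt.asIdeal := hpty
  have hy0 : y ≠ 0 := by
    rintro rfl
    exact hyp (Ideal.zero_mem _)
  have hzP : z ∈ (Ideal.span {z}).radical := Ideal.le_radical (Ideal.mem_span_singleton_self z)
  have hmin : (Ideal.span {z}).radical ∈ (Ideal.span {z}).minimalPrimes := by
    show Minimal (fun q : Ideal A => q.IsPrime ∧ Ideal.span {z} ≤ q) _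
    exact ⟨⟨hz, Ideal.le_radical⟩, fun q' hq' _ => hq'.1.radical_le_iff.mpr hq'.2⟩
  have hht : (Ideal.span {z}).radical.height ≤ 1 :=
    Ideal.height_le_one_of_isPrincipal_of_mem_minimalPrimes (Ideal.span {z}) _ hmin
  have hclaim : ∃ x : A, x ∉ (Ideal.span {z}).radical ∧ ∃ a : ℕ, x * z ^ a ∈ Ideal.span {y} := by
    by_contra hcon
    have hcon' : ∀ x : A, x ∉ (Ideal.span {z}).radical → ∀ a : ℕ, x * z ^ a ∉ Ideal.span {y} := by
      intro x hx a hmem
      exact hcon ⟨x, hx, a, hmem⟩
    have hdisj : Disjoint ((Ideal.span {y} : Ideal A) : Set A)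
        (((Ideal.span {z}).radical.primeCompl ⊔ Submonoid.powers z : Submonoid A) : Set A) := by
      rw [Set.disjoint_left]
      intro w hw hwT
      obtain ⟨x, hx, u, hu, rfl⟩ := Submonoid.mem_sup.mp hwT
      obtain ⟨a, rfl⟩ := (Submonoid.mem_powers_iff _ _).mp hu
      exact hcon' x hx a hw
    obtain ⟨q, hq, hyq, hqT⟩ := Ideal.exists_le_prime_disjoint _ _ hdisj
    haveI := hq
    have hqP : q ≤ (Ideal.span {z}).radical := by
      intro w hw
      by_contra hwP
      exact Set.disjoint_left.mp hqT hw (Submonoid.mem_sup_left hwP)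
    have hzq : z ∉ q := fun hzq =>
      Set.disjoint_left.mp hqT hzq (Submonoid.mem_sup_right (Submonoid.mem_powers z))
    have hyq' : y ∈ q := hyq (Ideal.mem_span_singleton_self y)
    have hbot : (⊥ : Ideal A) < q := by
      rw [bot_lt_iff_ne_bot]
      intro hqb
      rw [hqb, Ideal.mem_bot] at hyq'
      exact hy0 hyq'
    have hlt : q < (Ideal.span {z}).radical := by
      refine lt_of_le_of_ne hqP ?_
      intro heq
      exact hzq (by rw [heq]; exact hzP)
    have h1 : (⊥ : Ideal A).height < q.height := Ideal.height_strict_mono_of_isPrime hbot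
    have h2 : q.height < (Ideal.span {z}).radical.height := Ideal.height_strict_mono_of_isPrime hlt
    have h3 : (1 : ℕ∞) ≤ q.height := Order.one_le_iff_pos.mpr (lt_of_le_of_lt zero_le h1)
    exact absurd (lt_of_le_of_lt h3 h2) (not_lt.mpr hht)
  obtain ⟨x, hxP, a, hmem⟩ := hclaim
  refine ⟨x, hxP, ?_⟩
  have hle : PrimeSpectrum.basicOpen (x * z) ≤ PrimeSpectrum.basicOpen y := by
    rw [PrimeSpectrum.basicOpen_le_basicOpen_iff]
    refine ⟨a + 1, ?_⟩
    have : (x * z) ^ (a + 1) = (x ^ a * z) * (x * z ^ a) := by ring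
    rw [this]
    exact Ideal.mul_mem_left _ _ hmem
  exact fun w hw => hyV (SetLike.coe_subset_coe.mpr hle hw)

end Groth.Agent.S18392
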