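import Groth.Statements.S18393
import Mathlib

set_option autoImplicit false
universe u v
open LVCorr

namespace Groth.Agent.S18393

/-- Stated for the underlying continuous maps. Let c₁, c₂ : C → X be continuous maps with C a Noetherian
topological space, let Z be a closed subset of X and B the closure in C of c₂⁻¹(Z) ∖ c₁⁻¹(Z). Call Z
locally invariant when every point x of Z has an open neighbourhood U such that every y in C with
c₂(y) ∈ Z ∩ U and c₁(y) ∈ U satisfies c₁(y) ∈ Z. Then Z is locally invariant if and only if for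
every irreducible subset T of B the closures of c₁(T) and of c₂(T) in X are disjoint. (The source
states this for a correspondence c = (c₁, c₂) : C → X × X of separated schemes of finite type over
an algebraically closed field and for the irreducible components of B; the condition for all
irreducible subsets of B is the same condition.) -/
theorem result {C : Type u} {X : Type v}
    [TopologicalSpace C] [TopologicalSpace X] [TopologicalSpace.NoetherianSpace C]
    (c₁ c₂ : C → X) (hc₁ : Continuous c₁) (hc₂ : Continuous c₂) (Z : Set X) (hZ : IsClosed Z) :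
    (∀ x ∈ Z, ∃ U : Set X, IsOpen U ∧ x ∈ U ∧
        ∀ y : C, c₂ y ∈ Z → c₂ y ∈ U → c₁ y ∈ U → c₁ y ∈ Z) ↔
      ∀ T : Set C, T ⊆ closure (c₂ ⁻¹' Z \ c₁ ⁻¹' Z) → IsIrreducible T →
        closure (c₁ '' T) ∩ closure (c₂ '' T) = ∅ := by
  classical
  set W : Set C := c₂ ⁻¹' Z \ c₁ ⁻¹' Z with hW
  have hBZ : closure W ⊆ c₂ ⁻¹' Z := by
    apply closure_minimal _ (hZ.preimage hc₂)
    intro y hy; exact hy.1
  constructor
  · intro hloc T hTB hT
    by_contra hne
    obtain ⟨x, hx₁, hx₂⟩ := Set.nonempty_iff_ne_empty.2 hne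
    have hxZ : x ∈ Z := by
      have : closure (c₂ '' T) ⊆ Z := by
        apply closure_minimal _ hZ
        rintro _ ⟨t, ht, rfl⟩
        exact hBZ (hTB ht)
      exact this hx₂
    obtain ⟨U, hUo, hxU, hU⟩ := hloc x hxZ
    -- the two opens meet T
    obtain ⟨_, ht₁U, ⟨t₁, ht₁, rfl⟩⟩ := mem_closure_iff.1 hx₁ U hUo hxU
    obtain ⟨_, ht₂U, ⟨t₂, ht₂, rfl⟩⟩ := mem_closure_iff.1 hx₂ U hUo hxU
    obtain ⟨t, htT, ht1, ht2⟩ := hT.2 (c₁ ⁻¹' U) (c₂ ⁻¹' U) (hUo.preimage hc₁) (hUo.preimage hc₂)
      ⟨t₁, ht₁, ht₁U⟩ ⟨t₂, ht₂, ht₂U⟩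
    have htB : t ∈ closure W := hTB htT
    obtain ⟨y, ⟨hy1, hy2⟩, hyW⟩ := mem_closure_iff.1 htB (c₁ ⁻¹' U ∩ c₂ ⁻¹' U)
      ((hUo.preimage hc₁).inter (hUo.preimage hc₂)) ⟨ht1, ht2⟩
    exact hyW.2 (hU y hyW.1 hy2 hy1)
  · intro hirr x hxZ
    obtain ⟨S, hSf, hSc, hSi, hSU⟩ :=
      TopologicalSpace.NoetherianSpace.exists_finite_set_isClosed_irreducible
        (isClosed_closure (s := W))
    -- for each component choose a closed set avoiding x
    have hchoice : ∀ t ∈ S, ∃ F : Set X, IsClosed F ∧ x ∉ F ∧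
        ∀ y ∈ t, c₁ y ∈ F ∨ c₂ y ∈ F := by
      intro t ht
      have htB : t ⊆ closure W := by rw [hSU]; exact Set.subset_sUnion_of_mem ht
      have hdis := hirr t htB (hSi t ht)
      by_cases hx1 : x ∈ closure (c₁ '' t)
      · refine ⟨closure (c₂ '' t), isClosed_closure, ?_, fun y hy => Or.inr ?_⟩
        · intro hx2
          have : x ∈ closure (c₁ '' t) ∩ closure (c₂ '' t) := ⟨hx1, hx2⟩
          rw [hdis] at this
          exact this
        · exact subset_closure ⟨y, hy, rfl⟩
      · exact ⟨closure (c₁ '' t), isClosed_closure, hx1,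
          fun y hy => Or.inl (subset_closure ⟨y, hy, rfl⟩)⟩
    choose! F hFc hxF hFy using hchoice
    refine ⟨(⋃ t ∈ S, F t)ᶜ, ?_, ?_, ?_⟩
    · rw [isOpen_compl_iff]
      exact hSf.isClosed_biUnion hFc
    · simp only [Set.mem_compl_iff, Set.mem_iUnion, not_exists]
      intro t ht
      exact hxF t ht
    · intro y hy2 hyU2 hyU1
      by_contra hy1
      have hyW : y ∈ closure W := subset_closure ⟨hy2, hy1⟩
      rw [hSU] at hyW
      obtain ⟨t, ht, hyt⟩ := hyW
      rcases hFy t ht y hyt with h | h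
      · exact hyU1 (Set.mem_biUnion ht h)
      · exact hyU2 (Set.mem_biUnion ht h)

end Groth.Agent.S18393
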