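import Groth.Statements.S18404
import Mathlib

set_option autoImplicit false
universe u
open Cubic

namespace Groth.Agent.S18404

theorem evalForm (k : ℂ) (u : Fin 3 → ℂ) :
    MvPolynomial.eval u (HesseCubic.form k) =
      u 0 ^ 3 + u 1 ^ 3 + u 2 ^ 3 - 3 * k * (u 0 * u 1 * u 2) := by
  simp [HesseCubic.form]

theorem aux (x y z k a b c : ℂ) (hk : k ^ 3 ≠ 1)
    (hQv : x^3 + y^3 + z^3 - 3*k*(x*y*z) = 0)
    (hB : (x^2 - k*y*z)*a + (y^2 - k*x*z)*b + (z^2 - k*x*y)*c = 0)
    (hQw : x*a^2 + y*b^2 + z*c^2 - k*(z*a*b + y*a*c + x*b*c) = 0)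
    (hm : y*c - z*b ≠ 0 ∨ x*c - z*a ≠ 0 ∨ x*b - y*a ≠ 0) : x*y*z = 0 := by
  have hk' : (1 - k^3) ≠ 0 := sub_ne_zero.mpr (Ne.symm hk)
  have fin : ∀ m : ℂ, m ≠ 0 → (1 - k^3) * (x*y*z) * m^2 = 0 → x*y*z = 0 := by
    intro m hm h
    rcases mul_eq_zero.mp h with h | h
    · rcases mul_eq_zero.mp h with h | h
      · exact absurd h hk'
      · exact h
    · exact absurd ((pow_eq_zero_iff two_ne_zero).mp h) hm
  rcases hm with hm | hm | hm
  · refine fin _ hm ?_
    linear_combination ((x*a^2 + y*b^2 + z*c^2 - k*(z*a*b + y*a*c + x*b*c)) * x - (x*a - (k/2)*(z*b + y*c))^2 + k^2/4 * (y*c - z*b)^2) * hQv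
      + (-((x^2 - k*y*z)*a + (y^2 - k*x*z)*b + (z^2 - k*x*y)*c) * x + 2 * (x*a - (k/2)*(z*b + y*c)) * (x^2 - k*y*z)) * hB
      + (-(x^2 - k*y*z)^2) * hQw
  · refine fin _ hm ?_
    linear_combination ((x*a^2 + y*b^2 + z*c^2 - k*(z*a*b + y*a*c + x*b*c)) * y - (y*b - (k/2)*(x*c + z*a))^2 + k^2/4 * (z*a - x*c)^2) * hQv
      + (-((x^2 - k*y*z)*a + (y^2 - k*x*z)*b + (z^2 - k*x*y)*c) * y + 2 * (y*b - (k/2)*(x*c + z*a)) * (y^2 - k*z*x)) * hB
      + (-(y^2 - k*z*x)^2) * hQw
  · refine fin _ hm ?_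
    linear_combination ((x*a^2 + y*b^2 + z*c^2 - k*(z*a*b + y*a*c + x*b*c)) * z - (z*c - (k/2)*(y*a + x*b))^2 + k^2/4 * (x*b - y*a)^2) * hQv
      + (-((x^2 - k*y*z)*a + (y^2 - k*x*z)*b + (z^2 - k*x*y)*c) * z + 2 * (z*c - (k/2)*(y*a + x*b)) * (z^2 - k*x*y)) * hB
      + (-(z^2 - k*x*y)^2) * hQw

theorem vec_ext (u u' : Fin 3 → ℂ) (h0 : u 0 = u' 0) (h1 : u 1 = u' 1) (h2 : u 2 = u' 2) :
    u = u' := by
  funext j
  fin_cases j
  · exact h0
  · exact h1
  · exact h2


open MvPolynomial in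
/-- Let k ∈ ℂ with k³ ≠ 1 and let h = X₀³ + X₁³ + X₂³ − 3k·X₀X₁X₂ be the Hesse cubic. For a nonzero
vector v with h(v) = 0, the corresponding point is a flex of the plane curve of h — some line
through it meets the curve there with multiplicity three, i.e. there is a vector w linearly
independent from v with h(v + t·w) = t³·h(w) for every t — exactly when v is a scalar multiple of
one of the nine vectors (0, 1, −γ), (−γ, 0, 1), (1, −γ, 0) with γ³ = 1. -/
theorem result (k : ℂ) (hk : k ^ 3 ≠ 1) (v : Fin 3 → ℂ) (hv : v ≠ 0)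
    (hCv : eval v (HesseCubic.form k) = 0) :
    (∃ w : Fin 3 → ℂ, LinearIndependent ℂ ![v, w] ∧
        ∀ t : ℂ, eval (v + t • w) (HesseCubic.form k) = t ^ 3 * eval w (HesseCubic.form k)) ↔
      ∃ γ c : ℂ, γ ^ 3 = 1 ∧ (v = c • ![0, 1, -γ] ∨ v = c • ![-γ, 0, 1] ∨ v = c • ![1, -γ, 0]) := by
  constructor
  · rintro ⟨w, hli, hw⟩
    have h1 := hw 1
    have h2 := hw (-1)
    simp only [evalForm, Pi.add_apply, Pi.smul_apply, smul_eq_mul] at h1 h2 hCv
    have hB : (v 0^2 - k*v 1*v 2)*w 0 + (v 1^2 - k*v 0*v 2)*w 1 + (v 2^2 - k*v 0*v 1)*w 2 = 0 := by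
      linear_combination (1/6)*h1 - (1/6)*h2
    have hQw : v 0*w 0^2 + v 1*w 1^2 + v 2*w 2^2 - k*(v 2*w 0*w 1 + v 1*w 0*w 2 + v 0*w 1*w 2) = 0 := by
      linear_combination (1/6)*h1 + (1/6)*h2 - (1/3)*hCv
    have key : ∀ (s t : ℂ), s * v 0 + t * w 0 = 0 → s * v 1 + t * w 1 = 0 →
        s * v 2 + t * w 2 = 0 → s = 0 ∧ t = 0 := by
      intro s t e0 e1 e2
      apply (LinearIndependent.pair_iff.mp hli) s t
      apply vec_ext
      · simpa using e0
      · simpa using e1
      · simpa using e2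
    have hm : v 1*w 2 - v 2*w 1 ≠ 0 ∨ v 0*w 2 - v 2*w 0 ≠ 0 ∨ v 0*w 1 - v 1*w 0 ≠ 0 := by
      by_contra hcon
      push Not at hcon
      obtain ⟨m0, m1, m2⟩ := hcon
      have k0 := key (w 0) (-v 0) (by ring) (by linear_combination -m2) (by linear_combination -m1)
      have k1 := key (w 1) (-v 1) (by linear_combination m2) (by ring) (by linear_combination -m0)
      have k2 := key (w 2) (-v 2) (by linear_combination m1) (by linear_combination m0) (by ring)
      apply hv
      apply vec_ext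
      · exact neg_eq_zero.mp k0.2
      · exact neg_eq_zero.mp k1.2
      · exact neg_eq_zero.mp k2.2
    have hxyz : v 0 * v 1 * v 2 = 0 :=
      aux (v 0) (v 1) (v 2) k (w 0) (w 1) (w 2) hk hCv hB hQw hm
    rcases mul_eq_zero.mp hxyz with h01 | h2'
    · rcases mul_eq_zero.mp h01 with h0' | h1'
      · -- v 0 = 0
        have hy : v 1 ≠ 0 := by
          intro h1'
          have : v 2 ^ 3 = 0 := by rw [h0', h1'] at hCv; linear_combination hCv
          have h2' : v 2 = 0 := (pow_eq_zero_iff (by norm_num)).mp this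
          exact hv (vec_ext _ _ h0' h1' h2')
        have h3 : v 2 ^ 3 = -(v 1)^3 := by rw [h0'] at hCv; linear_combination hCv
        refine ⟨-(v 2)/(v 1), v 1, ?_, Or.inl ?_⟩
        · rw [div_pow, div_eq_iff (pow_ne_zero 3 hy)]
          linear_combination (-1 : ℂ) * h3
        · apply vec_ext
          · show v 0 = v 1 * 0
            rw [h0']; ring
          · show v 1 = v 1 * 1
            ring
          · show v 2 = v 1 * -(-(v 2)/(v 1))
            field_simp
      · -- v 1 = 0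
        have hz : v 2 ≠ 0 := by
          intro h2'
          have : v 0 ^ 3 = 0 := by rw [h1', h2'] at hCv; linear_combination hCv
          have h0' : v 0 = 0 := (pow_eq_zero_iff (by norm_num)).mp this
          exact hv (vec_ext _ _ h0' h1' h2')
        have h3 : v 0 ^ 3 = -(v 2)^3 := by rw [h1'] at hCv; linear_combination hCv
        refine ⟨-(v 0)/(v 2), v 2, ?_, Or.inr (Or.inl ?_)⟩
        · rw [div_pow, div_eq_iff (pow_ne_zero 3 hz)]
          linear_combination (-1 : ℂ) * h3
        · apply vec_ext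
          · show v 0 = v 2 * -(-(v 0)/(v 2))
            field_simp
          · show v 1 = v 2 * 0
            rw [h1']; ring
          · show v 2 = v 2 * 1
            ring
    · -- v 2 = 0
      have hx : v 0 ≠ 0 := by
        intro h0'
        have : v 1 ^ 3 = 0 := by rw [h0', h2'] at hCv; linear_combination hCv
        have h1' : v 1 = 0 := (pow_eq_zero_iff (by norm_num)).mp this
        exact hv (vec_ext _ _ h0' h1' h2')
      have h3 : v 1 ^ 3 = -(v 0)^3 := by rw [h2'] at hCv; linear_combination hCv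
      refine ⟨-(v 1)/(v 0), v 0, ?_, Or.inr (Or.inr ?_)⟩
      · rw [div_pow, div_eq_iff (pow_ne_zero 3 hx)]
        linear_combination (-1 : ℂ) * h3
      · apply vec_ext
        · show v 0 = v 0 * 1
          ring
        · show v 1 = v 0 * -(-(v 1)/(v 0))
          field_simp
        · show v 2 = v 0 * 0
          rw [h2']; ring
  · rintro ⟨γ, c, hγ, hcase⟩
    have hc : c ≠ 0 := by
      rintro rfl
      apply hv
      rcases hcase with h | h | h <;> rw [h] <;> simp
    rcases hcase with h | h | h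
    · subst h
      refine ⟨![1, -k*γ, 0], ?_, ?_⟩
      · refine LinearIndependent.pair_iff.mpr ?_
        intro s t h
        have h0 : s * (c * 0) + t * 1 = 0 := congrFun h 0
        have h1 : s * (c * 1) + t * (-k*γ) = 0 := congrFun h 1
        have ht : t = 0 := by linear_combination h0
        have hs : s * c = 0 := by linear_combination h1 + (k*γ) * ht
        exact ⟨(mul_eq_zero.mp hs).resolve_right hc, ht⟩
      · intro t
        rw [evalForm, evalForm]
        show (c * 0 + t * 1)^3 + (c * 1 + t * (-k*γ))^3 + (c * (-γ) + t * 0)^3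
            - 3*k*((c*0 + t*1) * (c*1 + t*(-k*γ)) * (c*(-γ) + t*0))
            = t^3 * (1^3 + (-k*γ)^3 + 0^3 - 3*k*(1 * (-k*γ) * 0))
        linear_combination (-c^3) * hγ
    · subst h
      refine ⟨![0, 1, -k*γ], ?_, ?_⟩
      · refine LinearIndependent.pair_iff.mpr ?_
        intro s t h
        have h0 : s * (c * 0) + t * 1 = 0 := congrFun h 1
        have h1 : s * (c * 1) + t * (-k*γ) = 0 := congrFun h 2
        have ht : t = 0 := by linear_combination h0
        have hs : s * c = 0 := by linear_combination h1 + (k*γ) * ht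
        exact ⟨(mul_eq_zero.mp hs).resolve_right hc, ht⟩
      · intro t
        rw [evalForm, evalForm]
        show (c * (-γ) + t * 0)^3 + (c * 0 + t * 1)^3 + (c * 1 + t * (-k*γ))^3
            - 3*k*((c*(-γ) + t*0) * (c*0 + t*1) * (c*1 + t*(-k*γ)))
            = t^3 * (0^3 + 1^3 + (-k*γ)^3 - 3*k*(0 * 1 * (-k*γ)))
        linear_combination (-c^3) * hγ
    · subst h
      refine ⟨![-k*γ, 0, 1], ?_, ?_⟩
      · refine LinearIndependent.pair_iff.mpr ?_
        intro s t h
        have h0 : s * (c * 0) + t * 1 = 0 := congrFun h 2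
        have h1 : s * (c * 1) + t * (-k*γ) = 0 := congrFun h 0
        have ht : t = 0 := by linear_combination h0
        have hs : s * c = 0 := by linear_combination h1 + (k*γ) * ht
        exact ⟨(mul_eq_zero.mp hs).resolve_right hc, ht⟩
      · intro t
        rw [evalForm, evalForm]
        show (c * 1 + t * (-k*γ))^3 + (c * (-γ) + t * 0)^3 + (c * 0 + t * 1)^3
            - 3*k*((c*1 + t*(-k*γ)) * (c*(-γ) + t*0) * (c*0 + t*1))
            = t^3 * ((-k*γ)^3 + 0^3 + 1^3 - 3*k*((-k*γ) * 0 * 1))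
        linear_combination (-c^3) * hγ

end Groth.Agent.S18404
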