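import Groth.Statements.S18408
import Mathlib

set_option autoImplicit false
universe u
open Cubic

namespace Groth.Agent.S18408

section aux
open MvPolynomial

/-- directional derivative -/
noncomputable def dd (f : MvPolynomial (Fin 4) ℂ) (x v : Fin 4 → ℂ) : ℂ :=
  ∑ i, v i * eval x (pderiv i f)

theorem line_eval (f : MvPolynomial (Fin 4) ℂ) (x v : Fin 4 → ℂ) (s : ℂ) :
    Polynomial.eval s (aeval (fun i => Polynomial.C (x i) + Polynomial.C (v i) * Polynomial.X) f)
      = eval (x + s • v) f := by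
  have h := MvPolynomial.comp_aeval_apply (R := ℂ)
    (fun i => Polynomial.C (x i) + Polynomial.C (v i) * Polynomial.X)
    (Polynomial.aeval (R := ℂ) s) f
  rw [Polynomial.coe_aeval_eq_eval] at h
  have hg : (fun i => Polynomial.eval s (Polynomial.C (x i) + Polynomial.C (v i) * Polynomial.X))
      = x + s • v := by
    funext i
    simp only [Polynomial.eval_add, Polynomial.eval_C, Polynomial.eval_mul, Polynomial.eval_X,
      Pi.add_apply, Pi.smul_apply, smul_eq_mul]
    ring
  rw [h, hg, ← MvPolynomial.coe_aeval_eq_eval]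
  rfl

theorem line_coeff_one (f : MvPolynomial (Fin 4) ℂ) (x v : Fin 4 → ℂ) :
    (aeval (fun i => Polynomial.C (x i) + Polynomial.C (v i) * Polynomial.X) f).coeff 1
      = dd f x v := by
  unfold dd
  induction f using MvPolynomial.induction_on with
  | C a => simp
  | add p q hp hq =>
    rw [map_add, Polynomial.coeff_add, hp, hq, ← Finset.sum_add_distrib]
    apply Finset.sum_congr rfl
    intro i _
    rw [map_add, map_add, mul_add]
  | mul_X p j hp =>
    have h0 : (aeval (fun i => Polynomial.C (x i) + Polynomial.C (v i) * Polynomial.X) p).coeff 0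
        = eval x p := by
      rw [Polynomial.coeff_zero_eq_eval_zero, line_eval]
      simp
    rw [map_mul, aeval_X]
    have h1 : ∀ Q : Polynomial ℂ,
        (Q * (Polynomial.C (x j) + Polynomial.C (v j) * Polynomial.X)).coeff 1
        = x j * Q.coeff 1 + v j * Q.coeff 0 := by
      intro Q
      have : Q * (Polynomial.C (x j) + Polynomial.C (v j) * Polynomial.X)
          = Polynomial.C (x j) * Q + Polynomial.C (v j) * (Q * Polynomial.X) := by ring
      have hX : (Q * Polynomial.X).coeff 1 = Q.coeff 0 := Polynomial.coeff_mul_X Q 0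
      rw [this, Polynomial.coeff_add, Polynomial.coeff_C_mul, Polynomial.coeff_C_mul, hX]
    rw [h1, hp, h0]
    have h2 : ∀ i, v i * eval x (pderiv i (p * X j))
        = x j * (v i * eval x (pderiv i p)) + (if i = j then v i * eval x p else 0) := by
      intro i
      rw [pderiv_mul, pderiv_X, map_add, map_mul, map_mul, eval_X]
      by_cases hij : i = j
      · subst hij
        rw [if_pos rfl, Pi.single_eq_same, map_one]; ring
      · rw [if_neg hij, Pi.single_eq_of_ne (Ne.symm hij), map_zero]; ring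
    rw [Finset.sum_congr rfl (fun i _ => h2 i), Finset.sum_add_distrib, ← Finset.mul_sum,
      Finset.sum_ite_eq' Finset.univ j, if_pos (Finset.mem_univ j)]

theorem hom3 (f : MvPolynomial (Fin 4) ℂ) (hf : f.IsHomogeneous 3) (s : ℂ) (v : Fin 4 → ℂ) :
    eval (s • v) f = s ^ 3 * eval v f := by
  rw [MvPolynomial.eval_eq', MvPolynomial.eval_eq', Finset.mul_sum]
  apply Finset.sum_congr rfl
  intro d hd
  have h1 := hf (MvPolynomial.mem_support_iff.mp hd)
  have h2 : Finsupp.degree d = 3 := by rw [Finsupp.degree_eq_weight_one]; exact h1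
  have h3 : ∑ i, d i = 3 := by rw [← h2, Finsupp.degree_eq_sum]
  have h4 : ∏ i, (s • v) i ^ d i = s ^ 3 * ∏ i, v i ^ d i := by
    simp only [Pi.smul_apply, smul_eq_mul, mul_pow]
    rw [Finset.prod_mul_distrib, Finset.prod_pow_eq_pow_sum, h3]
  rw [h4]; ring

theorem taylor (f : MvPolynomial (Fin 4) ℂ) (hf : f.IsHomogeneous 3) (x v : Fin 4 → ℂ) :
    ∃ a2 a3 : ℂ, ∀ s : ℂ,
      eval (x + s • v) f = eval x f + s * dd f x v + s ^ 2 * a2 + s ^ 3 * a3 := by
  obtain ⟨P, hP⟩ : ∃ P : Polynomial ℂ,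
    P = aeval (fun i => Polynomial.C (x i) + Polynomial.C (v i) * Polynomial.X) f := ⟨_, rfl⟩
  have hdeg : P.natDegree < 4 := by
    have := MvPolynomial.aeval_natDegree_le (m := 3) (n := 1) f hf.totalDegree_le
      (fun i => Polynomial.C (x i) + Polynomial.C (v i) * Polynomial.X)
      (fun i => by rw [add_comm]; exact Polynomial.natDegree_linear_le)
    rw [← hP] at this
    omega
  refine ⟨P.coeff 2, P.coeff 3, fun s => ?_⟩
  have h1 : P.coeff 1 = dd f x v := by rw [hP]; exact line_coeff_one f x v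
  have h0 : P.coeff 0 = eval x f := by
    rw [Polynomial.coeff_zero_eq_eval_zero, hP, line_eval]; simp
  rw [← line_eval, ← hP, Polynomial.eval_eq_sum_range' hdeg]
  rw [Finset.sum_range_succ, Finset.sum_range_succ, Finset.sum_range_succ, Finset.sum_range_one,
    h1, h0]
  ring

theorem cub4 (e0 e1 e2 e3 : ℂ)
    (h : ∀ s : ℂ, s ≠ 0 → e0 + e1 * s + e2 * s ^ 2 + e3 * s ^ 3 = 0) :
    e0 = 0 ∧ e1 = 0 ∧ e2 = 0 ∧ e3 = 0 := by
  have h1 := h 1 one_ne_zero
  have h2 := h (-1) (by norm_num)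
  have h3 := h 2 (by norm_num)
  have h4 := h (-2) (by norm_num)
  refine ⟨?_, ?_, ?_, ?_⟩
  · linear_combination (2/3) * h1 + (2/3) * h2 - (1/6) * h3 - (1/6) * h4
  · linear_combination (2/3) * h1 - (2/3) * h2 - (1/12) * h3 + (1/12) * h4
  · linear_combination (1/6) * h3 + (1/6) * h4 - (1/6) * h1 - (1/6) * h2
  · linear_combination (1/12) * h3 - (1/12) * h4 - (1/6) * h1 + (1/6) * h2

theorem quad (A B C : ℂ) (hA : A ≠ 0) :
    ∃ T2 T3 : ℂ, A * T2 ^ 2 + B * T2 + C = 0 ∧ A * T3 ^ 2 + B * T3 + C = 0 ∧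
      (T2 = T3 → 2 * A * T2 + B = 0) := by
  obtain ⟨s, hs⟩ := IsAlgClosed.exists_pow_nat_eq (B ^ 2 - 4 * A * C) (n := 2) (by norm_num)
  obtain ⟨T2, h2⟩ : ∃ T2, 2 * A * T2 = -B + s := ⟨(-B + s) / (2 * A), by field_simp⟩
  obtain ⟨T3, h3⟩ : ∃ T3, 2 * A * T3 = -B - s := ⟨(-B - s) / (2 * A), by field_simp⟩
  have h4A : (4 * A) ≠ 0 := mul_ne_zero (by norm_num) hA
  refine ⟨T2, T3, ?_, ?_, ?_⟩
  · have : (4 * A) * (A * T2 ^ 2 + B * T2 + C) = 0 := by
      linear_combination (2 * A * T2 + B + s) * h2 + hs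
    exact (mul_eq_zero.mp this).resolve_left h4A
  · have : (4 * A) * (A * T3 ^ 2 + B * T3 + C) = 0 := by
      linear_combination (2 * A * T3 + B - s) * h3 + hs
    exact (mul_eq_zero.mp this).resolve_left h4A
  · intro heq
    rw [← heq] at h3
    linear_combination (1/2) * h2 + (1/2) * h3

theorem cubic_roots (α β γ δ : ℂ)
    (h : ∀ a b : ℂ, (a ≠ 0 ∨ b ≠ 0) →
      α * a ^ 3 + β * a ^ 2 * b + γ * a * b ^ 2 + δ * b ^ 3 = 0 →
      3 * α * a ^ 2 + 2 * β * a * b + γ * b ^ 2 = 0 →
      β * a ^ 2 + 2 * γ * a * b + 3 * δ * b ^ 2 = 0 → False) :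
    ∃ a1 b1 a2 b2 a3 b3 : ℂ,
      (α * a1 ^ 3 + β * a1 ^ 2 * b1 + γ * a1 * b1 ^ 2 + δ * b1 ^ 3 = 0) ∧
      (α * a2 ^ 3 + β * a2 ^ 2 * b2 + γ * a2 * b2 ^ 2 + δ * b2 ^ 3 = 0) ∧
      (α * a3 ^ 3 + β * a3 ^ 2 * b3 + γ * a3 * b3 ^ 2 + δ * b3 ^ 3 = 0) ∧
      a1 * b2 ≠ a2 * b1 ∧ a1 * b3 ≠ a3 * b1 ∧ a2 * b3 ≠ a3 * b2 := by
  have hmult : ∀ T : ℂ, α * T ^ 3 + β * T ^ 2 + γ * T + δ = 0 →
      3 * α * T ^ 2 + 2 * β * T + γ = 0 → False := fun T h1 h2 =>
    h T 1 (Or.inr one_ne_zero) (by linear_combination h1) (by linear_combination h2)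
      (by linear_combination 3 * h1 - T * h2)
  by_cases hα : α = 0
  · have hβ : β ≠ 0 := by
      intro hβ
      exact h 1 0 (Or.inl one_ne_zero) (by rw [hα]; ring) (by rw [hα, hβ]; ring)
        (by rw [hβ]; ring)
    obtain ⟨T2, T3, h2, h3, h23⟩ := quad β γ δ hβ
    refine ⟨1, 0, T2, 1, T3, 1, by rw [hα]; ring, by rw [hα]; linear_combination h2,
      by rw [hα]; linear_combination h3, by simp, by simp, ?_⟩
    intro heq
    have heq' : T2 = T3 := by linear_combination heq
    have h4 := h23 heq'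
    exact hmult T2 (by rw [hα]; linear_combination h2) (by rw [hα]; linear_combination h4)
  · have hdeg : (Polynomial.C α * Polynomial.X ^ 3 + Polynomial.C β * Polynomial.X ^ 2 +
        Polynomial.C γ * Polynomial.X + Polynomial.C δ).degree ≠ 0 := by
      rw [Polynomial.degree_cubic hα]; norm_num
    obtain ⟨T1, hT1⟩ := IsAlgClosed.exists_root _ hdeg
    have h1 : α * T1 ^ 3 + β * T1 ^ 2 + γ * T1 + δ = 0 := by
      have := hT1
      simp only [Polynomial.IsRoot.def, Polynomial.eval_add, Polynomial.eval_mul,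
        Polynomial.eval_C, Polynomial.eval_pow, Polynomial.eval_X] at this
      exact this
    obtain ⟨T2, T3, h2, h3, h23⟩ := quad α (β + α * T1) (γ + (β + α * T1) * T1) hα
    have r2 : α * T2 ^ 3 + β * T2 ^ 2 + γ * T2 + δ = 0 := by
      linear_combination (T2 - T1) * h2 + h1
    have r3 : α * T3 ^ 3 + β * T3 ^ 2 + γ * T3 + δ = 0 := by
      linear_combination (T3 - T1) * h3 + h1
    refine ⟨T1, 1, T2, 1, T3, 1, by linear_combination h1, by linear_combination r2,
      by linear_combination r3, ?_, ?_, ?_⟩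
    · intro heq
      have heq' : T1 = T2 := by linear_combination heq
      apply hmult T1 h1
      rw [← heq'] at h2
      linear_combination h2
    · intro heq
      have heq' : T1 = T3 := by linear_combination heq
      apply hmult T1 h1
      rw [← heq'] at h3
      linear_combination h3
    · intro heq
      have heq' : T2 = T3 := by linear_combination heq
      have h4 := h23 heq'
      apply hmult T2 r2
      linear_combination h2 + (T2 - T1) * h4

end aux


open MvPolynomial in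
/-- Let f be a nonzero homogeneous cubic in four variables over ℂ whose surface S = V_+(f) ⊂ P³ is
smooth (at every nonzero zero of f some partial derivative is nonzero); a line on S is a
2-dimensional subspace of ℂ⁴ on which f vanishes, and an Eckardt point of S is a nonzero vector
lying on three distinct lines on S. Let A be an involutory matrix (A² = 1) whose +1-eigenspace is a
hyperplane and with A·p = −p, such that the substitution X_i ↦ Σ_j A_ij X_j multiplies f by a
constant — that is, a projective involution preserving S whose fixed locus is the disjoint union of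
a plane and the point of p, where p is a nonzero vector on S. Then p is an Eckardt point of S. -/
theorem result (f : MvPolynomial (Fin 4) ℂ) (hf : f.IsHomogeneous 3)
    (hf0 : f ≠ 0) (hsm : ∀ v : Fin 4 → ℂ, v ≠ 0 → eval v f = 0 → ∃ i : Fin 4, eval v (pderiv i f) ≠ 0)
    (A : Matrix (Fin 4) (Fin 4) ℂ) (p : Fin 4 → ℂ) (hp : p ≠ 0) (hfp : eval p f = 0)
    (hA : A * A = 1 ∧ Module.finrank ℂ ↥(LinearMap.ker (Matrix.toLin' A - LinearMap.id)) = 3 ∧
        A.mulVec p = -p ∧ ∃ c : ℂ, aeval (fun i : Fin 4 => ∑ j : Fin 4, C (A i j) * X j) f = C c * f) :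
    (∃ U : Fin 3 → Submodule ℂ (Fin 4 → ℂ), Function.Injective U ∧
        ∀ i : Fin 3, Module.finrank ℂ ↥(U i) = 2 ∧ p ∈ U i ∧ ∀ u ∈ U i, eval u f = 0) := by
  obtain ⟨hAA, hrank, hAp, c, hc⟩ := hA
  have hom : ∀ (s : ℂ) (v : Fin 4 → ℂ), eval (s • v) f = s ^ 3 * eval v f := hom3 f hf
  have tay := taylor f hf
  have inv : ∀ v : Fin 4 → ℂ, eval (A.mulVec v) f = c * eval v f := by
    intro v
    have h1 := congrArg (eval v) hc
    rw [map_mul, eval_C] at h1
    rw [← h1]
    have h2 := MvPolynomial.comp_aeval_apply (R := ℂ)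
      (fun i : Fin 4 => ∑ j : Fin 4, C (A i j) * X j) (MvPolynomial.aeval (R := ℂ) v) f
    have h3 : eval v (aeval (fun i : Fin 4 => ∑ j : Fin 4, C (A i j) * X j) f)
        = eval (fun i => eval v (∑ j : Fin 4, C (A i j) * X j)) f := h2
    have hg : (fun i => eval v (∑ j : Fin 4, C (A i j) * X j)) = A.mulVec v := by
      funext i
      simp [Matrix.mulVec, dotProduct]
    rw [h3, hg]
  obtain ⟨H, hH⟩ : ∃ H : Submodule ℂ (Fin 4 → ℂ),
    H = LinearMap.ker (Matrix.toLin' A - LinearMap.id) := ⟨_, rfl⟩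
  rw [← hH] at hrank
  have hHmem : ∀ h : Fin 4 → ℂ, h ∈ H ↔ A.mulVec h = h := by
    intro h
    rw [hH, LinearMap.mem_ker, LinearMap.sub_apply, Matrix.toLin'_apply, LinearMap.id_apply,
      sub_eq_zero]
  have hpH : p ∉ H := by
    intro h
    rw [hHmem, hAp] at h
    apply hp
    funext i
    have h1 := congrFun h i
    rw [Pi.neg_apply] at h1
    show p i = 0
    linear_combination (-1/2) * h1
  have hdecomp : ∀ v : Fin 4 → ℂ, ∃ h ∈ H, ∃ τ : ℂ, v = h + τ • p := by
    have hinf : H ⊓ Submodule.span ℂ {p} = ⊥ := by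
      rw [Submodule.eq_bot_iff]
      intro y hy
      obtain ⟨hy1, hy2⟩ := Submodule.mem_inf.mp hy
      obtain ⟨τ, rfl⟩ := Submodule.mem_span_singleton.mp hy2
      rw [hHmem, Matrix.mulVec_smul, hAp] at hy1
      by_cases hτ : τ = 0
      · rw [hτ, zero_smul]
      · exfalso
        apply hpH
        rw [hHmem, hAp]
        exact smul_right_injective (Fin 4 → ℂ) hτ hy1
    have hsup : H ⊔ Submodule.span ℂ {p} = ⊤ := by
      apply Submodule.eq_top_of_finrank_eq
      have h1 := Submodule.finrank_sup_add_finrank_inf_eq H (Submodule.span ℂ {p})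
      rw [hinf, finrank_bot, hrank, finrank_span_singleton hp] at h1
      rw [Module.finrank_fin_fun]
      omega
    intro v
    have hv : v ∈ H ⊔ Submodule.span ℂ {p} := by rw [hsup]; exact Submodule.mem_top
    obtain ⟨h, hh, y, hy, rfl⟩ := Submodule.mem_sup.mp hv
    obtain ⟨τ, rfl⟩ := Submodule.mem_span_singleton.mp hy
    exact ⟨h, hh, τ, rfl⟩
  have dd_add : ∀ x v w : Fin 4 → ℂ, dd f x (v + w) = dd f x v + dd f x w := by
    intro x v w
    unfold dd
    simp only [Pi.add_apply, add_mul, Finset.sum_add_distrib]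
  have dd_smul : ∀ (x : Fin 4 → ℂ) (a : ℂ) (v : Fin 4 → ℂ), dd f x (a • v) = a * dd f x v := by
    intro x a v
    unfold dd
    simp only [Pi.smul_apply, smul_eq_mul, mul_assoc, Finset.mul_sum]
  have hdsingle : ∀ (x : Fin 4 → ℂ) (i : Fin 4), dd f x (Pi.single i 1) = eval x (pderiv i f) := by
    intro x i
    unfold dd
    simp [Pi.single_apply]
  -- expansion along p
  have hstep : ∀ h ∈ H, (∀ t : ℂ, eval (h + t • p) f
      = eval h f + t * dd f h p + t ^ 2 * dd f p h) ∧
      (1 - c) * eval h f = 0 ∧ (1 + c) * dd f h p = 0 ∧ (1 - c) * dd f p h = 0 := by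
    intro h hh
    obtain ⟨a2, a3, ha⟩ := tay h p
    obtain ⟨b2, b3, hb⟩ := tay p h
    have hAh : A.mulVec h = h := (hHmem h).mp hh
    have hinv : ∀ t : ℂ, eval (h + (-t) • p) f = c * eval (h + t • p) f := by
      intro t
      rw [← inv]
      congr 1
      rw [Matrix.mulVec_add, Matrix.mulVec_smul, hAh, hAp, smul_neg, neg_smul]
    have e1 := cub4 ((1 - c) * eval h f) (-(1 + c) * dd f h p) ((1 - c) * a2) (-(1 + c) * a3) (by
      intro t _
      have h1 := hinv t
      rw [ha, ha] at h1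
      linear_combination h1)
    have e2 := cub4 (a3 - eval p f) (a2 - dd f p h) (dd f h p - b2) (eval h f - b3) (by
      intro s hs
      have h1 : p + s • h = s • (h + s⁻¹ • p) := by
        rw [smul_add, smul_smul, mul_inv_cancel₀ hs, one_smul, add_comm]
      have h2 := hb s
      rw [h1, hom, ha] at h2
      have h3 : s * s⁻¹ = 1 := mul_inv_cancel₀ hs
      linear_combination h2 - (dd f h p * s ^ 2 + a2 * s * (s * s⁻¹ + 1) +
        a3 * (s ^ 2 * s⁻¹ ^ 2 + s * s⁻¹ + 1)) * h3)
    obtain ⟨e11, e12, e13, e14⟩ := e1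
    obtain ⟨e21, e22, e23, e24⟩ := e2
    have ha3 : a3 = 0 := by rw [hfp] at e21; linear_combination e21
    have ha2 : a2 = dd f p h := by linear_combination e22
    refine ⟨?_, e11, ?_, ?_⟩
    · intro t
      rw [ha t, ha3, ha2]; ring
    · linear_combination -e12
    · rw [← ha2]; exact e13
  have hdpp : dd f p p = 0 := by
    obtain ⟨a2, a3, ha⟩ := tay p p
    have e := cub4 0 (dd f p p) a2 a3 (by
      intro s _
      have h1 := ha s
      have h2 : p + s • p = (1 + s) • p := by rw [add_smul, one_smul]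
      rw [h2, hom, hfp] at h1
      linear_combination -h1)
    exact e.2.1
  obtain ⟨i0, hi0⟩ := hsm p hp hfp
  obtain ⟨h0, hh0, τ0, hτ0⟩ := hdecomp (Pi.single i0 1)
  have hl0 : dd f p h0 ≠ 0 := by
    intro hcon
    apply hi0
    rw [← hdsingle, hτ0, dd_add, dd_smul, hdpp, hcon]; ring
  have hc1 : c = 1 := by
    have := (hstep h0 hh0).2.2.2
    rcases mul_eq_zero.mp this with h | h
    · linear_combination -h
    · exact absurd h hl0
  have hdhp : ∀ h ∈ H, dd f h p = 0 := by
    intro h hh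
    have := (hstep h hh).2.2.1
    rw [hc1] at this
    have h2 : ((1:ℂ) + 1) ≠ 0 := by norm_num
    exact (mul_eq_zero.mp this).resolve_left h2
  have hF : ∀ h ∈ H, ∀ t : ℂ, eval (h + t • p) f = eval h f + t ^ 2 * dd f p h := by
    intro h hh t
    rw [(hstep h hh).1 t, hdhp h hh]; ring
  -- two independent vectors in the kernel of ℓ on H
  obtain ⟨k1, k2, hk1H, hk2H, hk1l, hk2l, hk12⟩ : ∃ k1 k2 : Fin 4 → ℂ, k1 ∈ H ∧ k2 ∈ H ∧
      dd f p k1 = 0 ∧ dd f p k2 = 0 ∧ (∀ s t : ℂ, s • k1 + t • k2 = 0 → s = 0 ∧ t = 0) := by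
    let ℓlin : (Fin 4 → ℂ) →ₗ[ℂ] ℂ :=
      { toFun := dd f p
        map_add' := dd_add p
        map_smul' := fun a v => by rw [dd_smul]; rfl }
    let ℓH : ↥H →ₗ[ℂ] ℂ := ℓlin.comp H.subtype
    have h1 := LinearMap.finrank_range_add_finrank_ker ℓH
    have h2 : Module.finrank ℂ ↥(LinearMap.range ℓH) ≤ 1 := by
      have := Submodule.finrank_le (LinearMap.range ℓH)
      rwa [Module.finrank_self] at this
    rw [hrank] at h1
    have h3 : 1 < Module.finrank ℂ ↥(LinearMap.ker ℓH) := by omega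
    have hpos : 0 < Module.finrank ℂ ↥(LinearMap.ker ℓH) := by omega
    obtain ⟨x, hx⟩ := (Module.finrank_pos_iff_exists_ne_zero (R := ℂ)
      (M := ↥(LinearMap.ker ℓH))).mp hpos
    obtain ⟨y, hxy⟩ := exists_linearIndependent_pair_of_one_lt_finrank h3 hx
    refine ⟨((x : ↥H) : Fin 4 → ℂ), ((y : ↥H) : Fin 4 → ℂ), (x : ↥H).2, (y : ↥H).2, ?_, ?_, ?_⟩
    · exact LinearMap.mem_ker.mp x.2
    · exact LinearMap.mem_ker.mp y.2
    · intro s t hst
      apply (LinearIndependent.pair_iff.mp hxy) s t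
      apply Subtype.ext
      apply Subtype.ext
      simpa using hst
  -- the binary cubic
  obtain ⟨α, β, γ, δ, hq⟩ : ∃ α β γ δ : ℂ, ∀ a b : ℂ, eval (a • k1 + b • k2) f
      = α * a ^ 3 + β * a ^ 2 * b + γ * a * b ^ 2 + δ * b ^ 3 := by
    obtain ⟨a2, a3, ha⟩ := tay k2 k1
    obtain ⟨b2, b3, hb⟩ := tay k1 k2
    have e := cub4 (a3 - eval k1 f) (a2 - dd f k1 k2) (dd f k2 k1 - b2) (eval k2 f - b3) (by
      intro s hs
      have h1 : k1 + s • k2 = s • (k2 + s⁻¹ • k1) := by
        rw [smul_add, smul_smul, mul_inv_cancel₀ hs, one_smul, add_comm]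
      have h2 := hb s
      rw [h1, hom, ha] at h2
      have h3 : s * s⁻¹ = 1 := mul_inv_cancel₀ hs
      linear_combination h2 - (dd f k2 k1 * s ^ 2 + a2 * s * (s * s⁻¹ + 1) +
        a3 * (s ^ 2 * s⁻¹ ^ 2 + s * s⁻¹ + 1)) * h3)
    refine ⟨a3, a2, dd f k2 k1, eval k2 f, ?_⟩
    intro a b
    by_cases hb0 : b = 0
    · rw [hb0, zero_smul, add_zero, hom]
      have : a3 = eval k1 f := by linear_combination e.1
      rw [this]; ring
    · obtain ⟨u, hu⟩ : ∃ u, a = b * u := ⟨a / b, by field_simp⟩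
      subst hu
      have h1 : (b * u) • k1 + b • k2 = b • (k2 + u • k1) := by
        rw [smul_add, smul_smul, add_comm]
      rw [h1, hom, ha]; ring
  have hqa : ∀ a b : ℂ, dd f (a • k1 + b • k2) k1
      = 3 * α * a ^ 2 + 2 * β * a * b + γ * b ^ 2 := by
    intro a b
    obtain ⟨c2, c3, hc'⟩ := tay (a • k1 + b • k2) k1
    have e := cub4 0 (dd f (a • k1 + b • k2) k1 - (3 * α * a ^ 2 + 2 * β * a * b + γ * b ^ 2))
      (c2 - (3 * α * a + β * b)) (c3 - α) (by
      intro s _
      have h1 := hc' s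
      have h2 : a • k1 + b • k2 + s • k1 = (a + s) • k1 + b • k2 := by rw [add_smul]; abel
      rw [h2, hq, hq] at h1
      linear_combination -h1)
    linear_combination e.2.1
  have hqb : ∀ a b : ℂ, dd f (a • k1 + b • k2) k2
      = β * a ^ 2 + 2 * γ * a * b + 3 * δ * b ^ 2 := by
    intro a b
    obtain ⟨c2, c3, hc'⟩ := tay (a • k1 + b • k2) k2
    have e := cub4 0 (dd f (a • k1 + b • k2) k2 - (β * a ^ 2 + 2 * γ * a * b + 3 * δ * b ^ 2))
      (c2 - (γ * a + 3 * δ * b)) (c3 - δ) (by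
      intro s _
      have h1 := hc' s
      have h2 : a • k1 + b • k2 + s • k2 = a • k1 + (b + s) • k2 := by rw [add_smul]; abel
      rw [h2, hq, hq] at h1
      linear_combination -h1)
    linear_combination e.2.1
  -- independence and spanning of k1, k2, h0, p
  have hind : ∀ a b μ τ : ℂ, a • k1 + b • k2 + μ • h0 + τ • p = 0 →
      a = 0 ∧ b = 0 ∧ μ = 0 ∧ τ = 0 := by
    intro a b μ τ h
    have hA1 : A.mulVec (a • k1 + b • k2 + μ • h0 + τ • p)
        = a • k1 + b • k2 + μ • h0 - τ • p := by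
      rw [Matrix.mulVec_add, Matrix.mulVec_add, Matrix.mulVec_add, Matrix.mulVec_smul,
        Matrix.mulVec_smul, Matrix.mulVec_smul, Matrix.mulVec_smul, (hHmem k1).mp hk1H,
        (hHmem k2).mp hk2H, (hHmem h0).mp hh0, hAp, smul_neg, sub_eq_add_neg]
    rw [h, Matrix.mulVec_zero] at hA1
    have hτ : τ = 0 := by
      by_contra hτ
      apply hp
      have h2 : (2 * τ) • p = 0 := by
        have h3 : (2 * τ) • p = (a • k1 + b • k2 + μ • h0 + τ • p)
            - (a • k1 + b • k2 + μ • h0 - τ • p) := by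
          rw [mul_smul, two_smul]; abel
        rw [h3, h, ← hA1, sub_zero]
      exact (smul_eq_zero.mp h2).resolve_left (mul_ne_zero two_ne_zero hτ)
    subst hτ
    rw [zero_smul, add_zero] at h
    have hμ : μ = 0 := by
      have h3 := congrArg (dd f p) h
      rw [dd_add, dd_add, dd_smul, dd_smul, dd_smul, hk1l, hk2l] at h3
      have h4 : dd f p 0 = 0 := by unfold dd; simp
      rw [h4] at h3
      have h5 : μ * dd f p h0 = 0 := by linear_combination h3
      exact (mul_eq_zero.mp h5).resolve_right hl0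
    subst hμ
    rw [zero_smul, add_zero] at h
    obtain ⟨ha, hb⟩ := hk12 a b h
    exact ⟨ha, hb, rfl, rfl⟩
  have hspan : ∀ v : Fin 4 → ℂ, ∃ a b μ τ : ℂ, v = a • k1 + b • k2 + μ • h0 + τ • p := by
    have hli : LinearIndependent ℂ ![k1, k2, h0, p] := by
      rw [Fintype.linearIndependent_iff]
      intro g hg
      have hg' : g 0 • k1 + g 1 • k2 + g 2 • h0 + g 3 • p = 0 := by
        rw [← hg, Fin.sum_univ_four]; rfl
      obtain ⟨h1, h2, h3, h4⟩ := hind _ _ _ _ hg'
      intro i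
      fin_cases i
      exacts [h1, h2, h3, h4]
    have htop := hli.span_eq_top_of_card_eq_finrank'
      (by rw [Fintype.card_fin, Module.finrank_fin_fun])
    intro v
    have hv : v ∈ Submodule.span ℂ (Set.range ![k1, k2, h0, p]) := by
      rw [htop]; exact Submodule.mem_top
    obtain ⟨g, hg⟩ := (Submodule.mem_span_range_iff_exists_fun ℂ).mp hv
    rw [Fin.sum_univ_four] at hg
    exact ⟨g 0, g 1, g 2, g 3, by rw [← hg]; rfl⟩
  -- no multiple roots
  have hnomult : ∀ a b : ℂ, (a ≠ 0 ∨ b ≠ 0) →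
      α * a ^ 3 + β * a ^ 2 * b + γ * a * b ^ 2 + δ * b ^ 3 = 0 →
      3 * α * a ^ 2 + 2 * β * a * b + γ * b ^ 2 = 0 →
      β * a ^ 2 + 2 * γ * a * b + 3 * δ * b ^ 2 = 0 → False := by
    intro a b hab h1 h2 h3
    obtain ⟨h, hhdef⟩ : ∃ h : Fin 4 → ℂ, h = a • k1 + b • k2 := ⟨_, rfl⟩
    have hhH : h ∈ H := by
      rw [hhdef]; exact H.add_mem (H.smul_mem a hk1H) (H.smul_mem b hk2H)
    have hFh : eval h f = 0 := by rw [hhdef, hq]; exact h1
    have hlh : dd f p h = 0 := by rw [hhdef, dd_add, dd_smul, dd_smul, hk1l, hk2l]; ring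
    have hd1 : dd f h k1 = 0 := by rw [hhdef, hqa]; exact h2
    have hd2 : dd f h k2 = 0 := by rw [hhdef, hqb]; exact h3
    obtain ⟨t, ht⟩ := IsAlgClosed.exists_pow_nat_eq (-(dd f h h0) / dd f p h0) (n := 2)
      (by norm_num)
    have hx0 : h + t • p ≠ 0 := by
      intro hcon
      rw [hhdef] at hcon
      have h4 : a • k1 + b • k2 + (0:ℂ) • h0 + t • p = 0 := by
        rw [zero_smul, add_zero]; exact hcon
      obtain ⟨ha, hb, -, -⟩ := hind _ _ _ _ h4
      rcases hab with h5 | h5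
      · exact h5 ha
      · exact h5 hb
    have hFx : eval (h + t • p) f = 0 := by rw [hF h hhH, hFh, hlh]; ring
    have hdx : ∀ k' ∈ H, dd f (h + t • p) k' = dd f h k' + t ^ 2 * dd f p k' := by
      intro k' hk'
      obtain ⟨c2, c3, hc'⟩ := tay (h + t • p) k'
      obtain ⟨e2, e3, he'⟩ := tay h k'
      have e := cub4 0 (dd f (h + t • p) k' - (dd f h k' + t ^ 2 * dd f p k')) (c2 - e2)
        (c3 - e3) (by
        intro s _
        have h4 := hc' s
        have h5 : h + t • p + s • k' = (h + s • k') + t • p := by abel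
        rw [h5, hF _ (H.add_mem hhH (H.smul_mem s hk')), hF h hhH, he', dd_add, dd_smul] at h4
        linear_combination -h4)
      linear_combination e.2.1
    have hdxp : dd f (h + t • p) p = 0 := by
      obtain ⟨c2, c3, hc'⟩ := tay (h + t • p) p
      have e := cub4 0 (dd f (h + t • p) p) c2 c3 (by
        intro s _
        have h4 := hc' s
        have h5 : h + t • p + s • p = h + (t + s) • p := by rw [add_smul]; abel
        rw [h5, hF h hhH, hF h hhH, hlh] at h4
        linear_combination -h4)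
      exact e.2.1
    obtain ⟨i, hi⟩ := hsm (h + t • p) hx0 hFx
    apply hi
    obtain ⟨a', b', μ', τ', hv⟩ := hspan (Pi.single i 1)
    have hcancel : -(dd f h h0) / dd f p h0 * dd f p h0 = -(dd f h h0) := by field_simp
    rw [← hdsingle, hv, dd_add, dd_add, dd_add, dd_smul, dd_smul, dd_smul, dd_smul,
      hdx k1 hk1H, hdx k2 hk2H, hdx h0 hh0, hdxp, hd1, hd2, hk1l, hk2l, ht]
    linear_combination μ' * hcancel
  obtain ⟨a1, b1, a2, b2, a3, b3, r1, r2, r3, n12, n13, n23⟩ := cubic_roots α β γ δ hnomult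
  have hline : ∀ a b : ℂ, α * a ^ 3 + β * a ^ 2 * b + γ * a * b ^ 2 + δ * b ^ 3 = 0 →
      (a ≠ 0 ∨ b ≠ 0) →
      Module.finrank ℂ ↥(Submodule.span ℂ (Set.range ![p, a • k1 + b • k2])) = 2 ∧
      p ∈ Submodule.span ℂ (Set.range ![p, a • k1 + b • k2]) ∧
      ∀ u ∈ Submodule.span ℂ (Set.range ![p, a • k1 + b • k2]), eval u f = 0 := by
    intro a b hr hab
    refine ⟨?_, ?_, ?_⟩
    · have hli : LinearIndependent ℂ ![p, a • k1 + b • k2] := by
        rw [LinearIndependent.pair_iff]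
        intro s t hst
        have h1 : (t * a) • k1 + (t * b) • k2 + (0:ℂ) • h0 + s • p = 0 := by
          rw [zero_smul, add_zero, ← hst, smul_add, smul_smul, smul_smul]; abel
        obtain ⟨e1, e2, -, e4⟩ := hind _ _ _ _ h1
        refine ⟨e4, ?_⟩
        rcases hab with h | h
        · exact (mul_eq_zero.mp e1).resolve_right h
        · exact (mul_eq_zero.mp e2).resolve_right h
      rw [finrank_span_eq_card hli, Fintype.card_fin]
    · apply Submodule.subset_span
      exact ⟨0, rfl⟩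
    · intro u hu
      obtain ⟨g, hg⟩ := (Submodule.mem_span_range_iff_exists_fun ℂ).mp hu
      rw [Fin.sum_univ_two] at hg
      have hu' : u = g 1 • (a • k1 + b • k2) + g 0 • p := by
        rw [← hg, add_comm]; rfl
      have hmem : g 1 • (a • k1 + b • k2) ∈ H :=
        H.smul_mem _ (H.add_mem (H.smul_mem a hk1H) (H.smul_mem b hk2H))
      rw [hu', hF _ hmem, hom, hq, hr, dd_smul, dd_add, dd_smul, dd_smul, hk1l, hk2l]
      ring
  have hne : ∀ a b a' b' : ℂ, a * b' ≠ a' * b →
      Submodule.span ℂ (Set.range ![p, a • k1 + b • k2])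
        ≠ Submodule.span ℂ (Set.range ![p, a' • k1 + b' • k2]) := by
    intro a b a' b' hab heq
    have hmem : a' • k1 + b' • k2 ∈ Submodule.span ℂ (Set.range ![p, a • k1 + b • k2]) := by
      rw [heq]; apply Submodule.subset_span; exact ⟨1, rfl⟩
    obtain ⟨g, hg⟩ := (Submodule.mem_span_range_iff_exists_fun ℂ).mp hmem
    rw [Fin.sum_univ_two] at hg
    have hg' : g 0 • p + g 1 • (a • k1 + b • k2) = a' • k1 + b' • k2 := hg
    have h1 : (g 1 * a - a') • k1 + (g 1 * b - b') • k2 + (0:ℂ) • h0 + g 0 • p = 0 := by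
      have h2 : g 0 • p + (g 1 • a • k1 + g 1 • b • k2) - (a' • k1 + b' • k2) = 0 := by
        rw [← smul_add, hg', sub_self]
      rw [zero_smul, add_zero, sub_smul, sub_smul, ← smul_smul, ← smul_smul, ← h2]; abel
    obtain ⟨e1, e2, -, -⟩ := hind _ _ _ _ h1
    apply hab
    linear_combination b * e1 - a * e2
  have hz1 : a1 ≠ 0 ∨ b1 ≠ 0 := by
    by_contra hcon
    push Not at hcon
    apply n12
    rw [hcon.1, hcon.2]; ring
  have hz2 : a2 ≠ 0 ∨ b2 ≠ 0 := by
    by_contra hcon
    push Not at hcon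
    apply n12
    rw [hcon.1, hcon.2]; ring
  have hz3 : a3 ≠ 0 ∨ b3 ≠ 0 := by
    by_contra hcon
    push Not at hcon
    apply n13
    rw [hcon.1, hcon.2]; ring
  refine ⟨![Submodule.span ℂ (Set.range ![p, a1 • k1 + b1 • k2]),
    Submodule.span ℂ (Set.range ![p, a2 • k1 + b2 • k2]),
    Submodule.span ℂ (Set.range ![p, a3 • k1 + b3 • k2])], ?_, ?_⟩
  · intro i j hij
    fin_cases i <;> fin_cases j
    · rfl
    · exact absurd hij (hne a1 b1 a2 b2 n12)
    · exact absurd hij (hne a1 b1 a3 b3 n13)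
    · exact absurd hij.symm (hne a1 b1 a2 b2 n12)
    · rfl
    · exact absurd hij (hne a2 b2 a3 b3 n23)
    · exact absurd hij.symm (hne a1 b1 a3 b3 n13)
    · exact absurd hij.symm (hne a2 b2 a3 b3 n23)
    · rfl
  · intro i
    fin_cases i
    · exact hline a1 b1 r1 hz1
    · exact hline a2 b2 r2 hz2
    · exact hline a3 b3 r3 hz3

end Groth.Agent.S18408
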