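import Groth.Statements.S18407
import Mathlib
import Groth.Agent.S18408

set_option autoImplicit false
universe u
open Cubic

namespace Groth.Agent.S18407

open Groth.Agent.S18408 (dd line_eval line_coeff_one hom3 taylor cub4)

section aux
open MvPolynomial

theorem dd_add' (g : MvPolynomial (Fin 4) ℂ) (x v w : Fin 4 → ℂ) :
    dd g x (v + w) = dd g x v + dd g x w := by
  unfold dd
  simp only [Pi.add_apply, add_mul, Finset.sum_add_distrib]

theorem dd_smul' (g : MvPolynomial (Fin 4) ℂ) (x : Fin 4 → ℂ) (a : ℂ) (v : Fin 4 → ℂ) :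
    dd g x (a • v) = a * dd g x v := by
  unfold dd
  simp only [Pi.smul_apply, smul_eq_mul, mul_assoc, Finset.mul_sum]

theorem dd_single' (g : MvPolynomial (Fin 4) ℂ) (x : Fin 4 → ℂ) (i : Fin 4) :
    dd g x (Pi.single i 1) = eval x (pderiv i g) := by
  unfold dd
  simp [Pi.single_apply]

theorem dd_zero' (g : MvPolynomial (Fin 4) ℂ) (x : Fin 4 → ℂ) : dd g x 0 = 0 := by
  unfold dd
  simp

theorem homN (g : MvPolynomial (Fin 4) ℂ) (n : ℕ) (hg : g.IsHomogeneous n) (s : ℂ)
    (v : Fin 4 → ℂ) : eval (s • v) g = s ^ n * eval v g := by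
  rw [MvPolynomial.eval_eq', MvPolynomial.eval_eq', Finset.mul_sum]
  apply Finset.sum_congr rfl
  intro d hd
  have h1 := hg (MvPolynomial.mem_support_iff.mp hd)
  have h2 : Finsupp.degree d = n := by rw [Finsupp.degree_eq_weight_one]; exact h1
  have h3 : ∑ i, d i = n := by rw [← h2, Finsupp.degree_eq_sum]
  have h4 : ∏ i, (s • v) i ^ d i = s ^ n * ∏ i, v i ^ d i := by
    simp only [Pi.smul_apply, smul_eq_mul, mul_pow]
    rw [Finset.prod_mul_distrib, Finset.prod_pow_eq_pow_sum, h3]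
  rw [h4]; ring

theorem taylor_full (f : MvPolynomial (Fin 4) ℂ) (hf : f.IsHomogeneous 3) (x v : Fin 4 → ℂ)
    (s : ℂ) :
    eval (x + s • v) f = eval x f + s * dd f x v + s ^ 2 * dd f v x + s ^ 3 * eval v f := by
  obtain ⟨a2, a3, ha⟩ := taylor f hf x v
  obtain ⟨b2, b3, hb⟩ := taylor f hf v x
  have e2 := cub4 (a3 - eval v f) (a2 - dd f v x) (dd f x v - b2) (eval x f - b3) (by
    intro s hs
    have h1 : v + s • x = s • (x + s⁻¹ • v) := by
      rw [smul_add, smul_smul, mul_inv_cancel₀ hs, one_smul, add_comm]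
    have h2 := hb s
    rw [h1, hom3 f hf, ha] at h2
    have h3 : s * s⁻¹ = 1 := mul_inv_cancel₀ hs
    linear_combination h2 - (dd f x v * s ^ 2 + a2 * s * (s * s⁻¹ + 1) +
      a3 * (s ^ 2 * s⁻¹ ^ 2 + s * s⁻¹ + 1)) * h3)
  rw [ha s]
  have h3 : a3 = eval v f := by linear_combination e2.1
  have h2 : a2 = dd f v x := by linear_combination e2.2.1
  rw [h3, h2]

theorem taylor2 (g : MvPolynomial (Fin 4) ℂ) (hg : g.IsHomogeneous 2) (x v : Fin 4 → ℂ) :
    (∀ s : ℂ, eval (x + s • v) g = eval x g + s * dd g x v + s ^ 2 * eval v g) ∧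
      dd g x v = dd g v x := by
  have key : ∀ x v : Fin 4 → ℂ, ∃ a2 : ℂ, ∀ s : ℂ,
      eval (x + s • v) g = eval x g + s * dd g x v + s ^ 2 * a2 := by
    intro x v
    obtain ⟨P, hP⟩ : ∃ P : Polynomial ℂ,
      P = aeval (fun i => Polynomial.C (x i) + Polynomial.C (v i) * Polynomial.X) g := ⟨_, rfl⟩
    have hdeg : P.natDegree < 3 := by
      have := MvPolynomial.aeval_natDegree_le (m := 2) (n := 1) g hg.totalDegree_le
        (fun i => Polynomial.C (x i) + Polynomial.C (v i) * Polynomial.X)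
        (fun i => by rw [add_comm]; exact Polynomial.natDegree_linear_le)
      rw [← hP] at this
      omega
    refine ⟨P.coeff 2, fun s => ?_⟩
    have h1 : P.coeff 1 = dd g x v := by rw [hP]; exact line_coeff_one g x v
    have h0 : P.coeff 0 = eval x g := by
      rw [Polynomial.coeff_zero_eq_eval_zero, hP, line_eval]; simp
    rw [← line_eval, ← hP, Polynomial.eval_eq_sum_range' hdeg]
    rw [Finset.sum_range_succ, Finset.sum_range_succ, Finset.sum_range_one, h1, h0]
    ring
  obtain ⟨a2, ha⟩ := key x v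
  obtain ⟨b2, hb⟩ := key v x
  have e1 := cub4 (a2 - eval v g) (dd g x v - dd g v x) (eval x g - b2) 0 (by
    intro s hs
    have h1 : v + s • x = s • (x + s⁻¹ • v) := by
      rw [smul_add, smul_smul, mul_inv_cancel₀ hs, one_smul, add_comm]
    have h2 := hb s
    rw [h1, homN g 2 hg, ha] at h2
    have h3 : s * s⁻¹ = 1 := mul_inv_cancel₀ hs
    linear_combination h2 - (dd g x v * s + a2 * (s * s⁻¹ + 1)) * h3)
  refine ⟨fun s => ?_, by linear_combination e1.2.1⟩
  rw [ha s]
  have h3 : a2 = eval v g := by linear_combination e1.1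
  rw [h3]

theorem eval_subst (f : MvPolynomial (Fin 4) ℂ) (M : Matrix (Fin 4) (Fin 4) ℂ)
    (v : Fin 4 → ℂ) :
    eval v (aeval (fun i : Fin 4 => ∑ j : Fin 4, C (M i j) * X j) f) = eval (M.mulVec v) f := by
  have h2 := MvPolynomial.comp_aeval_apply (R := ℂ)
    (fun i : Fin 4 => ∑ j : Fin 4, C (M i j) * X j) (MvPolynomial.aeval (R := ℂ) v) f
  have h3 : eval v (aeval (fun i : Fin 4 => ∑ j : Fin 4, C (M i j) * X j) f)
      = eval (fun i => eval v (∑ j : Fin 4, C (M i j) * X j)) f := h2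
  have hg : (fun i => eval v (∑ j : Fin 4, C (M i j) * X j)) = M.mulVec v := by
    funext i
    simp [Matrix.mulVec, dotProduct]
  rw [h3, hg]

theorem mat_ext (M N : Matrix (Fin 4) (Fin 4) ℂ) (h : ∀ v, M.mulVec v = N.mulVec v) :
    M = N := by
  apply Matrix.toLin'.injective
  apply LinearMap.ext
  intro v
  rw [Matrix.toLin'_apply, Matrix.toLin'_apply]
  exact h v

theorem invol_facts (f : MvPolynomial (Fin 4) ℂ) (hf : f.IsHomogeneous 3)
    (hsm : ∀ v : Fin 4 → ℂ, v ≠ 0 → eval v f = 0 → ∃ i : Fin 4, eval v (pderiv i f) ≠ 0)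
    (A : Matrix (Fin 4) (Fin 4) ℂ) (p : Fin 4 → ℂ) (hp : p ≠ 0) (hfp : eval p f = 0)
    (hA : A * A = 1 ∧ Module.finrank ℂ ↥(LinearMap.ker (Matrix.toLin' A - LinearMap.id)) = 3 ∧
        A.mulVec p = -p ∧
        ∃ c : ℂ, aeval (fun i : Fin 4 => ∑ j : Fin 4, C (A i j) * X j) f = C c * f) :
    (∀ h : Fin 4 → ℂ, A.mulVec h = h → dd f h p = 0) ∧
    (∃ h0 : Fin 4 → ℂ, A.mulVec h0 = h0 ∧ dd f p h0 ≠ 0) ∧
    (∀ v : Fin 4 → ℂ, ∃ (h : Fin 4 → ℂ) (τ : ℂ), A.mulVec h = h ∧ v = h + τ • p) := by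
  obtain ⟨hAA, hrank, hAp, c, hc⟩ := hA
  have inv : ∀ v : Fin 4 → ℂ, eval (A.mulVec v) f = c * eval v f := by
    intro v
    have h1 := congrArg (eval v) hc
    rw [map_mul, eval_C] at h1
    rw [← h1, eval_subst]
  obtain ⟨H, hH⟩ : ∃ H : Submodule ℂ (Fin 4 → ℂ),
    H = LinearMap.ker (Matrix.toLin' A - LinearMap.id) := ⟨_, rfl⟩
  rw [← hH] at hrank
  have hHmem : ∀ h : Fin 4 → ℂ, h ∈ H ↔ A.mulVec h = h := by
    intro h
    rw [hH, LinearMap.mem_ker, LinearMap.sub_apply, Matrix.toLin'_apply, LinearMap.id_apply,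
      sub_eq_zero]
  have hpH : p ∉ H := by
    intro h
    rw [hHmem, hAp] at h
    apply hp
    funext i
    have h1 := congrFun h i
    rw [Pi.neg_apply] at h1
    show p i = 0
    linear_combination (-1/2) * h1
  have hdecomp : ∀ v : Fin 4 → ℂ, ∃ h ∈ H, ∃ τ : ℂ, v = h + τ • p := by
    have hinf : H ⊓ Submodule.span ℂ {p} = ⊥ := by
      rw [Submodule.eq_bot_iff]
      intro y hy
      obtain ⟨hy1, hy2⟩ := Submodule.mem_inf.mp hy
      obtain ⟨τ, rfl⟩ := Submodule.mem_span_singleton.mp hy2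
      rw [hHmem, Matrix.mulVec_smul, hAp] at hy1
      by_cases hτ : τ = 0
      · rw [hτ, zero_smul]
      · exfalso
        apply hpH
        rw [hHmem, hAp]
        exact smul_right_injective (Fin 4 → ℂ) hτ hy1
    have hsup : H ⊔ Submodule.span ℂ {p} = ⊤ := by
      apply Submodule.eq_top_of_finrank_eq
      have h1 := Submodule.finrank_sup_add_finrank_inf_eq H (Submodule.span ℂ {p})
      rw [hinf, finrank_bot, hrank, finrank_span_singleton hp] at h1
      rw [Module.finrank_fin_fun]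
      omega
    intro v
    have hv : v ∈ H ⊔ Submodule.span ℂ {p} := by rw [hsup]; exact Submodule.mem_top
    obtain ⟨h, hh, y, hy, rfl⟩ := Submodule.mem_sup.mp hv
    obtain ⟨τ, rfl⟩ := Submodule.mem_span_singleton.mp hy
    exact ⟨h, hh, τ, rfl⟩
  have hstep : ∀ h ∈ H, (1 + c) * dd f h p = 0 ∧ (1 - c) * dd f p h = 0 := by
    intro h hh
    have hAh : A.mulVec h = h := (hHmem h).mp hh
    have hinv : ∀ t : ℂ, eval (h + (-t) • p) f = c * eval (h + t • p) f := by
      intro t
      rw [← inv]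
      congr 1
      rw [Matrix.mulVec_add, Matrix.mulVec_smul, hAh, hAp, smul_neg, neg_smul]
    have e1 := cub4 ((1 - c) * eval h f) (-(1 + c) * dd f h p) ((1 - c) * dd f p h) 0 (by
      intro t _
      have h1 := hinv t
      rw [taylor_full f hf, taylor_full f hf, hfp] at h1
      linear_combination h1)
    exact ⟨by linear_combination -e1.2.1, e1.2.2.1⟩
  have hdpp : dd f p p = 0 := by
    have e1 := cub4 0 (dd f p p) (dd f p p) 0 (by
      intro s _
      have h1 := taylor_full f hf p p s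
      have h2 : p + s • p = (1 + s) • p := by rw [add_smul, one_smul]
      rw [h2, hom3 f hf, hfp] at h1
      linear_combination -h1)
    exact e1.2.1
  obtain ⟨i0, hi0⟩ := hsm p hp hfp
  obtain ⟨h0, hh0, τ0, hτ0⟩ := hdecomp (Pi.single i0 1)
  have hl0 : dd f p h0 ≠ 0 := by
    intro hcon
    apply hi0
    rw [← dd_single', hτ0, dd_add', dd_smul', hdpp, hcon]; ring
  have hc1 : c = 1 := by
    have := (hstep h0 hh0).2
    rcases mul_eq_zero.mp this with h | h
    · linear_combination -h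
    · exact absurd h hl0
  have hdhp : ∀ h ∈ H, dd f h p = 0 := by
    intro h hh
    have := (hstep h hh).1
    rw [hc1] at this
    have h2 : ((1:ℂ) + 1) ≠ 0 := by norm_num
    exact (mul_eq_zero.mp this).resolve_left h2
  refine ⟨fun h hh => hdhp h ((hHmem h).mpr hh), ⟨h0, (hHmem h0).mp hh0, hl0⟩, fun v => ?_⟩
  obtain ⟨h, hh, τ, hv⟩ := hdecomp v
  exact ⟨h, τ, (hHmem h).mp hh, hv⟩

end aux


open MvPolynomial in
/-- Let f be a nonzero homogeneous cubic in four variables over ℂ whose surface S = V_+(f) ⊂ P³ is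
smooth (at every nonzero zero of f some partial derivative is nonzero); a line on S is a
2-dimensional subspace of ℂ⁴ on which f vanishes, and an Eckardt point of S is a nonzero vector
lying on three distinct lines on S. If e is an Eckardt point of S, there is exactly one involutory
matrix A (A² = 1) whose +1-eigenspace is a hyperplane and with A·e = −e, such that the substitution
X_i ↦ Σ_j A_ij X_j multiplies f by a constant — that is, a projective involution preserving S whose
fixed locus is the disjoint union of a plane and the point of e. (Normalising A² = 1 and A·e = −e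
singles out one matrix in the class of the involution.) -/
theorem result (f : MvPolynomial (Fin 4) ℂ) (hf : f.IsHomogeneous 3)
    (hf0 : f ≠ 0) (hsm : ∀ v : Fin 4 → ℂ, v ≠ 0 → eval v f = 0 → ∃ i : Fin 4, eval v (pderiv i f) ≠ 0)
    (e : Fin 4 → ℂ) (he : e ≠ 0)
    (hE : (∃ U : Fin 3 → Submodule ℂ (Fin 4 → ℂ), Function.Injective U ∧
        ∀ i : Fin 3, Module.finrank ℂ ↥(U i) = 2 ∧ e ∈ U i ∧ ∀ u ∈ U i, eval u f = 0)) :
    ∃! A : Matrix (Fin 4) (Fin 4) ℂ, A * A = 1 ∧ Module.finrank ℂ ↥(LinearMap.ker (Matrix.toLin' A - LinearMap.id)) = 3 ∧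
        A.mulVec e = -e ∧ ∃ c : ℂ, aeval (fun i : Fin 4 => ∑ j : Fin 4, C (A i j) * X j) f = C c * f := by
  obtain ⟨U, hUinj, hU⟩ := hE
  have hfe : eval e f = 0 := (hU 0).2.2 e (hU 0).2.1
  obtain ⟨Q, hQdef⟩ : ∃ Q : MvPolynomial (Fin 4) ℂ, Q = ∑ i, C (e i) * pderiv i f := ⟨_, rfl⟩
  have hQhom : Q.IsHomogeneous 2 := by
    rw [hQdef]
    apply MvPolynomial.IsHomogeneous.sum
    intro i _
    exact (hf.pderiv (i := i)).C_mul (e i)
  have hqQ : ∀ v : Fin 4 → ℂ, eval v Q = dd f v e := by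
    intro v
    rw [hQdef, map_sum]
    unfold dd
    apply Finset.sum_congr rfl
    intro i _
    rw [map_mul, eval_C]
  have T2 := fun x v : Fin 4 → ℂ => taylor2 Q hQhom x v
  have F1 : ∀ (v : Fin 4 → ℂ) (t : ℂ),
      eval (v + t • e) f = eval v f + t * dd f v e + t ^ 2 * dd f e v := by
    intro v t
    rw [taylor_full f hf v e t, hfe]; ring
  have hqe : dd f e e = 0 := by
    have e1 := cub4 0 (dd f e e) (dd f e e) 0 (by
      intro s _
      have h1 := F1 e s
      have h2 : e + s • e = (1 + s) • e := by rw [add_smul, one_smul]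
      rw [h2, hom3 f hf, hfe] at h1
      linear_combination -h1)
    exact e1.2.1
  have hq_shift : ∀ (v : Fin 4 → ℂ) (s : ℂ),
      dd f (v + s • e) e = dd f v e + 2 * s * dd f e v := by
    intro v s
    have e1 := cub4 0 (dd f (v + s • e) e - (dd f v e + 2 * s * dd f e v))
      (dd f e (v + s • e) - dd f e v) 0 (by
      intro t _
      have h1 := F1 (v + s • e) t
      have h2 : v + s • e + t • e = v + (s + t) • e := by rw [add_smul]; abel
      rw [h2, F1 v (s + t), F1 v s] at h1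
      linear_combination -h1)
    linear_combination e1.2.1
  obtain ⟨i0, hi0⟩ := hsm e he hfe
  obtain ⟨v0, hv0⟩ : ∃ v0 : Fin 4 → ℂ, dd f e v0 = 1 := by
    refine ⟨(eval e (pderiv i0 f))⁻¹ • Pi.single i0 1, ?_⟩
    rw [dd_smul', dd_single', inv_mul_cancel₀ hi0]
  have hline : ∀ i : Fin 3, ∃ u : Fin 4 → ℂ, u ∈ U i ∧ u ∉ Submodule.span ℂ {e} := by
    intro i
    have hle : Submodule.span ℂ {e} ≤ U i := by
      rw [Submodule.span_singleton_le_iff_mem]; exact (hU i).2.1
    have hne : Submodule.span ℂ {e} ≠ U i := by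
      intro h
      have h1 := finrank_span_singleton (K := ℂ) he
      rw [h, (hU i).1] at h1
      omega
    obtain ⟨u, hu, hu'⟩ := SetLike.exists_of_lt (lt_of_le_of_ne hle hne)
    exact ⟨u, hu, hu'⟩
  obtain ⟨u0, hu0U, hu0e⟩ := hline 0
  obtain ⟨u1, hu1U, hu1e⟩ := hline 1
  obtain ⟨u2, hu2U, hu2e⟩ := hline 2
  have hUvan : ∀ (i : Fin 3) (u : Fin 4 → ℂ), u ∈ U i →
      eval u f = 0 ∧ dd f u e = 0 ∧ dd f e u = 0 := by
    intro i u hu
    have e1 := cub4 (eval u f) (dd f u e) (dd f e u) 0 (by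
      intro t _
      have h1 := F1 u t
      rw [(hU i).2.2 _ ((U i).add_mem hu ((U i).smul_mem t (hU i).2.1))] at h1
      linear_combination -h1)
    exact ⟨e1.1, e1.2.1, e1.2.2.1⟩
  have hdist : ∀ i j : Fin 3, i ≠ j → ∀ u : Fin 4 → ℂ, u ∈ U j → u ∉ Submodule.span ℂ {e} →
      u ∉ U i := by
    intro i j hij u huj hue hui
    apply hij
    apply hUinj
    have hli : LinearIndependent ℂ ![e, u] := by
      rw [LinearIndependent.pair_iff]
      intro s t hst
      have ht : t = 0 := by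
        by_contra ht
        apply hue
        rw [Submodule.mem_span_singleton]
        refine ⟨-(t⁻¹ * s), ?_⟩
        have h1 : t • u = -(s • e) := by
          rw [eq_neg_iff_add_eq_zero, add_comm (t • u)]; exact hst
        calc (-(t⁻¹ * s)) • e = t⁻¹ • (-(s • e)) := by rw [neg_smul, mul_smul, smul_neg]
          _ = t⁻¹ • (t • u) := by rw [h1]
          _ = u := by rw [smul_smul, inv_mul_cancel₀ ht, one_smul]
      subst ht
      rw [zero_smul, add_zero] at hst
      exact ⟨(smul_eq_zero.mp hst).resolve_right he, rfl⟩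
    have hW : Module.finrank ℂ ↥(Submodule.span ℂ (Set.range ![e, u])) = 2 := by
      rw [finrank_span_eq_card hli, Fintype.card_fin]
    have hWi : Submodule.span ℂ (Set.range ![e, u]) ≤ U i := by
      rw [Submodule.span_le]
      rintro _ ⟨k, rfl⟩
      fin_cases k
      · exact (hU i).2.1
      · exact hui
    have hWj : Submodule.span ℂ (Set.range ![e, u]) ≤ U j := by
      rw [Submodule.span_le]
      rintro _ ⟨k, rfl⟩
      fin_cases k
      · exact (hU j).2.1
      · exact huj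
    have h1 := Submodule.eq_of_le_of_finrank_eq hWi (by rw [hW, (hU i).1])
    have h2 := Submodule.eq_of_le_of_finrank_eq hWj (by rw [hW, (hU j).1])
    rw [← h1, ← h2]
  have hu1U0 : u1 ∉ U 0 := hdist 0 1 (by decide) u1 hu1U hu1e
  have hlu0 : dd f e u0 = 0 := (hUvan 0 u0 hu0U).2.2
  have hlu1 : dd f e u1 = 0 := (hUvan 1 u1 hu1U).2.2
  have hlu2 : dd f e u2 = 0 := (hUvan 2 u2 hu2U).2.2
  have hqu0 : dd f u0 e = 0 := (hUvan 0 u0 hu0U).2.1
  have hqu1 : dd f u1 e = 0 := (hUvan 1 u1 hu1U).2.1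
  have hqu2 : dd f u2 e = 0 := (hUvan 2 u2 hu2U).2.1
  have hind : ∀ a b c d : ℂ, a • e + b • u0 + c • u1 + d • v0 = 0 →
      a = 0 ∧ b = 0 ∧ c = 0 ∧ d = 0 := by
    intro a b c d h
    have hd : d = 0 := by
      have h3 := congrArg (dd f e) h
      rw [dd_add', dd_add', dd_add', dd_smul', dd_smul', dd_smul', dd_smul', hqe, hlu0, hlu1,
        hv0, dd_zero'] at h3
      linear_combination h3
    subst hd
    rw [zero_smul, add_zero] at h
    have hc : c = 0 := by
      by_contra hc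
      apply hu1U0
      have h1 : c • u1 = -(a • e + b • u0) := by
        rw [eq_neg_iff_add_eq_zero, add_comm (c • u1)]; exact h
      have h2 : u1 = c⁻¹ • (c • u1) := by rw [smul_smul, inv_mul_cancel₀ hc, one_smul]
      rw [h2, h1]
      exact (U 0).smul_mem _ ((U 0).neg_mem ((U 0).add_mem ((U 0).smul_mem a (hU 0).2.1)
        ((U 0).smul_mem b hu0U)))
    subst hc
    rw [zero_smul, add_zero] at h
    have hb : b = 0 := by
      by_contra hb
      apply hu0e
      have h1 : b • u0 = -(a • e) := by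
        rw [eq_neg_iff_add_eq_zero, add_comm (b • u0)]; exact h
      have h2 : u0 = b⁻¹ • (b • u0) := by rw [smul_smul, inv_mul_cancel₀ hb, one_smul]
      rw [h2, h1]
      exact (Submodule.span ℂ {e}).smul_mem _ ((Submodule.span ℂ {e}).neg_mem
        ((Submodule.span ℂ {e}).smul_mem a (Submodule.mem_span_singleton_self e)))
    subst hb
    rw [zero_smul, add_zero] at h
    exact ⟨(smul_eq_zero.mp h).resolve_right he, rfl, rfl, rfl⟩
  have hspan : ∀ v : Fin 4 → ℂ, ∃ a b c d : ℂ, v = a • e + b • u0 + c • u1 + d • v0 := by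
    have hli : LinearIndependent ℂ ![e, u0, u1, v0] := by
      rw [Fintype.linearIndependent_iff]
      intro g hg
      have hg' : g 0 • e + g 1 • u0 + g 2 • u1 + g 3 • v0 = 0 := by
        rw [← hg, Fin.sum_univ_four]; rfl
      obtain ⟨h1, h2, h3, h4⟩ := hind _ _ _ _ hg'
      intro i
      fin_cases i
      exacts [h1, h2, h3, h4]
    have htop := hli.span_eq_top_of_card_eq_finrank'
      (by rw [Fintype.card_fin, Module.finrank_fin_fun])
    intro v
    have hv : v ∈ Submodule.span ℂ (Set.range ![e, u0, u1, v0]) := by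
      rw [htop]; exact Submodule.mem_top
    obtain ⟨g, hg⟩ := (Submodule.mem_span_range_iff_exists_fun ℂ).mp hv
    rw [Fin.sum_univ_four] at hg
    exact ⟨g 0, g 1, g 2, g 3, by rw [← hg]; rfl⟩
  -- decomposition of u2
  obtain ⟨a, b, c, d, hu2⟩ := hspan u2
  have hd0 : d = 0 := by
    have h3 := congrArg (dd f e) hu2
    rw [dd_add', dd_add', dd_add', dd_smul', dd_smul', dd_smul', dd_smul', hqe, hlu0, hlu1,
      hv0, hlu2] at h3
    linear_combination -h3
  subst hd0
  rw [zero_smul, add_zero] at hu2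
  have hb0 : b ≠ 0 := by
    intro hb
    subst hb
    rw [zero_smul, add_zero] at hu2
    apply hdist 1 2 (by decide) u2 hu2U hu2e
    rw [hu2]
    exact (U 1).add_mem ((U 1).smul_mem a (hU 1).2.1) ((U 1).smul_mem c hu1U)
  have hc0 : c ≠ 0 := by
    intro hc
    subst hc
    rw [zero_smul, add_zero] at hu2
    apply hdist 0 2 (by decide) u2 hu2U hu2e
    rw [hu2]
    exact (U 0).add_mem ((U 0).smul_mem a (hU 0).2.1) ((U 0).smul_mem b hu0U)
  have hq01 : ∀ x y : ℂ, dd f (x • u0 + y • u1) e = x * y * dd Q u1 u0 := by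
    intro x y
    rw [← hqQ, (T2 (x • u0) u1).1 y, (T2 (x • u0) u1).2, dd_smul', homN Q 2 hQhom, hqQ u0,
      hqQ u1, hqu0, hqu1]
    ring
  have hB : dd Q u1 u0 = 0 := by
    have h1 : dd f u2 e = 0 := hqu2
    have h2 : u2 = (b • u0 + c • u1) + a • e := by rw [hu2]; abel
    rw [h2, hq_shift, hq01, dd_add', dd_smul', dd_smul', hlu0, hlu1] at h1
    have h3 : b * c * dd Q u1 u0 = 0 := by linear_combination h1
    rcases mul_eq_zero.mp h3 with h | h
    · exact absurd h (mul_ne_zero hb0 hc0)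
    · exact h
  have hqT : ∀ w : Fin 4 → ℂ, dd f e w = 0 → dd f w e = 0 := by
    intro w hw
    obtain ⟨a', b', c', d', hw'⟩ := hspan w
    have hd' : d' = 0 := by
      have h3 := congrArg (dd f e) hw'
      rw [hw, dd_add', dd_add', dd_add', dd_smul', dd_smul', dd_smul', dd_smul', hqe, hlu0,
        hlu1, hv0] at h3
      linear_combination -h3
    subst hd'
    have h2 : w = (b' • u0 + c' • u1) + a' • e := by rw [hw', zero_smul, add_zero]; abel
    rw [h2, hq_shift, hq01, hB, dd_add', dd_smul', dd_smul', hlu0, hlu1]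
    ring
  -- the linear form μ
  obtain ⟨κ, hκ⟩ : ∃ κ : ℂ, κ = dd f v0 e := ⟨_, rfl⟩
  obtain ⟨m, hm⟩ : ∃ m : Fin 4 → ℂ,
    m = fun j => eval v0 (pderiv j Q) - κ * eval e (pderiv j f) := ⟨_, rfl⟩
  obtain ⟨μ, hμdef⟩ : ∃ μ : (Fin 4 → ℂ) → ℂ, μ = fun v => ∑ j, m j * v j := ⟨_, rfl⟩
  have hμ : ∀ v : Fin 4 → ℂ, μ v = dd Q v0 v - κ * dd f e v := by
    intro v
    rw [hμdef, hm]
    unfold dd
    rw [Finset.mul_sum, ← Finset.sum_sub_distrib]
    apply Finset.sum_congr rfl
    intro j _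
    ring
  have hμadd : ∀ v w : Fin 4 → ℂ, μ (v + w) = μ v + μ w := by
    intro v w
    rw [hμ, hμ, hμ, dd_add', dd_add']; ring
  have hμsmul : ∀ (a : ℂ) (v : Fin 4 → ℂ), μ (a • v) = a * μ v := by
    intro a v
    rw [hμ, hμ, dd_smul', dd_smul']; ring
  have hB00 : dd Q v0 v0 = 2 * κ := by
    have e1 := cub4 0 (dd Q v0 v0 - 2 * κ) 0 0 (by
      intro s _
      have h1 := (T2 v0 v0).1 s
      have h2 : v0 + s • v0 = (1 + s) • v0 := by rw [add_smul, one_smul]
      rw [h2, homN Q 2 hQhom, hqQ, ← hκ] at h1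
      linear_combination -h1)
    linear_combination e1.2.1
  have hμe : μ e = 2 := by
    rw [hμ, hqe]
    have e1 := cub4 0 (dd Q v0 e - 2) 0 0 (by
      intro s _
      have h1 := (T2 v0 e).1 s
      rw [hqQ, hqQ, hqQ, hq_shift, hv0, hqe] at h1
      linear_combination -h1)
    linear_combination e1.2.1
  have hqlμ : ∀ v : Fin 4 → ℂ, dd f v e = dd f e v * μ v := by
    intro v
    obtain ⟨s, hs⟩ : ∃ s : ℂ, s = dd f e v := ⟨_, rfl⟩
    have hwT : dd f e (v - s • v0) = 0 := by
      rw [sub_eq_add_neg, ← neg_smul, dd_add', dd_smul', hv0, ← hs]; ring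
    have hqw := hqT _ hwT
    have h1 : v = (v - s • v0) + s • v0 := by abel
    have h2 : dd f v e = eval ((v - s • v0) + s • v0) Q := by rw [hqQ, ← h1]
    rw [h2, (T2 (v - s • v0) v0).1 s, (T2 (v - s • v0) v0).2, hqQ, hqw, hqQ v0, ← hκ, hμ,
      ← hs, sub_eq_add_neg v, ← neg_smul, dd_add', dd_smul', hB00]
    ring
  -- the matrix
  obtain ⟨A, hAdef⟩ : ∃ A : Matrix (Fin 4) (Fin 4) ℂ,
    A = Matrix.of (fun i j => (if i = j then (1:ℂ) else 0) - e i * m j) := ⟨_, rfl⟩
  have hAv : ∀ v : Fin 4 → ℂ, A.mulVec v = v - μ v • e := by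
    intro v
    funext i
    rw [hAdef, hμdef]
    simp only [Matrix.mulVec, dotProduct, Matrix.of_apply, Pi.sub_apply, Pi.smul_apply,
      smul_eq_mul, sub_mul, Finset.sum_sub_distrib, ite_mul, one_mul, zero_mul,
      Finset.sum_ite_eq, Finset.mem_univ, if_true]
    rw [Finset.sum_mul]
    congr 1
    apply Finset.sum_congr rfl
    intro j _
    ring
  have hAAv : ∀ v : Fin 4 → ℂ, A.mulVec (A.mulVec v) = v := by
    intro v
    rw [hAv v, hAv, sub_eq_add_neg v, ← neg_smul, hμadd, hμsmul, hμe]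
    funext i
    simp only [Pi.sub_apply, Pi.add_apply, Pi.smul_apply, smul_eq_mul]
    ring
  have hinvA : ∀ x : Fin 4 → ℂ, eval (A.mulVec x) f = eval x f := by
    intro x
    rw [hAv, sub_eq_add_neg, ← neg_smul, F1, hqlμ x]
    ring
  let μlin : (Fin 4 → ℂ) →ₗ[ℂ] ℂ :=
    { toFun := μ
      map_add' := hμadd
      map_smul' := fun a v => by rw [hμsmul]; rfl }
  have hker : LinearMap.ker (Matrix.toLin' A - LinearMap.id) = LinearMap.ker μlin := by
    ext v
    rw [LinearMap.mem_ker, LinearMap.sub_apply, Matrix.toLin'_apply, LinearMap.id_apply, hAv,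
      LinearMap.mem_ker]
    show v - μ v • e - v = 0 ↔ μ v = 0
    constructor
    · intro h
      have h2 : μ v • e = -(v - μ v • e - v) := by abel
      have h3 : μ v • e = 0 := by rw [h2, h, neg_zero]
      exact (smul_eq_zero.mp h3).resolve_right he
    · intro h
      rw [h, zero_smul, sub_zero, sub_self]
  have hfr : Module.finrank ℂ ↥(LinearMap.ker μlin) = 3 := by
    have h1 := LinearMap.finrank_range_add_finrank_ker μlin
    have hsurj : LinearMap.range μlin = ⊤ := by
      rw [LinearMap.range_eq_top]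
      intro c'
      refine ⟨(c' / 2) • e, ?_⟩
      show μ ((c' / 2) • e) = c'
      rw [hμsmul, hμe]; ring
    rw [hsurj, finrank_top, Module.finrank_self, Module.finrank_fin_fun] at h1
    omega
  have hcond4 : aeval (fun i : Fin 4 => ∑ j : Fin 4, C (A i j) * X j) f = C 1 * f := by
    apply MvPolynomial.funext
    intro x
    rw [map_mul, eval_C, one_mul, eval_subst, hinvA]
  have hAe : A.mulVec e = -e := by
    rw [hAv, hμe, two_smul]; abel
  refine ⟨A, ⟨?_, ?_, hAe, 1, hcond4⟩, ?_⟩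
  · apply mat_ext
    intro v
    rw [← Matrix.mulVec_mulVec, hAAv, Matrix.one_mulVec]
  · rw [hker]; exact hfr
  · intro A' hA'
    obtain ⟨g1, g2, g3⟩ := invol_facts f hf hsm A' e he hfe hA'
    obtain ⟨h0, hh0, hl0⟩ := g2
    have hμh0 : μ h0 = 0 := by
      have h1 := g1 h0 hh0
      rw [hqlμ h0] at h1
      exact (mul_eq_zero.mp h1).resolve_left hl0
    have hμfix : ∀ h : Fin 4 → ℂ, A'.mulVec h = h → μ h = 0 := by
      intro h hh
      have e1 := cub4 0 (dd f e h0 * μ h) (dd f e h * μ h) 0 (by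
        intro s _
        have hfix : A'.mulVec (h0 + s • h) = h0 + s • h := by
          rw [Matrix.mulVec_add, Matrix.mulVec_smul, hh0, hh]
        have h1 := g1 _ hfix
        rw [hqlμ, dd_add', dd_smul', hμadd, hμsmul, hμh0] at h1
        linear_combination h1)
      exact (mul_eq_zero.mp e1.2.1).resolve_left hl0
    apply mat_ext
    intro v
    obtain ⟨h, τ, hh, rfl⟩ := g3 v
    rw [Matrix.mulVec_add, Matrix.mulVec_smul, hh, hA'.2.2.1, hAv, hμadd, hμsmul, hμfix h hh,
      hμe]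
    funext i
    simp only [Pi.sub_apply, Pi.add_apply, Pi.smul_apply, Pi.neg_apply, smul_eq_mul]
    ring

end Groth.Agent.S18407
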