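import Groth.Statements.S18409
import Mathlib
import Groth.Agent.S18407

set_option autoImplicit false
universe u
open Cubic

namespace Groth.Agent.S18409

open Groth.Agent.S18408 (dd hom3 cub4)
open Groth.Agent.S18407 (dd_add' dd_smul' dd_single' dd_zero' homN taylor_full invol_facts
  eval_subst mat_ext)

section aux
open MvPolynomial

theorem F1 (f : MvPolynomial (Fin 4) ℂ) (hf : f.IsHomogeneous 3) (e : Fin 4 → ℂ)
    (hfe : eval e f = 0) (v : Fin 4 → ℂ) (t : ℂ) :
    eval (v + t • e) f = eval v f + t * dd f v e + t ^ 2 * dd f e v := by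
  rw [taylor_full f hf v e t, hfe]; ring

theorem hqe (f : MvPolynomial (Fin 4) ℂ) (hf : f.IsHomogeneous 3) (e : Fin 4 → ℂ)
    (hfe : eval e f = 0) : dd f e e = 0 := by
  have e1 := cub4 0 (dd f e e) (dd f e e) 0 (by
    intro s _
    have h1 := F1 f hf e hfe e s
    have h2 : e + s • e = (1 + s) • e := by rw [add_smul, one_smul]
    rw [h2, hom3 f hf, hfe] at h1
    linear_combination -h1)
  exact e1.2.1

theorem hq_shift (f : MvPolynomial (Fin 4) ℂ) (hf : f.IsHomogeneous 3) (e : Fin 4 → ℂ)
    (hfe : eval e f = 0) (v : Fin 4 → ℂ) (s : ℂ) :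
    dd f (v + s • e) e = dd f v e + 2 * s * dd f e v := by
  have e1 := cub4 0 (dd f (v + s • e) e - (dd f v e + 2 * s * dd f e v))
    (dd f e (v + s • e) - dd f e v) 0 (by
    intro t _
    have h1 := F1 f hf e hfe (v + s • e) t
    have h2 : v + s • e + t • e = v + (s + t) • e := by rw [add_smul]; abel
    rw [h2, F1 f hf e hfe v (s + t), F1 f hf e hfe v s] at h1
    linear_combination -h1)
  linear_combination e1.2.1

theorem dd_smul_left (f : MvPolynomial (Fin 4) ℂ) (hf : f.IsHomogeneous 3) (a : ℂ)
    (x v : Fin 4 → ℂ) : dd f (a • x) v = a ^ 2 * dd f x v := by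
  unfold dd
  rw [Finset.mul_sum]
  apply Finset.sum_congr rfl
  intro i _
  rw [homN (pderiv i f) 2 (hf.pderiv (i := i)) a x]; ring

theorem estruct (f : MvPolynomial (Fin 4) ℂ) (hf : f.IsHomogeneous 3)
    (hsm : ∀ v : Fin 4 → ℂ, v ≠ 0 → eval v f = 0 → ∃ i : Fin 4, eval v (pderiv i f) ≠ 0)
    (A : Matrix (Fin 4) (Fin 4) ℂ) (e : Fin 4 → ℂ) (he : e ≠ 0) (hfe : eval e f = 0)
    (hA : A * A = 1 ∧ Module.finrank ℂ ↥(LinearMap.ker (Matrix.toLin' A - LinearMap.id)) = 3 ∧
        A.mulVec e = -e ∧
        ∃ c : ℂ, aeval (fun i : Fin 4 => ∑ j : Fin 4, C (A i j) * X j) f = C c * f) :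
    (∀ v : Fin 4 → ℂ, ∃ m : ℂ, A.mulVec v = v - m • e ∧ dd f v e = dd f e v * m) ∧
    (∀ v : Fin 4 → ℂ, eval (A.mulVec v) f = eval v f) := by
  obtain ⟨g1, g2, g3⟩ := invol_facts f hf hsm A e he hfe hA
  have hAe := hA.2.2.1
  constructor
  · intro v
    obtain ⟨h, τ, hh, rfl⟩ := g3 v
    refine ⟨2 * τ, ?_, ?_⟩
    · rw [Matrix.mulVec_add, Matrix.mulVec_smul, hh, hAe]
      funext i
      simp only [Pi.sub_apply, Pi.add_apply, Pi.smul_apply, Pi.neg_apply, smul_eq_mul]
      ring
    · rw [hq_shift f hf e hfe, g1 h hh, dd_add', dd_smul', hqe f hf e hfe]; ring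
  · intro v
    obtain ⟨h, τ, hh, rfl⟩ := g3 v
    have h1 : A.mulVec (h + τ • e) = h + (-τ) • e := by
      rw [Matrix.mulVec_add, Matrix.mulVec_smul, hh, hAe, smul_neg, neg_smul]
    rw [h1, F1 f hf e hfe, F1 f hf e hfe, g1 h hh]; ring

theorem indep (e e' : Fin 4 → ℂ) (he : e ≠ 0) (he' : e' ∉ Submodule.span ℂ {e}) (a b : ℂ)
    (h : a • e + b • e' = 0) : a = 0 ∧ b = 0 := by
  have hb : b = 0 := by
    by_contra hb
    apply he'
    rw [Submodule.mem_span_singleton]
    refine ⟨-(b⁻¹ * a), ?_⟩
    have h1 : b • e' = -(a • e) := by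
      rw [eq_neg_iff_add_eq_zero, add_comm (b • e')]; exact h
    calc (-(b⁻¹ * a)) • e = b⁻¹ • (-(a • e)) := by rw [neg_smul, mul_smul, smul_neg]
      _ = b⁻¹ • (b • e') := by rw [h1]
      _ = e' := by rw [smul_smul, inv_mul_cancel₀ hb, one_smul]
  subst hb
  rw [zero_smul, add_zero] at h
  exact ⟨(smul_eq_zero.mp h).resolve_right he, rfl⟩

/-- the restriction of `f` to the line through two points of the surface -/
theorem line_form (f : MvPolynomial (Fin 4) ℂ) (hf : f.IsHomogeneous 3) (e e' : Fin 4 → ℂ)
    (hfe : eval e f = 0) (hfe' : eval e' f = 0) (a b : ℂ) :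
    eval (a • e + b • e') f = a * b * (b * dd f e' e + a * dd f e e') := by
  rw [add_comm (a • e) (b • e'), F1 f hf e hfe, hom3 f hf, hfe', dd_smul_left f hf, dd_smul']
  ring

end aux


open MvPolynomial in
/-- Let f be a nonzero homogeneous cubic in four variables over ℂ whose surface S = V_+(f) ⊂ P³ is
smooth (at every nonzero zero of f some partial derivative is nonzero); a line on S is a
2-dimensional subspace of ℂ⁴ on which f vanishes, and an Eckardt point of S is a nonzero vector
lying on three distinct lines on S. Let e and e′ be Eckardt points of S that are not proportional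
and let L be their span, a plane in ℂ⁴, i.e. the line of P³ through the two points. Then exactly one
of the two cases occurs: either f vanishes identically on L (the line lies on S), or L contains a
third Eckardt point e″, proportional to neither e nor e′, and every zero of f in L is proportional
to e, e′ or e″ (the line meets S in exactly three points, all Eckardt points). -/
theorem result (f : MvPolynomial (Fin 4) ℂ) (hf : f.IsHomogeneous 3)
    (hf0 : f ≠ 0) (hsm : ∀ v : Fin 4 → ℂ, v ≠ 0 → eval v f = 0 → ∃ i : Fin 4, eval v (pderiv i f) ≠ 0)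
    (e e' : Fin 4 → ℂ) (he : e ≠ 0) (he' : e' ∉ Submodule.span ℂ {e})
    (hE : (∃ U : Fin 3 → Submodule ℂ (Fin 4 → ℂ), Function.Injective U ∧
        ∀ i : Fin 3, Module.finrank ℂ ↥(U i) = 2 ∧ e ∈ U i ∧ ∀ u ∈ U i, eval u f = 0))
    (hE' : (∃ U : Fin 3 → Submodule ℂ (Fin 4 → ℂ), Function.Injective U ∧
        ∀ i : Fin 3, Module.finrank ℂ ↥(U i) = 2 ∧ e' ∈ U i ∧ ∀ u ∈ U i, eval u f = 0)) :
    Xor (∀ u ∈ Submodule.span ℂ {e, e'}, eval u f = 0)
      (∃ e'' : Fin 4 → ℂ, e'' ∈ Submodule.span ℂ {e, e'} ∧ e'' ∉ Submodule.span ℂ {e} ∧ e'' ∉ Submodule.span ℂ {e'} ∧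
        (∃ U : Fin 3 → Submodule ℂ (Fin 4 → ℂ), Function.Injective U ∧
        ∀ i : Fin 3, Module.finrank ℂ ↥(U i) = 2 ∧ e'' ∈ U i ∧ ∀ u ∈ U i, eval u f = 0) ∧
        ∀ u ∈ Submodule.span ℂ {e, e'}, eval u f = 0 →
          u ∈ Submodule.span ℂ {e} ∨ u ∈ Submodule.span ℂ {e'} ∨ u ∈ Submodule.span ℂ {e''}) := by
  obtain ⟨A, hA, -⟩ := Groth.Agent.S18407.result f hf hf0 hsm e he hE
  have he'0 : e' ≠ 0 := by
    intro h; apply he'; rw [h]; exact Submodule.zero_mem _
  obtain ⟨A', hA', -⟩ := Groth.Agent.S18407.result f hf hf0 hsm e' he'0 hE'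
  obtain ⟨U, hUinj, hU⟩ := hE
  obtain ⟨U', hU'inj, hU'⟩ := hE'
  have hfe : eval e f = 0 := (hU 0).2.2 e (hU 0).2.1
  have hfe' : eval e' f = 0 := (hU' 0).2.2 e' (hU' 0).2.1
  obtain ⟨es1, es2⟩ := estruct f hf hsm A e he hfe hA
  obtain ⟨es1', es2'⟩ := estruct f hf hsm A' e' he'0 hfe' hA'
  obtain ⟨m, hAm, hαβ⟩ := es1 e'
  obtain ⟨m', hAm', hβα⟩ := es1' e
  obtain ⟨α, hα⟩ : ∃ α : ℂ, α = dd f e' e := ⟨_, rfl⟩
  obtain ⟨β, hβ⟩ : ∃ β : ℂ, β = dd f e e' := ⟨_, rfl⟩
  rw [← hα, ← hβ] at hαβ hβα
  have hform : ∀ a b : ℂ, eval (a • e + b • e') f = a * b * (b * α + a * β) := by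
    intro a b
    rw [line_form f hf e e' hfe hfe', ← hα, ← hβ]
  have hind := indep e e' he he'
  by_cases h0 : α = 0
  · have hβ0 : β = 0 := by rw [hβα, h0, zero_mul]
    left
    refine ⟨?_, ?_⟩
    · intro u hu
      obtain ⟨a, b, rfl⟩ := Submodule.mem_span_pair.mp hu
      rw [hform, h0, hβ0]; ring
    · rintro ⟨e'', he''L, he''1, he''2, -, hz⟩
      have hLvan : ∀ a b : ℂ, eval (a • e + b • e') f = 0 := by
        intro a b; rw [hform, h0, hβ0]; ring
      have key : ∀ s : ℂ, s ≠ 0 → e + s • e' ∈ Submodule.span ℂ {e''} := by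
        intro s hs
        have hmem : e + s • e' ∈ Submodule.span ℂ {e, e'} := by
          rw [Submodule.mem_span_pair]; exact ⟨1, s, by rw [one_smul]⟩
        have hv : eval (e + s • e') f = 0 := by
          have := hLvan 1 s; rwa [one_smul] at this
        rcases hz _ hmem hv with h | h | h
        · exfalso
          obtain ⟨z, hz'⟩ := Submodule.mem_span_singleton.mp h
          have h1 : (1 - z) • e + s • e' = 0 := by
            funext i
            have h := congrFun hz' i
            simp only [Pi.add_apply, Pi.smul_apply, Pi.zero_apply, smul_eq_mul] at h ⊢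
            linear_combination -h
          exact hs (hind _ _ h1).2
        · exfalso
          obtain ⟨z, hz'⟩ := Submodule.mem_span_singleton.mp h
          have h1 : (1:ℂ) • e + (s - z) • e' = 0 := by
            funext i
            have h := congrFun hz' i
            simp only [Pi.add_apply, Pi.smul_apply, Pi.zero_apply, smul_eq_mul] at h ⊢
            linear_combination -h
          exact one_ne_zero (hind _ _ h1).1
        · exact h
      obtain ⟨z1, hz1⟩ := Submodule.mem_span_singleton.mp (key 1 one_ne_zero)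
      obtain ⟨z2, hz2⟩ := Submodule.mem_span_singleton.mp (key 2 two_ne_zero)
      obtain ⟨x, y, hxy⟩ := Submodule.mem_span_pair.mp he''L
      rw [← hxy] at hz1 hz2
      have h1 : (z1 * x - 1) • e + (z1 * y - 1) • e' = 0 := by
        funext i
        have h := congrFun hz1 i
        simp only [Pi.add_apply, Pi.smul_apply, Pi.zero_apply, smul_eq_mul] at h ⊢
        linear_combination h
      have h2 : (z2 * x - 1) • e + (z2 * y - 2) • e' = 0 := by
        funext i
        have h := congrFun hz2 i
        simp only [Pi.add_apply, Pi.smul_apply, Pi.zero_apply, smul_eq_mul] at h ⊢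
        linear_combination h
      obtain ⟨p1, p2⟩ := hind _ _ h1
      obtain ⟨p3, p4⟩ := hind _ _ h2
      have hz1ne : z1 ≠ 0 := by
        intro h
        rw [h, zero_mul] at p1
        norm_num at p1
      have hxy' : x = y := by
        have h3 : z1 * (x - y) = 0 := by linear_combination p1 - p2
        rcases mul_eq_zero.mp h3 with h | h
        · exact absurd h hz1ne
        · linear_combination h
      rw [hxy'] at p3
      have h4 : (1:ℂ) = 0 := by linear_combination p3 - p4
      exact one_ne_zero h4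
  · have hβ0 : β ≠ 0 := by
      intro h; apply h0; rw [hαβ, h, zero_mul]
    have hm0 : m ≠ 0 := by
      intro h; apply h0; rw [hαβ, h, mul_zero]
    right
    refine ⟨?_, ?_⟩
    · refine ⟨A.mulVec e', ?_, ?_, ?_, ?_, ?_⟩
      · rw [hAm, Submodule.mem_span_pair]
        exact ⟨-m, 1, by rw [one_smul, neg_smul]; abel⟩
      · intro h
        obtain ⟨z, hz'⟩ := Submodule.mem_span_singleton.mp h
        rw [hAm] at hz'
        have h1 : (z + m) • e + (-1:ℂ) • e' = 0 := by
          funext i
          have h := congrFun hz' i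
          simp only [Pi.add_apply, Pi.sub_apply, Pi.smul_apply, Pi.zero_apply, smul_eq_mul]
            at h ⊢
          linear_combination h
        have h2 := (hind _ _ h1).2
        norm_num at h2
      · intro h
        obtain ⟨z, hz'⟩ := Submodule.mem_span_singleton.mp h
        rw [hAm] at hz'
        have h1 : m • e + (z - 1) • e' = 0 := by
          funext i
          have h := congrFun hz' i
          simp only [Pi.add_apply, Pi.sub_apply, Pi.smul_apply, Pi.zero_apply, smul_eq_mul]
            at h ⊢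
          linear_combination h
        exact hm0 (hind _ _ h1).1
      · have hAA : A * A = 1 := hA.1
        let E : (Fin 4 → ℂ) ≃ₗ[ℂ] (Fin 4 → ℂ) := Matrix.toLin'OfInv hAA hAA
        have hE_apply : ∀ v, E v = A.mulVec v := fun v => by
          show Matrix.toLin' A v = A.mulVec v
          rw [Matrix.toLin'_apply]
        refine ⟨fun i => (U' i).map (E : (Fin 4 → ℂ) →ₗ[ℂ] (Fin 4 → ℂ)), ?_, ?_⟩
        · intro i j hij
          apply hU'inj
          exact Submodule.map_injective_of_injective E.injective hij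
        · intro i
          refine ⟨?_, ?_, ?_⟩
          · rw [LinearEquiv.finrank_map_eq]; exact (hU' i).1
          · rw [← hE_apply]; exact Submodule.mem_map_of_mem (hU' i).2.1
          · intro u hu
            obtain ⟨w, hw, rfl⟩ := Submodule.mem_map.mp hu
            show eval (E w) f = 0
            rw [hE_apply, es2, (hU' i).2.2 w hw]
      · intro u hu hfu
        obtain ⟨a, b, rfl⟩ := Submodule.mem_span_pair.mp hu
        rw [hform] at hfu
        rcases mul_eq_zero.mp hfu with h | h
        · rcases mul_eq_zero.mp h with ha | hb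
          · right; left
            rw [ha, zero_smul, zero_add]
            exact Submodule.smul_mem _ _ (Submodule.mem_span_singleton_self e')
          · left
            rw [hb, zero_smul, add_zero]
            exact Submodule.smul_mem _ _ (Submodule.mem_span_singleton_self e)
        · right; right
          have h1 : β * (b * m + a) = 0 := by rw [hαβ] at h; linear_combination h
          have h2 : a = -(b * m) := by
            rcases mul_eq_zero.mp h1 with h3 | h3
            · exact absurd h3 hβ0
            · linear_combination h3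
          rw [Submodule.mem_span_singleton]
          refine ⟨b, ?_⟩
          rw [hAm, h2]
          funext i
          simp only [Pi.add_apply, Pi.sub_apply, Pi.smul_apply, smul_eq_mul]
          ring
    · intro hall
      have h1 := hall (e + e') (by
        rw [Submodule.mem_span_pair]; exact ⟨1, 1, by rw [one_smul, one_smul]⟩)
      have h2 := hall (e - e') (by
        rw [Submodule.mem_span_pair]
        exact ⟨1, -1, by rw [one_smul, neg_smul, one_smul, sub_eq_add_neg]⟩)
      have h3 := hform 1 1
      have h4 := hform 1 (-1)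
      rw [one_smul, one_smul, h1] at h3
      rw [one_smul, neg_smul, one_smul, ← sub_eq_add_neg, h2] at h4
      apply h0
      linear_combination (-1/2) * h3 + (-1/2) * h4

end Groth.Agent.S18409
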