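import Groth.Statements.S18410
import Mathlib
import Groth.Agent.S18409

set_option autoImplicit false
universe u
open Cubic

namespace Groth.Agent.S18410

open Groth.Agent.S18408 (dd hom3 cub4 taylor)
open Groth.Agent.S18407 (dd_add' dd_smul' dd_single' taylor_full invol_facts mat_ext)
open Groth.Agent.S18409 (estruct indep line_form F1 hqe hq_shift)

section aux
open MvPolynomial

theorem fix_other (f : MvPolynomial (Fin 4) ℂ) (hf : f.IsHomogeneous 3)
    (hsm : ∀ v : Fin 4 → ℂ, v ≠ 0 → eval v f = 0 → ∃ i : Fin 4, eval v (pderiv i f) ≠ 0)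
    (e e' : Fin 4 → ℂ) (he : e ≠ 0) (he' : e' ∉ Submodule.span ℂ {e})
    (hfe : eval e f = 0) (hfe' : eval e' f = 0)
    (hL : ∀ a b : ℂ, eval (a • e + b • e') f = 0)
    (A A' : Matrix (Fin 4) (Fin 4) ℂ)
    (hA : A * A = 1 ∧ Module.finrank ℂ ↥(LinearMap.ker (Matrix.toLin' A - LinearMap.id)) = 3 ∧
        A.mulVec e = -e ∧
        ∃ c : ℂ, aeval (fun i : Fin 4 => ∑ j : Fin 4, C (A i j) * X j) f = C c * f)
    (hA' : A' * A' = 1 ∧
        Module.finrank ℂ ↥(LinearMap.ker (Matrix.toLin' A' - LinearMap.id)) = 3 ∧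
        A'.mulVec e' = -e' ∧
        ∃ c : ℂ, aeval (fun i : Fin 4 => ∑ j : Fin 4, C (A' i j) * X j) f = C c * f) :
    A'.mulVec e = e := by
  have he'0 : e' ≠ 0 := by
    intro h; apply he'; rw [h]; exact Submodule.zero_mem _
  obtain ⟨g1, g2, g3⟩ := invol_facts f hf hsm A e he hfe hA
  obtain ⟨es1', es2'⟩ := estruct f hf hsm A' e' he'0 hfe' hA'
  have hAe := hA.2.2.1
  have hform := line_form f hf e e' hfe hfe'
  have hα0 : dd f e' e = 0 := by
    have h3 := hform 1 1
    have h4 := hform 1 (-1)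
    rw [hL] at h3 h4
    linear_combination (-1/2) * h3 + (-1/2) * h4
  have hβ0 : dd f e e' = 0 := by
    have h3 := hform 1 1
    have h4 := hform 1 (-1)
    rw [hL] at h3 h4
    linear_combination (-1/2) * h3 + (1/2) * h4
  have hqe0 := hqe f hf e hfe
  obtain ⟨h, τ, hh, he'dec⟩ := g3 e'
  have hlh : dd f e h = 0 := by
    have h1 : dd f e e' = dd f e h + τ * dd f e e := by rw [he'dec, dd_add', dd_smul']
    rw [hβ0, hqe0] at h1
    linear_combination -h1
  have hqh : dd f h e = 0 := g1 h hh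
  obtain ⟨me, hA'e, -⟩ := es1' e
  suffices hme : me = 0 by rw [hA'e, hme, zero_smul, sub_zero]
  by_contra hme
  have hdx : ∀ w' w : Fin 4 → ℂ, A.mulVec w' = w' → A.mulVec w = w → ∀ t : ℂ,
      dd f (w' + t • e) w = dd f w' w + t ^ 2 * dd f e w := by
    intro w' w hw' hw t
    obtain ⟨c2, c3, hc'⟩ := taylor f hf (w' + t • e) w
    obtain ⟨d2, d3, hd'⟩ := taylor f hf w' w
    have e1 := cub4 0 (dd f (w' + t • e) w - (dd f w' w + t ^ 2 * dd f e w)) (c2 - d2)
      (c3 - d3) (by
      intro s _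
      have h1 := hc' s
      have h2 : w' + t • e + s • w = (w' + s • w) + t • e := by abel
      have hfix : A.mulVec (w' + s • w) = w' + s • w := by
        rw [Matrix.mulVec_add, Matrix.mulVec_smul, hw', hw]
      rw [h2, F1 f hf e hfe (w' + s • w) t, g1 _ hfix, F1 f hf e hfe w' t, g1 w' hw', hd' s,
        dd_add' f e w' (s • w), dd_smul' f e s w] at h1
      linear_combination -h1)
    linear_combination e1.2.1
  have hstar : ∀ w : Fin 4 → ℂ, A.mulVec w = w → 2 * τ * dd f e w = dd f e' w * me := by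
    intro w hw
    obtain ⟨mw, hA'w, hqw⟩ := es1' w
    obtain ⟨mm, hA'm, hqm⟩ := es1' (w + (1:ℂ) • e)
    have hmm : mm = mw + me := by
      have h1 : A'.mulVec (w + (1:ℂ) • e) = (w + (1:ℂ) • e) - (mw + me) • e' := by
        rw [Matrix.mulVec_add, Matrix.mulVec_smul, hA'w, hA'e]
        funext i
        simp only [Pi.add_apply, Pi.sub_apply, Pi.smul_apply, smul_eq_mul]
        ring
      rw [hA'm] at h1
      have h2 : (mm - (mw + me)) • e' = 0 := by
        funext i
        have h := congrFun h1 i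
        simp only [Pi.add_apply, Pi.sub_apply, Pi.smul_apply, Pi.zero_apply, smul_eq_mul] at h ⊢
        linear_combination -h
      have h3 := (smul_eq_zero.mp h2).resolve_right he'0
      linear_combination h3
    have hq0 : dd f w e' = dd f w h := by
      rw [he'dec, dd_add', dd_smul', g1 w hw]; ring
    have hq1 : dd f (w + (1:ℂ) • e) e' = dd f w h + 2 * τ * dd f e w := by
      rw [he'dec, dd_add', dd_smul', hdx w h hw hh 1, hlh, hq_shift f hf e hfe, g1 w hw]; ring
    have hl1 : dd f e' (w + (1:ℂ) • e) = dd f e' w := by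
      rw [dd_add', dd_smul', hα0]; ring
    rw [hq0] at hqw
    rw [hq1, hl1, hmm] at hqm
    linear_combination hqm - hqw
  have hiii : ∀ w : Fin 4 → ℂ, A.mulVec w = w → dd f e' w = dd f h w + τ ^ 2 * dd f e w := by
    intro w hw
    rw [he'dec]
    exact hdx h w hh hw τ
  obtain ⟨t, ht⟩ := IsAlgClosed.exists_pow_nat_eq (τ ^ 2 - 2 * τ / me) (n := 2) (by norm_num)
  have hme' : me ≠ 0 := hme
  have ht' : me * t ^ 2 = me * τ ^ 2 - 2 * τ := by rw [ht]; field_simp
  have hh0 : h ≠ 0 := by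
    intro h0
    apply he'
    rw [he'dec, h0, zero_add]
    exact Submodule.smul_mem _ _ (Submodule.mem_span_singleton_self e)
  have hx0 : h + t • e ≠ 0 := by
    intro hx
    have h1 : A.mulVec (h + t • e) = 0 := by rw [hx, Matrix.mulVec_zero]
    rw [Matrix.mulVec_add, Matrix.mulVec_smul, hh, hAe] at h1
    apply hh0
    funext i
    have a := congrFun hx i
    have b := congrFun h1 i
    simp only [Pi.add_apply, Pi.smul_apply, Pi.neg_apply, Pi.zero_apply, smul_eq_mul] at a b ⊢
    linear_combination (1/2) * a + (1/2) * b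
  have hfx : eval (h + t • e) f = 0 := by
    have hx' : h + t • e = (t - τ) • e + (1:ℂ) • e' := by
      rw [he'dec]
      funext i
      simp only [Pi.add_apply, Pi.smul_apply, smul_eq_mul]
      ring
    rw [hx']; exact hL _ _
  obtain ⟨i, hi⟩ := hsm (h + t • e) hx0 hfx
  apply hi
  obtain ⟨w, σ, hw, hv⟩ := g3 (Pi.single i 1)
  rw [← dd_single', hv, dd_add', dd_smul', hq_shift f hf e hfe, hqh, hlh, hdx h w hh hw t]
  have h1 := hstar w hw
  have h2 := hiii w hw
  have h3 : me * (dd f h w + t ^ 2 * dd f e w) = 0 := by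
    rw [h2] at h1
    linear_combination (dd f e w) * ht' - h1
  have h4 := (mul_eq_zero.mp h3).resolve_left hme'
  rw [h4]; ring

end aux


open MvPolynomial in
/-- Let f be a nonzero homogeneous cubic in four variables over ℂ whose surface S = V_+(f) ⊂ P³ is
smooth (at every nonzero zero of f some partial derivative is nonzero); a line on S is a
2-dimensional subspace of ℂ⁴ on which f vanishes, and an Eckardt point of S is a nonzero vector
lying on three distinct lines on S. Let e, e′ be non-proportional Eckardt points of S such that f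
vanishes on their span (the line joining them lies on S), and let A, A′ be their Eckardt
involutions: an involutory matrix A (A² = 1) whose +1-eigenspace is a hyperplane and with A·e = −e,
such that the substitution X_i ↦ Σ_j A_ij X_j multiplies f by a constant — that is, a projective
involution preserving S whose fixed locus is the disjoint union of a plane and the point of e, and
likewise A′ for e′. Then the two involutions commute as projective transformations (A·A′ is a scalar
multiple of A′·A) and each fixes the other point (A·e′ is proportional to e′ and A′·e to e). -/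
theorem result (f : MvPolynomial (Fin 4) ℂ) (hf : f.IsHomogeneous 3)
    (hf0 : f ≠ 0) (hsm : ∀ v : Fin 4 → ℂ, v ≠ 0 → eval v f = 0 → ∃ i : Fin 4, eval v (pderiv i f) ≠ 0)
    (e e' : Fin 4 → ℂ) (he : e ≠ 0) (he' : e' ∉ Submodule.span ℂ {e})
    (hE : (∃ U : Fin 3 → Submodule ℂ (Fin 4 → ℂ), Function.Injective U ∧
        ∀ i : Fin 3, Module.finrank ℂ ↥(U i) = 2 ∧ e ∈ U i ∧ ∀ u ∈ U i, eval u f = 0))
    (hE' : (∃ U : Fin 3 → Submodule ℂ (Fin 4 → ℂ), Function.Injective U ∧
        ∀ i : Fin 3, Module.finrank ℂ ↥(U i) = 2 ∧ e' ∈ U i ∧ ∀ u ∈ U i, eval u f = 0))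
    (hL : ∀ u ∈ Submodule.span ℂ {e, e'}, eval u f = 0)
    (A A' : Matrix (Fin 4) (Fin 4) ℂ)
    (hA : A * A = 1 ∧ Module.finrank ℂ ↥(LinearMap.ker (Matrix.toLin' A - LinearMap.id)) = 3 ∧
        A.mulVec e = -e ∧ ∃ c : ℂ, aeval (fun i : Fin 4 => ∑ j : Fin 4, C (A i j) * X j) f = C c * f)
    (hA' : A' * A' = 1 ∧ Module.finrank ℂ ↥(LinearMap.ker (Matrix.toLin' A' - LinearMap.id)) = 3 ∧
        A'.mulVec e' = -e' ∧ ∃ c : ℂ, aeval (fun i : Fin 4 => ∑ j : Fin 4, C (A' i j) * X j) f = C c * f) :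
    (∃ c : ℂ, A * A' = c • (A' * A)) ∧ (∃ d : ℂ, A.mulVec e' = d • e') ∧ (∃ d : ℂ, A'.mulVec e = d • e) := by
  have he'0 : e' ≠ 0 := by
    intro h; apply he'; rw [h]; exact Submodule.zero_mem _
  obtain ⟨U, -, hU⟩ := hE
  obtain ⟨U', -, hU'⟩ := hE'
  have hfe : eval e f = 0 := (hU 0).2.2 e (hU 0).2.1
  have hfe' : eval e' f = 0 := (hU' 0).2.2 e' (hU' 0).2.1
  have hLab : ∀ a b : ℂ, eval (a • e + b • e') f = 0 := fun a b =>
    hL _ (Submodule.mem_span_pair.mpr ⟨a, b, rfl⟩)
  have hLba : ∀ a b : ℂ, eval (a • e' + b • e) f = 0 := fun a b => by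
    rw [add_comm]; exact hLab b a
  have he_not : e ∉ Submodule.span ℂ {e'} := by
    intro h
    obtain ⟨z, hz⟩ := Submodule.mem_span_singleton.mp h
    have hz0 : z ≠ 0 := by
      intro h0; rw [h0, zero_smul] at hz; exact he hz.symm
    apply he'
    rw [Submodule.mem_span_singleton]
    exact ⟨z⁻¹, by rw [← hz, smul_smul, inv_mul_cancel₀ hz0, one_smul]⟩
  have hA'e : A'.mulVec e = e := fix_other f hf hsm e e' he he' hfe hfe' hLab A A' hA hA'
  have hAe' : A.mulVec e' = e' := fix_other f hf hsm e' e he'0 he_not hfe' hfe hLba A' A hA' hA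
  obtain ⟨es1, -⟩ := estruct f hf hsm A e he hfe hA
  obtain ⟨es1', -⟩ := estruct f hf hsm A' e' he'0 hfe' hA'
  refine ⟨⟨1, ?_⟩, ⟨1, by rw [one_smul]; exact hAe'⟩, ⟨1, by rw [one_smul]; exact hA'e⟩⟩
  rw [one_smul]
  apply mat_ext
  intro v
  obtain ⟨mv, hAv, -⟩ := es1 v
  obtain ⟨mv', hA'v, -⟩ := es1' v
  rw [← Matrix.mulVec_mulVec, ← Matrix.mulVec_mulVec, hA'v, hAv, Matrix.mulVec_sub,
    Matrix.mulVec_sub, Matrix.mulVec_smul, Matrix.mulVec_smul, hAv, hA'v, hAe', hA'e]
  abel

end Groth.Agent.S18410
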