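import Groth.Statements.S18411
import Mathlib
import Groth.Agent.S18409

set_option autoImplicit false
universe u
open Cubic

namespace Groth.Agent.S18411

open Groth.Agent.S18408 (dd hom3 cub4)
open Groth.Agent.S18407 (dd_add' dd_smul' eval_subst mat_ext)
open Groth.Agent.S18409 (estruct indep line_form)

section aux
open MvPolynomial

theorem conjP (f : MvPolynomial (Fin 4) ℂ) (A A' : Matrix (Fin 4) (Fin 4) ℂ)
    (hAA : A * A = 1) (hA'A' : A' * A' = 1)
    (hrank' : Module.finrank ℂ ↥(LinearMap.ker (Matrix.toLin' A' - LinearMap.id)) = 3)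
    (hfA : ∀ v : Fin 4 → ℂ, eval (A.mulVec v) f = eval v f)
    (hfA' : ∀ v : Fin 4 → ℂ, eval (A'.mulVec v) f = eval v f)
    (y : Fin 4 → ℂ) (hy : A'.mulVec y = -y) :
    (A * A' * A) * (A * A' * A) = 1 ∧
    Module.finrank ℂ ↥(LinearMap.ker (Matrix.toLin' (A * A' * A) - LinearMap.id)) = 3 ∧
    (A * A' * A).mulVec (A.mulVec y) = -(A.mulVec y) ∧
    ∃ c : ℂ, aeval (fun i : Fin 4 => ∑ j : Fin 4, C ((A * A' * A) i j) * X j) f = C c * f := by
  have hAinv : ∀ v : Fin 4 → ℂ, A.mulVec (A.mulVec v) = v := fun v => by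
    rw [Matrix.mulVec_mulVec, hAA, Matrix.one_mulVec]
  have hA'inv : ∀ v : Fin 4 → ℂ, A'.mulVec (A'.mulVec v) = v := fun v => by
    rw [Matrix.mulVec_mulVec, hA'A', Matrix.one_mulVec]
  have hMv : ∀ v : Fin 4 → ℂ,
      (A * A' * A).mulVec v = A.mulVec (A'.mulVec (A.mulVec v)) := fun v => by
    rw [Matrix.mulVec_mulVec, Matrix.mulVec_mulVec]
  refine ⟨?_, ?_, ?_, 1, ?_⟩
  · apply mat_ext
    intro v
    rw [← Matrix.mulVec_mulVec, hMv ((A * A' * A).mulVec v), hMv v, hAinv, hA'inv, hAinv,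
      Matrix.one_mulVec]
  · let E : (Fin 4 → ℂ) ≃ₗ[ℂ] (Fin 4 → ℂ) := Matrix.toLin'OfInv hAA hAA
    have hE_apply : ∀ v, E v = A.mulVec v := fun v => by
      show Matrix.toLin' A v = A.mulVec v
      rw [Matrix.toLin'_apply]
    have hker : LinearMap.ker (Matrix.toLin' (A * A' * A) - LinearMap.id)
        = (LinearMap.ker (Matrix.toLin' A' - LinearMap.id)).map
          (E : (Fin 4 → ℂ) →ₗ[ℂ] (Fin 4 → ℂ)) := by
      ext v
      rw [LinearMap.mem_ker, LinearMap.sub_apply, Matrix.toLin'_apply, LinearMap.id_apply,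
        sub_eq_zero, Submodule.mem_map, hMv]
      constructor
      · intro h
        refine ⟨A.mulVec v, ?_, ?_⟩
        · rw [LinearMap.mem_ker, LinearMap.sub_apply, Matrix.toLin'_apply, LinearMap.id_apply,
            sub_eq_zero]
          have h2 := congrArg A.mulVec h
          rw [hAinv] at h2
          exact h2
        · show E (A.mulVec v) = v
          rw [hE_apply, hAinv]
      · rintro ⟨w, hw, rfl⟩
        rw [LinearMap.mem_ker, LinearMap.sub_apply, Matrix.toLin'_apply, LinearMap.id_apply,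
          sub_eq_zero] at hw
        show A.mulVec (A'.mulVec (A.mulVec (E w))) = E w
        rw [hE_apply, hAinv, hw]
    rw [hker, LinearEquiv.finrank_map_eq]; exact hrank'
  · rw [hMv, hAinv, hy, Matrix.mulVec_neg]
  · apply MvPolynomial.funext
    intro x
    rw [map_mul, eval_C, one_mul, eval_subst, hMv, hfA, hfA', hfA]

end aux


open MvPolynomial in
/-- Let f be a nonzero homogeneous cubic in four variables over ℂ whose surface S = V_+(f) ⊂ P³ is
smooth (at every nonzero zero of f some partial derivative is nonzero); a line on S is a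
2-dimensional subspace of ℂ⁴ on which f vanishes, and an Eckardt point of S is a nonzero vector
lying on three distinct lines on S. Let e, e′, e″ be pairwise non-proportional Eckardt points of S
spanning a single plane L = span(e, e′) of ℂ⁴ on which f does not vanish identically (three
collinear Eckardt points whose line is not on S), and let A, A′, A″ be their Eckardt involutions: an
involutory matrix A (A² = 1) whose +1-eigenspace is a hyperplane and with A·e = −e, such that the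
substitution X_i ↦ Σ_j A_ij X_j multiplies f by a constant — that is, a projective involution
preserving S whose fixed locus is the disjoint union of a plane and the point of e, and likewise for
e′ and e″. Then the three involutions generate, as projective transformations, a group isomorphic to
the symmetric group on three letters: the product A·A′ is not a scalar matrix, its cube is, and A″
is a scalar multiple of A·A′·A. -/
theorem result (f : MvPolynomial (Fin 4) ℂ) (hf : f.IsHomogeneous 3)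
    (hf0 : f ≠ 0) (hsm : ∀ v : Fin 4 → ℂ, v ≠ 0 → eval v f = 0 → ∃ i : Fin 4, eval v (pderiv i f) ≠ 0)
    (e e' e'' : Fin 4 → ℂ) (he : e ≠ 0) (he' : e' ∉ Submodule.span ℂ {e})
    (he''1 : e'' ∉ Submodule.span ℂ {e}) (he''2 : e'' ∉ Submodule.span ℂ {e'}) (he''L : e'' ∈ Submodule.span ℂ {e, e'})
    (hE : (∃ U : Fin 3 → Submodule ℂ (Fin 4 → ℂ), Function.Injective U ∧
        ∀ i : Fin 3, Module.finrank ℂ ↥(U i) = 2 ∧ e ∈ U i ∧ ∀ u ∈ U i, eval u f = 0))
    (hE' : (∃ U : Fin 3 → Submodule ℂ (Fin 4 → ℂ), Function.Injective U ∧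
        ∀ i : Fin 3, Module.finrank ℂ ↥(U i) = 2 ∧ e' ∈ U i ∧ ∀ u ∈ U i, eval u f = 0))
    (hE'' : (∃ U : Fin 3 → Submodule ℂ (Fin 4 → ℂ), Function.Injective U ∧
        ∀ i : Fin 3, Module.finrank ℂ ↥(U i) = 2 ∧ e'' ∈ U i ∧ ∀ u ∈ U i, eval u f = 0))
    (hL : ¬ ∀ u ∈ Submodule.span ℂ {e, e'}, eval u f = 0)
    (A A' A'' : Matrix (Fin 4) (Fin 4) ℂ)
    (hA : A * A = 1 ∧ Module.finrank ℂ ↥(LinearMap.ker (Matrix.toLin' A - LinearMap.id)) = 3 ∧
        A.mulVec e = -e ∧ ∃ c : ℂ, aeval (fun i : Fin 4 => ∑ j : Fin 4, C (A i j) * X j) f = C c * f)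
    (hA' : A' * A' = 1 ∧ Module.finrank ℂ ↥(LinearMap.ker (Matrix.toLin' A' - LinearMap.id)) = 3 ∧
        A'.mulVec e' = -e' ∧ ∃ c : ℂ, aeval (fun i : Fin 4 => ∑ j : Fin 4, C (A' i j) * X j) f = C c * f)
    (hA'' : A'' * A'' = 1 ∧ Module.finrank ℂ ↥(LinearMap.ker (Matrix.toLin' A'' - LinearMap.id)) = 3 ∧
        A''.mulVec e'' = -e'' ∧ ∃ c : ℂ, aeval (fun i : Fin 4 => ∑ j : Fin 4, C (A'' i j) * X j) f = C c * f) :
    (¬ ∃ c : ℂ, A * A' = c • (1 : Matrix (Fin 4) (Fin 4) ℂ)) ∧ (∃ c : ℂ, (A * A') ^ 3 = c • (1 : Matrix (Fin 4) (Fin 4) ℂ)) ∧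
      ∃ c : ℂ, A'' = c • (A * A' * A) := by
  have he'0 : e' ≠ 0 := by
    intro h; apply he'; rw [h]; exact Submodule.zero_mem _
  have he''0 : e'' ≠ 0 := by
    intro h; apply he''1; rw [h]; exact Submodule.zero_mem _
  obtain ⟨A0, -, huniq⟩ := Groth.Agent.S18407.result f hf hf0 hsm e'' he''0 hE''
  obtain ⟨U, hUinj, hU⟩ := hE
  obtain ⟨U', hU'inj, hU'⟩ := hE'
  obtain ⟨U'', hU''inj, hU''⟩ := hE''
  have hfe : eval e f = 0 := (hU 0).2.2 e (hU 0).2.1
  have hfe' : eval e' f = 0 := (hU' 0).2.2 e' (hU' 0).2.1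
  have hfe'' : eval e'' f = 0 := (hU'' 0).2.2 e'' (hU'' 0).2.1
  obtain ⟨es1, es2⟩ := estruct f hf hsm A e he hfe hA
  obtain ⟨es1', es2'⟩ := estruct f hf hsm A' e' he'0 hfe' hA'
  obtain ⟨m, hAm, hαβ⟩ := es1 e'
  obtain ⟨m', hAm', hβα⟩ := es1' e
  obtain ⟨α, hα⟩ : ∃ α : ℂ, α = dd f e' e := ⟨_, rfl⟩
  obtain ⟨β, hβ⟩ : ∃ β : ℂ, β = dd f e e' := ⟨_, rfl⟩
  rw [← hα, ← hβ] at hαβ hβα
  have hform : ∀ a b : ℂ, eval (a • e + b • e') f = a * b * (b * α + a * β) := by
    intro a b
    rw [line_form f hf e e' hfe hfe', ← hα, ← hβ]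
  have hind := indep e e' he he'
  have h0 : α ≠ 0 := by
    intro h0
    have hβ0 : β = 0 := by rw [hβα, h0, zero_mul]
    apply hL
    intro u hu
    obtain ⟨a, b, rfl⟩ := Submodule.mem_span_pair.mp hu
    rw [hform, h0, hβ0]; ring
  have hβ0 : β ≠ 0 := by
    intro h; apply h0; rw [hαβ, h, zero_mul]
  have hm0 : m ≠ 0 := by
    intro h; apply h0; rw [hαβ, h, mul_zero]
  have hmm' : m * m' = 1 := by
    have h1 : α * (m * m' - 1) = 0 := by linear_combination -hαβ - m * hβα
    rcases mul_eq_zero.mp h1 with h | h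
    · exact absurd h h0
    · linear_combination h
  obtain ⟨a, b, hab⟩ := Submodule.mem_span_pair.mp he''L
  have hfab : eval (a • e + b • e') f = 0 := by rw [hab]; exact hfe''
  rw [hform] at hfab
  have ha0 : a ≠ 0 := by
    intro h
    apply he''2
    rw [← hab, h, zero_smul, zero_add]
    exact Submodule.smul_mem _ _ (Submodule.mem_span_singleton_self e')
  have hb0 : b ≠ 0 := by
    intro h
    apply he''1
    rw [← hab, h, zero_smul, add_zero]
    exact Submodule.smul_mem _ _ (Submodule.mem_span_singleton_self e)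
  have hrel : b * α + a * β = 0 := by
    rcases mul_eq_zero.mp hfab with h | h
    · exfalso
      rcases mul_eq_zero.mp h with h | h
      · exact ha0 h
      · exact hb0 h
    · exact h
  have ha : a = -(b * m) := by
    have h1 : β * (b * m + a) = 0 := by rw [hαβ] at hrel; linear_combination hrel
    rcases mul_eq_zero.mp h1 with h3 | h3
    · exact absurd h3 hβ0
    · linear_combination h3
  have he''A : e'' = b • A.mulVec e' := by
    rw [← hab, hAm, ha]
    funext i
    simp only [Pi.add_apply, Pi.sub_apply, Pi.smul_apply, smul_eq_mul]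
    ring
  have he''A' : e'' = (-(b * m)) • A'.mulVec e := by
    rw [← hab, hAm', ha]
    funext i
    simp only [Pi.add_apply, Pi.sub_apply, Pi.smul_apply, smul_eq_mul]
    linear_combination (-(b * e' i)) * hmm'
  -- the two conjugates are Eckardt involutions of e''
  have hP1 := conjP f A A' hA.1 hA'.1 hA'.2.1 es2 es2' e' hA'.2.2.1
  have hP2 := conjP f A' A hA'.1 hA.1 hA.2.1 es2' es2 e hA.2.2.1
  have hQ1 : (A * A' * A) * (A * A' * A) = 1 ∧
      Module.finrank ℂ ↥(LinearMap.ker (Matrix.toLin' (A * A' * A) - LinearMap.id)) = 3 ∧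
      (A * A' * A).mulVec e'' = -e'' ∧
      ∃ c : ℂ, aeval (fun i : Fin 4 => ∑ j : Fin 4, C ((A * A' * A) i j) * X j) f = C c * f := by
    refine ⟨hP1.1, hP1.2.1, ?_, hP1.2.2.2⟩
    rw [he''A, Matrix.mulVec_smul, hP1.2.2.1, smul_neg]
  have hQ2 : (A' * A * A') * (A' * A * A') = 1 ∧
      Module.finrank ℂ ↥(LinearMap.ker (Matrix.toLin' (A' * A * A') - LinearMap.id)) = 3 ∧
      (A' * A * A').mulVec e'' = -e'' ∧
      ∃ c : ℂ, aeval (fun i : Fin 4 => ∑ j : Fin 4, C ((A' * A * A') i j) * X j) f = C c * f := by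
    refine ⟨hP2.1, hP2.2.1, ?_, hP2.2.2.2⟩
    rw [he''A', Matrix.mulVec_smul, hP2.2.2.1, smul_neg]
  have e1 : A * A' * A = A0 := huniq _ hQ1
  have e2 : A' * A * A' = A0 := huniq _ hQ2
  have e3 : A'' = A0 := huniq _ hA''
  refine ⟨?_, ?_, ?_⟩
  · rintro ⟨c, hc⟩
    have h1 : (A * A').mulVec e' = (c • (1 : Matrix (Fin 4) (Fin 4) ℂ)).mulVec e' := by rw [hc]
    have h2 : (c • (1 : Matrix (Fin 4) (Fin 4) ℂ)).mulVec e' = c • e' := by
      funext i
      simp [Matrix.mulVec, dotProduct, Matrix.one_apply]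
    rw [h2, ← Matrix.mulVec_mulVec, hA'.2.2.1, Matrix.mulVec_neg, hAm] at h1
    have h3 : m • e + (-1 - c) • e' = 0 := by
      funext i
      have h := congrFun h1 i
      simp only [Pi.add_apply, Pi.sub_apply, Pi.neg_apply, Pi.smul_apply, Pi.zero_apply,
        smul_eq_mul] at h ⊢
      linear_combination h
    exact hm0 (hind _ _ h3).1
  · refine ⟨1, ?_⟩
    have h1 : (A * A') ^ 3 = (A * A' * A) * (A' * A * A') := by
      rw [pow_three]
      simp only [Matrix.mul_assoc]
    rw [h1, e1, e2, one_smul, ← e3]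
    exact hA''.1
  · exact ⟨1, by rw [one_smul, e1, e3]⟩

end Groth.Agent.S18411
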