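import Groth.Statements.S18428
import Groth.Agent.Lib.helper1.ContActAut

set_option autoImplicit false
universe u
open scoped FintypeCatDiscrete
open Pi1

namespace Groth.Agent.S18428

open CategoryTheory in
/-- Let G be a topological group, consider the category of finite sets (with the discrete topology)
equipped with a continuous action of G, and let F be the forgetful functor to finite sets, so that
Aut(F) is a profinite group. Then the homomorphism ι : G → Aut(F) letting g act on every finite
continuous G-set exists and is continuous, has dense image, and every continuous homomorphism from G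
to a finite discrete group factors uniquely through ι by a continuous homomorphism on Aut(F). As
Aut(F) is profinite, these properties say that ι induces an isomorphism of topological groups from
the profinite completion of G (the limit of the quotients G/U by open normal subgroups of finite
index) onto Aut(F). -/
theorem result (G : Type u) [Group G]
    [TopologicalSpace G] [IsTopologicalGroup G] :
    ∃ ι : G →* Aut (forget₂ (ContAction FintypeCat.{u} G) FintypeCat.{u}),
      Continuous ι ∧
      (∀ (g : G) (X : ContAction FintypeCat.{u} G) (x : X.obj.V), (ι g).hom.app X x = (X.obj.ρ g).hom x) ∧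
      DenseRange ι ∧
      ∀ (Q : Type u) [Group Q] [Finite Q] [TopologicalSpace Q] [DiscreteTopology Q] (π : G →* Q),
        Continuous π → ∃! ψ : Aut (forget₂ (ContAction FintypeCat.{u} G) FintypeCat.{u}) →* Q,
          Continuous ψ ∧ ψ.comp ι = π := by
  refine ⟨Groth.Agent.H1.ContActAut.iota G, Groth.Agent.H1.ContActAut.continuous_iota,
    fun g X x => rfl, Groth.Agent.H1.ContActAut.denseRange_iota, ?_⟩
  intro Q _ _ _ _ π hπ
  refine ⟨Groth.Agent.H1.ContActAut.psi π hπ,
    ⟨Groth.Agent.H1.ContActAut.continuous_psi π hπ, ?_⟩, ?_⟩
  · ext g
    exact Groth.Agent.H1.ContActAut.psi_iota π hπ g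
  · rintro ψ' ⟨hψ'c, hψ'⟩
    have h : (ψ' : Aut (forget₂ (ContAction FintypeCat.{u} G) FintypeCat.{u}) → Q) =
        Groth.Agent.H1.ContActAut.psi π hπ := by
      apply DenseRange.equalizer Groth.Agent.H1.ContActAut.denseRange_iota hψ'c
        (Groth.Agent.H1.ContActAut.continuous_psi π hπ)
      funext g
      change ψ' (Groth.Agent.H1.ContActAut.iota G g) =
        Groth.Agent.H1.ContActAut.psi π hπ (Groth.Agent.H1.ContActAut.iota G g)
      rw [Groth.Agent.H1.ContActAut.psi_iota]
      exact DFunLike.congr_fun hψ' g
    exact DFunLike.coe_injective h

end Groth.Agent.S18428
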