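import Groth.Statements.S18429
import Mathlib

set_option autoImplicit false
universe u
open SpinCurv

namespace Groth.Agent.S18429

/-- Let n ≥ 1 and r ≥ 2 be integers and let e_0, …, e_{nr} be integers with e_0 = e_{nr} = 0 (the
coefficients of a chain of nr - 1 exceptional curves joining two non-exceptional components with
coefficient zero) such that at every interior index 1 ≤ j ≤ nr - 1 the second difference e_{j-1} - 2
e_j + e_{j+1} (the degree of the divisor Σ e_i E_i on the j-th curve of the chain) is divisible by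
r. Then there are integers e'_0, …, e'_{nr}, with e'_j ≡ e_j modulo r for every interior j, with
e'_0 = e'_{nr} = 0 and every e'_j ≤ 0, whose second differences at the interior indices are each 0
or r, and are nonzero at no two distinct interior indices. -/
theorem result (n r : ℕ) (hn : 1 ≤ n) (hr : 2 ≤ r)
    (e : ℕ → ℤ) (he0 : e 0 = 0) (henr : e (n * r) = 0)
    (hdiv : ∀ j : ℕ, 1 ≤ j → j < n * r → (r : ℤ) ∣ e (j - 1) - 2 * e j + e (j + 1)) :
    ∃ e' : ℕ → ℤ, e' 0 = 0 ∧ e' (n * r) = 0 ∧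
      (∀ j : ℕ, 1 ≤ j → j < n * r → (r : ℤ) ∣ e' j - e j) ∧
      (∀ j : ℕ, j ≤ n * r → e' j ≤ 0) ∧
      (∀ j : ℕ, 1 ≤ j → j < n * r →
        (e' (j - 1) - 2 * e' j + e' (j + 1) = 0 ∨ e' (j - 1) - 2 * e' j + e' (j + 1) = r)) ∧
      (∀ j j' : ℕ, 1 ≤ j → j < n * r → 1 ≤ j' → j' < n * r →
        e' (j - 1) - 2 * e' j + e' (j + 1) ≠ 0 → e' (j' - 1) - 2 * e' j' + e' (j' + 1) ≠ 0 → j = j') := by
  -- e j ≡ j * e 1 mod r
  have hlin : ∀ j : ℕ, (j ≤ n * r → (r : ℤ) ∣ e j - j * e 1) ∧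
      (j + 1 ≤ n * r → (r : ℤ) ∣ e (j + 1) - (j + 1 : ℕ) * e 1) := by
    intro j
    induction j with
    | zero =>
      refine ⟨fun _ => ?_, fun _ => ?_⟩
      · simp [he0]
      · simp
    | succ j ih =>
      refine ⟨ih.2, fun h => ?_⟩
      have h1 := ih.1 (by omega)
      have h2 := ih.2 (by omega)
      have h3 := hdiv (j + 1) (by omega) (by omega)
      simp only [Nat.add_sub_cancel] at h3
      have : e (j + 1 + 1) - ((j + 1 + 1 : ℕ) : ℤ) * e 1
          = (e j - 2 * e (j + 1) + e (j + 1 + 1)) + 2 * (e (j + 1) - ((j + 1 : ℕ) : ℤ) * e 1)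
            - (e j - (j : ℤ) * e 1) := by
        push_cast; ring
      rw [this]
      exact dvd_sub (dvd_add h3 (Dvd.dvd.mul_left h2 2)) h1
  have hr0 : (0 : ℤ) < r := by exact_mod_cast (by omega : 0 < r)
  set a : ℤ := (-(e 1)) % r with ha
  have ha0 : 0 ≤ a := Int.emod_nonneg _ hr0.ne'
  have har : a < r := Int.emod_lt_of_pos _ hr0
  have hadiv : (r : ℤ) ∣ a + e 1 := by
    have := Int.emod_emod_of_dvd (-(e 1)) (dvd_refl (r : ℤ))
    have h2 : (r : ℤ) ∣ (-(e 1)) - (-(e 1)) % r := Int.dvd_self_sub_emod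
    have : a + e 1 = - ((-(e 1)) - (-(e 1)) % r) := by rw [ha]; ring
    rw [this]
    exact (dvd_neg).2 h2
  set j₀ : ℤ := n * (r - a) with hj₀
  let m : ℤ → ℤ := fun j => if j ≤ j₀ then 0 else j - j₀
  have hm : ∀ j : ℤ, m (j - 1) - 2 * m j + m (j + 1) = if j = j₀ then 1 else 0 := by
    intro j
    simp only [m]
    split_ifs <;> omega
  refine ⟨fun j => -a * j + r * m j, ?_, ?_, ?_, ?_, ?_, ?_⟩
  · have : m ((0 : ℕ) : ℤ) = 0 := by
      simp only [m]
      rw [if_pos]
      push_cast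
      rw [hj₀]
      exact mul_nonneg (by positivity) (by linarith)
    simp only [this]
    simp
  · have hge : j₀ ≤ ((n * r : ℕ) : ℤ) := by
      rw [hj₀]; push_cast
      nlinarith [mul_nonneg (Nat.cast_nonneg (α := ℤ) n) ha0]
    have : m ((n * r : ℕ) : ℤ) = ((n * r : ℕ) : ℤ) - j₀ := by
      simp only [m]
      split_ifs with h
      · omega
      · rfl
    simp only [this]
    rw [hj₀]; push_cast; ring
  · intro j hj1 hj2
    have h1 := (hlin j).1 hj2.le
    obtain ⟨q, hq⟩ := hadiv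
    have : -a * (j : ℤ) + r * m j - e j = - (e j - j * e 1) + r * (m j - q * j) := by
      have : a = r * q - e 1 := by linarith
      rw [this]; ring
    simp only
    rw [this]
    exact dvd_add ((dvd_neg).2 h1) (dvd_mul_right _ _)
  · intro j hj
    simp only [m]
    have hjn : (j : ℤ) ≤ (n : ℤ) * r := by exact_mod_cast hj
    have hj0 : (0 : ℤ) ≤ j := Nat.cast_nonneg j
    split_ifs with h
    · have := mul_nonneg ha0 hj0
      linarith
    · have : -a * (j : ℤ) + r * ((j : ℤ) - j₀) = (r - a) * ((j : ℤ) - n * r) := by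
        rw [hj₀]; ring
      rw [this]
      exact mul_nonpos_of_nonneg_of_nonpos (by linarith) (by linarith)
  · intro j hj1 hj2
    have hc : ((j - 1 : ℕ) : ℤ) = (j : ℤ) - 1 := by
      rw [Nat.cast_sub hj1]; simp
    have hc2 : ((j + 1 : ℕ) : ℤ) = (j : ℤ) + 1 := by push_cast; ring
    have : (-a * ((j - 1 : ℕ) : ℤ) + r * m ((j - 1 : ℕ) : ℤ)) - 2 * (-a * (j : ℤ) + r * m j)
        + (-a * ((j + 1 : ℕ) : ℤ) + r * m ((j + 1 : ℕ) : ℤ))
        = r * (m ((j : ℤ) - 1) - 2 * m j + m ((j : ℤ) + 1)) := by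
      rw [hc, hc2]; ring
    simp only
    rw [this, hm]
    split_ifs
    · right; ring
    · left; ring
  · intro j j' hj1 hj2 hj'1 hj'2 h1 h2
    have hc : ∀ i : ℕ, 1 ≤ i →
        (-a * ((i - 1 : ℕ) : ℤ) + r * m ((i - 1 : ℕ) : ℤ)) - 2 * (-a * (i : ℤ) + r * m i)
        + (-a * ((i + 1 : ℕ) : ℤ) + r * m ((i + 1 : ℕ) : ℤ))
        = r * (if (i : ℤ) = j₀ then 1 else 0) := by
      intro i hi
      have hc : ((i - 1 : ℕ) : ℤ) = (i : ℤ) - 1 := by
        rw [Nat.cast_sub hi]; simp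
      have hc2 : ((i + 1 : ℕ) : ℤ) = (i : ℤ) + 1 := by push_cast; ring
      rw [hc, hc2, ← hm]; ring
    simp only at h1 h2
    rw [hc j hj1] at h1
    rw [hc j' hj'1] at h2
    have e1 : (j : ℤ) = j₀ := by
      by_contra hne
      rw [if_neg hne] at h1
      simp at h1
    have e2 : (j' : ℤ) = j₀ := by
      by_contra hne
      rw [if_neg hne] at h2
      simp at h2
    exact_mod_cast e1.trans e2.symm

end Groth.Agent.S18429
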