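import Groth.Statements.S18457
import Mathlib

set_option autoImplicit false
open Finset
open Surf

namespace Groth.Agent.S18457

/-- In the Picard lattice of the plane blown up at n ≤ 8 points, with basis h, e_1, …, e_n, form h² = 1,
e_i² = −1, all other products 0, and anticanonical class D = 3h − Σ e_i, let d·h − Σ a_i e_i be a
class with all a_i ≥ 0 (the class of the strict transform of a degree-d plane curve having
multiplicity a_i at the i-th point) which is a (−2)-class orthogonal to D, that is d² − Σ a_i² = −2
and 3d = Σ a_i. Then one of the following holds: d = 1 and every a_i is 0 or 1 with exactly three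
equal to 1; d = 2 and every a_i is 0 or 1 with exactly six equal to 1; d = 3, n = 8, and one a_i
equals 2 while the remaining seven equal 1. The published statement is geometric: under the
general-position hypotheses on the points, no smooth rational curve on the blown-up plane is
orthogonal to D; this row is the lattice enumeration its proof carries out (a line through three of
the points, a conic through six, a cubic through all eight and singular at one). -/
theorem result (n : ℕ) (hn : n ≤ 8)
    (d : ℤ) (a : Fin n → ℤ) (ha : ∀ i, 0 ≤ a i)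
    (hsq : d ^ 2 - ∑ i, (a i) ^ 2 = -2) (hK : 3 * d = ∑ i, a i) :
    (d = 1 ∧ (∀ i, a i = 0 ∨ a i = 1) ∧ (Finset.univ.filter (fun i => a i = 1)).card = 3) ∨
      (d = 2 ∧ (∀ i, a i = 0 ∨ a i = 1) ∧ (Finset.univ.filter (fun i => a i = 1)).card = 6) ∨
      (d = 3 ∧ n = 8 ∧ ∃ j, a j = 2 ∧ ∀ i, i ≠ j → a i = 1) := by
  classical
  have hd0 : 0 ≤ d := by
    have : 0 ≤ ∑ i, a i := Finset.sum_nonneg (fun i _ => ha i)
    omega
  -- Cauchy–Schwarz
  have hcs : (∑ i, a i) ^ 2 ≤ (n : ℤ) * ∑ i, (a i) ^ 2 := by
    have := sq_sum_le_card_mul_sum_sq (s := (Finset.univ : Finset (Fin n))) (f := a)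
    simpa using this
  have hsq' : ∑ i, (a i) ^ 2 = d ^ 2 + 2 := by linarith
  have hn' : (n : ℤ) ≤ 8 := by exact_mod_cast hn
  have hd4 : d ≤ 4 := by
    rw [← hK, hsq'] at hcs
    have h1 : (n : ℤ) * (d ^ 2 + 2) ≤ 8 * (d ^ 2 + 2) := by
      apply mul_le_mul_of_nonneg_right hn'
      positivity
    nlinarith
  -- products of consecutive integers
  have hcons : ∀ x : ℤ, 0 ≤ (x - 1) * (x - 2) := by
    intro x
    rcases le_or_gt x 1 with h | h
    · nlinarith
    · have : 2 ≤ x := by omega
      nlinarith
  have hcons0 : ∀ x : ℤ, 0 ≤ x * (x - 1) := by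
    intro x
    rcases le_or_gt x 0 with h | h
    · nlinarith
    · have : 1 ≤ x := by omega
      nlinarith
  have hS12 : ∑ i, (a i - 1) * (a i - 2) = d ^ 2 + 2 - 9 * d + 2 * n := by
    have : ∀ i, (a i - 1) * (a i - 2) = (a i) ^ 2 - 3 * a i + 2 := fun i => by ring
    simp only [this, Finset.sum_add_distrib, Finset.sum_sub_distrib, ← Finset.mul_sum, hsq', ← hK]
    simp
    ring
  have hS01 : ∑ i, a i * (a i - 1) = d ^ 2 + 2 - 3 * d := by
    have : ∀ i, a i * (a i - 1) = (a i) ^ 2 - a i := fun i => by ring
    simp only [this, Finset.sum_sub_distrib, hsq', ← hK]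
  have hd_ne4 : d ≠ 4 := by
    rintro rfl
    have : 0 ≤ ∑ i, (a i - 1) * (a i - 2) := Finset.sum_nonneg (fun i _ => hcons _)
    rw [hS12] at this
    omega
  have hd_ne0 : d ≠ 0 := by
    rintro rfl
    have h0 : ∑ i, a i = 0 := by omega
    have h1 := (Finset.sum_eq_zero_iff_of_nonneg (fun i _ => ha i)).1 h0
    have : ∑ i, (a i) ^ 2 = 0 := by
      apply Finset.sum_eq_zero
      intro i hi
      rw [h1 i hi]; ring
    omega
  -- case analysis
  have h01 : (∑ i, a i * (a i - 1) = 0) → ∀ i, a i = 0 ∨ a i = 1 := by
    intro h i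
    have h1 := (Finset.sum_eq_zero_iff_of_nonneg (fun i _ => hcons0 (a i))).1 h i (Finset.mem_univ i)
    rcases mul_eq_zero.1 h1 with h2 | h2
    · left; exact h2
    · right; omega
  have hcount : (∀ i, a i = 0 ∨ a i = 1) →
      ((Finset.univ.filter (fun i => a i = 1)).card : ℤ) = ∑ i, a i := by
    intro h
    rw [Finset.card_filter]
    push_cast
    apply Finset.sum_congr rfl
    intro i _
    rcases h i with h | h <;> simp [h]
  have hd : d = 1 ∨ d = 2 ∨ d = 3 := by omega
  rcases hd with rfl | rfl | rfl
  · left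
    have h := h01 (by rw [hS01]; norm_num)
    refine ⟨rfl, h, ?_⟩
    have := hcount h
    omega
  · right; left
    have h := h01 (by rw [hS01]; norm_num)
    refine ⟨rfl, h, ?_⟩
    have := hcount h
    omega
  · right; right
    have hS : ∑ i, a i * (a i - 1) = 2 := by rw [hS01]; norm_num
    obtain ⟨j, hj⟩ : ∃ j, a j * (a j - 1) ≠ 0 := by
      by_contra hcon
      push_neg at hcon
      rw [Finset.sum_eq_zero (fun i _ => hcon i)] at hS
      omega
    have hsplit := Finset.add_sum_erase Finset.univ (fun i => a i * (a i - 1)) (Finset.mem_univ j)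
    beta_reduce at hsplit
    have hrest : 0 ≤ ∑ i ∈ Finset.univ.erase j, a i * (a i - 1) :=
      Finset.sum_nonneg (fun i _ => hcons0 _)
    have hj0 := hcons0 (a j)
    have haj := ha j
    have haj2 : a j = 2 := by
      have hle : a j * (a j - 1) ≤ 2 := by linarith
      have h3 : a j ≤ 2 := by
        by_contra hc
        push_neg at hc
        nlinarith
      interval_cases (a j) <;> simp_all
    have hrest0 : ∑ i ∈ Finset.univ.erase j, a i * (a i - 1) = 0 := by
      rw [haj2] at hsplit
      linarith
    have hothers : ∀ i, i ≠ j → a i = 0 ∨ a i = 1 := by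
      intro i hij
      have h1 := (Finset.sum_eq_zero_iff_of_nonneg (fun i _ => hcons0 (a i))).1 hrest0 i
        (Finset.mem_erase.2 ⟨hij, Finset.mem_univ i⟩)
      rcases mul_eq_zero.1 h1 with h2 | h2
      · left; exact h2
      · right; omega
    have hsplit2 := Finset.add_sum_erase Finset.univ a (Finset.mem_univ j)
    have hsum7 : ∑ i ∈ Finset.univ.erase j, a i = 7 := by
      rw [haj2] at hsplit2
      linarith
    have hcard : ((Finset.univ.erase j).card : ℤ) = n - 1 := by
      rw [Finset.card_erase_of_mem (Finset.mem_univ j)]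
      simp
      have : 1 ≤ n := by
        rcases n with _ | n
        · exact j.elim0
        · omega
      omega
    have hsum1 : ∑ i ∈ Finset.univ.erase j, (1 - a i) = (n : ℤ) - 1 - 7 := by
      rw [Finset.sum_sub_distrib, hsum7]
      simp only [Finset.sum_const, nsmul_eq_mul, mul_one]
      rw [hcard]
    have hnn : ∀ i ∈ Finset.univ.erase j, 0 ≤ 1 - a i := by
      intro i hi
      rcases hothers i (Finset.mem_erase.1 hi).1 with h | h <;> omega
    have hge : 0 ≤ ∑ i ∈ Finset.univ.erase j, (1 - a i) := Finset.sum_nonneg hnn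
    have hn8 : n = 8 := by omega
    have hzero : ∑ i ∈ Finset.univ.erase j, (1 - a i) = 0 := by
      rw [hsum1, hn8]; norm_num
    refine ⟨rfl, hn8, j, haj2, ?_⟩
    intro i hij
    have := (Finset.sum_eq_zero_iff_of_nonneg hnn).1 hzero i (Finset.mem_erase.2 ⟨hij, Finset.mem_univ i⟩)
    omega

end Groth.Agent.S18457
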