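import Groth.Statements.S18465
import Mathlib

set_option autoImplicit false
universe u v w x
open WildLef

namespace Groth.Agent.S18465

/-- Let f : G₁ → G₂ be a homomorphism of groups, ρ : G₂ → Γ a homomorphism with finite image G, and A a
nontrivial commutative ring. Let G₂ act on the group algebra A[G] through ρ followed by the left
regular representation, and G₁ through f. If the elements of A[G] fixed by G₁ coincide with those
fixed by G₂, then ρ ∘ f and ρ have the same image. (The published statement has Γ a general linear
group GL_r(A); over the zero ring that group is trivial, so requiring A nontrivial and allowing any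
target group loses nothing.) -/
theorem result
    {G₁ : Type u} {G₂ : Type v} {Γ : Type w} [Group G₁] [Group G₂] [Group Γ]
    (f : G₁ →* G₂) (ρ : G₂ →* Γ) [Finite ρ.range] (A : Type x) [CommRing A] [Nontrivial A]
    (h : {x : MonoidAlgebra A ρ.range | ∀ g : G₁, MonoidAlgebra.of A ρ.range (ρ.rangeRestrict (f g)) * x = x} =
      {x : MonoidAlgebra A ρ.range | ∀ g : G₂, MonoidAlgebra.of A ρ.range (ρ.rangeRestrict g) * x = x}) :
    (ρ.comp f).range = ρ.range := by
  classical
  set P := ρ.range with hP
  set K : Subgroup P := (ρ.rangeRestrict.comp f).range with hK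
  haveI : Fintype K := Fintype.ofFinite K
  let x : MonoidAlgebra A P := ∑ k : K, MonoidAlgebra.single (k : P) (1 : A)
  have hxcoeff : ∀ p : P, x.coeff p = if p ∈ K then 1 else 0 := by
    intro p
    simp only [x, MonoidAlgebra.coeff_sum, Finsupp.coe_finsetSum, Finset.sum_apply,
      MonoidAlgebra.coeff_single, Finsupp.single_apply]
    split_ifs with hp
    · rw [Finset.sum_eq_single ⟨p, hp⟩]
      · simp
      · intro b _ hb
        rw [if_neg]
        intro h; apply hb; exact Subtype.ext h
      · intro h; exact absurd (Finset.mem_univ _) h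
    · apply Finset.sum_eq_zero
      intro b _
      rw [if_neg]
      intro h; apply hp; rw [← h]; exact b.2
  have hx1 : x ∈ {x : MonoidAlgebra A P | ∀ g : G₁, MonoidAlgebra.of A P (ρ.rangeRestrict (f g)) * x = x} := by
    intro g
    apply MonoidAlgebra.coeff_injective
    ext p
    have hgK : ρ.rangeRestrict (f g) ∈ K := ⟨g, rfl⟩
    rw [MonoidAlgebra.of_apply, MonoidAlgebra.coeff_single_mul_apply, one_mul, hxcoeff, hxcoeff]
    congr 1
    apply propext
    constructor
    · intro h
      have := K.mul_mem hgK h
      simpa using this
    · intro h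
      exact K.mul_mem (K.inv_mem hgK) h
  rw [h] at hx1
  have hKtop : K = ⊤ := by
    rw [eq_top_iff]
    intro p _
    obtain ⟨g, hg⟩ := ρ.rangeRestrict_surjective p
    have h2 := hx1 g
    have h3 := congrArg (fun y => y.coeff p) h2
    simp only [MonoidAlgebra.of_apply, MonoidAlgebra.coeff_single_mul_apply, one_mul, hg,
      inv_mul_cancel, hxcoeff, K.one_mem, if_true] at h3
    by_contra hp
    rw [if_neg hp] at h3
    exact one_ne_zero h3
  apply le_antisymm
  · rintro _ ⟨g, rfl⟩
    exact ⟨f g, rfl⟩
  · intro γ hγ
    have : (⟨γ, hγ⟩ : P) ∈ K := hKtop ▸ Subgroup.mem_top _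
    obtain ⟨g, hg⟩ := this
    refine ⟨g, ?_⟩
    have := congrArg Subtype.val hg
    simpa using this

end Groth.Agent.S18465
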