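import Groth.Statements.S18466
import Mathlib

set_option autoImplicit false
universe u
open Hopf

namespace Groth.Agent.S18466

open TensorProduct

section
variable (k : Type u) [Field k] (n : ℕ) [NeZero n]

/-- a group-like element of the function algebra is a multiplicative function -/
theorem groupLike_mul {G : Type*} [Group G] [Fintype G] [DecidableEq G] (u : ConstGrp.F k G)
    (hu : IsGroupLikeElem k u) (a b : G) : u (a * b) = u a * u b := by
  have h := ConstGrp.pair_comul k G u a b
  rw [hu.comul_eq_tmul_self, ConstGrp.pair_tmul] at h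
  exact h.symm

theorem groupLike_one {G : Type*} [Group G] [Fintype G] [DecidableEq G] (u : ConstGrp.F k G)
    (hu : IsGroupLikeElem k u) : u 1 = 1 := by
  have h := hu.counit_eq_one
  rwa [ConstGrp.counit_apply] at h

theorem isGroupLikeElem_of_mul {G : Type*} [Group G] [Fintype G] [DecidableEq G] (u : ConstGrp.F k G)
    (h1 : u 1 = 1) (hmul : ∀ a b, u (a * b) = u a * u b) : IsGroupLikeElem k u where
  counit_eq_one := by rw [ConstGrp.counit_apply, h1]
  comul_eq_tmul_self := by
    rw [ConstGrp.comul_eq_sum]
    conv_rhs => rw [ConstGrp.eq_sum_smul_e u, TensorProduct.sum_tmul]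
    refine Finset.sum_congr rfl fun a _ => ?_
    rw [TensorProduct.tmul_sum]
    refine Finset.sum_congr rfl fun b _ => ?_
    rw [hmul, TensorProduct.smul_tmul_smul]

end

/-- Let k be a field and n ≥ 1. The constant group scheme ℤ/n over k is self-dual, that is, isomorphic
to its Cartier dual μ_n — equivalently the Hopf algebra of k-valued functions on the cyclic group of
order n and the group algebra of that group over k (group elements group-like) are isomorphic as
bialgebras — precisely when the field k has a primitive n-th root of unity, i.e. k contains n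
distinct n-th roots of unity in k. (The published statement assumes that the characteristic of k
does not divide n; both directions hold without that assumption by the same argument, since a
primitive n-th root of unity forces n to be nonzero in k, so it is omitted here.) -/
theorem result
    (k : Type u) [Field k] (n : ℕ) [NeZero n] :
    Nonempty (ConstGrp.F k (Multiplicative (ZMod n)) ≃ₐc[k] MonoidAlgebra k (Multiplicative (ZMod n))) ↔
      ∃ ζ : k, IsPrimitiveRoot ζ n := by
  have hgen : ∀ a : Multiplicative (ZMod n), ∃ j : ℕ,
      a = (Multiplicative.ofAdd (1 : ZMod n)) ^ j := by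
    intro a
    refine ⟨(Multiplicative.toAdd a).val, ?_⟩
    rw [← ofAdd_nsmul, nsmul_eq_mul, mul_one, ZMod.natCast_zmod_val]
    rfl
  have hg₀ : ∀ j : ℕ, (Multiplicative.ofAdd (1 : ZMod n)) ^ j = 1 ↔ n ∣ j := by
    intro j
    rw [← ofAdd_nsmul, nsmul_eq_mul, mul_one, ← ZMod.natCast_eq_zero_iff]
    exact Iff.rfl
  constructor
  · rintro ⟨e⟩
    obtain ⟨g₀, hg₀def⟩ : ∃ g₀ : Multiplicative (ZMod n), g₀ = Multiplicative.ofAdd (1 : ZMod n) :=
      ⟨_, rfl⟩
    rw [← hg₀def] at hg₀ hgen
    obtain ⟨u, hudef⟩ : ∃ u : ConstGrp.F k (Multiplicative (ZMod n)),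
        u = e.symm (MonoidAlgebra.single g₀ 1) := ⟨_, rfl⟩
    have hu : IsGroupLikeElem k u := by
      rw [hudef]
      exact (MonoidAlgebra.isGroupLikeElem_single_one g₀).map e.symm
    have hupow : ∀ j : ℕ, u ^ j = e.symm (MonoidAlgebra.single (g₀ ^ j) 1) := by
      intro j
      rw [hudef, ← map_pow, MonoidAlgebra.single_pow, one_pow]
    have hval : ∀ j : ℕ, u (g₀ ^ j) = (u g₀) ^ j := by
      intro j
      induction j with
      | zero => rw [pow_zero, pow_zero, groupLike_one k u hu]
      | succ j ih => rw [pow_succ, pow_succ, groupLike_mul k u hu, ih]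
    refine ⟨u g₀, ?_, ?_⟩
    · rw [← hval, (hg₀ n).mpr dvd_rfl, groupLike_one k u hu]
    · intro l hl
      rw [← hg₀]
      have h1 : u ^ l = 1 := by
        ext a
        obtain ⟨j, rfl⟩ := hgen a
        show (u (g₀ ^ j)) ^ l = 1
        rw [hval, ← pow_mul, mul_comm, pow_mul, hl, one_pow]
      rw [hupow] at h1
      have h2 : MonoidAlgebra.single (g₀ ^ l) (1 : k) =
          (1 : MonoidAlgebra k (Multiplicative (ZMod n))) := by
        apply e.symm.injective
        exact h1.trans (map_one e.symm).symm
      rw [MonoidAlgebra.one_def] at h2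
      exact MonoidAlgebra.single_left_injective (one_ne_zero) h2
  · rintro ⟨ζ, hζ⟩
    classical
    obtain ⟨ψ, hψ⟩ : ∃ ψ : AddChar (ZMod n) k, ∀ a : ZMod n, ψ a = ζ ^ a.val :=
      ⟨AddChar.zmodChar n hζ.pow_eq_one, fun a => rfl⟩
    -- characters
    let χ' : Multiplicative (ZMod n) → (Multiplicative (ZMod n) →* k) := fun g =>
      { toFun := fun h => ψ (Multiplicative.toAdd g * Multiplicative.toAdd h)
        map_one' := by rw [toAdd_one, mul_zero, AddChar.map_zero_eq_one]
        map_mul' := fun a b => by rw [toAdd_mul, mul_add, AddChar.map_add_eq_mul] }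
    have hχ' : ∀ g h, χ' g h = ψ (Multiplicative.toAdd g * Multiplicative.toAdd h) :=
      fun _ _ => rfl
    have hχinj : Function.Injective χ' := by
      intro g g' h
      have h1 := DFunLike.congr_fun h (Multiplicative.ofAdd (1 : ZMod n))
      rw [hχ', hχ', toAdd_ofAdd, mul_one, mul_one, hψ, hψ] at h1
      have h2 := hζ.pow_inj (ZMod.val_lt _) (ZMod.val_lt _) h1
      exact Multiplicative.toAdd.injective (ZMod.val_injective n h2)
    let χ : Multiplicative (ZMod n) →* ConstGrp.F k (Multiplicative (ZMod n)) :=
      { toFun := fun g => (fun h => χ' g h)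
        map_one' := by
          ext h
          show ψ (Multiplicative.toAdd (1 : Multiplicative (ZMod n)) * Multiplicative.toAdd h) = 1
          rw [toAdd_one, zero_mul, AddChar.map_zero_eq_one]
        map_mul' := fun a b => by
          ext h
          show ψ (Multiplicative.toAdd (a * b) * Multiplicative.toAdd h) =
            ψ (Multiplicative.toAdd a * Multiplicative.toAdd h) *
              ψ (Multiplicative.toAdd b * Multiplicative.toAdd h)
          rw [toAdd_mul, add_mul, AddChar.map_add_eq_mul] }
    have hχ : ∀ g h, χ g h = χ' g h := fun _ _ => rfl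
    have hgl : ∀ g, IsGroupLikeElem k (χ g) := fun g =>
      isGroupLikeElem_of_mul k (χ g) (map_one (χ' g)) (map_mul (χ' g))
    let Φ₀ : MonoidAlgebra k (Multiplicative (ZMod n)) →ₐ[k]
        ConstGrp.F k (Multiplicative (ZMod n)) :=
      MonoidAlgebra.lift k (ConstGrp.F k (Multiplicative (ZMod n))) (Multiplicative (ZMod n)) χ
    have hΦ₀ : ∀ g, Φ₀ (MonoidAlgebra.single g 1) = χ g := by
      intro g
      show MonoidAlgebra.lift k _ _ χ (MonoidAlgebra.single g 1) = χ g
      rw [MonoidAlgebra.lift_single, one_smul]
    let Φ : MonoidAlgebra k (Multiplicative (ZMod n)) →ₐc[k]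
        ConstGrp.F k (Multiplicative (ZMod n)) :=
      BialgHom.ofAlgHom Φ₀
        (by
          refine MonoidAlgebra.algHom_ext (fun g => ?_) (Subsingleton.elim _ _)
          show Coalgebra.counit (R := k) (Φ₀ (MonoidAlgebra.single g 1)) =
            Coalgebra.counit (R := k) (MonoidAlgebra.single g (1 : k))
          rw [hΦ₀, (hgl g).counit_eq_one,
            (MonoidAlgebra.isGroupLikeElem_single_one (R := k) (A := k) g).counit_eq_one])
        (by
          refine MonoidAlgebra.algHom_ext (fun g => ?_) (Subsingleton.elim _ _)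
          show Algebra.TensorProduct.map Φ₀ Φ₀ (Coalgebra.comul (R := k)
              (MonoidAlgebra.single g (1 : k))) =
            Coalgebra.comul (R := k) (Φ₀ (MonoidAlgebra.single g 1))
          rw [(MonoidAlgebra.isGroupLikeElem_single_one (R := k) (A := k) g).comul_eq_tmul_self,
            Algebra.TensorProduct.map_tmul, hΦ₀, (hgl g).comul_eq_tmul_self])
    have hLI : LinearIndependent k (fun g : Multiplicative (ZMod n) =>
        (χ' g : Multiplicative (ZMod n) → k)) :=
      (linearIndependent_monoidHom (Multiplicative (ZMod n)) k).comp χ' hχinj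
    have hinj : Function.Injective Φ₀.toLinearMap := by
      apply LinearMap.injective_of_linearIndependent
        (v := MonoidAlgebra.basis (Multiplicative (ZMod n)) k)
        (MonoidAlgebra.basis (Multiplicative (ZMod n)) k).span_eq
      have : (Φ₀.toLinearMap ∘ (MonoidAlgebra.basis (Multiplicative (ZMod n)) k)) =
          fun g : Multiplicative (ZMod n) => (χ' g : Multiplicative (ZMod n) → k) := by
        funext g
        show Φ₀ (MonoidAlgebra.basis (Multiplicative (ZMod n)) k g) = _
        rw [MonoidAlgebra.basis_apply, hΦ₀]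
        rfl
      rw [this]
      exact hLI
    have hfr : Module.finrank k (MonoidAlgebra k (Multiplicative (ZMod n))) =
        Module.finrank k (ConstGrp.F k (Multiplicative (ZMod n))) := by
      rw [Module.finrank_eq_card_basis (MonoidAlgebra.basis (Multiplicative (ZMod n)) k),
        Module.finrank_eq_card_basis (ConstGrp.basis k (Multiplicative (ZMod n)))]
    have hbij : Function.Bijective Φ :=
      ⟨hinj, (LinearMap.injective_iff_surjective_of_finrank_eq_finrank hfr).mp hinj⟩
    exact ⟨(BialgEquiv.ofBijective Φ hbij).symm⟩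

end Groth.Agent.S18466
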