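import Groth.Statements.S18467
import Mathlib

set_option autoImplicit false
universe u
open Hopf

namespace Groth.Agent.S18467

/-- Let p be a prime and R a commutative ring containing an element u with u(p − 1) = 1, and let χ be a
homomorphism from the group of units of ℤ/p to the group of units of R such that χ(m) − 1 is a unit
of R for every m ≠ 1. For 0 ≤ i < p − 1 put e_i = u · Σ_m χ(m)^{−i} [m] in the group algebra
R[(ℤ/p)ˣ]. Then the e_i are idempotents, e_i e_j = 0 for i ≠ j, and Σ_i e_i = 1. (The published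
statement is for algebras over the subring of the p-adic integers generated over ℤ by the values of
the Teichmüller character χ and by 1/(p(p − 1)); the hypotheses on R and χ here are the properties
of that situation which the computation uses, so the row is stated for every such pair.) -/
theorem result
    (p : ℕ) [Fact p.Prime] (R : Type u) [CommRing R] (u : R) (hu : u * ((p - 1 : ℕ) : R) = 1)
    (χ : (ZMod p)ˣ →* Rˣ) (hχ : ∀ m : (ZMod p)ˣ, m ≠ 1 → IsUnit ((χ m : R) - 1)) :
    CompleteOrthogonalIdempotents (fun i : Fin (p - 1) =>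
      u • ∑ m : (ZMod p)ˣ, ((χ m⁻¹ : Rˣ) : R) ^ (i : ℕ) • MonoidAlgebra.of R (ZMod p)ˣ m) := by
  classical
  have hcard : Fintype.card (ZMod p)ˣ = p - 1 := ZMod.card_units p
  set a : ℕ → (ZMod p)ˣ → R := fun i m => ((χ m⁻¹ : Rˣ) : R) ^ i with ha
  have ha_mul : ∀ i m n, a i (m * n) = a i m * a i n := by
    intro i m n; simp only [ha]; rw [mul_inv, map_mul, Units.val_mul, mul_pow]
  have hS : ∀ i j : ℕ, i < p - 1 → j < p - 1 → i ≠ j →
      ∑ m : (ZMod p)ˣ, a i m * a j m⁻¹ = 0 := by
    intro i j hi hj hij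
    obtain ⟨g, hg⟩ := IsCyclic.exists_generator (α := (ZMod p)ˣ)
    have hord : orderOf g = p - 1 := by
      rw [orderOf_eq_card_of_forall_mem_zpowers hg, Nat.card_eq_fintype_card, hcard]
    set m₀ : (ZMod p)ˣ := g ^ j * (g ^ i)⁻¹ with hm₀
    have hm₀1 : m₀ ≠ 1 := by
      intro h
      have h1 : g ^ j = g ^ i := by rwa [hm₀, mul_inv_eq_one] at h
      have := pow_injOn_Iio_orderOf (x := g) (by simpa [hord] using hj) (by simpa [hord] using hi) h1
      exact hij this.symm
    have hunit := hχ m₀ hm₀1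
    have hχm₀ : χ m₀ = (χ g⁻¹) ^ i * (χ g) ^ j := by
      rw [hm₀, map_mul, map_pow, map_inv, map_pow, map_inv, inv_pow, mul_comm]
    have hgg : a i g * a j g⁻¹ = (χ m₀ : R) := by
      rw [hχm₀]
      simp only [ha, inv_inv, Units.val_mul, Units.val_pow_eq_pow_val]
    have hθ : ∀ m, a i (g * m) * a j (g * m)⁻¹ = (χ m₀ : R) * (a i m * a j m⁻¹) := by
      intro m
      rw [ha_mul, mul_inv, ha_mul, ← hgg]; ring
    have hsum : ∑ m : (ZMod p)ˣ, a i m * a j m⁻¹ =
        (χ m₀ : R) * ∑ m : (ZMod p)ˣ, a i m * a j m⁻¹ := by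
      rw [Finset.mul_sum, ← Fintype.sum_equiv (Equiv.mulLeft g)
        (fun m => a i (g * m) * a j (g * m)⁻¹) (fun m => a i m * a j m⁻¹) (fun m => rfl)]
      exact Finset.sum_congr rfl fun m _ => hθ m
    have h0 : ((χ m₀ : R) - 1) * ∑ m : (ZMod p)ˣ, a i m * a j m⁻¹ = 0 := by
      rw [sub_mul, one_mul, ← hsum, sub_self]
    exact (hunit.mul_right_eq_zero).1 h0
  set A : ℕ → MonoidAlgebra R (ZMod p)ˣ := fun i =>
    ∑ m : (ZMod p)ˣ, a i m • MonoidAlgebra.of R (ZMod p)ˣ m with hA
  have hAA : ∀ i j : ℕ, A i * A j = ∑ n : (ZMod p)ˣ,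
      ((∑ m : (ZMod p)ˣ, a i m * a j m⁻¹) * a j n) • MonoidAlgebra.of R (ZMod p)ˣ n := by
    intro i j
    have h1 : A i * A j = ∑ m : (ZMod p)ˣ, ∑ n : (ZMod p)ˣ,
        (a i m * a j m⁻¹ * a j n) • MonoidAlgebra.of R (ZMod p)ˣ n := by
      simp only [hA]
      rw [Finset.sum_mul_sum]
      refine Finset.sum_congr rfl fun m _ => ?_
      rw [← Fintype.sum_equiv (Equiv.mulLeft m⁻¹)
        (fun n => (a i m • MonoidAlgebra.of R (ZMod p)ˣ m) *
          (a j (m⁻¹ * n) • MonoidAlgebra.of R (ZMod p)ˣ (m⁻¹ * n)))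
        (fun m' => (a i m • MonoidAlgebra.of R (ZMod p)ˣ m) *
          (a j m' • MonoidAlgebra.of R (ZMod p)ˣ m')) (fun _ => rfl)]
      refine Finset.sum_congr rfl fun n _ => ?_
      rw [smul_mul_smul_comm, ← map_mul, mul_inv_cancel_left, ha_mul, mul_assoc]
    rw [h1, Finset.sum_comm]
    refine Finset.sum_congr rfl fun n _ => ?_
    rw [Finset.sum_mul, Finset.sum_smul]
  rw [CompleteOrthogonalIdempotents.iff_ortho_complete]
  constructor
  · intro i j hij
    show (u • A i) * (u • A j) = 0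
    rw [smul_mul_smul_comm, hAA, hS i j i.2 j.2 (fun h => hij (Fin.ext h))]
    simp
  · show ∑ i : Fin (p - 1), u • A i = 1
    rw [← Finset.smul_sum]
    simp only [hA]
    rw [Finset.sum_comm]
    have hb : ∀ m : (ZMod p)ˣ, ∑ i : Fin (p - 1), a i m • MonoidAlgebra.of R (ZMod p)ˣ m =
        (if m = 1 then ((p - 1 : ℕ) : R) else 0) • MonoidAlgebra.of R (ZMod p)ˣ m := by
      intro m
      rw [← Finset.sum_smul]
      congr 1
      rw [Fin.sum_univ_eq_sum_range (fun i => a i m) (p - 1)]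
      simp only [ha]
      split_ifs with hm
      · subst hm; simp
      · have hm' : m⁻¹ ≠ 1 := by simpa using hm
        have hunit := hχ m⁻¹ hm'
        have hpow : ((χ m⁻¹ : Rˣ) : R) ^ (p - 1) = 1 := by
          rw [← Units.val_pow_eq_pow_val, ← map_pow, ← hcard, pow_card_eq_one, map_one, Units.val_one]
        have h0 : (∑ i ∈ Finset.range (p - 1), ((χ m⁻¹ : Rˣ) : R) ^ i) * (((χ m⁻¹ : Rˣ) : R) - 1) = 0 := by
          rw [geom_sum_mul, hpow, sub_self]
        exact (hunit.mul_left_eq_zero).1 h0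
    rw [Finset.sum_congr rfl fun m _ => hb m, Finset.sum_eq_single 1]
    · rw [if_pos rfl, smul_smul, hu, map_one, one_smul]
    · intro m _ hm; rw [if_neg hm, zero_smul]
    · intro h; exact absurd (Finset.mem_univ _) h

end Groth.Agent.S18467
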