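import Groth.Statements.S18470
import Mathlib

set_option autoImplicit false
universe u v
open OortTate

namespace Groth.Agent.S18470

/-- Let R be a commutative ring and A a commutative Hopf algebra over R which is finitely generated and
projective as an R-module (a finite locally free group scheme G = Spec A, not assumed commutative),
and let A^D = Hom_R(A, R) be the dual algebra with its Hopf structure (the Cartier dual when A is
cocommutative), whose counit is evaluation at 1. Then restriction of linear forms to the
augmentation ideal I = ker ε_A of A is a bijection from the augmentation ideal of A^D onto the dual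
module Hom_R(I, R): the dual of the augmentation ideal of G is the augmentation ideal of the dual.
The published statement is for a group scheme of order p over a Λ_p-algebra; the argument uses only
the splitting A = R·1 ⊕ ker ε. -/
theorem result
    (R : Type u) [CommRing R] (A : Type v) [CommRing A] [HopfAlgebra R A]
    [Module.Finite R A] [Module.Projective R A] :
    Function.Bijective (fun f : LinearMap.ker (Bialgebra.counitAlgHom R (CartDual.D R A)).toLinearMap =>
      ((CartDual.toDual R A) (f : CartDual.D R A)).comp
        (LinearMap.ker (Bialgebra.counitAlgHom R A).toLinearMap).subtype) := by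
  constructor
  · intro f f' hff
    apply Subtype.ext
    apply WithConv.ext
    apply LinearMap.ext
    intro a
    have hf1 : (f : CartDual.D R A) 1 = 0 := f.2
    have hf1' : (f' : CartDual.D R A) 1 = 0 := f'.2
    have hmem : a - algebraMap R A (Coalgebra.counit (R := R) a) ∈
        LinearMap.ker (Bialgebra.counitAlgHom R A).toLinearMap := by
      rw [LinearMap.mem_ker]
      show Coalgebra.counit (R := R) (a - algebraMap R A (Coalgebra.counit (R := R) a)) = 0
      rw [map_sub, Bialgebra.counit_algebraMap, sub_self]
    have h1 := LinearMap.congr_fun hff ⟨_, hmem⟩
    have h2 : (f : CartDual.D R A).ofConv (a - algebraMap R A (Coalgebra.counit (R := R) a)) =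
        (f' : CartDual.D R A).ofConv (a - algebraMap R A (Coalgebra.counit (R := R) a)) := h1
    rw [map_sub, map_sub, Algebra.algebraMap_eq_smul_one, map_smul, map_smul] at h2
    rw [CartDual.coe_apply] at hf1 hf1'
    rw [hf1, hf1', smul_zero, sub_zero, sub_zero] at h2
    exact h2
  · intro φ
    have hπ : ∀ a : A, ((LinearMap.id : A →ₗ[R] A) - (Algebra.linearMap R A) ∘ₗ
        (Coalgebra.counit (R := R) (A := A))) a ∈
        LinearMap.ker (Bialgebra.counitAlgHom R A).toLinearMap := by
      intro a
      rw [LinearMap.mem_ker]
      show Coalgebra.counit (R := R) (a - algebraMap R A (Coalgebra.counit (R := R) a)) = 0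
      rw [map_sub, Bialgebra.counit_algebraMap, sub_self]
    let π : A →ₗ[R] LinearMap.ker (Bialgebra.counitAlgHom R A).toLinearMap :=
      LinearMap.codRestrict _ _ hπ
    have hπ1 : π 1 = 0 := by
      apply Subtype.ext
      show (1 : A) - algebraMap R A (Coalgebra.counit (R := R) (1 : A)) = 0
      rw [Bialgebra.counit_one, map_one, sub_self]
    refine ⟨⟨WithConv.toConv (φ ∘ₗ π), ?_⟩, ?_⟩
    · rw [LinearMap.mem_ker]
      show φ (π 1) = 0
      rw [hπ1, map_zero]
    · apply LinearMap.ext
      intro a
      show φ (π a) = φ a
      congr 1
      apply Subtype.ext
      show (a : A) - algebraMap R A (Coalgebra.counit (R := R) (a : A)) = a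
      have ha : Coalgebra.counit (R := R) (a : A) = 0 := a.2
      rw [ha, map_zero, sub_zero]

end Groth.Agent.S18470
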