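import Groth.Statements.S18539
import Mathlib

set_option autoImplicit false
universe u v w
open CAlg

namespace Groth.Agent.S18539

/-- For a commutative ring R, R-modules M and N and elements r₁, r₂ of R such that r₁ is a
non-zero-divisor on N and r₂ is a non-zero-divisor on N/r₁N, the element r₁ is a non-zero-divisor on
the module Hom_R(M, N) and r₂ is a non-zero-divisor on Hom_R(M, N)/r₁Hom_R(M, N). (Weak regularity
on both sides: no condition that the quotient by (r₁, r₂) is nonzero, which would fail for M = 0.) -/
theorem result
    (R : Type u) [CommRing R] (M : Type v) (N : Type w)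
    [AddCommGroup M] [Module R M] [AddCommGroup N] [Module R N]
    (r₁ r₂ : R) (h : RingTheory.Sequence.IsWeaklyRegular N [r₁, r₂]) :
    RingTheory.Sequence.IsWeaklyRegular (M →ₗ[R] N) [r₁, r₂] := by
  rw [RingTheory.Sequence.isWeaklyRegular_cons_iff, RingTheory.Sequence.isWeaklyRegular_singleton_iff] at h ⊢
  obtain ⟨h1, h2⟩ := h
  rw [isSMulRegular_quotient_iff_mem_of_smul_mem] at h2
  refine ⟨?_, ?_⟩
  · intro f g hfg
    ext m
    have := congrArg (fun φ => φ m) hfg
    simp only [LinearMap.smul_apply] at this
    exact h1 this
  · rw [isSMulRegular_quotient_iff_mem_of_smul_mem]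
    intro f hf
    rw [Submodule.mem_smul_pointwise_iff_exists] at hf ⊢
    obtain ⟨g, _, hg⟩ := hf
    have hex : ∀ m : M, ∃ y : N, r₁ • y = f m := by
      intro m
      have := h2 (f m) (by
        rw [Submodule.mem_smul_pointwise_iff_exists]
        refine ⟨g m, Submodule.mem_top, ?_⟩
        have := congrArg (fun φ => φ m) hg
        simpa using this)
      rw [Submodule.mem_smul_pointwise_iff_exists] at this
      obtain ⟨y, _, hy⟩ := this
      exact ⟨y, hy⟩
    choose h hh using hex
    refine ⟨{ toFun := h, map_add' := ?_, map_smul' := ?_ }, Submodule.mem_top, ?_⟩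
    · intro a b
      apply h1
      simp only [smul_add, hh, map_add]
    · intro c a
      apply h1
      simp only [RingHom.id_apply, hh, map_smul]
      rw [smul_comm, hh]
    · ext m
      simp [hh]

end Groth.Agent.S18539
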