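import Groth.Statements.S18544
import Mathlib
import Groth.Agent.Lib.helper7.DetPow

set_option autoImplicit false
universe u
open CAlg

namespace Groth.Agent.S18544

/-- Let F be an algebraically closed field of characteristic zero, n a natural number, and N a nonzero
polynomial over F in the n² matrix entries whose evaluation on n × n matrices is multiplicative,
N(xy) = N(x)·N(y) for all x, y (a norm form on the matrix algebra M_n(F) over F). Then N is a
natural power of the determinant: for some m, N(x) = det(x)^m for every matrix x. The published
statement concerns norm forms of any central simple algebra over a subfield; this row is the case of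
the full matrix algebra over an algebraically closed field, which is the case its proof treats. -/
theorem result (F : Type u) [Field F] [IsAlgClosed F]
    [CharZero F] (n : ℕ) (N : MvPolynomial (Fin n × Fin n) F) (hN : N ≠ 0)
    (hmul : ∀ x y : Matrix (Fin n) (Fin n) F,
      MvPolynomial.eval (fun ij : Fin n × Fin n => (x * y) ij.1 ij.2) N =
        MvPolynomial.eval (fun ij : Fin n × Fin n => x ij.1 ij.2) N * MvPolynomial.eval (fun ij : Fin n × Fin n => y ij.1 ij.2) N) :
    ∃ m : ℕ, ∀ x : Matrix (Fin n) (Fin n) F,
      MvPolynomial.eval (fun ij : Fin n × Fin n => x ij.1 ij.2) N = x.det ^ m := by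
  obtain ⟨ev, hev⟩ : ∃ ev : Matrix (Fin n) (Fin n) F → F, ∀ x, ev x =
      MvPolynomial.eval (fun ij : Fin n × Fin n => x ij.1 ij.2) N := ⟨_, fun _ => rfl⟩
  have hmul' : ∀ x y, ev (x * y) = ev x * ev y := by
    intro x y; rw [hev, hev, hev]; exact hmul x y
  simp only [← hev]
  -- Step 0
  obtain ⟨x₀, hx₀⟩ : ∃ x₀, ev x₀ ≠ 0 := by
    by_contra h
    push Not at h
    apply hN
    apply MvPolynomial.funext
    intro v
    have := h (Matrix.of fun i j => v (i, j))
    rw [hev] at this
    rw [map_zero, ← this]
    rfl
  have h1 : ev 1 = 1 := by
    have := hmul' x₀ 1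
    rw [mul_one] at this
    exact (mul_left_cancel₀ hx₀ (by rw [mul_one]; exact this)).symm
  -- Step 2: transvections
  have htrans : ∀ (i j : Fin n), i ≠ j → ∀ c : F, ev (Matrix.transvection i j c) = 1 := by
    intro i j hij c
    let g : Fin n × Fin n → Polynomial F := fun ab =>
      Polynomial.C ((1 : Matrix (Fin n) (Fin n) F) ab.1 ab.2) +
        Polynomial.C (if ab = (i, j) then (1 : F) else 0) * Polynomial.X
    have hg : ∀ t : F, (MvPolynomial.aeval g N).eval t = ev (Matrix.transvection i j t) := by
      intro t
      have hfun : (fun a => Polynomial.eval t (g a)) =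
          (fun ij : Fin n × Fin n => Matrix.transvection i j t ij.1 ij.2) := by
        funext ab
        obtain ⟨a, b⟩ := ab
        simp only [g, Polynomial.eval_add, Polynomial.eval_C, Polynomial.eval_mul, Polynomial.eval_X,
          Matrix.transvection, Matrix.add_apply, Matrix.single_apply, Prod.mk.injEq]
        by_cases h : a = i ∧ b = j
        · rw [if_pos h, if_pos ⟨h.1.symm, h.2.symm⟩]; ring
        · rw [if_neg h, if_neg (fun hh => h ⟨hh.1.symm, hh.2.symm⟩)]; ring
      rw [Groth.Agent.Lib.helper7.H7_eval_aeval, hev, hfun]
    have := Groth.Agent.Lib.helper7.H7_addchar_poly (MvPolynomial.aeval g N) (by rw [hg, Matrix.transvection_zero, h1])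
      (fun s t => by rw [hg, hg, hg, ← hmul', Matrix.transvection_mul_transvection_same (i := i) (j := j) hij s t])
    rw [← hg, this, Polynomial.eval_one]
  -- Step 3: single-entry diagonals
  have hdiag1 : ∀ i : Fin n, ∃ m : ℕ, ∀ t : F,
      ev (Matrix.diagonal (Function.update (1 : Fin n → F) i t)) = t ^ m := by
    intro i
    let h : Fin n × Fin n → Polynomial F := fun ab =>
      if ab.1 = ab.2 then (if ab.1 = i then Polynomial.X else 1) else 0
    have hh : ∀ t : F, (MvPolynomial.aeval h N).eval t =
        ev (Matrix.diagonal (Function.update (1 : Fin n → F) i t)) := by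
      intro t
      have hfun : (fun a => Polynomial.eval t (h a)) = (fun ij : Fin n × Fin n =>
          Matrix.diagonal (Function.update (1 : Fin n → F) i t) ij.1 ij.2) := by
        funext ab
        obtain ⟨a, b⟩ := ab
        simp only [h, Matrix.diagonal_apply]
        by_cases hab : a = b
        · subst hab
          rw [if_pos rfl, if_pos rfl]
          by_cases hai : a = i
          · subst hai; simp
          · rw [if_neg hai, Function.update_of_ne hai]; simp
        · rw [if_neg hab, if_neg hab]; simp
      rw [Groth.Agent.Lib.helper7.H7_eval_aeval, hev, hfun]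
    have hup1 : Function.update (1 : Fin n → F) i 1 = 1 := by
      funext k
      by_cases hk : k = i
      · subst hk; simp
      · rw [Function.update_of_ne hk]
    have hne : MvPolynomial.aeval h N ≠ 0 := by
      intro h0
      have := hh 1
      have hd1 : Matrix.diagonal (1 : Fin n → F) = (1 : Matrix (Fin n) (Fin n) F) := Matrix.diagonal_one
      rw [h0, Polynomial.eval_zero, hup1, hd1, h1] at this
      exact zero_ne_one this
    have hupmul : ∀ s t : F, Matrix.diagonal (Function.update (1 : Fin n → F) i s) *
        Matrix.diagonal (Function.update (1 : Fin n → F) i t) =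
        Matrix.diagonal (Function.update (1 : Fin n → F) i (s * t)) := by
      intro s t
      rw [Matrix.diagonal_mul_diagonal]
      congr 1
      funext k
      by_cases hk : k = i
      · subst hk; simp
      · rw [Function.update_of_ne hk, Function.update_of_ne hk, Function.update_of_ne hk]; simp
    obtain ⟨m, hm⟩ := Groth.Agent.Lib.helper7.H7_mulchar_poly _ hne (fun s t => by rw [hh, hh, hh, ← hmul', hupmul])
    exact ⟨m, fun t => by rw [← hh, hm, Polynomial.eval_pow, Polynomial.eval_X]⟩
  choose m hm using hdiag1
  -- Step 4: all exponents equal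
  have hperm : ∀ (σ : Equiv.Perm (Fin n)) (A : Matrix (Fin n) (Fin n) F),
      ev (A.submatrix σ σ) = ev A := by
    intro σ A
    have e1 : (σ.toPEquiv.toMatrix : Matrix (Fin n) (Fin n) F) * A * σ.symm.toPEquiv.toMatrix =
        A.submatrix σ σ := by
      rw [PEquiv.toMatrix_toPEquiv_mul, PEquiv.mul_toMatrix_toPEquiv]
      rfl
    have e2 : (σ.toPEquiv.toMatrix : Matrix (Fin n) (Fin n) F) * σ.symm.toPEquiv.toMatrix = 1 := by
      rw [← PEquiv.toMatrix_trans, ← Equiv.toPEquiv_trans, Equiv.self_trans_symm,
        Equiv.toPEquiv_refl, PEquiv.toMatrix_refl]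
    rw [← e1, hmul', hmul', mul_comm (ev _) (ev A), mul_assoc, ← hmul', e2, h1, mul_one]
  have hmeq : ∀ i j : Fin n, m i = m j := by
    intro i j
    have hsub : (Matrix.diagonal (Function.update (1 : Fin n → F) j 2)).submatrix
        (Equiv.swap i j) (Equiv.swap i j) =
        Matrix.diagonal (Function.update (1 : Fin n → F) i 2) := by
      rw [Matrix.submatrix_diagonal_equiv]
      congr 1
      funext k
      simp only [Function.comp_apply]
      by_cases hk : k = i
      · subst hk; simp
      · rw [Function.update_of_ne hk]
        by_cases hkj : k = j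
        · subst hkj
          rw [Equiv.swap_apply_right, Function.update_of_ne (Ne.symm hk)]
          rfl
        · rw [Equiv.swap_apply_of_ne_of_ne hk hkj, Function.update_of_ne hkj]
    have h2 := hperm (Equiv.swap i j) (Matrix.diagonal (Function.update (1 : Fin n → F) j 2))
    rw [hsub, hm, hm] at h2
    have h3 : ((2 ^ m i : ℕ) : F) = ((2 ^ m j : ℕ) : F) := by push_cast; exact h2
    exact Nat.pow_right_injective (le_refl 2) (Nat.cast_injective h3)
  -- case n = 0
  by_cases hn : n = 0
  · subst hn
    refine ⟨0, fun x => ?_⟩
    have : x = 1 := Subsingleton.elim _ _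
    rw [this, h1, pow_zero]
  have hnpos : 0 < n := Nat.pos_of_ne_zero hn
  let i₀ : Fin n := ⟨0, hnpos⟩
  refine ⟨m i₀, fun x => ?_⟩
  have hm' : ∀ (i : Fin n) (t : F), ev (Matrix.diagonal (Function.update (1 : Fin n → F) i t)) =
      t ^ m i₀ := fun i t => by rw [hm, hmeq i i₀]
  -- Step 5: general diagonal
  have hdiag : ∀ d : Fin n → F, ev (Matrix.diagonal d) = (∏ k, d k) ^ m i₀ := by
    intro d
    have key : ∀ s : Finset (Fin n), ev (Matrix.diagonal (fun k => if k ∈ s then d k else 1)) =
        ∏ k ∈ s, d k ^ m i₀ := by
      intro s
      induction s using Finset.induction_on with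
      | empty =>
        have : (fun k : Fin n => if k ∈ (∅ : Finset (Fin n)) then d k else (1 : F)) = fun _ => 1 := by
          funext k; simp
        rw [this, Matrix.diagonal_one, h1, Finset.prod_empty]
      | insert a s ha ih =>
        have e : (fun k => if k ∈ insert a s then d k else (1 : F)) =
            fun k => (if k ∈ s then d k else 1) * Function.update (1 : Fin n → F) a (d a) k := by
          funext k
          by_cases hka : k = a
          · subst hka
            rw [if_pos (Finset.mem_insert_self _ _), if_neg ha, Function.update_self, one_mul]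
          · rw [Function.update_of_ne hka]
            by_cases hks : k ∈ s
            · rw [if_pos (Finset.mem_insert_of_mem hks), if_pos hks]; simp
            · rw [if_neg hks, if_neg (by
                intro h
                rcases Finset.mem_insert.1 h with h | h
                · exact hka h
                · exact hks h)]; simp
        rw [e, ← Matrix.diagonal_mul_diagonal, hmul', ih, hm', Finset.prod_insert ha, mul_comm]
    have := key Finset.univ
    simp only [Finset.mem_univ, if_true] at this
    rw [this, Finset.prod_pow]
  -- Step 6
  have hlist : ∀ L : List (Matrix.TransvectionStruct (Fin n) F),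
      ev (L.map Matrix.TransvectionStruct.toMatrix).prod = 1 := by
    intro L
    induction L with
    | nil => simpa using h1
    | cons t L ih =>
      rw [List.map_cons, List.prod_cons, hmul', ih, mul_one]
      exact htrans t.i t.j t.hij t.c
  obtain ⟨L, L', D, hx⟩ := Matrix.Pivot.exists_list_transvec_mul_diagonal_mul_list_transvec x
  rw [hx, hmul', hmul', hlist, hlist, one_mul, mul_one, hdiag, Matrix.det_mul, Matrix.det_mul,
    Matrix.TransvectionStruct.det_toMatrix_prod, Matrix.TransvectionStruct.det_toMatrix_prod,
    one_mul, mul_one, Matrix.det_diagonal]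

end Groth.Agent.S18544
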