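import Groth.Statements.S18546
import Mathlib

set_option autoImplicit false
open scoped TensorProduct
universe u v
open GalCoh

namespace Groth.Agent.S18546

section coords
variable {G : Type u} [Group G] {V : Type v} [AddCommGroup V] [Module (ZMod 2) V]
  (ρ : Representation (ZMod 2) G V) {n : ℕ} (b : Module.Basis (Fin n) (ZMod 2) V)

theorem coordV (g : G) (u : V) (i : Fin n) :
    b.repr (ρ g u) i = ∑ k, b.repr (ρ g (b k)) i * b.repr u k := by
  conv_lhs => rw [← b.sum_repr u]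
  rw [map_sum, map_sum, Finsupp.finsetSum_apply]
  refine Finset.sum_congr rfl (fun k _ => ?_)
  rw [map_smul, map_smul, Finsupp.smul_apply, smul_eq_mul, mul_comm]

theorem reprT (x y : V) (i j : Fin n) :
    (b.tensorProduct b).repr (x ⊗ₜ[ZMod 2] y) (i, j) = b.repr y j * b.repr x i := by
  rw [Module.Basis.tensorProduct_repr_tmul_apply, smul_eq_mul]

theorem coordT (g : G) (t : V ⊗[ZMod 2] V) (i j : Fin n) :
    (b.tensorProduct b).repr (ρ.tprod ρ g t) (i, j)
      = ∑ k, ∑ l, b.repr (ρ g (b k)) i * b.repr (ρ g (b l)) j *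
          (b.tensorProduct b).repr t (k, l) := by
  induction t using TensorProduct.induction_on with
  | zero => simp
  | tmul x y =>
    rw [Representation.tprod_apply, TensorProduct.map_tmul, reprT, coordV ρ b g y j,
      coordV ρ b g x i, Finset.sum_mul_sum, Finset.sum_comm]
    refine Finset.sum_congr rfl (fun k _ => Finset.sum_congr rfl (fun l _ => ?_))
    rw [reprT]; ring
  | add x y hx hy =>
    simp only [map_add, Finsupp.add_apply, mul_add, Finset.sum_add_distrib]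
    rw [hx, hy]

end coords


/-- Let G be a group acting linearly on a vector space V of dimension 2 over the field 𝔽₂ with two
elements. Then the short exact sequence of G-modules 0 → V → S²V → Λ²V → 0 (v ↦ v·v, x·y ↦ x ∧ y)
splits G-equivariantly. Here, for a vector space V over the field with two elements carrying a
linear action ρ of a group G, write N_a ⊆ V ⊗ V for the span of the tensors v ⊗ v and N_s ⊆ N_a for
the span of the tensors x ⊗ y + y ⊗ x, so that S²V = (V ⊗ V)/N_s, Λ²V = (V ⊗ V)/N_a and the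
surjection S²V → Λ²V, x·y ↦ x ∧ y, is G-equivariant for the diagonal action; a G-equivariant linear
section of this surjection is the same thing as a G-stable subspace W of V ⊗ V with W ∩ N_a = N_s
and W + N_a = V ⊗ V, which is how the splitting is stated. (The source has the absolute Galois group
of a field acting continuously; any group is allowed here.) -/
theorem result (G : Type u) [Group G] (V : Type v)
    [AddCommGroup V] [Module (ZMod 2) V] (hV : Module.finrank (ZMod 2) V = 2)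
    (ρ : Representation (ZMod 2) G V) :
    ∃ W : Submodule (ZMod 2) (V ⊗[ZMod 2] V),
      (∀ g : G, ∀ w ∈ W, ρ.tprod ρ g w ∈ W) ∧
      W ⊓ Submodule.span (ZMod 2) (Set.range fun v : V => v ⊗ₜ[ZMod 2] v) =
        Submodule.span (ZMod 2) (Set.range fun p : V × V => p.1 ⊗ₜ[ZMod 2] p.2 + p.2 ⊗ₜ[ZMod 2] p.1) ∧
      W ⊔ Submodule.span (ZMod 2) (Set.range fun v : V => v ⊗ₜ[ZMod 2] v) = ⊤ := by
  classical
  haveI : Module.Finite (ZMod 2) V := Module.finite_of_finrank_pos (by rw [hV]; norm_num)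
  obtain ⟨b⟩ : Nonempty (Module.Basis (Fin 2) (ZMod 2) V) :=
    ⟨Module.finBasisOfFinrankEq (ZMod 2) V hV⟩
  obtain ⟨B, hBdef⟩ : ∃ B : Module.Basis (Fin 2 × Fin 2) (ZMod 2) (V ⊗[ZMod 2] V),
      B = b.tensorProduct b := ⟨_, rfl⟩
  have hBrepr : ∀ (x y : V) (i j : Fin 2),
      B.repr (x ⊗ₜ[ZMod 2] y) (i, j) = b.repr y j * b.repr x i := by
    intro x y i j; rw [hBdef]; exact reprT b x y i j
  obtain ⟨A, hA⟩ : ∃ A : G → Fin 2 → Fin 2 → ZMod 2,
      ∀ g i k, A g i k = b.repr (ρ g (b k)) i := ⟨_, fun _ _ _ => rfl⟩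
  have hcV : ∀ g u i, b.repr (ρ g u) i = ∑ k, A g i k * b.repr u k := by
    intro g u i; rw [coordV ρ b g u i]; simp only [hA]
  have hcT : ∀ g t i j, B.repr (ρ.tprod ρ g t) (i, j)
      = ∑ k, ∑ l, A g i k * A g j l * B.repr t (k, l) := by
    intro g t i j; rw [hBdef, coordT ρ b g t i j]; simp only [hA]
  obtain ⟨Na, hNa⟩ : ∃ Na : Submodule (ZMod 2) (V ⊗[ZMod 2] V),
      Na = Submodule.span (ZMod 2) (Set.range fun v : V => v ⊗ₜ[ZMod 2] v) := ⟨_, rfl⟩
  obtain ⟨Ns, hNs⟩ : ∃ Ns : Submodule (ZMod 2) (V ⊗[ZMod 2] V),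
      Ns = Submodule.span (ZMod 2)
        (Set.range fun p : V × V => p.1 ⊗ₜ[ZMod 2] p.2 + p.2 ⊗ₜ[ZMod 2] p.1) := ⟨_, rfl⟩
  rw [← hNa, ← hNs]
  have hc01 : ∀ c : ZMod 2, c = 0 ∨ c = 1 := by decide
  obtain ⟨W, hWmem⟩ : ∃ W : Submodule (ZMod 2) (V ⊗[ZMod 2] V), ∀ t, t ∈ W ↔
      (B.repr t (0, 0) = B.repr t (0, 1) + B.repr t (1, 0) ∧
        B.repr t (1, 1) = B.repr t (0, 1) + B.repr t (1, 0)) := by
    refine ⟨{ carrier := {t | B.repr t (0, 0) = B.repr t (0, 1) + B.repr t (1, 0) ∧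
                B.repr t (1, 1) = B.repr t (0, 1) + B.repr t (1, 0)}
              add_mem' := ?_
              zero_mem' := ?_
              smul_mem' := ?_ }, fun t => Iff.rfl⟩
    · rintro x y ⟨hx1, hx2⟩ ⟨hy1, hy2⟩
      refine ⟨?_, ?_⟩
      · show B.repr (x + y) (0, 0) = B.repr (x + y) (0, 1) + B.repr (x + y) (1, 0)
        rw [map_add, Finsupp.add_apply, Finsupp.add_apply, Finsupp.add_apply, hx1, hy1]; ring
      · show B.repr (x + y) (1, 1) = B.repr (x + y) (0, 1) + B.repr (x + y) (1, 0)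
        rw [map_add, Finsupp.add_apply, Finsupp.add_apply, Finsupp.add_apply, hx2, hy2]; ring
    · refine ⟨?_, ?_⟩
      · show B.repr 0 (0, 0) = B.repr 0 (0, 1) + B.repr 0 (1, 0)
        rw [map_zero, Finsupp.zero_apply, Finsupp.zero_apply, Finsupp.zero_apply, add_zero]
      · show B.repr 0 (1, 1) = B.repr 0 (0, 1) + B.repr 0 (1, 0)
        rw [map_zero, Finsupp.zero_apply, Finsupp.zero_apply, Finsupp.zero_apply, add_zero]
    · rintro c x ⟨hx1, hx2⟩
      refine ⟨?_, ?_⟩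
      · show B.repr (c • x) (0, 0) = B.repr (c • x) (0, 1) + B.repr (c • x) (1, 0)
        rw [map_smul, Finsupp.smul_apply, Finsupp.smul_apply, Finsupp.smul_apply, hx1, smul_add]
      · show B.repr (c • x) (1, 1) = B.repr (c • x) (0, 1) + B.repr (c • x) (1, 0)
        rw [map_smul, Finsupp.smul_apply, Finsupp.smul_apply, Finsupp.smul_apply, hx2, smul_add]
  have hNsW : Ns ≤ W := by
    rw [hNs, Submodule.span_le]
    rintro _ ⟨p, rfl⟩
    show p.1 ⊗ₜ[ZMod 2] p.2 + p.2 ⊗ₜ[ZMod 2] p.1 ∈ W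
    rw [hWmem]
    simp only [map_add, Finsupp.add_apply, hBrepr]
    generalize b.repr p.1 0 = x0
    generalize b.repr p.1 1 = x1
    generalize b.repr p.2 0 = y0
    generalize b.repr p.2 1 = y1
    revert x0 x1 y0 y1
    decide
  have hNsNa : Ns ≤ Na := by
    rw [hNs, Submodule.span_le]
    rintro _ ⟨p, rfl⟩
    show p.1 ⊗ₜ[ZMod 2] p.2 + p.2 ⊗ₜ[ZMod 2] p.1 ∈ Na
    have h : p.1 ⊗ₜ[ZMod 2] p.2 + p.2 ⊗ₜ[ZMod 2] p.1
        = (p.1 + p.2) ⊗ₜ[ZMod 2] (p.1 + p.2) - p.1 ⊗ₜ[ZMod 2] p.1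
          - p.2 ⊗ₜ[ZMod 2] p.2 := by
      rw [TensorProduct.add_tmul, TensorProduct.tmul_add, TensorProduct.tmul_add]; abel
    rw [h, hNa]
    exact Submodule.sub_mem _ (Submodule.sub_mem _ (Submodule.subset_span ⟨_, rfl⟩)
      (Submodule.subset_span ⟨_, rfl⟩)) (Submodule.subset_span ⟨_, rfl⟩)
  have hkey : ∀ t ∈ Na, ∃ u : V, t - u ⊗ₜ[ZMod 2] u ∈ Ns := by
    intro t ht
    rw [hNa] at ht
    refine Submodule.span_induction
      (p := fun t _ => ∃ u : V, t - u ⊗ₜ[ZMod 2] u ∈ Ns) ?_ ?_ ?_ ?_ ht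
    · rintro _ ⟨v, rfl⟩
      refine ⟨v, ?_⟩
      show v ⊗ₜ[ZMod 2] v - v ⊗ₜ[ZMod 2] v ∈ Ns
      rw [sub_self]; exact Submodule.zero_mem _
    · exact ⟨0, by rw [TensorProduct.zero_tmul, sub_zero]; exact Submodule.zero_mem _⟩
    · rintro x y _ _ ⟨u1, h1⟩ ⟨u2, h2⟩
      refine ⟨u1 + u2, ?_⟩
      have hswap : u1 ⊗ₜ[ZMod 2] u2 + u2 ⊗ₜ[ZMod 2] u1 ∈ Ns := by
        rw [hNs]; exact Submodule.subset_span ⟨(u1, u2), rfl⟩
      have he : x + y - (u1 + u2) ⊗ₜ[ZMod 2] (u1 + u2)
          = (x - u1 ⊗ₜ[ZMod 2] u1) + (y - u2 ⊗ₜ[ZMod 2] u2)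
            - (u1 ⊗ₜ[ZMod 2] u2 + u2 ⊗ₜ[ZMod 2] u1) := by
        rw [TensorProduct.add_tmul, TensorProduct.tmul_add, TensorProduct.tmul_add]; abel
      rw [he]
      exact Submodule.sub_mem _ (Submodule.add_mem _ h1 h2) hswap
    · rintro c x _ ⟨u, h⟩
      rcases hc01 c with rfl | rfl
      · exact ⟨0, by
          rw [zero_smul, TensorProduct.zero_tmul, sub_zero]; exact Submodule.zero_mem _⟩
      · exact ⟨u, by rw [one_smul]; exact h⟩
  have hinv : ∀ g i j, ∑ k, A g⁻¹ i k * A g k j = if j = i then 1 else 0 := by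
    intro g i j
    have h := hcV g⁻¹ (ρ g (b j)) i
    rw [ρ.inv_self_apply, Module.Basis.repr_self_apply] at h
    simp only [hA] at h ⊢
    exact h.symm
  have hdet : ∀ g, A g 0 0 * A g 1 1 + A g 0 1 * A g 1 0 = 1 := by
    intro g
    have h00 := hinv g 0 0
    have h01 := hinv g 0 1
    have h10 := hinv g 1 0
    have h11 := hinv g 1 1
    simp only [Fin.sum_univ_two] at h00 h01 h10 h11
    generalize A g 0 0 = a00 at *
    generalize A g 0 1 = a01 at *
    generalize A g 1 0 = a10 at *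
    generalize A g 1 1 = a11 at *
    generalize A g⁻¹ 0 0 = c00 at *
    generalize A g⁻¹ 0 1 = c01 at *
    generalize A g⁻¹ 1 0 = c10 at *
    generalize A g⁻¹ 1 1 = c11 at *
    revert h00 h01 h10 h11
    revert a00 a01 a10 a11 c00 c01 c10 c11
    decide
  refine ⟨W, ?_, ?_, ?_⟩
  · intro g w hw
    obtain ⟨hw1, hw2⟩ := (hWmem w).mp hw
    rw [hWmem]
    simp only [hcT, Fin.sum_univ_two]
    have hd := hdet g
    generalize A g 0 0 = a00 at hd ⊢
    generalize A g 0 1 = a01 at hd ⊢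
    generalize A g 1 0 = a10 at hd ⊢
    generalize A g 1 1 = a11 at hd ⊢
    generalize B.repr w (0, 0) = w00 at hw1 hw2 ⊢
    generalize B.repr w (0, 1) = w01 at hw1 hw2 ⊢
    generalize B.repr w (1, 0) = w10 at hw1 hw2 ⊢
    generalize B.repr w (1, 1) = w11 at hw1 hw2 ⊢
    revert hd hw1 hw2
    revert a00 a01 a10 a11 w00 w01 w10 w11
    decide
  · apply le_antisymm
    · rintro t ⟨htW, htNa⟩
      obtain ⟨u, hu⟩ := hkey t htNa
      have huW : u ⊗ₜ[ZMod 2] u ∈ W := by
        have h := Submodule.sub_mem _ htW (hNsW hu)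
        rwa [sub_sub_cancel] at h
      have hu0 : u = 0 := by
        obtain ⟨h1, h2⟩ := (hWmem _).mp huW
        simp only [hBrepr] at h1 h2
        apply b.repr.injective
        rw [map_zero]
        have h3 : b.repr u 0 = 0 ∧ b.repr u 1 = 0 := by
          generalize b.repr u 0 = u0 at h1 h2 ⊢
          generalize b.repr u 1 = u1 at h1 h2 ⊢
          revert h1 h2
          revert u0 u1
          decide
        ext i
        rw [Finsupp.zero_apply]
        fin_cases i
        · exact h3.1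
        · exact h3.2
      rw [hu0, TensorProduct.zero_tmul, sub_zero] at hu
      exact hu
    · exact le_inf hNsW hNsNa
  · rw [eq_top_iff]
    intro t _
    obtain ⟨u, hu⟩ : ∃ u : V, u = (B.repr t (0, 0) + B.repr t (0, 1) + B.repr t (1, 0)) • b 0
        + (B.repr t (1, 1) + B.repr t (0, 1) + B.repr t (1, 0)) • b 1 := ⟨_, rfl⟩
    have hu0 : b.repr u 0 = B.repr t (0, 0) + B.repr t (0, 1) + B.repr t (1, 0) := by
      rw [hu]; simp [Module.Basis.repr_self_apply]
    have hu1 : b.repr u 1 = B.repr t (1, 1) + B.repr t (0, 1) + B.repr t (1, 0) := by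
      rw [hu]; simp [Module.Basis.repr_self_apply]
    have hmem : t - u ⊗ₜ[ZMod 2] u ∈ W := by
      rw [hWmem]
      simp only [map_sub, Finsupp.sub_apply, hBrepr, hu0, hu1]
      generalize B.repr t (0, 0) = t00
      generalize B.repr t (0, 1) = t01
      generalize B.repr t (1, 0) = t10
      generalize B.repr t (1, 1) = t11
      revert t00 t01 t10 t11
      decide
    have huNa : u ⊗ₜ[ZMod 2] u ∈ Na := by
      rw [hNa]; exact Submodule.subset_span ⟨u, rfl⟩
    have ht : t = (t - u ⊗ₜ[ZMod 2] u) + u ⊗ₜ[ZMod 2] u := by abel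
    rw [ht]
    exact Submodule.add_mem_sup hmem huNa

end Groth.Agent.S18546
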