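import Groth.Statements.S18547
import Mathlib
import Groth.Agent.S18546
import Groth.Agent.H8Aux18547

set_option autoImplicit false
open scoped TensorProduct
universe u v
open GalCoh

namespace Groth.Agent.S18547

open Groth.Agent.H8Aux18547

/-- Let G be a group acting linearly on a vector space V of dimension 3 over the field 𝔽₂ with two
elements. Then the connecting map (Λ²V)^G → H¹(G, V) of the short exact sequence of G-modules 0 → V
→ S²V → Λ²V → 0 (v ↦ v·v, x·y ↦ x ∧ y) is zero; equivalently, every G-invariant element of Λ²V is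
the image of a G-invariant element of S²V. Here N_a ⊆ V ⊗ V is the span of the tensors v ⊗ v and N_s
⊆ N_a the span of the tensors x ⊗ y + y ⊗ x, so that S²V = (V ⊗ V)/N_s and Λ²V = (V ⊗ V)/N_a with
the diagonal action of G, and the statement reads: a tensor t whose class modulo N_a is G-invariant
is congruent modulo N_a to a tensor whose class modulo N_s is G-invariant. (The source writes the
rank hypothesis on the lattice M with V = M/2M, which has the same rank, and has the absolute Galois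
group of a field acting; any group is allowed here.) -/
theorem result (G : Type u) [Group G] (V : Type v)
    [AddCommGroup V] [Module (ZMod 2) V] (hV : Module.finrank (ZMod 2) V = 3)
    (ρ : Representation (ZMod 2) G V) (t : V ⊗[ZMod 2] V)
    (ht : ∀ g : G, ρ.tprod ρ g t - t ∈ Submodule.span (ZMod 2) (Set.range fun v : V => v ⊗ₜ[ZMod 2] v)) :
    ∃ t' : V ⊗[ZMod 2] V, t' - t ∈ Submodule.span (ZMod 2) (Set.range fun v : V => v ⊗ₜ[ZMod 2] v) ∧
      ∀ g : G, ρ.tprod ρ g t' - t' ∈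
        Submodule.span (ZMod 2) (Set.range fun p : V × V => p.1 ⊗ₜ[ZMod 2] p.2 + p.2 ⊗ₜ[ZMod 2] p.1) := by
  classical
  haveI : Module.Finite (ZMod 2) V := Module.finite_of_finrank_pos (by rw [hV]; norm_num)
  obtain ⟨b⟩ : Nonempty (Module.Basis (Fin 3) (ZMod 2) V) :=
    ⟨Module.finBasisOfFinrankEq (ZMod 2) V hV⟩
  obtain ⟨B, hBdef⟩ : ∃ B : Module.Basis (Fin 3 × Fin 3) (ZMod 2) (V ⊗[ZMod 2] V),
      B = b.tensorProduct b := ⟨_, rfl⟩
  have hBapp : ∀ i j : Fin 3, B (i, j) = b i ⊗ₜ[ZMod 2] b j := by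
    intro i j; rw [hBdef]; exact Module.Basis.tensorProduct_apply' b b (i, j)
  have hBrepr : ∀ (x y : V) (i j : Fin 3),
      B.repr (x ⊗ₜ[ZMod 2] y) (i, j) = b.repr y j * b.repr x i := by
    intro x y i j; rw [hBdef]; exact Groth.Agent.S18546.reprT b x y i j
  obtain ⟨A, hA⟩ : ∃ A : G → Fin 3 → Fin 3 → ZMod 2,
      ∀ g i k, A g i k = b.repr (ρ g (b k)) i := ⟨_, fun _ _ _ => rfl⟩
  have hcT : ∀ g t i j, B.repr (ρ.tprod ρ g t) (i, j)
      = ∑ k, ∑ l, A g i k * A g j l * B.repr t (k, l) := by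
    intro g t i j; rw [hBdef, Groth.Agent.S18546.coordT ρ b g t i j]; simp only [hA]
  obtain ⟨Na, hNa⟩ : ∃ Na : Submodule (ZMod 2) (V ⊗[ZMod 2] V),
      Na = Submodule.span (ZMod 2) (Set.range fun v : V => v ⊗ₜ[ZMod 2] v) := ⟨_, rfl⟩
  obtain ⟨Ns, hNs⟩ : ∃ Ns : Submodule (ZMod 2) (V ⊗[ZMod 2] V),
      Ns = Submodule.span (ZMod 2)
        (Set.range fun p : V × V => p.1 ⊗ₜ[ZMod 2] p.2 + p.2 ⊗ₜ[ZMod 2] p.1) := ⟨_, rfl⟩
  rw [← hNa] at ht ⊢
  rw [← hNs]
  have hNasym : ∀ s ∈ Na, ∀ i j, B.repr s (i, j) = B.repr s (j, i) := by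
    intro s hs
    rw [hNa] at hs
    refine Submodule.span_induction
      (p := fun s _ => ∀ i j, B.repr s (i, j) = B.repr s (j, i)) ?_ ?_ ?_ ?_ hs
    · rintro _ ⟨v, rfl⟩ i j
      show B.repr (v ⊗ₜ[ZMod 2] v) (i, j) = B.repr (v ⊗ₜ[ZMod 2] v) (j, i)
      rw [hBrepr, hBrepr, mul_comm]
    · intro i j; rw [map_zero]; rfl
    · intro x y _ _ hx hy i j
      rw [map_add, Finsupp.add_apply, Finsupp.add_apply, hx, hy]
    · intro c x _ hx i j
      rw [map_smul, Finsupp.smul_apply, Finsupp.smul_apply, hx]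
  have hsw : ∀ x y : V, x ⊗ₜ[ZMod 2] y + y ⊗ₜ[ZMod 2] x ∈ Ns := by
    intro x y; rw [hNs]; exact Submodule.subset_span ⟨(x, y), rfl⟩
  have hsq : ∀ x : V, x ⊗ₜ[ZMod 2] x ∈ Na := by
    intro x; rw [hNa]; exact Submodule.subset_span ⟨x, rfl⟩
  have hNsNa : Ns ≤ Na := by
    rw [hNs, Submodule.span_le]
    rintro _ ⟨p, rfl⟩
    show p.1 ⊗ₜ[ZMod 2] p.2 + p.2 ⊗ₜ[ZMod 2] p.1 ∈ Na
    have h : p.1 ⊗ₜ[ZMod 2] p.2 + p.2 ⊗ₜ[ZMod 2] p.1
        = (p.1 + p.2) ⊗ₜ[ZMod 2] (p.1 + p.2) - p.1 ⊗ₜ[ZMod 2] p.1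
          - p.2 ⊗ₜ[ZMod 2] p.2 := by
      rw [TensorProduct.add_tmul, TensorProduct.tmul_add, TensorProduct.tmul_add]; abel
    rw [h]
    exact Submodule.sub_mem _ (Submodule.sub_mem _ (hsq _) (hsq _)) (hsq _)
  have hexp : ∀ s, (∀ i j, B.repr s (i, j) = B.repr s (j, i)) →
      s = B.repr s (0, 0) • (b 0 ⊗ₜ[ZMod 2] b 0) + B.repr s (1, 1) • (b 1 ⊗ₜ[ZMod 2] b 1)
        + B.repr s (2, 2) • (b 2 ⊗ₜ[ZMod 2] b 2)
        + B.repr s (0, 1) • (b 0 ⊗ₜ[ZMod 2] b 1 + b 1 ⊗ₜ[ZMod 2] b 0)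
        + B.repr s (0, 2) • (b 0 ⊗ₜ[ZMod 2] b 2 + b 2 ⊗ₜ[ZMod 2] b 0)
        + B.repr s (1, 2) • (b 1 ⊗ₜ[ZMod 2] b 2 + b 2 ⊗ₜ[ZMod 2] b 1) := by
    intro s h1
    have hs := B.sum_repr s
    rw [Fintype.sum_prod_type] at hs
    simp only [Fin.sum_univ_three, hBapp] at hs
    rw [h1 1 0, h1 2 0, h1 2 1] at hs
    conv_lhs => rw [← hs]
    simp only [smul_add]
    abel
  have hsymNa : ∀ s, (∀ i j, B.repr s (i, j) = B.repr s (j, i)) → s ∈ Na := by
    intro s h1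
    rw [hexp s h1]
    refine Submodule.add_mem _ (Submodule.add_mem _ (Submodule.add_mem _ (Submodule.add_mem _
      (Submodule.add_mem _ ?_ ?_) ?_) ?_) ?_) ?_
    · exact Submodule.smul_mem _ _ (hsq _)
    · exact Submodule.smul_mem _ _ (hsq _)
    · exact Submodule.smul_mem _ _ (hsq _)
    · exact Submodule.smul_mem _ _ (hNsNa (hsw _ _))
    · exact Submodule.smul_mem _ _ (hNsNa (hsw _ _))
    · exact Submodule.smul_mem _ _ (hNsNa (hsw _ _))
  have hsymNs : ∀ s, (∀ i j, B.repr s (i, j) = B.repr s (j, i)) →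
      (∀ i, B.repr s (i, i) = 0) → s ∈ Ns := by
    intro s h1 h2
    have h := hexp s h1
    rw [h2 0, h2 1, h2 2, zero_smul, zero_smul, zero_smul, zero_add, zero_add, zero_add] at h
    rw [h]
    refine Submodule.add_mem _ (Submodule.add_mem _ ?_ ?_) ?_
    · exact Submodule.smul_mem _ _ (hsw _ _)
    · exact Submodule.smul_mem _ _ (hsw _ _)
    · exact Submodule.smul_mem _ _ (hsw _ _)
  have hP : ∀ g s i j, B.repr (ρ.tprod ρ g s) (i, j) + B.repr (ρ.tprod ρ g s) (j, i)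
      = ∑ k, ∑ l, A g i k * A g j l * (B.repr s (k, l) + B.repr s (l, k)) := by
    intro g s i j
    rw [hcT, hcT]
    simp only [mul_add, Finset.sum_add_distrib]
    congr 1
    rw [Finset.sum_comm]
    refine Finset.sum_congr rfl (fun k _ => Finset.sum_congr rfl (fun l _ => ?_))
    ring
  obtain ⟨a, ha⟩ : ∃ a, a = B.repr t (0, 1) + B.repr t (1, 0) := ⟨_, rfl⟩
  obtain ⟨b', hb'⟩ : ∃ b', b' = B.repr t (0, 2) + B.repr t (2, 0) := ⟨_, rfl⟩
  obtain ⟨c, hc⟩ : ∃ c, c = B.repr t (1, 2) + B.repr t (2, 1) := ⟨_, rfl⟩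
  have hpm : ∀ k l, B.repr t (k, l) + B.repr t (l, k) = pm a b' c k l := by
    intro k l
    fin_cases k <;> fin_cases l <;>
      simp [pm, ha, hb', hc, CharTwo.add_self_eq_zero] <;> exact add_comm _ _
  have hmat : ∀ g i k, A g i k = mat (A g 0 0) (A g 0 1) (A g 0 2) (A g 1 0) (A g 1 1) (A g 1 2)
      (A g 2 0) (A g 2 1) (A g 2 2) i k := by
    intro g i k
    fin_cases i <;> fin_cases k <;> rfl
  have hsub : ∀ x y z w : ZMod 2, x + z = y + w → x - y = z - w := by decide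
  have hsub' : ∀ x y z w : ZMod 2, x - y = z - w → x + z = y + w := by decide
  have hH : ∀ g i j, ∑ k, ∑ l, A g i k * A g j l * pm a b' c k l
      = pm a b' c i j := by
    intro g i j
    have h1 := hNasym _ (ht g) i j
    rw [map_sub, Finsupp.sub_apply, Finsupp.sub_apply] at h1
    have h2 := hsub' _ _ _ _ h1
    rw [hP] at h2
    simp only [hpm] at h2
    exact h2
  obtain ⟨t', ht'⟩ : ∃ t' : V ⊗[ZMod 2] V, ∀ i j, B.repr t' (i, j) = tau a b' c i j :=
    ⟨B.repr.symm (Finsupp.equivFunOnFinite.symm (fun p => tau a b' c p.1 p.2)),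
      fun i j => by rw [LinearEquiv.apply_symm_apply]; rfl⟩
  obtain ⟨hτ1, hτ2, hτ3⟩ := tauP a b' c
  refine ⟨t', ?_, ?_⟩
  · apply hsymNa
    refine sym3 (fun i j => B.repr (t' - t) (i, j)) ?_ ?_ ?_
    · show B.repr (t' - t) (0, 1) = B.repr (t' - t) (1, 0)
      rw [map_sub, Finsupp.sub_apply, Finsupp.sub_apply, ht', ht']
      exact hsub _ _ _ _ (by rw [hτ1, ha])
    · show B.repr (t' - t) (0, 2) = B.repr (t' - t) (2, 0)
      rw [map_sub, Finsupp.sub_apply, Finsupp.sub_apply, ht', ht']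
      exact hsub _ _ _ _ (by rw [hτ2, hb'])
    · show B.repr (t' - t) (1, 2) = B.repr (t' - t) (2, 1)
      rw [map_sub, Finsupp.sub_apply, Finsupp.sub_apply, ht', ht']
      exact hsub _ _ _ _ (by rw [hτ3, hc])
  · intro g
    have hk := key (A g 0 0) (A g 0 1) (A g 0 2) (A g 1 0) (A g 1 1) (A g 1 2)
      (A g 2 0) (A g 2 1) (A g 2 2) a b' c
    simp only [← hmat g] at hk
    obtain ⟨hk1, hk2⟩ := hk (by rw [hH g 0 1]; rfl) (by rw [hH g 0 2]; rfl) (by rw [hH g 1 2]; rfl)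
    apply hsymNs
    · intro i j
      rw [map_sub, Finsupp.sub_apply, Finsupp.sub_apply, hcT, hcT]
      simp only [ht']
      exact hk1 i j
    · intro i
      rw [map_sub, Finsupp.sub_apply, hcT]
      simp only [ht']
      exact hk2 i

end Groth.Agent.S18547
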