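import Groth.Statements.S18548
import Mathlib

set_option autoImplicit false
open scoped TensorProduct
universe u v w
open GalCoh

namespace Groth.Agent.S18548

/-- Let G be a group acting linearly on a vector space V over the field 𝔽₂ with two elements, and
suppose V is a permutation module: G permutes the vectors of some basis of V. Then the short exact
sequence of G-modules 0 → V → S²V → Λ²V → 0 (v ↦ v·v, x·y ↦ x ∧ y) splits G-equivariantly. Here, for
a vector space V over the field with two elements carrying a linear action ρ of a group G, write N_a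
⊆ V ⊗ V for the span of the tensors v ⊗ v and N_s ⊆ N_a for the span of the tensors x ⊗ y + y ⊗ x,
so that S²V = (V ⊗ V)/N_s, Λ²V = (V ⊗ V)/N_a and the surjection S²V → Λ²V, x·y ↦ x ∧ y, is
G-equivariant for the diagonal action; a G-equivariant linear section of this surjection is the same
thing as a G-stable subspace W of V ⊗ V with W ∩ N_a = N_s and W + N_a = V ⊗ V, which is how the
splitting is stated. (The source has the absolute Galois group of a field acting continuously; any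
group and any basis index set are allowed here.) -/
theorem result (G : Type u) [Group G] (V : Type v)
    [AddCommGroup V] [Module (ZMod 2) V] (ρ : Representation (ZMod 2) G V)
    (ι : Type w) (b : Module.Basis ι (ZMod 2) V) (hb : ∀ g : G, ∀ i : ι, ∃ j : ι, ρ g (b i) = b j) :
    ∃ W : Submodule (ZMod 2) (V ⊗[ZMod 2] V),
      (∀ g : G, ∀ w ∈ W, ρ.tprod ρ g w ∈ W) ∧
      W ⊓ Submodule.span (ZMod 2) (Set.range fun v : V => v ⊗ₜ[ZMod 2] v) =
        Submodule.span (ZMod 2) (Set.range fun p : V × V => p.1 ⊗ₜ[ZMod 2] p.2 + p.2 ⊗ₜ[ZMod 2] p.1) ∧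
      W ⊔ Submodule.span (ZMod 2) (Set.range fun v : V => v ⊗ₜ[ZMod 2] v) = ⊤ := by
  classical
  obtain ⟨B, hBdef⟩ : ∃ B : Module.Basis (ι × ι) (ZMod 2) (V ⊗[ZMod 2] V),
      B = b.tensorProduct b := ⟨_, rfl⟩
  have hBapp : ∀ p : ι × ι, B p = b p.1 ⊗ₜ[ZMod 2] b p.2 := by
    intro p; rw [hBdef]; exact Module.Basis.tensorProduct_apply' b b p
  have hBrepr : ∀ (x y : V) (i j : ι),
      B.repr (x ⊗ₜ[ZMod 2] y) (i, j) = b.repr y j * b.repr x i := by
    intro x y i j; rw [hBdef, Module.Basis.tensorProduct_repr_tmul_apply, smul_eq_mul]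
  have hc01 : ∀ c : ZMod 2, c = 0 ∨ c = 1 := by decide
  obtain ⟨Na, hNa⟩ : ∃ Na : Submodule (ZMod 2) (V ⊗[ZMod 2] V),
      Na = Submodule.span (ZMod 2) (Set.range fun v : V => v ⊗ₜ[ZMod 2] v) := ⟨_, rfl⟩
  obtain ⟨Ns, hNs⟩ : ∃ Ns : Submodule (ZMod 2) (V ⊗[ZMod 2] V),
      Ns = Submodule.span (ZMod 2)
        (Set.range fun p : V × V => p.1 ⊗ₜ[ZMod 2] p.2 + p.2 ⊗ₜ[ZMod 2] p.1) := ⟨_, rfl⟩
  rw [← hNa, ← hNs]
  obtain ⟨W, hW⟩ : ∃ W : Submodule (ZMod 2) (V ⊗[ZMod 2] V),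
      W = Submodule.span (ZMod 2) (B '' {p : ι × ι | p.1 ≠ p.2}) := ⟨_, rfl⟩
  have hWmem : ∀ t, t ∈ W ↔ ∀ i, B.repr t (i, i) = 0 := by
    intro t
    rw [hW, Module.Basis.mem_span_image]
    constructor
    · intro h i
      by_contra hne
      have hmem : (i, i) ∈ (B.repr t).support := Finsupp.mem_support_iff.mpr hne
      exact (h (Finset.mem_coe.mpr hmem)) rfl
    · intro h p hp
      have hp' := Finsupp.mem_support_iff.mp (Finset.mem_coe.mp hp)
      show p.1 ≠ p.2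
      intro heq
      apply hp'
      have hpe : p = (p.1, p.1) := Prod.ext rfl heq.symm
      rw [hpe]; exact h p.1
  have hNsW : Ns ≤ W := by
    rw [hNs, Submodule.span_le]
    rintro _ ⟨p, rfl⟩
    show p.1 ⊗ₜ[ZMod 2] p.2 + p.2 ⊗ₜ[ZMod 2] p.1 ∈ W
    rw [hWmem]
    intro i
    rw [map_add, Finsupp.add_apply, hBrepr, hBrepr, mul_comm]
    exact CharTwo.add_self_eq_zero _
  have hNsNa : Ns ≤ Na := by
    rw [hNs, Submodule.span_le]
    rintro _ ⟨p, rfl⟩
    show p.1 ⊗ₜ[ZMod 2] p.2 + p.2 ⊗ₜ[ZMod 2] p.1 ∈ Na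
    have h : p.1 ⊗ₜ[ZMod 2] p.2 + p.2 ⊗ₜ[ZMod 2] p.1
        = (p.1 + p.2) ⊗ₜ[ZMod 2] (p.1 + p.2) - p.1 ⊗ₜ[ZMod 2] p.1
          - p.2 ⊗ₜ[ZMod 2] p.2 := by
      rw [TensorProduct.add_tmul, TensorProduct.tmul_add, TensorProduct.tmul_add]; abel
    rw [h, hNa]
    exact Submodule.sub_mem _ (Submodule.sub_mem _ (Submodule.subset_span ⟨_, rfl⟩)
      (Submodule.subset_span ⟨_, rfl⟩)) (Submodule.subset_span ⟨_, rfl⟩)
  have hkey : ∀ t ∈ Na, ∃ u : V, t - u ⊗ₜ[ZMod 2] u ∈ Ns := by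
    intro t ht
    rw [hNa] at ht
    refine Submodule.span_induction
      (p := fun t _ => ∃ u : V, t - u ⊗ₜ[ZMod 2] u ∈ Ns) ?_ ?_ ?_ ?_ ht
    · rintro _ ⟨v, rfl⟩
      refine ⟨v, ?_⟩
      show v ⊗ₜ[ZMod 2] v - v ⊗ₜ[ZMod 2] v ∈ Ns
      rw [sub_self]; exact Submodule.zero_mem _
    · exact ⟨0, by rw [TensorProduct.zero_tmul, sub_zero]; exact Submodule.zero_mem _⟩
    · rintro x y _ _ ⟨u1, h1⟩ ⟨u2, h2⟩
      refine ⟨u1 + u2, ?_⟩
      have hswap : u1 ⊗ₜ[ZMod 2] u2 + u2 ⊗ₜ[ZMod 2] u1 ∈ Ns := by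
        rw [hNs]; exact Submodule.subset_span ⟨(u1, u2), rfl⟩
      have he : x + y - (u1 + u2) ⊗ₜ[ZMod 2] (u1 + u2)
          = (x - u1 ⊗ₜ[ZMod 2] u1) + (y - u2 ⊗ₜ[ZMod 2] u2)
            - (u1 ⊗ₜ[ZMod 2] u2 + u2 ⊗ₜ[ZMod 2] u1) := by
        rw [TensorProduct.add_tmul, TensorProduct.tmul_add, TensorProduct.tmul_add]; abel
      rw [he]
      exact Submodule.sub_mem _ (Submodule.add_mem _ h1 h2) hswap
    · rintro c x _ ⟨u, h⟩
      rcases hc01 c with rfl | rfl
      · exact ⟨0, by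
          rw [zero_smul, TensorProduct.zero_tmul, sub_zero]; exact Submodule.zero_mem _⟩
      · exact ⟨u, by rw [one_smul]; exact h⟩
  refine ⟨W, ?_, ?_, ?_⟩
  · intro g w hw
    rw [hW] at hw ⊢
    refine Submodule.span_induction
      (p := fun t _ => ρ.tprod ρ g t ∈
        Submodule.span (ZMod 2) (B '' {p : ι × ι | p.1 ≠ p.2})) ?_ ?_ ?_ ?_ hw
    · rintro _ ⟨p, hp, rfl⟩
      obtain ⟨i', hi'⟩ := hb g p.1
      obtain ⟨j', hj'⟩ := hb g p.2
      rw [hBapp, Representation.tprod_apply, TensorProduct.map_tmul, hi', hj']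
      apply Submodule.subset_span
      refine ⟨(i', j'), ?_, hBapp (i', j')⟩
      show i' ≠ j'
      intro h
      apply hp
      have h1 : ρ g (b p.1) = ρ g (b p.2) := by rw [hi', hj', h]
      have h2 : b p.1 = b p.2 := by
        have := congrArg (ρ g⁻¹) h1
        rwa [ρ.inv_self_apply, ρ.inv_self_apply] at this
      exact b.injective h2
    · rw [map_zero]; exact Submodule.zero_mem _
    · intro x y _ _ hx hy; rw [map_add]; exact Submodule.add_mem _ hx hy
    · intro c x _ hx; rw [map_smul]; exact Submodule.smul_mem _ c hx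
  · apply le_antisymm
    · rintro t ⟨htW, htNa⟩
      obtain ⟨u, hu⟩ := hkey t htNa
      have hu0 : u = 0 := by
        apply b.repr.injective
        rw [map_zero]
        ext i
        have h1 := (hWmem t).mp htW i
        have h2 := (hWmem _).mp (hNsW hu) i
        rw [map_sub, Finsupp.sub_apply, h1, hBrepr, zero_sub, neg_eq_zero] at h2
        rw [Finsupp.zero_apply]
        exact mul_self_eq_zero.mp h2
      rw [hu0, TensorProduct.zero_tmul, sub_zero] at hu
      exact hu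
    · exact le_inf hNsW hNsNa
  · rw [eq_top_iff, ← B.span_eq, Submodule.span_le]
    rintro _ ⟨p, rfl⟩
    by_cases hp : p.1 = p.2
    · apply Submodule.mem_sup_right
      rw [hNa, hBapp, hp]
      exact Submodule.subset_span ⟨b p.2, rfl⟩
    · apply Submodule.mem_sup_left
      rw [hW]
      exact Submodule.subset_span ⟨p, hp, rfl⟩

end Groth.Agent.S18548
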