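import Groth.Statements.S18549
import Mathlib
import Groth.Agent.S18548

set_option autoImplicit false
open scoped TensorProduct
universe u v
open GalCoh

namespace Groth.Agent.S18549

open Module in
theorem sumExtend_inl' {ι K V : Type*} [DivisionRing K] [AddCommGroup V] [Module K V] {v : ι → V}
    (hs : LinearIndependent K v) (i : ι) : Basis.sumExtend hs (Sum.inl i) = v i := by
  classical
  simp only [Basis.sumExtend, Basis.reindex_apply, Equiv.symm_symm, Basis.extend_apply_self]
  rfl


/-- Over the real numbers, that is for the group G = Gal(ℂ/ℝ) of order 2 acting linearly on a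
finite-dimensional vector space V over the field 𝔽₂ with two elements, the short exact sequence of
G-modules 0 → V → S²V → Λ²V → 0 (v ↦ v·v, x·y ↦ x ∧ y) splits G-equivariantly. Here, for a vector
space V over the field with two elements carrying a linear action ρ of a group G, write N_a ⊆ V ⊗ V
for the span of the tensors v ⊗ v and N_s ⊆ N_a for the span of the tensors x ⊗ y + y ⊗ x, so that
S²V = (V ⊗ V)/N_s, Λ²V = (V ⊗ V)/N_a and the surjection S²V → Λ²V, x·y ↦ x ∧ y, is G-equivariant for
the diagonal action; a G-equivariant linear section of this surjection is the same thing as a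
G-stable subspace W of V ⊗ V with W ∩ N_a = N_s and W + N_a = V ⊗ V, which is how the splitting is
stated. (G is any group of order 2 here; V is taken finite-dimensional, the case covered by the
structure theory of finitely generated modules over 𝔽₂[G] that the argument uses.) -/
theorem result (G : Type u) [Group G] (hG : Nat.card G = 2)
    (V : Type v) [AddCommGroup V] [Module (ZMod 2) V] [Module.Finite (ZMod 2) V]
    (ρ : Representation (ZMod 2) G V) :
    ∃ W : Submodule (ZMod 2) (V ⊗[ZMod 2] V),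
      (∀ g : G, ∀ w ∈ W, ρ.tprod ρ g w ∈ W) ∧
      W ⊓ Submodule.span (ZMod 2) (Set.range fun v : V => v ⊗ₜ[ZMod 2] v) =
        Submodule.span (ZMod 2) (Set.range fun p : V × V => p.1 ⊗ₜ[ZMod 2] p.2 + p.2 ⊗ₜ[ZMod 2] p.1) ∧
      W ⊔ Submodule.span (ZMod 2) (Set.range fun v : V => v ⊗ₜ[ZMod 2] v) = ⊤ := by
  classical
  obtain ⟨σ, hσ1, hσu⟩ := (Nat.card_eq_two_iff' (1 : G)).mp hG
  have hall : ∀ g : G, g = 1 ∨ g = σ := by
    intro g
    by_cases h : g = 1
    · exact Or.inl h
    · exact Or.inr (hσu g h)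
  have hσσ : σ * σ = 1 := by
    by_contra h
    have h2 := hσu (σ * σ) h
    apply hσ1
    have h3 : σ * σ = σ * 1 := by rw [mul_one]; exact h2
    exact mul_left_cancel h3
  have hss : ∀ v : V, ρ σ (ρ σ v) = v := by
    intro v
    have h : ρ (σ * σ) v = v := by rw [hσσ, map_one]; rfl
    rw [map_mul] at h
    exact h
  obtain ⟨N, hN⟩ : ∃ N : V →ₗ[ZMod 2] V, ∀ v, N v = ρ σ v + v :=
    ⟨ρ σ + LinearMap.id, fun v => rfl⟩
  have hNs : ∀ v, N (ρ σ v) = N v := by
    intro v; rw [hN, hN, hss, add_comm]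
  have hNN : ∀ v, N (N v) = 0 := by
    intro v
    rw [hN v, map_add, hNs]
    exact ZModModule.add_self _
  obtain ⟨n₁, ⟨c⟩⟩ : ∃ n : ℕ, Nonempty (Module.Basis (Fin n) (ZMod 2) (LinearMap.range N)) :=
    ⟨_, ⟨Module.finBasis (ZMod 2) (LinearMap.range N)⟩⟩
  have hc : ∀ i, ∃ x, N x = (c i : V) := fun i => LinearMap.mem_range.mp (c i).2
  choose e he using hc
  have hcK : ∀ i, (c i : V) ∈ LinearMap.ker N := by
    intro i; rw [LinearMap.mem_ker, ← he i, hNN]
  have hc'li : LinearIndependent (ZMod 2)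
      (fun i => (⟨(c i : V), hcK i⟩ : LinearMap.ker N)) := by
    have h1 : LinearIndependent (ZMod 2) (fun i => (c i : V)) :=
      c.linearIndependent.map' (LinearMap.range N).subtype (Submodule.ker_subtype _)
    exact LinearIndependent.of_comp (LinearMap.ker N).subtype h1
  obtain ⟨ι₂, kb, hkb⟩ : ∃ (ι₂ : Type v)
      (kb : Module.Basis (Fin n₁ ⊕ ι₂) (ZMod 2) (LinearMap.ker N)),
      ∀ i, (kb (Sum.inl i) : V) = c i :=
    ⟨_, Module.Basis.sumExtend hc'li, fun i => by rw [sumExtend_inl']⟩
  haveI : Finite (Fin n₁ ⊕ ι₂) := Module.Finite.finite_basis kb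
  haveI : Finite ι₂ := Finite.sum_right (Fin n₁)
  haveI : Fintype ι₂ := Fintype.ofFinite ι₂
  have hNf : ∀ k, N (kb k : V) = 0 := fun k => LinearMap.mem_ker.mp (kb k).2
  obtain ⟨fam, hfam1, hfam2, hfam3⟩ : ∃ fam : (Fin n₁ ⊕ Fin n₁) ⊕ ι₂ → V,
      (∀ i, fam (Sum.inl (Sum.inl i)) = e i) ∧
      (∀ i, fam (Sum.inl (Sum.inr i)) = ρ σ (e i)) ∧
      (∀ j, fam (Sum.inr j) = (kb (Sum.inr j) : V)) :=
    ⟨Sum.elim (Sum.elim e (fun i => ρ σ (e i))) (fun j => (kb (Sum.inr j) : V)),
      fun _ => rfl, fun _ => rfl, fun _ => rfl⟩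
  have hli : LinearIndependent (ZMod 2) fam := by
    rw [Fintype.linearIndependent_iff]
    intro g hg
    rw [Fintype.sum_sum_type, Fintype.sum_sum_type] at hg
    simp only [hfam1, hfam2, hfam3] at hg
    have h1 := congrArg N hg
    rw [map_add, map_add, map_sum, map_sum, map_sum, map_zero] at h1
    simp only [map_smul, hNs, he, hNf, smul_zero, Finset.sum_const_zero, add_zero] at h1
    rw [← Finset.sum_add_distrib] at h1
    have h2 : ∑ i, (g (Sum.inl (Sum.inl i)) + g (Sum.inl (Sum.inr i))) • c i = 0 := by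
      apply Subtype.ext
      rw [Submodule.coe_sum]
      simp only [Submodule.coe_smul, add_smul, Submodule.coe_zero]
      exact h1
    have h3 := Fintype.linearIndependent_iff.mp c.linearIndependent _ h2
    have h5 : ∀ a b : ZMod 2, a + b = 0 → b = a := by decide
    have h4 : ∀ i, g (Sum.inl (Sum.inr i)) = g (Sum.inl (Sum.inl i)) :=
      fun i => h5 _ _ (h3 i)
    have h6 : ∑ k, (Sum.elim (fun i => g (Sum.inl (Sum.inl i))) (fun j => g (Sum.inr j)) k)
        • kb k = 0 := by
      apply Subtype.ext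
      rw [Submodule.coe_sum, Fintype.sum_sum_type]
      simp only [Sum.elim_inl, Sum.elim_inr, Submodule.coe_smul, hkb, Submodule.coe_zero]
      rw [← hg]
      simp only [h4]
      congr 1
      rw [← Finset.sum_add_distrib]
      refine Finset.sum_congr rfl (fun i _ => ?_)
      rw [← he i, hN, smul_add, add_comm]
    have h7 := Fintype.linearIndependent_iff.mp kb.linearIndependent _ h6
    rintro ((i | i) | j)
    · exact h7 (Sum.inl i)
    · rw [h4]; exact h7 (Sum.inl i)
    · exact h7 (Sum.inr j)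
  have hspan : ⊤ ≤ Submodule.span (ZMod 2) (Set.range fam) := by
    intro v _
    have hee : ∀ i, e i ∈ Submodule.span (ZMod 2) (Set.range fam) :=
      fun i => Submodule.subset_span ⟨Sum.inl (Sum.inl i), hfam1 i⟩
    have hse : ∀ i, ρ σ (e i) ∈ Submodule.span (ZMod 2) (Set.range fam) :=
      fun i => Submodule.subset_span ⟨Sum.inl (Sum.inr i), hfam2 i⟩
    have hf : ∀ j, (kb (Sum.inr j) : V) ∈ Submodule.span (ZMod 2) (Set.range fam) :=
      fun j => Submodule.subset_span ⟨Sum.inr j, hfam3 j⟩
    have hK : ∀ x : LinearMap.ker N, (x : V) ∈ Submodule.span (ZMod 2) (Set.range fam) := by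
      intro x
      have hx := kb.sum_repr x
      have hx' : (x : V) = ∑ k, kb.repr x k • (kb k : V) := by
        conv_lhs => rw [← hx]
        rw [Submodule.coe_sum]
        simp only [Submodule.coe_smul]
      rw [hx']
      refine Submodule.sum_mem _ (fun k _ => Submodule.smul_mem _ _ ?_)
      rcases k with i | j
      · rw [hkb, ← he i, hN]
        exact Submodule.add_mem _ (hse i) (hee i)
      · exact hf j
    have hNv : N v ∈ LinearMap.range N := LinearMap.mem_range.mpr ⟨v, rfl⟩
    have hr := c.sum_repr ⟨N v, hNv⟩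
    have hr' : N v = ∑ i, c.repr ⟨N v, hNv⟩ i • (c i : V) := by
      have h := congrArg Subtype.val hr
      rw [Submodule.coe_sum] at h
      simp only [Submodule.coe_smul] at h
      exact h.symm
    have hv' : N (v + ∑ i, c.repr ⟨N v, hNv⟩ i • e i) = 0 := by
      rw [map_add, map_sum]
      simp only [map_smul, he]
      rw [← hr']
      exact ZModModule.add_self _
    have hmem := hK ⟨_, LinearMap.mem_ker.mpr hv'⟩
    have hsum : ∑ i, c.repr ⟨N v, hNv⟩ i • e i ∈ Submodule.span (ZMod 2) (Set.range fam) :=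
      Submodule.sum_mem _ (fun i _ => Submodule.smul_mem _ _ (hee i))
    have hfin := Submodule.sub_mem _ hmem hsum
    simp only [add_sub_cancel_right] at hfin
    exact hfin
  obtain ⟨b, hbf⟩ : ∃ b : Module.Basis ((Fin n₁ ⊕ Fin n₁) ⊕ ι₂) (ZMod 2) V, ∀ i, b i = fam i :=
    ⟨Module.Basis.mk hli hspan, fun i => Module.Basis.mk_apply hli hspan i⟩
  have hb : ∀ g : G, ∀ i, ∃ j, ρ g (b i) = b j := by
    intro g i
    rcases hall g with rfl | rfl
    · exact ⟨i, by rw [map_one]; rfl⟩
    · rcases i with (i | i) | j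
      · exact ⟨Sum.inl (Sum.inr i), by rw [hbf, hbf, hfam1, hfam2]⟩
      · exact ⟨Sum.inl (Sum.inl i), by rw [hbf, hbf, hfam1, hfam2, hss]⟩
      · refine ⟨Sum.inr j, ?_⟩
        rw [hbf, hfam3]
        have h1 : ρ g (kb (Sum.inr j) : V) + (kb (Sum.inr j) : V) = 0 := by
          rw [← hN]; exact hNf _
        have h2 := eq_neg_of_add_eq_zero_left h1
        rw [h2, ZModModule.neg_eq_self]
  exact Groth.Agent.S18548.result G V ρ _ b hb

end Groth.Agent.S18549
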