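import Groth.Statements.S18550
import Mathlib
import Groth.Agent.Lib.helper2.ProIso

set_option autoImplicit false
open CategoryTheory Limits
universe w v u
open CohDer

namespace Groth.Agent.S18550

/-- Let A be an abelian category, X an object of its derived category whose cohomology objects H^i(X)
are zero for all integers i outside the interval [a, a + n], and f : X → X an endomorphism in the
derived category such that H^i(f) = 0 for every i. Then f^(n+1) = 0. (The source works in the
bounded derived category; the statement in D(A) for an object with cohomology bounded in this way is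
the same assertion, the bounded derived category being a full subcategory.) -/
theorem result (A : Type u) [Category.{v} A] [Abelian A]
    [HasDerivedCategory.{w} A] (X : DerivedCategory A) (a : ℤ) (n : ℕ)
    (hX : ∀ i : ℤ, i < a ∨ a + n < i → IsZero ((DerivedCategory.homologyFunctor A i).obj X))
    (f : CategoryTheory.End X) (hf : ∀ i : ℤ, (DerivedCategory.homologyFunctor A i).map f = 0) :
    f ^ (n + 1) = 0 := by
  have hGE : X.IsGE a := by
    rw [DerivedCategory.isGE_iff]
    intro i hi
    exact hX i (Or.inl hi)
  have hLE : X.IsLE (a + n) := by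
    rw [DerivedCategory.isLE_iff]
    intro i hi
    exact hX i (Or.inr hi)
  have key : ∀ k : ℕ, ∃ (W : DerivedCategory A) (_ : W.IsLE (a + n - k)) (α : X ⟶ W) (β : W ⟶ X),
      (f ^ k : CategoryTheory.End X) = α ≫ β := by
    intro k
    induction k with
    | zero =>
      exact ⟨X, by simpa using hLE, 𝟙 X, 𝟙 X, by rw [pow_zero, Category.comp_id]; rfl⟩
    | succ k ih =>
      obtain ⟨W, hW, α, β, h⟩ := ih
      obtain ⟨Z', hZ', g', ι, hg⟩ := Groth.Agent.H2.H2_factor_of_homology_zero (a + n - k)
        (β ≫ f) (by rw [Functor.map_comp, hf, Limits.comp_zero])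
      refine ⟨Z', ?_, α ≫ g', ι, ?_⟩
      · have e : a + (n : ℤ) - ((k + 1 : ℕ) : ℤ) = a + n - k - 1 := by push_cast; ring
        rw [e]
        exact hZ'
      · rw [pow_succ', CategoryTheory.End.mul_def, h, Category.assoc, hg, Category.assoc]
  obtain ⟨W, hW, α, β, h⟩ := key (n + 1)
  have hβ : β = 0 :=
    DerivedCategory.TStructure.t.zero β (a + (n : ℤ) - ((n + 1 : ℕ) : ℤ)) a (by push_cast; omega)
  rw [h, hβ, Limits.comp_zero]

end Groth.Agent.S18550
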