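import Groth.Statements.S18560
import Mathlib

set_option autoImplicit false
universe u v
open PtQuiv

namespace Groth.Agent.S18560

/-- Let K be a field and s i ∈ K² (i in a finite index type) nonzero vectors, regarded as a
representation of the quiver with a central vertex carrying the plane and one vertex per i carrying
a line that maps to the plane by 1 ↦ s i. For a weight θ in the hypersimplex (0 ≤ θ i ≤ 1, Σ θ i =
2, central weight -1) the representation is θ-semistable if and only if, for every vector v, the
indices i with s i on the line K ∙ v have total weight at most 1. (The published statement is over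
an algebraically closed field, assumes semistability for some interior weight instead of s i ≠ 0,
and phrases the bound through the classes of pairwise proportional s i; any field is allowed here.
Its further assertion that the bounding walls, where the total weight of one proportionality class
equals 1, do not meet in the interior of the hypersimplex is not part of this row.) -/
theorem result (K : Type u) [Field K] (ι : Type v) [Fintype ι]
    (s : ι → (Fin 2 → K)) (hs : ∀ i, s i ≠ 0) (θ : ι → ℚ) (h0 : ∀ i, 0 ≤ θ i)
    (h1 : ∀ i, θ i ≤ 1) (h2 : ∑ i, θ i = 2) :
    PtQuiv.QSemistable (-1) θ s ↔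
      ∀ (J : Finset ι) (v : Fin 2 → K), (∀ i ∈ J, s i ∈ K ∙ v) → ∑ i ∈ J, θ i ≤ 1 := by
  classical
  constructor
  · rintro ⟨_, hss⟩ J v hJ
    have h := hss (K ∙ v) J hJ
    unfold PtQuiv.QWt at h
    have hfr : (Module.finrank K (K ∙ v) : ℚ) ≤ 1 := by
      have : Module.finrank K (K ∙ v) ≤ 1 := by
        have := finrank_span_le_card (R := K) ({v} : Set (Fin 2 → K))
        simpa using this
      exact_mod_cast this
    linarith
  · intro H
    refine ⟨by rw [h2]; norm_num, ?_⟩
    intro L I hLI
    unfold PtQuiv.QWt
    have hsub : ∑ i ∈ I, θ i ≤ ∑ i, θ i :=
      Finset.sum_le_sum_of_subset_of_nonneg (Finset.subset_univ I) (fun i _ _ => h0 i)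
    have hle2 : Module.finrank K L ≤ 2 := by
      have := Submodule.finrank_le L
      simpa using this
    by_cases hI : I = ∅
    · subst hI
      simp only [Finset.sum_empty, add_zero]
      have : (0 : ℚ) ≤ (Module.finrank K L : ℚ) := Nat.cast_nonneg _
      linarith
    obtain ⟨i₀, hi₀⟩ := Finset.nonempty_iff_ne_empty.mpr hI
    have hpos : 1 ≤ Module.finrank K L := by
      rw [Nat.one_le_iff_ne_zero, Ne, Submodule.finrank_eq_zero]
      intro hbot
      have := hLI i₀ hi₀
      rw [hbot, Submodule.mem_bot] at this
      exact hs i₀ this
    rcases Nat.lt_or_ge (Module.finrank K L) 2 with hlt | hge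
    · have h1' : Module.finrank K L = 1 := by omega
      obtain ⟨v, hv⟩ := finrank_eq_one_iff'.mp h1'
      -- L = span of v.1
      have hLv : ∀ i ∈ I, s i ∈ K ∙ (v : Fin 2 → K) := by
        intro i hi
        obtain ⟨c, hc⟩ := hv.2 ⟨s i, hLI i hi⟩
        rw [Submodule.mem_span_singleton]
        exact ⟨c, by simpa using congrArg Subtype.val hc⟩
      have := H I v hLv
      rw [h1']
      push_cast
      linarith
    · have h2' : Module.finrank K L = 2 := by omega
      rw [h2']
      push_cast
      linarith

end Groth.Agent.S18560
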