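import Groth.Statements.S18561
import Mathlib

set_option autoImplicit false
universe u v
open PtQuiv

namespace Groth.Agent.S18561

/-- Let K be a field and s i ∈ K² (i in a finite index type) nonzero vectors, regarded as a
representation of the quiver with a central vertex carrying the plane and one vertex per i carrying
a line mapping to the plane by 1 ↦ s i. Then the representation is stable for some weight of the
hypersimplex (0 ≤ θ i ≤ 1, Σ θ i = 2, central weight -1) if and only if the s i fall into at least
three proportionality classes, i.e. three of them are pairwise non-proportional. (The published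
statement is over an algebraically closed field and assumes semistability for some interior weight
instead of s i ≠ 0; any field is allowed here. Its further assertions, that the set of semistability
weights is full-dimensional exactly in this case and is a wall otherwise, are not part of this row.) -/
theorem result (K : Type u) [Field K] (ι : Type v)
    [Fintype ι] (s : ι → (Fin 2 → K)) (hs : ∀ i, s i ≠ 0) :
    (∃ θ : ι → ℚ, (∀ i, 0 ≤ θ i) ∧ (∀ i, θ i ≤ 1) ∧ ∑ i, θ i = 2 ∧ PtQuiv.QStable (-1) θ s) ↔
      ∃ i j k : ι, s i ∉ K ∙ s j ∧ s j ∉ K ∙ s k ∧ s i ∉ K ∙ s k := by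
  classical
  -- basic facts
  have hfr : Module.finrank K (Fin 2 → K) = 2 := by simp
  have hspan1 : ∀ v : Fin 2 → K, v ≠ 0 → Module.finrank K (K ∙ v) = 1 :=
    fun v hv => finrank_span_singleton hv
  have hline : ∀ (L : Submodule K (Fin 2 → K)), Module.finrank K L = 1 →
      ∀ u v : Fin 2 → K, u ∈ L → v ∈ L → v ≠ 0 → u ∈ K ∙ v := by
    intro L hL u v hu hv hv0
    have hv0' : (⟨v, hv⟩ : L) ≠ 0 := by
      intro h
      apply hv0
      exact congrArg Subtype.val h
    obtain ⟨c, hc⟩ := (finrank_eq_one_iff_of_nonzero' (⟨v, hv⟩ : L) hv0').1 hL ⟨u, hu⟩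
    rw [Submodule.mem_span_singleton]
    exact ⟨c, congrArg Subtype.val hc⟩
  constructor
  · rintro ⟨θ, h0, h1, hsum, ⟨⟨_, hss⟩, hst⟩⟩
    by_contra hno
    push_neg at hno
    have hne : Nonempty ι := by
      by_contra hemp
      rw [not_nonempty_iff] at hemp
      rw [Finset.univ_eq_empty, Finset.sum_empty] at hsum
      norm_num at hsum
    obtain ⟨i₀⟩ := hne
    set I₁ : Finset ι := Finset.univ.filter (fun i => s i ∈ K ∙ s i₀) with hI₁
    have hsub1 : PtQuiv.QSubrep s (K ∙ s i₀) I₁ := by
      intro i hi
      exact (Finset.mem_filter.1 hi).2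
    have hw1 := hss _ _ hsub1
    unfold PtQuiv.QWt at hw1
    rw [hspan1 _ (hs i₀)] at hw1
    by_cases hall : I₁ = Finset.univ
    · rw [hall, hsum] at hw1
      norm_num at hw1
    · obtain ⟨j₀, hj₀⟩ : ∃ j₀, j₀ ∉ I₁ := by
        by_contra hc
        push_neg at hc
        exact hall (Finset.eq_univ_iff_forall.2 hc)
      have hj₀' : s j₀ ∉ K ∙ s i₀ := by
        intro h
        exact hj₀ (Finset.mem_filter.2 ⟨Finset.mem_univ _, h⟩)
      set I₂ : Finset ι := Finset.univ.filter (fun i => s i ∈ K ∙ s j₀) with hI₂
      have hsub2 : PtQuiv.QSubrep s (K ∙ s j₀) I₂ := by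
        intro i hi
        exact (Finset.mem_filter.1 hi).2
      have hw2 := hss _ _ hsub2
      unfold PtQuiv.QWt at hw2
      rw [hspan1 _ (hs j₀)] at hw2
      have hunion : I₁ ∪ I₂ = Finset.univ := by
        apply Finset.eq_univ_iff_forall.2
        intro k
        by_contra hk
        rw [Finset.mem_union, not_or] at hk
        have hk1 : s k ∉ K ∙ s i₀ := fun h => hk.1 (Finset.mem_filter.2 ⟨Finset.mem_univ _, h⟩)
        have hk2 : s k ∉ K ∙ s j₀ := fun h => hk.2 (Finset.mem_filter.2 ⟨Finset.mem_univ _, h⟩)
        exact hk1 (hno k j₀ i₀ hk2 hj₀')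
      have hle : ∑ i, θ i ≤ ∑ i ∈ I₁, θ i + ∑ i ∈ I₂, θ i := by
        rw [← hunion, ← Finset.sum_union_inter]
        have : 0 ≤ ∑ i ∈ I₁ ∩ I₂, θ i := Finset.sum_nonneg (fun i _ => h0 i)
        linarith
      have hw1eq : PtQuiv.QWt K (-1) θ (K ∙ s i₀) I₁ = 0 := by
        unfold PtQuiv.QWt
        rw [hspan1 _ (hs i₀)]
        push_cast at hw1 hw2 ⊢
        linarith
      rcases hst _ _ hsub1 hw1eq with ⟨hb, _⟩ | ⟨ht, _⟩
      · have := hspan1 _ (hs i₀)
        rw [hb] at this
        simp at this
      · have := hspan1 _ (hs i₀)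
        rw [ht, finrank_top, hfr] at this
        omega
  · rintro ⟨i, j, k, hij, hjk, hik⟩
    have hij' : i ≠ j := by
      rintro rfl
      exact hij (Submodule.mem_span_singleton_self _)
    have hjk' : j ≠ k := by
      rintro rfl
      exact hjk (Submodule.mem_span_singleton_self _)
    have hik' : i ≠ k := by
      rintro rfl
      exact hik (Submodule.mem_span_singleton_self _)
    set T : Finset ι := {i, j, k} with hT
    have hTcard : T.card = 3 := by
      rw [hT, Finset.card_insert_of_notMem, Finset.card_insert_of_notMem, Finset.card_singleton]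
      · simpa using hjk'
      · simp [hij', hik']
    set N : ℚ := (Fintype.card ι : ℚ) with hN
    have hNpos : 0 < N := by
      have : 0 < Fintype.card ι := Fintype.card_pos_iff.2 ⟨i⟩
      rw [hN]
      exact_mod_cast this
    have hN3 : 3 ≤ N := by
      have : T.card ≤ Fintype.card ι := Finset.card_le_univ T
      rw [hTcard] at this
      rw [hN]
      exact_mod_cast this
    set θ : ι → ℚ := fun m => 1 / (2 * N) + if m ∈ T then 1 / 2 else 0 with hθ
    have hθpos : ∀ m, 0 < θ m := by
      intro m
      simp only [hθ]
      have : 0 < 1 / (2 * N) := by positivity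
      split_ifs <;> linarith
    have hθT : ∀ m ∈ T, 1 / 2 < θ m := by
      intro m hm
      simp only [hθ, if_pos hm]
      have : 0 < 1 / (2 * N) := by positivity
      linarith
    have hθle : ∀ m, θ m ≤ 1 := by
      intro m
      simp only [hθ]
      have : 1 / (2 * N) ≤ 1 / 2 := by
        rw [div_le_div_iff₀ (by positivity) (by norm_num)]
        linarith
      split_ifs <;> linarith
    have hθsum : ∑ m, θ m = 2 := by
      simp only [hθ, Finset.sum_add_distrib, Finset.sum_const, Finset.card_univ, nsmul_eq_mul,
        Finset.sum_ite_mem, Finset.univ_inter, hTcard]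
      rw [← hN]
      field_simp
      norm_num
    -- pairwise: if two of i j k lie in a line L then contradiction
    have hpair : ∀ (L : Submodule K (Fin 2 → K)), Module.finrank K L = 1 →
        ∀ (I : Finset ι), PtQuiv.QSubrep s L I → ∃ a b, a ≠ b ∧ a ∈ T ∧ b ∈ T ∧ a ∉ I ∧ b ∉ I := by
      intro L hL I hsub
      have hiT : i ∈ T := by simp [hT]
      have hjT : j ∈ T := by simp [hT]
      have hkT : k ∈ T := by simp [hT]
      by_cases hi : i ∈ I <;> by_cases hj : j ∈ I <;> by_cases hk : k ∈ I
      · exact absurd (hline L hL _ _ (hsub i hi) (hsub j hj) (hs j)) hij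
      · exact absurd (hline L hL _ _ (hsub i hi) (hsub j hj) (hs j)) hij
      · exact absurd (hline L hL _ _ (hsub i hi) (hsub k hk) (hs k)) hik
      · exact ⟨j, k, hjk', hjT, hkT, hj, hk⟩
      · exact absurd (hline L hL _ _ (hsub j hj) (hsub k hk) (hs k)) hjk
      · exact ⟨i, k, hik', hiT, hkT, hi, hk⟩
      · exact ⟨i, j, hij', hiT, hjT, hi, hj⟩
      · exact ⟨i, j, hij', hiT, hjT, hi, hj⟩
    -- weight analysis
    have hwt : ∀ (L : Submodule K (Fin 2 → K)) (I : Finset ι), PtQuiv.QSubrep s L I →
        (PtQuiv.QWt K (-1) θ L I < 0 ∨ (L = ⊥ ∧ I = ∅) ∨ (L = ⊤ ∧ I = Finset.univ)) := by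
      intro L I hsub
      have hLle : Module.finrank K L ≤ 2 := le_trans (Submodule.finrank_le L) hfr.le
      have hIle : ∑ m ∈ I, θ m ≤ 2 := by
        rw [← hθsum]
        exact Finset.sum_le_sum_of_subset_of_nonneg (Finset.subset_univ I)
          (fun m _ _ => (hθpos m).le)
      have hcases : Module.finrank K L = 0 ∨ Module.finrank K L = 1 ∨ Module.finrank K L = 2 := by
        omega
      rcases hcases with h | h | h
      · right; left
        have hLbot : L = ⊥ := Submodule.finrank_eq_zero.1 h
        refine ⟨hLbot, ?_⟩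
        apply Finset.eq_empty_of_forall_notMem
        intro m hm
        have := hsub m hm
        rw [hLbot, Submodule.mem_bot] at this
        exact hs m this
      · left
        obtain ⟨a, b, hab, haT, hbT, haI, hbI⟩ := hpair L h I hsub
        unfold PtQuiv.QWt
        rw [h]
        have hcompl : ∑ m ∈ I, θ m + ∑ m ∈ Iᶜ, θ m = 2 := by
          rw [Finset.sum_add_sum_compl, hθsum]
        have hsubab : ({a, b} : Finset ι) ⊆ Iᶜ := by
          intro x hx
          rw [Finset.mem_insert, Finset.mem_singleton] at hx
          rw [Finset.mem_compl]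
          rcases hx with rfl | rfl <;> assumption
        have h2 : θ a + θ b ≤ ∑ m ∈ Iᶜ, θ m := by
          rw [← Finset.sum_pair hab]
          exact Finset.sum_le_sum_of_subset_of_nonneg hsubab (fun m _ _ => (hθpos m).le)
        have ha := hθT a haT
        have hb := hθT b hbT
        push_cast
        linarith
      · have hLtop : L = ⊤ := Submodule.eq_top_of_finrank_eq (by rw [h, hfr])
        by_cases hI : I = Finset.univ
        · right; right
          exact ⟨hLtop, hI⟩
        · left
          obtain ⟨m, hm⟩ : ∃ m, m ∉ I := by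
            by_contra hc
            push_neg at hc
            exact hI (Finset.eq_univ_iff_forall.2 hc)
          unfold PtQuiv.QWt
          rw [h]
          have hcompl : ∑ m ∈ I, θ m + ∑ m ∈ Iᶜ, θ m = 2 := by
            rw [Finset.sum_add_sum_compl, hθsum]
          have : θ m ≤ ∑ m ∈ Iᶜ, θ m := by
            apply Finset.single_le_sum (fun m _ => (hθpos m).le)
            rw [Finset.mem_compl]
            exact hm
          have := hθpos m
          push_cast
          linarith
    refine ⟨θ, fun m => (hθpos m).le, hθle, hθsum, ⟨?_, ?_⟩, ?_⟩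
    · rw [hθsum]; norm_num
    · intro L I hsub
      rcases hwt L I hsub with h | ⟨hL, hI⟩ | ⟨hL, hI⟩
      · exact h.le
      · unfold PtQuiv.QWt
        rw [hL, hI]
        simp
      · unfold PtQuiv.QWt
        rw [hL, hI, hθsum, finrank_top, hfr]
        norm_num
    · intro L I hsub hw
      rcases hwt L I hsub with h | h | h
      · exact absurd hw h.ne
      · left; exact h
      · right; exact h

end Groth.Agent.S18561
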