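import Groth.Statements.S18562
import Mathlib

set_option autoImplicit false
universe u v
open PtQuiv

namespace Groth.Agent.S18562

/-- Let K be a field, κ a finite index type with a ≠ b, and s i ∈ K² a representation of the quiver with
a central vertex carrying the plane and one vertex per i : κ carrying a line mapping to the plane by
1 ↦ s i. Let θ be a weight of the hypersimplex (0 ≤ θ i ≤ 1, Σ θ i = 2, central weight -1) with 1 <
θ a + θ b < 2, and put c = 1 / (2 - θ a - θ b). Then s is θ-semistable if and only if s a, s b are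
linearly independent and, writing every other s i = t i 0 • s a + t i 1 • s b, the representation t
of the quiver with two one-dimensional sinks p₀, p₁ and one one-dimensional source per i ≠ a, b
(arrow to p_j given by t i j) is semistable for the weight c (θ a - 1) at p₀, c (θ b - 1) at p₁ and
c θ i at the sources. (The published statement is about representations over a base scheme, with
(semi)stability tested on geometric fibres, that is over algebraically closed fields; this row
states the fibrewise content over an arbitrary field.) -/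
theorem result (K : Type u) [Field K]
    (κ : Type v) [Fintype κ] [DecidableEq κ] (a b : κ) (hab : a ≠ b) (s : κ → (Fin 2 → K))
    (θ : κ → ℚ) (h0 : ∀ i, 0 ≤ θ i) (h1 : ∀ i, θ i ≤ 1) (h2 : ∑ i, θ i = 2)
    (hθ : 1 < θ a + θ b) (hθ' : θ a + θ b < 2) :
    PtQuiv.QSemistable (-1) θ s ↔
      (LinearIndependent K ![s a, s b] ∧
        ∀ t : {i : κ // i ≠ a ∧ i ≠ b} → (Fin 2 → K),
          (∀ i, s i.1 = t i 0 • s a + t i 1 • s b) →
            PtQuiv.PSemistable ![(2 - θ a - θ b)⁻¹ * (θ a - 1), (2 - θ a - θ b)⁻¹ * (θ b - 1)]
              (fun i : {i : κ // i ≠ a ∧ i ≠ b} => (2 - θ a - θ b)⁻¹ * θ i.1) t) := by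
  classical
  obtain ⟨c, hcdef⟩ : ∃ c : ℚ, c = (2 - θ a - θ b)⁻¹ := ⟨_, rfl⟩
  have hcpos : 0 < c := by rw [hcdef]; exact inv_pos.mpr (by linarith)
  rw [← hcdef]
  have hsplit : ∀ g : κ → ℚ, ∑ i, g i = g a + g b + ∑ i : {i : κ // i ≠ a ∧ i ≠ b}, g i.1 := by
    intro g
    have hsub : ({a, b} : Finset κ) ⊆ Finset.univ := Finset.subset_univ _
    rw [← Finset.sum_sdiff hsub, Finset.sum_pair hab]
    have : ∑ x ∈ Finset.univ \ {a, b}, g x = ∑ i : {i : κ // i ≠ a ∧ i ≠ b}, g i.1 := by
      apply Finset.sum_subtype
      intro x
      simp only [Finset.mem_sdiff, Finset.mem_univ, true_and, Finset.mem_insert,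
        Finset.mem_singleton, not_or]
    rw [this]; ring
  have hfrK : ∀ U : Submodule K K, (U = ⊥ ∧ Module.finrank K U = 0) ∨
      (U = ⊤ ∧ Module.finrank K U = 1) := by
    intro U
    rcases Ideal.eq_bot_or_top U with h | h
    · left; exact ⟨h, by rw [h]; exact finrank_bot K K⟩
    · right; exact ⟨h, by rw [h, finrank_top, Module.finrank_self]⟩
  have hcancel : ∀ E : ℚ, c * E ≤ 0 → E ≤ 0 := by
    intro E hE
    by_contra hcon
    push Not at hcon
    have := mul_pos hcpos hcon
    linarith
  constructor
  · rintro ⟨_, hss⟩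
    have hLI : LinearIndependent K ![s a, s b] := by
      rw [linearIndependent_iff_card_eq_finrank_span, Fintype.card_fin]
      have hle := finrank_range_le_card (R := K) ![s a, s b]
      rw [Fintype.card_fin] at hle
      have hsub : QSubrep s (Submodule.span K (Set.range ![s a, s b])) {a, b} := by
        intro i hi
        rw [Finset.mem_insert, Finset.mem_singleton] at hi
        rcases hi with h | h
        · rw [h]; exact Submodule.subset_span ⟨0, rfl⟩
        · rw [h]; exact Submodule.subset_span ⟨1, rfl⟩
      have hw := hss _ _ hsub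
      unfold QWt at hw
      rw [Finset.sum_pair hab] at hw
      have h3 : (1 : ℚ) <
          (Module.finrank K ↥(Submodule.span K (Set.range ![s a, s b])) : ℚ) := by linarith
      have h2' : 1 < Module.finrank K ↥(Submodule.span K (Set.range ![s a, s b])) := by
        exact_mod_cast h3
      unfold Set.finrank at hle ⊢
      omega
    refine ⟨hLI, fun t ht => ?_⟩
    have hsa : s a ≠ 0 := hLI.ne_zero 0
    have hsb : s b ≠ 0 := hLI.ne_zero 1
    constructor
    · rw [Fin.sum_univ_two]
      have hsp := hsplit θ
      show c * (θ a - 1) + c * (θ b - 1) + ∑ i : {i : κ // i ≠ a ∧ i ≠ b}, c * θ i.1 = 0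
      rw [← Finset.mul_sum]
      have hs : ∑ i : {i : κ // i ≠ a ∧ i ≠ b}, θ i.1 = 2 - θ a - θ b := by linarith
      rw [hs]; ring
    · intro U I' hsub
      unfold PWt
      rw [Fin.sum_univ_two]
      show c * (θ a - 1) * (Module.finrank K (U 0) : ℚ)
        + c * (θ b - 1) * (Module.finrank K (U 1) : ℚ) + ∑ i ∈ I', c * θ i.1 ≤ 0
      rw [← Finset.mul_sum]
      have hI'nn : 0 ≤ ∑ i ∈ I', θ i.1 := Finset.sum_nonneg (fun i _ => h0 i.1)
      have hI'le : ∑ i ∈ I', θ i.1 ≤ 2 - θ a - θ b := by
        have h1' := Finset.sum_le_sum_of_subset_of_nonneg (Finset.subset_univ I')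
          (fun i _ _ => h0 i.1)
        have h2'' := hsplit θ
        linarith
      obtain ⟨e, hedef⟩ : ∃ e : {i : κ // i ≠ a ∧ i ≠ b} ↪ κ,
          e = Function.Embedding.subtype _ := ⟨_, rfl⟩
      have heapp : ∀ i, e i = i.1 := fun i => by rw [hedef]; rfl
      have hmapsum : ∑ i ∈ I'.map e, θ i = ∑ i ∈ I', θ i.1 := by
        rw [Finset.sum_map]
        apply Finset.sum_congr rfl
        intro i _
        rw [heapp]
      have hanot : a ∉ I'.map e := by
        rw [Finset.mem_map]; rintro ⟨i, _, hi⟩; rw [heapp] at hi; exact i.2.1 hi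
      have hbnot : b ∉ I'.map e := by
        rw [Finset.mem_map]; rintro ⟨i, _, hi⟩; rw [heapp] at hi; exact i.2.2 hi
      rcases hfrK (U 0) with ⟨hU0, hd0⟩ | ⟨hU0, hd0⟩ <;>
        rcases hfrK (U 1) with ⟨hU1, hd1⟩ | ⟨hU1, hd1⟩
      · rw [hd0, hd1]
        have hsubQ : QSubrep s ⊥ (I'.map e) := by
          intro i hi
          rw [Finset.mem_map] at hi
          obtain ⟨i', hi', rfl⟩ := hi
          have e0 : t i' 0 = 0 := by
            have := hsub i' hi' 0; rw [hU0] at this; exact (Submodule.mem_bot K).mp this
          have e1 : t i' 1 = 0 := by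
            have := hsub i' hi' 1; rw [hU1] at this; exact (Submodule.mem_bot K).mp this
          rw [heapp, ht i', e0, e1, zero_smul, zero_smul, add_zero]
          exact Submodule.zero_mem _
        have hw := hss _ _ hsubQ
        unfold QWt at hw
        rw [finrank_bot, hmapsum] at hw
        push_cast at hw ⊢
        have key : ∑ i ∈ I', θ i.1 ≤ 0 := by linarith
        have := mul_le_mul_of_nonneg_left key hcpos.le
        linarith
      · rw [hd0, hd1]
        have hsubQ : QSubrep s (K ∙ s b) (insert b (I'.map e)) := by
          intro i hi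
          rw [Finset.mem_insert] at hi
          rcases hi with h | hi
          · rw [h]; exact Submodule.mem_span_singleton_self _
          · rw [Finset.mem_map] at hi
            obtain ⟨i', hi', rfl⟩ := hi
            have e0 : t i' 0 = 0 := by
              have := hsub i' hi' 0; rw [hU0] at this; exact (Submodule.mem_bot K).mp this
            rw [heapp, ht i', e0, zero_smul, zero_add]
            exact Submodule.smul_mem _ _ (Submodule.mem_span_singleton_self _)
        have hw := hss _ _ hsubQ
        unfold QWt at hw
        rw [finrank_span_singleton hsb, Finset.sum_insert hbnot, hmapsum] at hw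
        push_cast at hw ⊢
        have key : (θ b - 1) + ∑ i ∈ I', θ i.1 ≤ 0 := by linarith
        have := mul_le_mul_of_nonneg_left key hcpos.le
        linarith
      · rw [hd0, hd1]
        have hsubQ : QSubrep s (K ∙ s a) (insert a (I'.map e)) := by
          intro i hi
          rw [Finset.mem_insert] at hi
          rcases hi with h | hi
          · rw [h]; exact Submodule.mem_span_singleton_self _
          · rw [Finset.mem_map] at hi
            obtain ⟨i', hi', rfl⟩ := hi
            have e1 : t i' 1 = 0 := by
              have := hsub i' hi' 1; rw [hU1] at this; exact (Submodule.mem_bot K).mp this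
            rw [heapp, ht i', e1, zero_smul, add_zero]
            exact Submodule.smul_mem _ _ (Submodule.mem_span_singleton_self _)
        have hw := hss _ _ hsubQ
        unfold QWt at hw
        rw [finrank_span_singleton hsa, Finset.sum_insert hanot, hmapsum] at hw
        push_cast at hw ⊢
        have key : (θ a - 1) + ∑ i ∈ I', θ i.1 ≤ 0 := by linarith
        have := mul_le_mul_of_nonneg_left key hcpos.le
        linarith
      · rw [hd0, hd1]
        push_cast
        have key : (θ a - 1) + (θ b - 1) + ∑ i ∈ I', θ i.1 ≤ 0 := by linarith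
        have := mul_le_mul_of_nonneg_left key hcpos.le
        linarith
  · rintro ⟨hLI, H⟩
    have hsa : s a ≠ 0 := hLI.ne_zero 0
    have hsb : s b ≠ 0 := hLI.ne_zero 1
    have hpair := LinearIndependent.pair_iff.mp hLI
    have htop := hLI.span_eq_top_of_card_eq_finrank'
      (by rw [Fintype.card_fin, Module.finrank_fin_fun])
    have hex : ∀ v : Fin 2 → K, ∃ x y : K, v = x • s a + y • s b := by
      intro v
      have hv : v ∈ Submodule.span K (Set.range ![s a, s b]) := by
        rw [htop]; exact Submodule.mem_top
      obtain ⟨g, hg⟩ := (Submodule.mem_span_range_iff_exists_fun K).mp hv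
      rw [Fin.sum_univ_two] at hg
      exact ⟨g 0, g 1, hg.symm⟩
    choose X Y hXY using hex
    obtain ⟨t, htdef⟩ : ∃ t : {i : κ // i ≠ a ∧ i ≠ b} → (Fin 2 → K),
        t = fun i => ![X (s i.1), Y (s i.1)] := ⟨_, rfl⟩
    have ht : ∀ i : {i : κ // i ≠ a ∧ i ≠ b}, s i.1 = t i 0 • s a + t i 1 • s b := by
      intro i; rw [htdef]; exact hXY (s i.1)
    obtain ⟨hPtot, hP⟩ := H t ht
    have hnotboth : ∀ L : Submodule K (Fin 2 → K), Module.finrank K L < 2 →
        s a ∈ L → s b ∈ L → False := by
      intro L hL ha hb
      have hle : Submodule.span K (Set.range ![s a, s b]) ≤ L := by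
        rw [Submodule.span_le]; rintro x ⟨i, rfl⟩; fin_cases i; exacts [ha, hb]
      rw [htop] at hle
      have := Submodule.finrank_mono hle
      rw [finrank_top, Module.finrank_fin_fun] at this
      omega
    refine ⟨by rw [h2]; norm_num, ?_⟩
    intro L I hLI'
    unfold QWt
    have hle2 : Module.finrank K L ≤ 2 := by
      have := Submodule.finrank_le L; rwa [Module.finrank_fin_fun] at this
    obtain ⟨I', hI'def⟩ : ∃ I' : Finset {i : κ // i ≠ a ∧ i ≠ b},
        I' = Finset.univ.filter (fun i => i.1 ∈ I) := ⟨_, rfl⟩
    have hsumI : ∑ i ∈ I, θ i = (if a ∈ I then θ a else 0) + (if b ∈ I then θ b else 0)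
        + ∑ i ∈ I', θ i.1 := by
      have h := hsplit (fun i => if i ∈ I then θ i else 0)
      rw [Finset.sum_ite_mem, Finset.univ_inter] at h
      rw [h, hI'def, Finset.sum_filter]
    have hI'mem : ∀ i' ∈ I', s i'.1 ∈ L := by
      intro i' hi'
      rw [hI'def, Finset.mem_filter] at hi'
      exact hLI' _ hi'.2
    have hI'nn : 0 ≤ ∑ i ∈ I', θ i.1 := Finset.sum_nonneg (fun i _ => h0 i.1)
    have hI'le : ∑ i ∈ I', θ i.1 ≤ 2 - θ a - θ b := by
      have h1' := Finset.sum_le_sum_of_subset_of_nonneg (Finset.subset_univ I')
        (fun i _ _ => h0 i.1)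
      have h2'' := hsplit θ
      linarith
    rw [hsumI]
    rcases Nat.lt_or_ge (Module.finrank K L) 2 with hlt | hge
    swap
    · have h22 : Module.finrank K L = 2 := by omega
      rw [h22]; push_cast
      have ha' : (if a ∈ I then θ a else 0) ≤ θ a := by split_ifs; exacts [le_refl _, h0 a]
      have hb' : (if b ∈ I then θ b else 0) ≤ θ b := by split_ifs; exacts [le_refl _, h0 b]
      linarith
    have hpos_of : ∀ x : κ, x ∈ I → s x ≠ 0 → Module.finrank K L = 1 := by
      intro x hx hsx
      have : 0 < Module.finrank K L := by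
        rw [Module.finrank_pos_iff_exists_ne_zero (R := K) (M := ↥L)]
        exact ⟨⟨s x, hLI' x hx⟩, fun h => hsx (congrArg Subtype.val h)⟩
      omega
    by_cases haI : a ∈ I <;> by_cases hbI : b ∈ I
    · exact (hnotboth L hlt (hLI' a haI) (hLI' b hbI)).elim
    · rw [if_pos haI, if_neg hbI, hpos_of a haI hsa]
      have hPsub : PSubrep t ![⊤, ⊥] I' := by
        intro i' hi' j
        fin_cases j
        · exact Submodule.mem_top
        · show t i' 1 ∈ (⊥ : Submodule K K)
          rw [Submodule.mem_bot]
          by_contra hne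
          apply hnotboth L hlt (hLI' a haI)
          have hmem := hI'mem i' hi'
          rw [ht i'] at hmem
          have h3 : t i' 1 • s b ∈ L := by
            have := L.sub_mem hmem (L.smul_mem (t i' 0) (hLI' a haI))
            rwa [add_sub_cancel_left] at this
          have := L.smul_mem (t i' 1)⁻¹ h3
          rwa [smul_smul, inv_mul_cancel₀ hne, one_smul] at this
      have hw := hP _ _ hPsub
      unfold PWt at hw
      rw [Fin.sum_univ_two] at hw
      have hw' : c * (θ a - 1) * ((Module.finrank K (⊤ : Submodule K K) : ℕ) : ℚ)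
          + c * (θ b - 1) * ((Module.finrank K (⊥ : Submodule K K) : ℕ) : ℚ)
          + ∑ i ∈ I', c * θ i.1 ≤ 0 := hw
      rw [finrank_top, Module.finrank_self, finrank_bot, ← Finset.mul_sum] at hw'
      push_cast at hw' ⊢
      have key := hcancel ((θ a - 1) + ∑ i ∈ I', θ i.1) (by linarith)
      linarith
    · rw [if_neg haI, if_pos hbI, hpos_of b hbI hsb]
      have hPsub : PSubrep t ![⊥, ⊤] I' := by
        intro i' hi' j
        fin_cases j
        · show t i' 0 ∈ (⊥ : Submodule K K)
          rw [Submodule.mem_bot]
          by_contra hne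
          apply hnotboth L hlt _ (hLI' b hbI)
          have hmem := hI'mem i' hi'
          rw [ht i'] at hmem
          have h3 : t i' 0 • s a ∈ L := by
            have := L.sub_mem hmem (L.smul_mem (t i' 1) (hLI' b hbI))
            rwa [add_sub_cancel_right] at this
          have := L.smul_mem (t i' 0)⁻¹ h3
          rwa [smul_smul, inv_mul_cancel₀ hne, one_smul] at this
        · exact Submodule.mem_top
      have hw := hP _ _ hPsub
      unfold PWt at hw
      rw [Fin.sum_univ_two] at hw
      have hw' : c * (θ a - 1) * ((Module.finrank K (⊥ : Submodule K K) : ℕ) : ℚ)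
          + c * (θ b - 1) * ((Module.finrank K (⊤ : Submodule K K) : ℕ) : ℚ)
          + ∑ i ∈ I', c * θ i.1 ≤ 0 := hw
      rw [finrank_top, Module.finrank_self, finrank_bot, ← Finset.mul_sum] at hw'
      push_cast at hw' ⊢
      have key := hcancel ((θ b - 1) + ∑ i ∈ I', θ i.1) (by linarith)
      linarith
    · rw [if_neg haI, if_neg hbI]
      have h01 : Module.finrank K L = 0 ∨ Module.finrank K L = 1 := by omega
      rcases h01 with hd | hd
      · rw [hd]
        have hbot : L = ⊥ := Submodule.finrank_eq_zero.mp hd
        have hPsub : PSubrep t ![⊥, ⊥] I' := by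
          intro i' hi' j
          have hmem := hI'mem i' hi'
          rw [hbot, Submodule.mem_bot, ht i'] at hmem
          obtain ⟨e0, e1⟩ := hpair _ _ hmem
          fin_cases j
          · show t i' 0 ∈ (⊥ : Submodule K K)
            rw [Submodule.mem_bot]; exact e0
          · show t i' 1 ∈ (⊥ : Submodule K K)
            rw [Submodule.mem_bot]; exact e1
        have hw := hP _ _ hPsub
        unfold PWt at hw
        rw [Fin.sum_univ_two] at hw
        have hw' : c * (θ a - 1) * ((Module.finrank K (⊥ : Submodule K K) : ℕ) : ℚ)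
            + c * (θ b - 1) * ((Module.finrank K (⊥ : Submodule K K) : ℕ) : ℚ)
            + ∑ i ∈ I', c * θ i.1 ≤ 0 := hw
        rw [finrank_bot, ← Finset.mul_sum] at hw'
        push_cast at hw' ⊢
        have key := hcancel (∑ i ∈ I', θ i.1) (by linarith)
        linarith
      · rw [hd]
        push_cast
        linarith

end Groth.Agent.S18562
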