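import Groth.Statements.S18563
import Mathlib
import Groth.Agent.S18562

set_option autoImplicit false
universe u v
open PtQuiv

namespace Groth.Agent.S18563

/-- Let K be a field, κ a finite index type with a ≠ b, and s i ∈ K² a representation of the quiver with
a central vertex carrying the plane and one vertex per i : κ carrying a line mapping to the plane by
1 ↦ s i. Let θ be a weight of the hypersimplex (0 ≤ θ i ≤ 1, Σ θ i = 2, central weight -1) with 1 <
θ a + θ b < 2, and put c = 1 / (2 - θ a - θ b). Then s is θ-stable if and only if s a, s b are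
linearly independent and, writing every other s i = t i 0 • s a + t i 1 • s b, the representation t
of the quiver with two one-dimensional sinks p₀, p₁ and one one-dimensional source per i ≠ a, b
(arrow to p_j given by t i j) is stable for the weight c (θ a - 1) at p₀, c (θ b - 1) at p₁ and c θ
i at the sources. (The published statement is about representations over a base scheme, with
(semi)stability tested on geometric fibres, that is over algebraically closed fields; this row
states the fibrewise content over an arbitrary field.) -/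
theorem result (K : Type u) [Field K]
    (κ : Type v) [Fintype κ] [DecidableEq κ] (a b : κ) (hab : a ≠ b) (s : κ → (Fin 2 → K))
    (θ : κ → ℚ) (h0 : ∀ i, 0 ≤ θ i) (h1 : ∀ i, θ i ≤ 1) (h2 : ∑ i, θ i = 2)
    (hθ : 1 < θ a + θ b) (hθ' : θ a + θ b < 2) :
    PtQuiv.QStable (-1) θ s ↔
      (LinearIndependent K ![s a, s b] ∧
        ∀ t : {i : κ // i ≠ a ∧ i ≠ b} → (Fin 2 → K),
          (∀ i, s i.1 = t i 0 • s a + t i 1 • s b) →
            PtQuiv.PStable ![(2 - θ a - θ b)⁻¹ * (θ a - 1), (2 - θ a - θ b)⁻¹ * (θ b - 1)]
              (fun i : {i : κ // i ≠ a ∧ i ≠ b} => (2 - θ a - θ b)⁻¹ * θ i.1) t) := by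
  classical
  have hSS := Groth.Agent.S18562.result K κ a b hab s θ h0 h1 h2 hθ hθ'
  obtain ⟨c, hcdef⟩ : ∃ c : ℚ, c = (2 - θ a - θ b)⁻¹ := ⟨_, rfl⟩
  have hcpos : 0 < c := by rw [hcdef]; exact inv_pos.mpr (by linarith)
  rw [← hcdef] at hSS ⊢
  have hsplit : ∀ g : κ → ℚ, ∑ i, g i = g a + g b + ∑ i : {i : κ // i ≠ a ∧ i ≠ b}, g i.1 := by
    intro g
    have hsub : ({a, b} : Finset κ) ⊆ Finset.univ := Finset.subset_univ _
    rw [← Finset.sum_sdiff hsub, Finset.sum_pair hab]
    have : ∑ x ∈ Finset.univ \ {a, b}, g x = ∑ i : {i : κ // i ≠ a ∧ i ≠ b}, g i.1 := by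
      apply Finset.sum_subtype
      intro x
      simp only [Finset.mem_sdiff, Finset.mem_univ, true_and, Finset.mem_insert,
        Finset.mem_singleton, not_or]
    rw [this]; ring
  have hfrK : ∀ U : Submodule K K, (U = ⊥ ∧ Module.finrank K U = 0) ∨
      (U = ⊤ ∧ Module.finrank K U = 1) := by
    intro U
    rcases Ideal.eq_bot_or_top U with h | h
    · left; exact ⟨h, by rw [h]; exact finrank_bot K K⟩
    · right; exact ⟨h, by rw [h, finrank_top, Module.finrank_self]⟩
  have hcz : ∀ E : ℚ, c * E = 0 → E = 0 := fun E hE =>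
    (mul_eq_zero.mp hE).resolve_left hcpos.ne'
  have hbt2 : (⊥ : Submodule K (Fin 2 → K)) ≠ ⊤ := bot_ne_top
  have hbt1 : (⊥ : Submodule K K) ≠ ⊤ := bot_ne_top
  constructor
  · rintro ⟨hQss, hQst⟩
    obtain ⟨hLI, hPss⟩ := hSS.mp hQss
    have hsa : s a ≠ 0 := hLI.ne_zero 0
    have hsb : s b ≠ 0 := hLI.ne_zero 1
    refine ⟨hLI, fun t ht => ⟨hPss t ht, ?_⟩⟩
    intro U I' hsub hwt
    unfold PWt at hwt
    rw [Fin.sum_univ_two] at hwt
    have hwt' : c * (θ a - 1) * (Module.finrank K (U 0) : ℚ)
        + c * (θ b - 1) * (Module.finrank K (U 1) : ℚ) + ∑ i ∈ I', c * θ i.1 = 0 := hwt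
    rw [← Finset.mul_sum] at hwt'
    obtain ⟨e, hedef⟩ : ∃ e : {i : κ // i ≠ a ∧ i ≠ b} ↪ κ,
        e = Function.Embedding.subtype _ := ⟨_, rfl⟩
    have heapp : ∀ i, e i = i.1 := fun i => by rw [hedef]; rfl
    have hmapsum : ∑ i ∈ I'.map e, θ i = ∑ i ∈ I', θ i.1 := by
      rw [Finset.sum_map]
      apply Finset.sum_congr rfl
      intro i _
      rw [heapp]
    have hanot : a ∉ I'.map e := by
      rw [Finset.mem_map]; rintro ⟨i, _, hi⟩; rw [heapp] at hi; exact i.2.1 hi
    have hbnot : b ∉ I'.map e := by
      rw [Finset.mem_map]; rintro ⟨i, _, hi⟩; rw [heapp] at hi; exact i.2.2 hi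
    rcases hfrK (U 0) with ⟨hU0, hd0⟩ | ⟨hU0, hd0⟩ <;>
      rcases hfrK (U 1) with ⟨hU1, hd1⟩ | ⟨hU1, hd1⟩
    · rw [hd0, hd1] at hwt'
      push_cast at hwt'
      have hSig : ∑ i ∈ I', θ i.1 = 0 := hcz (∑ i ∈ I', θ i.1) (by linarith)
      have hsubQ : QSubrep s ⊥ (I'.map e) := by
        intro i hi
        rw [Finset.mem_map] at hi
        obtain ⟨i', hi', rfl⟩ := hi
        have e0 : t i' 0 = 0 := by
          have := hsub i' hi' 0; rw [hU0] at this; exact (Submodule.mem_bot K).mp this
        have e1 : t i' 1 = 0 := by
          have := hsub i' hi' 1; rw [hU1] at this; exact (Submodule.mem_bot K).mp this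
        rw [heapp, ht i', e0, e1, zero_smul, zero_smul, add_zero]
        exact Submodule.zero_mem _
      have hq := hQst _ _ hsubQ (by
        unfold QWt; rw [finrank_bot, hmapsum, hSig]; norm_num)
      rcases hq with ⟨_, hI⟩ | ⟨hL, _⟩
      · left
        refine ⟨?_, Finset.map_eq_empty.mp hI⟩
        funext j; fin_cases j; exacts [hU0, hU1]
      · exact absurd hL hbt2
    · exfalso
      rw [hd0, hd1] at hwt'
      push_cast at hwt'
      have hSig : (θ b - 1) + ∑ i ∈ I', θ i.1 = 0 := hcz ((θ b - 1) + ∑ i ∈ I', θ i.1) (by linarith)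
      have hsubQ : QSubrep s (K ∙ s b) (insert b (I'.map e)) := by
        intro i hi
        rw [Finset.mem_insert] at hi
        rcases hi with h | hi
        · rw [h]; exact Submodule.mem_span_singleton_self _
        · rw [Finset.mem_map] at hi
          obtain ⟨i', hi', rfl⟩ := hi
          have e0 : t i' 0 = 0 := by
            have := hsub i' hi' 0; rw [hU0] at this; exact (Submodule.mem_bot K).mp this
          rw [heapp, ht i', e0, zero_smul, zero_add]
          exact Submodule.smul_mem _ _ (Submodule.mem_span_singleton_self _)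
      have hq := hQst _ _ hsubQ (by
        unfold QWt
        rw [finrank_span_singleton hsb, Finset.sum_insert hbnot, hmapsum]
        push_cast; linarith)
      rcases hq with ⟨hL, _⟩ | ⟨hL, _⟩
      · exact hsb (Submodule.span_singleton_eq_bot.mp hL)
      · have := finrank_span_singleton (K := K) hsb
        rw [hL, finrank_top, Module.finrank_fin_fun] at this
        omega
    · exfalso
      rw [hd0, hd1] at hwt'
      push_cast at hwt'
      have hSig : (θ a - 1) + ∑ i ∈ I', θ i.1 = 0 := hcz ((θ a - 1) + ∑ i ∈ I', θ i.1) (by linarith)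
      have hsubQ : QSubrep s (K ∙ s a) (insert a (I'.map e)) := by
        intro i hi
        rw [Finset.mem_insert] at hi
        rcases hi with h | hi
        · rw [h]; exact Submodule.mem_span_singleton_self _
        · rw [Finset.mem_map] at hi
          obtain ⟨i', hi', rfl⟩ := hi
          have e1 : t i' 1 = 0 := by
            have := hsub i' hi' 1; rw [hU1] at this; exact (Submodule.mem_bot K).mp this
          rw [heapp, ht i', e1, zero_smul, add_zero]
          exact Submodule.smul_mem _ _ (Submodule.mem_span_singleton_self _)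
      have hq := hQst _ _ hsubQ (by
        unfold QWt
        rw [finrank_span_singleton hsa, Finset.sum_insert hanot, hmapsum]
        push_cast; linarith)
      rcases hq with ⟨hL, _⟩ | ⟨hL, _⟩
      · exact hsa (Submodule.span_singleton_eq_bot.mp hL)
      · have := finrank_span_singleton (K := K) hsa
        rw [hL, finrank_top, Module.finrank_fin_fun] at this
        omega
    · rw [hd0, hd1] at hwt'
      push_cast at hwt'
      have hSig : (θ a - 1) + (θ b - 1) + ∑ i ∈ I', θ i.1 = 0 :=
        hcz ((θ a - 1) + (θ b - 1) + ∑ i ∈ I', θ i.1) (by linarith)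
      have hsubQ : QSubrep s ⊤ (insert a (insert b (I'.map e))) := fun i _ => Submodule.mem_top
      have hanot' : a ∉ insert b (I'.map e) := by
        rw [Finset.mem_insert]; rintro (h | h); exacts [hab h, hanot h]
      have hq := hQst _ _ hsubQ (by
        unfold QWt
        rw [finrank_top, Module.finrank_fin_fun, Finset.sum_insert hanot',
          Finset.sum_insert hbnot, hmapsum]
        push_cast; linarith)
      rcases hq with ⟨hL, _⟩ | ⟨_, hI⟩
      · exact absurd hL.symm hbt2
      · right
        refine ⟨?_, ?_⟩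
        · funext j; fin_cases j; exacts [hU0, hU1]
        · rw [Finset.eq_univ_iff_forall]
          intro i'
          have hmem : e i' ∈ insert a (insert b (I'.map e)) := by
            rw [hI]; exact Finset.mem_univ _
          rw [Finset.mem_insert, Finset.mem_insert] at hmem
          rcases hmem with h | h | h
          · rw [heapp] at h; exact absurd h i'.2.1
          · rw [heapp] at h; exact absurd h i'.2.2
          · exact (Finset.mem_map' e).mp h
  · rintro ⟨hLI, H⟩
    have hQss : QSemistable (-1) θ s := hSS.mpr ⟨hLI, fun t ht => (H t ht).1⟩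
    refine ⟨hQss, ?_⟩
    have hsa : s a ≠ 0 := hLI.ne_zero 0
    have hsb : s b ≠ 0 := hLI.ne_zero 1
    have hpair := LinearIndependent.pair_iff.mp hLI
    have htop := hLI.span_eq_top_of_card_eq_finrank'
      (by rw [Fintype.card_fin, Module.finrank_fin_fun])
    have hex : ∀ v : Fin 2 → K, ∃ x y : K, v = x • s a + y • s b := by
      intro v
      have hv : v ∈ Submodule.span K (Set.range ![s a, s b]) := by
        rw [htop]; exact Submodule.mem_top
      obtain ⟨g, hg⟩ := (Submodule.mem_span_range_iff_exists_fun K).mp hv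
      rw [Fin.sum_univ_two] at hg
      exact ⟨g 0, g 1, hg.symm⟩
    choose X Y hXY using hex
    obtain ⟨t, htdef⟩ : ∃ t : {i : κ // i ≠ a ∧ i ≠ b} → (Fin 2 → K),
        t = fun i => ![X (s i.1), Y (s i.1)] := ⟨_, rfl⟩
    have ht : ∀ i : {i : κ // i ≠ a ∧ i ≠ b}, s i.1 = t i 0 • s a + t i 1 • s b := by
      intro i; rw [htdef]; exact hXY (s i.1)
    obtain ⟨_, hPst⟩ := H t ht
    have hnotboth : ∀ L : Submodule K (Fin 2 → K), Module.finrank K L < 2 →
        s a ∈ L → s b ∈ L → False := by
      intro L hL ha hb
      have hle : Submodule.span K (Set.range ![s a, s b]) ≤ L := by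
        rw [Submodule.span_le]; rintro x ⟨i, rfl⟩; fin_cases i; exacts [ha, hb]
      rw [htop] at hle
      have := Submodule.finrank_mono hle
      rw [finrank_top, Module.finrank_fin_fun] at this
      omega
    intro L I hLI' hwt
    unfold QWt at hwt
    have hle2 : Module.finrank K L ≤ 2 := by
      have := Submodule.finrank_le L; rwa [Module.finrank_fin_fun] at this
    obtain ⟨I', hI'def⟩ : ∃ I' : Finset {i : κ // i ≠ a ∧ i ≠ b},
        I' = Finset.univ.filter (fun i => i.1 ∈ I) := ⟨_, rfl⟩
    have hsumI : ∑ i ∈ I, θ i = (if a ∈ I then θ a else 0) + (if b ∈ I then θ b else 0)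
        + ∑ i ∈ I', θ i.1 := by
      have h := hsplit (fun i => if i ∈ I then θ i else 0)
      rw [Finset.sum_ite_mem, Finset.univ_inter] at h
      rw [h, hI'def, Finset.sum_filter]
    have hI'mem : ∀ i' ∈ I', s i'.1 ∈ L := by
      intro i' hi'
      rw [hI'def, Finset.mem_filter] at hi'
      exact hLI' _ hi'.2
    have hI'nn : 0 ≤ ∑ i ∈ I', θ i.1 := Finset.sum_nonneg (fun i _ => h0 i.1)
    have hI'le : ∑ i ∈ I', θ i.1 ≤ 2 - θ a - θ b := by
      have h1' := Finset.sum_le_sum_of_subset_of_nonneg (Finset.subset_univ I')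
        (fun i _ _ => h0 i.1)
      have h2'' := hsplit θ
      linarith
    rw [hsumI] at hwt
    have hcases : Module.finrank K L = 0 ∨ Module.finrank K L = 1 ∨ Module.finrank K L = 2 := by
      omega
    rcases hcases with hd | hd | hd
    · left
      have hbot : L = ⊥ := Submodule.finrank_eq_zero.mp hd
      have haI : a ∉ I := fun h => hsa (by
        have := hLI' a h; rwa [hbot, Submodule.mem_bot] at this)
      have hbI : b ∉ I := fun h => hsb (by
        have := hLI' b h; rwa [hbot, Submodule.mem_bot] at this)
      rw [if_neg haI, if_neg hbI, hd] at hwt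
      push_cast at hwt
      have hSig : ∑ i ∈ I', θ i.1 = 0 := by linarith
      have hPsub : PSubrep t ![⊥, ⊥] I' := by
        intro i' hi' j
        have hmem := hI'mem i' hi'
        rw [hbot, Submodule.mem_bot, ht i'] at hmem
        obtain ⟨e0, e1⟩ := hpair _ _ hmem
        fin_cases j
        · show t i' 0 ∈ (⊥ : Submodule K K)
          rw [Submodule.mem_bot]; exact e0
        · show t i' 1 ∈ (⊥ : Submodule K K)
          rw [Submodule.mem_bot]; exact e1
      have hq := hPst _ _ hPsub (by
        unfold PWt; rw [Fin.sum_univ_two]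
        show c * (θ a - 1) * ((Module.finrank K (⊥ : Submodule K K) : ℕ) : ℚ)
          + c * (θ b - 1) * ((Module.finrank K (⊥ : Submodule K K) : ℕ) : ℚ)
          + ∑ i ∈ I', c * θ i.1 = 0
        rw [finrank_bot, ← Finset.mul_sum, hSig]; norm_num)
      rcases hq with ⟨_, hI'e⟩ | ⟨hU, _⟩
      · refine ⟨hbot, ?_⟩
        rw [Finset.eq_empty_iff_forall_notMem]
        intro i hi
        have hia : i ≠ a := fun h => haI (h ▸ hi)
        have hib : i ≠ b := fun h => hbI (h ▸ hi)
        have hmem : (⟨i, hia, hib⟩ : {i : κ // i ≠ a ∧ i ≠ b}) ∈ I' := by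
          rw [hI'def, Finset.mem_filter]; exact ⟨Finset.mem_univ _, hi⟩
        rw [hI'e] at hmem
        exact absurd hmem (Finset.notMem_empty _)
      · exact absurd (congrFun hU 0) hbt1
    · exfalso
      by_cases haI : a ∈ I <;> by_cases hbI : b ∈ I
      · exact hnotboth L (by omega) (hLI' a haI) (hLI' b hbI)
      · rw [if_pos haI, if_neg hbI, hd] at hwt
        push_cast at hwt
        have hPsub : PSubrep t ![⊤, ⊥] I' := by
          intro i' hi' j
          fin_cases j
          · exact Submodule.mem_top
          · show t i' 1 ∈ (⊥ : Submodule K K)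
            rw [Submodule.mem_bot]
            by_contra hne
            apply hnotboth L (by omega) (hLI' a haI)
            have hmem := hI'mem i' hi'
            rw [ht i'] at hmem
            have h3 : t i' 1 • s b ∈ L := by
              have := L.sub_mem hmem (L.smul_mem (t i' 0) (hLI' a haI))
              rwa [add_sub_cancel_left] at this
            have := L.smul_mem (t i' 1)⁻¹ h3
            rwa [smul_smul, inv_mul_cancel₀ hne, one_smul] at this
        have hq := hPst _ _ hPsub (by
          unfold PWt; rw [Fin.sum_univ_two]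
          show c * (θ a - 1) * ((Module.finrank K (⊤ : Submodule K K) : ℕ) : ℚ)
            + c * (θ b - 1) * ((Module.finrank K (⊥ : Submodule K K) : ℕ) : ℚ)
            + ∑ i ∈ I', c * θ i.1 = 0
          rw [finrank_top, Module.finrank_self, finrank_bot, ← Finset.mul_sum]
          push_cast
          have : (θ a - 1) + ∑ i ∈ I', θ i.1 = 0 := by linarith
          linear_combination c * this)
        rcases hq with ⟨hU, _⟩ | ⟨hU, _⟩
        · exact hbt1 (congrFun hU 0).symm
        · exact hbt1 (congrFun hU 1)
      · rw [if_neg haI, if_pos hbI, hd] at hwt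
        push_cast at hwt
        have hPsub : PSubrep t ![⊥, ⊤] I' := by
          intro i' hi' j
          fin_cases j
          · show t i' 0 ∈ (⊥ : Submodule K K)
            rw [Submodule.mem_bot]
            by_contra hne
            apply hnotboth L (by omega) _ (hLI' b hbI)
            have hmem := hI'mem i' hi'
            rw [ht i'] at hmem
            have h3 : t i' 0 • s a ∈ L := by
              have := L.sub_mem hmem (L.smul_mem (t i' 1) (hLI' b hbI))
              rwa [add_sub_cancel_right] at this
            have := L.smul_mem (t i' 0)⁻¹ h3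
            rwa [smul_smul, inv_mul_cancel₀ hne, one_smul] at this
          · exact Submodule.mem_top
        have hq := hPst _ _ hPsub (by
          unfold PWt; rw [Fin.sum_univ_two]
          show c * (θ a - 1) * ((Module.finrank K (⊥ : Submodule K K) : ℕ) : ℚ)
            + c * (θ b - 1) * ((Module.finrank K (⊤ : Submodule K K) : ℕ) : ℚ)
            + ∑ i ∈ I', c * θ i.1 = 0
          rw [finrank_top, Module.finrank_self, finrank_bot, ← Finset.mul_sum]
          push_cast
          have : (θ b - 1) + ∑ i ∈ I', θ i.1 = 0 := by linarith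
          linear_combination c * this)
        rcases hq with ⟨hU, _⟩ | ⟨hU, _⟩
        · exact hbt1 (congrFun hU 1).symm
        · exact hbt1 (congrFun hU 0)
      · rw [if_neg haI, if_neg hbI, hd] at hwt
        push_cast at hwt
        linarith
    · right
      have hLtop : L = ⊤ := Submodule.eq_top_of_finrank_eq (by rw [hd, Module.finrank_fin_fun])
      rw [hd] at hwt
      push_cast at hwt
      have ha' : (if a ∈ I then θ a else 0) ≤ θ a := by split_ifs; exacts [le_refl _, h0 a]
      have hb' : (if b ∈ I then θ b else 0) ≤ θ b := by split_ifs; exacts [le_refl _, h0 b]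
      have haI : a ∈ I := by
        by_contra h
        rw [if_neg h] at hwt
        have := h1 b
        linarith
      have hbI : b ∈ I := by
        by_contra h
        rw [if_neg h] at hwt
        have := h1 a
        linarith
      rw [if_pos haI, if_pos hbI] at hwt
      have hSig : ∑ i ∈ I', θ i.1 = 2 - θ a - θ b := by linarith
      have hPsub : PSubrep t ![⊤, ⊤] I' := fun i' _ j => by
        fin_cases j <;> exact Submodule.mem_top
      have hq := hPst _ _ hPsub (by
        unfold PWt; rw [Fin.sum_univ_two]
        show c * (θ a - 1) * ((Module.finrank K (⊤ : Submodule K K) : ℕ) : ℚ)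
          + c * (θ b - 1) * ((Module.finrank K (⊤ : Submodule K K) : ℕ) : ℚ)
          + ∑ i ∈ I', c * θ i.1 = 0
        rw [finrank_top, Module.finrank_self, ← Finset.mul_sum, hSig]
        push_cast; ring)
      rcases hq with ⟨hU, _⟩ | ⟨_, hI'u⟩
      · exact absurd (congrFun hU 0).symm hbt1
      · refine ⟨hLtop, ?_⟩
        rw [Finset.eq_univ_iff_forall]
        intro i
        by_cases hia : i = a
        · rw [hia]; exact haI
        by_cases hib : i = b
        · rw [hib]; exact hbI
        have hmem : (⟨i, hia, hib⟩ : {i : κ // i ≠ a ∧ i ≠ b}) ∈ I' := by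
          rw [hI'u]; exact Finset.mem_univ _
        rw [hI'def, Finset.mem_filter] at hmem
        exact hmem.2

end Groth.Agent.S18563
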