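import Groth.Statements.S18589
import Mathlib

set_option autoImplicit false
open CAlg

namespace Groth.Agent.S18589

/-- For a prime p and every natural number n, the n-th Witt addition polynomial over the integers (the
polynomial S_n with (x + y)_n = S_n(x_0, y_0, …, x_n, y_n) for p-typical Witt vectors x, y) is
weighted homogeneous of weighted degree p ^ n for the grading in which the variables x_i and y_i
have weight p ^ i. -/
theorem result (p : ℕ) [Fact p.Prime] (n : ℕ) :
    MvPolynomial.IsWeightedHomogeneous (fun i : Fin 2 × ℕ => p ^ i.2) (WittVector.wittAdd p n) (p ^ n) := by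
  induction n using Nat.strong_induction_on with
  | _ n ih =>
  have hprop := wittStructureInt_prop p (MvPolynomial.X (0 : Fin 2) + MvPolynomial.X 1 :
    MvPolynomial (Fin 2) ℤ) n
  have hL : MvPolynomial.bind₁ (wittStructureInt p (MvPolynomial.X (0 : Fin 2) + MvPolynomial.X 1))
      (wittPolynomial p ℤ n) =
      ∑ i ∈ Finset.range (n + 1), MvPolynomial.C ((p : ℤ) ^ i) *
        (WittVector.wittAdd p i) ^ (p ^ (n - i)) := by
    rw [wittPolynomial_eq_sum_C_mul_X_pow, map_sum]
    refine Finset.sum_congr rfl ?_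
    intro i _
    rw [map_mul, MvPolynomial.bind₁_C_right, map_pow (MvPolynomial.bind₁ _) (MvPolynomial.X i), MvPolynomial.bind₁_X_right]
    rfl
  have hR : MvPolynomial.bind₁ (fun i => MvPolynomial.rename (Prod.mk i) (wittPolynomial p ℤ n))
      (MvPolynomial.X (0 : Fin 2) + MvPolynomial.X 1 : MvPolynomial (Fin 2) ℤ) =
      MvPolynomial.rename (Prod.mk (0 : Fin 2)) (wittPolynomial p ℤ n) +
        MvPolynomial.rename (Prod.mk (1 : Fin 2)) (wittPolynomial p ℤ n) := by
    rw [map_add, MvPolynomial.bind₁_X_right, MvPolynomial.bind₁_X_right]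
  have hren : ∀ b : Fin 2, MvPolynomial.IsWeightedHomogeneous (fun i : Fin 2 × ℕ => p ^ i.2)
      (MvPolynomial.rename (Prod.mk b) (wittPolynomial p ℤ n)) (p ^ n) := by
    intro b
    rw [wittPolynomial_eq_sum_C_mul_X_pow, map_sum]
    apply MvPolynomial.IsWeightedHomogeneous.sum
    intro i hi
    have hin : i ≤ n := Nat.lt_succ_iff.mp (Finset.mem_range.mp hi)
    rw [map_mul, MvPolynomial.rename_C, map_pow (MvPolynomial.rename _) (MvPolynomial.X i), MvPolynomial.rename_X]
    have h1 := ((MvPolynomial.isWeightedHomogeneous_X (R := ℤ) (fun i : Fin 2 × ℕ => p ^ i.2)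
      (b, i)).pow (p ^ (n - i))).C_mul ((p : ℤ) ^ i)
    have e : p ^ (n - i) • (fun i : Fin 2 × ℕ => p ^ i.2) (b, i) = p ^ n := by
      simp only [smul_eq_mul]
      rw [← pow_add, Nat.sub_add_cancel hin]
    rw [e] at h1
    exact h1
  have hlow : MvPolynomial.IsWeightedHomogeneous (fun i : Fin 2 × ℕ => p ^ i.2)
      (∑ i ∈ Finset.range n, MvPolynomial.C ((p : ℤ) ^ i) *
        (WittVector.wittAdd p i) ^ (p ^ (n - i))) (p ^ n) := by
    apply MvPolynomial.IsWeightedHomogeneous.sum
    intro i hi
    have hin : i < n := Finset.mem_range.mp hi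
    have h1 := ((ih i hin).pow (p ^ (n - i))).C_mul ((p : ℤ) ^ i)
    have e : p ^ (n - i) • p ^ i = p ^ n := by
      simp only [smul_eq_mul]
      rw [← pow_add, Nat.sub_add_cancel hin.le]
    rw [e] at h1
    exact h1
  have htop : MvPolynomial.IsWeightedHomogeneous (fun i : Fin 2 × ℕ => p ^ i.2)
      (MvPolynomial.C ((p : ℤ) ^ n) * WittVector.wittAdd p n) (p ^ n) := by
    have hEq : MvPolynomial.C ((p : ℤ) ^ n) * WittVector.wittAdd p n =
        (MvPolynomial.rename (Prod.mk (0 : Fin 2)) (wittPolynomial p ℤ n) +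
        MvPolynomial.rename (Prod.mk (1 : Fin 2)) (wittPolynomial p ℤ n)) -
        ∑ i ∈ Finset.range n, MvPolynomial.C ((p : ℤ) ^ i) *
          (WittVector.wittAdd p i) ^ (p ^ (n - i)) := by
      rw [← hR, ← hprop, hL, Finset.sum_range_succ, Nat.sub_self, pow_zero, pow_one]
      ring
    rw [hEq]
    exact ((hren 0).add (hren 1)).sub hlow
  intro d hd
  apply htop
  rw [MvPolynomial.coeff_C_mul]
  exact mul_ne_zero (pow_ne_zero _ (by exact_mod_cast (Fact.out : p.Prime).ne_zero)) hd

end Groth.Agent.S18589
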