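import Groth.Statements.S18590
import Mathlib
import Groth.Agent.Lib.helper9.H9_WittIso

set_option autoImplicit false
universe u
open CAlg

namespace Groth.Agent.S18590

/-- Let p be a prime, A a commutative ring, K a commutative A-algebra of characteristic p and M_0, M_1,
M_2, … A-submodules of K with M_i · M_j ⊆ M_(i+j) for all i, j. Then the subset of the ring W(K) of
p-typical Witt vectors consisting of the vectors whose n-th coordinate lies in M_(p^n) for every n
is closed under addition and under multiplication by the image of W(A) under W of the structure map;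
in other words it is a W(A)-submodule of W(K). (The published statement is the case of an integral
normal noetherian scheme X of characteristic p with function field K, an affine open subset U with
coordinate ring A, and M_k the module of sections over U of the divisorial sheaf of k·D for a real
Weil divisor D on X; these form such a multiplicative family, and the subset is then the module of
sections over U of the Witt divisorial sheaf of D inside W(K). Only the two stated properties of
that family enter.) -/
theorem result
    (p : ℕ) [Fact p.Prime] (A K : Type u) [CommRing A] [CommRing K] [Algebra A K] [CharP K p]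
    (M : ℕ → Submodule A K)
    (hmul : ∀ (i j : ℕ) (a b : K), a ∈ M i → b ∈ M j → a * b ∈ M (i + j)) :
    (∀ φ ψ : WittVector p K, (∀ n : ℕ, φ.coeff n ∈ M (p ^ n)) → (∀ n : ℕ, ψ.coeff n ∈ M (p ^ n)) →
        ∀ n : ℕ, (φ + ψ).coeff n ∈ M (p ^ n)) ∧
      (∀ (x : WittVector p A) (φ : WittVector p K), (∀ n : ℕ, φ.coeff n ∈ M (p ^ n)) →
        ∀ n : ℕ, (WittVector.map (algebraMap A K) x * φ).coeff n ∈ M (p ^ n)) := by
  classical
  set N : ℕ → Submodule A K :=
    fun k => if k = 0 then M 0 ⊔ Submodule.span A {(1 : K)} else M k with hN
  have hN0 : N 0 = M 0 ⊔ Submodule.span A {(1 : K)} := by simp [hN]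
  have hNpos : ∀ k, k ≠ 0 → N k = M k := by
    intro k hk
    simp [hN, hk]
  have hMN : ∀ k, M k ≤ N k := by
    intro k
    by_cases hk : k = 0
    · subst hk
      rw [hN0]
      exact le_sup_left
    · rw [hNpos k hk]
  have h1 : (1 : K) ∈ N 0 := by
    rw [hN0]
    exact Submodule.mem_sup_right (Submodule.subset_span rfl)
  have hmulN : ∀ (i j : ℕ) (a b : K), a ∈ N i → b ∈ N j → a * b ∈ N (i + j) := by
    intro i j a b ha hb
    by_cases hi : i = 0
    · subst hi
      rw [hN0] at ha
      obtain ⟨m, hm, r1, hr1, rfl⟩ := Submodule.mem_sup.mp ha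
      obtain ⟨r, rfl⟩ := Submodule.mem_span_singleton.mp hr1
      rw [zero_add, add_mul]
      by_cases hj : j = 0
      · subst hj
        rw [hN0] at hb ⊢
        obtain ⟨m', hm', r2, hr2, rfl⟩ := Submodule.mem_sup.mp hb
        obtain ⟨r', rfl⟩ := Submodule.mem_span_singleton.mp hr2
        have e : m * (m' + r' • (1 : K)) + r • (1 : K) * (m' + r' • (1 : K)) =
            (m * m' + r' • m + r • m') + (r * r') • (1 : K) := by
          simp only [Algebra.smul_def, map_mul]
          ring
        rw [e]
        refine Submodule.add_mem _ (Submodule.mem_sup_left ?_)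
          (Submodule.mem_sup_right (Submodule.smul_mem _ _ (Submodule.subset_span rfl)))
        exact Submodule.add_mem _ (Submodule.add_mem _ (by simpa using hmul 0 0 m m' hm hm')
          (Submodule.smul_mem _ _ hm)) (Submodule.smul_mem _ _ hm')
      · rw [hNpos j hj] at hb ⊢
        have e : r • (1 : K) * b = r • b := by rw [smul_mul_assoc, one_mul]
        rw [e]
        exact Submodule.add_mem _ (by simpa using hmul 0 j m b hm hb) (Submodule.smul_mem _ _ hb)
    · rw [hNpos i hi] at ha
      by_cases hj : j = 0
      · subst hj
        rw [hN0] at hb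
        rw [add_zero, hNpos i hi]
        obtain ⟨m', hm', r2, hr2, rfl⟩ := Submodule.mem_sup.mp hb
        obtain ⟨r', rfl⟩ := Submodule.mem_span_singleton.mp hr2
        rw [mul_add, mul_smul_comm, mul_one]
        exact Submodule.add_mem _ (by simpa using hmul i 0 a m' ha hm') (Submodule.smul_mem _ _ ha)
      · rw [hNpos j hj] at hb
        rw [hNpos (i + j) (by omega)]
        exact hmul i j a b ha hb
  have hpn : ∀ n, p ^ n ≠ 0 := fun n => pow_ne_zero _ (Fact.out : p.Prime).ne_zero
  constructor
  · intro φ ψ hφ hψ n
    rw [WittVector.add_coeff, WittVector.peval, ← hNpos (p ^ n) (hpn n)]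
    apply H9_WittIso.aeval_mem_of_homog N h1 hmulN (fun i : Fin 2 × ℕ => p ^ i.2) _ _ _ _
      (H9_WittIso.wittAdd_homog p n)
    rintro ⟨b, i⟩
    fin_cases b
    · exact hMN _ (hφ i)
    · exact hMN _ (hψ i)
  · intro x φ hφ n
    rw [WittVector.mul_coeff, WittVector.peval, ← hNpos (p ^ n) (hpn n)]
    apply H9_WittIso.aeval_mem_of_homog N h1 hmulN
      (fun i : Fin 2 × ℕ => if i.1 = 1 then p ^ i.2 else 0) _ _ _ _
      (H9_WittIso.wittMul_homog p n)
    rintro ⟨b, i⟩
    fin_cases b
    · change (WittVector.map (algebraMap A K) x).coeff i ∈ N 0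
      rw [WittVector.map_coeff, hN0, Algebra.algebraMap_eq_smul_one]
      exact Submodule.mem_sup_right (Submodule.smul_mem _ _ (Submodule.subset_span rfl))
    · exact hMN _ (hφ i)

end Groth.Agent.S18590
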