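import Groth.Statements.S18598
import Mathlib

set_option autoImplicit false
universe u
open SSRed

namespace Groth.Agent.S18598

/-- Let O be a commutative integral domain of characteristic zero, n a positive integer such that no
prime number dividing n is a unit in O, and α an element of O of finite multiplicative order such
that (α − 1)² is divisible by n in O. Then α = 1 if n ≥ 5, α² = 1 if n = 4, α³ = 1 if n = 3, and α⁴
= 1 if n = 2. -/
theorem result (O : Type u) [CommRing O] [IsDomain O] [CharZero O]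
    (n : ℕ) (hn : 0 < n) (hO : ∀ p : ℕ, p.Prime → p ∣ n → ¬ IsUnit (p : O))
    (α : O) (hα : IsOfFinOrder α) (h : (n : O) ∣ (α - 1) ^ 2) :
    (5 ≤ n → α = 1) ∧ (n = 4 → α ^ 2 = 1) ∧ (n = 3 → α ^ 3 = 1) ∧ (n = 2 → α ^ 4 = 1) := by
  classical
  have arith : ∀ p k j n : ℕ, p.Prime → 1 ≤ j → n = p ^ j → j * (p ^ k * (p - 1)) ≤ 2 →
      (n = 2 ∧ p ^ (k + 1) = 2) ∨ (n = 4 ∧ p ^ (k + 1) = 2) ∨ (n = 2 ∧ p ^ (k + 1) = 4) ∨
        (n = 3 ∧ p ^ (k + 1) = 3) := by
    intro p k j n hp hj hn hle
    have hp2 : 2 ≤ p := hp.two_le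
    have hpk : 1 ≤ p ^ k := Nat.one_le_pow _ _ (by omega)
    have h1 : p - 1 ≤ 2 := by
      by_contra hc
      push_neg at hc
      have h3 : 3 ≤ j * (p ^ k * (p - 1)) := by
        calc 3 = 1 * (1 * 3) := by norm_num
          _ ≤ j * (p ^ k * (p - 1)) := Nat.mul_le_mul hj (Nat.mul_le_mul hpk hc)
      omega
    have hp3 : p ≤ 3 := by omega
    interval_cases p
    · have hk : k ≤ 1 := by
        by_contra hc
        push_neg at hc
        have h4 : 4 ≤ 2 ^ k := by
          calc 4 = 2 ^ 2 := by norm_num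
            _ ≤ 2 ^ k := Nat.pow_le_pow_right (by norm_num) hc
        have h5 : 4 ≤ j * (2 ^ k * (2 - 1)) := by
          calc 4 = 1 * (4 * 1) := by norm_num
            _ ≤ j * (2 ^ k * (2 - 1)) := Nat.mul_le_mul hj (Nat.mul_le_mul h4 (by norm_num))
        omega
      interval_cases k
      · have hj2 : j ≤ 2 := by simpa using hle
        interval_cases j
        · left; exact ⟨by simpa using hn, by norm_num⟩
        · right; left; exact ⟨by simpa using hn, by norm_num⟩
      · have hj1 : j ≤ 1 := by
          have h6 : j * 2 ≤ 2 := by simpa using hle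
          omega
        interval_cases j
        right; right; left; exact ⟨by simpa using hn, by norm_num⟩
    · have hk : k = 0 := by
        by_contra hc
        have h3 : 3 ≤ 3 ^ k := by
          calc 3 = 3 ^ 1 := by norm_num
            _ ≤ 3 ^ k := Nat.pow_le_pow_right (by norm_num) (Nat.one_le_iff_ne_zero.2 hc)
        have h5 : 6 ≤ j * (3 ^ k * (3 - 1)) := by
          calc 6 = 1 * (3 * 2) := by norm_num
            _ ≤ j * (3 ^ k * (3 - 1)) := Nat.mul_le_mul hj (Nat.mul_le_mul h3 (by norm_num))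
        omega
      subst hk
      have hj1 : j ≤ 1 := by
        have h6 : j * 2 ≤ 2 := by simpa using hle
        omega
      interval_cases j
      right; right; right; exact ⟨by simpa using hn, by norm_num⟩
  have hmain : 2 ≤ n → (α = 1) ∨ (n = 2 ∧ α ^ 2 = 1) ∨ (n = 4 ∧ α ^ 2 = 1) ∨
      (n = 2 ∧ α ^ 4 = 1) ∨ (n = 3 ∧ α ^ 3 = 1) := by
    intro hn2
    obtain ⟨m, hm_def⟩ : ∃ m, m = orderOf α := ⟨_, rfl⟩
    have hmpos : 0 < m := by rw [hm_def]; exact hα.orderOf_pos
    haveI : NeZero m := ⟨hmpos.ne'⟩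
    have hprim : IsPrimitiveRoot α m := by rw [hm_def]; exact IsPrimitiveRoot.orderOf α
    by_cases hm1 : m = 1
    · left
      have h3 := hprim.pow_eq_one
      rw [hm1, pow_one] at h3
      exact h3
    · right
      have hN : (n : O) ^ (primitiveRoots m O).card ∣
          (Polynomial.eval 1 (Polynomial.cyclotomic m O)) ^ 2 := by
        rw [Polynomial.cyclotomic_eq_prod_X_sub_primitiveRoots hprim, Polynomial.eval_prod,
          ← Finset.prod_pow, ← Finset.prod_const]
        apply Finset.prod_dvd_prod_of_dvd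
        intro μ hμ
        rw [Polynomial.eval_sub, Polynomial.eval_X, Polynomial.eval_C]
        have hμ' : μ ^ m = 1 := ((mem_primitiveRoots hmpos).1 hμ).pow_eq_one
        obtain ⟨i, -, hi⟩ := hprim.eq_pow_of_pow_eq_one hμ'
        have h1 : α - 1 ∣ μ - 1 := by
          rw [← hi]
          exact sub_one_dvd_pow_sub_one α i
        have h2 : (α - 1) ^ 2 ∣ (1 - μ) ^ 2 := by
          have h3 : (1 - μ) ^ 2 = (μ - 1) ^ 2 := by ring
          rw [h3]; exact pow_dvd_pow_of_dvd h1 2
        exact h.trans h2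
      have hcard : (primitiveRoots m O).card = m.totient := hprim.card_primitiveRoots
      rw [hcard] at hN
      have hφpos : 0 < m.totient := Nat.totient_pos.2 hmpos
      have hq : ∀ q : ℕ, q.Prime → q ∣ n →
          (q : O) ^ m.totient ∣ (Polynomial.eval 1 (Polynomial.cyclotomic m O)) ^ 2 := by
        intro q hqp hqn
        obtain ⟨c, hc⟩ := hqn
        refine Dvd.dvd.trans ?_ hN
        apply pow_dvd_pow_of_dvd
        rw [hc, Nat.cast_mul]; exact dvd_mul_right _ _
      by_cases hpp : ∃ (p : ℕ) (k : ℕ), p.Prime ∧ p ^ (k + 1) = m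
      · obtain ⟨p, k, hp, hpk⟩ := hpp
        haveI : Fact p.Prime := ⟨hp⟩
        have heval : Polynomial.eval 1 (Polynomial.cyclotomic m O) = (p : O) := by
          rw [← hpk]; exact Polynomial.eval_one_cyclotomic_prime_pow k
        rw [heval] at hN hq
        have hqp : ∀ q : ℕ, q.Prime → q ∣ n → q = p := by
          intro q hqprime hqn
          by_contra hne
          have hcop : Nat.Coprime (q ^ m.totient) (p ^ 2) :=
            Nat.Coprime.pow _ _ ((Nat.coprime_primes hqprime hp).2 hne)
          have hcopZ : IsCoprime ((q ^ m.totient : ℕ) : ℤ) ((p ^ 2 : ℕ) : ℤ) :=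
            Nat.isCoprime_iff_coprime.2 hcop
          have hcopO : IsCoprime ((q : O) ^ m.totient) ((p : O) ^ 2) := by
            have h' := hcopZ.map (Int.castRingHom O)
            simpa using h'
          have hu : IsUnit ((q : O) ^ m.totient) :=
            hcopO.isUnit_of_dvd' dvd_rfl (hq q hqprime hqn)
          exact hO q hqprime hqn ((isUnit_pow_iff hφpos.ne').1 hu)
        have hnp : n = p ^ n.primeFactorsList.length :=
          Nat.eq_prime_pow_of_unique_prime_dvd (by omega) (fun {d} hd hdn => hqp d hd hdn)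
        obtain ⟨j, hj_def⟩ : ∃ j, j = n.primeFactorsList.length := ⟨_, rfl⟩
        rw [← hj_def] at hnp
        have hj1 : 1 ≤ j := by
          by_contra hc
          have hj0 : j = 0 := by omega
          rw [hj0, pow_zero] at hnp
          omega
        have hpn : p ∣ n := by rw [hnp]; exact dvd_pow_self p (by omega)
        have hpO : (p : O) ≠ 0 := Nat.cast_ne_zero.2 hp.ne_zero
        have hdv : (p : O) ^ (j * m.totient) ∣ (p : O) ^ 2 := by
          have h3 : ((n : O)) ^ m.totient = (p : O) ^ (j * m.totient) := by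
            rw [hnp, Nat.cast_pow, ← pow_mul]
          rw [← h3]; exact hN
        have hle : j * m.totient ≤ 2 := by
          by_contra hc
          push_neg at hc
          obtain ⟨c, hc'⟩ := hdv
          have h3 : (p : O) ^ 2 * 1 = (p : O) ^ 2 * ((p : O) ^ (j * m.totient - 2) * c) := by
            rw [mul_one, ← mul_assoc, ← pow_add, Nat.add_sub_cancel' (by omega : 2 ≤ j * m.totient)]
            exact hc'
          have h4 : (1 : O) = (p : O) ^ (j * m.totient - 2) * c :=
            mul_left_cancel₀ (pow_ne_zero 2 hpO) h3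
          have hu : IsUnit ((p : O) ^ (j * m.totient - 2)) := IsUnit.of_mul_eq_one c h4.symm
          exact hO p hp hpn ((isUnit_pow_iff (by omega)).1 hu)
        have htot : m.totient = p ^ k * (p - 1) := by
          rw [← hpk]; exact Nat.totient_prime_pow_succ hp k
        rw [htot] at hle
        rcases arith p k j n hp hj1 hnp hle with ⟨h1, h2⟩ | ⟨h1, h2⟩ | ⟨h1, h2⟩ | ⟨h1, h2⟩
        · left; exact ⟨h1, by rw [← h2, hpk]; exact hprim.pow_eq_one⟩
        · right; left; exact ⟨h1, by rw [← h2, hpk]; exact hprim.pow_eq_one⟩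
        · right; right; left; exact ⟨h1, by rw [← h2, hpk]; exact hprim.pow_eq_one⟩
        · right; right; right; exact ⟨h1, by rw [← h2, hpk]; exact hprim.pow_eq_one⟩
      · exfalso
        have heval : Polynomial.eval 1 (Polynomial.cyclotomic m O) = 1 := by
          apply Polynomial.eval_one_cyclotomic_not_prime_pow
          intro p hp k hk
          cases k with
          | zero => exact hm1 (by rw [← hk, pow_zero])
          | succ k' => exact hpp ⟨p, k', hp, hk⟩
        rw [heval, one_pow] at hN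
        obtain ⟨q, hqprime, hqn⟩ := Nat.exists_prime_and_dvd (by omega : n ≠ 1)
        have hu : IsUnit ((n : O) ^ m.totient) := isUnit_of_dvd_one hN
        have hun : IsUnit (n : O) := (isUnit_pow_iff hφpos.ne').1 hu
        obtain ⟨c, hc⟩ := hqn
        have h3 : (q : O) ∣ (n : O) := by rw [hc, Nat.cast_mul]; exact dvd_mul_right _ _
        exact hO q hqprime ⟨c, hc⟩ (isUnit_of_dvd_unit h3 hun)
  refine ⟨fun h5 => ?_, fun h4 => ?_, fun h3 => ?_, fun h2 => ?_⟩
  · rcases hmain (by omega) with h' | ⟨hn', -⟩ | ⟨hn', -⟩ | ⟨hn', -⟩ | ⟨hn', -⟩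
    · exact h'
    · omega
    · omega
    · omega
    · omega
  · rcases hmain (by omega) with h' | ⟨hn', h'⟩ | ⟨hn', h'⟩ | ⟨hn', h'⟩ | ⟨hn', h'⟩
    · rw [h', one_pow]
    · omega
    · exact h'
    · omega
    · omega
  · rcases hmain (by omega) with h' | ⟨hn', h'⟩ | ⟨hn', h'⟩ | ⟨hn', h'⟩ | ⟨hn', h'⟩
    · rw [h', one_pow]
    · omega
    · omega
    · omega
    · exact h'
  · rcases hmain (by omega) with h' | ⟨hn', h'⟩ | ⟨hn', h'⟩ | ⟨hn', h'⟩ | ⟨hn', h'⟩
    · rw [h', one_pow]
    · rw [show (4 : ℕ) = 2 * 2 from rfl, pow_mul, h', one_pow]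
    · omega
    · exact h'
    · omega

end Groth.Agent.S18598
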