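import Groth.Statements.S18614
import Mathlib

set_option autoImplicit false
universe u v
open LinTop

namespace Groth.Agent.S18614

/-- Let k be a field carrying the discrete topology and M a separated topological k-module with a
k-linear topology (the open k-submodules form a basis of neighbourhoods of zero and M is a
topological additive group). For a closed submodule M₁, the perpendicular of the perpendicular of
M₁, both taken with respect to the pairing of M with its continuous dual (the continuous k-linear
maps M → k), is M₁ itself: an element killed by every continuous functional vanishing on M₁ belongs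
to M₁. -/
theorem result (k : Type u) (M : Type v) [Field k]
    [TopologicalSpace k] [DiscreteTopology k] [AddCommGroup M] [Module k M] [TopologicalSpace M]
    [IsTopologicalAddGroup M] [IsLinearTopology k M] [T2Space M]
    (M₁ : Submodule k M) (hM₁ : IsClosed (M₁ : Set M)) (x : M)
    (hx : ∀ φ : M →L[k] k, (∀ m ∈ M₁, φ m = 0) → φ x = 0) : x ∈ M₁ := by
  by_contra hx1
  have hopen : IsOpen ((M₁ : Set M)ᶜ) := hM₁.isOpen_compl
  have hnhds : (fun y => x + y) ⁻¹' (M₁ : Set M)ᶜ ∈ nhds (0 : M) := by
    have hc : Continuous (fun y : M => x + y) := continuous_const.add continuous_id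
    apply hc.continuousAt.preimage_mem_nhds
    simp only [add_zero]
    exact hopen.mem_nhds hx1
  obtain ⟨U, hU, hUsub⟩ := (IsLinearTopology.hasBasis_submodule k).mem_iff.mp hnhds
  have hxW : x ∉ M₁ ⊔ U := by
    intro h
    obtain ⟨a, ha, b, hb, hab⟩ := Submodule.mem_sup.mp h
    have h1 := hUsub (U.neg_mem hb)
    apply h1
    have : x + -b = a := by rw [← hab]; abel
    simp only [this]
    exact ha
  obtain ⟨f, hfx, hfW⟩ := Submodule.exists_dual_map_eq_bot_of_notMem hxW inferInstance
  have hfW' : ∀ w ∈ M₁ ⊔ U, f w = 0 := by
    intro w hw
    have : f w ∈ (M₁ ⊔ U).map f := Submodule.mem_map_of_mem hw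
    rw [hfW] at this
    exact (Submodule.mem_bot k).mp this
  have hcont : Continuous f := by
    apply continuous_of_continuousAt_zero f.toAddMonoidHom
    rw [ContinuousAt, map_zero]
    intro s hs
    have h0 : (0 : k) ∈ s := mem_of_mem_nhds hs
    apply Filter.mem_of_superset hU
    intro u hu
    have : f u = 0 := hfW' u (Submodule.mem_sup_right hu)
    simp only [LinearMap.toAddMonoidHom_coe, Set.mem_preimage, this]
    exact h0
  apply hfx
  exact hx ⟨f, hcont⟩ (fun m hm => hfW' m (Submodule.mem_sup_left hm))

end Groth.Agent.S18614
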