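import Groth.Statements.S18615
import Mathlib

set_option autoImplicit false
universe u v
open LinTop

namespace Groth.Agent.S18615

/-- Let k be a field carrying the discrete topology and M a separated topological k-module with a
k-linear topology (open k-submodules form a basis of neighbourhoods of zero, M a topological
additive group). For closed submodules M₁ ⊆ M₂ there is a short exact sequence 0 → M₂^⊥ → M₁^⊥ →
(M₂/M₁)^* → 0 of plain k-modules, where ⊥ denotes the annihilator in the continuous dual of M and *
the continuous dual. Stated here as its one non-formal part, surjectivity on the right: every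
continuous functional on M₂ (subspace topology) that vanishes on M₁ is the restriction of a
continuous functional on M vanishing on M₁ (continuous functionals on M₂/M₁ being the continuous
functionals on M₂ that kill M₁). -/
theorem result (k : Type u) (M : Type v) [Field k]
    [TopologicalSpace k] [DiscreteTopology k] [AddCommGroup M] [Module k M] [TopologicalSpace M]
    [IsTopologicalAddGroup M] [IsLinearTopology k M] [T2Space M]
    (M₁ M₂ : Submodule k M) (h₁₂ : M₁ ≤ M₂) (hM₁ : IsClosed (M₁ : Set M))
    (hM₂ : IsClosed (M₂ : Set M)) (ψ : M₂ →L[k] k)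
    (hψ : ∀ m : M₂, (m : M) ∈ M₁ → ψ m = 0) :
    ∃ φ : M →L[k] k, (∀ m ∈ M₁, φ m = 0) ∧ ∀ m : M₂, φ (m : M) = ψ m := by
  have hker : (ψ ⁻¹' {0} : Set M₂) ∈ nhds (0 : M₂) := by
    apply ψ.continuous.continuousAt.preimage_mem_nhds
    rw [map_zero]
    exact (isOpen_discrete _).mem_nhds rfl
  rw [mem_nhds_subtype] at hker
  obtain ⟨V, hV, hVsub⟩ := hker
  obtain ⟨U, hU, hUV⟩ := (IsLinearTopology.hasBasis_submodule k).mem_iff.mp hV
  set N : Submodule k M₂ := U.comap M₂.subtype with hN
  have hNψ : N ≤ LinearMap.ker ψ.toLinearMap := by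
    intro m hm
    have h1 : (m : M) ∈ (U : Set M) := hm
    have h2 := hVsub (hUV h1)
    simpa using h2
  set ι : (M₂ ⧸ N) →ₗ[k] (M ⧸ U) := N.mapQ U M₂.subtype le_rfl with hι
  have hιinj : LinearMap.ker ι = ⊥ := by
    rw [LinearMap.ker_eq_bot']
    intro q hq
    obtain ⟨m, rfl⟩ := Submodule.Quotient.mk_surjective _ q
    rw [hι, Submodule.mapQ_apply, Submodule.Quotient.mk_eq_zero] at hq
    rw [Submodule.Quotient.mk_eq_zero]
    exact hq
  obtain ⟨ρ, hρ⟩ := LinearMap.exists_leftInverse_of_injective ι hιinj
  set f : M →ₗ[k] k := (N.liftQ ψ.toLinearMap hNψ) ∘ₗ ρ ∘ₗ U.mkQ with hf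
  have hfM₂ : ∀ m : M₂, f (m : M) = ψ m := by
    intro m
    have h1 : U.mkQ (m : M) = ι (N.mkQ m) := by
      rw [hι]; simp
    have h2 : ρ (ι (N.mkQ m)) = N.mkQ m := by
      have := congrArg (fun g => g (N.mkQ m)) hρ
      simpa using this
    simp only [hf, LinearMap.comp_apply, h1, h2]
    simp
  have hfU : ∀ u ∈ U, f u = 0 := by
    intro u hu
    have : U.mkQ u = 0 := by simpa using hu
    simp only [hf, LinearMap.comp_apply, this, map_zero]
  have hcont : Continuous f := by
    apply continuous_of_continuousAt_zero f.toAddMonoidHom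
    rw [ContinuousAt, map_zero]
    intro s hs
    have h0 : (0 : k) ∈ s := mem_of_mem_nhds hs
    apply Filter.mem_of_superset hU
    intro u hu
    have : f u = 0 := hfU u hu
    simp only [LinearMap.toAddMonoidHom_coe, Set.mem_preimage, this]
    exact h0
  refine ⟨⟨f, hcont⟩, ?_, ?_⟩
  · intro m hm
    have := hfM₂ ⟨m, h₁₂ hm⟩
    simp only at this
    change f m = 0
    rw [this]
    exact hψ ⟨m, h₁₂ hm⟩ hm
  · intro m
    exact hfM₂ m

end Groth.Agent.S18615
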