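import Groth.Statements.S18617
import Groth.Statements.S18617
import Mathlib

set_option autoImplicit false
universe u
open LocRes

namespace Groth.Agent.S18617

/-- The published statement is that, for a complete separated linearly topologized commutative algebra K
over a field of characteristic zero, the separated de Rham complex of K tensored with the exterior
algebra on symbols α_1, ..., α_n maps quasi-isomorphically to the separated de Rham complex of the
iterated Laurent series ring K((t_1, ..., t_n)), α_i going to dlog t_i; this row is the case K = k
and n = 1, unpacked: over a field k of characteristic 0, a formal Laurent series f in k((t)) has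
term-by-term derivative zero if and only if it is the constant series on its coefficient of degree
0, and a Laurent series g is the derivative of some Laurent series if and only if its residue (the
coefficient of t⁻¹) vanishes; so H⁰ of the complex k((t)) → k((t)) dt is k and H¹ is the line
spanned by the class of dt/t, on which the residue is 1. -/
theorem result (k : Type u) [Field k] [CharZero k] :
    (∀ f : LaurentSeries k, LocRes.D k f = 0 ↔ f = HahnSeries.C (f.coeff 0)) ∧
      ∀ g : LaurentSeries k, (∃ f : LaurentSeries k, LocRes.D k f = g) ↔ LocRes.res k g = 0 := by
  constructor
  · intro f
    constructor
    · intro h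
      ext m
      rw [HahnSeries.C_apply, HahnSeries.coeff_single]
      by_cases hm : m = 0
      · rw [if_pos hm, hm]
      · rw [if_neg hm]
        have := congrArg (fun g : LaurentSeries k => g.coeff (m - 1)) h
        simp only [LocRes.D_coeff, HahnSeries.coeff_zero, sub_add_cancel] at this
        rw [zsmul_eq_mul, mul_eq_zero] at this
        rcases this with h1 | h1
        · exact absurd (Int.cast_eq_zero.mp h1) hm
        · exact h1
    · intro h
      rw [h, LocRes.D_apply, LocRes.derivative_C]
  · intro g
    constructor
    · rintro ⟨f, rfl⟩
      rw [LocRes.res_apply, LocRes.D_coeff]
      simp
    · intro hg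
      rw [LocRes.res_apply] at hg
      let c : ℤ → k := fun n => if n = 0 then 0 else g.coeff (n - 1) / (n : k)
      have hc : BddBelow (Function.support c) := by
        refine ⟨g.order + 1, fun m hm0 => ?_⟩
        by_contra hm
        rw [not_le] at hm
        apply hm0
        simp only [c]
        split_ifs with h0
        · rfl
        · rw [HahnSeries.coeff_eq_zero_of_lt_order (by omega), zero_div]
      refine ⟨HahnSeries.ofSuppBddBelow c hc, ?_⟩
      ext n
      rw [LocRes.D_coeff, HahnSeries.coeff_ofSuppBddBelow]
      simp only [c]
      split_ifs with h0
      · have : n = -1 := by omega
        rw [this, hg, smul_zero]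
      · rw [zsmul_eq_mul, add_sub_cancel_right]
        have : ((n + 1 : ℤ) : k) ≠ 0 := Int.cast_ne_zero.mpr h0
        field_simp

end Groth.Agent.S18617
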