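import Groth.Statements.S18790
import Mathlib

set_option autoImplicit false
universe u v w
open TorusGr

namespace Groth.Agent.S18790

/-- Let `A` be a commutative algebra over a field `k`, graded by an additive commutative group `M` (for
`M` the character group of a split torus `T`, a `T`-action on `Spec A`), let `J` be the ideal
generated by the homogeneous elements of non-zero degree (its zero locus is the fixed-point
subscheme) and let `m ⊇ J` be a maximal ideal with residue field `k` (a fixed rational point) at
which the fixed-point subscheme is the reduced point: `J` and `m` agree after localizing at `m`.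
Then the cotangent space `m/m²` has no part of weight zero: every degree-zero element of `m` lies in
`m²`. (The published statement has `M ≅ ℤ^r`, a split torus, and phrases the conclusion as the
non-vanishing of the weights of a semi-invariant basis of `m/m²`; here `M` is any additive
commutative group, i.e. any diagonalizable group.) -/
theorem result
    {k : Type u} [Field k] {M : Type v} [AddCommGroup M] [DecidableEq M]
    {A : Type w} [CommRing A] [Algebra k A] (𝒜 : M → Submodule k A) [GradedAlgebra 𝒜]
    (m : Ideal A) [m.IsMaximal] (hrat : Function.Surjective (algebraMap k (A ⧸ m)))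
    (hfix : ∀ i : M, i ≠ 0 → ∀ a ∈ 𝒜 i, a ∈ m)
    (hred : ∀ a ∈ m, ∃ s ∉ m, s * a ∈ Ideal.span {b : A | ∃ i : M, i ≠ 0 ∧ b ∈ 𝒜 i})
    {f : A} (hf0 : f ∈ 𝒜 0) (hfm : f ∈ m) : f ∈ m ^ 2 := by
  classical
  obtain ⟨s, hsm, hsf⟩ := hred f hfm
  -- degree-0 component of a * x for x in J lies in m^2
  have hJ : ∀ x ∈ Ideal.span {b : A | ∃ i : M, i ≠ 0 ∧ b ∈ 𝒜 i},
      ∀ a : A, ((DirectSum.decompose 𝒜 (a * x)) 0 : A) ∈ m ^ 2 := by
    intro x hx
    induction hx using Submodule.span_induction with
    | mem b hb =>
      obtain ⟨i, hi, hbi⟩ := hb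
      intro a
      have h0 : (0 : M) = -i + i := by simp
      rw [h0, DirectSum.coe_decompose_mul_add_of_right_mem 𝒜 hbi, pow_two]
      apply Ideal.mul_mem_mul
      · exact hfix (-i) (neg_ne_zero.mpr hi) _ (SetLike.coe_mem _)
      · exact hfix i hi b hbi
    | zero =>
      intro a
      simp
    | add x y _ _ hx hy =>
      intro a
      rw [mul_add, DirectSum.decompose_add, DirectSum.add_apply, Submodule.coe_add]
      exact Ideal.add_mem _ (hx a) (hy a)
    | smul c x _ hx =>
      intro a
      rw [smul_eq_mul, ← mul_assoc]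
      exact hx (a * c)
  have h1 := hJ _ hsf 1
  rw [one_mul] at h1
  -- (s f)_0 = s_0 f
  have h2 : ((DirectSum.decompose 𝒜 (s * f)) 0 : A) = (DirectSum.decompose 𝒜 s 0 : A) * f := by
    have h0 : (0 : M) = 0 + 0 := by simp
    conv_lhs => rw [h0]
    exact DirectSum.coe_decompose_mul_add_of_right_mem 𝒜 hf0
  rw [h2] at h1
  -- s_0 ∉ m
  have hs0 : (DirectSum.decompose 𝒜 s 0 : A) ∉ m := by
    intro hcon
    apply hsm
    rw [← DirectSum.sum_support_decompose 𝒜 s]
    apply Ideal.sum_mem
    intro i _
    by_cases hi : i = 0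
    · rw [hi]; exact hcon
    · exact hfix i hi _ (SetLike.coe_mem _)
  -- invert s_0 modulo m
  obtain ⟨t, ht⟩ := Ideal.Quotient.exists_inv (I := m)
    (a := (Ideal.Quotient.mk m) (DirectSum.decompose 𝒜 s 0 : A))
    (by rwa [Ne, Ideal.Quotient.eq_zero_iff_mem])
  obtain ⟨t', rfl⟩ := Ideal.Quotient.mk_surjective t
  rw [← map_mul, ← map_one (Ideal.Quotient.mk m), Ideal.Quotient.eq] at ht
  -- f = t' s_0 f - u f
  have : f = t' * ((DirectSum.decompose 𝒜 s 0 : A) * f) -
      ((DirectSum.decompose 𝒜 s 0 : A) * t' - 1) * f := by ring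
  rw [this]
  apply Ideal.sub_mem
  · exact Ideal.mul_mem_left _ _ h1
  · rw [pow_two]
    exact Ideal.mul_mem_mul ht hfm

end Groth.Agent.S18790
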