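import Groth.Statements.S18791
import Mathlib

set_option autoImplicit false
universe u v w x
open TorusGr

namespace Groth.Agent.S18791

/-- Let `φ : B → A` be a degree-preserving homomorphism of commutative algebras over a field `k` graded
by an additive commutative group `M` (for `M` the character group of a split torus, an equivariant
morphism `Spec A → Spec B`), and let `m` be a maximal ideal of `A` containing all homogeneous
elements of non-zero degree (a fixed point). Then the ideal of those `b` whose image is zero in the
local ring `A_m` is homogeneous: the homogeneous (weight) components of such a `b` again die in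
`A_m`. Since `A_m` embeds in its completion when `A` is Noetherian, these are the elements of `B`
that die in the completed local ring. (The published lemma asserts moreover that, for `B = k[Y_1, …,
Y_d]` mapping the `Y_i` to semi-invariant lifts of a basis of `m/m²`, the kernel of the induced
surjection of completions `k[[Y]] → Â_m` is generated by semi-invariant polynomials; generation of
that kernel by polynomials can fail, so only the statement about polynomial elements of the kernel
is recorded here. The published statement has `M ≅ ℤ^r` (a split torus) and `B` the polynomial ring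
on the lifts; here `M` is any additive commutative group and `B` any `M`-graded `k`-algebra.) -/
theorem result
    {k : Type u} [Field k] {M : Type v} [AddCommGroup M] [DecidableEq M]
    {A : Type w} [CommRing A] [Algebra k A] (𝒜 : M → Submodule k A) [GradedAlgebra 𝒜]
    {B : Type x} [CommRing B] [Algebra k B] (ℬ : M → Submodule k B) [GradedAlgebra ℬ]
    (φ : B →ₐ[k] A) (hφ : ∀ i : M, ∀ b ∈ ℬ i, φ b ∈ 𝒜 i)
    (m : Ideal A) [m.IsMaximal] (hfix : ∀ i : M, i ≠ 0 → ∀ a ∈ 𝒜 i, a ∈ m) :
    (RingHom.ker ((algebraMap A (Localization.AtPrime m)).comp (φ : B →+* A))).IsHomogeneous ℬ := by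
  classical
  intro i b hb
  rw [RingHom.mem_ker, RingHom.comp_apply] at hb ⊢
  rw [IsLocalization.map_eq_zero_iff m.primeCompl] at hb
  obtain ⟨⟨s, hs⟩, hsb⟩ := hb
  have hsm : s ∉ m := hs
  have hsb' : s * φ b = 0 := hsb
  set F : Finset M := (DirectSum.decompose ℬ b).support with hF
  let x : M → A := fun e => φ (DirectSum.decompose ℬ b e : B)
  have hxmem : ∀ e, x e ∈ 𝒜 e := fun e => hφ e _ (SetLike.coe_mem _)
  have hφb : φ b = ∑ e ∈ F, x e := by
    conv_lhs => rw [← DirectSum.sum_support_decompose ℬ b]
    rw [map_sum]
  -- the convolution identity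
  have hconv : ∀ d : M, ∑ e ∈ F, (DirectSum.decompose 𝒜 s (d - e) : A) * x e = 0 := by
    intro d
    have h1 : (DirectSum.decompose 𝒜 (s * φ b) d : A) = 0 := by rw [hsb']; simp
    rw [hφb, Finset.mul_sum, DirectSum.decompose_sum] at h1
    rw [← h1]
    rw [DFinsupp.finset_sum_apply, AddSubmonoidClass.coe_finset_sum]
    refine Finset.sum_congr rfl ?_
    intro e _
    have hd : d = (d - e) + e := by abel
    conv_rhs => rw [hd]
    rw [DirectSum.coe_decompose_mul_add_of_right_mem 𝒜 (hxmem e)]
  -- matrix form
  let S : Matrix F F A := fun d e => (DirectSum.decompose 𝒜 s (d.1 - e.1) : A)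
  let v : F → A := fun e => x e.1
  have hSv : S.mulVec v = 0 := by
    funext d
    show ∑ e : F, S d e * v e = 0
    rw [← hconv d.1]
    exact Finset.sum_coe_sort F (fun e => (DirectSum.decompose 𝒜 s (d.1 - e) : A) * x e)
  have hdetv : ∀ e : F, S.det * v e = 0 := by
    intro e
    have h1 : (S.adjugate * S).mulVec v = 0 := by
      rw [← Matrix.mulVec_mulVec, hSv, Matrix.mulVec_zero]
    rw [Matrix.adjugate_mul, Matrix.smul_mulVec, Matrix.one_mulVec] at h1
    have := congrFun h1 e
    simpa using this
  -- s_0 ∉ m
  have hs0 : (DirectSum.decompose 𝒜 s 0 : A) ∉ m := by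
    intro hcon
    apply hsm
    rw [← DirectSum.sum_support_decompose 𝒜 s]
    apply Ideal.sum_mem
    intro j _
    by_cases hj : j = 0
    · rw [hj]; exact hcon
    · exact hfix j hj _ (SetLike.coe_mem _)
  have hdet : S.det ∉ m := by
    intro hcon
    have h1 : (Ideal.Quotient.mk m) S.det = 0 := Ideal.Quotient.eq_zero_iff_mem.mpr hcon
    rw [RingHom.map_det] at h1
    have h2 : (Ideal.Quotient.mk m).mapMatrix S =
        Matrix.diagonal (fun _ : F => (Ideal.Quotient.mk m) (DirectSum.decompose 𝒜 s 0 : A)) := by
      ext d e
      rw [RingHom.mapMatrix_apply, Matrix.map_apply, Matrix.diagonal_apply]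
      split_ifs with hde
      · rw [hde]
        show (Ideal.Quotient.mk m) (DirectSum.decompose 𝒜 s (e.1 - e.1) : A) = _
        rw [sub_self]
      · rw [Ideal.Quotient.eq_zero_iff_mem]
        apply hfix (d.1 - e.1) _ _ (SetLike.coe_mem _)
        intro h0
        exact hde (Subtype.ext (sub_eq_zero.mp h0))
    rw [h2, Matrix.det_diagonal, Finset.prod_const] at h1
    have h4 : (Ideal.Quotient.mk m) (DirectSum.decompose 𝒜 s 0 : A) = 0 := by
      by_cases hc : Finset.card (Finset.univ : Finset F) = 0
      · rw [hc, pow_zero] at h1
        exact absurd h1 one_ne_zero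
      · exact (pow_eq_zero_iff hc).mp h1
    exact hs0 (Ideal.Quotient.eq_zero_iff_mem.mp h4)
  by_cases hi : i ∈ F
  · rw [IsLocalization.map_eq_zero_iff m.primeCompl]
    exact ⟨⟨S.det, hdet⟩, hdetv ⟨i, hi⟩⟩
  · have : DirectSum.decompose ℬ b i = 0 := by
      rw [hF] at hi
      exact DFinsupp.notMem_support_iff.mp hi
    rw [this]
    simp

end Groth.Agent.S18791
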