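import Groth.Statements.S18792
import Mathlib

set_option autoImplicit false
universe u
open DefMod

namespace Groth.Agent.S18792

/-- Let A be an associative unital algebra over ℚ, let a ∈ A be nilpotent and let b ∈ A. Then the
commutator map x ↦ a x − x a is a nilpotent ℚ-linear endomorphism of A, and exp(a) b exp(−a) =
exp(ad a)(b), where exp is the finite exponential series of a nilpotent element and ad a is the
commutator map. (The published statement takes A an algebra over an arbitrary commutative ring; the
factorials in the exponential series require the rationals to act, so A is taken to be a ℚ-algebra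
here. The intermediate double-sum expansion printed between the two sides is not restated.) -/
theorem result {A : Type u} [Ring A] [Algebra ℚ A] (a b : A)
    (ha : IsNilpotent a) :
    IsNilpotent (LinearMap.mulLeft ℚ a - LinearMap.mulRight ℚ a) ∧
      IsNilpotent.exp a * b * IsNilpotent.exp (-a) =
        IsNilpotent.exp (LinearMap.mulLeft ℚ a - LinearMap.mulRight ℚ a) b := by
  have hl : IsNilpotent (LinearMap.mulLeft ℚ a) := by rwa [LinearMap.isNilpotent_mulLeft_iff]
  have hr : IsNilpotent (LinearMap.mulRight ℚ a) := by rwa [LinearMap.isNilpotent_mulRight_iff]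
  have hcomm := LinearMap.commute_mulLeft_right (R := ℚ) a a
  refine ⟨hcomm.isNilpotent_sub hl hr, ?_⟩
  have hneg : -(LinearMap.mulRight ℚ a) = LinearMap.mulRight ℚ (-a) := by
    ext x; simp
  have hnr : IsNilpotent (LinearMap.mulRight ℚ (-a)) := by
    rw [LinearMap.isNilpotent_mulRight_iff]; exact ha.neg
  have hcomm' : Commute (LinearMap.mulLeft ℚ a) (LinearMap.mulRight ℚ (-a)) :=
    LinearMap.commute_mulLeft_right (R := ℚ) a (-a)
  rw [sub_eq_add_neg, hneg, IsNilpotent.exp_add_of_commute hcomm' hl hnr]
  obtain ⟨k, hk⟩ := ha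
  have hk2 : (-a) ^ k = 0 := by rw [neg_pow, hk, mul_zero]
  have hL : IsNilpotent.exp (LinearMap.mulLeft ℚ a) = LinearMap.mulLeft ℚ (IsNilpotent.exp a) := by
    have hk' : (LinearMap.mulLeft ℚ a) ^ k = 0 := by
      rw [LinearMap.pow_mulLeft, hk]; ext x; simp
    rw [IsNilpotent.exp_eq_sum hk, IsNilpotent.exp_eq_sum hk']
    ext x
    simp [LinearMap.pow_mulLeft, Finset.sum_mul]
  have hR : IsNilpotent.exp (LinearMap.mulRight ℚ (-a)) =
      LinearMap.mulRight ℚ (IsNilpotent.exp (-a)) := by
    have hk' : (LinearMap.mulRight ℚ (-a)) ^ k = 0 := by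
      rw [LinearMap.pow_mulRight, hk2]; ext x; simp
    rw [IsNilpotent.exp_eq_sum hk2, IsNilpotent.exp_eq_sum hk']
    ext x
    simp [LinearMap.pow_mulRight, Finset.mul_sum]
  rw [hL, hR]
  simp [mul_assoc]

end Groth.Agent.S18792
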