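import Groth.Statements.S18797
import Mathlib

set_option autoImplicit false
universe u v w
open DefMod

namespace Groth.Agent.S18797

/-- Let K be a field of characteristic zero, O a commutative K-algebra with a K-linear derivation ∂, and
E a finite free O-module equipped with a K-linear map ∂_E satisfying the Leibniz rule ∂_E(a e) =
∂(a) e + a ∂_E(e) (a differential module). The induced derivation on End_O(E) sends φ to ∂_E ∘ φ − φ
∘ ∂_E, which is again O-linear; the trace End_O(E) → O is compatible with the two derivations:
tr(∂_E ∘ φ − φ ∘ ∂_E) = ∂(tr φ). Here the O-linear map ψ = ∂_E ∘ φ − φ ∘ ∂_E is given by its values.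
(The published lemma also asserts that the trace is split surjective and that it respects commutator
brackets; the split surjectivity fails for E = 0 over a nonzero ring and holds only in positive
rank, and neither clause is restated.) -/
theorem result
    {K : Type u} [Field K] [CharZero K]
    {O : Type v} [CommRing O] [Algebra K O] (δ : Derivation K O O)
    {E : Type w} [AddCommGroup E] [Module O E] [Module K E] [IsScalarTower K O E]
    [Module.Free O E] [Module.Finite O E]
    (δE : E →ₗ[K] E) (hδE : ∀ (a : O) (e : E), δE (a • e) = δ a • e + a • δE e)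
    (φ ψ : E →ₗ[O] E) (hψ : ∀ e : E, ψ e = δE (φ e) - φ (δE e)) :
    LinearMap.trace O E ψ = δ (LinearMap.trace O E φ) := by
  classical
  let ι := Module.Free.ChooseBasisIndex O E
  let b : Module.Basis ι O E := Module.Free.chooseBasis O E
  haveI : Fintype ι := inferInstance
  rw [LinearMap.trace_eq_matrix_trace O b ψ, LinearMap.trace_eq_matrix_trace O b φ]
  simp only [Matrix.trace, Matrix.diag_apply, LinearMap.toMatrix_apply]
  set Φ : ι → ι → O := fun i j => b.repr (φ (b j)) i with hΦ
  set Nm : ι → ι → O := fun i j => b.repr (δE (b j)) i with hNm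
  have hφb : ∀ i, φ (b i) = ∑ j, Φ j i • b j := fun i => (b.sum_repr (φ (b i))).symm
  have hδb : ∀ i, δE (b i) = ∑ j, Nm j i • b j := fun i => (b.sum_repr (δE (b i))).symm
  have h1 : ∀ i, b.repr (δE (φ (b i))) i = δ (Φ i i) + ∑ j, Φ j i * Nm i j := by
    intro i
    rw [hφb i, map_sum]
    simp only [hδE, map_sum, map_add, map_smul, Finsupp.coe_finset_sum, Finsupp.coe_add,
      Finsupp.coe_smul, Finset.sum_apply, Pi.add_apply, Pi.smul_apply, smul_eq_mul,
      Module.Basis.repr_self, Finset.sum_add_distrib]
    congr 1
    rw [Finset.sum_eq_single i]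
    · simp
    · intro j _ hj
      rw [Finsupp.single_eq_of_ne' hj, mul_zero]
    · intro h; exact absurd (Finset.mem_univ i) h
  have h2 : ∀ i, b.repr (φ (δE (b i))) i = ∑ j, Nm j i * Φ i j := by
    intro i
    rw [hδb i, map_sum]
    simp only [map_smul, map_sum, Finsupp.coe_finset_sum, Finsupp.coe_smul, Finset.sum_apply,
      Pi.smul_apply, smul_eq_mul]
    rfl
  have h3 : ∀ i, b.repr (ψ (b i)) i =
      δ (Φ i i) + ∑ j, Φ j i * Nm i j - ∑ j, Nm j i * Φ i j := by
    intro i
    rw [hψ, map_sub, Finsupp.sub_apply, h1, h2]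
  simp only [h3]
  rw [Finset.sum_sub_distrib, Finset.sum_add_distrib, map_sum]
  have h4 : ∑ i, ∑ j, Φ j i * Nm i j = ∑ i, ∑ j, Nm j i * Φ i j := by
    rw [Finset.sum_comm]
    refine Finset.sum_congr rfl fun i _ => Finset.sum_congr rfl fun j _ => ?_
    ring
  rw [h4]
  ring

end Groth.Agent.S18797
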