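import Groth.Statements.S18806
import Mathlib

set_option autoImplicit false
universe u v v' w w' x
open TensorProduct
open HopfRep

namespace Groth.Agent.S18806

/-- Let k be a field, i : C → D an injective morphism of k-coalgebras and V a right D-comodule with
coaction ρ : V → V ⊗ D. If ρ(v) lies in the image of V ⊗ C → V ⊗ D (induced by i) for every v, then
V comes from a C-comodule: there is a C-comodule structure on V whose coaction, followed by V ⊗ C →
V ⊗ D, is ρ. (The source states this for left comodules over the coordinate bialgebras of an affine
monoid scheme over k and of its group of units, assumed open and schematically dense, and uses that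
assumption only through the injectivity of the restriction map of coordinate rings; the row is the
right-comodule mirror image for any injective coalgebra map. The converse direction is immediate.) -/
theorem result (k : Type u) [Field k]
    (C : Type v) [AddCommGroup C] [Module k C] [Coalgebra k C]
    (D : Type v') [AddCommGroup D] [Module k D] [Coalgebra k D]
    (i : C →ₗc[k] D) (hi : Function.Injective i)
    (V : Type w) [AddCommGroup V] [Module k V] [HopfRep.Comod k D V]
    (h : ∀ v : V, HopfRep.Comod.coact (k := k) (A := D) v ∈ LinearMap.range ((i : C →ₗ[k] D).lTensor V)) :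
    ∃ c : HopfRep.Comod k C V,
      (i : C →ₗ[k] D).lTensor V ∘ₗ c.coact = HopfRep.Comod.coact (k := k) (A := D) := by
  classical
  set iL : C →ₗ[k] D := (i : C →ₗ[k] D) with hiL
  set j : V ⊗[k] C →ₗ[k] V ⊗[k] D := iL.lTensor V with hj
  set ρ : V →ₗ[k] V ⊗[k] D := HopfRep.Comod.coact (k := k) (A := D) with hρ
  have hjinj : Function.Injective j :=
    Module.Flat.lTensor_preserves_injective_linearMap (M := V) iL hi
  let c0 : V →ₗ[k] V ⊗[k] C :=
    (LinearEquiv.ofInjective j hjinj).symm.toLinearMap ∘ₗ (ρ.codRestrict (LinearMap.range j) h)
  have hc0 : ∀ v, j (c0 v) = ρ v := by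
    intro v
    have := (LinearEquiv.ofInjective j hjinj).apply_symm_apply (ρ.codRestrict (LinearMap.range j) h v)
    have h2 := congrArg Subtype.val this
    simpa [c0] using h2
  -- the map J
  set ii : C ⊗[k] C →ₗ[k] D ⊗[k] D := TensorProduct.map iL iL with hii
  have hiiinj : Function.Injective ii := TensorProduct.map_injective_of_flat_flat iL iL hi hi
  set J : V ⊗[k] (C ⊗[k] C) →ₗ[k] V ⊗[k] (D ⊗[k] D) := ii.lTensor V with hJ
  have hJinj : Function.Injective J :=
    Module.Flat.lTensor_preserves_injective_linearMap (M := V) ii hiiinj
  have hcomul : ∀ c : C, ii (CoalgebraStruct.comul (R := k) c) = CoalgebraStruct.comul (R := k) (iL c) := by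
    intro c
    exact CoalgHomClass.map_comp_comul_apply i c
  have hcounit : ∀ c : C, CoalgebraStruct.counit (R := k) (iL c) = CoalgebraStruct.counit (R := k) c := by
    intro c
    exact CoalgHomClass.counit_comp_apply i c
  refine ⟨{ coact := c0, coassoc := ?_, counit_comp := ?_ }, ?_⟩
  · -- coassoc
    ext v
    apply hJinj
    simp only [LinearMap.comp_apply, LinearEquiv.coe_coe]
    have e0 : ∀ (y : V ⊗[k] C) (c : C), J ((TensorProduct.assoc k V C C) (y ⊗ₜ[k] c)) =
        (TensorProduct.assoc k V D D) ((j y) ⊗ₜ[k] iL c) := by
      intro y c
      induction y using TensorProduct.induction_on with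
      | zero => simp
      | tmul m c' => simp [hJ, hj, hii]
      | add x y hx hy => simp only [TensorProduct.add_tmul, map_add, hx, hy]
    have e1 : ∀ x : V ⊗[k] C, J ((TensorProduct.assoc k V C C) ((c0.rTensor C) x)) =
        (TensorProduct.assoc k V D D) ((ρ.rTensor D) (j x)) := by
      intro x
      induction x using TensorProduct.induction_on with
      | zero => simp
      | tmul m c =>
        rw [LinearMap.rTensor_tmul, e0, hc0]
        simp [hj]
      | add x y hx hy => simp only [map_add, hx, hy]
    have e2 : ∀ y : V ⊗[k] C, J ((CoalgebraStruct.comul (R := k) (A := C)).lTensor V y) =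
        (CoalgebraStruct.comul (R := k) (A := D)).lTensor V (j y) := by
      intro y
      induction y using TensorProduct.induction_on with
      | zero => simp
      | tmul m c => simp [hJ, hj, hcomul]
      | add x y hx hy => simp only [map_add, hx, hy]
    rw [e1, e2, hc0]
    have hco := LinearMap.congr_fun (HopfRep.Comod.coassoc (k := k) (A := D) (V := V)) v
    simp only [LinearMap.comp_apply, LinearEquiv.coe_coe] at hco
    exact hco
  · -- counit
    ext v
    simp only [LinearMap.comp_apply, LinearMap.flip_apply, TensorProduct.mk_apply]
    have e3 : ∀ y : V ⊗[k] C, (CoalgebraStruct.counit (R := k) (A := C)).lTensor V y =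
        (CoalgebraStruct.counit (R := k) (A := D)).lTensor V (j y) := by
      intro y
      induction y using TensorProduct.induction_on with
      | zero => simp
      | tmul m c => simp [hj, hcounit]
      | add x y hx hy => simp only [map_add, hx, hy]
    rw [e3, hc0]
    have hcu := LinearMap.congr_fun (HopfRep.Comod.counit_comp (k := k) (A := D) (V := V)) v
    simp only [LinearMap.comp_apply, LinearMap.flip_apply, TensorProduct.mk_apply] at hcu
    exact hcu
  · ext v
    exact hc0 v

end Groth.Agent.S18806
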