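import Groth.Statements.S18808
import Mathlib
import Groth.Agent.Lib.helper9.H9_TensorDual
import Groth.Agent.Lib.helper9.H9_ComodMod

set_option autoImplicit false
universe u v v' w w' x
open TensorProduct
open HopfRep

namespace Groth.Agent.S18808

/-- Let k be a field, i : C → D an injective morphism of k-coalgebras and V a right D-comodule with
coaction ρ. Call a D-subcomodule K of V admissible when the induced coaction of V/K, namely ρ
followed by the projection V ⊗ D → (V/K) ⊗ D, takes all its values in the image of (V/K) ⊗ C → (V/K)
⊗ D (so that V/K comes from a C-comodule). Then there is a least admissible D-subcomodule of V: V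
has a largest quotient D-comodule coming from C, through which every D-comodule map from V to a
comodule coming from C factors. (The source states this for left comodules over the coordinate
bialgebras of an affine monoid scheme and its open schematically dense group of units, as the
existence of a universal map from a representation of the unit group to a representation of the
monoid; it uses that assumption only through the injectivity of the restriction map.) -/
theorem result (k : Type u) [Field k]
    (C : Type v) [AddCommGroup C] [Module k C] [Coalgebra k C]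
    (D : Type v') [AddCommGroup D] [Module k D] [Coalgebra k D]
    (i : C →ₗc[k] D) (hi : Function.Injective i)
    (V : Type w) [AddCommGroup V] [Module k V] [HopfRep.Comod k D V] :
    ∃ K : Submodule k V, HopfRep.IsSubcomod (k := k) (A := D) K ∧
      (∀ v : V, K.mkQ.rTensor D (HopfRep.Comod.coact (k := k) (A := D) v) ∈
        LinearMap.range ((i : C →ₗ[k] D).lTensor (V ⧸ K))) ∧
      ∀ K' : Submodule k V, HopfRep.IsSubcomod (k := k) (A := D) K' →
        (∀ v : V, K'.mkQ.rTensor D (HopfRep.Comod.coact (k := k) (A := D) v) ∈
          LinearMap.range ((i : C →ₗ[k] D).lTensor (V ⧸ K'))) → K ≤ K' := by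
  classical
  -- reformulate admissibility through contraction with functionals killing the image of `C`
  have hadm : ∀ K' : Submodule k V,
      (∀ v : V, K'.mkQ.rTensor D (HopfRep.Comod.coact (k := k) (A := D) v) ∈
        LinearMap.range ((i : C →ₗ[k] D).lTensor (V ⧸ K'))) ↔
      ∀ (v : V) (ψ : Module.Dual k D), ψ ∘ₗ (i : C →ₗ[k] D) = 0 →
        H9_ComodMod.T (C := D) V ψ v ∈ K' := by
    intro K'
    refine forall_congr' fun v => ?_
    rw [H9_TensorDual.rTensor_mkQ_mem_range_lTensor_iff]
    rfl
  let S : Set (Submodule k V) := {K' | HopfRep.IsSubcomod (k := k) (A := D) K' ∧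
    ∀ v : V, K'.mkQ.rTensor D (HopfRep.Comod.coact (k := k) (A := D) v) ∈
      LinearMap.range ((i : C →ₗ[k] D).lTensor (V ⧸ K'))}
  refine ⟨sInf S, ?_, ?_, ?_⟩
  · rw [H9_ComodMod.isSubcomod_iff_T]
    intro f w hw
    rw [Submodule.mem_sInf] at hw ⊢
    intro K' hK'
    exact (H9_ComodMod.isSubcomod_iff_T K').mp hK'.1 f w (hw K' hK')
  · rw [hadm]
    intro v ψ hψ
    rw [Submodule.mem_sInf]
    intro K' hK'
    exact (hadm K').mp hK'.2 v ψ hψ
  · intro K' h1 h2
    exact sInf_le ⟨h1, h2⟩

end Groth.Agent.S18808
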