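import Groth.Statements.S18810
import Mathlib
import Groth.Agent.Lib.helper9.H9_ComodSS

set_option autoImplicit false
universe u v v' w w' x
open TensorProduct
open HopfRep

namespace Groth.Agent.S18810

/-- Let k be a field, C a k-coalgebra, V a right C-comodule and (S_j) a family of simple C-comodules
which are pairwise non-isomorphic (for j ≠ j' no k-linear isomorphism S_j ≃ S_j' commutes with the
coactions). For each j let V[j] be the isotypic component of type S_j: the sum of the images of all
comodule maps S_j → V (equivalently of all simple subcomodules of V isomorphic to S_j, a nonzero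
such map being injective). Then the family j ↦ V[j] is independent, so that the socle of V is the
direct sum of its isotypic components. (The source states this for representations of an affine
monoid scheme over k, i.e. left comodules over its coordinate bialgebra; the row is the
right-comodule form over any coalgebra.) -/
theorem result (k : Type u) [Field k]
    (C : Type v) [AddCommGroup C] [Module k C] [Coalgebra k C]
    (V : Type w) [AddCommGroup V] [Module k V] [HopfRep.Comod k C V]
    {ι : Type x} (S : ι → Type w') [∀ j, AddCommGroup (S j)] [∀ j, Module k (S j)]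
    [∀ j, HopfRep.Comod k C (S j)] (hS : ∀ j, HopfRep.IsSimpleComod k C (S j))
    (hne : ∀ j j', j ≠ j' → ∀ e : S j ≃ₗ[k] S j', ¬ Hoch.IsComodHom C (e : S j →ₗ[k] S j')) :
    iSupIndep (fun j => ⨆ f : {f : S j →ₗ[k] V // Hoch.IsComodHom C f}, LinearMap.range f.1) := by
  classical
  letI mV := H9_ComodMod.modR (k := k) (C := C) V
  letI mS : ∀ j, Module (H9_ComodMod.R k C) (S j) := fun j => H9_ComodMod.modR (k := k) (C := C) (S j)
  haveI hsimple : ∀ j, IsSimpleModule (H9_ComodMod.R k C) (S j) :=
    fun j => H9_ComodMod.isSimpleModule_iff_comod.mpr (hS j)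
  let I : ι → Submodule (H9_ComodMod.R k C) V := fun j => isotypicComponent (H9_ComodMod.R k C) V (S j)
  -- nonzero components are isotypic components
  have hmem : ∀ j, I j ≠ ⊥ → ∃ m : Submodule (H9_ComodMod.R k C) V,
      Nonempty (m ≃ₗ[H9_ComodMod.R k C] S j) := by
    intro j hj
    by_contra hcon
    push_neg at hcon
    apply hj
    show sSup {m : Submodule (H9_ComodMod.R k C) V | Nonempty (m ≃ₗ[H9_ComodMod.R k C] S j)} = ⊥
    have : {m : Submodule (H9_ComodMod.R k C) V | Nonempty (m ≃ₗ[H9_ComodMod.R k C] S j)} = ∅ := by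
      ext m
      simp only [Set.mem_empty_iff_false, iff_false]
      intro hm
      exact (hcon m).elim hm.some
    rw [this, sSup_empty]
  have hmem' : ∀ j, I j ≠ ⊥ → I j ∈ isotypicComponents (H9_ComodMod.R k C) V := by
    intro j hj
    obtain ⟨m, ⟨e⟩⟩ := hmem j hj
    exact ⟨m, IsSimpleModule.congr e, (e.isotypicComponent_eq (M := V)).symm⟩
  let φ : {j // I j ≠ ⊥} → ↥(isotypicComponents (H9_ComodMod.R k C) V) :=
    fun j => ⟨I j.1, hmem' j.1 j.2⟩
  have hφ : Function.Injective φ := by
    rintro ⟨j, hj⟩ ⟨j', hj'⟩ h
    have h' : I j = I j' := congrArg Subtype.val h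
    by_contra hne'
    have hjj : j ≠ j' := fun hh => hne' (Subtype.ext hh)
    obtain ⟨m, ⟨e⟩⟩ := hmem j hj
    haveI : IsSimpleModule (H9_ComodMod.R k C) m := IsSimpleModule.congr e
    have hle : m ≤ I j' := by
      rw [← h']
      exact le_sSup ⟨e⟩
    have hiso := IsIsotypicOfType.isotypicComponent (H9_ComodMod.R k C) V (S j')
    obtain ⟨e'⟩ := isIsotypicOfType_submodule_iff.mp hiso m hle
    let E : S j ≃ₗ[H9_ComodMod.R k C] S j' := e.symm.trans e'
    have hbij : Function.Bijective (H9_ComodMod.ofLin E.toLinearMap) := E.bijective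
    exact hne j j' hjj (LinearEquiv.ofBijective (H9_ComodMod.ofLin E.toLinearMap) hbij)
      (H9_ComodMod.isComodHom_ofLin E.toLinearMap)
  have hindI : iSupIndep I := by
    rw [← iSupIndep_ne_bot]
    have := ((sSupIndep_iff _).mp
      (sSupIndep_isotypicComponents (R := H9_ComodMod.R k C) (M := V))).comp hφ
    exact this
  have hind := H9_ComodMod.iSupIndep_ofSub I hindI
  refine hind.mono ?_
  intro j
  apply iSup_le
  rintro ⟨f, hf⟩
  by_cases hf0 : f = 0
  · subst hf0
    rw [LinearMap.range_zero]
    exact bot_le
  · let F : S j →ₗ[H9_ComodMod.R k C] V := H9_ComodMod.toLin f hf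
    have hF : F ≠ 0 := by
      intro h
      apply hf0
      ext s
      exact LinearMap.congr_fun h s
    have hinj : Function.Injective F := LinearMap.injective_of_ne_zero hF
    have hle : LinearMap.range F ≤ I j :=
      le_sSup ⟨(LinearEquiv.ofInjective F hinj).symm⟩
    intro v hv
    obtain ⟨s, rfl⟩ := hv
    exact hle ⟨s, rfl⟩

end Groth.Agent.S18810
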