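import Groth.Statements.S18814
import Mathlib
import Groth.Agent.Lib.helper9.H9_ComodComm

set_option autoImplicit false
universe u v v' w w'
open TensorProduct
open HopfRep

namespace Groth.Agent.S18814

/-- Let k be a field, C and D commutative bialgebras over k (coordinate rings of affine monoid schemes M
and N) and V a k-vector space carrying a right C-comodule structure with coaction ρ_C : V → V ⊗ C
and a right D-comodule structure with coaction ρ_D : V → V ⊗ D which commute: (ρ_C ⊗ id_D) ∘ ρ_D and
(ρ_D ⊗ id_C) ∘ ρ_C agree in V ⊗ C ⊗ D after reassociating and swapping the last two factors (the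
actions of M and N on V commute). Assume V is semisimple as a D-comodule. Then for every simple
D-comodule S the isotypic component of V of type S, the sum of the images of all D-comodule maps S →
V, is a C-subcomodule of V. (The source works with left comodules; this is the right-comodule form.) -/
theorem result (k : Type u) [Field k]
    (C : Type v) [CommRing C] [Bialgebra k C] (D : Type v') [CommRing D] [Bialgebra k D]
    (V : Type w) [AddCommGroup V] [Module k V] [HopfRep.Comod k C V] [HopfRep.Comod k D V]
    (hcomm : (TensorProduct.assoc k V C D).toLinearMap ∘ₗ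
        (HopfRep.Comod.coact (k := k) (A := C) (V := V)).rTensor D ∘ₗ HopfRep.Comod.coact (k := k) (A := D) =
      (TensorProduct.comm k D C).toLinearMap.lTensor V ∘ₗ (TensorProduct.assoc k V D C).toLinearMap ∘ₗ
        (HopfRep.Comod.coact (k := k) (A := D) (V := V)).rTensor C ∘ₗ HopfRep.Comod.coact (k := k) (A := C))
    (hV : HopfRep.IsSemisimpleComod k D V)
    (S : Type w') [AddCommGroup S] [Module k S] [HopfRep.Comod k D S] (hS : HopfRep.IsSimpleComod k D S) :
    HopfRep.IsSubcomod (k := k) (A := C)
      (⨆ f : {f : S →ₗ[k] V // Hoch.IsComodHom D f}, LinearMap.range f.1) := by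
  classical
  rw [H9_ComodMod.isSubcomod_iff_T]
  intro φ w hw
  -- the operator of φ is a D-comodule endomorphism of V
  have hT : Hoch.IsComodHom D (H9_ComodMod.T (C := C) V φ) := by
    rw [H9_ComodMod.isComodHom_iff_T]
    intro ψ v
    exact H9_ComodMod.T_comm_of_coact_comm hcomm φ ψ v
  refine Submodule.iSup_induction _
    (motive := fun w => H9_ComodMod.T (C := C) V φ w ∈
      ⨆ f : {f : S →ₗ[k] V // Hoch.IsComodHom D f}, LinearMap.range f.1) hw ?_ ?_ ?_
  · rintro ⟨f, hf⟩ x ⟨s, rfl⟩
    have hcomp : Hoch.IsComodHom D (H9_ComodMod.T (C := C) V φ ∘ₗ f) := by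
      rw [H9_ComodMod.isComodHom_iff_T]
      intro ψ s
      rw [LinearMap.comp_apply, LinearMap.comp_apply,
        (H9_ComodMod.isComodHom_iff_T f).mp hf, (H9_ComodMod.isComodHom_iff_T _).mp hT]
    exact Submodule.mem_iSup_of_mem ⟨H9_ComodMod.T (C := C) V φ ∘ₗ f, hcomp⟩ ⟨s, rfl⟩
  · rw [map_zero]
    exact Submodule.zero_mem _
  · intro x y hx hy
    rw [map_add]
    exact Submodule.add_mem _ hx hy

end Groth.Agent.S18814
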