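import Groth.Statements.S18818
import Mathlib
import Groth.Agent.Lib.helper9.H9_ComodSS

set_option autoImplicit false
universe u v w
open TensorProduct
open HopfRep

namespace Groth.Agent.S18818

/-- Let k be a field, C a k-coalgebra and V a right C-comodule which is semisimple in the sense that
every subcomodule has a complementary subcomodule (equivalently every injective comodule map into V
splits). Then V is completely reducible: V is the sum of its simple subcomodules, the nonzero
subcomodules W whose only subcomodules are 0 and W. (The source states this for representations of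
an affine monoid scheme over k, i.e. left comodules over its coordinate bialgebra; the converse
implication and the stability of the class under subobjects and quotients are not part of this row.) -/
theorem result (k : Type u) [Field k]
    (C : Type v) [AddCommGroup C] [Module k C] [Coalgebra k C]
    (V : Type w) [AddCommGroup V] [Module k V] [HopfRep.Comod k C V] (hV : HopfRep.IsSemisimpleComod k C V) :
    (⨆ W : {W : Submodule k V // HopfRep.IsSubcomod (k := k) (A := C) W ∧ W ≠ ⊥ ∧
        ∀ W' : Submodule k V, HopfRep.IsSubcomod (k := k) (A := C) W' → W' ≤ W → W' = ⊥ ∨ W' = W},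
      (W.1 : Submodule k V)) = ⊤ := by
  classical
  letI := H9_ComodMod.modR (k := k) (C := C) V
  haveI : IsSemisimpleModule (H9_ComodMod.R k C) V := H9_ComodMod.isSemisimpleModule_of_comod hV
  have htop := IsSemisimpleModule.sSup_simples_eq_top (H9_ComodMod.R k C) V
  rw [eq_top_iff]
  intro v _
  have hv : v ∈ sSup {m : Submodule (H9_ComodMod.R k C) V | IsSimpleModule (H9_ComodMod.R k C) m} := by
    rw [htop]; trivial
  rw [sSup_eq_iSup'] at hv
  refine Submodule.iSup_induction _ (motive := fun v => v ∈ (⨆ W : {W : Submodule k V //
      HopfRep.IsSubcomod (k := k) (A := C) W ∧ W ≠ ⊥ ∧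
        ∀ W' : Submodule k V, HopfRep.IsSubcomod (k := k) (A := C) W' → W' ≤ W → W' = ⊥ ∨ W' = W},
      (W.1 : Submodule k V))) hv ?_ ?_ ?_
  · rintro ⟨m, hm⟩ x hx
    have hm' : IsSimpleModule (H9_ComodMod.R k C) m := hm
    have hatom : IsAtom m := isSimpleModule_iff_isAtom.mp hm'
    have h2 := (H9_ComodMod.isAtom_ofSub_iff m).mp hatom
    have hmem : x ∈ H9_ComodMod.ofSub m := hx
    exact Submodule.mem_iSup_of_mem
      ⟨H9_ComodMod.ofSub m, H9_ComodMod.isSubcomod_ofSub m, h2.1, h2.2⟩ hmem
  · exact Submodule.zero_mem _
  · intro x y hx hy
    exact Submodule.add_mem _ hx hy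

end Groth.Agent.S18818
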