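import Groth.Statements.S18819
import Mathlib
import Groth.Agent.Lib.helper9.H9_ComodSS

set_option autoImplicit false
universe u v w w'
open TensorProduct
open HopfRep

namespace Groth.Agent.S18819

/-- Let k be a field, C a k-coalgebra and V a right C-comodule which is the sum of finitely many simple
subcomodules, given as the images of comodule maps g_i : K_i → V (i < n) from simple comodules K_i.
If S is a simple comodule and f : S → V a nonzero comodule map (so that its image is a simple
subcomodule of V), then S is isomorphic as a comodule to some K_i: there is a k-linear isomorphism S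
≃ K_i commuting with the coactions. (The source states this for representations of an affine monoid
scheme over k with the subrepresentations given as subspaces; here the simple subcomodules are
presented as images of maps from simple comodules.) -/
theorem result (k : Type u) [Field k]
    (C : Type v) [AddCommGroup C] [Module k C] [Coalgebra k C]
    (V : Type w) [AddCommGroup V] [Module k V] [HopfRep.Comod k C V]
    {n : ℕ} (K : Fin n → Type w') [∀ i, AddCommGroup (K i)] [∀ i, Module k (K i)] [∀ i, HopfRep.Comod k C (K i)]
    (hK : ∀ i, HopfRep.IsSimpleComod k C (K i)) (g : ∀ i, K i →ₗ[k] V) (hg : ∀ i, Hoch.IsComodHom C (g i))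
    (hsum : (⨆ i, LinearMap.range (g i)) = ⊤)
    (S : Type w') [AddCommGroup S] [Module k S] [HopfRep.Comod k C S] (hS : HopfRep.IsSimpleComod k C S)
    (f : S →ₗ[k] V) (hf : Hoch.IsComodHom C f) (hf0 : f ≠ 0) :
    ∃ (i : Fin n) (e : S ≃ₗ[k] K i), Hoch.IsComodHom C (e : S →ₗ[k] K i) := by
  classical
  letI mV := H9_ComodMod.modR (k := k) (C := C) V
  letI mS := H9_ComodMod.modR (k := k) (C := C) S
  letI mK : ∀ i, Module (H9_ComodMod.R k C) (K i) := fun i => H9_ComodMod.modR (k := k) (C := C) (K i)
  haveI : IsSimpleModule (H9_ComodMod.R k C) S := H9_ComodMod.isSimpleModule_iff_comod.mpr hS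
  haveI : ∀ i, IsSimpleModule (H9_ComodMod.R k C) (K i) :=
    fun i => H9_ComodMod.isSimpleModule_iff_comod.mpr (hK i)
  let G : ∀ i, K i →ₗ[H9_ComodMod.R k C] V := fun i => H9_ComodMod.toLin (g i) (hg i)
  let F : S →ₗ[H9_ComodMod.R k C] V := H9_ComodMod.toLin f hf
  have hsum' : (⨆ i, LinearMap.range (G i)) = ⊤ := by
    apply H9_ComodMod.ofSub_injective
    rw [H9_ComodMod.ofSub_iSup, H9_ComodMod.ofSub_top, ← hsum]
    congr 1
  haveI : IsSemisimpleModule (H9_ComodMod.R k C) V :=
    isSemisimpleModule_of_isSemisimpleModule_submodule' (fun i => .range (G i)) hsum'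
  have hF : F ≠ 0 := by
    intro h
    apply hf0
    ext s
    have := LinearMap.congr_fun h s
    exact this
  have hinj : Function.Injective F := LinearMap.injective_of_ne_zero hF
  obtain ⟨π, hπ⟩ := IsSemisimpleModule.extension_property F hinj LinearMap.id
  have hex : ∃ i, π ∘ₗ G i ≠ 0 := by
    by_contra hcon
    push_neg at hcon
    have hle : (⊤ : Submodule (H9_ComodMod.R k C) V) ≤ LinearMap.ker π := by
      rw [← hsum']
      apply iSup_le
      rintro i _ ⟨x, rfl⟩
      rw [LinearMap.mem_ker]
      exact LinearMap.congr_fun (hcon i) x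
    have hπ0 : π = 0 := by
      ext v
      exact hle (Submodule.mem_top : v ∈ ⊤)
    rw [hπ0, LinearMap.zero_comp] at hπ
    haveI : Nontrivial S := hS.1
    obtain ⟨s, hs⟩ := exists_ne (0 : S)
    exact hs (LinearMap.congr_fun hπ s).symm
  obtain ⟨i, hi⟩ := hex
  have hbij := LinearMap.bijective_of_ne_zero hi
  let e : K i ≃ₗ[H9_ComodMod.R k C] S := LinearEquiv.ofBijective _ hbij
  have hbij' : Function.Bijective (H9_ComodMod.ofLin e.symm.toLinearMap) := e.symm.bijective
  refine ⟨i, LinearEquiv.ofBijective (H9_ComodMod.ofLin e.symm.toLinearMap) hbij', ?_⟩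
  exact H9_ComodMod.isComodHom_ofLin e.symm.toLinearMap

end Groth.Agent.S18819
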