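import Groth.Statements.S18829
import Groth.Statements.S18829
import Groth.Agent.Lib.helper9.H9_IntBC
import Groth.Agent.Lib.helper9.H9_Diag
import Groth.Agent.S3272

set_option autoImplicit false
universe u
open scoped TensorProduct
open HopfRep

namespace Groth.Agent.S18829

/-- Let k be a field and A a finitely generated commutative Hopf algebra over k, the coordinate ring of
an affine algebraic group T. Suppose T is a torus: for some algebraically closed field extension K
of k the base change K ⊗_k A is isomorphic as a K-bialgebra to the group algebra over K of a free
abelian group ℤ^n (T_K is a split torus of rank n). Then T is linearly reductive in the sense that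
every finite-dimensional A-comodule is semisimple. (The source's definition of a torus asks for such
an isomorphism over every algebraically closed extension; one suffices for the printed argument. The
source's notion of a linearly reductive algebraic group also includes smoothness of T over k, which
this row does not assert.) -/
theorem result (k K A : Type u) [Field k] [Field K]
    [Algebra k K] [IsAlgClosed K] [CommRing A] [HopfAlgebra k A] [Algebra.FiniteType k A] (n : ℕ)
    (e : (K ⊗[k] A) ≃ₐc[K] MonoidAlgebra K (Multiplicative (Fin n → ℤ))) :
    HopfRep.IsLinearlyReductive k A := by
  classical
  -- `K ⊗ A` is spanned by its group-like elements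
  have hdiag : HopfRep.IsDiagonalizable K (TensorProduct k K A) := by
    unfold HopfRep.IsDiagonalizable
    rw [eq_top_iff]
    intro x _
    have hx : e x ∈ Submodule.span K
        (Set.range (MonoidAlgebra.of K (Multiplicative (Fin n → ℤ)))) := by
      have h1 : Submodule.span K (Set.range (MonoidAlgebra.of K (Multiplicative (Fin n → ℤ)))) = ⊤ := by
        rw [eq_top_iff]
        intro y hy
        clear hy
        induction y using MonoidAlgebra.induction_on with
        | of g => exact Submodule.subset_span ⟨g, rfl⟩
        | add a b ha hb => exact Submodule.add_mem _ ha hb
        | smul c a ha => exact Submodule.smul_mem _ c ha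
      rw [h1]; trivial
    have hmap : ∀ y ∈ Submodule.span K (Set.range (MonoidAlgebra.of K (Multiplicative (Fin n → ℤ)))),
        e.symm y ∈ Submodule.span K {a : TensorProduct k K A | IsGroupLikeElem K a} := by
      intro y hy
      induction hy using Submodule.span_induction with
      | mem y hy =>
        obtain ⟨g, rfl⟩ := hy
        apply Submodule.subset_span
        exact (MonoidAlgebra.isGroupLikeElem_of (R := K) (A := K) g).map e.symm
      | zero => rw [map_zero]; exact Submodule.zero_mem _
      | add a b _ _ ha hb => rw [map_add]; exact Submodule.add_mem _ ha hb
      | smul c a _ ha => rw [map_smul]; exact Submodule.smul_mem _ c ha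
    have := hmap _ hx
    rwa [BialgEquiv.symm_apply_apply] at this
  have hLRK : HopfRep.IsLinearlyReductive K (TensorProduct k K A) := by
    intro V _ _ _ hfin
    exact H9_Diag.isSemisimpleComod_of_span_eigen
      ((Groth.Agent.S3272.result K _).1 hdiag V hfin)
  exact H9_IntBC.isLinearlyReductive_of_baseChange hLRK

end Groth.Agent.S18829
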