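import Groth.Statements.S18834
import Mathlib
import Groth.Agent.Lib.helper9.H9_LinRed
import Groth.Agent.S19398

set_option autoImplicit false
universe u
open TensorProduct
open GIT

namespace Groth.Agent.S18834

/-- Let k be an algebraically closed field of characteristic zero, G = Spec A a linearly reductive
affine group over k (A a commutative Hopf algebra whose finite-dimensional comodules are semisimple)
acting on an affine k-scheme Spec R of finite type (a multiplicative coaction of A on R), and R^G
the ring of invariants. Then for every ideal I of R^G the ideal I·R of R generated by I satisfies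
(I·R) ∩ R^G = I. (The section also assumes Spec R irreducible; that hypothesis plays no role here
and is not carried.) -/
theorem result (k : Type u) [Field k] [IsAlgClosed k] [CharZero k]
    (A : Type u) [CommRing A] [HopfAlgebra k A] (hG : HopfRep.IsLinearlyReductive k A)
    (R : Type u) [CommRing R] [Algebra k R] [Algebra.FiniteType k R]
    [HopfRep.Comod k A R] [GLin.IsCoactAlg k A R]
    (I : Ideal (GLin.invariants k A R)) :
    Ideal.comap (GLin.invariants k A R).val.toRingHom
        (Ideal.map (GLin.invariants k A R).val.toRingHom I) = I := by
  classical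
  have hss : HopfRep.IsSemisimpleComod k A R := H9_LinRed.isSemisimpleComod hG R
  obtain ⟨E, hE₁, hE₂, hE₃⟩ := H9_LinRed.exists_reynolds (k := k) (A := A) (V := R) hss
  have hEmem : ∀ x : R, E x ∈ GLin.invariants k A R := fun x =>
    (hE₃ (E x)).mp (LinearMap.congr_fun hE₂ x)
  -- the Reynolds operator is linear over the invariants
  have hlin : ∀ (a : R), a ∈ GLin.invariants k A R → ∀ r : R, E (a * r) = a * E r := by
    intro a ha r
    have hmul : Hoch.IsComodHom A (LinearMap.mulLeft k a) := by
      unfold Hoch.IsComodHom
      ext r
      simp only [LinearMap.comp_apply, LinearMap.mulLeft_apply]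
      rw [GLin.IsCoactAlg.coact_mul, (GLin.mem_invariants_iff k A R a).mp ha]
      generalize HopfRep.Comod.coact (k := k) (A := A) r = y
      induction y using TensorProduct.induction_on with
      | zero => simp
      | tmul x b => simp [Algebra.TensorProduct.tmul_mul_tmul]
      | add x y hx hy => rw [mul_add, hx, hy, map_add]
    have := Groth.Agent.S19398.result k A hG R R E hE₁ hE₂ hE₃ E hE₁ hE₂ hE₃
      (LinearMap.mulLeft k a) hmul
    have h2 := LinearMap.congr_fun this r
    simpa only [LinearMap.comp_apply, LinearMap.mulLeft_apply] using h2
  apply le_antisymm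
  · intro x hx
    rw [Ideal.mem_comap] at hx
    have key : ∀ y ∈ Ideal.map (GLin.invariants k A R).val.toRingHom I,
        ∀ r : R, (⟨E (r * y), hEmem _⟩ : GLin.invariants k A R) ∈ I := by
      intro y hy
      refine Submodule.span_induction (p := fun y _ => ∀ r : R,
        (⟨E (r * y), hEmem _⟩ : GLin.invariants k A R) ∈ I) ?_ ?_ ?_ ?_ hy
      · rintro _ ⟨i, hi, rfl⟩ r
        have e : (⟨E (r * (GLin.invariants k A R).val.toRingHom i), hEmem _⟩ :
            GLin.invariants k A R) = i * ⟨E r, hEmem r⟩ := by
          apply Subtype.ext
          show E (r * (i : R)) = (i : R) * E r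
          rw [mul_comm, hlin _ i.2]
        rw [e]
        exact I.mul_mem_right _ hi
      · intro r
        have e : (⟨E (r * 0), hEmem _⟩ : GLin.invariants k A R) = 0 := by
          apply Subtype.ext
          show E (r * 0) = 0
          rw [mul_zero, map_zero]
        rw [e]
        exact I.zero_mem
      · intro y z _ _ hy hz r
        have e : (⟨E (r * (y + z)), hEmem _⟩ : GLin.invariants k A R) =
            ⟨E (r * y), hEmem _⟩ + ⟨E (r * z), hEmem _⟩ := by
          apply Subtype.ext
          show E (r * (y + z)) = E (r * y) + E (r * z)
          rw [mul_add, map_add]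
        rw [e]
        exact I.add_mem (hy r) (hz r)
      · intro s y _ hy r
        have e : (⟨E (r * (s • y)), hEmem _⟩ : GLin.invariants k A R) =
            ⟨E ((r * s) * y), hEmem _⟩ := by
          apply Subtype.ext
          show E (r * (s • y)) = E ((r * s) * y)
          rw [smul_eq_mul, mul_assoc]
        rw [e]
        exact hy (r * s)
    have h1 := key _ hx 1
    have e : (⟨E (1 * (GLin.invariants k A R).val.toRingHom x), hEmem _⟩ :
        GLin.invariants k A R) = x := by
      apply Subtype.ext
      show E (1 * (x : R)) = (x : R)
      rw [one_mul]
      exact (hE₃ _).mpr x.2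
    rwa [e] at h1
  · exact Ideal.le_comap_map

end Groth.Agent.S18834
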