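import Groth.Statements.S18864
import Mathlib

set_option autoImplicit false
universe u v w
open HopfRep

namespace Groth.Agent.S18864

/-- Let k be a field and G = lim G_i a pro-algebraic group scheme over k, so that G = Spec A with A the
direct limit of the Hopf algebras A_i of the affine group schemes G_i of finite type; assume
moreover that the maps A_i → A are injective, so that A is the directed union of the A_i, here given
as injective bialgebra maps A_i → A with directed, jointly covering images. Then every homomorphism
from G to an affine group scheme H = Spec B of finite type over k factors through some projection G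
→ G_i: every bialgebra map f : B → A with B finitely generated as a k-algebra is the composite of
A_i → A with a bialgebra map B → A_i for some i. (The published statement allows arbitrary
transition maps in the system; this row assumes each A_i → A injective, the case the printed
argument treats. The source also states the pro-finite variant with H finite, which is the case of
finite-dimensional A_i and B; finite generation of the A_i is not used.) -/
theorem result (k : Type u) [Field k]
    (A : Type v) [CommRing A] [HopfAlgebra k A] {ι : Type v} (Aι : ι → Type v)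
    [∀ i, CommRing (Aι i)] [∀ i, HopfAlgebra k (Aι i)] (emb : ∀ i, Aι i →ₐc[k] A)
    (hinj : ∀ i, Function.Injective (emb i))
    (hdir : ∀ i j, ∃ l, Set.range (emb i) ⊆ Set.range (emb l) ∧ Set.range (emb j) ⊆ Set.range (emb l))
    (hcov : ∀ a : A, ∃ i, a ∈ Set.range (emb i))
    (B : Type w) [CommRing B] [HopfAlgebra k B] [Algebra.FiniteType k B] (f : B →ₐc[k] A) :
    ∃ (i : ι) (g : B →ₐc[k] Aι i), (emb i).comp g = f := by
  classical
  -- any finite subset of `A` lies in the image of a single `A_i`
  have hfin : ∀ t : Finset A, ∃ l, (↑t : Set A) ⊆ Set.range (emb l) := by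
    intro t
    induction t using Finset.induction_on with
    | empty =>
      obtain ⟨i, _⟩ := hcov 0
      exact ⟨i, by simp⟩
    | insert a t _ ih =>
      obtain ⟨l, hl⟩ := ih
      obtain ⟨i, hi⟩ := hcov a
      obtain ⟨m, hm1, hm2⟩ := hdir i l
      refine ⟨m, ?_⟩
      intro x hx
      rw [Finset.coe_insert, Set.mem_insert_iff] at hx
      rcases hx with rfl | hx
      · exact hm1 hi
      · exact hm2 (hl hx)
  obtain ⟨s, hs⟩ := (Algebra.FiniteType.out : (⊤ : Subalgebra k B).FG)
  obtain ⟨l, hl⟩ := hfin (s.image f)
  -- the image of `f` lies in the image of `A_l`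
  have hrange : ∀ b : B, f b ∈ ((emb l : Aι l →ₐ[k] A)).range := by
    intro b
    have hb : b ∈ Algebra.adjoin k (↑s : Set B) := by rw [hs]; exact Algebra.mem_top
    induction hb using Algebra.adjoin_induction with
    | mem x hx =>
      have : f x ∈ (↑(s.image f) : Set A) := by
        rw [Finset.coe_image]; exact ⟨x, hx, rfl⟩
      obtain ⟨y, hy⟩ := hl this
      exact ⟨y, hy⟩
    | algebraMap r =>
      refine ⟨algebraMap k _ r, ?_⟩
      show (emb l : Aι l →ₐ[k] A) (algebraMap k (Aι l) r) = (f : B →ₐ[k] A) (algebraMap k B r)
      rw [AlgHom.commutes, AlgHom.commutes]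
    | add x y _ _ hx hy =>
      rw [map_add]; exact Subalgebra.add_mem _ hx hy
    | mul x y _ _ hx hy =>
      rw [map_mul]; exact Subalgebra.mul_mem _ hx hy
  let eqv : Aι l ≃ₐ[k] ((emb l : Aι l →ₐ[k] A)).range :=
    AlgEquiv.ofInjective (emb l : Aι l →ₐ[k] A) (hinj l)
  let g₀ : B →ₐ[k] Aι l :=
    (eqv.symm : _ →ₐ[k] Aι l).comp ((f : B →ₐ[k] A).codRestrict _ hrange)
  have hg₀ : ∀ b, emb l (g₀ b) = f b := by
    intro b
    have h1 : (eqv (g₀ b) : A) = emb l (g₀ b) := rfl
    rw [← h1]
    show ((eqv (eqv.symm ((f : B →ₐ[k] A).codRestrict _ hrange b))) : A) = f b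
    rw [AlgEquiv.apply_symm_apply]
    rfl
  have hinj2 : Function.Injective
      (TensorProduct.map ((emb l : Aι l →ₐ[k] A).toLinearMap) ((emb l : Aι l →ₐ[k] A).toLinearMap)) :=
    TensorProduct.map_injective_of_flat_flat _ _ (hinj l) (hinj l)
  refine ⟨l, { g₀ with
      map_smul' := fun c b => map_smul g₀ c b
      counit_comp := ?_
      map_comp_comul := ?_ }, ?_⟩
  · ext b
    show Coalgebra.counit (g₀ b) = Coalgebra.counit b
    rw [← CoalgHomClass.counit_comp_apply (emb l) (g₀ b), hg₀,
      CoalgHomClass.counit_comp_apply f b]
  · ext b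
    show TensorProduct.map g₀.toLinearMap g₀.toLinearMap (Coalgebra.comul b) =
      Coalgebra.comul (g₀ b)
    apply hinj2
    have h2 : TensorProduct.map ((emb l : Aι l →ₐ[k] A).toLinearMap)
        ((emb l : Aι l →ₐ[k] A).toLinearMap) (Coalgebra.comul (g₀ b)) =
        Coalgebra.comul (emb l (g₀ b)) := CoalgHomClass.map_comp_comul_apply (emb l) (g₀ b)
    rw [h2, hg₀, ← CoalgHomClass.map_comp_comul_apply f b, ← LinearMap.comp_apply,
      ← TensorProduct.map_comp]
    congr 2 <;> · ext b'; exact hg₀ b'
  · ext b
    exact hg₀ b

end Groth.Agent.S18864
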