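import Groth.Statements.S18887
import Mathlib

set_option autoImplicit false
universe u v
open DblCov

namespace Groth.Agent.S18887

/-- Let A be a commutative ring in which 2 is invertible and B a commutative A-algebra which is free of
rank 2 as an A-module and whose trace form tr : B → A has kernel free of rank 1 over A. Then σ(b) =
tr(b) − b defines an A-algebra endomorphism σ of B with σ ≠ id and σ ∘ σ = id, and the elements
fixed by σ are exactly the image of A in B. -/
theorem result {A : Type u} {B : Type v} [CommRing A] [CommRing B]
    [Algebra A B] (h2 : IsUnit (2 : A)) [Module.Free A B] [Module.Finite A B]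
    (hrk : Module.finrank A B = 2)
    [Module.Free A (LinearMap.ker (Algebra.trace A B))]
    (hker : Module.finrank A (LinearMap.ker (Algebra.trace A B)) = 1) :
    ∃ σ : B →ₐ[A] B, (∀ b : B, σ b = algebraMap A B (Algebra.trace A B b) - b) ∧
      σ ≠ AlgHom.id A B ∧ σ.comp σ = AlgHom.id A B ∧
      ∀ b : B, σ b = b ↔ b ∈ Set.range (algebraMap A B) := by
  classical
  have hnt : Nontrivial A := by
    rcases subsingleton_or_nontrivial A with h | h
    · exfalso
      have h1 : Module.rank A B = 1 := rank_subsingleton A B
      have : Module.finrank A B = 1 := by simp [Module.finrank, h1]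
      omega
    · exact h
  let bs : Module.Basis (Fin 2) A B := Module.finBasisOfFinrankEq A B hrk
  have htr_alg : ∀ a : A, Algebra.trace A B (algebraMap A B a) = 2 * a := by
    intro a
    rw [Algebra.trace_algebraMap_of_basis bs, Fintype.card_fin, two_nsmul, two_mul]
  have hmat : ∀ M N : Matrix (Fin 2) (Fin 2) A,
      M * N + N * M - M.trace • N - N.trace • M
        + (M.trace * N.trace - (M * N).trace) • (1 : Matrix (Fin 2) (Fin 2) A) = 0 := by
    intro M N
    ext i j
    fin_cases i <;> fin_cases j <;>
      simp [Matrix.mul_apply, Fin.sum_univ_two, Matrix.trace_fin_two] <;> ring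
  have hB : ∀ x y : B, x * y + y * x - Algebra.trace A B x • y - Algebra.trace A B y • x
      + (Algebra.trace A B x * Algebra.trace A B y - Algebra.trace A B (x * y)) • (1 : B) = 0 := by
    intro x y
    apply Algebra.leftMulMatrix_injective bs
    have e1 := Algebra.trace_eq_matrix_trace bs x
    have e2 := Algebra.trace_eq_matrix_trace bs y
    have e3 : Algebra.trace A B (x * y)
        = (Algebra.leftMulMatrix bs x * Algebra.leftMulMatrix bs y).trace := by
      rw [Algebra.trace_eq_matrix_trace bs (x * y), map_mul]
    simp only [map_add, map_sub, map_mul, map_smul, map_one, map_zero]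
    rw [e1, e2, e3]
    exact hmat _ _
  let f : B →ₗ[A] B := (Algebra.linearMap A B) ∘ₗ (Algebra.trace A B) - LinearMap.id
  have hf : ∀ b, f b = algebraMap A B (Algebra.trace A B b) - b := fun b => by simp [f]
  have hf1 : f 1 = 1 := by
    rw [hf]
    have h1 : Algebra.trace A B (1 : B) = 2 := by
      have := htr_alg 1
      rwa [map_one, mul_one] at this
    rw [h1, map_ofNat]; ring
  have hfm : ∀ x y, f (x * y) = f x * f y := by
    intro x y
    rw [hf, hf, hf]
    have := hB x y
    simp only [Algebra.smul_def, mul_one, map_sub, map_mul] at this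
    linear_combination (-1 : B) * this
  refine ⟨AlgHom.ofLinearMap f hf1 hfm, fun b => hf b, ?_, ?_, ?_⟩
  · intro hσ
    have hbot : LinearMap.ker (Algebra.trace A B) = ⊥ := by
      rw [eq_bot_iff]
      intro b hb
      rw [LinearMap.mem_ker] at hb
      have h1 : f b = b := by
        have := congrArg (fun g : B →ₐ[A] B => g b) hσ
        simpa using this
      rw [hf, hb, map_zero, zero_sub] at h1
      have h3 : (2 : A) • b = 0 := by
        rw [two_smul]
        nth_rewrite 1 [← h1]
        exact neg_add_cancel b
      obtain ⟨u, hu⟩ := h2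
      have h4 : b = ((↑u⁻¹ : A) * (2 : A)) • b := by rw [← hu, Units.inv_mul, one_smul]
      rw [Submodule.mem_bot, h4, mul_smul, h3, smul_zero]
    rw [hbot] at hker
    simp at hker
  · apply AlgHom.ext
    intro b
    show f (f b) = b
    have ht : Algebra.trace A B (f b) = Algebra.trace A B b := by
      rw [hf, map_sub, htr_alg]; ring
    rw [hf (f b), ht, hf b]; ring
  · intro b
    show f b = b ↔ _
    constructor
    · intro h
      rw [hf] at h
      obtain ⟨u, hu⟩ := h2
      refine ⟨(↑u⁻¹ : A) * Algebra.trace A B b, ?_⟩
      have h3 : algebraMap A B (Algebra.trace A B b) = (2 : A) • b := by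
        rw [two_smul]; linear_combination h
      rw [map_mul, h3, ← Algebra.smul_def, ← mul_smul, ← hu, Units.inv_mul, one_smul]
    · rintro ⟨a, rfl⟩
      rw [hf, htr_alg, map_mul, map_ofNat]; ring

end Groth.Agent.S18887
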