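import Groth.Statements.S1889
import Mathlib
import Groth.Agent.Lib.helper2.GrpdShearL

set_option autoImplicit false
universe u
open CategoryTheory CategoryTheory.Limits AlgebraicGeometry
open Grpd

namespace Groth.Agent.S1889

/-- Let (U, R, s, t, c) be a groupoid scheme over S with U the spectrum of a field, W ⊆ R open and a : Z
→ R a morphism. Then the image of Z ×_{s∘a, U, t} W → R ×_{s,U,t} R → R (composition) is open. (A
groupoid scheme carries U, R, s, t, c, e, i over S with the groupoid axioms on T-points; 'finite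
locally free' is finite, flat and locally of finite presentation; C ⊂ Γ(U) is the ring of functions
a with s♯(a) = t♯(a) and M = Spec C.) -/
theorem result (S : Scheme.{u}) (G : Grpd.GroupoidScheme S) (k : Type u) [Field k] (eU : G.U ≅ Spec (CommRingCat.of k)) (W : G.R.Opens) (Z : Scheme.{u}) (a : Z ⟶ G.R) : IsOpen (Set.range ⇑(pullback.lift (pullback.fst (a ≫ G.s) (W.ι ≫ G.t) ≫ a) (pullback.snd (a ≫ G.s) (W.ι ≫ G.t) ≫ W.ι) ((Category.assoc _ _ _).trans (pullback.condition.trans (Category.assoc _ _ _).symm)) ≫ G.c)) := by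
  have h1 : AlgebraicGeometry.UniversallyOpen ((a ≫ G.t) ≫ eU.hom) := inferInstance
  have h2 : AlgebraicGeometry.UniversallyOpen (a ≫ G.t) :=
    (MorphismProperty.cancel_right_of_respectsIso @AlgebraicGeometry.UniversallyOpen (a ≫ G.t) eU.hom).mp h1
  have h3 : AlgebraicGeometry.UniversallyOpen (pullback.snd (a ≫ G.t) G.t) :=
    MorphismProperty.pullback_snd _ _ h2
  obtain ⟨Θ, hΘ, hc⟩ := Groth.Agent.H2.H2grpd_shearL G a
  let j : pullback (a ≫ G.s) (W.ι ≫ G.t) ⟶ pullback (a ≫ G.s) G.t :=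
    pullback.map (a ≫ G.s) (W.ι ≫ G.t) (a ≫ G.s) G.t (𝟙 Z) W.ι (𝟙 G.U)
      (by rw [Category.comp_id, Category.id_comp]) (by rw [Category.comp_id])
  have hj : AlgebraicGeometry.IsOpenImmersion j := inferInstance
  have hj1 : j ≫ pullback.fst (a ≫ G.s) G.t = pullback.fst (a ≫ G.s) (W.ι ≫ G.t) := by
    simp only [j, pullback.lift_fst, pullback.map, Category.comp_id]
  have hj2 : j ≫ pullback.snd (a ≫ G.s) G.t = pullback.snd (a ≫ G.s) (W.ι ≫ G.t) ≫ W.ι := by
    simp only [j, pullback.lift_snd, pullback.map]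
  have hfac : pullback.lift (pullback.fst (a ≫ G.s) (W.ι ≫ G.t) ≫ a)
      (pullback.snd (a ≫ G.s) (W.ι ≫ G.t) ≫ W.ι)
      ((Category.assoc _ _ _).trans (pullback.condition.trans (Category.assoc _ _ _).symm)) ≫ G.c =
      j ≫ Θ ≫ pullback.snd (a ≫ G.t) G.t := by
    have e1 : j ≫ pullback.fst (a ≫ G.s) G.t ≫ a = pullback.fst (a ≫ G.s) (W.ι ≫ G.t) ≫ a := by
      rw [← Category.assoc, hj1]
    rw [← hc]
    refine Eq.symm ?_
    rw [← Category.assoc j, Groth.Agent.H2.H2grpd_lift_comp,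
      Groth.Agent.H2.H2grpd_lift_congr G _ e1 hj2]
  rw [hfac]
  have hfun : ⇑(j ≫ Θ ≫ pullback.snd (a ≫ G.t) G.t) =
      ⇑(pullback.snd (a ≫ G.t) G.t) ∘ ⇑Θ ∘ ⇑j := by
    ext z
    simp only [AlgebraicGeometry.Scheme.Hom.comp_apply, Function.comp_apply]
  rw [hfun]
  exact ((pullback.snd (a ≫ G.t) G.t).isOpenMap.comp
    (Θ.isOpenEmbedding.isOpenMap.comp j.isOpenEmbedding.isOpenMap)).isOpen_range

end Groth.Agent.S1889
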