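import Groth.Statements.S18890
import Mathlib

set_option autoImplicit false
universe u v w w'
open CAlg

namespace Groth.Agent.S18890

/-- Let R be a commutative ring, G a finite group whose order is invertible in R, M an R-module with an
R-linear action ρ of G and N an arbitrary R-module. Then the natural map M^G ⊗_R N → M ⊗_R N induced
by the inclusion of the invariants is injective, and its image is the submodule of invariants of M
⊗_R N under the action ρ ⊗ 1 (G acting on the first factor). (The source lets G be a group of
R-automorphisms of M; a possibly non-faithful linear action changes nothing.) -/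
theorem result {R : Type u} [CommRing R]
    {G : Type v} [Group G] [Finite G] (hG : IsUnit ((Nat.card G : ℕ) : R))
    {M : Type w} {N : Type w'} [AddCommGroup M] [Module R M] [AddCommGroup N] [Module R N]
    (ρ : Representation R G M) :
    Function.Injective (LinearMap.rTensor N ρ.invariants.subtype) ∧
      LinearMap.range (LinearMap.rTensor N ρ.invariants.subtype) =
        (ρ.tprod (Representation.trivial R G N)).invariants := by
  classical
  haveI : Fintype G := Fintype.ofFinite G
  obtain ⟨u, hu⟩ := hG
  have hcard : ((Fintype.card G : ℕ) : R) = (u : R) := by
    rw [hu, Nat.card_eq_fintype_card]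
  set avg : M →ₗ[R] M := ((u⁻¹ : Rˣ) : R) • ∑ g : G, ρ g with havg
  have havg_mem : ∀ m : M, avg m ∈ ρ.invariants := by
    intro m
    rw [Representation.mem_invariants]
    intro h
    simp only [havg, LinearMap.smul_apply, LinearMap.sum_apply, map_smul, map_sum]
    congr 1
    refine Fintype.sum_equiv (Equiv.mulLeft h) _ _ ?_
    intro g
    simp only [Equiv.coe_mulLeft, map_mul, Module.End.mul_apply]
  have havg_id : ∀ m ∈ ρ.invariants, avg m = m := by
    intro m hm
    rw [Representation.mem_invariants] at hm
    simp only [havg, LinearMap.smul_apply, LinearMap.sum_apply, hm, Finset.sum_const,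
      Finset.card_univ, ← Nat.cast_smul_eq_nsmul R, hcard, smul_smul]
    simp
  let π : M →ₗ[R] ρ.invariants := LinearMap.codRestrict _ avg havg_mem
  have hπi : π ∘ₗ ρ.invariants.subtype = LinearMap.id := by
    ext ⟨m, hm⟩
    simp [π, havg_id m hm]
  have hiπ : ρ.invariants.subtype ∘ₗ π = avg := by
    ext m
    simp [π]
  constructor
  · apply Function.LeftInverse.injective (g := LinearMap.rTensor N π)
    intro x
    rw [← LinearMap.comp_apply, ← LinearMap.rTensor_comp, hπi, LinearMap.rTensor_id,
      LinearMap.id_apply]
  · apply le_antisymm
    · rintro _ ⟨x, rfl⟩
      rw [Representation.mem_invariants]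
      intro g
      induction x using TensorProduct.induction_on with
      | zero => simp
      | tmul m n =>
        have := (Representation.mem_invariants ρ _).mp m.2 g
        simp [Representation.tprod_apply, this]
      | add x y hx hy => simp only [map_add, hx, hy]
    · intro x hx
      rw [Representation.mem_invariants] at hx
      have h1 : LinearMap.rTensor N avg x = x := by
        have : LinearMap.rTensor N avg =
            ((u⁻¹ : Rˣ) : R) • ∑ g : G, (ρ.tprod (Representation.trivial R G N)) g := by
          rw [havg, ← LinearMap.coe_rTensorHom, map_smul, map_sum]
          congr 1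
        rw [this]
        simp only [LinearMap.smul_apply, LinearMap.sum_apply, hx, Finset.sum_const,
          Finset.card_univ, ← Nat.cast_smul_eq_nsmul R, hcard, smul_smul]
        simp
      rw [← h1, ← hiπ, LinearMap.rTensor_comp, LinearMap.comp_apply]
      exact ⟨_, rfl⟩

end Groth.Agent.S18890
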