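import Groth.Statements.S18930
import Groth.Statements.S18930
import Mathlib

set_option autoImplicit false
universe u
open DPow

namespace Groth.Agent.S18930

/-- Let p be a prime, n ≥ 1, B a commutative ring with p^n = 0 and A = B/pB. Let θ : W_n(A) → B be the
ring homomorphism which sends the reduction of a Witt vector (x_0, …, x_{n−1}) over B to Σ_{i<n} p^i
x_i^(p^(n−i)), let J_n be its kernel and let I_n be the set of a in W_n(A) whose zeroth component
satisfies a_0^(p^n) = 0. Then J_n + (p) ⊆ I_n. (In the source B is the ring of global sections of a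
scheme over the Witt vectors of length n of a perfect field.) -/
theorem result (p : ℕ) [Fact p.Prime] (n : ℕ) (hn : 0 < n)
    {B : Type u} [CommRing B] (hp : (p : B) ^ n = 0)
    (θ : TruncatedWittVector p n (B ⧸ (Ideal.span {(p : B)})) →+* B)
    (hθ : ∀ x : WittVector p B, θ (WittVector.truncate n (WittVector.map (Ideal.Quotient.mk (Ideal.span {(p : B)})) x)) =
        ∑ i : Fin n, (p : B) ^ (i : ℕ) * (x.coeff i) ^ (p ^ (n - i)))
    (a : TruncatedWittVector p n (B ⧸ (Ideal.span {(p : B)})))
    (ha : a ∈ RingHom.ker θ ⊔ Ideal.span {(p : TruncatedWittVector p n (B ⧸ (Ideal.span {(p : B)})))}) :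
    (TruncatedWittVector.coeff ⟨0, hn⟩ a) ^ (p ^ n) = 0 := by
  set A := B ⧸ (Ideal.span {(p : B)}) with hA
  set mk := Ideal.Quotient.mk (Ideal.span {(p : B)}) with hmk
  -- coeff 0 of a truncated Witt vector, via lifting
  have hc0 : ∀ w : WittVector p A,
      TruncatedWittVector.coeff ⟨0, hn⟩ (WittVector.truncate n w) = WittVector.constantCoeff w := by
    intro w
    rw [WittVector.coeff_truncate]
    rfl
  have hpA : (p : A) = 0 := by
    have : (p : A) = mk (p : B) := by simp [hmk]
    rw [this, Ideal.Quotient.eq_zero_iff_mem]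
    exact Ideal.subset_span rfl
  obtain ⟨j, hj, c', hc', rfl⟩ := Submodule.mem_sup.mp ha
  obtain ⟨c, rfl⟩ := Ideal.mem_span_singleton'.mp hc'
  -- lift j and c
  obtain ⟨jw, rfl⟩ := WittVector.truncate_surjective (p := p) n A j
  obtain ⟨cw, rfl⟩ := WittVector.truncate_surjective (p := p) n A c
  obtain ⟨x, rfl⟩ := WittVector.map_surjective mk Ideal.Quotient.mk_surjective jw
  have hsum : WittVector.truncate n (WittVector.map mk x) +
      WittVector.truncate n cw * (p : TruncatedWittVector p n A) =
      WittVector.truncate n (WittVector.map mk x + cw * (p : WittVector p A)) := by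
    rw [map_add, map_mul, map_natCast]
  rw [hsum, hc0, map_add, map_mul, map_natCast, hpA, mul_zero, add_zero]
  have h0 : WittVector.constantCoeff (WittVector.map mk x) = mk (x.coeff 0) := by
    show (WittVector.map mk x).coeff 0 = _
    rw [WittVector.map_coeff]
  rw [h0, ← map_pow, Ideal.Quotient.eq_zero_iff_mem, Ideal.mem_span_singleton]
  have hθj : θ (WittVector.truncate n (WittVector.map mk x)) = 0 := hj
  rw [hθ] at hθj
  -- split the sum at i = 0
  obtain ⟨m, rfl⟩ : ∃ m, n = m + 1 := ⟨n - 1, by omega⟩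
  rw [Fin.sum_univ_succ] at hθj
  simp only [Fin.val_zero, pow_zero, one_mul, Nat.sub_zero, Fin.val_succ] at hθj
  have : x.coeff 0 ^ p ^ (m + 1) = - ∑ i : Fin m, (p : B) ^ ((i : ℕ) + 1) *
      x.coeff ((i : ℕ) + 1) ^ p ^ (m + 1 - ((i : ℕ) + 1)) := by
    rw [eq_neg_iff_add_eq_zero]
    exact hθj
  rw [this, dvd_neg]
  apply Finset.dvd_sum
  intro i _
  rw [pow_succ', mul_assoc]
  exact dvd_mul_right _ _

end Groth.Agent.S18930
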