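import Groth.Statements.S18936
import Mathlib

set_option autoImplicit false
universe u
open CAlg

namespace Groth.Agent.S18936

/-- Let A be a Noetherian commutative ring, q a prime ideal of A and f an element of A whose image in
the localization A_q is a non-zero-divisor. Then there is an element b of A not in q such that the
image of f in A[1/b] is a non-zero-divisor. -/
theorem result {A : Type u} [CommRing A] [IsNoetherianRing A]
    (q : Ideal A) [q.IsPrime] (f : A)
    (hf : algebraMap A (Localization.AtPrime q) f ∈ nonZeroDivisors (Localization.AtPrime q)) :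
    ∃ b : A, b ∉ q ∧ algebraMap A (Localization.Away b) f ∈ nonZeroDivisors (Localization.Away b) := by
  classical
  -- K = kernel of multiplication by f
  let K : Ideal A := LinearMap.ker (LinearMap.mulLeft A f)
  have hKmem : ∀ a, a ∈ K ↔ f * a = 0 := fun a => by
    show LinearMap.mulLeft A f a = 0 ↔ _
    rfl
  have hKfg : K.FG := IsNoetherian.noetherian K
  -- every element of K is killed by some s ∉ q
  have hkill : ∀ a ∈ K, ∃ s : A, s ∉ q ∧ s * a = 0 := by
    intro a ha
    have h1 : algebraMap A (Localization.AtPrime q) f * algebraMap A (Localization.AtPrime q) a = 0 := by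
      rw [← map_mul, (hKmem a).mp ha, map_zero]
    have h2 : algebraMap A (Localization.AtPrime q) a = 0 :=
      (mem_nonZeroDivisors_iff.mp hf).1 _ h1
    rw [IsLocalization.map_eq_zero_iff q.primeCompl] at h2
    obtain ⟨s, hs⟩ := h2
    exact ⟨s.1, s.2, hs⟩
  -- a single b kills K
  have hb : ∃ b : A, b ∉ q ∧ ∀ a ∈ K, b * a = 0 := by
    obtain ⟨S, hS⟩ := hKfg
    have : ∀ T : Finset A, (∀ a ∈ T, a ∈ K) → ∃ b : A, b ∉ q ∧ ∀ a ∈ Ideal.span (T : Set A), b * a = 0 := by
      intro T
      induction T using Finset.induction_on with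
      | empty =>
        intro _
        refine ⟨1, fun h => ‹q.IsPrime›.ne_top ((Ideal.eq_top_iff_one q).mpr h), ?_⟩
        intro a ha
        simp only [Finset.coe_empty, Ideal.span_empty, Ideal.mem_bot] at ha
        rw [ha, mul_zero]
      | insert x T hx ih =>
        intro hT
        obtain ⟨b, hbq, hb⟩ := ih (fun a ha => hT a (Finset.mem_insert_of_mem ha))
        obtain ⟨s, hsq, hs⟩ := hkill x (hT x (Finset.mem_insert_self x T))
        refine ⟨s * b, fun h => (‹q.IsPrime›.mem_or_mem h).elim hsq hbq, ?_⟩
        intro a ha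
        rw [Finset.coe_insert, Ideal.span_insert, Submodule.mem_sup] at ha
        obtain ⟨y, hy, z, hz, rfl⟩ := ha
        obtain ⟨c, rfl⟩ := Ideal.mem_span_singleton'.mp hy
        calc s * b * (c • x + z) = b * c * (s * x) + s * (b * z) := by
              rw [smul_eq_mul]; ring
          _ = 0 := by rw [hs, hb z hz, mul_zero, mul_zero, add_zero]
    obtain ⟨b, hbq, hb⟩ := this S (fun a ha => by
      have : a ∈ Ideal.span (S : Set A) := Ideal.subset_span ha
      rw [hS] at this
      exact this)
    refine ⟨b, hbq, fun a ha => hb a ?_⟩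
    rw [hS]
    exact ha
  obtain ⟨b, hbq, hbK⟩ := hb
  refine ⟨b, hbq, ?_⟩
  rw [mem_nonZeroDivisors_iff]
  have key : ∀ z : Localization.Away b, algebraMap A (Localization.Away b) f * z = 0 → z = 0 := by
    intro z hz
    obtain ⟨x, s, rfl⟩ := IsLocalization.exists_mk'_eq (Submonoid.powers b) z
    rw [← IsLocalization.mk'_one (M := Submonoid.powers b) (Localization.Away b) f,
      ← IsLocalization.mk'_mul, IsLocalization.mk'_eq_zero_iff] at hz
    obtain ⟨m, hm⟩ := hz
    rw [IsLocalization.mk'_eq_zero_iff]
    obtain ⟨k, hk⟩ := m.2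
    have h1 : (m : A) * x ∈ K := by
      rw [hKmem]
      calc f * ((m : A) * x) = (m : A) * (f * x) := by ring
        _ = 0 := hm
    refine ⟨⟨b, Submonoid.mem_powers b⟩ * m, ?_⟩
    have := hbK _ h1
    simpa [mul_assoc] using this
  exact ⟨key, fun z hz => key z (by rwa [mul_comm])⟩

end Groth.Agent.S18936
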