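import Groth.Statements.S18940
import Mathlib

set_option autoImplicit false
universe w v u
open CategoryTheory
open ShfCat

namespace Groth.Agent.S18940

/-- Let (C, J) be a site and f : F → G a morphism of sheaves of sets on it which is locally surjective
(every section of G is, after passing to a covering, in the image of f). Then for every morphism of
sheaves g : H → G the base change F ×_G H → H of f is again locally surjective. -/
theorem result {C : Type u} [Category.{v} C]
    (J : GrothendieckTopology C) {F G H : Sheaf J (Type w)} (f : F ⟶ G) (g : H ⟶ G)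
    [Sheaf.IsLocallySurjective f] :
    Sheaf.IsLocallySurjective (Limits.pullback.snd f g) := by
  constructor
  intro U h
  have hs := Presheaf.imageSieve_mem J f.hom (g.hom.app (Opposite.op U) h)
  refine J.superset_covering ?_ hs
  rintro V i ⟨a, ha⟩
  let Φ : Sheaf J (Type w) ⥤ Type w := sheafToPresheaf J (Type w) ⋙ (evaluation _ _).obj (Opposite.op V)
  let e1 := Limits.PreservesPullback.iso Φ f g
  let e2 := Limits.Types.pullbackIsoPullback (Φ.map f) (Φ.map g)
  have hcomp : (Φ.map f) a = (Φ.map g) (H.obj.map i.op h) := by
    change f.hom.app _ a = g.hom.app _ (H.obj.map i.op h)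
    rw [ha]
    exact (ConcreteCategory.congr_hom (g.hom.naturality i.op) h).symm
  let t : Φ.obj (Limits.pullback f g) := e1.inv (e2.inv ⟨(a, H.obj.map i.op h), hcomp⟩)
  refine ⟨t, ?_⟩
  change (Φ.map (Limits.pullback.snd f g)) t = _
  have h1 : e1.inv ≫ Φ.map (Limits.pullback.snd f g) = Limits.pullback.snd _ _ :=
    Limits.PreservesPullback.iso_inv_snd Φ f g
  have h2 := ConcreteCategory.congr_hom h1 (e2.inv ⟨(a, H.obj.map i.op h), hcomp⟩)
  simp only [ConcreteCategory.comp_apply] at h2
  rw [h2]
  exact Limits.Types.pullbackIsoPullback_inv_snd_apply (Φ.map f) (Φ.map g) ⟨(a, H.obj.map i.op h), hcomp⟩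

end Groth.Agent.S18940
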