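import Groth.Statements.S18943
import Mathlib

set_option autoImplicit false
open scoped ContDiff
open CInfGerm

namespace Groth.Agent.S18943

open scoped ContDiff Topology in
theorem hasDerivAt_I (n : ℕ) (h : ℝ → ℝ) (hh : ContDiff ℝ ∞ h) (x₀ : ℝ) :
    HasDerivAt (fun x => ∫ t in (0:ℝ)..1, t ^ n * h (t * x))
      (∫ t in (0:ℝ)..1, t ^ (n + 1) * deriv h (t * x₀)) x₀ := by
  have hh' : ContDiff ℝ ∞ (deriv h) := (contDiff_infty_iff_deriv.mp hh).2
  have hdiff : Differentiable ℝ h := (contDiff_infty_iff_deriv.mp hh).1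
  have hcont : Continuous h := hh.continuous
  have hcont' : Continuous (deriv h) := hh'.continuous
  obtain ⟨C, hC⟩ := (isCompact_Icc (a := -(|x₀| + 1)) (b := |x₀| + 1)).exists_bound_of_continuousOn
    hcont'.continuousOn
  have hFc : ∀ x : ℝ, Continuous (fun t : ℝ => t ^ n * h (t * x)) := by
    intro x; fun_prop
  have hF'c : ∀ x : ℝ, Continuous (fun t : ℝ => t ^ (n + 1) * deriv h (t * x)) := by
    intro x; fun_prop
  have key := intervalIntegral.hasDerivAt_integral_of_dominated_loc_of_deriv_le
    (μ := MeasureTheory.volume) (a := (0:ℝ)) (b := 1)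
    (F := fun x t => t ^ n * h (t * x)) (F' := fun x t => t ^ (n + 1) * deriv h (t * x))
    (x₀ := x₀) (s := Metric.ball x₀ 1) (bound := fun _ => C)
    (Metric.ball_mem_nhds x₀ one_pos)
    (Filter.Eventually.of_forall fun x => (hFc x).aestronglyMeasurable)
    ((hFc x₀).intervalIntegrable 0 1)
    (hF'c x₀).aestronglyMeasurable
    (Filter.Eventually.of_forall fun t ht x hx => ?_)
    intervalIntegrable_const
    (Filter.Eventually.of_forall fun t ht x hx => ?_)
  · exact key.2
  · rw [Set.uIoc_of_le zero_le_one] at ht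
    have hx' : |x| ≤ |x₀| + 1 := by
      have h1 : |x - x₀| < 1 := by rw [← Real.dist_eq]; exact Metric.mem_ball.mp hx
      have h2 := abs_sub_abs_le_abs_sub x x₀
      linarith
    have htx : |t * x| ≤ |x₀| + 1 := by
      rw [abs_mul, abs_of_pos ht.1]
      calc t * |x| ≤ 1 * |x| := mul_le_mul_of_nonneg_right ht.2 (abs_nonneg x)
        _ = |x| := one_mul _
        _ ≤ _ := hx'
    have hmem : t * x ∈ Set.Icc (-(|x₀| + 1)) (|x₀| + 1) := abs_le.mp htx
    have hb := hC (t * x) hmem
    have ht1 : ‖t ^ (n + 1)‖ ≤ 1 := by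
      rw [norm_pow, Real.norm_eq_abs, abs_of_pos ht.1]
      exact pow_le_one₀ ht.1.le ht.2
    calc ‖t ^ (n + 1) * deriv h (t * x)‖ = ‖t ^ (n + 1)‖ * ‖deriv h (t * x)‖ := norm_mul _ _
      _ ≤ 1 * C := mul_le_mul ht1 hb (norm_nonneg _) zero_le_one
      _ = C := one_mul C
  · show HasDerivAt (fun y => t ^ n * h (t * y)) (t ^ (n + 1) * deriv h (t * x)) x
    have h1 : HasDerivAt (fun y => t * y) t x := by simpa using (hasDerivAt_id x).const_mul t
    have h2 : HasDerivAt (fun y => h (t * y)) (deriv h (t * x) * t) x :=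
      (hdiff (t * x)).hasDerivAt.comp x h1
    have h3 := h2.const_mul (t ^ n)
    exact h3.congr_deriv (by ring)

open scoped ContDiff in
theorem contDiff_I (m : ℕ) : ∀ (n : ℕ) (h : ℝ → ℝ), ContDiff ℝ ∞ h →
    ContDiff ℝ m (fun x => ∫ t in (0:ℝ)..1, t ^ n * h (t * x)) := by
  induction m with
  | zero =>
    intro n h hh
    have hd : Differentiable ℝ (fun x => ∫ t in (0:ℝ)..1, t ^ n * h (t * x)) :=
      fun x => (hasDerivAt_I n h hh x).differentiableAt
    exact contDiff_zero.mpr hd.continuous
  | succ m ih =>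
    intro n h hh
    have hh' : ContDiff ℝ ∞ (deriv h) := (contDiff_infty_iff_deriv.mp hh).2
    have hd : ∀ x, HasDerivAt (fun x => ∫ t in (0:ℝ)..1, t ^ n * h (t * x))
        (∫ t in (0:ℝ)..1, t ^ (n + 1) * deriv h (t * x)) x := hasDerivAt_I n h hh
    have hderiv : deriv (fun x => ∫ t in (0:ℝ)..1, t ^ n * h (t * x)) =
        fun x => ∫ t in (0:ℝ)..1, t ^ (n + 1) * deriv h (t * x) := funext fun x => (hd x).deriv
    rw [Nat.cast_succ, contDiff_succ_iff_deriv]
    refine ⟨fun x => (hd x).differentiableAt, ?_, ?_⟩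
    · intro hω
      exact absurd hω (WithTop.natCast_ne_top m)
    · rw [hderiv]
      exact ih (n + 1) (deriv h) hh'


/-- Let f be an infinitely differentiable real-valued function on the real line with f(0) = 0. Then f(x)
= x·g(x) for an infinitely differentiable function g. (The source phrases this for germs at 0: the
maximal ideal of the local ring of germs of smooth functions at the origin is generated by the
coordinate t; the global form stated here is what its argument, smooth extension of f(x)/x across 0,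
gives.) -/
theorem result (f : ℝ → ℝ) (hf : ContDiff ℝ ∞ f) (h0 : f 0 = 0) :
    ∃ g : ℝ → ℝ, ContDiff ℝ ∞ g ∧ ∀ x : ℝ, f x = x * g x := by
  have hf' : ContDiff ℝ ∞ (deriv f) := (contDiff_infty_iff_deriv.mp hf).2
  have hdiff : Differentiable ℝ f := (contDiff_infty_iff_deriv.mp hf).1
  refine ⟨fun x => ∫ t in (0:ℝ)..1, deriv f (t * x), ?_, ?_⟩
  · rw [contDiff_infty]
    intro m
    have := contDiff_I m 0 (deriv f) hf'
    simpa using this
  · intro x
    have hc' : Continuous (deriv f) := hf'.continuous
    have hint : IntervalIntegrable (fun t => deriv f (t * x) * x) MeasureTheory.volume 0 1 :=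
      Continuous.intervalIntegrable (by fun_prop) _ _
    have hF : ∀ t ∈ Set.uIcc (0:ℝ) 1, HasDerivAt (fun s => f (s * x)) (deriv f (t * x) * x) t := by
      intro t _
      have h1 : HasDerivAt (fun s => s * x) x t := by simpa using (hasDerivAt_id t).mul_const x
      exact (hdiff (t * x)).hasDerivAt.comp t h1
    have := intervalIntegral.integral_eq_sub_of_hasDerivAt hF hint
    simp only [one_mul, zero_mul, h0, sub_zero] at this
    rw [← this, intervalIntegral.integral_mul_const]
    ring

end Groth.Agent.S18943
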