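import Groth.Statements.S18946
import Groth.Statements.S18946
import Mathlib

set_option autoImplicit false
universe u
open scoped BigOperators
open InvQ

namespace Groth.Agent.S18946

/-- Let k be an algebraically closed field of characteristic zero and n a natural number, and let the
torus of (n+1)-tuples of units of k with product 1 act on the polynomial ring k[t_0, ..., t_n] by
rescaling each variable t_i by the i-th unit. A polynomial is fixed by every such rescaling if and
only if it lies in the k-subalgebra generated by the product t_0 t_1 ... t_n. (This is the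
computation of the ring of functions on affine (n+1)-space invariant under the maximal diagonal
torus of the special linear group, identified with the polynomial ring in the single coordinate t =
t_0 ... t_n of the line it maps to by the product map; invariance is tested on k-valued points of
the torus, which over an infinite field is the same as invariance under the group scheme.) -/
theorem result
    (k : Type u) [Field k] [IsAlgClosed k] [CharZero k] (n : ℕ)
    (f : MvPolynomial (Fin (n + 1)) k) :
    (∀ σ : Fin (n + 1) → kˣ, ∏ i, (σ i : k) = 1 →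
        MvPolynomial.aeval (fun i => MvPolynomial.C (σ i : k) * MvPolynomial.X i) f = f) ↔
      f ∈ Algebra.adjoin k ({∏ i : Fin (n + 1), MvPolynomial.X i} : Set (MvPolynomial (Fin (n + 1)) k)) := by
  classical
  have hmon : ∀ (σ : Fin (n + 1) → kˣ) (m : Fin (n + 1) →₀ ℕ) (c : k),
      MvPolynomial.aeval (fun i => MvPolynomial.C (σ i : k) * MvPolynomial.X i)
        (MvPolynomial.monomial m c) =
      MvPolynomial.monomial m (c * ∏ i, (σ i : k) ^ m i) := by
    intro σ m c
    rw [MvPolynomial.aeval_monomial, Finsupp.prod_fintype _ _ (fun i => pow_zero _)]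
    rw [MvPolynomial.monomial_eq, Finsupp.prod_fintype _ _ (fun i => pow_zero _)]
    simp only [mul_pow, Finset.prod_mul_distrib, MvPolynomial.algebraMap_eq, map_mul, map_prod,
      map_pow]
    ring
  have hcoeff : ∀ (σ : Fin (n + 1) → kˣ) (g : MvPolynomial (Fin (n + 1)) k) (m : Fin (n + 1) →₀ ℕ),
      MvPolynomial.coeff m (MvPolynomial.aeval (fun i => MvPolynomial.C (σ i : k) * MvPolynomial.X i) g) =
        MvPolynomial.coeff m g * ∏ i, (σ i : k) ^ m i := by
    intro σ g m
    induction g using MvPolynomial.induction_on' with
    | monomial m' c =>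
      rw [hmon, MvPolynomial.coeff_monomial, MvPolynomial.coeff_monomial]
      split_ifs with h
      · rw [h]
      · rw [zero_mul]
    | add p q hp hq => rw [map_add, MvPolynomial.coeff_add, hp, hq, MvPolynomial.coeff_add, add_mul]
  constructor
  · intro hinv
    rw [MvPolynomial.as_sum f]
    refine Subalgebra.sum_mem _ (fun m hm => ?_)
    have hc : MvPolynomial.coeff m f ≠ 0 := MvPolynomial.mem_support_iff.mp hm
    have hconst : ∀ i j : Fin (n + 1), i ≠ j → m i = m j := by
      intro i j hij
      let two : kˣ := Units.mk0 (2 : k) two_ne_zero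
      let σ : Fin (n + 1) → kˣ := fun l => if l = i then two else if l = j then two⁻¹ else 1
      have hσi : σ i = two := by simp [σ]
      have hσj : σ j = two⁻¹ := by simp [σ, hij.symm]
      have hσl : ∀ l, l ≠ i ∧ l ≠ j → σ l = 1 := by
        intro l hl; simp [σ, hl.1, hl.2]
      have hprod : ∏ l, (σ l : k) = 1 := by
        rw [Finset.prod_eq_mul i j hij (fun l _ hl => by rw [hσl l hl]; rfl)
          (fun h => absurd (Finset.mem_univ _) h) (fun h => absurd (Finset.mem_univ _) h), hσi, hσj]
        simp [two]
      have h1 := hinv σ hprod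
      have h2 := hcoeff σ f m
      rw [h1] at h2
      have h3 : ∏ l, (σ l : k) ^ m l = 1 := by
        have : MvPolynomial.coeff m f * 1 = MvPolynomial.coeff m f * ∏ l, (σ l : k) ^ m l := by
          rw [mul_one]; exact h2
        exact (mul_left_cancel₀ hc this).symm
      rw [Finset.prod_eq_mul i j hij (fun l _ hl => by rw [hσl l hl]; simp)
        (fun h => absurd (Finset.mem_univ _) h) (fun h => absurd (Finset.mem_univ _) h), hσi, hσj] at h3
      have h4 : (2 : k) ^ m i = (2 : k) ^ m j := by
        have h5 : ((two⁻¹ : kˣ) : k) = (2 : k)⁻¹ := by simp [two]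
        have h6 : ((two : kˣ) : k) = 2 := rfl
        rw [h5, h6, inv_pow] at h3
        have h7 : (2 : k) ^ m j ≠ 0 := pow_ne_zero _ two_ne_zero
        field_simp at h3
        exact h3
      have h5 : ((2 ^ m i : ℕ) : k) = ((2 ^ m j : ℕ) : k) := by push_cast; exact h4
      exact Nat.pow_right_injective (le_refl 2) (Nat.cast_injective h5)
    have hmono : MvPolynomial.monomial m (MvPolynomial.coeff m f) =
        MvPolynomial.C (MvPolynomial.coeff m f) * (∏ i : Fin (n + 1), MvPolynomial.X i) ^ (m 0) := by
      rw [MvPolynomial.monomial_eq, Finsupp.prod_fintype _ _ (fun i => pow_zero _), ← Finset.prod_pow]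
      congr 1
      apply Finset.prod_congr rfl
      intro i _
      by_cases hi : i = 0
      · rw [hi]
      · rw [hconst i 0 hi]
    rw [hmono, ← MvPolynomial.algebraMap_eq]
    refine Subalgebra.mul_mem _ (Subalgebra.algebraMap_mem _ _) (Subalgebra.pow_mem _ ?_ _)
    exact Algebra.subset_adjoin (Set.mem_singleton _)
  · intro hf σ hσ
    let φ : MvPolynomial (Fin (n + 1)) k →ₐ[k] MvPolynomial (Fin (n + 1)) k :=
      MvPolynomial.aeval (fun i => MvPolynomial.C (σ i : k) * MvPolynomial.X i)
    have hle : Algebra.adjoin k ({∏ i : Fin (n + 1), MvPolynomial.X i} : Set (MvPolynomial (Fin (n + 1)) k)) ≤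
        AlgHom.equalizer φ (AlgHom.id k _) := by
      rw [Algebra.adjoin_le_iff]
      rintro _ rfl
      change φ (∏ i, MvPolynomial.X i) = ∏ i, MvPolynomial.X i
      rw [map_prod]
      simp only [φ, MvPolynomial.aeval_X, Finset.prod_mul_distrib, ← map_prod, hσ, map_one, one_mul]
    exact hle hf

end Groth.Agent.S18946
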