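import Groth.Statements.S18948
import Mathlib

set_option autoImplicit false
universe u v
open CExt

namespace Groth.Agent.S18948

/-- Let f : E → G be a surjective homomorphism of groups whose kernel is central in E, and let x ∈ E.
Then f maps the conjugacy class of x bijectively onto the conjugacy class of f(x) if and only if
every element of G commuting with f(x) is the image of some element of E commuting with x. (In the
source E → G is the central extension, with kernel the roots of unity, attached to a Brauer class of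
the classifying stack of a finite tame étale group scheme, and a conjugacy class of E mapping
bijectively onto a given class of G is a marking; the equivalence is stated here for an arbitrary
central extension of abstract groups.) -/
theorem result {E : Type u} {G : Type v} [Group E] [Group G]
    (f : E →* G) (hf : Function.Surjective f) (hker : f.ker ≤ Subgroup.center E) (x : E) :
    Set.BijOn f (MulAction.orbit (ConjAct E) x) (MulAction.orbit (ConjAct G) (f x)) ↔
      ∀ g : G, g * f x = f x * g → ∃ e : E, f e = g ∧ e * x = x * e := by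
  have hcentral : ∀ a ∈ f.ker, ∀ e : E, a * e = e * a := fun a ha e =>
    ((Subgroup.mem_center_iff.mp (hker ha)) e).symm
  have horbE : ∀ y : E, y ∈ MulAction.orbit (ConjAct E) x ↔ ∃ c : E, c * x * c⁻¹ = y := by
    intro y
    rw [ConjAct.mem_orbit_conjAct, isConj_comm, isConj_iff]
  have horbG : ∀ y : G, y ∈ MulAction.orbit (ConjAct G) (f x) ↔ ∃ c : G, c * f x * c⁻¹ = y := by
    intro y
    rw [ConjAct.mem_orbit_conjAct, isConj_comm, isConj_iff]
  constructor
  · intro hbij g hg
    obtain ⟨e, rfl⟩ := hf g
    refine ⟨e, rfl, ?_⟩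
    have h1 : e * x * e⁻¹ ∈ MulAction.orbit (ConjAct E) x := (horbE _).mpr ⟨e, rfl⟩
    have h2 : x ∈ MulAction.orbit (ConjAct E) x := MulAction.mem_orbit_self x
    have h3 : f (e * x * e⁻¹) = f x := by
      rw [map_mul, map_mul, map_inv, hg, mul_inv_cancel_right]
    have := hbij.injOn h1 h2 h3
    calc e * x = e * x * e⁻¹ * e := by group
      _ = x * e := by rw [this]
  · intro hcent
    refine ⟨?_, ?_, ?_⟩
    · intro y hy
      obtain ⟨c, rfl⟩ := (horbE y).mp hy
      exact (horbG _).mpr ⟨f c, by simp⟩
    · intro y hy y' hy' hyy'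
      obtain ⟨e, rfl⟩ := (horbE y).mp hy
      obtain ⟨e', rfl⟩ := (horbE y').mp hy'
      have hg : f (e'⁻¹ * e) * f x = f x * f (e'⁻¹ * e) := by
        simp only [map_mul, map_inv] at hyy' ⊢
        calc (f e')⁻¹ * f e * f x = (f e')⁻¹ * (f e * f x * (f e)⁻¹) * f e := by group
          _ = (f e')⁻¹ * (f e' * f x * (f e')⁻¹) * f e := by rw [hyy']
          _ = f x * ((f e')⁻¹ * f e) := by group
      obtain ⟨c, hc, hcx⟩ := hcent _ hg
      have ha : c⁻¹ * (e'⁻¹ * e) ∈ f.ker := by
        rw [MonoidHom.mem_ker, map_mul, map_inv, hc, inv_mul_cancel]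
      have hax := hcentral _ ha x
      have hcx' : c⁻¹ * x = x * c⁻¹ := by
        calc c⁻¹ * x = c⁻¹ * (x * c) * c⁻¹ := by group
          _ = c⁻¹ * (c * x) * c⁻¹ := by rw [hcx]
          _ = x * c⁻¹ := by group
      have key : e'⁻¹ * e * x = x * (e'⁻¹ * e) := by
        calc e'⁻¹ * e * x = c * (c⁻¹ * (e'⁻¹ * e) * x) := by group
          _ = c * (x * (c⁻¹ * (e'⁻¹ * e))) := by rw [hax]
          _ = (c * x) * (c⁻¹ * (e'⁻¹ * e)) := by group
          _ = (x * c) * (c⁻¹ * (e'⁻¹ * e)) := by rw [hcx]
          _ = x * (e'⁻¹ * e) := by group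
      calc e * x * e⁻¹ = e' * (e'⁻¹ * e * x) * e⁻¹ := by group
        _ = e' * (x * (e'⁻¹ * e)) * e⁻¹ := by rw [key]
        _ = e' * x * e'⁻¹ := by group
    · intro y hy
      obtain ⟨c, rfl⟩ := (horbG y).mp hy
      obtain ⟨e, rfl⟩ := hf c
      exact ⟨e * x * e⁻¹, (horbE _).mpr ⟨e, rfl⟩, by simp⟩

end Groth.Agent.S18948
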