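import Groth.Statements.S18949
import Mathlib

set_option autoImplicit false
universe u v
open CExt

namespace Groth.Agent.S18949

/-- Automorphisms over the base: let f : E → G be a surjective homomorphism of groups with central
kernel A. For every homomorphism χ : G → A the map e ↦ χ(f(e)) · e is an endomorphism of E over G
which is the identity on A; and every endomorphism α of E with f ∘ α = f and α equal to the identity
on A is of this form for exactly one χ. (In the source this identifies the automorphisms of a
central extension fixing its kernel with Hom(G, A), for extensions of profinite étale group schemes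
over a field; stated here for abstract groups.) -/
theorem result {E : Type u} {G : Type v} [Group E] [Group G]
    (f : E →* G) (hf : Function.Surjective f) (hker : f.ker ≤ Subgroup.center E) :
    (∀ χ : G →* f.ker, ∃ α : E →* E, f.comp α = f ∧ (∀ a ∈ f.ker, α a = a) ∧
        ∀ e : E, α e = (χ (f e) : E) * e) ∧
      ∀ α : E →* E, f.comp α = f → (∀ a ∈ f.ker, α a = a) →
        ∃! χ : G →* f.ker, ∀ e : E, α e = (χ (f e) : E) * e := by
  have hcentral : ∀ a ∈ f.ker, ∀ e : E, a * e = e * a := fun a ha e =>
    ((Subgroup.mem_center_iff.mp (hker ha)) e).symm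
  constructor
  · intro χ
    refine ⟨{ toFun := fun e => (χ (f e) : E) * e, map_one' := by simp, map_mul' := ?_ }, ?_, ?_, ?_⟩
    · intro x y
      simp only [map_mul, Subgroup.coe_mul]
      have := hcentral (χ (f y) : E) (χ (f y)).2 x
      calc (χ (f x) : E) * (χ (f y) : E) * (x * y)
          = (χ (f x) : E) * ((χ (f y) : E) * x) * y := by group
        _ = (χ (f x) : E) * (x * (χ (f y) : E)) * y := by rw [this]
        _ = (χ (f x) : E) * x * ((χ (f y) : E) * y) := by group
    · ext e
      simp only [MonoidHom.comp_apply, MonoidHom.coe_mk, OneHom.coe_mk, map_mul]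
      have : f (χ (f e) : E) = 1 := (χ (f e)).2
      rw [this, one_mul]
    · intro a ha
      simp only [MonoidHom.coe_mk, OneHom.coe_mk]
      rw [MonoidHom.mem_ker.mp ha, map_one]
      simp
    · intro e
      rfl
  · intro α hα hαA
    have hmem : ∀ e : E, α e * e⁻¹ ∈ f.ker := by
      intro e
      rw [MonoidHom.mem_ker, map_mul, map_inv]
      have := congrArg (fun φ => φ e) hα
      simp only [MonoidHom.comp_apply] at this
      rw [this, mul_inv_cancel]
    let χ0 : E →* f.ker :=
      { toFun := fun e => ⟨α e * e⁻¹, hmem e⟩
        map_one' := by ext; simp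
        map_mul' := by
          intro x y
          ext
          simp only [map_mul, mul_inv_rev, Subgroup.coe_mul]
          have := hcentral _ (hmem y) x⁻¹
          calc α x * α y * (y⁻¹ * x⁻¹) = α x * ((α y * y⁻¹) * x⁻¹) := by group
            _ = α x * (x⁻¹ * (α y * y⁻¹)) := by rw [this]
            _ = α x * x⁻¹ * (α y * y⁻¹) := by group }
    have hχ0 : f.ker ≤ χ0.ker := by
      intro a ha
      rw [MonoidHom.mem_ker]
      ext
      simp only [χ0, MonoidHom.coe_mk, OneHom.coe_mk, Subgroup.coe_one]
      rw [hαA a ha, mul_inv_cancel]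
    let χ : G →* f.ker := f.liftOfSurjective hf ⟨χ0, hχ0⟩
    have hχ : ∀ e : E, χ (f e) = χ0 e := fun e =>
      MonoidHom.liftOfRightInverse_comp_apply _ _ _ ⟨χ0, hχ0⟩ e
    refine ⟨χ, ?_, ?_⟩
    · intro e
      rw [hχ]
      simp [χ0]
    · intro χ' hχ'
      ext g
      obtain ⟨e, rfl⟩ := hf g
      rw [hχ]
      simp only [χ0, MonoidHom.coe_mk, OneHom.coe_mk]
      rw [hχ' e]
      group

end Groth.Agent.S18949
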