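import Groth.Statements.S18951
import Mathlib

set_option autoImplicit false
universe u
open OrbPic

namespace Groth.Agent.S18951

/-- Let G be a group and C ⊆ G a subset that generates G. Then the projection (χ, w) ↦ w from the group
of geometric partial orbifold line bundles with respect to C to functions G → ℚ is injective, its
image contains every conjugation-invariant integer-valued function vanishing at 1 and outside C, and
the group is torsion-free. (The source works with the geometric points of a tame finite étale group
scheme, characters with values in roots of unity and weights on conjugacy classes of the Tate twist;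
here these are identified with a group, homomorphisms to ℚ/ℤ and class functions as the source does
after choosing roots of unity. The case C = G ∖ {1} is the statement for full orbifold line
bundles.) -/
theorem result (G : Type u) [Group G] (C : Set G)
    (hC : Subgroup.closure C = ⊤) :
    Set.InjOn (fun p : (Additive G →+ W4c6brauerbgmalle.QmodZ) × (G → ℚ) => p.2) (W4c6brauerbgmalle.picOrb G C) ∧
      (∀ w ∈ W4c6brauerbgmalle.intWeights G C, ((0 : Additive G →+ W4c6brauerbgmalle.QmodZ), w) ∈ W4c6brauerbgmalle.picOrb G C) ∧
      ∀ (n : ℕ) (p : (Additive G →+ W4c6brauerbgmalle.QmodZ) × (G → ℚ)), p ∈ W4c6brauerbgmalle.picOrb G C → n ≠ 0 →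
        n • p = 0 → p = 0 := by
  have hinj : Set.InjOn (fun p : (Additive G →+ W4c6brauerbgmalle.QmodZ) × (G → ℚ) => p.2)
      (W4c6brauerbgmalle.picOrb G C) := by
    rintro p ⟨_, _, _, hp4⟩ q ⟨_, _, _, hq4⟩ hpq
    have hpq' : p.2 = q.2 := hpq
    have key : ∀ g ∈ Subgroup.closure C, p.1 (Additive.ofMul g) = q.1 (Additive.ofMul g) := by
      intro g hg
      induction hg using Subgroup.closure_induction with
      | mem x hx => rw [← hp4 x hx, ← hq4 x hx, hpq']
      | one => simp
      | mul x y _ _ hx hy => rw [ofMul_mul, map_add, map_add, hx, hy]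
      | inv x _ hx => rw [ofMul_inv, map_neg, map_neg, hx]
    refine Prod.ext ?_ hpq'
    ext g
    exact key g (by rw [hC]; trivial)
  refine ⟨hinj, ?_, ?_⟩
  · rintro w ⟨h1, h2, h3, h4⟩
    refine ⟨h1, h2, h3, ?_⟩
    intro g _
    obtain ⟨n, hn⟩ := h4 g
    change W4c6brauerbgmalle.toQmodZ (w g) = 0
    rw [hn]
    change ((QuotientAddGroup.mk ((n : ℤ) : ℚ)) : ℚ ⧸ AddSubgroup.zmultiples (1 : ℚ)) = 0
    rw [QuotientAddGroup.eq_zero_iff]
    exact ⟨n, by simp⟩
  · intro n p hp hn hnp
    have h2 : p.2 = 0 := by
      have : n • p.2 = 0 := by
        have := congrArg Prod.snd hnp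
        simpa using this
      funext g
      have hg := congrFun this g
      simp only [Pi.smul_apply, Pi.zero_apply, nsmul_eq_mul] at hg
      rcases mul_eq_zero.mp hg with h | h
      · exact absurd (by exact_mod_cast h) hn
      · exact h
    exact hinj hp (W4c6brauerbgmalle.picOrb G C).zero_mem (by simpa using h2)

end Groth.Agent.S18951
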