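import Groth.Statements.S18952
import Mathlib

set_option autoImplicit false
universe u
open OrbPic

namespace Groth.Agent.S18952

/-- Let G be a group and C ⊆ G a subset stable under conjugation. Then (χ, w) ↦ χ maps the group of
geometric partial orbifold line bundles with respect to C onto all characters G → ℚ/ℤ, and a pair in
its kernel (χ trivial) has w a conjugation-invariant integer-valued function vanishing at 1 and
outside C: with the inclusion of such functions this is the exact sequence 0 → Hom(C/conj, ℤ) → Pic
→ Hom(G, ℚ/ℤ) → 0 over a separably closed field. (As in the source after a choice of roots of unity,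
the group G stands for the geometric points of a tame finite étale group scheme, characters are
homomorphisms to ℚ/ℤ and weights are class functions on G.) -/
theorem result (G : Type u) [Group G] (C : Set G)
    (hC : ∀ g h : G, g ∈ C → h * g * h⁻¹ ∈ C) :
    (∀ χ : Additive G →+ W4c6brauerbgmalle.QmodZ, ∃ w : G → ℚ, (χ, w) ∈ W4c6brauerbgmalle.picOrb G C) ∧
      (∀ p : (Additive G →+ W4c6brauerbgmalle.QmodZ) × (G → ℚ), p ∈ W4c6brauerbgmalle.picOrb G C → p.1 = 0 →
        p.2 ∈ W4c6brauerbgmalle.intWeights G C) := by
  classical
  constructor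
  · intro χ
    have hsec : ∀ x : W4c6brauerbgmalle.QmodZ, ∃ r : ℚ, W4c6brauerbgmalle.toQmodZ r = x :=
      fun x => QuotientAddGroup.mk'_surjective _ x
    choose s hs using hsec
    have hconj : ∀ g h : G, χ (Additive.ofMul (h * g * h⁻¹)) = χ (Additive.ofMul g) := by
      intro g h
      rw [ofMul_mul, ofMul_mul, ofMul_inv, map_add, map_add, map_neg]
      abel
    have hCiff : ∀ g h : G, h * g * h⁻¹ ∈ C ↔ g ∈ C := by
      intro g h
      constructor
      · intro hx
        have := hC (h * g * h⁻¹) h⁻¹ hx
        simpa [mul_assoc] using this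
      · exact hC g h
    refine ⟨fun g => if g ∈ C ∧ g ≠ 1 then s (χ (Additive.ofMul g)) else 0, ?_, ?_, ?_, ?_⟩
    · simp
    · intro g hg
      simp [hg]
    · intro g h
      have h1 : h * g * h⁻¹ ≠ 1 ↔ g ≠ 1 := by
        rw [not_iff_not]
        constructor
        · intro hx
          have : g = h⁻¹ * (h * g * h⁻¹) * h := by group
          rw [this, hx]; group
        · intro hx
          rw [hx]; group
      simp only [hCiff g h, h1, hconj g h]
    · intro g hg
      by_cases h1 : g = 1
      · subst h1
        simp
      · simp only [hg, h1, ne_eq, not_false_eq_true, and_self, if_true]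
        exact hs _
  · rintro p ⟨h1, h2, h3, h4⟩ hp0
    refine ⟨h1, h2, h3, ?_⟩
    intro g
    by_cases hg : g ∈ C
    · have := h4 g hg
      rw [hp0] at this
      change ((QuotientAddGroup.mk (p.2 g)) : ℚ ⧸ AddSubgroup.zmultiples (1 : ℚ)) = 0 at this
      rw [QuotientAddGroup.eq_zero_iff] at this
      obtain ⟨n, hn⟩ := this
      exact ⟨n, by simpa using hn.symm⟩
    · exact ⟨0, by simp [h2 g hg]⟩

end Groth.Agent.S18952
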