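import Groth.Statements.S18953
import Mathlib

set_option autoImplicit false
universe u v
open OrbPic

namespace Groth.Agent.S18953

/-- Let G₁ and G₂ be groups with subsets C₁ ⊆ G₁ and C₂ ⊆ G₂, and let C ⊆ G₁ × G₂ be the union of C₁ ×
{1} and {1} × C₂. Restricting the character and the weight along the two inclusions G₁ → G₁ × G₂ and
G₂ → G₁ × G₂ is a bijection from the geometric partial orbifold line bundles of G₁ × G₂ with respect
to C onto pairs of geometric partial orbifold line bundles of G₁ with respect to C₁ and of G₂ with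
respect to C₂. (As in the source after a choice of roots of unity, each group stands for the
geometric points of a tame finite étale group scheme, characters are homomorphisms to ℚ/ℤ and
weights are class functions; the source states the Galois-equivariant version, which follows by
taking invariants.) -/
theorem result (G₁ : Type u) (G₂ : Type v) [Group G₁] [Group G₂] (C₁ : Set G₁) (C₂ : Set G₂) :
    Set.BijOn
      (fun p : (Additive (G₁ × G₂) →+ W4c6brauerbgmalle.QmodZ) × (G₁ × G₂ → ℚ) =>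
        ((p.1.comp (MonoidHom.toAdditive (MonoidHom.inl G₁ G₂)), fun g => p.2 (g, 1)),
          (p.1.comp (MonoidHom.toAdditive (MonoidHom.inr G₁ G₂)), fun g => p.2 (1, g))))
      (W4c6brauerbgmalle.picOrb (G₁ × G₂) ((fun g => (g, (1 : G₂))) '' C₁ ∪ (fun g => ((1 : G₁), g)) '' C₂))
      ((W4c6brauerbgmalle.picOrb G₁ C₁ : Set _) ×ˢ (W4c6brauerbgmalle.picOrb G₂ C₂ : Set _)) := by
  classical
  refine ⟨?_, ?_, ?_⟩
  · -- MapsTo
    rintro ⟨χ, w⟩ ⟨h1, h2, h3, h4⟩
    refine ⟨⟨h1, ?_, ?_, ?_⟩, ⟨h1, ?_, ?_, ?_⟩⟩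
    · intro g hg
      by_cases hg1 : g = 1
      · subst hg1; exact h1
      · apply h2
        rintro (⟨a, ha, hag⟩ | ⟨a, ha, hag⟩)
        · have : a = g := congrArg Prod.fst hag
          exact hg (this ▸ ha)
        · have : (1 : G₁) = g := congrArg Prod.fst hag
          exact hg1 this.symm
    · intro g h
      have := h3 (g, 1) (h, 1)
      simpa using this
    · intro g hg
      have := h4 (g, 1) (Or.inl ⟨g, hg, rfl⟩)
      rw [this]
      rfl
    · intro g hg
      by_cases hg1 : g = 1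
      · subst hg1; exact h1
      · apply h2
        rintro (⟨a, ha, hag⟩ | ⟨a, ha, hag⟩)
        · have : (1 : G₂) = g := congrArg Prod.snd hag
          exact hg1 this.symm
        · have : a = g := congrArg Prod.snd hag
          exact hg (this ▸ ha)
    · intro g h
      have := h3 (1, g) (1, h)
      simpa using this
    · intro g hg
      have := h4 (1, g) (Or.inr ⟨g, hg, rfl⟩)
      rw [this]
      rfl
  · -- InjOn
    rintro ⟨χ, w⟩ ⟨h1, h2, h3, h4⟩ ⟨χ', w'⟩ ⟨h1', h2', h3', h4'⟩ heq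
    simp only [Prod.mk.injEq] at heq
    obtain ⟨⟨hχ1, hw1⟩, ⟨hχ2, hw2⟩⟩ := heq
    have hχ : χ = χ' := by
      apply DFunLike.ext
      intro a
      obtain ⟨⟨g₁, g₂⟩, rfl⟩ : ∃ g, Additive.ofMul g = a := ⟨Additive.toMul a, rfl⟩
      have hdecomp : (Additive.ofMul ((g₁, g₂) : G₁ × G₂)) =
          Additive.ofMul ((g₁, 1) : G₁ × G₂) + Additive.ofMul ((1, g₂) : G₁ × G₂) := by
        rw [← ofMul_mul]
        simp
      rw [hdecomp, map_add, map_add]
      have e1 := DFunLike.congr_fun hχ1 (Additive.ofMul g₁)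
      have e2 := DFunLike.congr_fun hχ2 (Additive.ofMul g₂)
      simp only [AddMonoidHom.comp_apply] at e1 e2
      have f1 : (MonoidHom.toAdditive (MonoidHom.inl G₁ G₂)) (Additive.ofMul g₁) =
          Additive.ofMul ((g₁, 1) : G₁ × G₂) := rfl
      have f2 : (MonoidHom.toAdditive (MonoidHom.inr G₁ G₂)) (Additive.ofMul g₂) =
          Additive.ofMul ((1, g₂) : G₁ × G₂) := rfl
      rw [f1] at e1
      rw [f2] at e2
      rw [e1, e2]
    have hw : w = w' := by
      funext ⟨g₁, g₂⟩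
      by_cases hC : ((g₁, g₂) : G₁ × G₂) ∈
          ((fun g => (g, (1 : G₂))) '' C₁ ∪ (fun g => ((1 : G₁), g)) '' C₂)
      · rcases hC with ⟨a, _, ha⟩ | ⟨a, _, ha⟩
        · rw [← ha]
          exact congrFun hw1 a
        · rw [← ha]
          exact congrFun hw2 a
      · have e1 : w (g₁, g₂) = 0 := h2 _ hC
        have e2 : w' (g₁, g₂) = 0 := h2' _ hC
        rw [e1, e2]
    rw [hχ, hw]
  · -- SurjOn
    rintro ⟨⟨χ₁, w₁⟩, ⟨χ₂, w₂⟩⟩ ⟨⟨a1, a2, a3, a4⟩, ⟨b1, b2, b3, b4⟩⟩
    replace a1 : w₁ 1 = 0 := a1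
    replace a2 : ∀ g : G₁, g ∉ C₁ → w₁ g = 0 := a2
    replace a3 : ∀ g h : G₁, w₁ (h * g * h⁻¹) = w₁ g := a3
    replace a4 : ∀ g : G₁, g ∈ C₁ → W4c6brauerbgmalle.toQmodZ (w₁ g) = χ₁ (Additive.ofMul g) := a4
    replace b1 : w₂ 1 = 0 := b1
    replace b2 : ∀ g : G₂, g ∉ C₂ → w₂ g = 0 := b2
    replace b3 : ∀ g h : G₂, w₂ (h * g * h⁻¹) = w₂ g := b3
    replace b4 : ∀ g : G₂, g ∈ C₂ → W4c6brauerbgmalle.toQmodZ (w₂ g) = χ₂ (Additive.ofMul g) := b4
    let χ : Additive (G₁ × G₂) →+ W4c6brauerbgmalle.QmodZ :=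
      { toFun := fun a => χ₁ (Additive.ofMul (Additive.toMul a).1) +
          χ₂ (Additive.ofMul (Additive.toMul a).2)
        map_zero' := by simp
        map_add' := by
          intro a b
          simp only [toMul_add, Prod.fst_mul, Prod.snd_mul, ofMul_mul, map_add]
          abel }
    let w : G₁ × G₂ → ℚ := fun g => if g.2 = 1 then w₁ g.1 else if g.1 = 1 then w₂ g.2 else 0
    have hχ : ∀ g₁ g₂, χ (Additive.ofMul ((g₁, g₂) : G₁ × G₂)) =
        χ₁ (Additive.ofMul g₁) + χ₂ (Additive.ofMul g₂) := fun _ _ => rfl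
    have hw : ∀ g₁ g₂, w (g₁, g₂) = if g₂ = 1 then w₁ g₁ else if g₁ = 1 then w₂ g₂ else 0 :=
      fun _ _ => rfl
    have hχ1 : χ₁ (Additive.ofMul (1 : G₁)) = 0 := by
      rw [ofMul_one, map_zero]
    have hχ2 : χ₂ (Additive.ofMul (1 : G₂)) = 0 := by
      rw [ofMul_one, map_zero]
    refine ⟨(χ, w), ⟨?_, ?_, ?_, ?_⟩, ?_⟩
    · show w ((1 : G₁), (1 : G₂)) = 0
      rw [hw, if_pos rfl, a1]
    · rintro ⟨g₁, g₂⟩ hg
      show w (g₁, g₂) = 0
      rw [hw]
      split_ifs with h2' h1'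
      · apply a2
        intro hc
        apply hg
        left
        exact ⟨g₁, hc, by simp [h2']⟩
      · apply b2
        intro hc
        apply hg
        right
        exact ⟨g₂, hc, by simp [h1']⟩
      · rfl
    · rintro ⟨g₁, g₂⟩ ⟨k₁, k₂⟩
      show w ((k₁ * g₁ * k₁⁻¹, k₂ * g₂ * k₂⁻¹)) = w (g₁, g₂)
      rw [hw, hw]
      have e2 : k₂ * g₂ * k₂⁻¹ = 1 ↔ g₂ = 1 := by
        constructor
        · intro h
          have : g₂ = k₂⁻¹ * (k₂ * g₂ * k₂⁻¹) * k₂ := by group
          rw [this, h]; group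
        · rintro rfl; group
      have e1 : k₁ * g₁ * k₁⁻¹ = 1 ↔ g₁ = 1 := by
        constructor
        · intro h
          have : g₁ = k₁⁻¹ * (k₁ * g₁ * k₁⁻¹) * k₁ := by group
          rw [this, h]; group
        · rintro rfl; group
      simp only [e1, e2, a3, b3]
    · rintro ⟨g₁, g₂⟩ hg
      show W4c6brauerbgmalle.toQmodZ (w (g₁, g₂)) = χ (Additive.ofMul (g₁, g₂))
      rw [hχ, hw]
      rcases hg with ⟨a, ha, hag⟩ | ⟨a, ha, hag⟩
      · obtain ⟨rfl, rfl⟩ : a = g₁ ∧ (1 : G₂) = g₂ := by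
          simpa [Prod.ext_iff] using hag
        rw [if_pos rfl, a4 a ha, hχ2, add_zero]
      · obtain ⟨rfl, rfl⟩ : (1 : G₁) = g₁ ∧ a = g₂ := by
          simpa [Prod.ext_iff] using hag
        by_cases h : a = 1
        · subst h
          rw [if_pos rfl, a1, hχ1, hχ2, map_zero, add_zero]
        · rw [if_neg h, if_pos rfl, b4 a ha, hχ1, zero_add]
    · show ((χ.comp (MonoidHom.toAdditive (MonoidHom.inl G₁ G₂)), fun g => w (g, 1)),
        (χ.comp (MonoidHom.toAdditive (MonoidHom.inr G₁ G₂)), fun g => w (1, g))) =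
        ((χ₁, w₁), (χ₂, w₂))
      have c1 : χ.comp (MonoidHom.toAdditive (MonoidHom.inl G₁ G₂)) = χ₁ := by
        apply DFunLike.ext
        intro a
        obtain ⟨g, rfl⟩ : ∃ g, Additive.ofMul g = a := ⟨Additive.toMul a, rfl⟩
        show χ (Additive.ofMul ((g, 1) : G₁ × G₂)) = χ₁ (Additive.ofMul g)
        rw [hχ, hχ2, add_zero]
      have c2 : χ.comp (MonoidHom.toAdditive (MonoidHom.inr G₁ G₂)) = χ₂ := by
        apply DFunLike.ext
        intro a
        obtain ⟨g, rfl⟩ : ∃ g, Additive.ofMul g = a := ⟨Additive.toMul a, rfl⟩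
        show χ (Additive.ofMul ((1, g) : G₁ × G₂)) = χ₂ (Additive.ofMul g)
        rw [hχ, hχ1, zero_add]
      have c3 : (fun g => w (g, 1)) = w₁ := by
        funext g
        show w (g, 1) = w₁ g
        rw [hw, if_pos rfl]
      have c4 : (fun g => w (1, g)) = w₂ := by
        funext g
        show w (1, g) = w₂ g
        rw [hw]
        by_cases h : g = 1
        · subst h
          rw [if_pos rfl, a1, b1]
        · rw [if_neg h, if_pos rfl]
      rw [c1, c2, c3, c4]

end Groth.Agent.S18953
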