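import Groth.Statements.S18954
import Mathlib

set_option autoImplicit false
universe u v w
open Classical
open BGCount

namespace Groth.Agent.S18954

/-- Let a finite group G act on a finite set X, let W be a finite set of orbits and f a function on
orbits with values in a field of characteristic zero. Then Σ_{O ∈ W} f(O)/|Stab(x_O)|, with x_O any
point of O, equals |G|⁻¹ · Σ f(orbit(x)) over the points x of X whose orbit lies in W. (In the
source X is the set of 1-cocycles of the absolute Galois group of a field in a finite étale group
scheme G, acted on by the geometric points of G, the orbits are the isomorphism classes of G-torsors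
and the stabilisers their automorphism groups; stated here for an arbitrary action of a finite group
on a finite set, the representative x_O being chosen by Quotient.out.) -/
theorem result {G : Type u} {X : Type v} (𝕜 : Type w)
    [Group G] [Fintype G] [MulAction G X] [Fintype X] [Field 𝕜] [CharZero 𝕜]
    (W : Finset (MulAction.orbitRel.Quotient G X)) (f : MulAction.orbitRel.Quotient G X → 𝕜) :
    (∑ O ∈ W, f O / (Nat.card (MulAction.stabilizer G O.out) : 𝕜)) =
      (Fintype.card G : 𝕜)⁻¹ *
        ∑ x ∈ Finset.univ.filter (fun x : X => (Quotient.mk (MulAction.orbitRel G X) x) ∈ W),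
          f (Quotient.mk (MulAction.orbitRel G X) x) := by
  classical
  set s := Finset.univ.filter (fun x : X => (Quotient.mk (MulAction.orbitRel G X) x) ∈ W) with hs
  have hmaps : ∀ x ∈ s, Quotient.mk (MulAction.orbitRel G X) x ∈ W := by
    intro x hx; exact (Finset.mem_filter.mp hx).2
  rw [← Finset.sum_fiberwise_of_maps_to hmaps, Finset.mul_sum]
  apply Finset.sum_congr rfl
  intro O hO
  have hinner : ∑ x ∈ s with Quotient.mk (MulAction.orbitRel G X) x = O,
      f (Quotient.mk (MulAction.orbitRel G X) x) =
      ((s.filter (fun x => Quotient.mk (MulAction.orbitRel G X) x = O)).card : 𝕜) * f O := by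
    rw [Finset.sum_congr rfl (g := fun _ => f O), Finset.sum_const, nsmul_eq_mul]
    intro x hx
    rw [(Finset.mem_filter.mp hx).2]
  rw [hinner]
  have hset : ((s.filter (fun x => Quotient.mk (MulAction.orbitRel G X) x = O) : Finset X) : Set X) =
      MulAction.orbit G O.out := by
    ext x
    simp only [Finset.coe_filter, Set.mem_setOf_eq]
    rw [← MulAction.orbitRel.Quotient.orbit_eq_orbit_out O Quotient.out_eq',
      MulAction.orbitRel.Quotient.mem_orbit]
    constructor
    · rintro ⟨_, h⟩; exact h
    · intro h
      refine ⟨?_, h⟩
      rw [hs, Finset.mem_filter]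
      refine ⟨Finset.mem_univ _, ?_⟩
      have : Quotient.mk (MulAction.orbitRel G X) x = O := h
      rw [this]; exact hO
  have hcard : (s.filter (fun x => Quotient.mk (MulAction.orbitRel G X) x = O)).card =
      (MulAction.stabilizer G O.out).index := by
    rw [MulAction.index_stabilizer, ← hset, Set.ncard_coe_finset]
  rw [hcard]
  have hmul := Subgroup.card_mul_index (MulAction.stabilizer G O.out)
  rw [Nat.card_eq_fintype_card (α := G)] at hmul
  have hpos : (Nat.card (MulAction.stabilizer G O.out) : 𝕜) ≠ 0 := by
    exact_mod_cast (Nat.card_pos).ne'
  have hG : (Fintype.card G : 𝕜) ≠ 0 := by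
    exact_mod_cast Fintype.card_ne_zero
  have hidx : ((MulAction.stabilizer G O.out).index : 𝕜) ≠ 0 := by
    intro h0
    apply hG
    rw [← hmul]
    push_cast
    rw [h0, mul_zero]
  rw [← hmul]
  push_cast
  field_simp

end Groth.Agent.S18954
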