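import Groth.Statements.S18960

set_option autoImplicit false
universe w' w v u
open CategoryTheory Limits
open CatLim

namespace Groth.Agent.S18960

section Aux

variable {C : Type u} [Category.{v} C] (T : C ⥤ C)

/-- the property of having an invertible structure map. -/
abbrev P : ObjectProperty (Endofunctor.Algebra T) := fun A => IsIso A.str

/-- the forgetful functor. -/
abbrev π : (P T).FullSubcategory ⥤ C := (P T).ι ⋙ Endofunctor.Algebra.forget T

variable {T} {J : Type w} [Category.{w'} J]

section Lift

variable {K : J ⥤ (P T).FullSubcategory}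

/-- carrier. -/
abbrev ob (K : J ⥤ (P T).FullSubcategory) (j : J) : C := (K.obj j).obj.a
/-- structure map. -/
abbrev s (K : J ⥤ (P T).FullSubcategory) (j : J) : T.obj (ob K j) ⟶ ob K j := (K.obj j).obj.str
/-- its inverse. -/
noncomputable def sInv (K : J ⥤ (P T).FullSubcategory) (j : J) : ob K j ⟶ T.obj (ob K j) :=
  @inv _ _ _ _ (s K j) (K.obj j).property
/-- transition map. -/
abbrev km (K : J ⥤ (P T).FullSubcategory) {j j' : J} (f : j ⟶ j') : ob K j ⟶ ob K j' := (K.map f).hom.f

lemma s_sInv (j : J) : s K j ≫ sInv K j = 𝟙 _ := @IsIso.hom_inv_id _ _ _ _ (s K j) (K.obj j).property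
lemma sInv_s (j : J) : sInv K j ≫ s K j = 𝟙 _ := @IsIso.inv_hom_id _ _ _ _ (s K j) (K.obj j).property

lemma alg_h {j j' : J} (f : j ⟶ j') : T.map (km K f) ≫ s K j' = s K j ≫ km K f := (K.map f).hom.h

variable (c : Cocone (K ⋙ π T))

/-- coprojection. -/
abbrev ιc (j : J) : ob K j ⟶ c.pt := c.ι.app j

lemma w_ι {j j' : J} (f : j ⟶ j') : km K f ≫ ιc c j' = ιc c j := c.w f

variable [PreservesColimitsOfShape J T] (t : IsColimit c)

/-- the colimit property of `T c`. -/
noncomputable def tT : IsColimit (T.mapCocone c) := isColimitOfPreserves T t

/-- cocone defining the structure map. -/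
def strCocone : Cocone ((K ⋙ π T) ⋙ T) where
  pt := c.pt
  ι :=
    { app := fun j => s K j ≫ ιc c j
      naturality := fun j j' f => by
        change T.map (km K f) ≫ s K j' ≫ ιc c j' = (s K j ≫ ιc c j) ≫ 𝟙 _
        rw [Category.comp_id, ← Category.assoc, alg_h, Category.assoc, w_ι] }

/-- the structure map on the colimit. -/
noncomputable def str : T.obj c.pt ⟶ c.pt := (tT c t).desc (strCocone c)

lemma ι_str (j : J) : T.map (ιc c j) ≫ str c t = s K j ≫ ιc c j :=
  (tT c t).fac (strCocone c) j

/-- cocone defining the inverse of the structure map. -/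
noncomputable def invCocone : Cocone (K ⋙ π T) where
  pt := T.obj c.pt
  ι :=
    { app := fun j => sInv K j ≫ T.map (ιc c j)
      naturality := fun j j' f => by
        change km K f ≫ sInv K j' ≫ T.map (ιc c j') = (sInv K j ≫ T.map (ιc c j)) ≫ 𝟙 _
        rw [Category.comp_id]
        have h1 : km K f ≫ sInv K j' = sInv K j ≫ T.map (km K f) := by
          have := alg_h (K := K) f
          calc km K f ≫ sInv K j' = (sInv K j ≫ s K j) ≫ km K f ≫ sInv K j' := by
                rw [sInv_s, Category.id_comp]
            _ = sInv K j ≫ (s K j ≫ km K f) ≫ sInv K j' := by simp only [Category.assoc]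
            _ = sInv K j ≫ (T.map (km K f) ≫ s K j') ≫ sInv K j' := by rw [this]
            _ = sInv K j ≫ T.map (km K f) := by
                rw [Category.assoc, s_sInv, Category.comp_id]
        rw [← Category.assoc, h1, Category.assoc, ← T.map_comp, w_ι] }

/-- the inverse of the structure map. -/
noncomputable def strInv : c.pt ⟶ T.obj c.pt := t.desc (invCocone c)

lemma ι_strInv (j : J) : ιc c j ≫ strInv c t = sInv K j ≫ T.map (ιc c j) :=
  t.fac (invCocone c) j

lemma str_strInv : str c t ≫ strInv c t = 𝟙 _ := by
  apply (tT c t).hom_ext
  intro j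
  change T.map (ιc c j) ≫ str c t ≫ strInv c t = T.map (ιc c j) ≫ 𝟙 _
  rw [← Category.assoc, ι_str, Category.assoc, ι_strInv, ← Category.assoc, s_sInv,
    Category.id_comp, Category.comp_id]

lemma strInv_str : strInv c t ≫ str c t = 𝟙 _ := by
  apply t.hom_ext
  intro j
  change ιc c j ≫ strInv c t ≫ str c t = ιc c j ≫ 𝟙 _
  rw [← Category.assoc, ι_strInv, Category.assoc, ι_str, ← Category.assoc, sInv_s,
    Category.id_comp, Category.comp_id]

/-- the lifted apex. -/
noncomputable def liftPt : (P T).FullSubcategory :=
  ⟨⟨c.pt, str c t⟩, ⟨strInv c t, str_strInv c t, strInv_str c t⟩⟩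

/-- the lifted cocone. -/
noncomputable def liftCocone : Cocone K where
  pt := liftPt c t
  ι :=
    { app := fun j => ObjectProperty.homMk { f := ιc c j, h := ι_str c t j }
      naturality := fun j j' f => by
        apply ObjectProperty.hom_ext
        apply Endofunctor.Algebra.ext
        change km K f ≫ ιc c j' = ιc c j ≫ 𝟙 _
        rw [Category.comp_id]
        exact w_ι c f }

/-- the lifted cocone is a colimit. -/
noncomputable def liftIsColimit : IsColimit (liftCocone c t) where
  desc d := ObjectProperty.homMk
    { f := t.desc ((π T).mapCocone d)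
      h := by
        apply (tT c t).hom_ext
        intro j
        change T.map (ιc c j) ≫ T.map (t.desc ((π T).mapCocone d)) ≫ d.pt.obj.str =
          T.map (ιc c j) ≫ str c t ≫ t.desc ((π T).mapCocone d)
        have hfac : ιc c j ≫ t.desc ((π T).mapCocone d) = (d.ι.app j).hom.f :=
          t.fac ((π T).mapCocone d) j
        rw [← Category.assoc, ← T.map_comp, hfac, ← Category.assoc, ι_str, Category.assoc, hfac]
        exact (d.ι.app j).hom.h }
  fac d j := by
    apply ObjectProperty.hom_ext
    apply Endofunctor.Algebra.ext
    exact t.fac ((π T).mapCocone d) j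
  uniq d m hm := by
    apply ObjectProperty.hom_ext
    apply Endofunctor.Algebra.ext
    apply t.hom_ext
    intro j
    have hfac : ιc c j ≫ t.desc ((π T).mapCocone d) = (d.ι.app j).hom.f :=
      t.fac ((π T).mapCocone d) j
    change ιc c j ≫ m.hom.f = ιc c j ≫ t.desc ((π T).mapCocone d)
    rw [hfac]
    exact congrArg (fun k => k.hom.f) (hm j)

end Lift

instance : (π T).ReflectsIsomorphisms := by
  dsimp only [π]
  infer_instance

theorem result' [PreservesColimitsOfShape J T] : Nonempty (CreatesColimitsOfShape J (π T)) :=
  ⟨{ CreatesColimit := fun {K} => createsColimitOfReflectsIso fun c t =>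
      { liftedCocone := liftCocone c t
        validLift := Cocone.ext (Iso.refl _) (fun j => by
          dsimp [liftCocone]
          exact Category.comp_id _)
        makesColimit := liftIsColimit c t } }⟩


end Aux

/-- Let C be a category and T an endofunctor of C; let C(T) be the category whose objects are pairs (X,
u) with u : T X → X an isomorphism and whose morphisms (X, u) → (Y, w) are the morphisms X → Y
compatible with u and w — the full subcategory of T-algebras with invertible structure map — and let
π : C(T) → C be the forgetful functor. If T preserves colimits of shape J then π creates colimits of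
shape J. (The source assumes T preserves all small colimits and concludes for all small shapes; the
argument is shape by shape.) -/
theorem result {C : Type u} [Category.{v} C] (T : C ⥤ C)
    (J : Type w) [Category.{w'} J] [PreservesColimitsOfShape J T] :
    Nonempty (CreatesColimitsOfShape J
      ((ObjectProperty.ι (fun A : Endofunctor.Algebra T => IsIso A.str)) ⋙ Endofunctor.Algebra.forget T)) := by
  exact result' (T := T) (J := J)

end Groth.Agent.S18960
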