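import Groth.Statements.S19005
import Mathlib

set_option autoImplicit false
open scoped TensorProduct
open K2Cent

namespace Groth.Agent.S19005

/-- For abelian groups X and M and ε in M with 2ε = 0 (in the source X is the character group of a split
torus and ε is the class of −1 among the units), the map x ↦ (x ⊗ x, −(x ⊗ ε)) into (X ⊗ X) × (X ⊗
M) is quadratic over ℤ, i.e. it underlies an integer quadratic map with exactly these values. -/
theorem result (X M : Type*) [AddCommGroup X]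
    [AddCommGroup M] (ε : M) (hε : 2 • ε = 0) :
    ∃ R : QuadraticMap ℤ X (TensorProduct ℤ X X × TensorProduct ℤ X M),
      ∀ x : X, R x = (x ⊗ₜ[ℤ] x, -(x ⊗ₜ[ℤ] ε)) := by
  have hε' : ∀ (c : ℤ) (x : X), (2 * c) • (x ⊗ₜ[ℤ] ε) = 0 := by
    intro c x
    rw [mul_comm, mul_smul, ← TensorProduct.tmul_smul]
    have : (2 : ℤ) • ε = 0 := by
      have := hε
      rw [← natCast_zsmul] at this
      exact_mod_cast this
    rw [this, TensorProduct.tmul_zero, smul_zero]
  let B : X →ₗ[ℤ] X →ₗ[ℤ] (TensorProduct ℤ X X × TensorProduct ℤ X M) :=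
    (TensorProduct.mk ℤ X X + (TensorProduct.mk ℤ X X).flip).compr₂
      (LinearMap.inl ℤ (TensorProduct ℤ X X) (TensorProduct ℤ X M))
  refine ⟨{ toFun := fun x => (x ⊗ₜ[ℤ] x, -(x ⊗ₜ[ℤ] ε)), toFun_smul := ?_,
            exists_companion' := ⟨B, ?_⟩ }, fun x => rfl⟩
  · intro a x
    ext
    · simp only [Prod.smul_fst]
      rw [TensorProduct.smul_tmul_smul]
    · simp only [Prod.smul_snd, smul_neg, neg_inj]
      rw [← TensorProduct.smul_tmul']
      obtain ⟨c, hc⟩ : ∃ c, a * a - a = 2 * c := by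
        have := Int.even_mul_pred_self a
        obtain ⟨c, hc⟩ := this
        exact ⟨c, by rw [two_mul, ← hc]; ring⟩
      have h1 := hε' c x
      rw [← hc, sub_smul, sub_eq_zero] at h1
      exact h1.symm
  · intro x y
    ext
    · change (x + y) ⊗ₜ[ℤ] (x + y) = x ⊗ₜ[ℤ] x + y ⊗ₜ[ℤ] y + (x ⊗ₜ[ℤ] y + y ⊗ₜ[ℤ] x)
      rw [TensorProduct.add_tmul, TensorProduct.tmul_add, TensorProduct.tmul_add]
      abel
    · change -((x + y) ⊗ₜ[ℤ] ε) = -(x ⊗ₜ[ℤ] ε) + -(y ⊗ₜ[ℤ] ε) + 0
      rw [TensorProduct.add_tmul]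
      abel

end Groth.Agent.S19005
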