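import Groth.Statements.S19010
import Mathlib
import Groth.Agent.Lib.helper3.RootQuad

set_option autoImplicit false
universe u v w x
open RootD

namespace Groth.Agent.S19010

/-- Let P be a root pairing over an integral domain R of characteristic zero (roots α acting on the
coweight module N through reflections y ↦ y − ⟨α, y⟩ α^∨), D ⊆ N a submodule containing every coroot
and such that every element of D has a positive integer multiple in the span of the coroots (the
derived part), and Y₀ a complement of D in N. Let Q' be a quadratic form on N invariant under all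
root reflections. Then restriction to Y₀ is a bijection from the set of quadratic forms on N that
are invariant under all root reflections and agree with Q' on D onto the set of all quadratic forms
on Y₀. (In the source R = ℤ and N = Y₀ ⊕ Y_der is the cocharacter lattice of a split reductive
group; forms take values in R here.) -/
theorem result {ι : Type u} {R : Type v} {M : Type w} {N : Type x} [CommRing R] [IsDomain R] [CharZero R]
    [AddCommGroup M] [Module R M] [AddCommGroup N] [Module R N] (P : RootPairing ι R M N)
    (D Y₀ : Submodule R N) (hD : ∀ i : ι, P.coroot i ∈ D)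
    (hDsat : ∀ y ∈ D, ∃ n : ℕ, 0 < n ∧ n • y ∈ Submodule.span R (Set.range P.coroot))
    (hc : IsCompl Y₀ D)
    (Q' : QuadraticMap R N R) (hQ' : ∀ (i : ι) (y : N), Q' (P.coreflection i y) = Q' y) :
    Set.BijOn (fun Q : QuadraticMap R N R => Q.comp Y₀.subtype)
      {Q | (∀ (i : ι) (y : N), Q (P.coreflection i y) = Q y) ∧ ∀ y ∈ D, Q y = Q' y} Set.univ := by
  open Groth.Agent.H3RootD RootPairing in
  refine ⟨fun _ _ => Set.mem_univ _, ?_, ?_⟩
  · rintro Q₁ ⟨h₁, hD₁⟩ Q₂ ⟨h₂, hD₂⟩ heq
    refine invariant_ext P D Y₀ hD hDsat hc Q₁ Q₂ h₁ h₂ (fun y hy => (hD₁ y hy).trans (hD₂ y hy).symm)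
      (fun y hy => ?_)
    have := congrArg (fun q : QuadraticMap R Y₀ R => q ⟨y, hy⟩) heq
    exact this
  · intro q₀ _
    obtain ⟨Q, hQ, hQD, hres⟩ := exists_invariant_with_restriction P D Y₀ hD hc Q' hQ' q₀
    exact ⟨Q, ⟨hQ, hQD⟩, hres⟩

end Groth.Agent.S19010
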