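import Groth.Statements.S19013
import Mathlib
import Groth.Agent.Lib.helper9.H9_MilK2

set_option autoImplicit false
universe u v
open MilnorK

namespace Groth.Agent.S19013

/-- Let A ⊆ B be discrete valuation rings, the inclusion being a local homomorphism, with fraction
fields E ⊆ F compatibly, with the induced homomorphism of residue fields κ(A) → κ(B), and with
ramification index e, the natural number such that the maximal ideal of A generates the e-th power
of the maximal ideal of B. Let ∂_A : K_{n+1}(E) → K_n(κ(A)) and ∂_B : K_{n+1}(F) → K_n(κ(B)) be the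
residue maps (tame symbols) on Milnor K-groups. Then for every x in K_{n+1}(E) one has ∂_B(x_F) = e
· (∂_A x)_{κ(B)}, where the subscripts denote the change-of-fields maps along E → F and κ(A) → κ(B).
(The published statement concerns discrete valuations of geometric type on fields finitely generated
over a base field; it is stated here for an arbitrary pair of discrete valuation rings, which is all
the printed computation uses.) -/
theorem result
    (A B : Type u) [CommRing A] [IsDomain A] [IsDiscreteValuationRing A]
    [CommRing B] [IsDomain B] [IsDiscreteValuationRing B] [Algebra A B] [IsLocalHom (algebraMap A B)]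
    (E F : Type v) [Field E] [Field F] [Algebra A E] [IsFractionRing A E] [Algebra B F] [IsFractionRing B F]
    [Algebra E F] [Algebra A F] [IsScalarTower A E F] [IsScalarTower A B F]
    (e : ℕ) (he : Ideal.map (algebraMap A B) (IsLocalRing.maximalIdeal A) = IsLocalRing.maximalIdeal B ^ e)
    (n : ℕ) (dA : MilK.K E (n + 1) →+ MilK.K (IsLocalRing.ResidueField A) n) (hdA : MilK.IsTameSymbol A E n dA)
    (dB : MilK.K F (n + 1) →+ MilK.K (IsLocalRing.ResidueField B) n) (hdB : MilK.IsTameSymbol B F n dB)
    (x : MilK.K E (n + 1)) :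
    dB (MilK.map (algebraMap E F) (n + 1) x) =
      e • MilK.map (IsLocalRing.ResidueField.map (algebraMap A B)) n (dA x) := by
  have key : dB.comp (MilK.map (algebraMap E F) (n + 1)) =
      e • ((MilK.map (IsLocalRing.ResidueField.map (algebraMap A B)) n).comp dA) := by
    apply H9_MilK.hom_ext_tame A E n
    intro ϖ hϖ u
    obtain ⟨ϖB, hϖB⟩ := IsDiscreteValuationRing.exists_irreducible B
    -- algebraMap A B ϖ = ϖB ^ e * w
    have hassoc : Associated (algebraMap A B ϖ) (ϖB ^ e) := by
      rw [← Ideal.span_singleton_eq_span_singleton, ← Ideal.span_singleton_pow,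
        ← hϖB.maximalIdeal_eq, ← he, hϖ.maximalIdeal_eq, Ideal.map_span, Set.image_singleton]
    obtain ⟨w, hw⟩ := hassoc
    have hw' : algebraMap A B ϖ = ϖB ^ e * ((w⁻¹ : Bˣ) : B) := by
      rw [← hw, mul_assoc, Units.mul_inv, mul_one]
    set v : Fin n → Bˣ := fun i => Units.map ((algebraMap A B : A →+* B) : A →* B) (u i) with hv
    simp only [AddMonoidHom.comp_apply, AddMonoidHom.smul_apply]
    rw [MilK.map_symbol, hdA ϖ hϖ u, MilK.map_symbol]
    have e1 : (fun i => Units.map ((algebraMap E F : E →+* F) : E →* F)
        ((Fin.cons (MilK.unitFrac A E ϖ hϖ.ne_zero) fun i => MilK.unitToFrac A E (u i) :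
          Fin (n + 1) → Eˣ) i)) =
        (Fin.cons (MilK.unitFrac B F ϖB hϖB.ne_zero ^ (e : ℤ) * MilK.unitToFrac B F w⁻¹)
          (fun i => MilK.unitToFrac B F (v i)) : Fin (n + 1) → Fˣ) := by
      funext j
      refine Fin.cases ?_ (fun i => ?_) j
      · simp only [Fin.cons_zero]
        apply Units.ext
        simp only [Units.coe_map, MonoidHom.coe_coe, MilK.coe_unitFrac, Units.val_mul,
          Units.val_zpow_eq_zpow_val, zpow_natCast, MilK.unitToFrac]
        rw [← IsScalarTower.algebraMap_apply A E F, IsScalarTower.algebraMap_apply A B F, hw',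
          map_mul, map_pow, Units.val_pow_eq_pow_val, MilK.coe_unitFrac]
      · simp only [Fin.cons_succ]
        apply Units.ext
        simp only [Units.coe_map, MonoidHom.coe_coe, MilK.unitToFrac, hv]
        rw [← IsScalarTower.algebraMap_apply A E F, IsScalarTower.algebraMap_apply A B F]
    rw [e1, H9_MilK.symbol_cons_mul, map_add]
    have e2 : (MilK.symbol (Fin.cons (MilK.unitFrac B F ϖB hϖB.ne_zero ^ (e : ℤ))
        (fun i => MilK.unitToFrac B F (v i)) : Fin (n + 1) → Fˣ) : MilK.K F (n + 1)) =
        (e : ℤ) • MilK.symbol (Fin.cons (MilK.unitFrac B F ϖB hϖB.ne_zero)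
          (fun i => MilK.unitToFrac B F (v i)) : Fin (n + 1) → Fˣ) := by
      have := H9_MilK.symbol_update_zpow (Fin.cons (MilK.unitFrac B F ϖB hϖB.ne_zero)
          (fun i => MilK.unitToFrac B F (v i)) : Fin (n + 1) → Fˣ) 0
          (MilK.unitFrac B F ϖB hϖB.ne_zero) (e : ℤ)
      simpa only [Fin.update_cons_zero] using this
    have e3 : dB (MilK.symbol (Fin.cons (MilK.unitToFrac B F w⁻¹)
        (fun i => MilK.unitToFrac B F (v i)) : Fin (n + 1) → Fˣ)) = 0 := by
      have := H9_MilK.tame_units B F n dB hdB (Fin.cons w⁻¹ v)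
      have e4 : (fun i => MilK.unitToFrac B F ((Fin.cons w⁻¹ v : Fin (n + 1) → Bˣ) i)) =
          (Fin.cons (MilK.unitToFrac B F w⁻¹)
            (fun i => MilK.unitToFrac B F (v i)) : Fin (n + 1) → Fˣ) := by
        funext j
        refine Fin.cases ?_ (fun i => ?_) j <;> simp
      rw [e4] at this
      exact this
    rw [e2, map_zsmul, hdB ϖB hϖB v, e3, add_zero, natCast_zsmul]
    congr 2
  exact DFunLike.congr_fun key x

end Groth.Agent.S19013
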