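import Groth.Statements.S19015
import Mathlib
import Groth.Agent.Lib.helper9.H9_MilK

set_option autoImplicit false
universe u v
open MilnorK

namespace Groth.Agent.S19015

/-- Let B be a discrete valuation ring with fraction field F, residue field κ and uniformizer π, and let
E be a field with a ring homomorphism into B, hence into F and into κ. Let ∂ : K_{n+1}(F) → K_n(κ)
be the residue map (tame symbol) on Milnor K-groups and s^π(ρ) = ∂({−π} · ρ) the specialization map
attached to π. Then s^π(x_F) = x_κ for every x in K_n(E): the product {−π} · x_F in K_{1+n}(F),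
regarded in K_{n+1}(F), has residue the image of x in K_n(κ). (The published statement concerns
discrete valuations of geometric type on fields finitely generated over a base field; it is stated
here for an arbitrary discrete valuation ring, which is all the printed computation uses.) -/
theorem result
    (B : Type u) [CommRing B] [IsDomain B] [IsDiscreteValuationRing B]
    (E F : Type v) [Field E] [Field F] [Algebra B F] [IsFractionRing B F]
    [Algebra E B] [Algebra E F] [IsScalarTower E B F]
    (n : ℕ) (d : MilK.K F (n + 1) →+ MilK.K (IsLocalRing.ResidueField B) n) (hd : MilK.IsTameSymbol B F n d)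
    (ϖ : B) (hϖ : Irreducible ϖ) (x : MilK.K E n) :
    d (MilK.cast F (Nat.add_comm 1 n)
        (MilK.mul F 1 n (MilK.symbol ![-MilK.unitFrac B F ϖ hϖ.ne_zero]) (MilK.map (algebraMap E F) n x))) =
      MilK.map ((IsLocalRing.residue B).comp (algebraMap E B)) n x := by
  have key : (d.comp (MilK.cast F (Nat.add_comm 1 n)).toAddMonoidHom).comp
      ((MilK.mul F 1 n (MilK.symbol ![-MilK.unitFrac B F ϖ hϖ.ne_zero])).comp
        (MilK.map (algebraMap E F) n)) =
      MilK.map ((IsLocalRing.residue B).comp (algebraMap E B)) n := by
    apply H9_MilK.hom_ext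
    intro a
    simp only [AddMonoidHom.comp_apply, AddEquiv.coe_toAddMonoidHom]
    rw [MilK.map_symbol, MilK.mul_symbol_symbol, MilK.cast_symbol, MilK.map_symbol]
    set u : Fin n → Bˣ := fun i => Units.map ((algebraMap E B : E →+* B) : E →* B) (a i) with hu
    have e : ((Fin.append ![-MilK.unitFrac B F ϖ hϖ.ne_zero]
        (fun i => Units.map ((algebraMap E F : E →+* F) : E →* F) (a i))) ∘
          Fin.cast (Nat.add_comm 1 n).symm) =
        (Fin.cons (MilK.unitFrac B F (-ϖ) (neg_ne_zero.mpr hϖ.ne_zero))
          (fun i => MilK.unitToFrac B F (u i)) : Fin (n + 1) → Fˣ) := by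
      funext j
      refine Fin.cases ?_ (fun i => ?_) j
      · have h0 : Fin.cast (Nat.add_comm 1 n).symm (0 : Fin (n + 1)) = Fin.castAdd n (0 : Fin 1) :=
          Fin.ext rfl
        simp only [Function.comp_apply, h0, Fin.append_left, Fin.cons_zero]
        apply Units.ext
        simp
      · have h1 : Fin.cast (Nat.add_comm 1 n).symm i.succ = Fin.natAdd 1 i :=
          Fin.ext (by simp [Nat.add_comm])
        simp only [Function.comp_apply, h1, Fin.append_right, Fin.cons_succ]
        apply Units.ext
        simp [MilK.unitToFrac, hu, IsScalarTower.algebraMap_apply E B F]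
    have hneg : Irreducible (-ϖ) := by
      have := (irreducible_mul_units (-1 : Bˣ)).mpr hϖ
      simpa using this
    rw [e, hd (-ϖ) hneg u]
    have e2 : (fun i => MilK.unitResidue B (u i)) = fun i =>
        (Units.map (((IsLocalRing.residue B).comp (algebraMap E B) : E →+* _) : E →* _)) (a i) := by
      funext i
      apply Units.ext
      rfl
    rw [e2]
  exact DFunLike.congr_fun key x

end Groth.Agent.S19015
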