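import Groth.Statements.S19016
import Mathlib
import Groth.Agent.Lib.helper9.H9_MilK2

set_option autoImplicit false
universe u v
open MilnorK

namespace Groth.Agent.S19016

/-- Let B be a discrete valuation ring with fraction field F and residue field κ, let u be a unit of B
with residue class ū, and let ∂ denote the residue maps (tame symbols) K_{n+1}(F) → K_n(κ) and
K_{n+2}(F) → K_{n+1}(κ) on Milnor K-groups. Then ∂({u} · ρ) = −{ū} · ∂(ρ) for every ρ in K_{n+1}(F),
the products {u} · ρ in K_{1+(n+1)}(F) and {ū} · ∂ρ in K_{1+n}(κ) being regarded in K_{n+2}(F) and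
K_{n+1}(κ). (The published statement concerns discrete valuations of geometric type on fields
finitely generated over a base field; it is stated here for an arbitrary discrete valuation ring,
which is all the printed computation uses.) -/
theorem result
    (B : Type u) [CommRing B] [IsDomain B] [IsDiscreteValuationRing B]
    (F : Type v) [Field F] [Algebra B F] [IsFractionRing B F] (n : ℕ)
    (d : MilK.K F (n + 1) →+ MilK.K (IsLocalRing.ResidueField B) n) (hd : MilK.IsTameSymbol B F n d)
    (d' : MilK.K F (n + 1 + 1) →+ MilK.K (IsLocalRing.ResidueField B) (n + 1))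
    (hd' : MilK.IsTameSymbol B F (n + 1) d')
    (u : Bˣ) (ρ : MilK.K F (n + 1)) :
    d' (MilK.cast F (Nat.add_comm 1 (n + 1)) (MilK.mul F 1 (n + 1) (MilK.symbol ![MilK.unitToFrac B F u]) ρ)) =
      -(MilK.cast (IsLocalRing.ResidueField B) (Nat.add_comm 1 n)
          (MilK.mul (IsLocalRing.ResidueField B) 1 n (MilK.symbol ![MilK.unitResidue B u]) (d ρ))) := by
  have key : (d'.comp (MilK.cast F (Nat.add_comm 1 (n + 1))).toAddMonoidHom).comp
      (MilK.mul F 1 (n + 1) (MilK.symbol ![MilK.unitToFrac B F u])) =
      -((MilK.cast (IsLocalRing.ResidueField B) (Nat.add_comm 1 n)).toAddMonoidHom.comp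
        ((MilK.mul (IsLocalRing.ResidueField B) 1 n (MilK.symbol ![MilK.unitResidue B u])).comp d)) := by
    apply H9_MilK.hom_ext_tame B F n
    intro ϖ hϖ w
    simp only [AddMonoidHom.comp_apply, AddMonoidHom.neg_apply, AddEquiv.coe_toAddMonoidHom]
    rw [hd ϖ hϖ w, MilK.mul_symbol_symbol, MilK.mul_symbol_symbol, MilK.cast_symbol,
      MilK.cast_symbol]
    set U := MilK.unitToFrac B F u with hU
    set P := MilK.unitFrac B F ϖ hϖ.ne_zero with hP
    set t : Fin (n + 1 + 1) → Fˣ := (Fin.append ![U]
      (Fin.cons P fun i => MilK.unitToFrac B F (w i) : Fin (n + 1) → Fˣ)) ∘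
        Fin.cast (Nat.add_comm 1 (n + 1)).symm with ht
    have ht0 : t 0 = U := by
      have h0 : Fin.cast (Nat.add_comm 1 (n + 1)).symm (0 : Fin (n + 1 + 1)) =
          Fin.castAdd (n + 1) (0 : Fin 1) := Fin.ext rfl
      simp only [ht, Function.comp_apply, h0, Fin.append_left]
      rfl
    have htsucc : ∀ i : Fin (n + 1), t i.succ =
        (Fin.cons P fun i => MilK.unitToFrac B F (w i) : Fin (n + 1) → Fˣ) i := by
      intro i
      have h1 : Fin.cast (Nat.add_comm 1 (n + 1)).symm i.succ = Fin.natAdd 1 i :=
        Fin.ext (by simp [Nat.add_comm])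
      simp only [ht, Function.comp_apply, h1, Fin.append_right]
    have ht1 : t 1 = P := by
      have := htsucc 0
      simpa using this
    have h01 : (0 : Fin (n + 1 + 1)) ≠ 1 := by
      intro h
      have := congrArg Fin.val h
      simp at this
    have e1 : Function.update (Function.update t 0 U) 1 P = t := by
      rw [← ht0, Function.update_eq_self, ← ht1, Function.update_eq_self]
    have hsym : (MilK.symbol t : MilK.K F (n + 1 + 1)) =
        -MilK.symbol (Function.update (Function.update t 0 P) 1 U) := by
      have := H9_MilK.symbol_swap_update t 0 1 h01 U P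
      rw [e1] at this
      exact this
    have e2 : Function.update (Function.update t 0 P) 1 U =
        (Fin.cons P fun i => MilK.unitToFrac B F ((Fin.cons u w : Fin (n + 1) → Bˣ) i) :
          Fin (n + 1 + 1) → Fˣ) := by
      funext j
      refine Fin.cases ?_ (fun i => ?_) j
      · rw [Function.update_of_ne h01, Function.update_self]
        simp
      · refine Fin.cases ?_ (fun i' => ?_) i
        · have : (Fin.succ (0 : Fin (n + 1)) : Fin (n + 1 + 1)) = 1 := rfl
          rw [this, Function.update_self]
          simp [hU]
        · have hne1 : (Fin.succ (Fin.succ i') : Fin (n + 1 + 1)) ≠ 1 := by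
            intro h
            have := congrArg Fin.val h
            simp at this
          have hne0 : (Fin.succ (Fin.succ i') : Fin (n + 1 + 1)) ≠ 0 := Fin.succ_ne_zero _
          rw [Function.update_of_ne hne1, Function.update_of_ne hne0, htsucc]
          simp
    rw [hsym, map_neg, e2, hd' ϖ hϖ (Fin.cons u w)]
    congr 2
    funext j
    refine Fin.cases ?_ (fun i => ?_) j
    · have h0 : Fin.cast (Nat.add_comm 1 n).symm (0 : Fin (n + 1)) = Fin.castAdd n (0 : Fin 1) :=
        Fin.ext rfl
      simp only [Function.comp_apply, h0, Fin.append_left, Fin.cons_zero]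
      rfl
    · have h1 : Fin.cast (Nat.add_comm 1 n).symm i.succ = Fin.natAdd 1 i :=
        Fin.ext (by simp [Nat.add_comm])
      simp only [Function.comp_apply, h1, Fin.append_right, Fin.cons_succ]
  exact DFunLike.congr_fun key ρ

end Groth.Agent.S19016
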