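import Groth.Statements.S19019
import Mathlib

set_option autoImplicit false
open scoped ComplexOrder
open Toeplitz

namespace Groth.Agent.S19019

section Aux
open Complex

theorem orth (N : ℕ) (hN : 0 < N) (n : ℤ) (hn : |n| < (N : ℤ)) (θ : ℝ) :
    ∑ l ∈ Finset.range N, Complex.exp (Complex.I * (n : ℂ) *
      (((θ + 2 * Real.pi * (l : ℝ) / (N : ℝ) : ℝ)) : ℂ)) = if n = 0 then (N : ℂ) else 0 := by
  have hN' : (N : ℂ) ≠ 0 := by exact_mod_cast hN.ne'
  by_cases h0 : n = 0
  · subst h0; simp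
  · rw [if_neg h0]
    set z : ℂ := Complex.exp (2 * Real.pi * Complex.I * (n : ℂ) / (N : ℂ)) with hz
    have hterm : ∀ l : ℕ, Complex.exp (Complex.I * (n : ℂ) *
        (((θ + 2 * Real.pi * (l : ℝ) / (N : ℝ) : ℝ)) : ℂ)) =
        Complex.exp (Complex.I * (n : ℂ) * (θ : ℂ)) * z ^ l := by
      intro l
      rw [hz, ← Complex.exp_nat_mul, ← Complex.exp_add]
      congr 1
      push_cast
      field_simp
    simp_rw [hterm]
    rw [← Finset.mul_sum]
    have hz1 : z ≠ 1 := by
      intro h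
      rw [hz, Complex.exp_eq_one_iff] at h
      obtain ⟨k, hk⟩ := h
      have h2 : (2 * Real.pi * Complex.I : ℂ) ≠ 0 := Complex.two_pi_I_ne_zero
      have e1 : (2 * Real.pi * Complex.I : ℂ) * ((n : ℂ) / (N : ℂ)) =
          (2 * Real.pi * Complex.I) * (k : ℂ) := by
        calc (2 * Real.pi * Complex.I : ℂ) * ((n : ℂ) / (N : ℂ))
            = 2 * Real.pi * Complex.I * (n : ℂ) / (N : ℂ) := by ring
          _ = (k : ℂ) * (2 * Real.pi * Complex.I) := hk
          _ = (2 * Real.pi * Complex.I) * (k : ℂ) := by ring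
      have e2 := mul_left_cancel₀ h2 e1
      have e3 : (n : ℂ) = (k : ℂ) * (N : ℂ) := by
        rw [div_eq_iff hN'] at e2; exact e2
      have e4 : n = k * (N : ℤ) := by exact_mod_cast e3
      have hk0 : k = 0 := by
        by_contra hk0
        have h1 : (1 : ℤ) ≤ |k| := Int.one_le_abs hk0
        have h3 : |n| = |k| * (N : ℤ) := by
          rw [e4, abs_mul, abs_of_nonneg (Int.natCast_nonneg N)]
        have hNpos : (0 : ℤ) < N := by exact_mod_cast hN
        nlinarith
      exact h0 (by rw [e4, hk0, zero_mul])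
    have hzN : z ^ N = 1 := by
      rw [hz, ← Complex.exp_nat_mul]
      have : (N : ℂ) * (2 * Real.pi * Complex.I * (n : ℂ) / (N : ℂ)) =
          (n : ℂ) * (2 * Real.pi * Complex.I) := by field_simp
      rw [this]; exact Complex.exp_int_mul_two_pi_mul_I n
    rw [geom_sum_eq hz1, hzN, sub_self, zero_div, mul_zero]

/-- exponential at the sample points -/
noncomputable def EE (N : ℕ) (θ : ℝ) (n : ℤ) (l : ℕ) : ℂ :=
  Complex.exp (Complex.I * (n : ℂ) * (((θ + 2 * Real.pi * (l : ℝ) / (N : ℝ) : ℝ)) : ℂ))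

theorem EE_add (N : ℕ) (θ : ℝ) (a b : ℤ) (l : ℕ) :
    EE N θ (a + b) l = EE N θ a l * EE N θ b l := by
  unfold EE
  rw [← Complex.exp_add]
  congr 1
  push_cast
  ring

theorem EE_sum (N : ℕ) (hN : 0 < N) (n : ℤ) (hn : |n| < (N : ℤ)) (θ : ℝ) :
    ∑ l ∈ Finset.range N, EE N θ n l = if n = 0 then (N : ℂ) else 0 :=
  orth N hN n hn θ

theorem EE_conj (N : ℕ) (θ : ℝ) (n : ℤ) (l : ℕ) :
    (starRingEnd ℂ) (EE N θ n l) = EE N θ (-n) l := by
  unfold EE
  rw [← Complex.exp_conj]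
  congr 1
  rw [map_mul, map_mul, Complex.conj_I, Complex.conj_ofReal, map_intCast]
  push_cast
  ring

theorem main_id (m N : ℕ) (hm : 0 < m) (hN : 2 * m ≤ N) (t : ℤ → ℂ) (x : Fin m → ℂ) (θ : ℝ) :
    ∑ l ∈ Finset.range N,
      (∑ k ∈ Finset.Ioo (-(m : ℤ)) (m : ℤ), t k * EE N θ k l) *
      ((∑ i : Fin m, star (x i) * EE N θ ((i : ℕ) : ℤ) l) *
        (∑ j : Fin m, x j * EE N θ (-((j : ℕ) : ℤ)) l))
    = (N : ℂ) * ∑ i : Fin m, ∑ j : Fin m,
        star (x i) * (t (((j : ℕ) : ℤ) - ((i : ℕ) : ℤ)) * x j) := by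
  classical
  have hNpos : 0 < N := by omega
  have hNz : (2 * (m : ℤ)) ≤ (N : ℤ) := by exact_mod_cast hN
  have hA : ∀ l, (∑ k ∈ Finset.Ioo (-(m : ℤ)) (m : ℤ), t k * EE N θ k l) *
      ((∑ i : Fin m, star (x i) * EE N θ ((i : ℕ) : ℤ) l) *
        (∑ j : Fin m, x j * EE N θ (-((j : ℕ) : ℤ)) l)) =
      ∑ i : Fin m, ∑ j : Fin m, ∑ k ∈ Finset.Ioo (-(m : ℤ)) (m : ℤ),
        (star (x i) * x j * t k) * EE N θ (k + ((i : ℕ) : ℤ) - ((j : ℕ) : ℤ)) l := by
    intro l
    rw [Finset.sum_mul_sum, Finset.mul_sum]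
    refine Finset.sum_congr rfl fun i _ => ?_
    rw [Finset.mul_sum]
    refine Finset.sum_congr rfl fun j _ => ?_
    rw [Finset.sum_mul]
    refine Finset.sum_congr rfl fun k _ => ?_
    have : EE N θ (k + ((i : ℕ) : ℤ) - ((j : ℕ) : ℤ)) l =
        EE N θ k l * EE N θ ((i : ℕ) : ℤ) l * EE N θ (-((j : ℕ) : ℤ)) l := by
      rw [sub_eq_add_neg, EE_add, EE_add]
    rw [this]; ring
  calc ∑ l ∈ Finset.range N,
      (∑ k ∈ Finset.Ioo (-(m : ℤ)) (m : ℤ), t k * EE N θ k l) *
      ((∑ i : Fin m, star (x i) * EE N θ ((i : ℕ) : ℤ) l) *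
        (∑ j : Fin m, x j * EE N θ (-((j : ℕ) : ℤ)) l))
      = ∑ l ∈ Finset.range N, ∑ i : Fin m, ∑ j : Fin m, ∑ k ∈ Finset.Ioo (-(m : ℤ)) (m : ℤ),
        (star (x i) * x j * t k) * EE N θ (k + ((i : ℕ) : ℤ) - ((j : ℕ) : ℤ)) l :=
        Finset.sum_congr rfl (fun l _ => hA l)
    _ = ∑ i : Fin m, ∑ j : Fin m, ∑ k ∈ Finset.Ioo (-(m : ℤ)) (m : ℤ),
        (star (x i) * x j * t k) *
          ∑ l ∈ Finset.range N, EE N θ (k + ((i : ℕ) : ℤ) - ((j : ℕ) : ℤ)) l := by
        rw [Finset.sum_comm]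
        refine Finset.sum_congr rfl fun i _ => ?_
        rw [Finset.sum_comm]
        refine Finset.sum_congr rfl fun j _ => ?_
        rw [Finset.sum_comm]
        refine Finset.sum_congr rfl fun k _ => ?_
        rw [Finset.mul_sum]
    _ = ∑ i : Fin m, ∑ j : Fin m, ∑ k ∈ Finset.Ioo (-(m : ℤ)) (m : ℤ),
        (star (x i) * x j * t k) *
          (if k + ((i : ℕ) : ℤ) - ((j : ℕ) : ℤ) = 0 then (N : ℂ) else 0) := by
        refine Finset.sum_congr rfl fun i _ => Finset.sum_congr rfl fun j _ =>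
          Finset.sum_congr rfl fun k hk => ?_
        rw [EE_sum N hNpos]
        rw [Finset.mem_Ioo] at hk
        have hi := i.2
        have hj := j.2
        rw [abs_lt]
        constructor <;> omega
    _ = ∑ i : Fin m, ∑ j : Fin m,
        star (x i) * x j * t (((j : ℕ) : ℤ) - ((i : ℕ) : ℤ)) * (N : ℂ) := by
        refine Finset.sum_congr rfl fun i _ => Finset.sum_congr rfl fun j _ => ?_
        rw [Finset.sum_eq_single (((j : ℕ) : ℤ) - ((i : ℕ) : ℤ))]
        · rw [if_pos (by ring)]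
        · intro k _ hk
          rw [if_neg, mul_zero]
          intro h
          apply hk
          linarith
        · intro h
          exfalso
          apply h
          rw [Finset.mem_Ioo]
          have hi := i.2
          have hj := j.2
          constructor <;> omega
    _ = (N : ℂ) * ∑ i : Fin m, ∑ j : Fin m,
        star (x i) * (t (((j : ℕ) : ℤ) - ((i : ℕ) : ℤ)) * x j) := by
        rw [Finset.mul_sum]
        refine Finset.sum_congr rfl fun i _ => ?_
        rw [Finset.mul_sum]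
        refine Finset.sum_congr rfl fun j _ => ?_
        ring

end Aux

/-- Let A be an m × m complex Hermitian Toeplitz matrix, with entries A i j = t (j - i) constant along
diagonals, and let f(y) = Σ_{-m < k < m} t k · exp(i k y) be the trigonometric polynomial attached
to it. If f has positive real part at every real y outside a countable set, then A is positive
definite (hence nondegenerate). (The source also states the mirror case: f negative off a countable
set gives A negative definite, which is this statement for -A.) -/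
theorem result
    (m : ℕ) (t : ℤ → ℂ) (A : Matrix (Fin m) (Fin m) ℂ)
    (hA : ∀ i j : Fin m, A i j = t ((j : ℤ) - (i : ℤ))) (hH : A.IsHermitian)
    (hpos : Set.Countable {y : ℝ | ¬ 0 < (∑ k ∈ Finset.Ioo (-(m : ℤ)) (m : ℤ),
        t k * Complex.exp (Complex.I * (k : ℂ) * (y : ℂ))).re}) :
    A.PosDef := by
  classical
  refine Matrix.PosDef.of_dotProduct_mulVec_pos hH (fun x hx => ?_)
  rw [Complex.pos_iff]
  have hm : 0 < m := by
    rcases Nat.eq_zero_or_pos m with h | h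
    · exfalso; subst h; exact hx (Subsingleton.elim _ _)
    · exact h
  obtain ⟨N, hNdef⟩ : ∃ N : ℕ, N = 2 * m := ⟨_, rfl⟩
  have hNpos : 0 < N := by omega
  have hQ : star x ⬝ᵥ (A.mulVec x) = ∑ i : Fin m, ∑ j : Fin m,
      star (x i) * (t (((j : ℕ) : ℤ) - ((i : ℕ) : ℤ)) * x j) := by
    simp only [dotProduct, Matrix.mulVec, Pi.star_apply, Finset.mul_sum, hA]
  have him : (star x ⬝ᵥ (A.mulVec x)).im = 0 := by
    rw [← Complex.conj_eq_iff_im]
    have hQ' : star x ⬝ᵥ (A.mulVec x) = ∑ i : Fin m, ∑ j : Fin m, star (x i) * (A i j * x j) := by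
      simp only [dotProduct, Matrix.mulVec, Pi.star_apply, Finset.mul_sum]
    rw [hQ', map_sum]
    simp_rw [map_sum, map_mul]
    rw [Finset.sum_comm]
    refine Finset.sum_congr rfl fun i _ => Finset.sum_congr rfl fun j _ => ?_
    have h1 : (starRingEnd ℂ) (A j i) = A i j := hH.apply i j
    have h2 : (starRingEnd ℂ) (star (x j)) = x j := by
      rw [starRingEnd_apply, star_star]
    have h3 : (starRingEnd ℂ) (x i) = star (x i) := rfl
    rw [h1, h2, h3]; ring
  refine ⟨?_, him.symm⟩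
  set Bad : Set ℝ := {y : ℝ | ¬ 0 < (∑ k ∈ Finset.Ioo (-(m : ℤ)) (m : ℤ),
        t k * Complex.exp (Complex.I * (k : ℂ) * (y : ℂ))).re} with hBad
  obtain ⟨θ, hθ⟩ : ∃ θ : ℝ, ∀ l : ℕ, θ + 2 * Real.pi * (l : ℝ) / (N : ℝ) ∉ Bad := by
    by_contra hcon
    push Not at hcon
    have hcount : (⋃ l : ℕ, (fun θ : ℝ => θ + 2 * Real.pi * (l : ℝ) / (N : ℝ)) ⁻¹' Bad).Countable :=
      Set.countable_iUnion fun l => hpos.preimage (add_left_injective _)
    apply Cardinal.not_countable_real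
    refine hcount.mono fun θ _ => ?_
    obtain ⟨l, hl⟩ := hcon θ
    exact Set.mem_iUnion.2 ⟨l, hl⟩
  have hf_pos : ∀ l : ℕ, 0 < (∑ k ∈ Finset.Ioo (-(m : ℤ)) (m : ℤ), t k * EE N θ k l).re := by
    intro l
    have := hθ l
    simp only [hBad, Set.mem_ofPred_eq, not_not] at this
    exact this
  set ρ : ℕ → ℝ := fun l => Complex.normSq (∑ j : Fin m, x j * EE N θ (-((j : ℕ) : ℤ)) l) with hρ
  have hconj : ∀ l : ℕ, (∑ i : Fin m, star (x i) * EE N θ ((i : ℕ) : ℤ) l) =
      (starRingEnd ℂ) (∑ j : Fin m, x j * EE N θ (-((j : ℕ) : ℤ)) l) := by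
    intro l
    rw [map_sum]
    refine Finset.sum_congr rfl fun i _ => ?_
    rw [map_mul, EE_conj, neg_neg]
    rfl
  have hr : ∀ l : ℕ, (∑ i : Fin m, star (x i) * EE N θ ((i : ℕ) : ℤ) l) *
      (∑ j : Fin m, x j * EE N θ (-((j : ℕ) : ℤ)) l) = ((ρ l : ℝ) : ℂ) := by
    intro l
    rw [hconj, hρ, Complex.normSq_eq_conj_mul_self]
  have id1 := main_id m N hm (by omega) t x θ
  simp_rw [hr] at id1
  have id2 := main_id m N hm (by omega) (fun k => if k = 0 then 1 else 0) x θ
  simp_rw [hr] at id2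
  have hδ : ∀ l : ℕ, (∑ k ∈ Finset.Ioo (-(m : ℤ)) (m : ℤ),
      (if k = 0 then (1 : ℂ) else 0) * EE N θ k l) = 1 := by
    intro l
    rw [Finset.sum_eq_single 0]
    · rw [if_pos rfl, one_mul]
      unfold EE
      simp
    · intro k _ hk
      rw [if_neg hk, zero_mul]
    · intro h
      exfalso
      apply h
      rw [Finset.mem_Ioo]
      constructor <;> omega
  have hδ2 : ∀ i : Fin m, ∑ j : Fin m, star (x i) *
      ((if ((j : ℕ) : ℤ) - ((i : ℕ) : ℤ) = 0 then (1 : ℂ) else 0) * x j) = star (x i) * x i := by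
    intro i
    rw [Finset.sum_eq_single i]
    · rw [if_pos (by ring), one_mul]
    · intro j _ hj
      rw [if_neg, zero_mul, mul_zero]
      intro h
      apply hj
      apply Fin.ext
      omega
    · intro h; exact absurd (Finset.mem_univ _) h
  simp_rw [hδ, hδ2, one_mul] at id2
  -- sum of ρ is positive
  have hsumρ : (∑ l ∈ Finset.range N, ρ l) = (N : ℝ) * ∑ i : Fin m, Complex.normSq (x i) := by
    have h := congrArg Complex.re id2
    have e1 : (∑ l ∈ Finset.range N, ((ρ l : ℝ) : ℂ)).re = ∑ l ∈ Finset.range N, ρ l := by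
      rw [← Complex.ofReal_sum, Complex.ofReal_re]
    have e2 : ((N : ℂ) * ∑ i : Fin m, star (x i) * x i).re =
        (N : ℝ) * ∑ i : Fin m, Complex.normSq (x i) := by
      have : ∑ i : Fin m, star (x i) * x i = ((∑ i : Fin m, Complex.normSq (x i) : ℝ) : ℂ) := by
        rw [Complex.ofReal_sum]
        refine Finset.sum_congr rfl fun i _ => ?_
        rw [Complex.normSq_eq_conj_mul_self]
        rfl
      rw [this, ← Complex.ofReal_natCast, ← Complex.ofReal_mul, Complex.ofReal_re]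
    rw [e1, e2] at h
    exact h
  have hxpos : 0 < ∑ i : Fin m, Complex.normSq (x i) := by
    obtain ⟨i₀, hi₀⟩ : ∃ i, x i ≠ 0 := by
      by_contra hall
      push Not at hall
      exact hx (funext hall)
    exact Finset.sum_pos' (fun i _ => Complex.normSq_nonneg _)
      ⟨i₀, Finset.mem_univ _, Complex.normSq_pos.2 hi₀⟩
  have hρnn : ∀ l, 0 ≤ ρ l := fun l => Complex.normSq_nonneg _
  have hex : ∃ l ∈ Finset.range N, 0 < ρ l := by
    by_contra hall
    push Not at hall
    have : ∑ l ∈ Finset.range N, ρ l ≤ 0 := Finset.sum_nonpos hall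
    have hNr : (0 : ℝ) < N := by exact_mod_cast hNpos
    have := mul_pos hNr hxpos
    linarith
  -- real part of N * Q
  have hre : ((N : ℂ) * (star x ⬝ᵥ (A.mulVec x))).re =
      ∑ l ∈ Finset.range N,
        (∑ k ∈ Finset.Ioo (-(m : ℤ)) (m : ℤ), t k * EE N θ k l).re * ρ l := by
    rw [hQ, ← id1, Complex.re_sum]
    refine Finset.sum_congr rfl fun l _ => ?_
    rw [Complex.re_mul_ofReal]
  have hpos2 : 0 < ((N : ℂ) * (star x ⬝ᵥ (A.mulVec x))).re := by
    rw [hre]
    obtain ⟨l₀, hl₀, hρ₀⟩ := hex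
    exact Finset.sum_pos' (fun l _ => mul_nonneg (hf_pos l).le (hρnn l))
      ⟨l₀, hl₀, mul_pos (hf_pos l₀) hρ₀⟩
  have hNr : (0 : ℝ) < N := by exact_mod_cast hNpos
  have e3 : ((N : ℂ) * (star x ⬝ᵥ (A.mulVec x))).re = (N : ℝ) * (star x ⬝ᵥ (A.mulVec x)).re := by
    rw [← Complex.ofReal_natCast, Complex.re_ofReal_mul]
  rw [e3] at hpos2
  exact (mul_pos_iff_of_pos_left hNr).1 hpos2

end Groth.Agent.S19019
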