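import Groth.Statements.S19020
import Mathlib

set_option autoImplicit false
open Toeplitz

namespace Groth.Agent.S19020

lemma vand (n d : ℕ) :
    ∑ s ∈ Finset.range (n + 1), n.choose (s + d) * n.choose s = (2 * n).choose (n + d) := by
  by_cases hd : d ≤ n
  · have h1 : (2 * n).choose (n + d) = (n + n).choose (n - d) := by
      rw [two_mul, ← Nat.choose_symm (by omega : n + d ≤ n + n)]
      congr 1
      omega
    rw [h1, Nat.add_choose_eq, Finset.Nat.sum_antidiagonal_eq_sum_range_succ_mk]
    have h2 : ∑ s ∈ Finset.range (n + 1), n.choose (s + d) * n.choose s =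
        ∑ s ∈ Finset.range (n - d + 1), n.choose (s + d) * n.choose s := by
      symm
      apply Finset.sum_subset
      · intro s hs
        simp only [Finset.mem_range] at hs ⊢
        omega
      · intro s hs hns
        simp only [Finset.mem_range] at hs hns
        rw [Nat.choose_eq_zero_of_lt (by omega : n < s + d), zero_mul]
    rw [h2]
    apply Finset.sum_congr rfl
    intro s hs
    simp only [Finset.mem_range] at hs
    rw [mul_comm]
    congr 1
    rw [← Nat.choose_symm (by omega : s + d ≤ n)]
    congr 1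
    omega
  · push Not at hd
    rw [Nat.choose_eq_zero_of_lt (by omega : 2 * n < n + d)]
    apply Finset.sum_eq_zero
    intro s _
    rw [Nat.choose_eq_zero_of_lt (by omega : n < s + d), zero_mul]

lemma key (n a b L : ℕ) (hab : a ≤ b) (hL : b + n + 1 ≤ L) :
    ∑ t ∈ Finset.range L, (if a ≤ t then (n.choose (t - a) : ℝ) else 0) *
        (if b ≤ t then (n.choose (t - b) : ℝ) else 0) =
      ((2 * n).choose (n + (b - a)) : ℝ) := by
  rw [← vand n (b - a)]
  push_cast
  symm
  have h1 : ∑ s ∈ Finset.range (n + 1), (n.choose (s + (b - a)) : ℝ) * (n.choose s : ℝ) =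
      ∑ t ∈ (Finset.range (n + 1)).map (addRightEmbedding b),
        (if a ≤ t then (n.choose (t - a) : ℝ) else 0) *
          (if b ≤ t then (n.choose (t - b) : ℝ) else 0) := by
    rw [Finset.sum_map]
    apply Finset.sum_congr rfl
    intro s _
    simp only [addRightEmbedding_apply]
    rw [if_pos (by omega), if_pos (by omega)]
    have e1 : s + b - a = s + (b - a) := by omega
    have e2 : s + b - b = s := by omega
    rw [e1, e2]
  rw [h1]
  apply Finset.sum_subset
  · intro t ht
    simp only [Finset.mem_map, Finset.mem_range, addRightEmbedding_apply] at ht ⊢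
    obtain ⟨s, hs, rfl⟩ := ht
    omega
  · intro t ht hnt
    simp only [Finset.mem_map, Finset.mem_range, addRightEmbedding_apply, not_exists,
      not_and] at ht hnt
    by_cases hbt : b ≤ t
    · have h2 : n < t - b := by
        by_contra h
        push Not at h
        exact hnt (t - b) (by omega) (by omega)
      rw [if_pos hbt, Nat.choose_eq_zero_of_lt h2]
      simp
    · rw [if_neg hbt, mul_zero]

/-- For natural numbers n and m, the m × m real Toeplitz matrix with (i, j) entry (-1)^(i+j) · C(2n, n +
|i - j|), i.e. with t_k = (-1)^k C(2n, n + k) on the k-th diagonal for |k| ≤ n and zero beyond, is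
positive definite; in particular it is nondegenerate, which is the printed assertion (positive
definiteness is what the printed proof establishes; m = 0 is the empty matrix). -/
theorem result (n m : ℕ) :
    (Matrix.of fun i j : Fin m =>
        (-1 : ℝ) ^ ((i : ℕ) + (j : ℕ)) * (Nat.choose (2 * n) (n + Nat.dist i j) : ℝ)).PosDef := by
  classical
  let B : Matrix (Fin (m + n)) (Fin m) ℝ := Matrix.of fun t j =>
    if (j : ℕ) ≤ (t : ℕ) then (-1 : ℝ) ^ ((t : ℕ) + (j : ℕ)) * (n.choose ((t : ℕ) - (j : ℕ)) : ℝ)
    else 0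
  have hBapp : ∀ t j, B t j = if (j : ℕ) ≤ (t : ℕ) then
      (-1 : ℝ) ^ ((t : ℕ) + (j : ℕ)) * (n.choose ((t : ℕ) - (j : ℕ)) : ℝ) else 0 := fun t j => rfl
  have hB : (Matrix.of fun i j : Fin m =>
        (-1 : ℝ) ^ ((i : ℕ) + (j : ℕ)) * (Nat.choose (2 * n) (n + Nat.dist i j) : ℝ)) =
      B.conjTranspose * B := by
    ext i j
    rw [Matrix.mul_apply]
    simp only [Matrix.conjTranspose_apply, star_trivial, Matrix.of_apply]
    have hsum : ∑ t : Fin (m + n), B t i * B t j =
        ∑ t ∈ Finset.range (m + n), (-1 : ℝ) ^ ((i : ℕ) + (j : ℕ)) *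
          ((if (i : ℕ) ≤ t then (n.choose (t - (i : ℕ)) : ℝ) else 0) *
            (if (j : ℕ) ≤ t then (n.choose (t - (j : ℕ)) : ℝ) else 0)) := by
      rw [← Fin.sum_univ_eq_sum_range (fun t => (-1 : ℝ) ^ ((i : ℕ) + (j : ℕ)) *
          ((if (i : ℕ) ≤ t then (n.choose (t - (i : ℕ)) : ℝ) else 0) *
            (if (j : ℕ) ≤ t then (n.choose (t - (j : ℕ)) : ℝ) else 0))) (m + n)]
      apply Finset.sum_congr rfl
      intro t _
      rw [hBapp, hBapp]
      by_cases h1 : (i : ℕ) ≤ (t : ℕ)
      · by_cases h2 : (j : ℕ) ≤ (t : ℕ)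
        · rw [if_pos h1, if_pos h2, if_pos h1, if_pos h2]
          have hs : (-1 : ℝ) ^ ((t : ℕ) + (i : ℕ)) * (-1 : ℝ) ^ ((t : ℕ) + (j : ℕ)) =
              (-1 : ℝ) ^ ((i : ℕ) + (j : ℕ)) := by
            rw [← pow_add]
            have e : (t : ℕ) + (i : ℕ) + ((t : ℕ) + (j : ℕ)) = 2 * (t : ℕ) + ((i : ℕ) + (j : ℕ)) := by
              ring
            rw [e, pow_add, pow_mul, neg_one_sq, one_pow, one_mul]
          rw [← hs]
          ring
        · rw [if_neg h2, if_neg h2]
          simp
      · rw [if_neg h1, if_neg h1]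
        simp
    rw [hsum, ← Finset.mul_sum]
    congr 1
    rcases le_total (i : ℕ) (j : ℕ) with hij | hij
    · rw [key n i j (m + n) hij (by have := j.2; omega), Nat.dist_eq_sub_of_le hij]
    · have hcomm : ∑ t ∈ Finset.range (m + n),
          ((if (i : ℕ) ≤ t then (n.choose (t - (i : ℕ)) : ℝ) else 0) *
            (if (j : ℕ) ≤ t then (n.choose (t - (j : ℕ)) : ℝ) else 0)) =
          ∑ t ∈ Finset.range (m + n),
          ((if (j : ℕ) ≤ t then (n.choose (t - (j : ℕ)) : ℝ) else 0) *
            (if (i : ℕ) ≤ t then (n.choose (t - (i : ℕ)) : ℝ) else 0)) :=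
        Finset.sum_congr rfl (fun t _ => mul_comm _ _)
      rw [hcomm, key n j i (m + n) hij (by have := i.2; omega), Nat.dist_eq_sub_of_le_right hij]
  have hinj : Function.Injective B.mulVec := by
    intro x y hxy
    have hz : B.mulVec (x - y) = 0 := by rw [Matrix.mulVec_sub, hxy, sub_self]
    suffices h : x - y = 0 from sub_eq_zero.1 h
    generalize x - y = z at hz
    have hall : ∀ (k : ℕ) (j : Fin m), (j : ℕ) = k → z j = 0 := by
      intro k
      induction k using Nat.strong_induction_on with
      | _ k ih =>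
        intro j hj
        have h1 := congrFun hz (Fin.castAdd n j)
        rw [Matrix.mulVec, dotProduct, Finset.sum_eq_single j] at h1
        · rw [hBapp, if_pos (by simp)] at h1
          simpa using h1
        · intro j' _ hne
          by_cases hlt : (j' : ℕ) < (j : ℕ)
          · rw [ih (j' : ℕ) (hj ▸ hlt) j' rfl, mul_zero]
          · have hne' : (j' : ℕ) ≠ (j : ℕ) := fun h => hne (Fin.ext h)
            rw [hBapp, if_neg (by simp only [Fin.val_castAdd]; omega), zero_mul]
        · intro h
          exact absurd (Finset.mem_univ _) h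
    funext j
    exact hall _ j rfl
  rw [hB]
  exact Matrix.PosDef.conjTranspose_mul_self B hinj

end Groth.Agent.S19020
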