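import Groth.Statements.S19021
import Mathlib
import Groth.Agent.S19020

set_option autoImplicit false
open Toeplitz

namespace Groth.Agent.S19021

lemma pascal (n d : ℕ) : ((2 * (n + 1)).choose (n + 1 + d) : ℝ) =
    ((2 * n + 1).choose (n + 1 + d) : ℝ) + ((2 * n + 1).choose (n + d) : ℝ) := by
  have e1 : 2 * (n + 1) = (2 * n + 1) + 1 := by ring
  have e2 : n + 1 + d = (n + d) + 1 := by ring
  rw [e1, e2, Nat.choose_succ_succ]
  push_cast
  ring

/-- For natural numbers n and m, the m × m integer Toeplitz matrix with (i, j) entry (-1)^(i+j) ·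
C(2n+1, n+1+i-j) (the binomial coefficient being 0 outside the range 0 ≤ n+1+i-j ≤ 2n+1;
equivalently s_k = (-1)^k C(2n+1, n+k+1) on the diagonal i - j = k for -n-1 ≤ k ≤ n and zero beyond)
is nondegenerate: its determinant is nonzero (m = 0 is the empty matrix, of determinant 1). -/
theorem result (n m : ℕ) :
    (Matrix.of fun i j : Fin m =>
        (-1 : ℤ) ^ ((i : ℕ) + (j : ℕ)) *
          (if (j : ℕ) ≤ (i : ℕ) then (Nat.choose (2 * n + 1) (n + 1 + ((i : ℕ) - (j : ℕ))) : ℤ)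
            else (Nat.choose (2 * n + 1) (n + ((j : ℕ) - (i : ℕ))) : ℤ))).det ≠ 0 := by
  classical
  set S : Matrix (Fin m) (Fin m) ℤ := Matrix.of fun i j : Fin m =>
        (-1 : ℤ) ^ ((i : ℕ) + (j : ℕ)) *
          (if (j : ℕ) ≤ (i : ℕ) then (Nat.choose (2 * n + 1) (n + 1 + ((i : ℕ) - (j : ℕ))) : ℤ)
            else (Nat.choose (2 * n + 1) (n + ((j : ℕ) - (i : ℕ))) : ℤ)) with hS
  have hSapp : ∀ i j : Fin m, S i j = (-1 : ℤ) ^ ((i : ℕ) + (j : ℕ)) *
          (if (j : ℕ) ≤ (i : ℕ) then (Nat.choose (2 * n + 1) (n + 1 + ((i : ℕ) - (j : ℕ))) : ℤ)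
            else (Nat.choose (2 * n + 1) (n + ((j : ℕ) - (i : ℕ))) : ℤ)) := fun i j => rfl
  intro hdet
  obtain ⟨v, hv, hSv⟩ := Matrix.exists_mulVec_eq_zero_iff.2 hdet
  have hT := Groth.Agent.S19020.result (n + 1) m
  set T : Matrix (Fin m) (Fin m) ℝ := Matrix.of fun i j : Fin m =>
    (-1 : ℝ) ^ ((i : ℕ) + (j : ℕ)) * (Nat.choose (2 * (n + 1)) (n + 1 + Nat.dist i j) : ℝ) with hTdef
  have hTapp : ∀ i j : Fin m, T i j = (-1 : ℝ) ^ ((i : ℕ) + (j : ℕ)) *
      (Nat.choose (2 * (n + 1)) (n + 1 + Nat.dist i j) : ℝ) := fun i j => rfl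
  have hTS : ∀ i j, T i j = ((S i j : ℤ) : ℝ) + ((S j i : ℤ) : ℝ) := by
    intro i j
    rw [hTapp, hSapp, hSapp]
    have hsgn : (-1 : ℝ) ^ ((j : ℕ) + (i : ℕ)) = (-1 : ℝ) ^ ((i : ℕ) + (j : ℕ)) := by
      rw [add_comm]
    rcases lt_trichotomy (i : ℕ) (j : ℕ) with hij | hij | hij
    · rw [if_neg (by omega), if_pos (by omega), Nat.dist_eq_sub_of_le hij.le, pascal]
      push_cast
      rw [hsgn]
      ring
    · rw [if_pos (by omega), if_pos (by omega), hij, Nat.dist_self, pascal]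
      have h3 : ((2 * n + 1).choose (n + 0) : ℝ) = ((2 * n + 1).choose (n + 1 + 0) : ℝ) := by
        rw [add_zero, add_zero, Nat.choose_symm_half]
      rw [h3]
      push_cast
      simp only [Nat.sub_self, add_zero]
      ring
    · rw [if_pos (by omega), if_neg (by omega), Nat.dist_eq_sub_of_le_right hij.le, pascal]
      push_cast
      rw [hsgn]
      ring
  let x : Fin m → ℝ := fun i => (v i : ℝ)
  have hx : x ≠ 0 := by
    intro h
    apply hv
    funext i
    have h2 := congrFun h i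
    have h3 : ((v i : ℤ) : ℝ) = 0 := h2
    exact_mod_cast h3
  have hpos := hT.dotProduct_mulVec_pos hx
  have h1 : ∀ i, ∑ j, ((S i j : ℤ) : ℝ) * x j = 0 := by
    intro i
    have h2 := congrFun hSv i
    rw [Matrix.mulVec, dotProduct] at h2
    have h3 : ((∑ j, S i j * v j : ℤ) : ℝ) = 0 := by
      rw [h2]
      simp
    push_cast at h3
    exact h3
  have hzero : dotProduct (star x) (T.mulVec x) = 0 := by
    simp only [star_trivial, dotProduct, Matrix.mulVec, hTS]
    have e : ∀ i, x i * ∑ j, (((S i j : ℤ) : ℝ) + ((S j i : ℤ) : ℝ)) * x j =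
        x i * ∑ j, ((S i j : ℤ) : ℝ) * x j + ∑ j, (((S j i : ℤ) : ℝ) * x i) * x j := by
      intro i
      simp only [add_mul, Finset.sum_add_distrib, mul_add, Finset.mul_sum]
      congr 1
      apply Finset.sum_congr rfl
      intro j _
      ring
    simp only [e, Finset.sum_add_distrib, h1, mul_zero, Finset.sum_const_zero, zero_add]
    rw [Finset.sum_comm]
    simp only [← Finset.sum_mul, h1, zero_mul, Finset.sum_const_zero]
  rw [hzero] at hpos
  exact lt_irrefl _ hpos

end Groth.Agent.S19021
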