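import Groth.Statements.S19025
import Mathlib

set_option autoImplicit false
universe u
open HigherRestr

namespace Groth.Agent.S19025

/-- In abstract form, the estimate its proof establishes. Let S be a commutative ring, I an ideal of S,
g₀ and g₁ elements with g₁ - g₀ ∈ I, N a natural number and y a sequence in S such that, for 1 ≤ i ≤
N, the (N-i)-fold unit-step forward difference of y taken at i lies in I^(N-i). Then g₀^N times the
N-fold forward difference of y at 0, minus the N-fold forward difference at 0 of the twisted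
sequence j ↦ g₀^(N-j) g₁^j y_j, lies in I^N. (In the source S is the ring of functions on an affine
chart of X^n, I the ideal of a pairwise diagonal, g₀ and g₁ the two pullbacks of a transition unit
of L, and y_j the components x_λ along the compositions a₀^(N-j) a₁^j μ; the estimate is what makes
the higher order restrictions D^l_L well defined on ker D^(l-1)_L independently of the
trivialisation.) -/
theorem result
    (S : Type u) [CommRing S] (I : Ideal S) (g₀ g₁ : S) (hg : g₁ - g₀ ∈ I)
    (N : ℕ) (y : ℕ → S)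
    (hy : ∀ i : ℕ, 1 ≤ i → i ≤ N → (fwdDiff (1 : ℕ))^[N - i] y i ∈ I ^ (N - i)) :
    g₀ ^ N * (fwdDiff (1 : ℕ))^[N] y 0 -
        (fwdDiff (1 : ℕ))^[N] (fun j : ℕ => g₀ ^ (N - j) * g₁ ^ j * y j) 0 ∈ I ^ N := by
  classical
  set e := g₁ - g₀ with he
  let E : Module.End S (ℕ → S) := LinearMap.funLeft S S (fun n : ℕ => n + 1)
  have hE : ∀ (f : ℕ → S) (n : ℕ), E f n = f (n + 1) := fun f n => rfl
  have hEpow : ∀ (m : ℕ) (f : ℕ → S) (n : ℕ), (E ^ m) f n = f (n + m) := by
    intro m
    induction m with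
    | zero => intro f n; simp
    | succ m ih =>
      intro f n
      rw [pow_succ, Module.End.mul_apply, ih, hE]
      congr 1
  let D : Module.End S (ℕ → S) := E - 1
  have hD : ∀ f : ℕ → S, D f = fwdDiff (1:ℕ) f := by
    intro f; funext n
    show E f n - f n = f (n + 1) - f n
    rw [hE]
  have hDpow : ∀ (k : ℕ) (f : ℕ → S), (D ^ k) f = (fwdDiff (1:ℕ))^[k] f := by
    intro k f
    rw [Module.End.pow_apply]
    have : (⇑D : (ℕ → S) → (ℕ → S)) = fwdDiff (1:ℕ) := funext hD
    rw [this]
  have hcomm : Commute E D := (Commute.refl E).sub_right (Commute.one_right E)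
  have key1 : ∀ (c d : S) (m k a : ℕ) (f : ℕ → S),
      ((c • E) ^ m * (d • D) ^ k * (a : Module.End S (ℕ → S))) f 0 =
        c ^ m * d ^ k * a * ((fwdDiff (1:ℕ))^[k] f m) := by
    intro c d m k a f
    rw [smul_pow, smul_pow, Module.End.mul_apply, Module.End.mul_apply, Module.End.natCast_apply,
      LinearMap.smul_apply, Pi.smul_apply, hEpow, LinearMap.smul_apply, Pi.smul_apply, map_nsmul,
      hDpow, zero_add, Pi.smul_apply, smul_eq_mul, smul_eq_mul, nsmul_eq_mul]
    ring
  have key2 : ∀ (c d : S) (m k a : ℕ) (f : ℕ → S),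
      ((c • E) ^ m * (d • (1 : Module.End S (ℕ → S))) ^ k * (a : Module.End S (ℕ → S))) f 0 =
        c ^ m * d ^ k * a * f m := by
    intro c d m k a f
    rw [smul_pow, smul_pow, one_pow, Module.End.mul_apply, Module.End.mul_apply,
      Module.End.natCast_apply,
      LinearMap.smul_apply, Pi.smul_apply, hEpow, LinearMap.smul_apply, Pi.smul_apply,
      Module.End.one_apply, zero_add, Pi.smul_apply, smul_eq_mul, smul_eq_mul, nsmul_eq_mul]
    ring
  set T : Module.End S (ℕ → S) := g₁ • E - g₀ • (1 : Module.End S (ℕ → S)) with hT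
  have hT1 : T = e • E + g₀ • D := by
    rw [hT, he]
    show g₁ • E - g₀ • (1 : Module.End S (ℕ → S)) = (g₁ - g₀) • E + g₀ • (E - 1)
    module
  have hT2 : T = g₁ • E + (-g₀) • (1 : Module.End S (ℕ → S)) := by
    rw [hT]
    module
  have c1 : Commute (e • E) (g₀ • D) := (hcomm.smul_left e).smul_right g₀
  have c2 : Commute (g₁ • E) ((-g₀) • (1 : Module.End S (ℕ → S))) :=
    ((Commute.one_right E).smul_left g₁).smul_right (-g₀)
  have exp1 : (T ^ N) y 0 = ∑ m ∈ Finset.range (N + 1),
      e ^ m * g₀ ^ (N - m) * (N.choose m : S) * ((fwdDiff (1:ℕ))^[N - m] y m) := by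
    rw [hT1, c1.add_pow, LinearMap.sum_apply, Finset.sum_apply]
    exact Finset.sum_congr rfl fun m _ => key1 e g₀ m (N - m) (N.choose m) y
  have exp2 : (T ^ N) y 0 = ∑ m ∈ Finset.range (N + 1),
      g₁ ^ m * (-g₀) ^ (N - m) * (N.choose m : S) * y m := by
    rw [hT2, c2.add_pow, LinearMap.sum_apply, Finset.sum_apply]
    exact Finset.sum_congr rfl fun m _ => key2 g₁ (-g₀) m (N - m) (N.choose m) y
  have htw : (fwdDiff (1 : ℕ))^[N] (fun j : ℕ => g₀ ^ (N - j) * g₁ ^ j * y j) 0 = (T ^ N) y 0 := by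
    rw [exp2, fwdDiff_iter_eq_sum_shift]
    refine Finset.sum_congr rfl fun m _ => ?_
    simp only [zero_add, smul_eq_mul, mul_one, zsmul_eq_mul]
    push_cast
    rw [neg_pow g₀]
    ring
  rw [htw, exp1, Finset.sum_range_succ']
  simp only [pow_zero, Nat.sub_zero, Nat.choose_zero_right, Nat.cast_one, one_mul, mul_one]
  have hring : ∀ a b : S, a - (b + a) = -b := fun a b => by ring
  rw [hring, neg_mem_iff]
  refine Ideal.sum_mem _ fun m hm => ?_
  have hm' : m + 1 ≤ N := Finset.mem_range.1 hm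
  have h1 : e ^ (m + 1) ∈ I ^ (m + 1) := Ideal.pow_mem_pow hg _
  have h2 := hy (m + 1) (by omega) hm'
  have h3 : e ^ (m + 1) * (fwdDiff (1:ℕ))^[N - (m + 1)] y (m + 1) ∈ I ^ N := by
    have := Ideal.mul_mem_mul h1 h2
    rwa [← pow_add, Nat.add_sub_cancel' hm'] at this
  have : e ^ (m + 1) * g₀ ^ (N - (m + 1)) * (N.choose (m + 1) : S) *
      ((fwdDiff (1:ℕ))^[N - (m + 1)] y (m + 1)) =
      (g₀ ^ (N - (m + 1)) * (N.choose (m + 1) : S)) *
        (e ^ (m + 1) * (fwdDiff (1:ℕ))^[N - (m + 1)] y (m + 1)) := by ring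
  rw [this]
  exact Ideal.mul_mem_left _ _ h3

end Groth.Agent.S19025
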