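import Groth.Statements.S19092
import Mathlib

set_option autoImplicit false
universe u
open FrobAlg

namespace Groth.Agent.S19092

/-- Let p be a prime and A a commutative ring of characteristic p whose absolute Frobenius a ↦ a^p is a
finite ring homomorphism. Then the same holds for every quotient and every localization of A: for
every ideal I of A such that A ⧸ I has characteristic p (every proper ideal) the absolute Frobenius
of A ⧸ I is finite, and for every submonoid S of A and every localization B of A at S of
characteristic p (every nonzero localization) the absolute Frobenius of B is finite. -/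
theorem result (p : ℕ) [Fact p.Prime]
    (A : Type u) [CommRing A] [CharP A p] (hF : (frobenius A p).Finite) :
    (∀ (I : Ideal A) [CharP (A ⧸ I) p], (frobenius (A ⧸ I) p).Finite) ∧
      ∀ (S : Submonoid A) (B : Type u) [CommRing B] [Algebra A B] [IsLocalization S B] [CharP B p],
        (frobenius B p).Finite := by
  have hp0 : 0 < p := (Fact.out : p.Prime).pos
  constructor
  · intro I _
    have h1 : ((Ideal.Quotient.mk I).comp (frobenius A p)).Finite :=
      RingHom.Finite.comp (RingHom.Finite.of_surjective _ Ideal.Quotient.mk_surjective) hF
    have h2 : (Ideal.Quotient.mk I).comp (frobenius A p) =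
        (frobenius (A ⧸ I) p).comp (Ideal.Quotient.mk I) := by
      ext a
      simp [frobenius_def]
    rw [h2] at h1
    exact RingHom.Finite.of_comp_finite h1
  · intro S B _ _ _ _
    haveI hloc' : IsLocalization (S.map (frobenius A p)) B := by
      refine ⟨?_, ?_, ?_⟩
      · rintro ⟨y, s, hs, rfl⟩
        simp only [frobenius_def, map_pow]
        exact (IsLocalization.map_units B ⟨s, hs⟩).pow p
      · intro z
        obtain ⟨⟨a, s⟩, h⟩ := IsLocalization.surj S z
        refine ⟨⟨a * (s : A) ^ (p - 1), ⟨frobenius A p s, ⟨s, s.2, rfl⟩⟩⟩, ?_⟩
        simp only [frobenius_def, map_pow, map_mul] at h ⊢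
        have hpp : p = (p - 1) + 1 := by omega
        conv_lhs => rw [hpp, pow_succ, ← mul_assoc, mul_comm z, mul_assoc, h]
        ring
      · intro x y hxy
        obtain ⟨c, hc⟩ := IsLocalization.exists_of_eq (M := S) hxy
        refine ⟨⟨frobenius A p c, ⟨c, c.2, rfl⟩⟩, ?_⟩
        simp only [frobenius_def]
        have hpp : p = (p - 1) + 1 := by omega
        rw [hpp, pow_succ, mul_assoc, mul_assoc, hc]
    have key := RingHom.finite_localizationPreserves (frobenius A p) S B B hF
    have heq : IsLocalization.map B (frobenius A p) (Submonoid.le_comap_map S) = frobenius B p := by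
      apply IsLocalization.ringHom_ext S
      ext a
      simp [IsLocalization.map_eq, frobenius_def]
    rw [heq] at key
    exact key

end Groth.Agent.S19092
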