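import Groth.Statements.S19106
import Mathlib

set_option autoImplicit false
open HilbD

namespace Groth.Agent.S19106

/-- Let μ be a non-empty Young diagram, V the number of its cells, E the number of unordered pairs of
cells sharing a side (a cell together with the cell immediately below it, or immediately to its
right, both in μ) and Q the number of 2 × 2 blocks of cells of μ (cells c such that the cell
diagonally below-right of c is in μ, the other two corners being in μ automatically). Then V − E + Q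
− 1 = 0, stated as V + Q = E + 1 in the naturals. (The empty diagram, for which the count reads 0 −
0 + 0 − 1, is excluded.) -/
theorem result (μ : YoungDiagram) (hμ : μ ≠ ⊥) :
    μ.cells.card + (μ.cells.filter (fun c => (c.1 + 1, c.2 + 1) ∈ μ)).card =
      (μ.cells.filter (fun c => (c.1 + 1, c.2) ∈ μ)).card + (μ.cells.filter (fun c => (c.1, c.2 + 1) ∈ μ)).card + 1 := by
  classical
  set V := μ.cells with hV
  -- (0,0) ∈ μ
  have h00 : ((0 : ℕ), (0 : ℕ)) ∈ μ := by
    have hne : μ.cells.Nonempty := by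
      rw [Finset.nonempty_iff_ne_empty]
      intro h
      apply hμ
      have : μ.cells = (⊥ : YoungDiagram).cells := by rw [h, YoungDiagram.cells_bot]
      exact YoungDiagram.ext this
    obtain ⟨c, hc⟩ := hne
    exact μ.up_left_mem (Nat.zero_le _) (Nat.zero_le _) ((YoungDiagram.mem_cells _).mp hc)
  -- bijections
  have hA : (V.filter (fun c => (c.1 + 1, c.2) ∈ μ)).card = (V.filter (fun c => c.1 ≠ 0)).card := by
    apply Finset.card_nbij' (fun c => (c.1 + 1, c.2)) (fun c => (c.1 - 1, c.2))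
    · intro c hc
      simp only [Finset.coe_filter, Set.mem_setOf_eq, hV, YoungDiagram.mem_cells] at hc ⊢
      exact ⟨hc.2, Nat.succ_ne_zero _⟩
    · intro c hc
      simp only [Finset.coe_filter, Set.mem_setOf_eq, hV, YoungDiagram.mem_cells] at hc ⊢
      have h1 : c.1 - 1 + 1 = c.1 := Nat.sub_add_cancel (Nat.one_le_iff_ne_zero.mpr hc.2)
      refine ⟨μ.up_left_mem (Nat.sub_le _ _) le_rfl hc.1, ?_⟩
      rw [h1]; exact hc.1
    · intro c _; simp
    · intro c hc
      simp only [Finset.coe_filter, Set.mem_setOf_eq] at hc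
      have h1 : c.1 - 1 + 1 = c.1 := Nat.sub_add_cancel (Nat.one_le_iff_ne_zero.mpr hc.2)
      simp [h1]
  have hB : (V.filter (fun c => (c.1, c.2 + 1) ∈ μ)).card = (V.filter (fun c => c.2 ≠ 0)).card := by
    apply Finset.card_nbij' (fun c => (c.1, c.2 + 1)) (fun c => (c.1, c.2 - 1))
    · intro c hc
      simp only [Finset.coe_filter, Set.mem_setOf_eq, hV, YoungDiagram.mem_cells] at hc ⊢
      exact ⟨hc.2, Nat.succ_ne_zero _⟩
    · intro c hc
      simp only [Finset.coe_filter, Set.mem_setOf_eq, hV, YoungDiagram.mem_cells] at hc ⊢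
      have h1 : c.2 - 1 + 1 = c.2 := Nat.sub_add_cancel (Nat.one_le_iff_ne_zero.mpr hc.2)
      refine ⟨μ.up_left_mem le_rfl (Nat.sub_le _ _) hc.1, ?_⟩
      rw [h1]; exact hc.1
    · intro c _; simp
    · intro c hc
      simp only [Finset.coe_filter, Set.mem_setOf_eq] at hc
      have h1 : c.2 - 1 + 1 = c.2 := Nat.sub_add_cancel (Nat.one_le_iff_ne_zero.mpr hc.2)
      simp [h1]
  have hF : (V.filter (fun c => (c.1 + 1, c.2 + 1) ∈ μ)).card =
      (V.filter (fun c => c.1 ≠ 0 ∧ c.2 ≠ 0)).card := by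
    apply Finset.card_nbij' (fun c => (c.1 + 1, c.2 + 1)) (fun c => (c.1 - 1, c.2 - 1))
    · intro c hc
      simp only [Finset.coe_filter, Set.mem_setOf_eq, hV, YoungDiagram.mem_cells] at hc ⊢
      exact ⟨hc.2, Nat.succ_ne_zero _, Nat.succ_ne_zero _⟩
    · intro c hc
      simp only [Finset.coe_filter, Set.mem_setOf_eq, hV, YoungDiagram.mem_cells] at hc ⊢
      have h1 : c.1 - 1 + 1 = c.1 := Nat.sub_add_cancel (Nat.one_le_iff_ne_zero.mpr hc.2.1)
      have h2 : c.2 - 1 + 1 = c.2 := Nat.sub_add_cancel (Nat.one_le_iff_ne_zero.mpr hc.2.2)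
      refine ⟨μ.up_left_mem (Nat.sub_le _ _) (Nat.sub_le _ _) hc.1, ?_⟩
      rw [h1, h2]; exact hc.1
    · intro c _; simp
    · intro c hc
      simp only [Finset.coe_filter, Set.mem_setOf_eq] at hc
      have h1 : c.1 - 1 + 1 = c.1 := Nat.sub_add_cancel (Nat.one_le_iff_ne_zero.mpr hc.2.1)
      have h2 : c.2 - 1 + 1 = c.2 := Nat.sub_add_cancel (Nat.one_le_iff_ne_zero.mpr hc.2.2)
      simp [h1, h2]
  rw [hA, hB, hF]
  -- counting
  have e1 := Finset.card_filter_add_card_filter_not (s := V) (fun c : ℕ × ℕ => c.1 ≠ 0)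
  have e2 := Finset.card_filter_add_card_filter_not (s := V) (fun c : ℕ × ℕ => c.2 ≠ 0)
  have e3 := Finset.card_filter_add_card_filter_not (s := V) (fun c : ℕ × ℕ => c.1 ≠ 0 ∧ c.2 ≠ 0)
  have e4 : (V.filter (fun c : ℕ × ℕ => ¬ (c.1 ≠ 0 ∧ c.2 ≠ 0))) =
      (V.filter (fun c : ℕ × ℕ => ¬ c.1 ≠ 0)) ∪ (V.filter (fun c : ℕ × ℕ => ¬ c.2 ≠ 0)) := by
    ext c
    simp only [Finset.mem_filter, Finset.mem_union]
    tauto
  have e5 := Finset.card_union_add_card_inter (V.filter (fun c : ℕ × ℕ => ¬ c.1 ≠ 0))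
    (V.filter (fun c : ℕ × ℕ => ¬ c.2 ≠ 0))
  have e6 : (V.filter (fun c : ℕ × ℕ => ¬ c.1 ≠ 0)) ∩ (V.filter (fun c : ℕ × ℕ => ¬ c.2 ≠ 0)) =
      {((0 : ℕ), (0 : ℕ))} := by
    ext c
    simp only [Finset.mem_inter, Finset.mem_filter, Finset.mem_singleton, not_not]
    constructor
    · rintro ⟨⟨_, h1⟩, ⟨_, h2⟩⟩
      exact Prod.ext h1 h2
    · rintro rfl
      exact ⟨⟨(YoungDiagram.mem_cells _).mpr h00, rfl⟩, ⟨(YoungDiagram.mem_cells _).mpr h00, rfl⟩⟩
  rw [e6, Finset.card_singleton, ← e4] at e5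
  omega

end Groth.Agent.S19106
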