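import Groth.Statements.S19156
import Mathlib
import Groth.Agent.Lib.helper3.RootDom2

set_option autoImplicit false
open RootPairing
open RootD

namespace Groth.Agent.S19156

/-- Let P be a root datum (root pairing over ℤ with finitely many roots indexed by ι), S a system of
positive roots, Γ a non-trivial totally ordered commutative group and f : M → Γ additive. Then f is
dominant (non-negative on the positive roots) if and only if, for every w in the Weyl group, f − f ∘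
w is a combination m ↦ Σ_{α ∈ S} ⟨m, α∨⟩ c_α of the positive coroots with coefficients c_α ≥ 0 in Γ
(f ∘ w is strongly dominated by f); and f is dominant if and only if f(w m) ≤ f(m) for every w ∈ W
and every dominant weight m (weak dominance). -/
theorem result {ι M N : Type*} [AddCommGroup M] [AddCommGroup N]
    (P : RootPairing ι ℤ M N) [Fintype ι] (S : Set ι) (hS : RootD.IsPosSys P S)
    {Γ : Type*} [AddCommGroup Γ] [LinearOrder Γ] [IsOrderedAddMonoid Γ] [Nontrivial Γ] (f : M →+ Γ) :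
    ((∀ i ∈ S, 0 ≤ f (P.root i)) ↔
      ∀ g : P.Aut, g ∈ P.weylGroup → ∃ c : ι → Γ, (∀ i, 0 ≤ c i) ∧ (∀ i, i ∉ S → c i = 0) ∧
        ∀ m : M, f m - f (RootPairing.Equiv.weightHom P g m) = ∑ i, (P.coroot' i m) • c i) ∧
    ((∀ i ∈ S, 0 ≤ f (P.root i)) ↔
      ∀ g : P.Aut, g ∈ P.weylGroup → ∀ m : M, (∀ i ∈ S, 0 ≤ P.coroot' i m) →
        f (RootPairing.Equiv.weightHom P g m) ≤ f m) := by
  open Groth.Agent.H3RootD RootPairing in
  obtain ⟨Δ, hΔ, rfl⟩ := exists_simpleSys_of_isPosSys hS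
  have hA : (∀ i ∈ RootD.posOf P Δ, 0 ≤ f (P.root i)) → ∀ g : P.Aut, g ∈ P.weylGroup →
      ∃ c : ι → Γ, (∀ i, 0 ≤ c i) ∧ (∀ i, i ∉ RootD.posOf P Δ → c i = 0) ∧
        ∀ m : M, f m - f (Equiv.weightHom P g m) = ∑ i, (P.coroot' i m) • c i := by
    intro hf g hg
    obtain ⟨l, hl, rfl, hmin⟩ := exists_min_word hΔ g hg
    obtain ⟨c, hc0, hcΔ, hc⟩ := dom_cone hΔ f hf l hl hmin
    exact ⟨c, hc0, fun i hi => hcΔ i (fun h => hi (simple_subset_posOf Δ h)), hc⟩
  have hAB : (∀ g : P.Aut, g ∈ P.weylGroup →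
      ∃ c : ι → Γ, (∀ i, 0 ≤ c i) ∧ (∀ i, i ∉ RootD.posOf P Δ → c i = 0) ∧
        ∀ m : M, f m - f (Equiv.weightHom P g m) = ∑ i, (P.coroot' i m) • c i) →
      ∀ g : P.Aut, g ∈ P.weylGroup → ∀ m : M, (∀ i ∈ RootD.posOf P Δ, 0 ≤ P.coroot' i m) →
        f (Equiv.weightHom P g m) ≤ f m := by
    intro h g hg m hm
    obtain ⟨c, hc0, hcS, hc⟩ := h g hg
    rw [← sub_nonneg, hc m]
    refine Finset.sum_nonneg fun i _ => ?_
    by_cases hi : i ∈ RootD.posOf P Δ
    · exact zsmul_nonneg (hc0 i) (hm i hi)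
    · rw [hcS i hi, smul_zero]
  have hB : (∀ g : P.Aut, g ∈ P.weylGroup → ∀ m : M, (∀ i ∈ RootD.posOf P Δ, 0 ≤ P.coroot' i m) →
        f (Equiv.weightHom P g m) ≤ f m) → ∀ i ∈ RootD.posOf P Δ, 0 ≤ f (P.root i) := by
    intro h i hi
    obtain ⟨m, hm⟩ := exists_dom_regular hΔ
    have h1 := h (Equiv.reflection P i) (P.reflection_mem_weylGroup i) m (fun j hj => (hm j hj).le)
    have e : Equiv.weightHom P (Equiv.reflection P i) m = m - (P.coroot' i m) • P.root i := by
      change (Equiv.reflection P i) • m = _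
      rw [Equiv.reflection_smul, P.reflection_apply]
    rw [e, map_sub, map_zsmul, sub_le_self_iff] at h1
    rw [← smul_zero (P.coroot' i m)] at h1
    exact (zsmul_le_zsmul_iff_right (hm i hi)).mp h1
  exact ⟨⟨hA, fun h => hB (hAB h)⟩, ⟨fun h => hAB (hA h), hB⟩⟩

end Groth.Agent.S19156
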