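import Groth.Statements.S19161
import Mathlib
import Groth.Agent.Lib.helper3.RootDom3

set_option autoImplicit false
open RootPairing
open RootD

namespace Groth.Agent.S19161

/-- Let P be a root datum (root pairing over ℤ, finitely many roots), S a system of positive roots, W
the Weyl group, Γ a non-trivial totally ordered commutative group and f₁, f₂ : M → Γ additive maps
which are dominant (f_i(α) ≥ 0 for α ∈ S). Then f₁ ≤ f₂ in the weak dominance order (f₁(m) ≤ f₂(m)
for every dominant weight m, i.e. every m with ⟨m, α∨⟩ ≥ 0 for all α ∈ S) if and only if, for every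
non-empty finite W-stable subset X ⊆ M, the maximum of f₁ on X is at most the maximum of f₂ on X.
(The source phrases the right-hand side through W-invariant elements x of ℕ[M] and the largest
element of the support of f_i(x) in ℤ[Γ]; for ℕ-coefficients that largest element is the maximum of
f_i over the support of x.) -/
theorem result {ι M N : Type*} [AddCommGroup M] [AddCommGroup N]
    (P : RootPairing ι ℤ M N) [Finite ι] (S : Set ι) (hS : RootD.IsPosSys P S)
    {Γ : Type*} [AddCommGroup Γ] [LinearOrder Γ] [IsOrderedAddMonoid Γ] [Nontrivial Γ] (f₁ f₂ : M →+ Γ)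
    (hf₁ : ∀ i ∈ S, 0 ≤ f₁ (P.root i)) (hf₂ : ∀ i ∈ S, 0 ≤ f₂ (P.root i)) :
    (∀ m : M, (∀ i ∈ S, 0 ≤ P.coroot' i m) → f₁ m ≤ f₂ m) ↔
    ∀ (X : Finset M) (hX : X.Nonempty), (∀ g : P.Aut, g ∈ P.weylGroup → ∀ m ∈ X, RootPairing.Equiv.weightHom P g m ∈ X) →
      X.sup' hX f₁ ≤ X.sup' hX f₂ := by
  open Groth.Agent.H3RootD RootPairing in
  obtain ⟨Δ, hΔ, rfl⟩ := exists_simpleSys_of_isPosSys hS
  have hw : ∀ (g : P.Aut) (y : M), RootPairing.Equiv.weightHom P g y = g • y := fun g y => rfl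
  simp only [hw]
  constructor
  · intro h X hX hstab
    rw [Finset.sup'_le_iff]
    intro x hx
    obtain ⟨g, hg, hdom⟩ := exists_weyl_dominant hΔ x
    have h1 : f₁ (g⁻¹ • (g • x)) ≤ f₁ (g • x) := dom_le hΔ f₁ hf₁ g⁻¹ (inv_mem hg) (g • x) hdom
    rw [inv_smul_smul] at h1
    exact h1.trans ((h (g • x) hdom).trans (Finset.le_sup' f₂ (hstab g hg x hx)))
  · intro h m hm
    have := finite_weylGroup (P := P)
    have hfin : (Set.range fun g : P.weylGroup => (g : P.Aut) • m).Finite := Set.finite_range _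
    have hmX : m ∈ hfin.toFinset := by
      rw [Set.Finite.mem_toFinset]
      exact ⟨1, one_smul _ m⟩
    have hstab : ∀ g : P.Aut, g ∈ P.weylGroup → ∀ x ∈ hfin.toFinset, g • x ∈ hfin.toFinset := by
      intro g hg x hx
      rw [Set.Finite.mem_toFinset] at hx ⊢
      obtain ⟨g', rfl⟩ := hx
      refine ⟨⟨g, hg⟩ * g', ?_⟩
      change (g * (g' : P.Aut)) • m = g • ((g' : P.Aut) • m)
      exact mul_smul _ _ _
    have h1 := h hfin.toFinset ⟨m, hmX⟩ hstab
    obtain ⟨x, hx, hxe⟩ := Finset.exists_mem_eq_sup' ⟨m, hmX⟩ f₂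
    rw [Set.Finite.mem_toFinset] at hx
    obtain ⟨g, rfl⟩ := hx
    calc f₁ m ≤ hfin.toFinset.sup' ⟨m, hmX⟩ f₁ := Finset.le_sup' f₁ hmX
      _ ≤ hfin.toFinset.sup' ⟨m, hmX⟩ f₂ := h1
      _ = f₂ ((g : P.Aut) • m) := hxe
      _ ≤ f₂ m := dom_le hΔ f₂ hf₂ g g.2 m hm

end Groth.Agent.S19161
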