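import Groth.Statements.S19169
import Mathlib
import Groth.Agent.Lib.helper9.H9_VanDantzig
import Groth.Agent.Lib.helper9.H9_FGResFin

set_option autoImplicit false
universe u
open ProCompl

namespace Groth.Agent.S19169

/-- Let B be a Hausdorff, locally compact, totally disconnected topological abelian group which is
compactly generated, i.e. generated as a group by a compact subset. Then the open subgroups of
finite index of B have trivial intersection: every nonzero b lies outside some open subgroup of
finite index. Equivalently, the natural map from B to its completion with respect to open subgroups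
of finite index is injective. -/
theorem result
    {B : Type u} [AddCommGroup B] [TopologicalSpace B] [IsTopologicalAddGroup B]
    [T2Space B] [LocallyCompactSpace B] [TotallyDisconnectedSpace B]
    (hcg : ∃ K : Set B, IsCompact K ∧ AddSubgroup.closure K = ⊤) (b : B) (hb : b ≠ 0) :
    ∃ B' : AddSubgroup B, IsOpen (B' : Set B) ∧ B'.FiniteIndex ∧ b ∉ B' := by
  classical
  obtain ⟨K, hKc, hKgen⟩ := hcg
  have hV : ({b}ᶜ : Set B) ∈ nhds (0 : B) :=
    isOpen_compl_singleton.mem_nhds (by simpa using hb.symm)
  obtain ⟨U, hUo, _, hUV⟩ := H9_VanDantzig.exists_compact_open_addSubgroup hV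
  have hbU : b ∉ U := fun h => hUV h rfl
  obtain ⟨F, hF⟩ := hKc.elim_finite_subcover (fun x : B => (fun u => x + u) '' (U : Set B))
    (fun x => (Homeomorph.addLeft x).isOpenMap _ hUo)
    (fun x hx => Set.mem_iUnion.mpr ⟨x, ⟨0, U.zero_mem, by simp⟩⟩)
  have : AddGroup.FG (B ⧸ U) := by
    rw [AddGroup.fg_iff]
    refine ⟨(QuotientAddGroup.mk' U) '' (F : Set B), ?_, (F.finite_toSet).image _⟩
    rw [eq_top_iff]
    have h1 : (⊤ : AddSubgroup (B ⧸ U)) =
        (AddSubgroup.closure K).map (QuotientAddGroup.mk' U) := by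
      rw [hKgen, AddSubgroup.map_top_of_surjective _ (QuotientAddGroup.mk'_surjective U)]
    rw [h1, AddMonoidHom.map_closure, AddSubgroup.closure_le]
    rintro _ ⟨x, hx, rfl⟩
    obtain ⟨y, hy⟩ := Set.mem_iUnion.mp (hF hx)
    obtain ⟨hyF, hxy⟩ := Set.mem_iUnion.mp hy
    obtain ⟨u, hu, rfl⟩ := hxy
    apply AddSubgroup.subset_closure
    refine ⟨y, hyF, ?_⟩
    simp only [QuotientAddGroup.mk'_apply]
    rw [QuotientAddGroup.eq]
    simpa using hu
  have hq : (QuotientAddGroup.mk' U b) ≠ 0 := by
    rwa [Ne, QuotientAddGroup.mk'_apply, QuotientAddGroup.eq_zero_iff]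
  obtain ⟨H', hH'fi, hH'⟩ := H9_FGResFin.exists_finiteIndex_not_mem _ hq
  refine ⟨H'.comap (QuotientAddGroup.mk' U), ?_, ?_, hH'⟩
  · refine AddSubgroup.isOpen_mono (H₁ := U) ?_ hUo
    intro x hx
    rw [AddSubgroup.mem_comap, QuotientAddGroup.mk'_apply, (QuotientAddGroup.eq_zero_iff x).mpr hx]
    exact H'.zero_mem
  · refine ⟨?_⟩
    rw [AddSubgroup.index_comap_of_surjective _ (QuotientAddGroup.mk'_surjective U)]
    exact hH'fi.index_ne_zero

end Groth.Agent.S19169
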