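import Groth.Statements.S19170
import Mathlib

set_option autoImplicit false
universe u
open ProCompl

namespace Groth.Agent.S19170

/-- Let B be a topological abelian group generated as a group by a compact subset. Then every character
χ : B → ℚ/ℤ with open kernel (a continuous character for discrete ℚ/ℤ) has kernel of finite index;
consequently each such character factors through B^∧, the completion of B taken along its
finite-index open subgroups, i.e. (B^∧)^D = B^D. (The published statement assumes moreover that B is
Hausdorff, locally compact and totally disconnected; only compact generation is needed for this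
assertion, so those assumptions are dropped here.) -/
theorem result
    {B : Type u} [AddCommGroup B] [TopologicalSpace B] [IsTopologicalAddGroup B]
    (hcg : ∃ K : Set B, IsCompact K ∧ AddSubgroup.closure K = ⊤)
    (χ : B →+ ℚ ⧸ AddSubgroup.zmultiples (1 : ℚ)) (hχ : IsOpen (χ.ker : Set B)) : χ.ker.FiniteIndex := by
  obtain ⟨K, hK, hKtop⟩ := hcg
  set Q := B ⧸ χ.ker with hQ
  haveI : DiscreteTopology Q := QuotientAddGroup.discreteTopology hχ
  let π : B →+ Q := QuotientAddGroup.mk' χ.ker
  have hπcont : Continuous π := continuous_quot_mk
  have hfin : (π '' K).Finite := (hK.image hπcont).finite_of_discrete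
  have hgen : AddSubgroup.closure (π '' K) = ⊤ := by
    rw [← AddMonoidHom.map_closure, hKtop, ← AddMonoidHom.range_eq_map,
      AddMonoidHom.range_eq_top]
    exact QuotientAddGroup.mk'_surjective _
  haveI : AddGroup.FG Q := AddGroup.fg_iff.mpr ⟨_, hgen, hfin⟩
  haveI : Module.Finite ℤ Q := Module.Finite.iff_addGroup_fg.mpr inferInstance
  have htors : Module.IsTorsion ℤ Q := by
    intro x
    obtain ⟨b, rfl⟩ := QuotientAddGroup.mk'_surjective χ.ker x
    obtain ⟨q, hq⟩ := QuotientAddGroup.mk_surjective (χ b)
    have hden : (q.den : ℤ) • χ b = 0 := by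
      rw [← hq, ← QuotientAddGroup.mk_zsmul, QuotientAddGroup.eq_zero_iff,
        AddSubgroup.mem_zmultiples_iff]
      refine ⟨q.num, ?_⟩
      simp only [smul_eq_mul, mul_one, zsmul_eq_mul]
      exact_mod_cast (Rat.den_mul_eq_num q).symm
    refine ⟨⟨(q.den : ℤ), mem_nonZeroDivisors_of_ne_zero (by exact_mod_cast q.den_nz)⟩, ?_⟩
    change (q.den : ℤ) • (QuotientAddGroup.mk' χ.ker b) = 0
    rw [← map_zsmul, QuotientAddGroup.mk'_apply, QuotientAddGroup.eq_zero_iff,
      AddMonoidHom.mem_ker, map_zsmul, hden]
  haveI : Finite Q := Module.finite_of_fg_torsion Q htors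
  exact AddSubgroup.finiteIndex_of_finite_quotient

end Groth.Agent.S19170
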