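import Groth.Statements.S19171
import Mathlib
import Groth.Agent.Lib.helper9.H9_VanDantzig

set_option autoImplicit false
universe u v
open ProCompl

namespace Groth.Agent.S19171

open Topology in
/-- Let B be a Hausdorff, locally compact, totally disconnected topological abelian group generated as a
group by a compact subset, and let i : A → B be an injective continuous homomorphism inducing the
topology of A from that of B (a strict injection) whose image is closed. Then every character χ : A
→ ℚ/ℤ with open kernel extends along i to a character ψ : B → ℚ/ℤ with open kernel; with ℚ/ℤ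
discrete this says that restriction B^D → A^D of continuous characters is surjective, i.e. the dual
of a topological exact sequence 0 → A → B → C → 0 with such B, strict closed i and open p is a short
exact sequence 0 → C^D → B^D → A^D → 0. -/
theorem result
    {A : Type u} {B : Type v} [AddCommGroup A] [TopologicalSpace A] [IsTopologicalAddGroup A]
    [AddCommGroup B] [TopologicalSpace B] [IsTopologicalAddGroup B]
    [T2Space B] [LocallyCompactSpace B] [TotallyDisconnectedSpace B]
    (hcg : ∃ K : Set B, IsCompact K ∧ AddSubgroup.closure K = ⊤)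
    (i : A →+ B) (hi : Continuous i) (hinj : Function.Injective i) (hind : IsInducing i)
    (hcl : IsClosed (Set.range i))
    (χ : A →+ ℚ ⧸ AddSubgroup.zmultiples (1 : ℚ)) (hχ : IsOpen (χ.ker : Set A)) :
    ∃ ψ : B →+ ℚ ⧸ AddSubgroup.zmultiples (1 : ℚ), IsOpen (ψ.ker : Set B) ∧ ψ.comp i = χ := by
  obtain ⟨V, hVo, hV⟩ := hind.isOpen_iff.mp hχ
  have h0V : (0 : B) ∈ V := by
    have : (0 : A) ∈ i ⁻¹' V := by rw [hV]; exact χ.ker.zero_mem
    simpa using this
  obtain ⟨U, hUo, _, hUV⟩ := H9_VanDantzig.exists_compact_open_addSubgroup (hVo.mem_nhds h0V)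
  let f : A →+ B ⧸ U := (QuotientAddGroup.mk' U).comp i
  have hker : f.ker ≤ χ.ker := by
    intro a ha
    have h1 : i a ∈ U := by
      have : f a = 0 := ha
      simpa [f, QuotientAddGroup.eq_zero_iff] using this
    have h2 : a ∈ i ⁻¹' V := hUV h1
    rw [hV] at h2
    exact h2
  let fbar : A ⧸ f.ker →+ B ⧸ U := QuotientAddGroup.kerLift f
  have hfbar : Function.Injective fbar := QuotientAddGroup.kerLift_injective f
  let χbar : A ⧸ f.ker →+ ℚ ⧸ AddSubgroup.zmultiples (1 : ℚ) := QuotientAddGroup.lift f.ker χ hker
  obtain ⟨h, hh⟩ := (Module.Baer.of_divisible _).extension_property_addMonoidHom fbar hfbar χbar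
  refine ⟨h.comp (QuotientAddGroup.mk' U), ?_, ?_⟩
  · refine AddSubgroup.isOpen_mono (H₁ := U) ?_ hUo
    intro x hx
    rw [AddMonoidHom.mem_ker, AddMonoidHom.comp_apply, QuotientAddGroup.mk'_apply,
      (QuotientAddGroup.eq_zero_iff x).mpr hx, map_zero]
  · ext a
    have := DFunLike.congr_fun hh (QuotientAddGroup.mk a)
    simpa [fbar, χbar, f] using this

end Groth.Agent.S19171
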