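import Groth.Statements.S19172
import Mathlib
import Groth.Agent.Lib.helper9.H9_FICompl

set_option autoImplicit false
universe u v w
open ProCompl

namespace Groth.Agent.S19172

open W4c61motalbduality in
/-- Let i : A → B and p : B → C be continuous homomorphisms of topological abelian groups with p
surjective and open and with the kernel of p equal to the image of i. Then the induced sequence of
completions with respect to open subgroups of finite index, A^∧ → B^∧ → C^∧ → 0, is exact: the map
B^∧ → C^∧ is surjective and its kernel is the image of A^∧. The completion is the group of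
compatible families of residues modulo all open subgroups of finite index. (The published statement
takes i injective, as the first map of an exact sequence 0 → A → B → C → 0 of topological abelian
groups; here it is only assumed that the image of i is the kernel of p, which is all the proof
uses.) -/
theorem result
    {A : Type u} {B : Type v} {C : Type w}
    [AddCommGroup A] [TopologicalSpace A] [IsTopologicalAddGroup A]
    [AddCommGroup B] [TopologicalSpace B] [IsTopologicalAddGroup B]
    [AddCommGroup C] [TopologicalSpace C] [IsTopologicalAddGroup C]
    (i : A →+ B) (hi : Continuous i) (p : B →+ C) (hp : Continuous p)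
    (hpo : IsOpenMap p) (hps : Function.Surjective p) (hex : p.ker = i.range) :
    Function.Surjective (FICompl.map p hp) ∧ (FICompl.map p hp).ker = (FICompl.map i hi).range := by
  classical
  -- image of an open finite-index subgroup under p
  let img : OpenFI B → OpenFI C := fun V =>
    { toAddSubgroup := V.toAddSubgroup.map p
      isOpen' := by
        rw [AddSubgroup.coe_map]
        exact hpo _ V.isOpen'
      finiteIndex' := ⟨ne_zero_of_dvd_ne_zero V.finiteIndex'.index_ne_zero
        (AddSubgroup.index_map_dvd _ hps)⟩ }
  have himg : ∀ V : OpenFI B, (img V).toAddSubgroup = V.toAddSubgroup.map p := fun _ => rfl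
  have hle_img : ∀ V : OpenFI B, V.toAddSubgroup ≤ (img V).toAddSubgroup.comap p :=
    fun V => AddSubgroup.le_comap_map p V.toAddSubgroup
  refine ⟨?_, ?_⟩
  · -- surjectivity
    intro z
    obtain ⟨y, hy⟩ := H9_FICompl.exists_family (B := B)
      (fun V => {b | QuotientAddGroup.map V.toAddSubgroup (img V).toAddSubgroup p (hle_img V) b =
        z.1 (img V)})
      (by
        intro V
        obtain ⟨c, hc⟩ := QuotientAddGroup.mk_surjective (z.1 (img V))
        obtain ⟨b, rfl⟩ := hps c
        exact ⟨QuotientAddGroup.mk b, hc⟩)
      (by
        intro U V h x hx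
        obtain ⟨b, rfl⟩ := QuotientAddGroup.mk_surjective x
        have hz := z.2 (img U) (img V) (AddSubgroup.map_mono h)
        simp only [Set.mem_ofPred_eq] at hx ⊢
        rw [← hz, ← hx]
        rfl)
    refine ⟨y, ?_⟩
    apply Subtype.ext
    funext W
    show QuotientAddGroup.map (W.comap p hp).toAddSubgroup W.toAddSubgroup p (W.comap_le p)
      (y.1 (W.comap p hp)) = z.1 W
    have h1 := hy (W.comap p hp)
    simp only [Set.mem_ofPred_eq] at h1
    obtain ⟨b, hb⟩ := QuotientAddGroup.mk_surjective (y.1 (W.comap p hp))
    have hle : (img (W.comap p hp)).toAddSubgroup ≤ W.toAddSubgroup :=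
      AddSubgroup.map_comap_le p W.toAddSubgroup
    have hz := z.2 (img (W.comap p hp)) W hle
    rw [← hz, ← h1, ← hb]
    rfl
  · apply le_antisymm
    · -- ker ≤ range
      intro y hy
      rw [AddMonoidHom.mem_ker] at hy
      -- Claim 1
      have claim1 : ∀ V : OpenFI B, ∃ a : A, y.1 V = QuotientAddGroup.mk (i a) := by
        intro V
        obtain ⟨b, hb⟩ := QuotientAddGroup.mk_surjective (y.1 V)
        have h0 : (FICompl.map p hp y).1 (img V) = 0 := by
          rw [hy]; rfl
        have h1 : (FICompl.map p hp y).1 (img V) =
            QuotientAddGroup.map ((img V).comap p hp).toAddSubgroup (img V).toAddSubgroup p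
              ((img V).comap_le p) (y.1 ((img V).comap p hp)) := rfl
        have h2 := y.2 V ((img V).comap p hp) (hle_img V)
        rw [h1, ← h2, ← hb] at h0
        have h3 : (QuotientAddGroup.mk (p b) : C ⧸ (img V).toAddSubgroup) = 0 := h0
        rw [QuotientAddGroup.eq_zero_iff] at h3
        obtain ⟨v, hv, hpv⟩ := h3
        have h4 : b - v ∈ p.ker := by
          rw [AddMonoidHom.mem_ker, map_sub, hpv, sub_self]
        rw [hex] at h4
        obtain ⟨a, ha⟩ := h4
        refine ⟨a, ?_⟩
        rw [← hb, ha]
        symm
        rw [QuotientAddGroup.eq]
        have : -(b - v) + b = v := by abel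
        rw [this]
        exact hv
      obtain ⟨x, hx⟩ := H9_FICompl.exists_family (B := A)
        (fun U => {ā | ∀ (V : OpenFI B) (h : U.toAddSubgroup ≤ V.toAddSubgroup.comap i),
          QuotientAddGroup.map U.toAddSubgroup V.toAddSubgroup i h ā = y.1 V})
        (by
          intro U
          by_contra hemp
          rw [Set.not_nonempty_iff_eq_empty] at hemp
          have hall : ∀ ā : A ⧸ U.toAddSubgroup, ∃ V : OpenFI B,
              ∃ h : U.toAddSubgroup ≤ V.toAddSubgroup.comap i,
              QuotientAddGroup.map U.toAddSubgroup V.toAddSubgroup i h ā ≠ y.1 V := by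
            intro ā
            by_contra hc
            push_neg at hc
            have : ā ∈ (∅ : Set (A ⧸ U.toAddSubgroup)) := by
              rw [← hemp]
              exact hc
            exact this
          choose Vf hVf hne using hall
          obtain ⟨V', hV'1, hV'2⟩ := H9_FICompl.exists_lower_bound Vf U.toAddSubgroup i hVf
          obtain ⟨a, ha⟩ := claim1 V'
          apply hne (QuotientAddGroup.mk a)
          have hz := y.2 V' (Vf (QuotientAddGroup.mk a)) (hV'2 _)
          rw [← hz, ha]
          rfl)
        (by
          intro U U' h ā hā V h'
          obtain ⟨a, rfl⟩ := QuotientAddGroup.mk_surjective ā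
          have := hā V (h.trans h')
          rw [← this]
          rfl)
      refine ⟨x, ?_⟩
      apply Subtype.ext
      funext V
      exact hx (V.comap i hi) V (V.comap_le i)
    · -- range ≤ ker
      rintro _ ⟨x, rfl⟩
      rw [AddMonoidHom.mem_ker]
      apply Subtype.ext
      funext W
      show QuotientAddGroup.map (W.comap p hp).toAddSubgroup W.toAddSubgroup p (W.comap_le p)
        (QuotientAddGroup.map ((W.comap p hp).comap i hi).toAddSubgroup
          (W.comap p hp).toAddSubgroup i ((W.comap p hp).comap_le i)
          (x.1 ((W.comap p hp).comap i hi))) = 0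
      obtain ⟨a, ha⟩ := QuotientAddGroup.mk_surjective (x.1 ((W.comap p hp).comap i hi))
      rw [← ha]
      show (QuotientAddGroup.mk (p (i a)) : C ⧸ W.toAddSubgroup) = 0
      have : p (i a) = 0 := by
        have : i a ∈ p.ker := by
          rw [hex]; exact ⟨a, rfl⟩
        exact this
      rw [this]
      rfl

end Groth.Agent.S19172
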