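import Groth.Statements.S19173
import Mathlib
import Groth.Agent.Lib.helper9.H9_FICompl
import Groth.Agent.S19170
import Groth.Agent.S19171

set_option autoImplicit false
universe u v
open ProCompl

namespace Groth.Agent.S19173

open W4c61motalbduality Topology in
/-- Let B be a Hausdorff, locally compact, totally disconnected topological abelian group generated as a
group by a compact subset, and let i : A → B be an injective continuous homomorphism inducing the
topology of A from that of B (a strict injection) with closed image. Then the map induced by i on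
completions with respect to open subgroups of finite index is injective; together with right
exactness for open surjections this makes 0 → A^∧ → B^∧ → C^∧ → 0 exact for a topological exact
sequence 0 → A → B → C → 0 with such B, strict closed i and open p. -/
theorem result
    {A : Type u} {B : Type v} [AddCommGroup A] [TopologicalSpace A] [IsTopologicalAddGroup A]
    [AddCommGroup B] [TopologicalSpace B] [IsTopologicalAddGroup B]
    [T2Space B] [LocallyCompactSpace B] [TotallyDisconnectedSpace B]
    (hcg : ∃ K : Set B, IsCompact K ∧ AddSubgroup.closure K = ⊤)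
    (i : A →+ B) (hi : Continuous i) (hinj : Function.Injective i) (hind : IsInducing i)
    (hcl : IsClosed (Set.range i)) :
    Function.Injective (FICompl.map i hi) := by
  classical
  -- key claim
  have key : ∀ U : OpenFI A, ∃ V : OpenFI B,
      V.toAddSubgroup.comap i ≤ U.toAddSubgroup := by
    intro U
    haveI : Finite (A ⧸ U.toAddSubgroup) := inferInstance
    have hchar : ∀ ā : {ā : A ⧸ U.toAddSubgroup // ā ≠ 0},
        ∃ c : (A ⧸ U.toAddSubgroup) →+ ℚ ⧸ AddSubgroup.zmultiples (1 : ℚ), c ā.1 ≠ 0 := by
      intro ā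
      obtain ⟨c, hc⟩ := CharacterModule.exists_character_apply_ne_zero_of_ne_zero ā.2
      exact ⟨c, hc⟩
    choose c hc using hchar
    have hext : ∀ ā : {ā : A ⧸ U.toAddSubgroup // ā ≠ 0},
        ∃ ψ : B →+ ℚ ⧸ AddSubgroup.zmultiples (1 : ℚ), IsOpen (ψ.ker : Set B) ∧
          ψ.comp i = (c ā).comp (QuotientAddGroup.mk' U.toAddSubgroup) := by
      intro ā
      apply Groth.Agent.S19171.result hcg i hi hinj hind hcl
      have hle : U.toAddSubgroup ≤ ((c ā).comp (QuotientAddGroup.mk' U.toAddSubgroup)).ker := by
        intro a ha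
        rw [AddMonoidHom.mem_ker, AddMonoidHom.comp_apply]
        have : QuotientAddGroup.mk' U.toAddSubgroup a = 0 := by
          rw [QuotientAddGroup.mk'_apply, QuotientAddGroup.eq_zero_iff]
          exact ha
        rw [this, map_zero]
      exact AddSubgroup.isOpen_mono hle U.isOpen'
    choose ψ hψo hψc using hext
    let Vf : {ā : A ⧸ U.toAddSubgroup // ā ≠ 0} → OpenFI B := fun ā =>
      { toAddSubgroup := (ψ ā).ker
        isOpen' := hψo ā
        finiteIndex' := Groth.Agent.S19170.result hcg (ψ ā) (hψo ā) }
    obtain ⟨V, _, hV⟩ := H9_FICompl.exists_lower_bound Vf (⊥ : AddSubgroup A) i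
      (fun _ => bot_le)
    refine ⟨V, ?_⟩
    intro a ha
    by_contra hna
    have hne : (QuotientAddGroup.mk a : A ⧸ U.toAddSubgroup) ≠ 0 := by
      rw [Ne, QuotientAddGroup.eq_zero_iff]
      exact hna
    have h1 : i a ∈ (ψ ⟨_, hne⟩).ker := hV ⟨_, hne⟩ ha
    rw [AddMonoidHom.mem_ker] at h1
    have h2 := DFunLike.congr_fun (hψc ⟨_, hne⟩) a
    rw [AddMonoidHom.comp_apply, h1] at h2
    exact hc ⟨_, hne⟩ h2.symm
  rw [injective_iff_map_eq_zero]
  intro x hx
  apply Subtype.ext
  funext U
  show x.1 U = 0
  obtain ⟨V, hV⟩ := key U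
  have h1 := x.2 (V.comap i hi) U hV
  rw [← h1]
  have h2 : (FICompl.map i hi x).1 V = 0 := by
    rw [hx]; rfl
  have h3 : (FICompl.map i hi x).1 V =
      QuotientAddGroup.map (V.comap i hi).toAddSubgroup V.toAddSubgroup i (V.comap_le i)
        (x.1 (V.comap i hi)) := rfl
  obtain ⟨a, ha⟩ := QuotientAddGroup.mk_surjective (x.1 (V.comap i hi))
  rw [h3, ← ha] at h2
  have h4 : (QuotientAddGroup.mk (i a) : B ⧸ V.toAddSubgroup) = 0 := h2
  rw [QuotientAddGroup.eq_zero_iff] at h4
  have h5 : (QuotientAddGroup.mk a : A ⧸ (V.comap i hi).toAddSubgroup) = 0 := by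
    rw [QuotientAddGroup.eq_zero_iff]
    exact h4
  rw [← ha, h5, map_zero]

end Groth.Agent.S19173
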