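import Groth.Statements.S19176
import Mathlib

set_option autoImplicit false
universe u
open PlaneCurve

namespace Groth.Agent.S19176

section Aux
open MvPolynomial

theorem finrank_monomial_quot (k : Type u) [Field k] (a b : ℕ) :
    Module.finrank k (MvPolynomial (Fin 2) k ⧸
      Ideal.span ({X 0 ^ a, X 1 ^ b} : Set (MvPolynomial (Fin 2) k))) = a * b := by
  classical
  set J' : Ideal (MvPolynomial (Fin 2) k) :=
    Ideal.span ({X 0 ^ a, X 1 ^ b} : Set (MvPolynomial (Fin 2) k)) with hJ'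
  let e : Fin a × Fin b → (Fin 2 →₀ ℕ) :=
    fun ij => Finsupp.single 0 (ij.1 : ℕ) + Finsupp.single 1 (ij.2 : ℕ)
  have he0 : ∀ ij, e ij 0 = (ij.1 : ℕ) := fun ij => by simp [e]
  have he1 : ∀ ij, e ij 1 = (ij.2 : ℕ) := fun ij => by simp [e]
  have he_inj : Function.Injective e := by
    intro ij ij' h
    have h0 : e ij 0 = e ij' 0 := by rw [h]
    have h1 : e ij 1 = e ij' 1 := by rw [h]
    rw [he0, he0] at h0
    rw [he1, he1] at h1
    exact Prod.ext (Fin.ext h0) (Fin.ext h1)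
  let Φ : MvPolynomial (Fin 2) k →ₗ[k] (Fin a × Fin b → k) :=
    LinearMap.pi (fun ij => MvPolynomial.lcoeff k (e ij))
  have hΦ : ∀ G ij, Φ G ij = coeff (e ij) G := fun G ij => rfl
  have hker : LinearMap.ker Φ = J'.restrictScalars k := by
    ext G
    simp only [LinearMap.mem_ker, Submodule.restrictScalars_mem]
    constructor
    · intro hG
      rw [← MvPolynomial.support_sum_monomial_coeff G]
      refine Ideal.sum_mem _ fun v hv => ?_
      have hc : coeff v G ≠ 0 := MvPolynomial.mem_support_iff.1 hv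
      have hv2 : v = Finsupp.single 0 (v 0) + Finsupp.single 1 (v 1) := by
        ext i; fin_cases i <;> simp
      by_cases h0 : v 0 < a
      · by_cases h1 : v 1 < b
        · exfalso
          have := congrFun hG (⟨v 0, h0⟩, ⟨v 1, h1⟩)
          rw [hΦ] at this
          apply hc
          rw [hv2]
          exact this
        · push Not at h1
          have hle : Finsupp.single 1 b ≤ v := Finsupp.single_le_iff.2 h1
          have : monomial v (coeff v G) = monomial (v - Finsupp.single 1 b) (coeff v G) * X 1 ^ b := by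
            rw [X_pow_eq_monomial, monomial_mul, mul_one, tsub_add_cancel_of_le hle]
          rw [this]
          exact Ideal.mul_mem_left _ _ (Ideal.subset_span (by simp))
      · push Not at h0
        have hle : Finsupp.single 0 a ≤ v := Finsupp.single_le_iff.2 h0
        have : monomial v (coeff v G) = monomial (v - Finsupp.single 0 a) (coeff v G) * X 0 ^ a := by
          rw [X_pow_eq_monomial, monomial_mul, mul_one, tsub_add_cancel_of_le hle]
        rw [this]
        exact Ideal.mul_mem_left _ _ (Ideal.subset_span (by simp))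
    · intro hG
      obtain ⟨c, d, rfl⟩ := Ideal.mem_span_pair.1 hG
      funext ij
      rw [hΦ, coeff_add, X_pow_eq_monomial, X_pow_eq_monomial, coeff_mul_monomial',
        coeff_mul_monomial', if_neg, if_neg, add_zero]
      · rfl
      · intro h
        have := Finsupp.single_le_iff.1 h
        rw [he1] at this
        have := ij.2.2
        omega
      · intro h
        have := Finsupp.single_le_iff.1 h
        rw [he0] at this
        have := ij.1.2
        omega
  have hsurj : Function.Surjective Φ := by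
    intro t
    refine ⟨∑ ij : Fin a × Fin b, monomial (e ij) (t ij), ?_⟩
    funext ij₀
    rw [hΦ, coeff_sum]
    simp_rw [coeff_monomial]
    rw [Finset.sum_eq_single ij₀]
    · simp
    · intro ij _ hne
      rw [if_neg]
      intro h
      exact hne (he_inj h)
    · intro h; exact absurd (Finset.mem_univ _) h
  have e1 : (MvPolynomial (Fin 2) k ⧸ LinearMap.ker Φ) ≃ₗ[k] (Fin a × Fin b → k) :=
    Φ.quotKerEquivOfSurjective hsurj
  have e2 : (MvPolynomial (Fin 2) k ⧸ LinearMap.ker Φ) ≃ₗ[k]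
      (MvPolynomial (Fin 2) k ⧸ J'.restrictScalars k) := Submodule.quotEquivOfEq _ _ hker
  have e3 : (MvPolynomial (Fin 2) k ⧸ J'.restrictScalars k) ≃ₗ[k] (MvPolynomial (Fin 2) k ⧸ J') :=
    Submodule.Quotient.restrictScalarsEquiv k J'
  rw [← e3.finrank_eq, ← e2.finrank_eq, e1.finrank_eq, Module.finrank_fintype_fun_eq_card,
    Fintype.card_prod, Fintype.card_fin, Fintype.card_fin]

end Aux

open MvPolynomial in
/-- Let k be a field of characteristic p (p = 0 allowed) and F = y² − x³ in k[x, y] (x the variable of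
index 0, y of index 1). The singular subscheme of the plane curve F = 0, cut out by F and its two
partial derivatives, is finite over k of degree 4 when p = 2, of degree 3 when p = 3, and of degree
2 otherwise: the k-dimension of k[x, y]/(F, ∂F/∂x, ∂F/∂y) is that number. (The source phrases this
through the complete local ring of a cusp; the row is the computation for the standard cusp y² =
x³.) -/
theorem result (k : Type u) [Field k] (p : ℕ) [CharP k p] :
    Module.finrank k (MvPolynomial (Fin 2) k ⧸ Ideal.span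
      ({X 1 ^ 2 - X 0 ^ 3, pderiv 0 (X 1 ^ 2 - X 0 ^ 3), pderiv 1 (X 1 ^ 2 - X 0 ^ 3)} :
        Set (MvPolynomial (Fin 2) k))) = (if p = 2 then 4 else if p = 3 then 3 else 2) := by
  classical
  have hg2 : pderiv 0 (X 1 ^ 2 - X 0 ^ 3 : MvPolynomial (Fin 2) k) = -(C 3 * X 0 ^ 2) := by
    simp [pderiv_X]; exact (map_ofNat C 3).symm
  have hg3 : pderiv 1 (X 1 ^ 2 - X 0 ^ 3 : MvPolynomial (Fin 2) k) = C 2 * X 1 := by
    simp [pderiv_X]; exact (map_ofNat C 2).symm
  rw [hg2, hg3]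
  have hp1 : p ≠ 1 := CharP.char_ne_one k p
  have h2iff : (2 : k) = 0 ↔ p ∣ 2 := by exact_mod_cast CharP.cast_eq_zero_iff k p 2
  have h3iff : (3 : k) = 0 ↔ p ∣ 3 := by exact_mod_cast CharP.cast_eq_zero_iff k p 3
  have span_eq : ∀ (g1 g2 g3 u v : MvPolynomial (Fin 2) k),
      g1 ∈ Ideal.span ({u, v} : Set (MvPolynomial (Fin 2) k)) →
      g2 ∈ Ideal.span ({u, v} : Set (MvPolynomial (Fin 2) k)) →
      g3 ∈ Ideal.span ({u, v} : Set (MvPolynomial (Fin 2) k)) →
      u ∈ Ideal.span ({g1, g2, g3} : Set (MvPolynomial (Fin 2) k)) →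
      v ∈ Ideal.span ({g1, g2, g3} : Set (MvPolynomial (Fin 2) k)) →
      Ideal.span ({g1, g2, g3} : Set (MvPolynomial (Fin 2) k)) =
        Ideal.span ({u, v} : Set (MvPolynomial (Fin 2) k)) := by
    intro g1 g2 g3 u v h1 h2 h3 hu hv
    refine le_antisymm (Ideal.span_le.2 ?_) (Ideal.span_le.2 ?_)
    · rintro z (rfl | rfl | rfl) <;> assumption
    · rintro z (rfl | rfl) <;> assumption
  have hm1 : ∀ g1 g2 g3 : MvPolynomial (Fin 2) k,
      g1 ∈ Ideal.span ({g1, g2, g3} : Set (MvPolynomial (Fin 2) k)) :=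
    fun g1 g2 g3 => Ideal.subset_span (by simp)
  have hm2 : ∀ g1 g2 g3 : MvPolynomial (Fin 2) k,
      g2 ∈ Ideal.span ({g1, g2, g3} : Set (MvPolynomial (Fin 2) k)) :=
    fun g1 g2 g3 => Ideal.subset_span (by simp)
  have hm3 : ∀ g1 g2 g3 : MvPolynomial (Fin 2) k,
      g3 ∈ Ideal.span ({g1, g2, g3} : Set (MvPolynomial (Fin 2) k)) :=
    fun g1 g2 g3 => Ideal.subset_span (by simp)
  have hn1 : ∀ u v : MvPolynomial (Fin 2) k,
      u ∈ Ideal.span ({u, v} : Set (MvPolynomial (Fin 2) k)) :=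
    fun u v => Ideal.subset_span (by simp)
  have hn2 : ∀ u v : MvPolynomial (Fin 2) k,
      v ∈ Ideal.span ({u, v} : Set (MvPolynomial (Fin 2) k)) :=
    fun u v => Ideal.subset_span (by simp)
  by_cases hp2 : p = 2
  · have h2 : (2 : k) = 0 := h2iff.2 (by rw [hp2])
    have h3 : (3 : k) = 1 := by
      have : (3 : k) = 2 + 1 := by norm_num
      rw [this, h2, zero_add]
    rw [if_pos hp2]
    have hu : (X 0 ^ 2 : MvPolynomial (Fin 2) k) ∈ Ideal.span
        ({X 1 ^ 2 - X 0 ^ 3, -(C 3 * X 0 ^ 2), C 2 * X 1} : Set (MvPolynomial (Fin 2) k)) := by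
      have hm := neg_mem (hm2 (X 1 ^ 2 - X 0 ^ 3 : MvPolynomial (Fin 2) k) (-(C 3 * X 0 ^ 2)) (C 2 * X 1))
      have e : -(-(C (3 : k) * X 0 ^ 2)) = (X 0 ^ 2 : MvPolynomial (Fin 2) k) := by
        rw [h3, C_1]; ring
      rw [e] at hm; exact hm
    have hv : (X 1 ^ 2 : MvPolynomial (Fin 2) k) ∈ Ideal.span
        ({X 1 ^ 2 - X 0 ^ 3, -(C 3 * X 0 ^ 2), C 2 * X 1} : Set (MvPolynomial (Fin 2) k)) := by
      have hm := add_mem (hm1 (X 1 ^ 2 - X 0 ^ 3 : MvPolynomial (Fin 2) k) (-(C 3 * X 0 ^ 2)) (C 2 * X 1))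
        (Ideal.mul_mem_left _ (X 0) hu)
      have e : (X 1 ^ 2 - X 0 ^ 3) + X 0 * X 0 ^ 2 = (X 1 ^ 2 : MvPolynomial (Fin 2) k) := by ring
      rw [e] at hm; exact hm
    rw [span_eq _ _ _ (X 0 ^ 2) (X 1 ^ 2) ?_ ?_ ?_ hu hv]
    · exact (finrank_monomial_quot k 2 2).trans (by norm_num)
    · have e : (X 1 ^ 2 - X 0 ^ 3 : MvPolynomial (Fin 2) k) = X 1 ^ 2 - X 0 * X 0 ^ 2 := by ring
      rw [e]
      exact Ideal.sub_mem _ (hn2 _ _) (Ideal.mul_mem_left _ _ (hn1 _ _))
    · exact neg_mem (Ideal.mul_mem_left _ _ (hn1 _ _))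
    · rw [h2, C_0, zero_mul]; exact zero_mem _
  · rw [if_neg hp2]
    have h2 : (2 : k) ≠ 0 := by
      intro h
      rcases (Nat.dvd_prime Nat.prime_two).1 (h2iff.1 h) with h | h
      · exact hp1 h
      · exact hp2 h
    have hv : (X 1 ^ 1 : MvPolynomial (Fin 2) k) ∈ Ideal.span
        ({X 1 ^ 2 - X 0 ^ 3, -(C 3 * X 0 ^ 2), C 2 * X 1} : Set (MvPolynomial (Fin 2) k)) := by
      have hm := Ideal.mul_mem_left _ (C (2 : k)⁻¹)
        (hm3 (X 1 ^ 2 - X 0 ^ 3 : MvPolynomial (Fin 2) k) (-(C 3 * X 0 ^ 2)) (C 2 * X 1))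
      have e : C (2 : k)⁻¹ * (C 2 * X 1) = (X 1 ^ 1 : MvPolynomial (Fin 2) k) := by
        rw [← mul_assoc, ← C_mul, inv_mul_cancel₀ h2, C_1, one_mul, pow_one]
      rw [e] at hm; exact hm
    by_cases hp3 : p = 3
    · have h3 : (3 : k) = 0 := h3iff.2 (by rw [hp3])
      rw [if_pos hp3]
      have hu : (X 0 ^ 3 : MvPolynomial (Fin 2) k) ∈ Ideal.span
          ({X 1 ^ 2 - X 0 ^ 3, -(C 3 * X 0 ^ 2), C 2 * X 1} : Set (MvPolynomial (Fin 2) k)) := by
        have hm := sub_mem (Ideal.mul_mem_left _ (X 1) hv)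
          (hm1 (X 1 ^ 2 - X 0 ^ 3 : MvPolynomial (Fin 2) k) (-(C 3 * X 0 ^ 2)) (C 2 * X 1))
        have e : X 1 * X 1 ^ 1 - (X 1 ^ 2 - X 0 ^ 3) = (X 0 ^ 3 : MvPolynomial (Fin 2) k) := by ring
        rw [e] at hm; exact hm
      rw [span_eq _ _ _ (X 0 ^ 3) (X 1 ^ 1) ?_ ?_ ?_ hu hv]
      · exact (finrank_monomial_quot k 3 1).trans (by norm_num)
      · have e : (X 1 ^ 2 - X 0 ^ 3 : MvPolynomial (Fin 2) k) = X 1 * X 1 ^ 1 - X 0 ^ 3 := by ring
        rw [e]
        exact Ideal.sub_mem _ (Ideal.mul_mem_left _ _ (hn2 _ _)) (hn1 _ _)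
      · rw [h3, C_0, zero_mul, neg_zero]; exact zero_mem _
      · have e : (C 2 * X 1 : MvPolynomial (Fin 2) k) = C 2 * X 1 ^ 1 := by ring
        rw [e]
        exact Ideal.mul_mem_left _ _ (hn2 _ _)
    · rw [if_neg hp3]
      have h3 : (3 : k) ≠ 0 := by
        intro h
        rcases (Nat.dvd_prime Nat.prime_three).1 (h3iff.1 h) with h | h
        · exact hp1 h
        · exact hp3 h
      have hu : (X 0 ^ 2 : MvPolynomial (Fin 2) k) ∈ Ideal.span
          ({X 1 ^ 2 - X 0 ^ 3, -(C 3 * X 0 ^ 2), C 2 * X 1} : Set (MvPolynomial (Fin 2) k)) := by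
        have hm := neg_mem (Ideal.mul_mem_left _ (C (3 : k)⁻¹)
          (hm2 (X 1 ^ 2 - X 0 ^ 3 : MvPolynomial (Fin 2) k) (-(C 3 * X 0 ^ 2)) (C 2 * X 1)))
        have e : -(C (3 : k)⁻¹ * -(C 3 * X 0 ^ 2)) = (X 0 ^ 2 : MvPolynomial (Fin 2) k) := by
          rw [mul_neg, neg_neg, ← mul_assoc, ← C_mul, inv_mul_cancel₀ h3, C_1, one_mul]
        rw [e] at hm; exact hm
      rw [span_eq _ _ _ (X 0 ^ 2) (X 1 ^ 1) ?_ ?_ ?_ hu hv]
      · exact (finrank_monomial_quot k 2 1).trans (by norm_num)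
      · have e : (X 1 ^ 2 - X 0 ^ 3 : MvPolynomial (Fin 2) k) = X 1 * X 1 ^ 1 - X 0 * X 0 ^ 2 := by
          ring
        rw [e]
        exact Ideal.sub_mem _ (Ideal.mul_mem_left _ _ (hn2 _ _)) (Ideal.mul_mem_left _ _ (hn1 _ _))
      · exact neg_mem (Ideal.mul_mem_left _ _ (hn1 _ _))
      · have e : (C 2 * X 1 : MvPolynomial (Fin 2) k) = C 2 * X 1 ^ 1 := by ring
        rw [e]
        exact Ideal.mul_mem_left _ _ (hn2 _ _)

end Groth.Agent.S19176
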