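import Groth.Statements.S19178
import Mathlib

set_option autoImplicit false
universe u
open Curves

namespace Groth.Agent.S19178

/-- For every field k and every choice of coefficients a₁, a₂, a₃, a₄, a₆ in k, the homogeneous
Weierstrass cubic Y²Z + a₁XYZ + a₃YZ² − (X³ + a₂X²Z + a₄XZ² + a₆Z³) is an irreducible polynomial in
k[X, Y, Z]. Applied to all fields, this says every fibre of the Weierstrass family over the affine
space of coefficients is geometrically integral. -/
theorem result (k : Type u) [Field k]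
    (W : WeierstrassCurve k) :
    Irreducible (WeierstrassCurve.Projective.polynomial W) := by
  classical
  have h1 : (1 : Fin 3) = Fin.succ 0 := rfl
  have h2 : (2 : Fin 3) = Fin.succ 1 := rfl
  have hC : ∀ a : k, MvPolynomial.finSuccEquiv k 2 (MvPolynomial.C a) =
      Polynomial.C (MvPolynomial.C a) := by
    intro a
    rw [← MvPolynomial.algebraMap_eq, AlgEquiv.commutes]
    rfl
  set c₂ : MvPolynomial (Fin 2) k := MvPolynomial.C W.a₂ * MvPolynomial.X 1 with hc₂
  set c₁ : MvPolynomial (Fin 2) k := MvPolynomial.C W.a₁ * MvPolynomial.X 0 * MvPolynomial.X 1 -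
    MvPolynomial.C W.a₄ * MvPolynomial.X 1 ^ 2 with hc₁
  set c₀ : MvPolynomial (Fin 2) k := MvPolynomial.X 0 ^ 2 * MvPolynomial.X 1 +
    MvPolynomial.C W.a₃ * MvPolynomial.X 0 * MvPolynomial.X 1 ^ 2 -
    MvPolynomial.C W.a₆ * MvPolynomial.X 1 ^ 3 with hc₀
  set q : Polynomial (MvPolynomial (Fin 2) k) :=
    Polynomial.C c₂ * Polynomial.X ^ 2 - Polynomial.C c₁ * Polynomial.X - Polynomial.C c₀ with hq
  have heF : MvPolynomial.finSuccEquiv k 2 (WeierstrassCurve.Projective.polynomial W) =
      -(Polynomial.X ^ 3 + q) := by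
    rw [WeierstrassCurve.Projective.polynomial]
    simp only [map_sub, map_add, map_mul, map_pow, h1, h2, MvPolynomial.finSuccEquiv_X_zero,
      MvPolynomial.finSuccEquiv_X_succ, hC, hq, hc₂, hc₁, hc₀]
    ring
  have hqdeg : q.degree < ((3 : ℕ) : WithBot ℕ) := by
    have hq2 : q.natDegree ≤ 2 := by
      rw [hq]; compute_degree
    exact lt_of_le_of_lt (Polynomial.degree_le_of_natDegree_le hq2) (by norm_num)
  have hmonic : (Polynomial.X ^ 3 + q).Monic := Polynomial.monic_X_pow_add hqdeg
  have hnat : (Polynomial.X ^ 3 + q).natDegree = 3 := by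
    rw [Polynomial.natDegree_add_eq_left_of_degree_lt
      (by rw [Polynomial.degree_X_pow]; exact hqdeg), Polynomial.natDegree_X_pow]
  have hirr : Irreducible (Polynomial.X ^ 3 + q) := by
    rw [hmonic.irreducible_iff_roots_eq_zero_of_degree_le_three (by omega) (by omega),
      Multiset.eq_zero_iff_forall_notMem]
    intro r hr
    rw [Polynomial.mem_roots hmonic.ne_zero, Polynomial.IsRoot] at hr
    have hr' : r ^ 3 + (c₂ * r ^ 2 - c₁ * r - c₀) = 0 := by
      simpa [hq] using hr
    let ψ : MvPolynomial (Fin 2) k →ₐ[k] DualNumber k :=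
      MvPolynomial.aeval ![(1 : DualNumber k), DualNumber.eps]
    have hψ := congrArg ψ hr'
    simp only [hc₂, hc₁, hc₀, map_add, map_sub, map_mul, map_pow, map_zero, ψ,
      MvPolynomial.aeval_X, MvPolynomial.aeval_C, Matrix.cons_val_zero, Matrix.cons_val_one] at hψ
    set ρ : DualNumber k := MvPolynomial.aeval ![(1 : DualNumber k), DualNumber.eps] r with hρ
    have hfst := congrArg TrivSqZeroExt.fst hψ
    simp only [TrivSqZeroExt.fst_add, TrivSqZeroExt.fst_sub, TrivSqZeroExt.fst_mul,
      TrivSqZeroExt.fst_pow, DualNumber.fst_eps, TrivSqZeroExt.fst_zero, TrivSqZeroExt.fst_one,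
      TrivSqZeroExt.algebraMap_eq_inl, TrivSqZeroExt.fst_inl] at hfst
    have ha : ρ.fst = 0 := by
      have : ρ.fst ^ 3 = 0 := by
        simpa using hfst
      exact pow_eq_zero_iff (by norm_num) |>.1 this
    have hsnd := congrArg TrivSqZeroExt.snd hψ
    simp only [pow_succ, pow_zero, one_mul, TrivSqZeroExt.snd_add, TrivSqZeroExt.snd_sub,
      TrivSqZeroExt.snd_mul, TrivSqZeroExt.fst_mul, TrivSqZeroExt.fst_sub, TrivSqZeroExt.fst_add,
      DualNumber.fst_eps, DualNumber.snd_eps,
      TrivSqZeroExt.snd_zero, TrivSqZeroExt.snd_one, TrivSqZeroExt.fst_one,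
      TrivSqZeroExt.algebraMap_eq_inl, TrivSqZeroExt.fst_inl, TrivSqZeroExt.snd_inl, ha,
      smul_eq_mul, MulOpposite.smul_eq_mul_unop, MulOpposite.unop_op, mul_zero, zero_mul,
      add_zero, zero_add, sub_zero, zero_sub, mul_one, neg_eq_zero] at hsnd
    simp at hsnd
  have : Irreducible (MvPolynomial.finSuccEquiv k 2 (WeierstrassCurve.Projective.polynomial W)) := by
    rw [heF]
    exact (Associated.neg_right (Associated.refl _)).irreducible hirr
  exact (MulEquiv.irreducible_iff (MvPolynomial.finSuccEquiv k 2)).1 this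

end Groth.Agent.S19178
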