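import Groth.Statements.S19181
import Mathlib

set_option autoImplicit false
universe u
open CAlg

namespace Groth.Agent.S19181

open MvPolynomial in
theorem X_mul_cancel {R : Type*} [CommRing R] {σ : Type*} (i : σ) (p q : MvPolynomial σ R)
    (h : X i * p = X i * q) : p = q := by
  ext m
  have := congrArg (coeff (Finsupp.single i 1 + m)) h
  rwa [coeff_X_mul, coeff_X_mul] at this

open MvPolynomial in
theorem sat_of_key {R : Type*} [CommRing R] (g : MvPolynomial (Fin 2) R)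
    (key : ∀ c, (X 0 : MvPolynomial (Fin 2) R) ∣ g * c → X 0 ∣ c) (s : MvPolynomial (Fin 2) R) :
    (∃ n : ℕ, X 0 ^ n * s ∈ Ideal.span ({X 0 ^ 2 * g} : Set (MvPolynomial (Fin 2) R))) ↔
      s ∈ Ideal.span ({g} : Set (MvPolynomial (Fin 2) R)) := by
  have claim : ∀ (m : ℕ) (s c : MvPolynomial (Fin 2) R), X 0 ^ m * s = g * c → g ∣ s := by
    intro m
    induction m with
    | zero => intro s c h; rw [pow_zero, one_mul] at h; exact ⟨c, h⟩
    | succ m ih =>
      intro s c h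
      have hd : (X 0 : MvPolynomial (Fin 2) R) ∣ g * c := ⟨X 0 ^ m * s, by rw [← h]; ring⟩
      obtain ⟨c', hc'⟩ := key c hd
      apply ih s c'
      apply X_mul_cancel 0
      rw [hc'] at h
      linear_combination h
  have cancel_pow : ∀ (m : ℕ) (p q : MvPolynomial (Fin 2) R),
      X 0 ^ m * p = X 0 ^ m * q → p = q := by
    intro m
    induction m with
    | zero => intro p q h; simpa using h
    | succ m ih =>
      intro p q h
      apply ih
      apply X_mul_cancel 0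
      linear_combination h
  constructor
  · rintro ⟨n, hn⟩
    rw [Ideal.mem_span_singleton] at hn ⊢
    obtain ⟨c, hc⟩ := hn
    rcases le_or_gt n 2 with hn2 | hn2
    · refine ⟨X 0 ^ (2 - n) * c, ?_⟩
      apply cancel_pow n
      rw [hc]
      have : (X 0 : MvPolynomial (Fin 2) R) ^ 2 = X 0 ^ n * X 0 ^ (2 - n) := by
        rw [← pow_add]; congr 1; omega
      rw [this]; ring
    · apply claim (n - 2) s c
      apply cancel_pow 2
      have : (X 0 : MvPolynomial (Fin 2) R) ^ n = X 0 ^ 2 * X 0 ^ (n - 2) := by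
        rw [← pow_add]; congr 1; omega
      rw [this] at hc
      linear_combination hc
  · intro h
    rw [Ideal.mem_span_singleton] at h
    obtain ⟨c, rfl⟩ := h
    exact ⟨2, Ideal.mem_span_singleton.mpr ⟨c, by ring⟩⟩

open MvPolynomial in
theorem case1_key {R : Type*} [CommRing R] (a₁ a₂ : R) (c : MvPolynomial (Fin 2) R)
    (h : (X 0 : MvPolynomial (Fin 2) R) ∣
      (1 + C a₁ * X 1 - X 0 * X 1 ^ 3 - C a₂ * X 1 ^ 2) * c) : X 0 ∣ c := by
  classical
  obtain ⟨ε, hε0, hε1, hεC⟩ : ∃ ε : MvPolynomial (Fin 2) R →ₐ[R] MvPolynomial (Fin 2) R,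
      ε (X 0) = 0 ∧ ε (X 1) = X 1 ∧ ∀ r, ε (C r) = C r :=
    ⟨aeval ![0, X 1], by simp, by simp, fun r => by simp⟩
  have ha : ∀ f : MvPolynomial (Fin 2) R, (X 0 : MvPolynomial (Fin 2) R) ∣ f - ε f := by
    intro f
    induction f using MvPolynomial.induction_on with
    | C r => rw [hεC, sub_self]; exact dvd_zero _
    | add p q hp hq =>
      rw [map_add]
      have : p + q - (ε p + ε q) = (p - ε p) + (q - ε q) := by ring
      rw [this]; exact dvd_add hp hq
    | mul_X p i hp =>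
      rw [map_mul]
      fin_cases i
      · show (X 0 : MvPolynomial (Fin 2) R) ∣ p * X 0 - ε p * ε (X 0)
        rw [hε0, mul_zero, sub_zero]; exact Dvd.intro_left p rfl
      · show (X 0 : MvPolynomial (Fin 2) R) ∣ p * X 1 - ε p * ε (X 1)
        rw [hε1, ← sub_mul]; exact Dvd.dvd.mul_right hp _
  have hu : ∀ y : MvPolynomial (Fin 2) R,
      (1 + C a₁ * X 1 - C a₂ * X 1 ^ 2) * y = 0 → y = 0 := by
    intro y hy
    have h1 : y = X 1 * ((C a₂ * X 1 - C a₁) * y) := by linear_combination hy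
    have hN : ∀ N : ℕ, ∃ z, y = X 1 ^ N * z := by
      intro N
      induction N with
      | zero => exact ⟨y, by rw [pow_zero, one_mul]⟩
      | succ N ih =>
        obtain ⟨z, hz⟩ := ih
        refine ⟨(C a₂ * X 1 - C a₁) * z, ?_⟩
        calc y = X 1 * ((C a₂ * X 1 - C a₁) * y) := h1
          _ = X 1 * ((C a₂ * X 1 - C a₁) * (X 1 ^ N * z)) := by rw [← hz]
          _ = X 1 ^ (N + 1) * ((C a₂ * X 1 - C a₁) * z) := by ring
    ext m
    obtain ⟨z, hz⟩ := hN (m 1 + 1)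
    rw [hz, coeff_zero, X_pow_eq_monomial, coeff_monomial_mul', if_neg]
    intro hle
    have := hle 1
    simp at this
  obtain ⟨q, hq⟩ := h
  have h2 := congrArg ε hq
  rw [map_mul, map_mul, hε0, zero_mul] at h2
  have h3 : ε (1 + C a₁ * X 1 - X 0 * X 1 ^ 3 - C a₂ * X 1 ^ 2)
      = 1 + C a₁ * X 1 - C a₂ * X 1 ^ 2 := by
    simp only [map_add, map_sub, map_mul, map_pow, map_one, hε0, hε1, hεC]; ring
  rw [h3] at h2
  have h4 := hu _ h2
  have h5 := ha c
  rw [h4, sub_zero] at h5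
  exact h5

open MvPolynomial in
theorem case2 {R : Type*} [CommRing R] (a₁ a₂ : R) (s : MvPolynomial (Fin 2) R) :
    (∃ n : ℕ, X 0 ^ n * s ∈ Ideal.span ({X 0 ^ 2 * (X 1 ^ 2 + C a₁ * X 1 - X 0 - C a₂)} :
        Set (MvPolynomial (Fin 2) R))) ↔
      s ∈ Ideal.span ({X 1 ^ 2 + C a₁ * X 1 - X 0 - C a₂} : Set (MvPolynomial (Fin 2) R)) := by
  classical
  obtain ⟨v, hv⟩ : ∃ v : Polynomial R, v = Polynomial.X ^ 2 +
      (Polynomial.C a₁ * Polynomial.X - Polynomial.C a₂) := ⟨_, rfl⟩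
  have hvm : v.Monic := by
    rw [hv]
    apply Polynomial.monic_X_pow_add
    calc (Polynomial.C a₁ * Polynomial.X - Polynomial.C a₂).degree
        ≤ max (Polynomial.C a₁ * Polynomial.X).degree (Polynomial.C a₂).degree :=
          Polynomial.degree_sub_le _ _
      _ ≤ 1 := max_le (Polynomial.degree_C_mul_X_le a₁)
          (le_trans Polynomial.degree_C_le zero_le_one)
      _ < ((2 : ℕ) : WithBot ℕ) := by exact_mod_cast (by norm_num : (1 : ℕ) < 2)
  obtain ⟨δ', hδ0, hδ1, hδC⟩ : ∃ δ' : MvPolynomial (Fin 2) R →ₐ[R] Polynomial R,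
      δ' (X 0) = v ∧ δ' (X 1) = Polynomial.X ∧ ∀ r, δ' (C r) = Polynomial.C r :=
    ⟨aeval ![v, Polynomial.X], by simp, by simp, fun r => by simp⟩
  obtain ⟨ι, hιX, hιC⟩ : ∃ ι : Polynomial R →ₐ[R] MvPolynomial (Fin 2) R,
      ι Polynomial.X = X 1 ∧ ∀ r, ι (Polynomial.C r) = C r :=
    ⟨Polynomial.aeval (X 1), Polynomial.aeval_X _, fun r => by simp⟩
  have hιv : ι v = X 1 ^ 2 + (C a₁ * X 1 - C a₂) := by
    rw [hv]; simp only [map_add, map_sub, map_mul, map_pow, hιX, hιC]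
  obtain ⟨g₂, hg₂⟩ : ∃ g₂ : MvPolynomial (Fin 2) R,
      g₂ = X 1 ^ 2 + C a₁ * X 1 - X 0 - C a₂ := ⟨_, rfl⟩
  rw [← hg₂]
  have ha2 : ∀ f : MvPolynomial (Fin 2) R, g₂ ∣ f - ι (δ' f) := by
    intro f
    induction f using MvPolynomial.induction_on with
    | C r => rw [hδC, hιC, sub_self]; exact dvd_zero _
    | add p q hp hq =>
      rw [map_add, map_add]
      have : p + q - (ι (δ' p) + ι (δ' q)) = (p - ι (δ' p)) + (q - ι (δ' q)) := by ring
      rw [this]; exact dvd_add hp hq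
    | mul_X p i hp =>
      rw [map_mul, map_mul]
      fin_cases i
      · show g₂ ∣ p * X 0 - ι (δ' p) * ι (δ' (X 0))
        rw [hδ0, hιv]
        have : p * X 0 - ι (δ' p) * (X 1 ^ 2 + (C a₁ * X 1 - C a₂))
            = (p - ι (δ' p)) * X 0 - ι (δ' p) * g₂ := by rw [hg₂]; ring
        rw [this]; exact dvd_sub (Dvd.dvd.mul_right hp _) (Dvd.intro_left _ rfl)
      · show g₂ ∣ p * X 1 - ι (δ' p) * ι (δ' (X 1))
        rw [hδ1, hιX, ← sub_mul]; exact Dvd.dvd.mul_right hp _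
  have hb2 : δ' g₂ = 0 := by
    rw [hg₂]
    simp only [map_add, map_sub, map_mul, map_pow, hδ0, hδ1, hδC]
    rw [hv]; ring
  constructor
  · rintro ⟨n, hn⟩
    rw [Ideal.mem_span_singleton] at hn ⊢
    obtain ⟨c, hc⟩ := hn
    have h1 := congrArg δ' hc
    simp only [map_mul, map_pow, hδ0, hb2, mul_zero, zero_mul] at h1
    have h2 : δ' s = 0 := (Polynomial.Monic.mul_right_eq_zero_iff (hvm.pow n)).mp h1
    have h3 := ha2 s
    rw [h2, map_zero, sub_zero] at h3
    exact h3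
  · intro h
    rw [Ideal.mem_span_singleton] at h
    obtain ⟨c, rfl⟩ := h
    exact ⟨2, Ideal.mem_span_singleton.mpr ⟨c, by ring⟩⟩


open MvPolynomial in
/-- Let R be a commutative ring, a₁, a₂ ∈ R, and C ⊂ A²_R the curve y² + a₁xy = x³ + a₂x², blown up at
the section x = y = 0. In the chart where x = yα (variables y = X 0, α = X 1) the equation of C
becomes y²·g₁ with g₁ = 1 + a₁α − yα³ − a₂α², and the y-saturation of the ideal (y²g₁) is (g₁): for
s ∈ R[y, α], some yⁿs lies in (y²g₁) if and only if s ∈ (g₁). In the chart where y = xβ (variables x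
= X 0, β = X 1) the equation becomes x²·g₂ with g₂ = β² + a₁β − x − a₂, and some xⁿs lies in (x²g₂)
if and only if s ∈ (g₂). In other words the strict transform of C is cut out by g₁, resp. g₂, in the
two charts. -/
theorem result (R : Type u) [CommRing R] (a₁ a₂ : R) :
    (∀ s : MvPolynomial (Fin 2) R,
      (∃ n : ℕ, X 0 ^ n * s ∈ Ideal.span ({X 0 ^ 2 * (1 + C a₁ * X 1 - X 0 * X 1 ^ 3 - C a₂ * X 1 ^ 2)} :
        Set (MvPolynomial (Fin 2) R))) ↔
      s ∈ Ideal.span ({1 + C a₁ * X 1 - X 0 * X 1 ^ 3 - C a₂ * X 1 ^ 2} : Set (MvPolynomial (Fin 2) R))) ∧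
    (∀ s : MvPolynomial (Fin 2) R,
      (∃ n : ℕ, X 0 ^ n * s ∈ Ideal.span ({X 0 ^ 2 * (X 1 ^ 2 + C a₁ * X 1 - X 0 - C a₂)} :
        Set (MvPolynomial (Fin 2) R))) ↔
      s ∈ Ideal.span ({X 1 ^ 2 + C a₁ * X 1 - X 0 - C a₂} : Set (MvPolynomial (Fin 2) R))) := by
  exact ⟨fun s => sat_of_key _ (case1_key a₁ a₂) s, fun s => case2 a₁ a₂ s⟩

end Groth.Agent.S19181
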