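import Groth.Statements.S19182
import Mathlib
import Groth.Agent.Lib.helper4.SmoothPderiv

set_option autoImplicit false
universe u
open CAlg

namespace Groth.Agent.S19182

open MvPolynomial in
/-- Let R be a commutative ring and a₁, a₂ ∈ R. The two affine charts of the blow-up of the plane curve
y² + a₁xy = x³ + a₂x² at the section x = y = 0, with coordinate rings R[y, α]/(1 + a₁α − yα³ − a₂α²)
and R[x, β]/(β² + a₁β − x − a₂) (variables indexed 0 and 1 in this order), are smooth R-algebras
(formally smooth of finite presentation). This is the local computation behind the statement that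
the blow-up of a Weierstrass curve along a section through its singular locus is a smooth proper
curve of genus 0. -/
theorem result (R : Type u) [CommRing R] (a₁ a₂ : R) :
    Algebra.Smooth R (MvPolynomial (Fin 2) R ⧸
      Ideal.span ({1 + C a₁ * X 1 - X 0 * X 1 ^ 3 - C a₂ * X 1 ^ 2} : Set (MvPolynomial (Fin 2) R))) ∧
    Algebra.Smooth R (MvPolynomial (Fin 2) R ⧸
      Ideal.span ({X 1 ^ 2 + C a₁ * X 1 - X 0 - C a₂} : Set (MvPolynomial (Fin 2) R))) := by
  constructor
  · apply Groth.Agent.H4.H4_smooth_of_pderiv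
    have hd : MvPolynomial.pderiv (0 : Fin 2) (1 + C a₁ * X 1 - X 0 * X 1 ^ 3 - C a₂ * X 1 ^ 2 : MvPolynomial (Fin 2) R)
        = - (X 1) ^ 3 := by
      simp [pderiv_X, Derivation.leibniz]
    rw [hd]
    have hx : IsUnit (Ideal.Quotient.mk (Ideal.span ({1 + C a₁ * X 1 - X 0 * X 1 ^ 3 - C a₂ * X 1 ^ 2} : Set (MvPolynomial (Fin 2) R))) (X 1)) := by
      apply IsUnit.of_mul_eq_one (Ideal.Quotient.mk _ (X 0 * X 1 ^ 2 + C a₂ * X 1 - C a₁))
      rw [← map_mul, ← map_one (Ideal.Quotient.mk _), Ideal.Quotient.eq, Ideal.mem_span_singleton]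
      exact ⟨-1, by ring⟩
    rw [map_neg, map_pow]
    obtain ⟨y, hy⟩ := (hx.pow 3).exists_right_inv
    exact IsUnit.of_mul_eq_one (-y) (by linear_combination hy)
  · apply Groth.Agent.H4.H4_smooth_of_pderiv
    have hd : MvPolynomial.pderiv (0 : Fin 2) (X 1 ^ 2 + C a₁ * X 1 - X 0 - C a₂ : MvPolynomial (Fin 2) R)
        = - 1 := by
      simp [pderiv_X, Derivation.leibniz]
    rw [hd, map_neg, map_one]
    exact IsUnit.of_mul_eq_one (-1) (by ring)

end Groth.Agent.S19182
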