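import Groth.Statements.S19183
import Mathlib

set_option autoImplicit false
universe u
open CAlg

namespace Groth.Agent.S19183

/-- Let A be a non-zero commutative ring and f ∈ A a non-zero-divisor. The fibre product A ×_{A/(f)} A
of two copies of A over A/(f) — the A-submodule of A × A of pairs (x, y) with x − y ∈ (f), which is
the coordinate ring of two copies of Spec A glued along the Cartier divisor f = 0 — is a free
A-module of rank 2. (This is what makes the gluing of two copies of a curve along an effective
Cartier divisor finite locally free of degree 2 over the curve.) -/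
theorem result (A : Type u) [CommRing A] [Nontrivial A]
    (f : A) (hf : f ∈ nonZeroDivisors A) :
    Module.Free A (Submodule.comap (LinearMap.fst A A A - LinearMap.snd A A A) (Ideal.span ({f} : Set A))) ∧
      Module.finrank A (Submodule.comap (LinearMap.fst A A A - LinearMap.snd A A A) (Ideal.span ({f} : Set A))) = 2 := by
  set S := Submodule.comap (LinearMap.fst A A A - LinearMap.snd A A A) (Ideal.span ({f} : Set A)) with hS
  have hmem : ∀ x : A × A, x ∈ S ↔ ∃ c, x.1 - x.2 = c * f := by
    intro x
    rw [hS, Submodule.mem_comap, LinearMap.sub_apply, LinearMap.fst_apply, LinearMap.snd_apply,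
      Ideal.mem_span_singleton']
    constructor
    · rintro ⟨c, hc⟩; exact ⟨c, hc.symm⟩
    · rintro ⟨c, hc⟩; exact ⟨c, hc.symm⟩
  let φ : (A × A) →ₗ[A] S :=
    { toFun := fun x => ⟨(x.1 + x.2 * f, x.1), (hmem _).mpr ⟨x.2, by simp⟩⟩
      map_add' := by
        intro x y
        ext <;> simp [add_mul] <;> ring
      map_smul' := by
        intro c x
        ext <;> simp [mul_add, mul_assoc] }
  have hbij : Function.Bijective φ := by
    constructor
    · intro x y hxy
      have h1 := congrArg (fun z : S => (z : A × A).1) hxy
      have h2 := congrArg (fun z : S => (z : A × A).2) hxy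
      simp only [φ, LinearMap.coe_mk, AddHom.coe_mk] at h1 h2
      rw [h2] at h1
      have h3 : x.2 * f = y.2 * f := add_left_cancel h1
      have h4 : x.2 = y.2 := by
        have h5 : (x.2 - y.2) * f = 0 := by rw [sub_mul, h3, sub_self]
        exact sub_eq_zero.mp (mem_nonZeroDivisors_iff_right.mp hf _ h5)
      exact Prod.ext h2 h4
    · rintro ⟨⟨a, b⟩, hab⟩
      obtain ⟨c, hc⟩ := (hmem _).mp hab
      refine ⟨(b, c), ?_⟩
      ext
      · simp only [φ, LinearMap.coe_mk, AddHom.coe_mk]
        simp only at hc
        rw [← hc]; ring
      · rfl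
  let e : (A × A) ≃ₗ[A] S := LinearEquiv.ofBijective φ hbij
  refine ⟨Module.Free.of_equiv e, ?_⟩
  rw [← e.finrank_eq, Module.finrank_prod, Module.finrank_self]

end Groth.Agent.S19183
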