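import Groth.Statements.S19186
import Mathlib

set_option autoImplicit false
universe u
open OneMot

namespace Groth.Agent.S19186

/-- Let p and ℓ be distinct prime numbers, r and n natural numbers, and f : A → B a homomorphism of
abelian groups whose kernel and cokernel are annihilated by p^r (f a = 0 implies p^r • a = 0, and
every p^r • b lies in the image of f). Then f induces a bijection between the ℓ^n-torsion subgroups
of A and B and a bijection A/ℓ^n A → B/ℓ^n B. Spelled out without quotients: every ℓ^n-torsion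
element of B has exactly one ℓ^n-torsion preimage; an element of A whose image is an ℓ^n-multiple is
itself an ℓ^n-multiple; and every element of B is the sum of an image and an ℓ^n-multiple. -/
theorem result {A B : Type u} [AddCommGroup A] [AddCommGroup B] (f : A →+ B) (p ℓ r n : ℕ) (hp : p.Prime) (hl : ℓ.Prime) (hne : ℓ ≠ p) (hker : ∀ a : A, f a = 0 → p ^ r • a = 0) (hcoker : ∀ b : B, ∃ a : A, f a = p ^ r • b) : (∀ b : B, ℓ ^ n • b = 0 → ∃! a : A, ℓ ^ n • a = 0 ∧ f a = b) ∧ (∀ a : A, (∃ b' : B, f a = ℓ ^ n • b') → ∃ a' : A, a = ℓ ^ n • a') ∧ (∀ b : B, ∃ (a : A) (b' : B), b = f a + ℓ ^ n • b') := by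
  set P : ℕ := p ^ r with hP
  set L : ℕ := ℓ ^ n with hL
  have hcop : Nat.Coprime P L := Nat.Coprime.pow _ _ ((Nat.coprime_primes hp hl).mpr hne.symm)
  obtain ⟨u, v, huv⟩ := Nat.isCoprime_iff_coprime.mpr hcop
  have hcop2 : Nat.Coprime (P * P) L := Nat.Coprime.mul_left hcop hcop
  obtain ⟨u', v', huv'⟩ := Nat.isCoprime_iff_coprime.mpr hcop2
  push_cast at huv'
  have hkerZ : ∀ a : A, f a = 0 → (P : ℤ) • a = 0 := fun a ha => by
    rw [natCast_zsmul]; exact hker a ha
  have hcokerZ : ∀ b : B, ∃ a : A, f a = (P : ℤ) • b := fun b => by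
    obtain ⟨a, ha⟩ := hcoker b
    exact ⟨a, by rw [natCast_zsmul]; exact ha⟩
  have splitA : ∀ x : A, x = (u * P) • x + (v * L) • x := fun x => by
    rw [← add_smul, huv, one_smul]
  have splitB : ∀ x : B, x = (u * P) • x + (v * L) • x := fun x => by
    rw [← add_smul, huv, one_smul]
  have splitA' : ∀ x : A, x = (u' * (P * P)) • x + (v' * L) • x := fun x => by
    rw [← add_smul, huv', one_smul]
  refine ⟨?_, ?_, ?_⟩
  · intro b hb
    have hbZ : (L : ℤ) • b = 0 := by rw [natCast_zsmul]; exact hb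
    have hb1 : (u * P) • b = b := by
      have := splitB b
      rw [mul_smul v, hbZ, smul_zero, add_zero] at this
      exact this.symm
    obtain ⟨a₀, ha₀⟩ := hcokerZ b
    have hfa₁ : f (u • a₀) = b := by
      rw [map_zsmul, ha₀, smul_smul, hb1]
    have hPL : (P : ℤ) • ((L : ℤ) • (u • a₀)) = 0 := by
      apply hkerZ
      rw [map_zsmul, hfa₁, hbZ]
    refine ⟨(u * P) • (u • a₀), ⟨?_, ?_⟩, ?_⟩
    · rw [← natCast_zsmul]
      have : (L : ℤ) • (u * ↑P) • u • a₀ = u • ((P : ℤ) • ((L : ℤ) • (u • a₀))) := by module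
      rw [this, hPL, smul_zero]
    · rw [map_zsmul, hfa₁, hb1]
    · rintro a' ⟨ha'L, ha'f⟩
      have hd : f (a' - (u * P) • (u • a₀)) = 0 := by
        rw [map_sub, ha'f, map_zsmul, hfa₁, hb1, sub_self]
      have hdP := hkerZ _ hd
      rw [← sub_eq_zero]
      have hdL : (L : ℤ) • (a' - (u * P) • (u • a₀)) = 0 := by
        rw [smul_sub, natCast_zsmul, ha'L]
        have : (L : ℤ) • (u * ↑P) • u • a₀ = u • ((P : ℤ) • ((L : ℤ) • (u • a₀))) := by module
        rw [this, hPL, smul_zero, sub_zero]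
      generalize a' - (u * P) • (u • a₀) = d at hdP hdL
      have := splitA d
      rw [mul_smul u, mul_smul v, hdP, hdL, smul_zero, smul_zero, add_zero] at this
      exact this
  · rintro a ⟨b', hb'⟩
    have hb'Z : f a = (L : ℤ) • b' := by rw [natCast_zsmul]; exact hb'
    obtain ⟨a₀, ha₀⟩ := hcokerZ b'
    have h0 : f ((P : ℤ) • a - (L : ℤ) • a₀) = 0 := by
      rw [map_sub, map_zsmul, map_zsmul, hb'Z, ha₀]
      module
    have h1 := hkerZ _ h0
    have h2 : ((P : ℤ) * P) • a = (L : ℤ) • ((P : ℤ) • a₀) := by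
      have : (P : ℤ) • ((P : ℤ) • a - (L : ℤ) • a₀) = ((P : ℤ) * P) • a - (L : ℤ) • ((P : ℤ) • a₀) := by
        module
      rw [this, sub_eq_zero] at h1
      exact h1
    refine ⟨u' • ((P : ℤ) • a₀) + v' • a, ?_⟩
    rw [← natCast_zsmul]
    have h3 := splitA' a
    rw [mul_smul u', h2] at h3
    conv_lhs => rw [h3]
    module
  · intro b
    obtain ⟨a₀, ha₀⟩ := hcokerZ b
    refine ⟨u • a₀, v • b, ?_⟩
    rw [map_zsmul, ha₀, ← natCast_zsmul]
    have := splitB b
    conv_lhs => rw [this]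
    module

end Groth.Agent.S19186
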