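import Groth.Statements.S6604
import Mathlib

set_option autoImplicit false
universe v u v' u'
open CategoryTheory CategoryTheory.Limits
open CohDer

namespace Groth.Agent.S6604

/-- Let D be a triangulated category, B a full triangulated subcategory and Q : D → D/B the quotient
functor. Q sends an object Z of D to zero (Q(Z) = 0, i.e. Z belongs to the kernel of Q) exactly
when, for a suitable object Z' of D, the direct sum Z ⊞ Z' is isomorphic to some object lying in B;
put differently, the kernel is the smallest saturated, strictly full triangulated subcategory that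
contains B. -/
theorem result {D : Type u} [Category.{v} D] [Preadditive D] [HasZeroObject D] [HasShift D ℤ]
    [∀ n : ℤ, (shiftFunctor D n).Additive] [Pretriangulated D] [IsTriangulated D]
    (B : ObjectProperty D) [B.IsTriangulated]
    {E : Type u'} [Category.{v'} E] (Q : D ⥤ E) [Q.IsLocalization B.trW] (Z : D) :
    IsZero (Q.obj Z) ↔ ∃ (Z' Y : D), B Y ∧ Nonempty (Z ⊞ Z' ≅ Y) := by
  letI := Localization.preadditive Q B.trW
  haveI := Localization.functor_additive Q B.trW
  constructor
  · intro hZ
    have h0 : Q.map (𝟙 Z) = Q.map (0 : Z ⟶ Z) := hZ.eq_of_src _ _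
    obtain ⟨Z'', s, hs, hs'⟩ := (MorphismProperty.map_eq_iff_precomp Q B.trW (𝟙 Z) 0).1 h0
    rw [Category.comp_id, comp_zero] at hs'
    subst hs'
    obtain ⟨C, g, h, hT, hC⟩ := hs
    have hT' := Pretriangulated.rot_of_distTriang _ hT
    obtain ⟨e, -, -⟩ := Pretriangulated.exists_iso_binaryBiproduct_of_distTriang _ hT' (by
      show -(shiftFunctor D (1 : ℤ)).map (0 : Z'' ⟶ Z) = 0
      rw [Functor.map_zero, neg_zero])
    exact ⟨(shiftFunctor D (1 : ℤ)).obj Z'', C, hC, ⟨e.symm⟩⟩
  · rintro ⟨Z', Y, hY, ⟨e⟩⟩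
    have hY0 : IsZero (Q.obj Y) := by
      open ZeroObject in
      have h1 : B.trW (0 : (0 : D) ⟶ Y) :=
        ObjectProperty.trW.mk B (Pretriangulated.contractible_distinguished₁ Y) hY
      open ZeroObject in
      haveI : IsIso (Q.map (0 : (0 : D) ⟶ Y)) := Localization.inverts Q B.trW _ h1
      open ZeroObject in
      have h0 : IsZero (Q.obj (0 : D)) := Q.map_isZero (isZero_zero D)
      open ZeroObject in
      exact h0.of_iso (asIso (Q.map (0 : (0 : D) ⟶ Y))).symm
    have hZZ : IsZero (Q.obj (Z ⊞ Z')) := hY0.of_iso (Q.mapIso e)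
    rw [IsZero.iff_id_eq_zero]
    have h2 : 𝟙 (Q.obj Z) = Q.map biprod.inl ≫ Q.map (biprod.fst : Z ⊞ Z' ⟶ Z) := by
      rw [← Q.map_comp, biprod.inl_fst, Q.map_id]
    rw [h2, hZZ.eq_of_tgt (Q.map biprod.inl) 0, zero_comp]

end Groth.Agent.S6604
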