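import Groth.Statements.S19191
import Mathlib
import Groth.Agent.S6604

set_option autoImplicit false
universe w v u v' u'
open CategoryTheory CategoryTheory.Limits CategoryTheory.Pretriangulated CategoryTheory.Triangulated
open CohDer

namespace Groth.Agent.S19191

/-- Let `A` be a commutative ring, `T` an `A`-linear triangulated category (octahedron axiom included;
shift functors `A`-linear), `U` a thick subcategory of `T` (a property of objects containing zero,
stable under shifts, extensions, isomorphisms and direct factors), and `Q : T ⥤ E` a localization of
`T` at the morphisms whose cone lies in `U` (the Verdier quotient `T/U`), where `E` is preadditive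
and `A`-linear and `Q` is `A`-linear. For an object `X` of `T` the following two conditions are
equivalent: (i) `X` lies in `U`; (ii) for every maximal ideal `m` of `A` the image of `X` in the
category obtained from `T/U` by tensoring the morphism modules with `A_m` is zero, i.e. some element
of `A` outside `m` annihilates the identity of `Q X`. (The published statement also lists a third
equivalent condition, phrased with idempotent completions of the localized categories; it is not
asserted here.) -/
theorem result
    {A : Type w} [CommRing A]
    {T : Type u} [Category.{v} T] [Preadditive T] [Linear A T] [HasZeroObject T] [HasShift T ℤ]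
    [∀ n : ℤ, (shiftFunctor T n).Additive] [∀ n : ℤ, (shiftFunctor T n).Linear A]
    [Pretriangulated T] [IsTriangulated T]
    (U : ObjectProperty T) [U.IsTriangulated] [U.IsClosedUnderIsomorphisms] [U.IsStableUnderRetracts]
    {E : Type u'} [Category.{v'} E] [Preadditive E] [Linear A E]
    (Q : T ⥤ E) [Q.Additive] [Q.Linear A] [Q.IsLocalization U.trW] (X : T) :
    U X ↔ ∀ m : Ideal A, m.IsMaximal → ∃ s : A, s ∉ m ∧ s • 𝟙 (Q.obj X) = 0 := by
  constructor
  · intro hX m hm
    refine ⟨1, fun h1 => hm.ne_top ((Ideal.eq_top_iff_one m).2 h1), ?_⟩
    have hz : IsZero (Q.obj X) := by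
      rw [Groth.Agent.S6604.result U Q X]
      obtain ⟨Z, hZ, hUZ⟩ := U.exists_prop_of_containsZero
      refine ⟨Z, X, hX, ⟨?_⟩⟩
      exact
        { hom := biprod.fst
          inv := biprod.inl
          hom_inv_id := by
            apply biprod.hom_ext
            · simp
            · exact hZ.eq_of_tgt _ _
          inv_hom_id := by simp }
    rw [one_smul]
    exact hz.eq_of_src _ _
  · intro H
    let I : Ideal A :=
      { carrier := {s : A | s • 𝟙 (Q.obj X) = 0}
        add_mem' := by
          intro a b ha hb
          show (a + b) • 𝟙 (Q.obj X) = 0
          rw [add_smul, ha, hb, add_zero]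
        zero_mem' := by
          show (0 : A) • 𝟙 (Q.obj X) = 0
          rw [zero_smul]
        smul_mem' := by
          intro c a ha
          show (c • a) • 𝟙 (Q.obj X) = 0
          rw [smul_assoc, ha, smul_zero] }
    have hI : I = ⊤ := by
      by_contra hne
      obtain ⟨m, hm, hIm⟩ := Ideal.exists_le_maximal I hne
      obtain ⟨s, hs, hs0⟩ := H m hm
      exact hs (hIm hs0)
    have h1 : (1 : A) ∈ I := by rw [hI]; trivial
    have h1' : (1 : A) • 𝟙 (Q.obj X) = 0 := h1
    rw [one_smul] at h1'
    have hz : IsZero (Q.obj X) := (IsZero.iff_id_eq_zero _).2 h1'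
    rw [Groth.Agent.S6604.result U Q X] at hz
    obtain ⟨Z', Y, hY, ⟨e⟩⟩ := hz
    have hXZ : U (X ⊞ Z') := U.prop_of_iso e.symm hY
    exact U.prop_of_retract ⟨biprod.inl, biprod.fst, by simp⟩ hXZ

end Groth.Agent.S19191
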