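import Groth.Statements.S19196
import Mathlib

set_option autoImplicit false
universe u
open RelS1

namespace Groth.Agent.S19196

/-- Let R be a Noetherian commutative ring and N a finitely generated R-module which fails Serre's
condition (S_1), in the sense that some associated prime of N is not a minimal prime of the
annihilator of N. Then there exist an element a of R lying in no minimal prime of the annihilator of
N and a nonzero element b of N with a • b = 0; thus the basic open set D(a) meets the support of N
densely while restriction to it is not injective on N. -/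
theorem result (R N : Type u) [CommRing R] [IsNoetherianRing R]
    [AddCommGroup N] [Module R N] [Module.Finite R N]
    (h : ¬ associatedPrimes R N ⊆ (Module.annihilator R N).minimalPrimes) :
    ∃ (a : R) (b : N), (∀ P ∈ (Module.annihilator R N).minimalPrimes, a ∉ P) ∧ b ≠ 0 ∧ a • b = 0 := by
  classical
  rw [Set.not_subset] at h
  obtain ⟨p, hpass, hpmin⟩ := h
  obtain ⟨hpprime, b, hpb⟩ := (isAssociatedPrime_iff.mp hpass)
  have hfin := Ideal.finite_minimalPrimes_of_isNoetherianRing R (Module.annihilator R N)
  have hb0 : b ≠ 0 := by
    rintro rfl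
    apply hpprime.ne_top
    rw [hpb, Ideal.eq_top_iff_one, Submodule.mem_colon_singleton]
    simp
  have hann : Module.annihilator R N ≤ p := by
    intro r hr
    rw [hpb, Submodule.mem_colon_singleton, Submodule.mem_bot]
    exact Module.mem_annihilator.mp hr b
  have hnot : ¬ ((p : Set R) ⊆ ⋃ q ∈ (↑hfin.toFinset : Set (Ideal R)), (q : Set R)) := by
    intro hsub
    rw [Ideal.subset_union_prime (f := fun q : Ideal R => q) ⊥ ⊥
      (fun q hq _ _ => (hfin.mem_toFinset.mp hq).1.1)] at hsub
    obtain ⟨q, hq, hpq⟩ := hsub
    have hqmin := hfin.mem_toFinset.mp hq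
    have : p = q := le_antisymm hpq (hqmin.2 ⟨hpprime, hann⟩ hpq)
    exact hpmin (this ▸ hqmin)
  rw [Set.not_subset] at hnot
  obtain ⟨a, hap, hanot⟩ := hnot
  refine ⟨a, b, ?_, hb0, ?_⟩
  · intro P hP haP
    apply hanot
    simp only [Set.mem_iUnion]
    exact ⟨P, by simpa using hP, haP⟩
  · have : a ∈ Submodule.colon (⊥ : Submodule R N) {b} := hpb ▸ hap
    rwa [Submodule.mem_colon_singleton, Submodule.mem_bot] at this

end Groth.Agent.S19196
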