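import Groth.Statements.S19210
import Mathlib

set_option autoImplicit false
universe u
open LocAlg

namespace Groth.Agent.S19210

theorem key (x : ℝ) (hx : 0 ≤ x) (j : ℕ) :
    x ^ (j + 1) + ((j : ℝ) + 1) * x ^ j ≤ (x + 1) ^ (j + 1) ∧
      (x + 1) ^ (j + 1) ≤ x ^ (j + 1) + ((j : ℝ) + 1) * (x + 1) ^ j := by
  induction j with
  | zero => simp
  | succ j ih =>
    obtain ⟨ih1, ih2⟩ := ih
    have hxj : 0 ≤ x ^ j := pow_nonneg hx j
    have hx1 : (0 : ℝ) ≤ x + 1 := by linarith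
    have hx1j : 0 ≤ (x + 1) ^ j := pow_nonneg hx1 j
    have hjn : (0 : ℝ) ≤ (j : ℝ) + 1 := by positivity
    constructor
    · have e : (x + 1) ^ (j + 1 + 1) = (x + 1) * (x + 1) ^ (j + 1) := by ring
      rw [e]
      push_cast
      have h := mul_le_mul_of_nonneg_left ih1 hx1
      have h' : 0 ≤ ((j : ℝ) + 1) * x ^ j := mul_nonneg hjn hxj
      have e2 : x ^ (j + 1 + 1) = x * x ^ (j + 1) := by ring
      have e3 : x ^ (j + 1) = x * x ^ j := by ring
      nlinarith [h, h', e2, e3]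
    · have e : (x + 1) ^ (j + 1 + 1) = x * (x + 1) ^ (j + 1) + (x + 1) ^ (j + 1) := by ring
      rw [e]
      push_cast
      have h := mul_le_mul_of_nonneg_left ih2 hx
      have h' : 0 ≤ ((j : ℝ) + 1) * (x + 1) ^ j := mul_nonneg hjn hx1j
      have e2 : x ^ (j + 1 + 1) = x * x ^ (j + 1) := by ring
      have e3 : (x + 1) ^ (j + 1) = (x + 1) * (x + 1) ^ j := by ring
      nlinarith [h, h', e2, e3]

theorem base (j : ℕ) (n : ℕ) :
    ((j : ℝ) + 1) * (∑ i ∈ Finset.range n, (i : ℝ) ^ j) ≤ (n : ℝ) ^ (j + 1) ∧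
      (n : ℝ) ^ (j + 1) ≤ ((j : ℝ) + 1) * ((∑ i ∈ Finset.range n, (i : ℝ) ^ j) + (n : ℝ) ^ j) := by
  induction n with
  | zero =>
    have hjn : (0 : ℝ) ≤ (j : ℝ) + 1 := by positivity
    constructor
    · simp
    · simp only [Finset.range_zero, Finset.sum_empty, zero_add, Nat.cast_zero]
      rw [zero_pow (Nat.succ_ne_zero j)]
      exact mul_nonneg hjn (pow_nonneg le_rfl j)
  | succ n ih =>
    obtain ⟨ih1, ih2⟩ := ih
    obtain ⟨k1, k2⟩ := key (n : ℝ) (Nat.cast_nonneg n) j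
    rw [Finset.sum_range_succ]
    push_cast
    constructor
    · nlinarith [ih1, k1]
    · nlinarith [ih2, k2]

theorem main (a : ℕ) : ∀ j : ℕ, ∃ C : ℝ, 0 ≤ C ∧ ∀ n : ℕ, 1 ≤ n →
    |(∑ i ∈ Finset.range n, ((n : ℝ) - (i : ℝ)) ^ a * (i : ℝ) ^ j) -
        (a.factorial : ℝ) * (j.factorial : ℝ) / ((a + j + 1).factorial : ℝ) * (n : ℝ) ^ (a + j + 1)|
      ≤ C * (n : ℝ) ^ (a + j) := by
  induction a with
  | zero =>
    intro j
    refine ⟨1, zero_le_one, fun n hn => ?_⟩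
    obtain ⟨b1, b2⟩ := base j n
    have hjn : (0 : ℝ) < (j : ℝ) + 1 := by positivity
    have hc : ((0 : ℕ).factorial : ℝ) * (j.factorial : ℝ) / ((0 + j + 1).factorial : ℝ)
        = 1 / ((j : ℝ) + 1) := by
      rw [zero_add, Nat.factorial_succ, Nat.factorial_zero]
      push_cast
      have hne : (j.factorial : ℝ) ≠ 0 := Nat.cast_ne_zero.mpr (Nat.factorial_ne_zero j)
      field_simp
    rw [hc]
    simp only [pow_zero, one_mul, zero_add]
    have hdiv : 1 / ((j : ℝ) + 1) * (n : ℝ) ^ (j + 1) = (n : ℝ) ^ (j + 1) / ((j : ℝ) + 1) := by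
      ring
    rw [hdiv, abs_le]
    have h1 : (∑ i ∈ Finset.range n, (i : ℝ) ^ j) ≤ (n : ℝ) ^ (j + 1) / ((j : ℝ) + 1) := by
      rw [le_div_iff₀ hjn]; linarith
    have h2 : (n : ℝ) ^ (j + 1) / ((j : ℝ) + 1) ≤
        (∑ i ∈ Finset.range n, (i : ℝ) ^ j) + (n : ℝ) ^ j := by
      rw [div_le_iff₀ hjn]; linarith
    constructor <;> linarith
  | succ a ih =>
    intro j
    obtain ⟨C1, hC1, h1⟩ := ih j
    obtain ⟨C2, hC2, h2⟩ := ih (j + 1)
    refine ⟨C1 + C2, by positivity, fun n hn => ?_⟩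
    have hA := h1 n hn
    have hB := h2 n hn
    have e1 : (∑ i ∈ Finset.range n, ((n : ℝ) - (i : ℝ)) ^ (a + 1) * (i : ℝ) ^ j)
        = (n : ℝ) * (∑ i ∈ Finset.range n, ((n : ℝ) - (i : ℝ)) ^ a * (i : ℝ) ^ j)
          - ∑ i ∈ Finset.range n, ((n : ℝ) - (i : ℝ)) ^ a * (i : ℝ) ^ (j + 1) := by
      rw [Finset.mul_sum, ← Finset.sum_sub_distrib]
      apply Finset.sum_congr rfl
      intro i _
      ring
    have e2 : ((a + 1).factorial : ℝ) * (j.factorial : ℝ) / ((a + 1 + j + 1).factorial : ℝ)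
        = (a.factorial : ℝ) * (j.factorial : ℝ) / ((a + j + 1).factorial : ℝ)
          - (a.factorial : ℝ) * ((j + 1).factorial : ℝ) / ((a + (j + 1) + 1).factorial : ℝ) := by
      have q1 : a + 1 + j + 1 = (a + j + 1) + 1 := by ring
      have q2 : a + (j + 1) + 1 = (a + j + 1) + 1 := by ring
      rw [q1, q2, Nat.factorial_succ (a + j + 1), Nat.factorial_succ a, Nat.factorial_succ j]
      push_cast
      have hne : ((a + j + 1).factorial : ℝ) ≠ 0 :=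
        Nat.cast_ne_zero.mpr (Nat.factorial_ne_zero _)
      have hne2 : ((a : ℝ) + j + 1 + 1) ≠ 0 := by positivity
      field_simp
      ring
    have hn0 : (0 : ℝ) ≤ (n : ℝ) := Nat.cast_nonneg n
    calc |(∑ i ∈ Finset.range n, ((n : ℝ) - (i : ℝ)) ^ (a + 1) * (i : ℝ) ^ j) -
          ((a + 1).factorial : ℝ) * (j.factorial : ℝ) / ((a + 1 + j + 1).factorial : ℝ)
            * (n : ℝ) ^ (a + 1 + j + 1)|
        = |(n : ℝ) * ((∑ i ∈ Finset.range n, ((n : ℝ) - (i : ℝ)) ^ a * (i : ℝ) ^ j) -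
            (a.factorial : ℝ) * (j.factorial : ℝ) / ((a + j + 1).factorial : ℝ)
              * (n : ℝ) ^ (a + j + 1))
          - ((∑ i ∈ Finset.range n, ((n : ℝ) - (i : ℝ)) ^ a * (i : ℝ) ^ (j + 1)) -
            (a.factorial : ℝ) * ((j + 1).factorial : ℝ) / ((a + (j + 1) + 1).factorial : ℝ)
              * (n : ℝ) ^ (a + (j + 1) + 1))| := by
          congr 1
          rw [e1, e2]
          ring
      _ ≤ |(n : ℝ) * ((∑ i ∈ Finset.range n, ((n : ℝ) - (i : ℝ)) ^ a * (i : ℝ) ^ j) -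
            (a.factorial : ℝ) * (j.factorial : ℝ) / ((a + j + 1).factorial : ℝ)
              * (n : ℝ) ^ (a + j + 1))|
          + |(∑ i ∈ Finset.range n, ((n : ℝ) - (i : ℝ)) ^ a * (i : ℝ) ^ (j + 1)) -
            (a.factorial : ℝ) * ((j + 1).factorial : ℝ) / ((a + (j + 1) + 1).factorial : ℝ)
              * (n : ℝ) ^ (a + (j + 1) + 1)| := abs_sub _ _
      _ ≤ (n : ℝ) * (C1 * (n : ℝ) ^ (a + j)) + C2 * (n : ℝ) ^ (a + (j + 1)) := by
          rw [abs_mul, abs_of_nonneg hn0]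
          exact add_le_add (mul_le_mul_of_nonneg_left hA hn0) hB
      _ = (C1 + C2) * (n : ℝ) ^ (a + 1 + j) := by ring

/-- For natural numbers j ≤ r, the sums Σ_{i=0}^{n−1} (n − i)^{r−j} i^j equal n^{r+1}·(r − j)!·j!/(r +
1)! up to O(n^r): there is a real constant C with |Σ_{i<n} (n − i)^{r−j} i^j − ((r − j)!·j!/(r +
1)!)·n^{r+1}| ≤ C·n^r for all n ≥ 1. -/
theorem result (r j : ℕ) (hj : j ≤ r) :
    ∃ C : ℝ, ∀ n : ℕ, 1 ≤ n →
      |(∑ i ∈ Finset.range n, ((n : ℝ) - (i : ℝ)) ^ (r - j) * (i : ℝ) ^ j) -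
          ((r - j).factorial : ℝ) * (j.factorial : ℝ) / ((r + 1).factorial : ℝ) * (n : ℝ) ^ (r + 1)| ≤
        C * (n : ℝ) ^ r := by
  obtain ⟨C, _, h⟩ := main (r - j) j
  refine ⟨C, fun n hn => ?_⟩
  have h' := h n hn
  have hr : r - j + j = r := Nat.sub_add_cancel hj
  rw [hr] at h'
  exact h'

end Groth.Agent.S19210
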