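import Groth.Statements.S19216
import Mathlib

set_option autoImplicit false
universe u
open SymRep

namespace Groth.Agent.S19216

/-- Let k be a field of characteristic zero and r, s ≥ 1. Realise the standard representation of the
symmetric group on a finite set T as the hyperplane of functions T → k with sum zero, the group
acting by precomposition with the inverse. Then the standard representation of the symmetric group
of Fin r ⊕ Fin s, restricted to the subgroup S_r × S_s, is isomorphic to the direct sum of the
standard representations of S_r and of S_s and of a one-dimensional trivial representation: there is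
a k-linear map E from functions on Fin r ⊕ Fin s to triples (function on Fin r, function on Fin s,
scalar), compatible with the actions of S_r × S_s (trivial on the scalar), which maps the sum-zero
hyperplane bijectively onto the product of the two sum-zero hyperplanes and k. (The published
statement is over the complex numbers; a field of characteristic zero is used here. The published
statement also gives the analogous decomposition for any number of blocks, which follows by
induction; only the two-block case is stated here.) -/
theorem result (k : Type u) [Field k] [CharZero k]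
    (r s : ℕ) (hr : 1 ≤ r) (hs : 1 ≤ s) :
    ∃ E : (Fin r ⊕ Fin s → k) →ₗ[k] (Fin r → k) × (Fin s → k) × k,
      (∀ (σ : Equiv.Perm (Fin r)) (τ : Equiv.Perm (Fin s)) (f : Fin r ⊕ Fin s → k),
        E (f ∘ ⇑(Equiv.sumCongr σ τ).symm) = ((E f).1 ∘ ⇑σ.symm, (E f).2.1 ∘ ⇑τ.symm, (E f).2.2)) ∧
      Set.BijOn E {f | ∑ i, f i = 0}
        ({g : Fin r → k | ∑ i, g i = 0} ×ˢ ({h : Fin s → k | ∑ i, h i = 0} ×ˢ Set.univ)) := by
  classical
  have hr0 : (r : k) ≠ 0 := by exact_mod_cast (by omega : r ≠ 0)
  have hs0 : (s : k) ≠ 0 := by exact_mod_cast (by omega : s ≠ 0)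
  let E : (Fin r ⊕ Fin s → k) →ₗ[k] (Fin r → k) × (Fin s → k) × k :=
    { toFun := fun f => (fun i => f (Sum.inl i) - (∑ j, f (Sum.inl j)) / r,
        fun i => f (Sum.inr i) - (∑ j, f (Sum.inr j)) / s, ∑ j, f (Sum.inl j))
      map_add' := by
        intro f g
        ext i
        · simp only [Pi.add_apply, Finset.sum_add_distrib, Prod.mk_add_mk]
          ring
        · simp only [Pi.add_apply, Finset.sum_add_distrib, Prod.mk_add_mk]
          ring
        · simp only [Pi.add_apply, Finset.sum_add_distrib, Prod.mk_add_mk]
      map_smul' := by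
        intro c f
        ext i
        · simp only [Pi.smul_apply, smul_eq_mul, ← Finset.mul_sum, RingHom.id_apply,
            Prod.smul_mk]
          ring
        · simp only [Pi.smul_apply, smul_eq_mul, ← Finset.mul_sum, RingHom.id_apply,
            Prod.smul_mk]
          ring
        · simp only [Pi.smul_apply, smul_eq_mul, ← Finset.mul_sum, RingHom.id_apply,
            Prod.smul_mk] }
  have hE : ∀ f, E f = (fun i => f (Sum.inl i) - (∑ j, f (Sum.inl j)) / r,
        fun i => f (Sum.inr i) - (∑ j, f (Sum.inr j)) / s, ∑ j, f (Sum.inl j)) := fun f => rfl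
  refine ⟨E, ?_, ?_, ?_, ?_⟩
  · intro σ τ f
    have h1 : ∑ j, (f ∘ ⇑(Equiv.sumCongr σ τ).symm) (Sum.inl j) = ∑ j, f (Sum.inl j) := by
      simp only [Function.comp_apply, Equiv.sumCongr_symm, Equiv.sumCongr_apply, Sum.map_inl]
      exact Equiv.sum_comp σ.symm (fun j => f (Sum.inl j))
    have h2 : ∑ j, (f ∘ ⇑(Equiv.sumCongr σ τ).symm) (Sum.inr j) = ∑ j, f (Sum.inr j) := by
      simp only [Function.comp_apply, Equiv.sumCongr_symm, Equiv.sumCongr_apply, Sum.map_inr]
      exact Equiv.sum_comp τ.symm (fun j => f (Sum.inr j))
    rw [hE, hE, h1, h2]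
    ext i
    · simp
    · simp
    · simp
  · intro f _
    rw [hE]
    refine ⟨?_, ?_, trivial⟩
    · show ∑ i, (f (Sum.inl i) - (∑ j, f (Sum.inl j)) / r) = 0
      rw [Finset.sum_sub_distrib, Finset.sum_const, Finset.card_univ, Fintype.card_fin,
        nsmul_eq_mul, mul_div_cancel₀ _ hr0, sub_self]
    · show ∑ i, (f (Sum.inr i) - (∑ j, f (Sum.inr j)) / s) = 0
      rw [Finset.sum_sub_distrib, Finset.sum_const, Finset.card_univ, Fintype.card_fin,
        nsmul_eq_mul, mul_div_cancel₀ _ hs0, sub_self]
  · intro f hf f' hf' hff
    have hg : E (f - f') = 0 := by rw [map_sub, hff, sub_self]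
    have hsum : ∑ i, (f - f') i = 0 := by
      simp only [Pi.sub_apply, Finset.sum_sub_distrib]
      rw [show ∑ i, f i = 0 from hf, show ∑ i, f' i = 0 from hf', sub_self]
    rw [hE] at hg
    simp only [Prod.mk_eq_zero] at hg
    obtain ⟨g1, g2, g3⟩ := hg
    rw [Fintype.sum_sum_type, g3, zero_add] at hsum
    have : f - f' = 0 := by
      ext x
      rcases x with i | i
      · have := congrFun g1 i
        simp only [Pi.zero_apply] at this
        rw [g3, zero_div, sub_zero] at this
        exact this
      · have := congrFun g2 i
        simp only [Pi.zero_apply] at this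
        rw [hsum, zero_div, sub_zero] at this
        exact this
    exact sub_eq_zero.mp this
  · rintro ⟨g, h, c⟩ ⟨hg, hh, _⟩
    have hg' : ∑ i, g i = 0 := hg
    have hh' : ∑ i, h i = 0 := hh
    refine ⟨Sum.elim (fun i => g i + c / r) (fun i => h i - c / s), ?_, ?_⟩
    · show ∑ x, Sum.elim (fun i => g i + c / r) (fun i => h i - c / s) x = 0
      rw [Fintype.sum_sum_type]
      simp only [Sum.elim_inl, Sum.elim_inr, Finset.sum_add_distrib, Finset.sum_sub_distrib,
        Finset.sum_const, Finset.card_univ, Fintype.card_fin, nsmul_eq_mul, hg', hh']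
      rw [mul_div_cancel₀ _ hr0, mul_div_cancel₀ _ hs0]
      ring
    · rw [hE]
      have h1 : ∑ j, (g j + c / r) = c := by
        rw [Finset.sum_add_distrib, hg', Finset.sum_const, Finset.card_univ, Fintype.card_fin,
          nsmul_eq_mul, mul_div_cancel₀ _ hr0, zero_add]
      have h2 : ∑ j, (h j - c / s) = -c := by
        rw [Finset.sum_sub_distrib, hh', Finset.sum_const, Finset.card_univ, Fintype.card_fin,
          nsmul_eq_mul, mul_div_cancel₀ _ hs0, zero_sub]
      simp only [Sum.elim_inl, Sum.elim_inr, h1, h2]
      ext i
      · simp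
      · simp only; ring
      · rfl

end Groth.Agent.S19216
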