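import Groth.Statements.S19223
import Mathlib
import Groth.Agent.Lib.helper2.GrpCohKernelIso
import Groth.Agent.Lib.helper2.HenselUnits

set_option autoImplicit false
attribute [local instance] Units.mulDistribMulActionRight
open GalCoh

namespace Groth.Agent.S19223

/-- For a strictly henselian local ring R whose residue field k has characteristic p ≥ 0, and a finite
group G of order prime to p acting on R by ring automorphisms (hence on the unit groups R^× and
k^×), consider the homomorphism H^n(G, R^×) → H^n(G, k^×) induced by the reduction map. It is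
bijective for every n ≥ 2; it is also bijective for n = 1 provided that p = 0 or the only p-power
root of unity in R is 1. (The reduction map on cohomology is pinned by its values on units; groups,
rings and modules are taken in the lowest universe, as integral coefficients in the group-cohomology
library require.) -/
theorem result (R : Type) [CommRing R]
    [HenselianLocalRing R] [IsSepClosed (IsLocalRing.ResidueField R)] (p : ℕ) [CharP (IsLocalRing.ResidueField R) p]
    (G : Type) [Group G] [Finite G] [MulSemiringAction G R] (hp : ¬ p ∣ Nat.card G)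
    (φ : Rep.ofMulDistribMulAction G Rˣ ⟶ Rep.ofMulDistribMulAction G (IsLocalRing.ResidueField R)ˣ)
    (hφ : ∀ x : Rˣ, Additive.toMul (φ.hom (Additive.ofMul x)) = Units.map (IsLocalRing.residue R).toMonoidHom x)
    (n : ℕ) (hn : 1 ≤ n) (h1 : n = 1 → p ≠ 0 → ∀ (ζ : Rˣ) (m : ℕ), ζ ^ p ^ m = 1 → ζ = 1) :
    Function.Bijective ((groupCohomology.functor ℤ G n).map φ).hom := by
  haveI : Fintype G := Fintype.ofFinite G
  have hcard : Nat.card G = Fintype.card G := Nat.card_eq_fintype_card
  rw [hcard] at hp
  have hN : ((Fintype.card G : ℕ) : IsLocalRing.ResidueField R) ≠ 0 := by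
    rw [Ne, CharP.cast_eq_zero_iff (IsLocalRing.ResidueField R) p]
    exact hp
  have hN0 : 0 < Fintype.card G := Fintype.card_pos
  have key : ∀ x : Rˣ, (show Additive (IsLocalRing.ResidueField R)ˣ from φ.hom (Additive.ofMul x))
      = Additive.ofMul (Units.map (IsLocalRing.residue R).toMonoidHom x) :=
    fun x => Additive.toMul.injective (hφ x)
  have hker : ∀ x : Rˣ, φ.hom (Additive.ofMul x) = 0 ↔
      IsLocalRing.residue R (x : R) = 1 := by
    intro x
    constructor
    · intro h
      have h2 : Additive.ofMul (Units.map (IsLocalRing.residue R).toMonoidHom x)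
          = (0 : Additive (IsLocalRing.ResidueField R)ˣ) := (key x).symm.trans h
      have h3 : Units.map (IsLocalRing.residue R).toMonoidHom x = 1 := ofMul_eq_zero.1 h2
      exact congrArg Units.val h3
    · intro h
      have h3 : Units.map (IsLocalRing.residue R).toMonoidHom x = 1 := by
        apply Units.ext
        exact h
      have h2 : Additive.ofMul (Units.map (IsLocalRing.residue R).toMonoidHom x)
          = (0 : Additive (IsLocalRing.ResidueField R)ˣ) := ofMul_eq_zero.2 h3
      exact (key x).trans h2
  have hpow : ∀ x : Rˣ, Fintype.card G • (Additive.ofMul x : Additive Rˣ) = 0 ↔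
      (x : R) ^ Fintype.card G = 1 := by
    intro x
    rw [← ofMul_pow, ofMul_eq_zero, Units.ext_iff, Units.val_pow_eq_pow_val]
    rfl
  apply Groth.Agent.H2.H2_map_bijective_of_kernel_divisible φ ?_ ?_ ?_ n hn
  · intro y
    let y' : (IsLocalRing.ResidueField R)ˣ :=
      Additive.toMul (show Additive (IsLocalRing.ResidueField R)ˣ from y)
    obtain ⟨r, hr⟩ := IsLocalRing.residue_surjective (y' : IsLocalRing.ResidueField R)
    have hru : IsUnit r := by
      apply (isUnit_map_iff (IsLocalRing.residue R) r).1
      rw [hr]
      exact y'.isUnit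
    refine ⟨Additive.ofMul hru.unit, ?_⟩
    refine (key hru.unit).trans ?_
    change Additive.ofMul _ = Additive.ofMul y'
    apply congrArg Additive.ofMul
    apply Units.ext
    exact hr
  · intro a ha haN
    let x : Rˣ := Additive.toMul (show Additive Rˣ from a)
    have hax : a = Additive.ofMul x := rfl
    rw [hax] at ha haN
    have h1 := Groth.Agent.H2.H2_eq_one_of_pow_eq_one (Fintype.card G) hN _
      ((hker x).1 ha) ((hpow x).1 haN)
    rw [hax]
    have h2 : x = 1 := Units.ext h1
    rw [h2]
    rfl
  · intro a ha
    let x : Rˣ := Additive.toMul (show Additive Rˣ from a)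
    have hax : a = Additive.ofMul x := rfl
    rw [hax] at ha
    obtain ⟨b, hb1, hbN⟩ := Groth.Agent.H2.H2_exists_root_residue_one (Fintype.card G) hN0 hN _
      ((hker x).1 ha)
    have hbu : IsUnit b := Groth.Agent.H2.H2_isUnit_of_residue_one b hb1
    refine ⟨Additive.ofMul hbu.unit, ?_, ?_⟩
    · exact (hker _).2 hb1
    · rw [hax]
      change (Fintype.card G • (Additive.ofMul hbu.unit : Additive Rˣ)) = Additive.ofMul x
      rw [← ofMul_pow]
      apply congrArg Additive.ofMul
      apply Units.ext
      rw [Units.val_pow_eq_pow_val]
      exact hbN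

end Groth.Agent.S19223
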