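import Groth.Statements.S19224
import Mathlib
import Groth.Agent.Lib.helper2.GrpCohH2Units

set_option autoImplicit false
open GalCoh

namespace Groth.Agent.S19224

/-- Let Q be a finite group such that H^3(Q, ℤ) = 0 for the trivial action, and let k be a separably
closed field of characteristic p ≥ 0 with p not dividing the order of Q. Then H^2(Q, k^×) = 0, where
Q acts trivially on the units of k. (Groups and fields are taken in the lowest universe, as integral
coefficients in the group-cohomology library require.) -/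
theorem result (Q : Type) [Group Q] [Finite Q]
    (hQ : Subsingleton (groupCohomology (Rep.trivial ℤ Q ℤ) 3)) (k : Type) [Field k] [IsSepClosed k]
    (p : ℕ) [CharP k p] (hp : ¬ p ∣ Nat.card Q) :
    Subsingleton (groupCohomology (Rep.trivial ℤ Q (Additive kˣ)) 2) := by
  haveI : Fintype Q := Fintype.ofFinite Q
  have hcard : Nat.card Q = Fintype.card Q := Nat.card_eq_fintype_card
  rw [hcard] at hp
  have hn0 : ((Fintype.card Q : ℕ) : k) ≠ 0 := by
    rw [Ne, CharP.cast_eq_zero_iff k p]
    exact hp
  haveI : NeZero ((Fintype.card Q : ℕ) : k) := ⟨hn0⟩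
  haveI : NeZero (Fintype.card Q) := ⟨Fintype.card_pos.ne'⟩
  obtain ⟨ζ, hζ⟩ := HasEnoughRootsOfUnity.exists_primitiveRoot k (Fintype.card Q)
  have hζu : IsUnit ζ := hζ.isUnit (NeZero.ne _)
  obtain ⟨ζu, rfl⟩ := hζu
  have hζ' : IsPrimitiveRoot ζu (Fintype.card Q) := IsPrimitiveRoot.coe_units_iff.mp hζ
  apply Groth.Agent.H2.H2_H2_trivial_subsingleton (Additive kˣ) hQ ?_ (Additive.ofMul ζu) ?_ ?_ ?_
  · intro x
    obtain ⟨z, hz⟩ := IsSepClosed.exists_pow_nat_eq ((Additive.toMul x : kˣ) : k) (Fintype.card Q)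
    have hz0 : z ≠ 0 := by
      rintro rfl
      rw [zero_pow (NeZero.ne _)] at hz
      exact (Additive.toMul x).ne_zero hz.symm
    refine ⟨Additive.ofMul (Units.mk0 z hz0), ?_⟩
    rw [← ofMul_pow]
    apply congrArg Additive.ofMul
    apply Units.ext
    rw [Units.val_pow_eq_pow_val, Units.val_mk0]
    exact hz
  · rw [← ofMul_pow, hζ'.pow_eq_one]
    rfl
  · intro x hx
    have hx' : (Additive.toMul x) ^ Fintype.card Q = 1 := by
      have := congrArg Additive.toMul hx
      rwa [toMul_nsmul, toMul_zero] at this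
    have hx'' : ((Additive.toMul x : kˣ) : k) ^ Fintype.card Q = 1 := by
      rw [← Units.val_pow_eq_pow_val, hx']
      rfl
    obtain ⟨i, _, hi⟩ := hζ.eq_pow_of_pow_eq_one hx''
    refine ⟨(i : ℤ), ?_⟩
    rw [← ofMul_zpow, zpow_natCast]
    have hi' : ζu ^ i = Additive.toMul x := by
      apply Units.ext
      rw [Units.val_pow_eq_pow_val]
      exact hi
    rw [hi']
    rfl
  · intro j hj
    have h1 : ζu ^ j = 1 := by
      have := congrArg Additive.toMul hj
      rwa [toMul_zsmul, toMul_zero, toMul_ofMul] at this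
    exact (hζ'.zpow_eq_one_iff_dvd j).1 h1

end Groth.Agent.S19224
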