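import Groth.Statements.S19229
import Mathlib

set_option autoImplicit false
universe u v
open SigmaLin

namespace Groth.Agent.S19229

/-- Let k be a field with a ring endomorphism σ, V a finite-dimensional k-vector space and T : V → V an
additive map with T (c • v) = σ c • T v. If some iterate of T sends v to 0 and v lies in the
k-linear span of the image of every iterate of T, then v = 0. In other words the union of the
kernels of the iterates of T and the intersection of the spans of their images meet only in 0. -/
theorem result
    (k : Type u) [Field k] (σ : k →+* k)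
    (V : Type v) [AddCommGroup V] [Module k V] [FiniteDimensional k V] (T : V →ₛₗ[σ] V) (v : V)
    (hnil : ∃ n : ℕ, (⇑T)^[n] v = 0)
    (hss : ∀ n : ℕ, v ∈ Submodule.span k (Set.range ((⇑T)^[n]))) : v = 0 := by
  classical
  -- the descending chain of spans
  let W : ℕ → Submodule k V := fun n => Submodule.span k (Set.range ((⇑T)^[n]))
  have hTW : ∀ n, ∀ w ∈ W n, T w ∈ W (n + 1) := by
    intro n w hw
    refine Submodule.span_induction (p := fun w _ => T w ∈ W (n + 1)) ?_ ?_ ?_ ?_ hw
    · rintro _ ⟨x, rfl⟩
      apply Submodule.subset_span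
      exact ⟨x, by rw [Function.iterate_succ_apply']⟩
    · simp
    · intro x y _ _ hx hy
      rw [map_add]; exact Submodule.add_mem _ hx hy
    · intro c x _ hx
      rw [LinearMap.map_smulₛₗ]; exact Submodule.smul_mem _ _ hx
  have hanti : Antitone W := by
    apply antitone_nat_of_succ_le
    intro n
    apply Submodule.span_le.mpr
    rintro _ ⟨x, rfl⟩
    apply Submodule.subset_span
    exact ⟨T x, by rw [Function.iterate_succ_apply]⟩
  -- stabilization
  obtain ⟨N, hN⟩ : ∃ N, ∀ m, N ≤ m → W N = W m := by
    have := (monotone_stabilizes_iff_artinian (R := k) (M := V)).mpr inferInstance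
    obtain ⟨N, hN⟩ := this ⟨fun n => OrderDual.toDual (W n), fun a b hab => hanti hab⟩
    exact ⟨N, fun m hm => congrArg OrderDual.ofDual (hN m hm)⟩
  -- W N ≤ span (T '' W N)
  have hspan : W N ≤ Submodule.span k (T '' (W N : Set V)) := by
    refine (hN (N + 1) (Nat.le_succ N)).le.trans ?_
    apply Submodule.span_le.mpr
    rintro _ ⟨x, rfl⟩
    apply Submodule.subset_span
    refine ⟨(⇑T)^[N] x, Submodule.subset_span ⟨x, rfl⟩, ?_⟩
    rw [Function.iterate_succ_apply']
  -- injectivity of T on W N
  have hinj : ∀ w ∈ W N, T w = 0 → w = 0 := by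
    let b := Module.finBasis k (W N)
    let u : Fin (Module.finrank k (W N)) → V := fun i => T (b i : V)
    have hTmem : ∀ w ∈ W N, T w ∈ Submodule.span k (Set.range u) := by
      intro w hw
      have hrepr := b.sum_repr ⟨w, hw⟩
      have hw' : w = ∑ i, (b.repr ⟨w, hw⟩ i) • (b i : V) := by
        have h := congrArg (fun z : W N => (z : V)) hrepr
        simp only [Submodule.coe_sum, Submodule.coe_smul] at h
        exact h.symm
      rw [hw', map_sum]
      refine Submodule.sum_mem _ fun i _ => ?_
      rw [LinearMap.map_smulₛₗ]
      exact Submodule.smul_mem _ _ (Submodule.subset_span ⟨i, rfl⟩)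
    have hle : W N ≤ Submodule.span k (Set.range u) := by
      refine hspan.trans (Submodule.span_le.mpr ?_)
      rintro _ ⟨w, hw, rfl⟩
      exact hTmem w hw
    have hli : LinearIndependent k u := by
      rw [linearIndependent_iff_card_eq_finrank_span, Fintype.card_fin]
      apply le_antisymm
      · exact Submodule.finrank_mono hle
      · have := finrank_range_le_card (R := k) u
        simpa using this
    intro w hw hTw
    have hrepr := b.sum_repr ⟨w, hw⟩
    have hw' : w = ∑ i, (b.repr ⟨w, hw⟩ i) • (b i : V) := by
      have h := congrArg (fun z : W N => (z : V)) hrepr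
      simp only [Submodule.coe_sum, Submodule.coe_smul] at h
      exact h.symm
    have hsum : ∑ i, σ (b.repr ⟨w, hw⟩ i) • u i = 0 := by
      rw [← hTw]
      conv_rhs => rw [hw', map_sum]
      simp only [LinearMap.map_smulₛₗ, u]
    have hcoef := Fintype.linearIndependent_iff.mp hli _ hsum
    have hzero : ∀ i, b.repr ⟨w, hw⟩ i = 0 := fun i =>
      (map_eq_zero σ).mp (hcoef i)
    rw [hw']
    simp [hzero]
  -- iterate
  have hmemN : ∀ j, (⇑T)^[j] v ∈ W N := by
    intro j
    induction j with
    | zero => exact hss N
    | succ j ih =>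
      rw [Function.iterate_succ_apply']
      rw [hN (N + 1) (Nat.le_succ N)]
      exact hTW N _ ih
  obtain ⟨n, hn⟩ := hnil
  induction n with
  | zero => exact hn
  | succ n ih =>
    apply ih
    rw [Function.iterate_succ_apply'] at hn
    exact hinj _ (hmemN n) hn

end Groth.Agent.S19229
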