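import Groth.Statements.S19237
import Mathlib
import Groth.Agent.H8WittT2
import Groth.Agent.H8Sig2

set_option autoImplicit false
universe u v
open SigmaLin

namespace Groth.Agent.S19237

/-- Let k be an algebraically closed field of characteristic p > 0 and n a natural number; let M be a
finitely generated module over the ring W_n(k) of truncated Witt vectors and T : M → M an additive
map with T (c • m) = σ(c) • T m, where σ is either the Frobenius endomorphism of W_n(k) (induced by
the p-th power map of k) or its inverse (induced by the inverse of the p-th power map). Then m ↦ T m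
− m is surjective on M. (The printed statement takes k perfect and separably closed, which is the
same as algebraically closed.) -/
theorem result
    (p : ℕ) [Fact p.Prime] (k : Type u) [Field k] [CharP k p] [IsAlgClosed k] (n : ℕ)
    (σ : TruncatedWittVector p n k →+* TruncatedWittVector p n k)
    (hσ : σ = WittGrp.truncMap p n (frobenius k p) ∨
      σ = WittGrp.truncMap p n (frobeniusEquiv k p).symm.toRingHom)
    (M : Type v) [AddCommGroup M] [Module (TruncatedWittVector p n k) M] [Module.Finite (TruncatedWittVector p n k) M]
    (T : M →ₛₗ[σ] M) :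
    Function.Surjective (fun m : M => T m - m) := by
  have key : ∀ (f : k →+* k), Function.Surjective f →
      (∀ (n : ℕ) (b : Fin (n + 1) → k), b ≠ 0 →
        ∃ x : k, x ≠ 0 ∧ x = ∑ i : Fin (n + 1), (⇑f)^[i.val + 1] x * (⇑f)^[i.val] (b (Fin.rev i))) →
      (∀ c : k, ∃ y : k, f y - y + c = 0) →
      ∀ T : M →ₛₗ[WittGrp.truncMap p n f] M, Function.Surjective (fun m : M => T m - m) := by
    intro f hfs h2 h3 T y
    obtain ⟨m, hm⟩ := H8WittT.sub_surjective_trunc p k n f hfs h2 h3 M T (-y)
    refine ⟨m, ?_⟩
    have hm' : m - T m = -y := hm
    show T m - m = y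
    rw [← neg_sub, hm', neg_neg]
  rcases hσ with rfl | rfl
  · exact key (frobenius k p) (bijective_frobenius k p).surjective
      (H8Sig.h2_pow p 1 Nat.one_pos (frobenius k p) (fun c => by rw [pow_one, frobenius_def]))
      (H8Sig.h3_pow p 1 Nat.one_pos (frobenius k p) (fun c => by rw [pow_one, frobenius_def])) T
  · exact key ((frobeniusEquiv k p).symm.toRingHom) (frobeniusEquiv k p).symm.surjective
      (H8Sig.h2_inv p) (H8Sig.h3_inv p) T

end Groth.Agent.S19237
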