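import Groth.Statements.S19238
import Mathlib
import Groth.Agent.H8WittT3
import Groth.Agent.H8Sig2

set_option autoImplicit false
universe u v
open SigmaLin

namespace Groth.Agent.S19238

/-- Let k be an algebraically closed field of characteristic p > 0 and n a natural number; let M be a
finitely generated module over the ring W_n(k) of truncated Witt vectors and T : M → M an additive
map with T (c • m) = σ(c) • T m, where σ is either the Frobenius endomorphism of W_n(k) or its
inverse. Then the set of T-fixed elements of M is finite. (The printed statement says that the
T-fixed elements form a finitely generated module over the σ-fixed subring of W_n(k), which is the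
finite ring of integers modulo p^n.) -/
theorem result
    (p : ℕ) [Fact p.Prime] (k : Type u) [Field k] [CharP k p] [IsAlgClosed k] (n : ℕ)
    (σ : TruncatedWittVector p n k →+* TruncatedWittVector p n k)
    (hσ : σ = WittGrp.truncMap p n (frobenius k p) ∨
      σ = WittGrp.truncMap p n (frobeniusEquiv k p).symm.toRingHom)
    (M : Type v) [AddCommGroup M] [Module (TruncatedWittVector p n k) M] [Module.Finite (TruncatedWittVector p n k) M]
    (T : M →ₛₗ[σ] M) :
    {m : M | T m = m}.Finite := by
  classical
  have hroots : {x : k | x ^ p = x}.Finite := by
    have hne : (Polynomial.X ^ p - Polynomial.X : Polynomial k) ≠ 0 :=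
      FiniteField.X_pow_card_sub_X_ne_zero k (Fact.out : p.Prime).one_lt
    refine ((Polynomial.X ^ p - Polynomial.X : Polynomial k).roots.toFinset.finite_toSet).subset ?_
    intro x hx
    have hx' : x ^ p = x := hx
    simp only [Finset.mem_coe, Multiset.mem_toFinset]
    rw [Polynomial.mem_roots hne, Polynomial.IsRoot.def]
    simp [hx']
  rcases hσ with rfl | rfl
  · refine H8WittT.finite_fixed_trunc p k n (frobenius k p)
      (H8Sig.h2_pow p 1 Nat.one_pos (frobenius k p) (fun c => by rw [pow_one, frobenius_def]))
      (H8Sig.h3_pow p 1 Nat.one_pos (frobenius k p) (fun c => by rw [pow_one, frobenius_def]))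
      ?_ M T
    refine hroots.subset ?_
    intro x hx
    have hx' : frobenius k p x = x := hx
    show x ^ p = x
    rw [← frobenius_def, hx']
  · refine H8WittT.finite_fixed_trunc p k n ((frobeniusEquiv k p).symm.toRingHom)
      (H8Sig.h2_inv p) (H8Sig.h3_inv p) ?_ M T
    refine hroots.subset ?_
    intro x hx
    have hx' : (frobeniusEquiv k p).symm x = x := hx
    show x ^ p = x
    have := congrArg (frobeniusEquiv k p) hx'
    rw [RingEquiv.apply_symm_apply, frobeniusEquiv_apply, frobenius_def] at this
    exact this.symm

end Groth.Agent.S19238
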