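import Groth.Statements.S19244
import Mathlib

set_option autoImplicit false
universe v v' u u'
open HomAlg3

namespace Groth.Agent.S19244


open CategoryTheory CategoryTheory.Limits Opposite


open CategoryTheory CategoryTheory.Limits Opposite

section
variable {A : Type u} [Category.{v} A] [Abelian A] {D : Type u'} [Category.{v'} D] [Preadditive D]
    (P : ObjectProperty A) (hP : ∀ X : A, P X ↔ ∃ n : ℤ, n ≠ 0 ∧ n • (𝟙 X) = 0) [P.IsSerreClass]
    (L : A ⥤ D) [L.Additive] [L.IsLocalization P.isoModSerre]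

include hP in
lemma isoModSerre_smul (X : A) (n : ℤ) (hn : n ≠ 0) : P.isoModSerre (n • 𝟙 X) := by
  constructor
  · change P (kernel (n • 𝟙 X))
    rw [hP]
    refine ⟨n, hn, ?_⟩
    rw [← cancel_mono (kernel.ι (n • 𝟙 X)), zero_comp, Preadditive.zsmul_comp, Category.id_comp]
    have := kernel.condition (n • 𝟙 X)
    rw [Preadditive.comp_zsmul, Category.comp_id] at this
    exact this
  · change P (cokernel (n • 𝟙 X))
    rw [hP]
    refine ⟨n, hn, ?_⟩
    rw [← cancel_epi (cokernel.π (n • 𝟙 X)), comp_zero, Preadditive.comp_zsmul, Category.comp_id]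
    have := cokernel.condition (n • 𝟙 X)
    rw [Preadditive.zsmul_comp, Category.id_comp] at this
    exact this

include hP in
lemma isIso_smul (X : A) (n : ℤ) (hn : n ≠ 0) : IsIso (n • 𝟙 (L.obj X)) := by
  have h := Localization.inverts L P.isoModSerre _ (isoModSerre_smul P hP X n hn)
  rw [L.map_zsmul, L.map_id] at h
  exact h

include hP in
lemma smul_bijective (X Y : A) (n : ℤ) (hn : n ≠ 0) :
    Function.Bijective (fun g : L.obj X ⟶ L.obj Y => n • g) := by
  haveI := isIso_smul P hP L Y n hn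
  have key : ∀ g : L.obj X ⟶ L.obj Y, n • g = g ≫ (n • 𝟙 (L.obj Y)) := by
    intro g; rw [Preadditive.comp_zsmul, Category.comp_id]
  constructor
  · intro g g' h
    simp only [key] at h
    exact (cancel_mono _).1 h
  · intro g
    refine ⟨g ≫ inv (n • 𝟙 (L.obj Y)), ?_⟩
    simp only [key, Category.assoc, IsIso.inv_hom_id, Category.comp_id]

include hP in
theorem main (X Y : A) :
    (∀ n : ℤ, n ≠ 0 → Function.Bijective (fun g : L.obj X ⟶ L.obj Y => n • g)) ∧
    (∀ f : X ⟶ Y, L.map f = 0 ↔ ∃ n : ℤ, n ≠ 0 ∧ n • f = 0) ∧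
    (∀ g : L.obj X ⟶ L.obj Y, ∃ (n : ℤ) (f : X ⟶ Y), n ≠ 0 ∧ n • g = L.map f) := by
  refine ⟨fun n hn => smul_bijective P hP L X Y n hn, ?_, ?_⟩
  · intro f
    constructor
    · intro h
      rw [ObjectProperty.SerreClassLocalization.map_eq_zero_iff L P, hP] at h
      obtain ⟨n, hn, h⟩ := h
      refine ⟨n, hn, ?_⟩
      have h5 : n • (Abelian.factorThruImage f ≫ Abelian.image.ι f) =
          Abelian.factorThruImage f ≫ (n • 𝟙 _) ≫ Abelian.image.ι f := by
        simp [Preadditive.comp_zsmul, Preadditive.zsmul_comp]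
      rw [← Abelian.image.fac f, h5, h, zero_comp, comp_zero]
    · rintro ⟨n, hn, h⟩
      apply (smul_bijective P hP L X Y n hn).1
      change n • L.map f = n • 0
      rw [← L.map_zsmul, h, L.map_zero, smul_zero]
  · intro g
    obtain ⟨φ, rfl⟩ := Localization.exists_leftFraction L P.isoModSerre g
    obtain ⟨n₁, hn₁, h₁⟩ := (hP _).1 φ.hs.1
    obtain ⟨n₂, hn₂, h₂⟩ := (hP _).1 φ.hs.2
    change n₁ • 𝟙 (kernel φ.s) = 0 at h₁
    change n₂ • 𝟙 (cokernel φ.s) = 0 at h₂
    -- u : Y' ⟶ image s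
    have hu : (n₂ • 𝟙 φ.Y') ≫ cokernel.π φ.s = 0 := by
      rw [Preadditive.zsmul_comp, Category.id_comp, ← Category.comp_id (cokernel.π φ.s),
        ← Preadditive.comp_zsmul, h₂, comp_zero]
    let u : φ.Y' ⟶ Abelian.image φ.s := kernel.lift _ _ hu
    have hu' : u ≫ Abelian.image.ι φ.s = n₂ • 𝟙 φ.Y' := kernel.lift_ι _ _ _
    have hv : kernel.ι φ.s ≫ (n₁ • 𝟙 Y) = 0 := by
      rw [Preadditive.comp_zsmul, Category.comp_id, ← Category.id_comp (kernel.ι φ.s),
        ← Preadditive.zsmul_comp, h₁, zero_comp]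
    let v : Abelian.coimage φ.s ⟶ Y := cokernel.desc _ _ hv
    have hv' : Abelian.coimage.π φ.s ≫ v = n₁ • 𝟙 Y := cokernel.π_desc _ _ _
    have hιu : Abelian.image.ι φ.s ≫ u = n₂ • 𝟙 _ := by
      rw [← cancel_mono (Abelian.image.ι φ.s), Category.assoc, hu', Preadditive.comp_zsmul,
        Category.comp_id, Preadditive.zsmul_comp, Category.id_comp]
    let t : φ.Y' ⟶ Y := u ≫ inv (Abelian.coimageImageComparison φ.s) ≫ v
    have hst : φ.s ≫ t = (n₂ * n₁) • 𝟙 Y := by
      have hfac := Abelian.coimage_image_factorisation φ.s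
      calc φ.s ≫ t = (Abelian.coimage.π φ.s ≫ Abelian.coimageImageComparison φ.s ≫
            Abelian.image.ι φ.s) ≫ t := by rw [hfac]
        _ = Abelian.coimage.π φ.s ≫ Abelian.coimageImageComparison φ.s ≫
            (Abelian.image.ι φ.s ≫ u) ≫ inv (Abelian.coimageImageComparison φ.s) ≫ v := by
          simp only [t, Category.assoc]
        _ = (n₂ * n₁) • 𝟙 Y := by
          rw [hιu]
          simp only [Preadditive.zsmul_comp, Preadditive.comp_zsmul, Category.id_comp,
            IsIso.hom_inv_id_assoc, hv', smul_smul]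
    refine ⟨n₂ * n₁, φ.f ≫ t, mul_ne_zero hn₂ hn₁, ?_⟩
    haveI : IsIso (L.map φ.s) := Localization.inverts L P.isoModSerre _ φ.hs
    have h3 : L.map φ.s ≫ L.map t = (n₂ * n₁) • 𝟙 (L.obj Y) := by
      rw [← L.map_comp, hst, L.map_zsmul, L.map_id]
    have h4 : φ.map L (Localization.inverts L P.isoModSerre) = L.map φ.f ≫ inv (L.map φ.s) := rfl
    rw [h4, L.map_comp, ← Preadditive.comp_zsmul]
    congr 1
    rw [← cancel_epi (L.map φ.s), Preadditive.comp_zsmul, IsIso.hom_inv_id, h3]

end

open CategoryTheory in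
/-- Let A be an abelian category and let P be the class of bounded-torsion objects of A, those X with n
• 𝟙_X = 0 for some nonzero integer n; assume P is a Serre class. Let L : A ⥤ D be an additive
functor to a preadditive category exhibiting D as the localization of A at the morphisms whose
kernel and cokernel are in P (so D is the quotient category A_ℚ = A ⧸ A_{b-tor}; the source assumes
A well-powered, which guarantees that this quotient exists). Then for all objects X, Y of A: (1) for
every nonzero integer n, multiplication by n is bijective on Hom_D(L X, L Y), so that this group is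
naturally a ℚ-vector space; (2) a morphism f : X ⟶ Y satisfies L f = 0 if and only if n • f = 0 for
some nonzero integer n; (3) for every g : L X ⟶ L Y there are a nonzero integer n and f : X ⟶ Y with
n • g = L f. Equivalently, the natural map Hom_A(X, Y) ⊗_ℤ ℚ → Hom_D(L X, L Y) is an isomorphism. -/
theorem result
    {A : Type u} [Category.{v} A] [Abelian A] {D : Type u'} [Category.{v'} D] [Preadditive D]
    (P : ObjectProperty A) (hP : ∀ X : A, P X ↔ ∃ n : ℤ, n ≠ 0 ∧ n • (𝟙 X) = 0) [P.IsSerreClass]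
    (L : A ⥤ D) [L.Additive] [L.IsLocalization P.isoModSerre] (X Y : A) :
    (∀ n : ℤ, n ≠ 0 → Function.Bijective (fun g : L.obj X ⟶ L.obj Y => n • g)) ∧
    (∀ f : X ⟶ Y, L.map f = 0 ↔ ∃ n : ℤ, n ≠ 0 ∧ n • f = 0) ∧
    (∀ g : L.obj X ⟶ L.obj Y, ∃ (n : ℤ) (f : X ⟶ Y), n ≠ 0 ∧ n • g = L.map f) := by
  exact main P hP L X Y

end Groth.Agent.S19244
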