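import Groth.Statements.S19246
import Groth.Agent.Lib.FlasqueTower

set_option autoImplicit false
universe u
open CohTop

namespace Groth.Agent.S19246

open CategoryTheory CategoryTheory.Limits TopologicalSpace Opposite Groth.Agent.FlasqueTower

theorem main {X : TopCat.{u}} (M : ℕᵒᵖ ⥤ CohTop.Ab X)
    (h1 : ∀ n : ℕ, TopCat.Sheaf.IsFlasque (M.obj (op n)))
    (h2 : ∀ n : ℕ, Epi (M.map (homOfLE (Nat.le_succ n)).op))
    (h3 : ∀ n : ℕ, TopCat.Sheaf.IsFlasque (kernel (M.map (homOfLE (Nat.le_succ n)).op) : CohTop.Ab X)) :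
    TopCat.Sheaf.IsFlasque (limit M : CohTop.Ab X) := by
  refine ⟨fun {U V} i => ?_⟩
  rw [AddCommGrpCat.epi_iff_surjective]
  intro s
  obtain ⟨U⟩ := U
  obtain ⟨V⟩ := V
  let sk : ∀ k : ℕ, (M.obj (op k)).obj.obj (op V) :=
    fun k => ((limit.π M (op k)).hom.app (op V)).hom s
  have hs : ∀ k : ℕ, ((M.map (homOfLE (Nat.le_succ k)).op).hom.app (op V)).hom (sk (k+1)) = sk k :=
    fun k => limit_π_compat M V s k
  have hres : ∀ k : ℕ, Function.Surjective ((M.obj (op k)).obj.map i).hom :=
    fun k => (AddCommGrpCat.epi_iff_surjective _).1 ((h1 k).epi i)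
  have hstep : ∀ (k : ℕ) (t : {t : (M.obj (op k)).obj.obj (op U) //
        ((M.obj (op k)).obj.map i).hom t = sk k}),
      ∃ t' : {t' : (M.obj (op (k+1))).obj.obj (op U) //
        ((M.obj (op (k+1))).obj.map i).hom t' = sk (k+1)},
        ((M.map (homOfLE (Nat.le_succ k)).op).hom.app (op U)).hom t'.1 = t.1 := by
    intro k t
    have := h2 k
    obtain ⟨t0, ht0⟩ := epi_sec_surj (M.map (homOfLE (Nat.le_succ k)).op) (h3 k) U t.1
    have hd : ((M.map (homOfLE (Nat.le_succ k)).op).hom.app (op V)).hom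
        (((M.obj (op (k+1))).obj.map i).hom t0 - sk (k+1)) = 0 := by
      rw [map_sub, nat_res, ht0, t.2, hs, sub_self]
    obtain ⟨κ0, hκ0⟩ := (ker_sec_exact (M.map (homOfLE (Nat.le_succ k)).op) V).1 _ hd
    obtain ⟨κ, rfl⟩ := (AddCommGrpCat.epi_iff_surjective _).1 ((h3 k).epi i) κ0
    refine ⟨⟨t0 - ((kernel.ι (M.map (homOfLE (Nat.le_succ k)).op)).hom.app (op U)).hom κ, ?_⟩, ?_⟩
    · rw [map_sub, ← nat_res (kernel.ι (M.map (homOfLE (Nat.le_succ k)).op)) i κ, hκ0]
      abel
    · change ((M.map (homOfLE (Nat.le_succ k)).op).hom.app (op U)).hom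
        (t0 - ((kernel.ι (M.map (homOfLE (Nat.le_succ k)).op)).hom.app (op U)).hom κ) = t.1
      rw [map_sub, ht0, (ker_sec_exact (M.map (homOfLE (Nat.le_succ k)).op) U).2 κ, sub_zero]
  obtain ⟨t00, ht00⟩ := hres 0 (sk 0)
  let seq : ∀ k : ℕ, {t : (M.obj (op k)).obj.obj (op U) //
      ((M.obj (op k)).obj.map i).hom t = sk k} :=
    fun k => Nat.rec ⟨t00, ht00⟩ (fun k y => Classical.choose (hstep k y)) k
  have hseq : ∀ k, ((M.map (homOfLE (Nat.le_succ k)).op).hom.app (op U)).hom (seq (k+1)).1 =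
      (seq k).1 := fun k => Classical.choose_spec (hstep k (seq k))
  obtain ⟨x, hx⟩ := exists_section_limit M U (fun k => (seq k).1) hseq
  refine ⟨x, ?_⟩
  refine section_limit_ext M V _ _ (fun k => ?_)
  rw [limit_π_res, hx]
  exact (seq k).2

open CategoryTheory CategoryTheory.Limits TopologicalSpace Opposite in
/-- Let X be a topological space and (M_n)_{n ≥ 0} an inverse system of abelian sheaves on X indexed by
the natural numbers, such that every M_n is flasque and every transition map M_{n+1} ⟶ M_n is an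
epimorphism of sheaves with flasque kernel. Then the limit sheaf lim_n M_n is flasque. (The source's
statement is about flasque de Rham–Witt systems on a scheme, whose definition is exactly this
condition on the underlying tower of abelian sheaves; the additional structure plays no role in the
assertion or its proof, so the row is stated for towers of abelian sheaves on any space.) -/
theorem result {X : TopCat.{u}} (M : ℕᵒᵖ ⥤ CohTop.Ab X) :
    (∀ n : ℕ, TopCat.Sheaf.IsFlasque (M.obj (op n))) →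
      (∀ n : ℕ, Epi (M.map (homOfLE (Nat.le_succ n)).op)) →
      (∀ n : ℕ, TopCat.Sheaf.IsFlasque (kernel (M.map (homOfLE (Nat.le_succ n)).op) : CohTop.Ab X)) →
      TopCat.Sheaf.IsFlasque (limit M : CohTop.Ab X) := by
  intro h1 h2 h3
  exact main M h1 h2 h3

end Groth.Agent.S19246
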