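import Groth.Statements.S19247
import Groth.Agent.Lib.FlasqueTower

set_option autoImplicit false
universe u
open CohTop

namespace Groth.Agent.S19247

open CategoryTheory CategoryTheory.Limits TopologicalSpace Opposite Groth.Agent.FlasqueTower

theorem main {X : TopCat.{u}}
    (S : ShortComplex (ℕᵒᵖ ⥤ CohTop.Ab X)) (hS : S.ShortExact)
    (h1 : ∀ n : ℕ, TopCat.Sheaf.IsFlasque (S.X₁.obj (op n)))
    (h2 : ∀ n : ℕ, Epi (S.X₁.map (homOfLE (Nat.le_succ n)).op))
    (h3 : ∀ n : ℕ, TopCat.Sheaf.IsFlasque (kernel (S.X₁.map (homOfLE (Nat.le_succ n)).op) : CohTop.Ab X)) :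
    Epi (limMap S.g) := by
  rw [← Sheaf.isLocallySurjective_iff_epi']
  refine Presheaf.isLocallySurjective_of_surjective _ _ (fun W => ?_)
  obtain ⟨V⟩ := W
  intro z
  -- levelwise short exact sequences
  have hlev : ∀ k : ℕ, (S.map ((evaluation ℕᵒᵖ (CohTop.Ab X)).obj (op k))).ShortExact :=
    fun k => hS.map_of_exact _
  have hex := fun k => sec_exact _ (hlev k) V
  have hsurj : ∀ k : ℕ, Function.Surjective ((S.g.app (op k)).hom.app (op V)).hom := by
    intro k
    have : TopCat.Sheaf.IsFlasque (S.map ((evaluation ℕᵒᵖ (CohTop.Ab X)).obj (op k))).X₁ := h1 k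
    exact sec_surj _ (hlev k) V
  have htr : ∀ k : ℕ, Function.Surjective
      ((S.X₁.map (homOfLE (Nat.le_succ k)).op).hom.app (op V)).hom := by
    intro k
    have := h2 k
    exact epi_sec_surj _ (h3 k) V
  let zk : ∀ k : ℕ, (S.X₃.obj (op k)).obj.obj (op V) :=
    fun k => ((limit.π S.X₃ (op k)).hom.app (op V)).hom z
  have hz : ∀ k : ℕ, ((S.X₃.map (homOfLE (Nat.le_succ k)).op).hom.app (op V)).hom (zk (k+1)) = zk k :=
    fun k => limit_π_compat S.X₃ V z k
  have hstep : ∀ (k : ℕ) (y : {y : (S.X₂.obj (op k)).obj.obj (op V) //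
        ((S.g.app (op k)).hom.app (op V)).hom y = zk k}),
      ∃ y' : {y : (S.X₂.obj (op (k+1))).obj.obj (op V) //
        ((S.g.app (op (k+1))).hom.app (op V)).hom y = zk (k+1)},
        ((S.X₂.map (homOfLE (Nat.le_succ k)).op).hom.app (op V)).hom y'.1 = y.1 := by
    intro k y
    obtain ⟨y0, hy0⟩ := hsurj (k+1) (zk (k+1))
    have hd : ((S.g.app (op k)).hom.app (op V)).hom
        (((S.X₂.map (homOfLE (Nat.le_succ k)).op).hom.app (op V)).hom y0 - y.1) = 0 := by
      rw [map_sub, nat_tower, hy0, hz, y.2, sub_self]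
    obtain ⟨a, ha⟩ := (hex k).2.1 _ hd
    obtain ⟨a', rfl⟩ := htr k a
    refine ⟨⟨y0 - ((S.f.app (op (k+1))).hom.app (op V)).hom a', ?_⟩, ?_⟩
    · rw [map_sub, hy0]
      have h0 := (hex (k+1)).2.2 a'
      change ((S.g.app (op (k+1))).hom.app (op V)).hom
        (((S.f.app (op (k+1))).hom.app (op V)).hom a') = 0 at h0
      rw [h0, sub_zero]
    · change ((S.X₂.map (homOfLE (Nat.le_succ k)).op).hom.app (op V)).hom
        (y0 - ((S.f.app (op (k+1))).hom.app (op V)).hom a') = y.1
      rw [map_sub, ← nat_tower]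
      have ha' : ((S.f.app (op k)).hom.app (op V)).hom
          (((S.X₁.map (homOfLE (Nat.le_succ k)).op).hom.app (op V)).hom a') =
          ((S.X₂.map (homOfLE (Nat.le_succ k)).op).hom.app (op V)).hom y0 - y.1 := ha
      rw [ha']
      abel
  obtain ⟨y00, hy00⟩ := hsurj 0 (zk 0)
  let seq : ∀ k : ℕ, {y : (S.X₂.obj (op k)).obj.obj (op V) //
      ((S.g.app (op k)).hom.app (op V)).hom y = zk k} :=
    fun k => Nat.rec ⟨y00, hy00⟩ (fun k y => Classical.choose (hstep k y)) k
  have hseq : ∀ k, ((S.X₂.map (homOfLE (Nat.le_succ k)).op).hom.app (op V)).hom (seq (k+1)).1 =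
      (seq k).1 := fun k => Classical.choose_spec (hstep k (seq k))
  obtain ⟨x, hx⟩ := exists_section_limit S.X₂ V (fun k => (seq k).1) hseq
  refine ⟨x, ?_⟩
  refine section_limit_ext S.X₃ V _ _ (fun k => ?_)
  have h1 : (limMap S.g).hom.app (op V) ≫ (limit.π S.X₃ (op k)).hom.app (op V) =
      (limit.π S.X₂ (op k)).hom.app (op V) ≫ (S.g.app (op k)).hom.app (op V) := by
    rw [← NatTrans.comp_app, ← NatTrans.comp_app]
    exact congrArg (fun ψ => ψ.hom.app (op V)) (limMap_π S.g (op k))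
  have h2 := congrArg (fun ψ => ψ.hom x) h1
  change ((limit.π S.X₃ (op k)).hom.app (op V)).hom (((limMap S.g).hom.app (op V)).hom x) =
    ((S.g.app (op k)).hom.app (op V)).hom (((limit.π S.X₂ (op k)).hom.app (op V)).hom x) at h2
  change ((limit.π S.X₃ (op k)).hom.app (op V)).hom (((limMap S.g).hom.app (op V)).hom x) = zk k
  rw [h2, hx, (seq k).2]

open CategoryTheory CategoryTheory.Limits TopologicalSpace Opposite in
/-- Let X be a topological space and S : 0 ⟶ M' ⟶ M ⟶ M'' ⟶ 0 a short exact sequence of ℕ-indexed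
inverse systems of abelian sheaves on X (short exact in the abelian category of such systems, i.e.
levelwise), such that each of M', M, M'' is a flasque tower: every term is flasque and every
transition map is an epimorphism of sheaves with flasque kernel. Then the induced map lim M ⟶ lim
M'' is an epimorphism of sheaves, so that, lim being left exact, the sequence 0 ⟶ lim M' ⟶ lim M ⟶
lim M'' ⟶ 0 is exact. (The source's statement is the exactness of lim on flasque de Rham–Witt
systems on a scheme; the de Rham–Witt structure plays no role, so the row is stated for towers of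
abelian sheaves on any space.) -/
theorem result {X : TopCat.{u}}
    (S : ShortComplex (ℕᵒᵖ ⥤ CohTop.Ab X)) (hS : S.ShortExact) :
    (∀ n : ℕ, TopCat.Sheaf.IsFlasque (S.X₁.obj (op n))) →
      (∀ n : ℕ, Epi (S.X₁.map (homOfLE (Nat.le_succ n)).op)) →
      (∀ n : ℕ, TopCat.Sheaf.IsFlasque (kernel (S.X₁.map (homOfLE (Nat.le_succ n)).op) : CohTop.Ab X)) →
    (∀ n : ℕ, TopCat.Sheaf.IsFlasque (S.X₂.obj (op n))) →
      (∀ n : ℕ, Epi (S.X₂.map (homOfLE (Nat.le_succ n)).op)) →
      (∀ n : ℕ, TopCat.Sheaf.IsFlasque (kernel (S.X₂.map (homOfLE (Nat.le_succ n)).op) : CohTop.Ab X)) →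
    (∀ n : ℕ, TopCat.Sheaf.IsFlasque (S.X₃.obj (op n))) →
      (∀ n : ℕ, Epi (S.X₃.map (homOfLE (Nat.le_succ n)).op)) →
      (∀ n : ℕ, TopCat.Sheaf.IsFlasque (kernel (S.X₃.map (homOfLE (Nat.le_succ n)).op) : CohTop.Ab X)) →
      Epi (limMap S.g) := by
  intro h1 h2 h3 _ _ _ _ _ _
  exact main S hS h1 h2 h3

end Groth.Agent.S19247
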