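import Groth.Statements.S19264
import Mathlib
import Groth.Agent.Lib.helper9.H9_WittFil2

set_option autoImplicit false
universe u
open WittFil

namespace Groth.Agent.S19264

/-- Let A be a unique factorisation domain of characteristic p, x_1, …, x_r pairwise non-associate prime
elements of A, B = A[1/(x_1⋯x_r)] with u_i the unit of B defined by x_i, n ∈ ℤ^r and m ≥ 0. The
restriction map from truncated p-typical Witt vectors of length m+1 to those of length m over B
(forgetting the last coordinate) maps the filtered piece cut out by ∏ u_i ^ n_i onto the filtered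
piece cut out by ∏ u_i ^ ⌊n_i / p⌋; that is, the image is exactly that piece. (The other parts of
the exact sequence, injectivity of the (m-fold) Verschiebung from the fractional ideal generated by
(∏ u_i ^ n_i)⁻¹ and exactness in the middle, are immediate from the definition and are not restated.
The published setting is a regular local ring; only unique factorisation is used.) -/
theorem result (p : ℕ) [Fact p.Prime] {A B : Type u} [CommRing A] [IsDomain A]
    [UniqueFactorizationMonoid A] [CharP A p] [CommRing B] [Algebra A B] {r : ℕ} (x : Fin r → A)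
    (hx : ∀ i, Prime (x i)) (hxa : ∀ i j, Associated (x i) (x j) → i = j)
    [IsLocalization.Away (∏ i, x i) B] (u : Fin r → Bˣ)
    (hu : ∀ i, (u i : B) = algebraMap A B (x i)) (n : Fin r → ℤ) (m : ℕ) :
    (TruncatedWittVector.truncate (Nat.le_succ m)) '' WittFil.fil p (m + 1) (A := A) (WittFil.zmon u n) =
      WittFil.fil p m (A := A) (WittFil.zmon u (fun i => n i / (p : ℤ))) := by
  classical
  have hp : p.Prime := Fact.out
  have hp0 : (p : ℤ) ≠ 0 := by exact_mod_cast hp.ne_zero
  have hz : WittFil.zmon u n = (WittFil.zmon u (fun i => n i / (p : ℤ))) ^ p *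
      algebraMap A B (∏ i, x i ^ (n i % (p : ℤ)).toNat) := by
    unfold WittFil.zmon
    rw [map_prod, ← Units.val_pow_eq_pow_val, ← Finset.prod_pow, Units.coe_prod, Units.coe_prod,
      ← Finset.prod_mul_distrib]
    refine Finset.prod_congr rfl ?_
    intro i _
    rw [map_pow, ← hu, ← Units.val_pow_eq_pow_val, ← Units.val_mul, ← zpow_natCast,
      ← zpow_natCast, ← zpow_mul, ← zpow_add, Int.toNat_of_nonneg (Int.emod_nonneg _ hp0)]
    congr 2
    rw [mul_comm]
    exact (Int.mul_ediv_add_emod _ _).symm
  have hlt : ∀ i, (n i % (p : ℤ)).toNat < p := by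
    intro i
    have h1 := Int.emod_lt_of_pos (n i) (by exact_mod_cast hp.pos : (0 : ℤ) < p)
    have h2 := Int.emod_nonneg (n i) hp0
    omega
  ext b
  constructor
  · rintro ⟨a, ha, rfl⟩
    intro j
    rw [TruncatedWittVector.coeff_truncate]
    have h1 := ha (Fin.castLE (Nat.le_succ m) j)
    apply H9_WittFil.mem_range_of_pow_mul_mem x hx hxa p (fun i => (n i % (p : ℤ)).toNat) hlt
    rw [mul_pow, ← pow_mul, mul_assoc, ← hz]
    have e : p ^ (m + 1 - 1 - ((Fin.castLE (Nat.le_succ m) j : Fin (m + 1)) : ℕ)) =
        p ^ (m - 1 - (j : ℕ)) * p := by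
      have := j.2
      rw [← pow_succ]
      congr 1
      simp only [Fin.val_castLE]
      omega
    rw [e] at h1
    exact h1
  · intro hb
    refine ⟨TruncatedWittVector.mk p
      (fun i : Fin (m + 1) => if h : (i : ℕ) < m then b.coeff ⟨i, h⟩ else 0), ?_, ?_⟩
    · intro j
      rw [TruncatedWittVector.coeff_mk]
      split_ifs with h
      · have h1 := hb ⟨j, h⟩
        rw [hz]
        have e : p ^ (m + 1 - 1 - (j : ℕ)) = p ^ (m - 1 - (j : ℕ)) * p := by
          rw [← pow_succ]
          congr 1
          omega
        rw [e, pow_mul, ← mul_assoc, ← mul_pow]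
        exact mul_mem (pow_mem h1 _) ⟨_, rfl⟩
      · rw [zero_pow (pow_pos hp.pos _).ne', zero_mul]
        exact zero_mem _
    · ext j
      rw [TruncatedWittVector.coeff_truncate, TruncatedWittVector.coeff_mk]
      simp [j.2]

end Groth.Agent.S19264
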