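import Groth.Statements.S19267
import Mathlib
import Groth.Agent.Lib.helper9.H9_Witt

set_option autoImplicit false
universe u
open WittFil

namespace Groth.Agent.S19267

/-- Let A → B be a homomorphism of commutative rings, u a unit of B, m ≥ 0 and n, l integers. For an
element c of B call the filtered piece cut out by c the set of truncated p-typical Witt vectors of
length m over B whose j-th coordinate y_j satisfies: y_j ^ (p ^ (m-1-j)) · c lies in the image of A,
for every j < m. Then the piece cut out by u ^ (n − p^(m−1)·l) is exactly the image of the piece cut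
out by u ^ n under multiplication by the truncated Teichmüller representative [u ^ l]. (The
published case is B = S[[π]][1/π] over A = S[[π]] with u = π; the computation is the same in
general.) -/
theorem result (p : ℕ) [Fact p.Prime] {A B : Type u}
    [CommRing A] [CommRing B] [Algebra A B] (m : ℕ) (u : Bˣ) (n l : ℤ) :
    WittFil.fil p m (A := A) ((u ^ (n - (p : ℤ) ^ (m - 1) * l) : Bˣ) : B) =
      (fun a => WittVector.truncate m (WittVector.teichmuller p ((u ^ l : Bˣ) : B)) * a) ''
        WittFil.fil p m (A := A) ((u ^ n : Bˣ) : B) := by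
  have hcoeff : ∀ (k : ℤ) (a : TruncatedWittVector p m B) (j : Fin m),
      TruncatedWittVector.coeff j
        (WittVector.truncate m (WittVector.teichmuller p ((u ^ k : Bˣ) : B)) * a) =
      ((u ^ k : Bˣ) : B) ^ p ^ (j : ℕ) * TruncatedWittVector.coeff j a := by
    intro k a j
    obtain ⟨x, rfl⟩ := WittVector.truncate_surjective (p := p) m B a
    rw [← map_mul, WittVector.coeff_truncate, WittVector.coeff_truncate,
      H9_Witt.teichmuller_mul_coeff]
  have hexp : ∀ j : Fin m, p ^ (j : ℕ) * p ^ (m - 1 - (j : ℕ)) = p ^ (m - 1) := by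
    intro j
    have := j.2
    rw [← pow_add]
    congr 1
    omega
  have hpow : ∀ (k : ℤ) (j : Fin m),
      (((u ^ k : Bˣ) : B) ^ p ^ (j : ℕ)) ^ p ^ (m - 1 - (j : ℕ)) =
        ((u ^ (k * (p : ℤ) ^ (m - 1)) : Bˣ) : B) := by
    intro k j
    rw [← pow_mul, hexp j, ← Units.val_pow_eq_pow_val, ← zpow_natCast, ← zpow_mul]
    push_cast
    rfl
  ext y
  constructor
  · intro hy
    refine ⟨WittVector.truncate m (WittVector.teichmuller p ((u ^ (-l) : Bˣ) : B)) * y, ?_, ?_⟩
    · intro j
      have h := hy j
      rw [hcoeff, mul_pow, hpow]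
      have e : ((u ^ (-l * (p : ℤ) ^ (m - 1)) : Bˣ) : B) * ((u ^ n : Bˣ) : B) =
          ((u ^ (n - (p : ℤ) ^ (m - 1) * l) : Bˣ) : B) := by
        rw [← Units.val_mul, ← zpow_add]
        congr 2
        ring
      rw [mul_comm _ (TruncatedWittVector.coeff j y ^ _), mul_assoc, e]
      exact h
    · change WittVector.truncate m (WittVector.teichmuller p ((u ^ l : Bˣ) : B)) *
        (WittVector.truncate m (WittVector.teichmuller p ((u ^ (-l) : Bˣ) : B)) * y) = y
      rw [← mul_assoc, ← map_mul, ← map_mul, ← Units.val_mul, ← zpow_add]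
      simp
  · rintro ⟨a, ha, rfl⟩
    intro j
    have h := ha j
    change TruncatedWittVector.coeff j
      (WittVector.truncate m (WittVector.teichmuller p ((u ^ l : Bˣ) : B)) * a) ^
        p ^ (m - 1 - (j : ℕ)) * _ ∈ _
    rw [hcoeff, mul_pow, hpow]
    have e : ((u ^ (l * (p : ℤ) ^ (m - 1)) : Bˣ) : B) *
        ((u ^ (n - (p : ℤ) ^ (m - 1) * l) : Bˣ) : B) = ((u ^ n : Bˣ) : B) := by
      rw [← Units.val_mul, ← zpow_add]
      congr 2
      ring
    rw [mul_comm _ (TruncatedWittVector.coeff j a ^ _), mul_assoc, e]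
    exact h

end Groth.Agent.S19267
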