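import Groth.Statements.S19272
import Mathlib
import Groth.Agent.Lib.helper9.H9_WittFil

set_option autoImplicit false
universe u
open WittFil

namespace Groth.Agent.S19272

/-- Let A be a unique factorisation domain of characteristic p, x_1, …, x_r pairwise non-associate prime
elements of A, B = A[1/(x_1⋯x_r)] with u_i the unit of B defined by x_i, m ≥ 0, and n ∈ ℤ^r with n_i
< 0 for every i. Then every truncated p-typical Witt vector of length m over B lying in the filtered
piece cut out by ∏ u_i ^ n_i (every coordinate y_j has y_j ^ (p ^ (m−1−j)) · ∏ u_i ^ n_i in the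
image of A) has all its coordinates in the image of the ideal (x_1⋯x_r)·A. (The published item,
stated for the filtered de Rham–Witt pieces in all degrees over a regular local ring, says only that
such vectors have all coordinates in A; this row states the divisibility of every coordinate by
x_1⋯x_r that its proof establishes, in degree zero, for a unique factorisation domain in place of a
regular local ring.) -/
theorem result (p : ℕ) [Fact p.Prime] {A B : Type u} [CommRing A] [IsDomain A]
    [UniqueFactorizationMonoid A] [CharP A p] [CommRing B] [Algebra A B] {r : ℕ} (x : Fin r → A)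
    (hx : ∀ i, Prime (x i)) (hxa : ∀ i j, Associated (x i) (x j) → i = j)
    [IsLocalization.Away (∏ i, x i) B] (u : Fin r → Bˣ)
    (hu : ∀ i, (u i : B) = algebraMap A B (x i)) (m : ℕ) (n : Fin r → ℤ) (hn : ∀ i, n i < 0)
    (a : TruncatedWittVector p m B) (ha : a ∈ WittFil.fil p m (A := A) (WittFil.zmon u n))
    (j : Fin m) :
    ∃ b : A, TruncatedWittVector.coeff j a = algebraMap A B ((∏ i, x i) * b) := by
  have hπ : (∏ i, x i) ≠ 0 := Finset.prod_ne_zero_iff.mpr fun i _ => (hx i).ne_zero
  have hinj := H9_WittFil.algebraMap_injective (B := B) (∏ i, x i) hπ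
  obtain ⟨a0, ha0⟩ := ha j
  have hz : WittFil.zmon u n * algebraMap A B (∏ i, x i ^ (-n i).toNat) = 1 := by
    unfold WittFil.zmon
    rw [map_prod, Units.coe_prod, ← Finset.prod_mul_distrib]
    apply Finset.prod_eq_one
    intro i _
    rw [map_pow, ← hu, ← Units.val_pow_eq_pow_val, ← Units.val_mul, ← zpow_natCast, ← zpow_add,
      Int.toNat_of_nonneg (by have := hn i; omega)]
    simp
  have hy : (TruncatedWittVector.coeff j a) ^ p ^ (m - 1 - (j : ℕ)) =
      algebraMap A B (a0 * ∏ i, x i ^ (-n i).toNat) := by
    rw [map_mul, ha0, mul_assoc, hz, mul_one]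
  obtain ⟨y0, hy0⟩ := H9_WittFil.mem_range_of_pow_mem (∏ i, x i) hπ
    (TruncatedWittVector.coeff j a) (p ^ (m - 1 - (j : ℕ)))
    (pow_pos (Fact.out : p.Prime).pos _).ne' ⟨_, hy.symm⟩
  have hy0' : y0 ^ p ^ (m - 1 - (j : ℕ)) = a0 * ∏ i, x i ^ (-n i).toNat := by
    apply hinj
    rw [map_pow, hy0, hy]
  have hdiv : ∀ i, x i ∣ y0 := by
    intro i
    apply (hx i).dvd_of_dvd_pow (n := p ^ (m - 1 - (j : ℕ)))
    rw [hy0']
    apply dvd_mul_of_dvd_right
    refine dvd_trans (dvd_pow_self _ ?_) (Finset.dvd_prod_of_mem _ (Finset.mem_univ i))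
    have := hn i
    omega
  have hpair : Pairwise (Function.onFun IsRelPrime x) := by
    intro i k hik
    show IsRelPrime (x i) (x k)
    rw [(hx i).irreducible.isRelPrime_iff_not_dvd]
    intro hd
    exact hik (hxa i k ((hx i).associated_of_dvd (hx k) hd))
  obtain ⟨b, hb⟩ := Fintype.prod_dvd_of_isRelPrime hpair hdiv
  exact ⟨b, by rw [← hb, hy0]⟩

end Groth.Agent.S19272
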