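import Groth.Statements.S19273
import Mathlib

set_option autoImplicit false
universe u
open CAlg

namespace Groth.Agent.S19273

open KaehlerDifferential in
/-- Let A be an integral domain of prime characteristic p, x_1, …, x_N elements of A, r ≤ N, B =
A[1/(x_1⋯x_r)] with u_i the unit of B defined by x_i for i ≤ r, and suppose that the module Ω_A of
absolute Kähler differentials of A is free with a basis b indexed by {1, …, N} ⊔ ι whose i-th vector
is d(x_i) for i ≤ N. Then the module of logarithmic 1-forms — the A-submodule of Ω_B spanned by the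
image of Ω_A and the forms u_i⁻¹ · d(x_i), i ≤ r — is a free A-module: it has a basis indexed by {1,
…, N} ⊔ ι whose vector at i ≤ r is u_i⁻¹ · d(x_i), at r < i ≤ N is d(x_i), and at k ∈ ι is the image
of b_k. (In the published statement A is a regular local F-finite algebra over the prime field with
maximal ideal (x_1, …, x_N), the basis of Ω_A comes from the preceding lemma, and the assertion
covers the logarithmic q-forms for all q together with their identification with the log de Rham
complex of the log ring; only the degree-one freeness is stated here, from the properties of A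
actually used.) -/
theorem result (p : ℕ) [Fact p.Prime]
    {A B : Type u} [CommRing A] [IsDomain A] [CharP A p] [CommRing B] [Algebra A B] {r N : ℕ}
    (hr : r ≤ N) (x : Fin N → A) [IsLocalization.Away (∏ i : Fin r, x (Fin.castLE hr i)) B]
    (u : Fin r → Bˣ) (hu : ∀ i, (u i : B) = algebraMap A B (x (Fin.castLE hr i)))
    {ι : Type u} (b : Module.Basis (Fin N ⊕ ι) A (Ω[A⁄ℤ])) (hb : ∀ i, b (Sum.inl i) = D ℤ A (x i)) :
    ∃ e : Module.Basis (Fin N ⊕ ι) A
        (W4c6katofilta.logForms1 (fun i : Fin r => x (Fin.castLE hr i)) u),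
      (∀ i : Fin r, (e (Sum.inl (Fin.castLE hr i)) : Ω[B⁄ℤ]) =
          ((u i)⁻¹ : Bˣ) • KaehlerDifferential.map ℤ ℤ A B (D ℤ A (x (Fin.castLE hr i)))) ∧
      (∀ i : Fin N, r ≤ (i : ℕ) →
          (e (Sum.inl i) : Ω[B⁄ℤ]) = KaehlerDifferential.map ℤ ℤ A B (D ℤ A (x i))) ∧
      (∀ k : ι, (e (Sum.inr k) : Ω[B⁄ℤ]) = KaehlerDifferential.map ℤ ℤ A B (b (Sum.inr k))) := by
  classical
  set π : A := ∏ i : Fin r, x (Fin.castLE hr i) with hπdef
  -- B-basis of Ω_B
  let bB : Module.Basis (Fin N ⊕ ι) B (Ω[B⁄ℤ]) :=
    b.ofIsLocalizedModule B (Submonoid.powers π) (KaehlerDifferential.map ℤ ℤ A B)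
  have hbB : ∀ j, bB j = KaehlerDifferential.map ℤ ℤ A B (b j) := fun j =>
    Module.Basis.ofIsLocalizedModule_apply B (Submonoid.powers π)
      (KaehlerDifferential.map ℤ ℤ A B) b j
  let w : Fin N ⊕ ι → Bˣ :=
    Sum.elim (fun i => if h : (i : ℕ) < r then (u ⟨i, h⟩)⁻¹ else 1) (fun _ => 1)
  let bB' : Module.Basis (Fin N ⊕ ι) B (Ω[B⁄ℤ]) := bB.unitsSMul w
  have hbB' : ∀ j, bB' j = w j • KaehlerDifferential.map ℤ ℤ A B (b j) := by
    intro j
    rw [← hbB]
    exact Module.Basis.unitsSMul_apply j
  -- π ≠ 0 (else B is trivial, but a basis vector... ) : we need injectivity of A → B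
  -- handle: if π = 0 then B is trivial; still fine? we need LinearIndependent over A.
  by_cases hπ0 : π = 0
  · -- B is the zero ring, so Ω_B is trivial; the index type must be empty
    have hsub : Subsingleton B := by
      have hunit : IsUnit (algebraMap A B π) := IsLocalization.Away.algebraMap_isUnit π
      rw [hπ0, map_zero] at hunit
      exact subsingleton_of_zero_eq_one (isUnit_zero_iff.1 hunit)
    have hsubΩ : Subsingleton (Ω[B⁄ℤ]) := Module.subsingleton B _
    -- r ≥ 1 since π = 0 ≠ 1 unless A trivial (A is a domain so nontrivial)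
    have hr1 : 0 < r := by
      by_contra h0
      have : r = 0 := by omega
      subst this
      simp [hπdef] at hπ0
    -- some x i = 0 for i < r
    obtain ⟨i0, _, hi0⟩ := Finset.prod_eq_zero_iff.1 hπ0
    -- then D (x i0) = 0 = b (inl ..), contradiction with basis
    have : b (Sum.inl (Fin.castLE hr i0)) = 0 := by
      rw [hb, hi0, map_zero]
    exact absurd this (b.ne_zero _)
  have hinj : Function.Injective (algebraMap A B) :=
    IsLocalization.injective B (powers_le_nonZeroDivisors_of_noZeroDivisors hπ0)
  have hliB : LinearIndependent B (fun j => bB' j) := bB'.linearIndependent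
  have hliA : LinearIndependent A (fun j => bB' j) := by
    apply LinearIndependent.restrict_scalars (R := A) (K := B) _ hliB
    intro a a' h
    apply hinj
    simpa [Algebra.smul_def] using h
  -- the span
  have hwl : ∀ i : Fin r, w (Sum.inl (Fin.castLE hr i)) = (u i)⁻¹ := by
    intro i
    simp only [w, Sum.elim_inl, Fin.val_castLE, i.2, dif_pos]
  have hwr : ∀ i : Fin N, r ≤ (i : ℕ) → w (Sum.inl i) = 1 := by
    intro i hi
    simp only [w, Sum.elim_inl, dif_neg (not_lt.2 hi)]
  have hwι : ∀ k : ι, w (Sum.inr k) = 1 := fun k => rfl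
  have hspan : Submodule.span A (Set.range fun j => bB' j) =
      W4c6katofilta.logForms1 (fun i : Fin r => x (Fin.castLE hr i)) u := by
    apply le_antisymm
    · rw [Submodule.span_le]
      rintro _ ⟨j, rfl⟩
      apply Submodule.subset_span
      show bB' j ∈ _
      rw [hbB']
      rcases j with i | k
      · by_cases hi : (i : ℕ) < r
        · right
          obtain ⟨i', rfl⟩ : ∃ i' : Fin r, i = Fin.castLE hr i' := ⟨⟨i, hi⟩, Fin.ext rfl⟩
          refine ⟨i', ?_⟩
          show (u i')⁻¹ • (map ℤ ℤ A B) ((D ℤ A) (x (Fin.castLE hr i'))) = _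
          rw [hwl, hb]
        · left
          rw [hwr i (not_lt.1 hi), one_smul]
          exact ⟨_, rfl⟩
      · left
        rw [hwι, one_smul]
        exact ⟨_, rfl⟩
    · unfold W4c6katofilta.logForms1
      rw [Submodule.span_le]
      have hgen : ∀ j, KaehlerDifferential.map ℤ ℤ A B (b j) ∈
          Submodule.span A (Set.range fun j => bB' j) := by
        intro j
        rcases j with i | k
        · by_cases hi : (i : ℕ) < r
          · have h1 : KaehlerDifferential.map ℤ ℤ A B (b (Sum.inl i)) =
                x i • bB' (Sum.inl i) := by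
              obtain ⟨i', rfl⟩ : ∃ i' : Fin r, i = Fin.castLE hr i' := ⟨⟨i, hi⟩, Fin.ext rfl⟩
              rw [hbB', hwl, ← algebraMap_smul B (x (Fin.castLE hr i')), ← hu,
                Units.smul_def, smul_smul, Units.mul_inv, one_smul]
            rw [h1]
            exact Submodule.smul_mem _ _ (Submodule.subset_span ⟨_, rfl⟩)
          · have h1 : KaehlerDifferential.map ℤ ℤ A B (b (Sum.inl i)) = bB' (Sum.inl i) := by
              rw [hbB', hwr i (not_lt.1 hi), one_smul]
            rw [h1]
            exact Submodule.subset_span ⟨_, rfl⟩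
        · have h1 : KaehlerDifferential.map ℤ ℤ A B (b (Sum.inr k)) = bB' (Sum.inr k) := by
            rw [hbB', hwι, one_smul]
          rw [h1]
          exact Submodule.subset_span ⟨_, rfl⟩
      rintro z (⟨ω, rfl⟩ | ⟨i, rfl⟩)
      · have hω : ω ∈ Submodule.span A (Set.range b) := by
          rw [b.span_eq]; trivial
        induction hω using Submodule.span_induction with
        | mem y hy =>
          obtain ⟨j, rfl⟩ := hy
          exact hgen j
        | zero => rw [map_zero]; exact Submodule.zero_mem _
        | add y z _ _ hy hz => rw [map_add]; exact Submodule.add_mem _ hy hz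
        | smul a y _ hy => rw [map_smul]; exact Submodule.smul_mem _ _ hy
      · apply Submodule.subset_span
        refine ⟨Sum.inl (Fin.castLE hr i), ?_⟩
        show bB' (Sum.inl (Fin.castLE hr i)) = _
        rw [hbB', hwl, hb]
  let e0 : Module.Basis (Fin N ⊕ ι) A (Submodule.span A (Set.range fun j => bB' j)) :=
    Module.Basis.span hliA
  let e : Module.Basis (Fin N ⊕ ι) A
      (W4c6katofilta.logForms1 (fun i : Fin r => x (Fin.castLE hr i)) u) :=
    e0.map (LinearEquiv.ofEq _ _ hspan)
  have he : ∀ j, ((e j : W4c6katofilta.logForms1 (fun i : Fin r => x (Fin.castLE hr i)) u) :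
      Ω[B⁄ℤ]) = bB' j := by
    intro j
    show ((LinearEquiv.ofEq _ _ hspan (e0 j) : _) : Ω[B⁄ℤ]) = bB' j
    rw [LinearEquiv.coe_ofEq_apply]
    exact Module.Basis.coe_span_apply hliA j
  refine ⟨e, ?_, ?_, ?_⟩
  · intro i
    rw [he, hbB', hwl, hb]
  · intro i hi
    rw [he, hbB', hwr i hi, one_smul, hb]
  · intro k
    rw [he, hbB', hwι, one_smul]

end Groth.Agent.S19273
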