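import Groth.Statements.S19274
import Mathlib
import Groth.Agent.Lib.helper9.H9_WittFil

set_option autoImplicit false
universe u
open WittFil

namespace Groth.Agent.S19274

/-- Let A be a unique factorisation domain of characteristic p, x a prime element of A, B = A[1/x] with
u the unit of B defined by x, m ≥ 1, and n an integer NOT divisible by p^m. For e in B and k ≥ 0
write fil_k(e) for the set of truncated p-typical Witt vectors of length k over B whose j-th
coordinate y_j satisfies y_j ^ (p ^ (k−1−j)) · e ∈ A for all j < k (the filtered piece; fil_k(u^n)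
is the piece of index n). Then fil_{m+1}(u^n) is contained in fil_{m+1}(u^(n−1)) + V(fil_m(u^n))
(the reverse inclusion is immediate): every a in fil_{m+1}(u^n) can be written a = b + V(y) with b
in fil_{m+1}(u^(n−1)) and y a Witt vector over B whose length-m truncation lies in fil_m(u^n), V(y)
being truncated to length m+1. (In the source A is a henselian discrete valuation ring, n = p^r·l >
1 with p not dividing l, and the condition reads m ≥ r + 1.) -/
theorem result (p : ℕ) [Fact p.Prime]
    {A B : Type u} [CommRing A] [IsDomain A] [UniqueFactorizationMonoid A] [CharP A p]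
    [CommRing B] [Algebra A B] (x : A) (hx : Prime x) [IsLocalization.Away x B] (u : Bˣ)
    (hu : (u : B) = algebraMap A B x) (m : ℕ) (hm : 0 < m) (n : ℤ) (hn : ¬ ((p : ℤ) ^ m ∣ n)) :
    ∀ a ∈ WittFil.fil p (m + 1) (A := A) ((u ^ n : Bˣ) : B),
      ∃ b ∈ WittFil.fil p (m + 1) (A := A) ((u ^ (n - 1) : Bˣ) : B),
        ∃ y : WittVector p B,
          WittVector.truncate m y ∈ WittFil.fil p m (A := A) ((u ^ n : Bˣ) : B) ∧
            a = b + WittVector.truncate (m + 1) (WittVector.verschiebung y) := by
  classical
  intro a ha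
  have hp : p.Prime := Fact.out
  have hx0 : x ≠ 0 := hx.ne_zero
  have hinj : Function.Injective (algebraMap A B) :=
    IsLocalization.injective B (powers_le_nonZeroDivisors_of_noZeroDivisors hx0)
  have hNpos : 0 < p ^ m := pow_pos hp.pos _
  have hupow : ∀ k : ℕ, ((u ^ (k : ℤ) : Bˣ) : B) = algebraMap A B (x ^ k) := by
    intro k
    rw [zpow_natCast, Units.val_pow_eq_pow_val, hu, map_pow]
  -- key valuation lemma
  have key : ∀ z : B, z ^ p ^ m * ((u ^ n : Bˣ) : B) ∈ (algebraMap A B).range →
      z ^ p ^ m * ((u ^ (n - 1) : Bˣ) : B) ∈ (algebraMap A B).range := by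
    intro z hz
    obtain ⟨c, hc⟩ := hz
    obtain ⟨t, α, hα⟩ := IsLocalization.Away.surj x z
    by_cases hα0 : α = 0
    · have hz0 : z = 0 := by
        rw [hα0, map_zero, ← hu] at hα
        have hunit : IsUnit ((u : B) ^ t) := (u.isUnit).pow t
        exact (hunit.mul_left_eq_zero).1 hα
      rw [hz0, zero_pow hNpos.ne', zero_mul]
      exact zero_mem _
    · obtain ⟨w, β, hβ, hαβ⟩ := WfDvdMonoid.max_power_factor hα0 hx.irreducible
      have hz1 : z = algebraMap A B β * ((u ^ ((w : ℤ) - t) : Bˣ) : B) := by
        have h1 : z * ((u ^ t : Bˣ) : B) = algebraMap A B β * ((u ^ w : Bˣ) : B) := by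
          rw [Units.val_pow_eq_pow_val, Units.val_pow_eq_pow_val, hu, hα, hαβ, map_mul, map_pow,
            mul_comm]
        have h2 : z = algebraMap A B β * ((u ^ w : Bˣ) : B) * (((u ^ t)⁻¹ : Bˣ) : B) := by
          rw [← h1, mul_assoc, ← Units.val_mul, mul_inv_cancel, Units.val_one, mul_one]
        rw [h2, mul_assoc, ← Units.val_mul, zpow_sub, zpow_natCast, zpow_natCast]
      set e : ℤ := ((w : ℤ) - t) * ((p ^ m : ℕ) : ℤ) + n with he
      have hpow : ∀ n' : ℤ, z ^ p ^ m * ((u ^ n' : Bˣ) : B) =
          algebraMap A B β ^ p ^ m * ((u ^ (((w : ℤ) - t) * ((p ^ m : ℕ) : ℤ) + n') : Bˣ) : B) := by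
        intro n'
        rw [hz1, mul_pow, mul_assoc, ← Units.val_pow_eq_pow_val, ← Units.val_mul, ← zpow_natCast,
          ← zpow_mul, ← zpow_add]
      have he0 : e ≠ 0 := by
        intro h0
        apply hn
        have : n = -(((w : ℤ) - t)) * ((p : ℤ) ^ m) := by
          rw [he] at h0
          push_cast at h0
          linarith
        rw [this]
        exact dvd_mul_left _ _
      rw [hpow] at hc ⊢
      rcases lt_or_gt_of_ne he0 with hneg | hpos
      · -- e < 0: contradiction
        exfalso
        rw [← he] at hc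
        obtain ⟨k, hk⟩ : ∃ k : ℕ, -e = k := ⟨(-e).toNat, (Int.toNat_of_nonneg (by omega)).symm⟩
        have hk1 : 1 ≤ k := by omega
        have h3 : algebraMap A B (β ^ p ^ m) = algebraMap A B (c * x ^ k) := by
          rw [map_mul, ← hupow k, ← hk, hc, mul_assoc, ← Units.val_mul, ← zpow_add, add_neg_cancel,
            zpow_zero, Units.val_one, mul_one, map_pow]
        have h4 := hinj h3
        have h5 : x ∣ β ^ p ^ m := by
          rw [h4]
          exact dvd_mul_of_dvd_right (dvd_pow_self x (by omega)) c
        exact hβ (hx.dvd_of_dvd_pow h5)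
      · -- e ≥ 1
        obtain ⟨k, hk⟩ : ∃ k : ℕ, e - 1 = k := ⟨(e - 1).toNat, (Int.toNat_of_nonneg (by omega)).symm⟩
        have : ((w : ℤ) - t) * ((p ^ m : ℕ) : ℤ) + (n - 1) = k := by
          rw [← hk, he]; ring
        rw [this, hupow k, ← map_pow, ← map_mul]
        exact ⟨_, rfl⟩
  have hinit : ∀ i, (WittVector.init 1 a.out).coeff i = if i < 1 then a.out.coeff i else 0 := by
    intro i
    simp only [WittVector.init, WittVector.select, WittVector.coeff_mk]
    split_ifs <;> rfl
  have htail : ∀ i, (WittVector.tail 1 a.out).coeff i = if 1 ≤ i then a.out.coeff i else 0 := by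
    intro i
    simp only [WittVector.tail, WittVector.select, WittVector.coeff_mk]
    split_ifs <;> rfl
  refine ⟨WittVector.truncate (m + 1) (WittVector.init 1 a.out), ?_,
    (WittVector.tail 1 a.out).shift 1, ?_, ?_⟩
  · intro j
    rw [WittVector.coeff_truncate, hinit]
    split_ifs with hj
    · have hj0 : j = 0 := by
        apply Fin.ext
        simp only [Fin.val_zero]
        omega
      subst hj0
      have h1 := ha 0
      have e1 : m + 1 - 1 - ((0 : Fin (m + 1)) : ℕ) = m := by simp
      rw [e1] at h1 ⊢
      rw [H9_WittFil.out_coeff, dif_pos (by simp)]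
      exact key _ h1
    · rw [zero_pow (pow_pos hp.pos _).ne', zero_mul]
      exact zero_mem _
  · intro j
    rw [WittVector.coeff_truncate, WittVector.shift_coeff, htail, if_pos (by omega),
      H9_WittFil.out_coeff, dif_pos (by have := j.2; omega)]
    have h1 := ha ⟨1 + (j : ℕ), by have := j.2; omega⟩
    have e1 : m + 1 - 1 - (1 + (j : ℕ)) = m - 1 - (j : ℕ) := by omega
    simp only [e1] at h1
    exact h1
  · have h1 : WittVector.tail 1 a.out =
        WittVector.verschiebung ((WittVector.tail 1 a.out).shift 1) := by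
      have := WittVector.eq_iterate_verschiebung (x := WittVector.tail 1 a.out) (n := 1) (by
        intro i hi
        rw [htail, if_neg (by omega)])
      simpa using this
    rw [← h1, ← map_add, WittVector.init_add_tail]
    exact (TruncatedWittVector.truncateFun_out a).symm

end Groth.Agent.S19274
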