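import Groth.Statements.S19326
import Mathlib
import Groth.Agent.Lib.helper9.H9_ComodConv
import Groth.Agent.Lib.helper9.H9_ComodFix

set_option autoImplicit false
universe u
open TensorProduct
open GLin

namespace Groth.Agent.S19326

/-- Let k be a field, M a finite abelian group and D = Spec k[M] the finite diagonalizable group scheme
it defines, acting on an affine k-scheme U = Spec R through a multiplicative coaction R → R ⊗ k[M];
write R_a for the weight space of a ∈ M (elements with coaction f ⊗ a). For an ideal J of R the
induced action of D on the closed subscheme V(J) is trivial, meaning that the coaction followed by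
reduction modulo J equals f ↦ (f mod J) ⊗ 1, exactly when J contains the ideal generated by the
weight spaces R_a for a ≠ 0; in other words that ideal defines the largest closed subscheme of U on
which D acts trivially. (The printed setting has U smooth, which plays no role here and is not
assumed; the further assertion that the construction commutes with flat base change on U/D is not
part of this statement.) -/
theorem result
    {k : Type u} [Field k] {M : Type u} [AddCommGroup M] [Finite M]
    {R : Type u} [CommRing R] [Algebra k R] [HopfRep.Comod k (AddMonoidAlgebra k M) R]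
    [GLin.IsCoactAlg k (AddMonoidAlgebra k M) R] (J : Ideal R) :
    (∀ f : R, LinearMap.rTensor (AddMonoidAlgebra k M) (Ideal.Quotient.mkₐ k J).toLinearMap
        (HopfRep.Comod.coact (k := k) (A := AddMonoidAlgebra k M) f) =
        (Ideal.Quotient.mk J f) ⊗ₜ[k] (1 : AddMonoidAlgebra k M)) ↔
      Ideal.span (⋃ (a : M) (_ : a ≠ 0),
        (HopfRep.eigenspace k (AddMonoidAlgebra k M) R (AddMonoidAlgebra.single a 1) : Set R)) ≤ J := by
  classical
  haveI : Fintype M := Fintype.ofFinite M
  -- coordinate functionals on the group algebra
  let δ : M → Module.Dual k (AddMonoidAlgebra k M) := fun a =>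
    Finsupp.lapply a ∘ₗ (AddMonoidAlgebra.coeffLinearEquiv k).toLinearMap
  have hδ : ∀ a b (c : k), δ a (AddMonoidAlgebra.single b c) = if b = a then c else 0 := by
    intro a b c
    show (Finsupp.single b c : M →₀ k) a = _
    rw [Finsupp.single_apply]
  have hsingle : ∀ (f : Module.Dual k (AddMonoidAlgebra k M)) (b : M) (c : k),
      f (AddMonoidAlgebra.single b c) = c * f (AddMonoidAlgebra.single b 1) := by
    intro f b c
    have : AddMonoidAlgebra.single b c = c • AddMonoidAlgebra.single b (1 : k) := by
      rw [AddMonoidAlgebra.smul_single, smul_eq_mul, mul_one]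
    rw [this, map_smul, smul_eq_mul]
  -- every functional is a combination of coordinate functionals
  have hF1 : ∀ f : Module.Dual k (AddMonoidAlgebra k M),
      f = ∑ a, f (AddMonoidAlgebra.single a 1) • δ a := by
    intro f
    apply AddMonoidAlgebra.lhom_ext'
    intro x
    ext
    simp only [LinearMap.comp_apply, AddMonoidAlgebra.lsingle_apply, LinearMap.sum_apply,
      LinearMap.smul_apply, hδ, smul_eq_mul]
    rw [Finset.sum_eq_single x]
    · simp
    · intro b _ hb
      rw [if_neg (Ne.symm hb), mul_zero]
    · intro h; exact absurd (Finset.mem_univ x) h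
  have hF3 : ∀ (f : Module.Dual k (AddMonoidAlgebra k M)) (a : M),
      H9_ComodMod.conv f (δ a) = f (AddMonoidAlgebra.single a 1) • δ a := by
    intro f a
    apply AddMonoidAlgebra.lhom_ext'
    intro x
    ext
    simp only [LinearMap.comp_apply, AddMonoidAlgebra.lsingle_apply, LinearMap.smul_apply,
      H9_ComodMod.conv_apply, hδ, smul_eq_mul]
    rw [AddMonoidAlgebra.comul_single]
    simp only [CommSemiring.comul_apply, TensorProduct.map_tmul, AddMonoidAlgebra.lsingle_apply,
      TensorProduct.lid_tmul, hδ, smul_eq_mul]
    by_cases hx : x = a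
    · subst hx; simp
    · simp [hx]
  -- the weight components
  have hP : ∀ (a : M) (r : R), H9_ComodMod.T (C := AddMonoidAlgebra k M) R (δ a) r ∈
      HopfRep.eigenspace k (AddMonoidAlgebra k M) R (AddMonoidAlgebra.single a 1) := by
    intro a r
    rw [H9_ComodMod.mem_eigenspace_iff_T]
    intro f
    rw [H9_ComodMod.T_T, hF3, H9_ComodMod.T_smul]
  have hsum : ∀ r : R, r = ∑ a, H9_ComodMod.T (C := AddMonoidAlgebra k M) R (δ a) r := by
    intro r
    have h1 := H9_ComodMod.T_counit (k := k) (C := AddMonoidAlgebra k M) (V := R) r
    rw [hF1 (Coalgebra.counit (R := k) (A := AddMonoidAlgebra k M)), H9_ComodMod.T_sum] at h1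
    simp only [AddMonoidAlgebra.counit_single, CommSemiring.counit_apply, one_smul] at h1
    exact h1.symm
  constructor
  · intro h
    rw [Ideal.span_le]
    intro x hx
    simp only [Set.mem_iUnion] at hx
    obtain ⟨a, ha, hx⟩ := hx
    have hx' : HopfRep.Comod.coact (k := k) (A := AddMonoidAlgebra k M) x =
        x ⊗ₜ[k] AddMonoidAlgebra.single a 1 := hx
    have h1 := h x
    rw [hx', LinearMap.rTensor_tmul] at h1
    have h2 := congrArg (H9_TensorDual.contr (δ a)) h1
    rw [H9_TensorDual.contr_tmul, H9_TensorDual.contr_tmul, AddMonoidAlgebra.one_def, hδ, hδ,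
      if_pos rfl, if_neg (Ne.symm ha), one_smul, zero_smul] at h2
    exact (Ideal.Quotient.eq_zero_iff_mem).mp h2
  · intro h f
    rw [← sub_eq_zero]
    apply H9_TensorDual.eq_zero_of_forall_contr
    intro φ
    rw [map_sub, H9_TensorDual.contr_rTensor, H9_TensorDual.contr_tmul, ← H9_ComodMod.T_eq_contr]
    have key : H9_ComodMod.T (C := AddMonoidAlgebra k M) R φ f - φ 1 • f ∈ J := by
      have e1 : H9_ComodMod.T (C := AddMonoidAlgebra k M) R φ f =
          ∑ a, φ (AddMonoidAlgebra.single a 1) •
            H9_ComodMod.T (C := AddMonoidAlgebra k M) R (δ a) f := by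
        conv_lhs => rw [hF1 φ, H9_ComodMod.T_sum]
        simp only [H9_ComodMod.T_smul]
      have e2 : φ 1 • f = ∑ a, φ 1 • H9_ComodMod.T (C := AddMonoidAlgebra k M) R (δ a) f := by
        conv_lhs => rw [hsum f, Finset.smul_sum]
      rw [e1, e2, ← Finset.sum_sub_distrib]
      apply Ideal.sum_mem
      intro a _
      rw [← sub_smul]
      by_cases ha : a = 0
      · subst ha
        rw [AddMonoidAlgebra.one_def, sub_self, zero_smul]
        exact J.zero_mem
      · rw [Algebra.smul_def]
        apply Ideal.mul_mem_left
        apply h
        apply Ideal.subset_span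
        simp only [Set.mem_iUnion]
        exact ⟨a, ha, hP a f⟩
    have : (Ideal.Quotient.mkₐ k J).toLinearMap
        (H9_ComodMod.T (C := AddMonoidAlgebra k M) R φ f - φ 1 • f) = 0 :=
      (Ideal.Quotient.eq_zero_iff_mem).mpr key
    rw [map_sub, map_smul] at this
    exact this

end Groth.Agent.S19326
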