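import Groth.Statements.S19338
import Mathlib

set_option autoImplicit false
universe w v u
open CategoryTheory
open ModPair

namespace Groth.Agent.S19338

/-- Let C be a category and S a class of morphisms which contains the identities, is closed under
composition, admits a right calculus of fractions, and consists of monomorphisms. Then the sieves
containing a morphism of S are the covering sieves of a Grothendieck topology on C, and for every
such topology J a presheaf of types F on C is a J-sheaf if and only if it is S-local, i.e. F sends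
every morphism of S to a bijection. -/
theorem result {C : Type u} [Category.{v} C]
    (S : MorphismProperty C) [S.HasRightCalculusOfFractions]
    (hmono : ∀ ⦃X Y : C⦄ (s : X ⟶ Y), S s → Mono s) :
    (∃ J : GrothendieckTopology C, ∀ (X : C) (T : Sieve X),
        T ∈ J X ↔ ∃ (Y : C) (s : Y ⟶ X), S s ∧ T s) ∧
      ∀ J : GrothendieckTopology C, (∀ (X : C) (T : Sieve X),
          T ∈ J X ↔ ∃ (Y : C) (s : Y ⟶ X), S s ∧ T s) →
        ∀ F : Cᵒᵖ ⥤ Type w,
          Presheaf.IsSheaf J F ↔ ∀ ⦃X Y : C⦄ (s : X ⟶ Y), S s → IsIso (F.map s.op) := by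
  haveI : S.IsMultiplicative := inferInstance
  have hfrac : ∀ {X X' Y : C} (f : X' ⟶ X) (s : Y ⟶ X), S s →
      ∃ (Z : C) (t : Z ⟶ X') (g : Z ⟶ Y), S t ∧ t ≫ f = g ≫ s := by
    intro X X' Y f s hs
    obtain ⟨ψ, hψ⟩ := (MorphismProperty.LeftFraction.mk f s hs : S.LeftFraction X' Y).exists_rightFraction
    exact ⟨ψ.X', ψ.s, ψ.f, ψ.hs, hψ⟩
  refine ⟨⟨{ sieves := fun X => {T | ∃ (Y : C) (s : Y ⟶ X), S s ∧ T s}
             top_mem' := fun X => ⟨X, 𝟙 X, S.id_mem X, trivial⟩
             pullback_stable' := ?_
             transitive' := ?_ }, fun X T => Iff.rfl⟩, ?_⟩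
  · rintro X X' T f ⟨Y, s, hs, hTs⟩
    obtain ⟨Z, t, g, ht, htg⟩ := hfrac f s hs
    refine ⟨Z, t, ht, ?_⟩
    change T (t ≫ f)
    rw [htg]
    exact T.downward_closed hTs g
  · rintro X T ⟨Y, s, hs, hTs⟩ R hR
    obtain ⟨Z, t, ht, hRt⟩ := hR hTs
    exact ⟨Z, t ≫ s, S.comp_mem _ _ ht hs, hRt⟩
  · intro J hJ F
    rw [isSheaf_iff_isSheaf_of_type]
    constructor
    · intro hF X Y s hs
      haveI := hmono s hs
      have hcov : Sieve.generate (Presieve.singleton s) ∈ J Y := by
        rw [hJ]
        exact ⟨X, s, hs, ⟨X, 𝟙 X, s, Presieve.singleton.mk, Category.id_comp s⟩⟩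
      have h1 := hF _ hcov
      rw [← Presieve.isSheafFor_iff_generate, Presieve.isSheafFor_singleton] at h1
      rw [isIso_iff_bijective]
      constructor
      · intro a b hab
        obtain ⟨y, -, hy⟩ := h1 (F.map s.op a) (fun p₁ p₂ h => by rw [(cancel_mono s).1 h])
        rw [hy a rfl, hy b hab.symm]
      · intro x
        obtain ⟨y, hy, -⟩ := h1 x (fun p₁ p₂ h => by rw [(cancel_mono s).1 h])
        exact ⟨y, hy⟩
    · intro hF X T hT
      rw [hJ] at hT
      obtain ⟨Y, s, hs, hTs⟩ := hT
      haveI := hF s hs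
      have hbij := (isIso_iff_bijective (F.map s.op)).1 inferInstance
      intro x hx
      obtain ⟨t, ht⟩ := hbij.2 (x s hTs)
      refine ⟨t, ?_, ?_⟩
      · intro Z f hf
        obtain ⟨W, u, g, hu, hug⟩ := hfrac f s hs
        haveI := hF u hu
        have hinj := ((isIso_iff_bijective (F.map u.op)).1 inferInstance).1
        apply hinj
        have e1 : F.map u.op (F.map f.op t) = F.map g.op (F.map s.op t) := by
          rw [← FunctorToTypes.map_comp_apply, ← FunctorToTypes.map_comp_apply, ← op_comp, ← op_comp, hug]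
        rw [e1, ht]
        have e2 := hx g u hTs hf (by rw [hug])
        exact e2
      · intro t' ht'
        apply hbij.1
        rw [ht, ht' s hTs]

end Groth.Agent.S19338
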