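import Groth.Statements.S19340
import Mathlib

set_option autoImplicit false
universe v v' u u'
open CategoryTheory
open ModPair

namespace Groth.Agent.S19340

/-- Let C be a category, S a class of morphisms of C containing the identities, closed under composition
and admitting a right calculus of fractions, and L : C ⥤ D a localization functor for S. Then for
every object X of C the comma category of L under X, whose objects are pairs (Y, L(X) ⟶ L(Y)) and
whose morphisms are morphisms Y ⟶ Y' of C compatible with the structure maps, is cofiltered. The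
published statement calls this category filtered; its proof verifies, and this row states,
cofilteredness. -/
theorem result {C : Type u}
    [Category.{v} C] {D : Type u'} [Category.{v'} D] (S : MorphismProperty C)
    [S.HasRightCalculusOfFractions] (L : C ⥤ D) [L.IsLocalization S] (X : C) :
    IsCofiltered (StructuredArrow (L.obj X) L) := by
  have hinv := Localization.inverts L S
  have key : ∀ {Y : C} (φ : L.obj X ⟶ L.obj Y), ∃ (Z : C) (t : Z ⟶ X) (_ : S t) (f : Z ⟶ Y),
      L.map t ≫ φ = L.map f := by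
    intro Y φ
    obtain ⟨r, hr⟩ := Localization.exists_rightFraction L S φ
    refine ⟨r.X', r.s, r.hs, r.f, ?_⟩
    rw [hr]
    exact r.map_s_comp_map L hinv
  have mkobj : ∀ {Z : C} (t : Z ⟶ X) (ht : S t), ∃ ψ : L.obj X ⟶ L.obj Z, L.map t ≫ ψ = 𝟙 _ ∧
      ψ ≫ L.map t = 𝟙 _ := by
    intro Z t ht
    haveI := hinv t ht
    exact ⟨inv (L.map t), by simp, by simp⟩
  refine { cone_objs := ?_, cone_maps := ?_, nonempty := ⟨StructuredArrow.mk (𝟙 (L.obj X))⟩ }
  · intro A B
    obtain ⟨Z₁, t₁, ht₁, f₁, h₁⟩ := key A.hom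
    obtain ⟨Z₂, t₂, ht₂, f₂, h₂⟩ := key B.hom
    obtain ⟨ψ, hψ⟩ := (MorphismProperty.LeftFraction.mk t₁ t₂ ht₂).exists_rightFraction
    dsimp at hψ
    have ht : S (ψ.s ≫ t₁) := S.comp_mem _ _ ψ.hs ht₁
    obtain ⟨ξ, hξ₁, hξ₂⟩ := mkobj (ψ.s ≫ t₁) ht
    haveI : IsIso (L.map (ψ.s ≫ t₁)) := hinv _ ht
    refine ⟨StructuredArrow.mk ξ, StructuredArrow.homMk (ψ.s ≫ f₁) ?_,
      StructuredArrow.homMk (ψ.f ≫ f₂) ?_, trivial⟩
    · dsimp
      rw [← cancel_epi (L.map (ψ.s ≫ t₁)), reassoc_of% hξ₁]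
      rw [L.map_comp, L.map_comp, Category.assoc, h₁]
    · dsimp
      rw [← cancel_epi (L.map (ψ.s ≫ t₁)), reassoc_of% hξ₁]
      rw [hψ, L.map_comp, L.map_comp, Category.assoc, h₂]
  · intro A B f g
    obtain ⟨Z₁, t₁, ht₁, f₁, h₁⟩ := key A.hom
    have hf := StructuredArrow.w f
    have hg := StructuredArrow.w g
    have heq : L.map (f₁ ≫ f.right) = L.map (f₁ ≫ g.right) := by
      rw [L.map_comp, L.map_comp, ← h₁, Category.assoc, Category.assoc, hf, hg]
    obtain ⟨Z, s, hs, hsfg⟩ := (MorphismProperty.map_eq_iff_precomp L S _ _).mp heq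
    have ht : S (s ≫ t₁) := S.comp_mem _ _ hs ht₁
    obtain ⟨ξ, hξ₁, hξ₂⟩ := mkobj (s ≫ t₁) ht
    haveI : IsIso (L.map (s ≫ t₁)) := hinv _ ht
    refine ⟨StructuredArrow.mk ξ, StructuredArrow.homMk (s ≫ f₁) ?_, ?_⟩
    · dsimp
      rw [← cancel_epi (L.map (s ≫ t₁)), reassoc_of% hξ₁]
      rw [L.map_comp, L.map_comp, Category.assoc, h₁]
    · apply StructuredArrow.hom_ext
      simp only [StructuredArrow.comp_right, StructuredArrow.homMk_right, Category.assoc]
      exact hsfg

end Groth.Agent.S19340
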