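import Groth.Statements.S19348
import Mathlib

set_option autoImplicit false
universe u
open RigCh

namespace Groth.Agent.S19348

/-- Let p be a prime and m a natural number, P a commutative ring complete and separated for the p-adic
topology, and I an ideal of P with a divided power structure of level m, that is a sub-ideal J of I
endowed with divided powers such that x ^ (p ^ m) and p * x lie in J for all x in I. Then an element
of P whose class in P / I is invertible is invertible in P. (The source states this for a lift of a
unit to the p-adically completed level-m divided power envelope of a closed immersion; the statement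
here keeps exactly what its argument uses: completeness for p and the level-m divided powers on the
kernel.) -/
theorem result (p : ℕ) [Fact p.Prime] (m : ℕ)
    (P : Type u) [CommRing P] [IsAdicComplete (Ideal.span {(p : P)}) P]
    (I J : Ideal P) (hJ : DividedPowers J) (hJI : J ≤ I)
    (hpow : ∀ x ∈ I, x ^ (p ^ m) ∈ J) (hmul : ∀ x ∈ I, (p : P) * x ∈ J)
    (u : P) (hu : IsUnit (Ideal.Quotient.mk I u)) : IsUnit u := by
  have hpJ : (p : P) ∈ (⊥ : Ideal P).jacobson :=
    IsAdicComplete.le_jacobson_bot (Ideal.span {(p : P)}) (Ideal.subset_span rfl)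
  have hI : I ≤ (⊥ : Ideal P).jacobson := by
    intro x hx
    have hy := hpow x hx
    have h1 : (x ^ p ^ m) ^ p ∈ (⊥ : Ideal P).jacobson := by
      rw [← hJ.factorial_mul_dpow_eq_pow hy]
      obtain ⟨c, hc⟩ : (p : ℕ) ∣ p.factorial :=
        Nat.dvd_factorial (Fact.out : p.Prime).pos le_rfl
      rw [hc, Nat.cast_mul, mul_assoc]
      exact Ideal.mul_mem_right _ _ hpJ
    have h2 : x ∈ ((⊥ : Ideal P).jacobson).radical := ⟨p ^ m * p, by rw [pow_mul]; exact h1⟩
    have := Ideal.radical_le_jacobson h2
    rwa [Ideal.jacobson_idem] at this
  obtain ⟨v', hv'⟩ := hu.exists_right_inv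
  obtain ⟨v, rfl⟩ := Ideal.Quotient.mk_surjective v'
  have h3 : u * v - 1 ∈ I := by
    rw [← Ideal.Quotient.eq, map_mul, hv', map_one]
  have h4 := Ideal.isUnit_of_sub_one_mem_jacobson_bot (u * v) (hI h3)
  exact isUnit_of_mul_isUnit_left h4

end Groth.Agent.S19348
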