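import Groth.Statements.S19356
import Mathlib
import Groth.Agent.Lib.helper6.PosInvol

set_option autoImplicit false
universe u
open AbVar Groth.Agent.Lib.helper6
set_option linter.style.haveILetI false

namespace Groth.Agent.S19356

/-- Let R be a finite-dimensional ℚ-algebra with a ℚ-linear involution x ↦ x† (an anti-automorphism of
order two) and a ℚ-linear functional σ with σ(x x†) > 0 for every x ≠ 0; this is the positivity of
the involution, σ being the trace of R over ℚ in the case of the endomorphism algebra of an abelian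
variety with a Rosati involution, and the trace on a cohomology group in the case of an algebra of
correspondences with the adjoint for a Weil form. Let α ∈ R with α α† = q for a rational number q.
Then α† lies in the subalgebra ℚ[α], and for every ℚ-algebra homomorphism ρ : ℚ[α] → ℂ one has ρ(α†)
= the complex conjugate of ρ(α) and |ρ(α)|² = q. (The published statement is for the endomorphism
algebra of an abelian variety with a Rosati involution, with σ its trace over ℚ and q an integer;
the form given here, for an arbitrary ℚ-linear functional σ positive on every x x† with x ≠ 0 and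
rational q, is what its proof establishes.) -/
theorem result (R : Type u) [Ring R] [Algebra ℚ R]
    [Module.Finite ℚ R] [StarRing R] [StarModule ℚ R]
    (σ : R →ₗ[ℚ] ℚ) (hpos : ∀ x : R, x ≠ 0 → 0 < σ (x * star x))
    (α : R) (q : ℚ) (hα : α * star α = algebraMap ℚ R q) :
    ∃ hmem : star α ∈ Algebra.adjoin ℚ ({α} : Set R),
      ∀ ρ : Algebra.adjoin ℚ ({α} : Set R) →ₐ[ℚ] ℂ,
        ρ ⟨star α, hmem⟩ = starRingEnd ℂ (ρ ⟨α, Algebra.self_mem_adjoin_singleton ℚ α⟩) ∧
          ‖ρ ⟨α, Algebra.self_mem_adjoin_singleton ℚ α⟩‖ ^ 2 = (q : ℝ) := by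
  classical
  have hαC : α ∈ Algebra.adjoin ℚ ({α} : Set R) := Algebra.self_mem_adjoin_singleton ℚ α
  by_cases hq : q = 0
  · -- α = 0
    have hα0 : α = 0 := by
      by_contra h
      have := hpos α h
      rw [hα, hq, map_zero, map_zero] at this
      exact lt_irrefl _ this
    have hmem : star α ∈ Algebra.adjoin ℚ ({α} : Set R) := by
      rw [hα0, star_zero]; exact zero_mem _
    refine ⟨hmem, fun ρ => ?_⟩
    have h1 : (⟨star α, hmem⟩ : Algebra.adjoin ℚ ({α} : Set R)) = 0 := by
      apply Subtype.ext; simp [hα0]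
    have h2 : (⟨α, Algebra.self_mem_adjoin_singleton ℚ α⟩ : Algebra.adjoin ℚ ({α} : Set R)) = 0 := by
      apply Subtype.ext; simp [hα0]
    rw [h1, h2, map_zero, map_zero, hq]
    simp
  · haveI : FiniteDimensional ℚ (Algebra.adjoin ℚ ({α} : Set R)) :=
      Module.Finite.of_injective (Algebra.adjoin ℚ ({α} : Set R)).val.toLinearMap
        Subtype.val_injective
    have hinj : Function.Injective
        (LinearMap.mulRight ℚ (⟨α, hαC⟩ : Algebra.adjoin ℚ ({α} : Set R))) := by
      rw [injective_iff_map_eq_zero]
      intro c hc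
      rw [LinearMap.mulRight_apply] at hc
      have h1 : c.1 * α = 0 := congrArg Subtype.val hc
      have h2 : c.1 * (α * star α) = 0 := by rw [← mul_assoc, h1, zero_mul]
      rw [hα, Algebra.algebraMap_eq_smul_one, mul_smul_comm, mul_one] at h2
      have h3 : c.1 = 0 := (smul_eq_zero.1 h2).resolve_left hq
      exact Subtype.ext h3
    obtain ⟨c, hc⟩ := (LinearMap.injective_iff_surjective.1 hinj) 1
    rw [LinearMap.mulRight_apply] at hc
    have h1 : c.1 * α = 1 := congrArg Subtype.val hc
    have hstar : star α = q • c.1 := by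
      have h2 : c.1 * (α * star α) = star α := by rw [← mul_assoc, h1, one_mul]
      rw [hα, Algebra.algebraMap_eq_smul_one, mul_smul_comm, mul_one] at h2
      exact h2.symm
    have hmem : star α ∈ Algebra.adjoin ℚ ({α} : Set R) := by
      rw [hstar]; exact Subalgebra.smul_mem _ c.2 q
    refine ⟨hmem, fun ρ => ?_⟩
    have hsim := H6_normal_similitude R σ hpos α q hα ρ
    have hprod : ρ ⟨α, Algebra.self_mem_adjoin_singleton ℚ α⟩ * ρ ⟨star α, hmem⟩ = (q : ℂ) := by
      rw [← map_mul]
      have : (⟨α, Algebra.self_mem_adjoin_singleton ℚ α⟩ : Algebra.adjoin ℚ ({α} : Set R)) *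
          ⟨star α, hmem⟩ = algebraMap ℚ _ q := Subtype.ext hα
      rw [this, AlgHom.commutes]
      simp
    obtain ⟨z, hz⟩ : ∃ z : ℂ, z = ρ ⟨α, Algebra.self_mem_adjoin_singleton ℚ α⟩ := ⟨_, rfl⟩
    rw [← hz] at hsim hprod ⊢
    have hz0 : z ≠ 0 := by
      intro h0
      rw [h0, zero_mul] at hprod
      exact hq (by exact_mod_cast hprod.symm)
    constructor
    · have h3 : z * ρ ⟨star α, hmem⟩ = z * star z := by rw [hprod, mul_comm, hsim]
      exact mul_left_cancel₀ hz0 h3
    · have h4 : ((‖z‖ ^ 2 : ℝ) : ℂ) = ((q : ℝ) : ℂ) := by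
        rw [← Complex.normSq_eq_norm_sq, ← Complex.mul_conj, mul_comm]
        simpa using hsim
      exact_mod_cast h4

end Groth.Agent.S19356
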