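import Groth.Statements.S19380
import Mathlib

set_option autoImplicit false
universe u
open CAlg

namespace Groth.Agent.S19380

/-- Let L be a commutative ring, σ a ring automorphism of L of finite order dividing d (σ^d = 1), and C
an r × r matrix over L. The reverse characteristic polynomial det(1 − T·N) of the twisted product N
= C·σ(C)·σ²(C)⋯σ^(d−1)(C), with σ applied to the entries, is fixed by σ acting on coefficients. (In
the source this is phrased for the fibre at a closed point x of degree d of a convergent F-module
with Frobenius matrix C: the d-th iterate of the semilinear Frobenius of the fibre is the linear map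
with matrix N, so its characteristic polynomial has coefficients in the subfield fixed by the
Frobenius of K(x), namely K, and likewise with the valuation ring in place of K for an integral
F-module; only this linear-algebra statement, over any commutative ring, is given here.) -/
theorem result
    (L : Type u) [CommRing L] (σ : L ≃+* L) (d : ℕ) (hσ : σ ^ d = 1)
    (r : ℕ) (C : Matrix (Fin r) (Fin r) L) :
    (Matrix.charpolyRev (((List.range d).map fun i => C.map ⇑(σ ^ i)).prod)).map (σ : L →+* L) =
      Matrix.charpolyRev (((List.range d).map fun i => C.map ⇑(σ ^ i)).prod) := by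
  classical
  have hmap : ∀ M : Matrix (Fin r) (Fin r) L,
      (Matrix.charpolyRev M).map (σ : L →+* L) = Matrix.charpolyRev (M.map ⇑σ) := by
    intro M
    unfold Matrix.charpolyRev
    rw [← Polynomial.coe_mapRingHom, RingHom.map_det]
    congr 1
    ext i j : 1
    by_cases hij : i = j <;>
      simp [RingHom.mapMatrix_apply, Matrix.map_apply, Matrix.sub_apply, Matrix.smul_apply,
        Matrix.one_apply, hij]
  have hcomm : ∀ A B : Matrix (Fin r) (Fin r) L,
      Matrix.charpolyRev (A * B) = Matrix.charpolyRev (B * A) := by
    intro A B
    unfold Matrix.charpolyRev
    rw [Matrix.map_mul, Matrix.map_mul, ← Matrix.smul_mul, Matrix.det_one_sub_mul_comm,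
      Matrix.mul_smul]
  set F : ℕ → Matrix (Fin r) (Fin r) L := fun i => C.map ⇑(σ ^ i) with hF
  have hFs : ∀ i, (F i).map ⇑σ = F (i + 1) := by
    intro i
    simp only [hF, Matrix.map_map]
    congr 1
    ext x
    rw [pow_succ']
    rfl
  have hprodmap : ∀ l : List ℕ, ((l.map F).prod).map ⇑σ = (l.map (fun i => F (i + 1))).prod := by
    intro l
    induction l with
    | nil => simp [Matrix.map_one]
    | cons a l ih =>
      rw [List.map_cons, List.prod_cons, Matrix.map_mul, ih, hFs, List.map_cons, List.prod_cons]
  rw [hmap]
  cases d with
  | zero => simp [Matrix.map_one]
  | succ e =>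
    rw [hprodmap]
    have h1 : ((List.range (e + 1)).map F).prod =
        F 0 * ((List.range e).map (fun i => F (i + 1))).prod := by
      rw [List.range_succ_eq_map, List.map_cons, List.prod_cons, List.map_map]
      rfl
    have h2 : ((List.range (e + 1)).map (fun i => F (i + 1))).prod =
        ((List.range e).map (fun i => F (i + 1))).prod * F 0 := by
      rw [List.range_succ, List.map_append, List.prod_append, List.map_singleton,
        List.prod_singleton]
      congr 1
      simp only [hF, hσ, pow_zero]
    rw [h1, h2]
    exact hcomm _ _

end Groth.Agent.S19380
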