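import Groth.Statements.S19390
import Mathlib

set_option autoImplicit false
universe u
open GIT

namespace Groth.Agent.S19390

def pi (e k : ℕ) : ℕ :=
  if k = 0 then 0 else if k = 1 then e else if k = 2 then 2 * e else if k < e + 2 then k - 2 else k - 1

def pj (e k : ℕ) : ℕ :=
  if k = 0 then e else if k = 1 then 2 * e else if k = 2 then 0 else if k < e + 2 then k - 2 + e else k - e - 1

theorem pi_lt (e k : ℕ) (he : 1 ≤ e) (hk : k < 2 * e + 1) : pi e k < 2 * e + 1 := by
  unfold pi; split_ifs <;> omega

theorem pj_lt (e k : ℕ) (he : 1 ≤ e) (hk : k < 2 * e + 1) : pj e k < 2 * e + 1 := by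
  unfold pj; split_ifs <;> omega

theorem pi_inj (e k k' : ℕ) (he : 1 ≤ e) (hk : k < 2 * e + 1) (hk' : k' < 2 * e + 1)
    (h : pi e k = pi e k') : k = k' := by
  unfold pi at h; split_ifs at h <;> omega

theorem pj_inj (e k k' : ℕ) (he : 1 ≤ e) (hk : k < 2 * e + 1) (hk' : k' < 2 * e + 1)
    (h : pj e k = pj e k') : k = k' := by
  unfold pj at h; split_ifs at h <;> omega

theorem pi_pj (e k : ℕ) (he : 1 ≤ e) (hk : k < 2 * e + 1) :
    pi e k + e ≤ pj e k ∨ pj e k + e ≤ pi e k := by
  unfold pi pj; split_ifs <;> omega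

theorem sorted_ne {n e : ℕ} (key : Fin n → Fin n)
    (hkey : ∀ v : Fin n, (Finset.univ.filter fun k => key k = v).card ≤ e)
    (p q : Fin n) (hpq : (p : ℕ) + e ≤ q) :
    key (Tuple.sort key p) ≠ key (Tuple.sort key q) := by
  intro heq
  have hmono : Monotone (key ∘ Tuple.sort key) := Tuple.monotone_sort key
  have hsub : (Finset.Icc p q).map (Tuple.sort key).toEmbedding ⊆
      Finset.univ.filter fun k => key k = key (Tuple.sort key p) := by
    intro k hk
    rw [Finset.mem_map] at hk
    obtain ⟨m, hm, rfl⟩ := hk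
    rw [Finset.mem_Icc] at hm
    rw [Finset.mem_filter]
    refine ⟨Finset.mem_univ _, ?_⟩
    have h1 : key (Tuple.sort key p) ≤ key (Tuple.sort key m) := hmono hm.1
    have h2 : key (Tuple.sort key m) ≤ key (Tuple.sort key q) := hmono hm.2
    exact le_antisymm (h2.trans heq.ge) h1
  have hcard := Finset.card_le_card hsub
  rw [Finset.card_map, Fin.card_Icc] at hcard
  have := hkey (key (Tuple.sort key p))
  omega

theorem card_fiber_one {n : ℕ} (f : Fin n → Fin n) (hf : Function.Injective f) (m : Fin n) :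
    (Finset.univ.filter fun k => f k = m).card = 1 := by
  obtain ⟨k0, hk0⟩ := (Finite.injective_iff_surjective.1 hf) m
  rw [Finset.card_eq_one]
  refine ⟨k0, ?_⟩
  ext k
  simp only [Finset.mem_filter, Finset.mem_univ, true_and, Finset.mem_singleton]
  constructor
  · intro h; exact hf (h.trans hk0.symm)
  · rintro rfl; exact hk0


/-- Let e ≥ 1, n = 2e + 1, and let x_1, …, x_n be points such that no point occurs more than e times
among them (the stability condition for n ordered points on a line, n odd). Then there are index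
sequences i_1, …, i_n and j_1, …, j_n in which every index between 1 and n occurs exactly twice in
total, such that x_{i_k} ≠ x_{j_k} for every k and (i_1, i_2, i_3) = (j_3, j_1, j_2). Indices are
written 0, …, n − 1 here. -/
theorem result {α : Type u} [DecidableEq α] (e : ℕ) (he : 1 ≤ e)
    (x : Fin (2 * e + 1) → α)
    (hx : ∀ a : α, (Finset.univ.filter fun k => x k = a).card ≤ e) :
    ∃ i j : Fin (2 * e + 1) → Fin (2 * e + 1),
      (∀ m : Fin (2 * e + 1),
        (Finset.univ.filter fun k => i k = m).card + (Finset.univ.filter fun k => j k = m).card = 2) ∧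
      (∀ k, x (i k) ≠ x (j k)) ∧
      i 0 = j 2 ∧ i 1 = j 0 ∧ i 2 = j 1 := by
  have hne : ∀ k : Fin (2 * e + 1), (Finset.univ.filter fun m => x m = x k).Nonempty :=
    fun k => ⟨k, by simp⟩
  let key : Fin (2 * e + 1) → Fin (2 * e + 1) :=
    fun k => (Finset.univ.filter fun m => x m = x k).min' (hne k)
  have hkx : ∀ k, x (key k) = x k := by
    intro k
    have := Finset.min'_mem _ (hne k)
    exact (Finset.mem_filter.1 this).2
  have hxk : ∀ k k', x k = x k' → key k = key k' := by
    intro k k' h
    show (Finset.univ.filter fun m => x m = x k).min' (hne k) =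
      (Finset.univ.filter fun m => x m = x k').min' (hne k')
    simp only [h]
  have hkey : ∀ v : Fin (2 * e + 1), (Finset.univ.filter fun k => key k = v).card ≤ e := by
    intro v
    by_cases hv : ∃ k0, key k0 = v
    · obtain ⟨k0, rfl⟩ := hv
      refine le_trans (Finset.card_le_card ?_) (hx (x k0))
      intro k hk
      rw [Finset.mem_filter] at hk ⊢
      refine ⟨hk.1, ?_⟩
      rw [← hkx k, hk.2, hkx k0]
    · push Not at hv
      rw [Finset.card_eq_zero.2]
      · exact Nat.zero_le _
      · rw [Finset.filter_eq_empty_iff]; intro k _; exact hv k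
  let s := Tuple.sort key
  let πi : Fin (2 * e + 1) → Fin (2 * e + 1) := fun k => ⟨pi e k.val, pi_lt e k.val he k.isLt⟩
  let πj : Fin (2 * e + 1) → Fin (2 * e + 1) := fun k => ⟨pj e k.val, pj_lt e k.val he k.isLt⟩
  have hπi : Function.Injective πi := by
    intro k k' h
    have := congrArg Fin.val h
    exact Fin.ext (pi_inj e k.val k'.val he k.isLt k'.isLt this)
  have hπj : Function.Injective πj := by
    intro k k' h
    have := congrArg Fin.val h
    exact Fin.ext (pj_inj e k.val k'.val he k.isLt k'.isLt this)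
  have h0 : ((0 : Fin (2 * e + 1)) : ℕ) = 0 := rfl
  have h1 : ((1 : Fin (2 * e + 1)) : ℕ) = 1 := by
    show 1 % (2 * e + 1) = 1; exact Nat.mod_eq_of_lt (by omega)
  have h2 : ((2 : Fin (2 * e + 1)) : ℕ) = 2 := by
    show 2 % (2 * e + 1) = 2; exact Nat.mod_eq_of_lt (by omega)
  refine ⟨fun k => s (πi k), fun k => s (πj k), ?_, ?_, ?_, ?_, ?_⟩
  · intro m
    show (Finset.univ.filter fun k => s (πi k) = m).card + (Finset.univ.filter fun k => s (πj k) = m).card = 2
    have a1 : (Finset.univ.filter fun k => s (πi k) = m).card = 1 :=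
      card_fiber_one (fun k => s (πi k)) (s.injective.comp hπi) m
    have a2 : (Finset.univ.filter fun k => s (πj k) = m).card = 1 :=
      card_fiber_one (fun k => s (πj k)) (s.injective.comp hπj) m
    rw [a1, a2]
  · intro k
    have hd := pi_pj e k.val he k.isLt
    intro hx'
    have hk' : key (s (πi k)) = key (s (πj k)) := hxk _ _ hx'
    rcases hd with hd | hd
    · exact sorted_ne key hkey (πi k) (πj k) hd hk'
    · exact sorted_ne key hkey (πj k) (πi k) hd hk'.symm
  · show s (πi 0) = s (πj 2)
    congr 1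
    apply Fin.ext
    show pi e ((0 : Fin (2 * e + 1)) : ℕ) = pj e ((2 : Fin (2 * e + 1)) : ℕ)
    rw [h0, h2]; simp [pi, pj]
  · show s (πi 1) = s (πj 0)
    congr 1
    apply Fin.ext
    show pi e ((1 : Fin (2 * e + 1)) : ℕ) = pj e ((0 : Fin (2 * e + 1)) : ℕ)
    rw [h0, h1]; simp [pi, pj]
  · show s (πi 2) = s (πj 1)
    congr 1
    apply Fin.ext
    show pi e ((2 : Fin (2 * e + 1)) : ℕ) = pj e ((1 : Fin (2 * e + 1)) : ℕ)
    rw [h1, h2]; simp [pi, pj]

end Groth.Agent.S19390
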