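import Groth.Statements.S19392
import Mathlib
import Groth.Agent.Lib.helper9.H9_Quartic

set_option autoImplicit false
universe u
open InvQ

namespace Groth.Agent.S19392

/-- Over a field of characteristic different from 2 and 3, a nonzero binary quartic f has P(f) = Q(f) =
0 for the two basic invariants P, Q if and only if f has a triple zero. Stated for f = ∏_i (μ_i X₀ −
λ_i X₁) given by four root points (λ_i, μ_i) ≠ (0, 0) (over an algebraically closed field every
nonzero quartic form is of this shape), with the integral invariants I = 6P and J = 72Q of the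
coefficients of f; a triple zero means that three of the four root points are pairwise proportional. -/
theorem result (k : Type u) [Field k]
    (h2 : (2 : k) ≠ 0) (h3 : (3 : k) ≠ 0) (la mu : Fin 4 → k) (hne : ∀ i, la i ≠ 0 ∨ mu i ≠ 0) :
    (W4c6intromoduli.invI (W4c6intromoduli.coef la mu) = 0 ∧
        W4c6intromoduli.invJ (W4c6intromoduli.coef la mu) = 0) ↔
      ∃ i j l : Fin 4, i ≠ j ∧ j ≠ l ∧ i ≠ l ∧
        la i * mu j = la j * mu i ∧ la j * mu l = la l * mu j := by
  have hI2 := H9_Quartic.two_invI la mu
  have hJ := H9_Quartic.invJ_eq la mu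
  have hP := H9_Quartic.plucker la mu
  have h6 : (6 : k) ≠ 0 := by
    have : (6 : k) = 2 * 3 := by norm_num
    rw [this]; exact mul_ne_zero h2 h3
  set A := H9_Quartic.d la mu 0 1 * H9_Quartic.d la mu 2 3 with hA
  set B := H9_Quartic.d la mu 0 2 * H9_Quartic.d la mu 3 1 with hB
  set C := H9_Quartic.d la mu 0 3 * H9_Quartic.d la mu 1 2 with hC
  constructor
  · rintro ⟨hI0, hJ0⟩
    rw [hI0, mul_zero] at hI2
    rw [hJ0] at hJ
    have hABC : A = 0 ∧ B = 0 := by
      have hC' : C = -A - B := by linear_combination hP
      rcases mul_eq_zero.mp hJ.symm with h | h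
      · rcases mul_eq_zero.mp h with h | h
        · -- A = B
          have hAB : A = B := sub_eq_zero.mp h
          have : 6 * A ^ 2 = 0 := by
            rw [hC', ← hAB] at hI2
            linear_combination -hI2
          have hA0 : A = 0 := by
            have := (mul_eq_zero.mp this).resolve_left h6
            exact pow_eq_zero_iff (two_ne_zero) |>.mp this
          exact ⟨hA0, hAB ▸ hA0⟩
        · -- B = C
          have hBC : B = C := sub_eq_zero.mp h
          have hA2 : A = -2 * B := by linear_combination hP + hBC
          have : 6 * B ^ 2 = 0 := by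
            rw [← hBC, hA2] at hI2
            linear_combination -hI2
          have hB0 : B = 0 := by
            have := (mul_eq_zero.mp this).resolve_left h6
            exact pow_eq_zero_iff (two_ne_zero) |>.mp this
          exact ⟨by rw [hA2, hB0, mul_zero], hB0⟩
      · -- C = A
        have hCA : C = A := sub_eq_zero.mp h
        have hB2 : B = -2 * A := by linear_combination hP - hCA
        have : 6 * A ^ 2 = 0 := by
          rw [hCA, hB2] at hI2
          linear_combination -hI2
        have hA0 : A = 0 := by
          have := (mul_eq_zero.mp this).resolve_left h6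
          exact pow_eq_zero_iff (two_ne_zero) |>.mp this
        exact ⟨hA0, by rw [hB2, hA0, mul_zero]⟩
    obtain ⟨hA0, hB0⟩ := hABC
    simp only [hA, hB, H9_Quartic.d] at hA0 hB0
    rcases mul_eq_zero.mp hA0 with h01 | h23
    · rcases mul_eq_zero.mp hB0 with h02 | h31
      · exact ⟨1, 0, 2, by decide, by decide, by decide, by linear_combination -h01,
          by linear_combination h02⟩
      · exact ⟨0, 1, 3, by decide, by decide, by decide, by linear_combination h01,
          by linear_combination -h31⟩
    · rcases mul_eq_zero.mp hB0 with h02 | h31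
      · exact ⟨0, 2, 3, by decide, by decide, by decide, by linear_combination h02,
          by linear_combination h23⟩
      · exact ⟨2, 3, 1, by decide, by decide, by decide, by linear_combination h23,
          by linear_combination h31⟩
  · rintro ⟨i, j, l, hij, hjl, hil, h1, h2'⟩
    have h3' : la i * mu l = la l * mu i := by
      rcases hne j with hj | hj
      · have : la j * (la i * mu l - la l * mu i) = 0 := by
          linear_combination la l * h1 + la i * h2'
        have := (mul_eq_zero.mp this).resolve_left hj
        linear_combination this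
      · have : mu j * (la i * mu l - la l * mu i) = 0 := by
          linear_combination mu l * h1 + mu i * h2'
        have := (mul_eq_zero.mp this).resolve_left hj
        linear_combination this
    have key : ∀ a b : Fin 4, (a = i ∨ a = j ∨ a = l) → (b = i ∨ b = j ∨ b = l) →
        H9_Quartic.d la mu a b = 0 := by
      rintro a b (rfl | rfl | rfl) (rfl | rfl | rfl) <;> unfold H9_Quartic.d
      · ring
      · linear_combination h1
      · linear_combination h3'
      · linear_combination -h1
      · ring
      · linear_combination h2'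
      · linear_combination -h3'
      · linear_combination -h2'
      · ring
    have comb1 : ∀ i j l : Fin 4, i ≠ j → j ≠ l → i ≠ l →
        ((((0 : Fin 4) = i ∨ 0 = j ∨ 0 = l) ∧ ((1 : Fin 4) = i ∨ 1 = j ∨ 1 = l)) ∨
          (((2 : Fin 4) = i ∨ 2 = j ∨ 2 = l) ∧ ((3 : Fin 4) = i ∨ 3 = j ∨ 3 = l))) := by
      decide
    have comb2 : ∀ i j l : Fin 4, i ≠ j → j ≠ l → i ≠ l →
        ((((0 : Fin 4) = i ∨ 0 = j ∨ 0 = l) ∧ ((2 : Fin 4) = i ∨ 2 = j ∨ 2 = l)) ∨
          (((3 : Fin 4) = i ∨ 3 = j ∨ 3 = l) ∧ ((1 : Fin 4) = i ∨ 1 = j ∨ 1 = l))) := by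
      decide
    have comb3 : ∀ i j l : Fin 4, i ≠ j → j ≠ l → i ≠ l →
        ((((0 : Fin 4) = i ∨ 0 = j ∨ 0 = l) ∧ ((3 : Fin 4) = i ∨ 3 = j ∨ 3 = l)) ∨
          (((1 : Fin 4) = i ∨ 1 = j ∨ 1 = l) ∧ ((2 : Fin 4) = i ∨ 2 = j ∨ 2 = l))) := by
      decide
    have c1 := comb1 i j l hij hjl hil
    have c2 := comb2 i j l hij hjl hil
    have c3 := comb3 i j l hij hjl hil
    have hA0 : A = 0 := by
      rcases c1 with ⟨x, y⟩ | ⟨x, y⟩
      · rw [hA, key 0 1 x y, zero_mul]
      · rw [hA, key 2 3 x y, mul_zero]
    have hB0 : B = 0 := by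
      rcases c2 with ⟨x, y⟩ | ⟨x, y⟩
      · rw [hB, key 0 2 x y, zero_mul]
      · rw [hB, key 3 1 x y, mul_zero]
    have hC0 : C = 0 := by
      rcases c3 with ⟨x, y⟩ | ⟨x, y⟩
      · rw [hC, key 0 3 x y, zero_mul]
      · rw [hC, key 1 2 x y, mul_zero]
    rw [hA0, hB0, hC0] at hI2 hJ
    constructor
    · have : (2 : k) * W4c6intromoduli.invI (W4c6intromoduli.coef la mu) = 0 := by
        rw [hI2]; ring
      exact (mul_eq_zero.mp this).resolve_left h2
    · rw [hJ]; ring

end Groth.Agent.S19392
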