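import Groth.Statements.S19395
import Groth.Statements.S19395
import Groth.Agent.Lib.helper9.H9_OrbitSS2

set_option autoImplicit false
universe u
open InvQ

namespace Groth.Agent.S19395

/-- Over an algebraically closed field, the Zariski closures of the conjugation orbits of two square
matrices B₁, B₂ meet if and only if their semisimple parts lie in one orbit. The semisimple parts
are given as S_i with B_i = S_i + N_i, S_i semisimple, N_i nilpotent, S_i N_i = N_i S_i; a common
point of the two closures is a matrix C at which every polynomial in the matrix entries vanishing on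
the whole orbit of B₁, and every one vanishing on the whole orbit of B₂, vanishes. -/
theorem result (k : Type u) [Field k] [IsAlgClosed k]
    (n : ℕ) (B₁ S₁ N₁ B₂ S₂ N₂ : Matrix (Fin n) (Fin n) k)
    (hS₁ : Module.End.IsSemisimple (Matrix.toLin' S₁)) (hN₁ : IsNilpotent N₁) (hc₁ : Commute S₁ N₁)
    (hB₁ : B₁ = S₁ + N₁)
    (hS₂ : Module.End.IsSemisimple (Matrix.toLin' S₂)) (hN₂ : IsNilpotent N₂) (hc₂ : Commute S₂ N₂)
    (hB₂ : B₂ = S₂ + N₂) :
    (∃ C : Matrix (Fin n) (Fin n) k,
        (∀ F : MvPolynomial (Fin n × Fin n) k,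
          (∀ A : Matrix (Fin n) (Fin n) k, IsUnit A.det →
            MvPolynomial.eval (fun p => (A * B₁ * A⁻¹) p.1 p.2) F = 0) →
          MvPolynomial.eval (fun p => C p.1 p.2) F = 0) ∧
        (∀ F : MvPolynomial (Fin n × Fin n) k,
          (∀ A : Matrix (Fin n) (Fin n) k, IsUnit A.det →
            MvPolynomial.eval (fun p => (A * B₂ * A⁻¹) p.1 p.2) F = 0) →
          MvPolynomial.eval (fun p => C p.1 p.2) F = 0)) ↔
      ∃ A : Matrix (Fin n) (Fin n) k, IsUnit A.det ∧ A * S₁ * A⁻¹ = S₂ := by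
  obtain ⟨m₁, hm₁⟩ := hN₁
  have hm₁' : N₁ ^ (m₁ + 1) = 0 := by rw [pow_succ, hm₁, zero_mul]
  obtain ⟨m₂, hm₂⟩ := hN₂
  have hm₂' : N₂ ^ (m₂ + 1) = 0 := by rw [pow_succ, hm₂, zero_mul]
  have hcl₁ := H9_OrbitSS.orbit_closure S₁ hS₁ m₁ N₁ hc₁ hm₁'
  have hcl₂ := H9_OrbitSS.orbit_closure S₂ hS₂ m₂ N₂ hc₂ hm₂'
  rw [← hB₁] at hcl₁
  rw [← hB₂] at hcl₂
  constructor
  · rintro ⟨C, hC₁, hC₂⟩
    have h1 : C.charpoly = B₁.charpoly := H9_OrbitSS.charpoly_eq_of_closure B₁ C hC₁
    have h2 : C.charpoly = B₂.charpoly := H9_OrbitSS.charpoly_eq_of_closure B₂ C hC₂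
    have h3 : S₁.charpoly = B₁.charpoly := by
      apply H9_OrbitSS.charpoly_eq_of_closure B₁ S₁
      intro F hF
      have := hcl₁ F hF 1 (by simp)
      simpa using this
    have h4 : S₂.charpoly = B₂.charpoly := by
      apply H9_OrbitSS.charpoly_eq_of_closure B₂ S₂
      intro F hF
      have := hcl₂ F hF 1 (by simp)
      simpa using this
    have h5 : (Matrix.toLin' S₁).charpoly = (Matrix.toLin' S₂).charpoly := by
      rw [Matrix.charpoly_toLin', Matrix.charpoly_toLin', h3, h4, ← h1, ← h2]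
    obtain ⟨e, he⟩ := H9_SSConj.exists_conj _ _ hS₁ hS₂ h5
    let A : Matrix (Fin n) (Fin n) k := LinearMap.toMatrix' (e : (Fin n → k) →ₗ[k] (Fin n → k))
    let A' : Matrix (Fin n) (Fin n) k := LinearMap.toMatrix' (e.symm : (Fin n → k) →ₗ[k] (Fin n → k))
    have hAA' : A * A' = 1 := by
      rw [← LinearMap.toMatrix'_comp]
      have : (e : (Fin n → k) →ₗ[k] (Fin n → k)) ∘ₗ (e.symm : (Fin n → k) →ₗ[k] (Fin n → k)) =
          LinearMap.id := by
        ext v; simp
      rw [this, LinearMap.toMatrix'_id]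
    have hdet : IsUnit A.det := Matrix.isUnit_det_of_right_inverse hAA'
    have hcomm : A * S₁ = S₂ * A := by
      have e1 : S₁ = LinearMap.toMatrix' (Matrix.toLin' S₁) := (LinearMap.toMatrix'_toLin' S₁).symm
      have e2 : S₂ = LinearMap.toMatrix' (Matrix.toLin' S₂) := (LinearMap.toMatrix'_toLin' S₂).symm
      rw [e1, e2, ← LinearMap.toMatrix'_comp, ← LinearMap.toMatrix'_comp]
      congr 1
      apply LinearMap.ext
      intro v
      exact he v
    refine ⟨A, hdet, ?_⟩
    rw [hcomm, mul_assoc, Matrix.mul_nonsing_inv A hdet, mul_one]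
  · rintro ⟨A, hA, hAS⟩
    refine ⟨S₂, ?_, ?_⟩
    · intro F hF
      have := hcl₁ F hF A hA
      rw [hAS] at this
      exact this
    · intro F hF
      have := hcl₂ F hF 1 (by simp)
      simpa [H9_OrbitSS.ev] using this

end Groth.Agent.S19395
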