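import Groth.Statements.S19602
import Mathlib
import Groth.Agent.Lib.helper9.H9_InvSep

set_option autoImplicit false
universe u
open GIT

namespace Groth.Agent.S19602

/-- Let k be an algebraically closed field, G = Spec A a linearly reductive affine algebraic group over
k, and U = Spec R an affine k-scheme of finite type on which G acts. Two k-points x₁, x₂ of U have
the same image in U//G = Spec R^G if and only if the closures of their orbits have a common k-point.
Stated in coaction form. The published statement allows any affine U and asks only that the two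
orbit closures meet; this row assumes U of finite type over k and asks for a common k-point, which
is then equivalent. -/
theorem result (k : Type u) [Field k] [IsAlgClosed k]
    (A : Type u) [CommRing A] [HopfAlgebra k A] [Algebra.FiniteType k A] (hG : HopfRep.IsLinearlyReductive k A)
    (R : Type u) [CommRing R] [Algebra k R] [Algebra.FiniteType k R] [HopfRep.Comod k A R] [GLin.IsCoactAlg k A R]
    (x₁ x₂ : R →ₐ[k] k) :
    x₁.comp (GLin.invariants k A R).val = x₂.comp (GLin.invariants k A R).val ↔
      ∃ z : R →ₐ[k] k, GLin.InOrbitClosure k A x₁ z ∧ GLin.InOrbitClosure k A x₂ z := by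
  classical
  have hinv : ∀ (x : R →ₐ[k] k) (f : R), f ∈ GLin.invariants k A R →
      GLin.orbitHom k A x f = algebraMap k A (x f) := by
    intro x f hf
    have hf' : HopfRep.Comod.coact (k := k) (A := A) f = f ⊗ₜ[k] (1 : A) := hf
    show Algebra.TensorProduct.lid k A (Algebra.TensorProduct.map x (AlgHom.id k A)
      (HopfRep.Comod.coact (k := k) (A := A) f)) = _
    rw [hf']
    simp [Algebra.algebraMap_eq_smul_one]
  constructor
  · intro hxy
    have hxy' : ∀ f ∈ GLin.invariants k A R, x₁ f = x₂ f := by
      intro f hf
      exact AlgHom.congr_fun hxy ⟨f, hf⟩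
    by_cases hJ : RingHom.ker (GLin.orbitHom k A x₁ : R →+* A) ⊔
        RingHom.ker (GLin.orbitHom k A x₂ : R →+* A) = ⊤
    · exfalso
      obtain ⟨e, hefix, hex, hey⟩ := H9_InvSep.exists_invariant_sep hG _ _
        (H9_InvSep.isSubcomod_ker_orbitHom x₁) (H9_InvSep.isSubcomod_ker_orbitHom x₂) hJ
      have h1 : x₁ e = 0 := by
        have hex' : GLin.orbitHom k A x₁ e = 0 := RingHom.mem_ker.1 hex
        rw [← H9_InvSep.counit_orbitHom (A := A) x₁ e, hex', map_zero]
      have h2 : x₂ (1 - e) = 0 := by
        have hey' : GLin.orbitHom k A x₂ (1 - e) = 0 := RingHom.mem_ker.1 hey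
        rw [← H9_InvSep.counit_orbitHom (A := A) x₂ (1 - e), hey', map_zero]
      have h3 := hxy' e hefix
      rw [map_sub, map_one, ← h3, h1, sub_zero] at h2
      exact one_ne_zero h2
    · obtain ⟨z, hz⟩ := H9_InvSep.exists_point (k := k) _ hJ
      refine ⟨z, ?_, ?_⟩
      · intro f hf
        exact RingHom.mem_ker.2 (hz f (Ideal.mem_sup_left hf))
      · intro f hf
        exact RingHom.mem_ker.2 (hz f (Ideal.mem_sup_right hf))
  · rintro ⟨z, hz₁, hz₂⟩
    apply AlgHom.ext
    rintro ⟨f, hf⟩
    have key : ∀ x : R →ₐ[k] k, GLin.InOrbitClosure k A x z → z f = x f := by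
      intro x hx
      have h1 : f - algebraMap k R (x f) ∈ RingHom.ker (GLin.orbitHom k A x) := by
        rw [RingHom.mem_ker, map_sub, hinv x f hf, AlgHom.commutes, sub_self]
      have h2 := RingHom.mem_ker.1 (hx h1)
      rw [map_sub, AlgHom.commutes, sub_eq_zero] at h2
      simpa using h2
    show x₁ f = x₂ f
    rw [← key x₁ hz₁, ← key x₂ hz₂]

end Groth.Agent.S19602
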