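import Groth.Statements.S19436
import Mathlib
import Groth.Agent.S18387

set_option autoImplicit false
universe u
open CAlg

namespace Groth.Agent.S19436

/-- For a Noetherian local commutative algebra R over a field k, with maximal ideal M, and an ideal I of
R whose quotient R/I is finite-dimensional over k of dimension n, the power M^n lies in I. -/
theorem result (k : Type u) [Field k] (R : Type u) [CommRing R]
    [Algebra k R] [IsNoetherianRing R] [IsLocalRing R] (I : Ideal R) [Module.Finite k (R ⧸ I)] (n : ℕ)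
    (hn : Module.finrank k (R ⧸ I) = n) : IsLocalRing.maximalIdeal R ^ n ≤ I := by
  by_cases hI : I = ⊤
  · rw [hI]; exact le_top
  haveI : Nontrivial (R ⧸ I) := Ideal.Quotient.nontrivial_iff.mpr hI
  haveI : IsLocalRing (R ⧸ I) :=
    IsLocalRing.of_surjective' (Ideal.Quotient.mk I) Ideal.Quotient.mk_surjective
  haveI : IsArtinianRing (R ⧸ I) := IsArtinianRing.of_finite k (R ⧸ I)
  have hnil : nilradical (R ⧸ I) = IsLocalRing.maximalIdeal (R ⧸ I) := by
    have h0 : nilradical (R ⧸ I) = Ideal.radical (⊥ : Ideal (R ⧸ I)) := rfl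
    rw [h0, ← IsArtinianRing.jacobson_eq_radical,
      IsLocalRing.jacobson_eq_maximalIdeal ⊥ bot_ne_top]
  have hpow := Groth.Agent.S18387.result k (R ⧸ I)
  rw [hn, hnil] at hpow
  haveI : IsLocalHom (Ideal.Quotient.mk I) :=
    IsLocalHom.of_surjective (Ideal.Quotient.mk I) Ideal.Quotient.mk_surjective
  have hmap : (IsLocalRing.maximalIdeal R).map (Ideal.Quotient.mk I) ≤
      IsLocalRing.maximalIdeal (R ⧸ I) := IsLocalRing.map_maximalIdeal_le _
  intro y hy
  have h1 : Ideal.Quotient.mk I y ∈ ((IsLocalRing.maximalIdeal R) ^ n).map (Ideal.Quotient.mk I) :=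
    Ideal.mem_map_of_mem _ hy
  rw [Ideal.map_pow] at h1
  have h2 := Ideal.pow_right_mono hmap n h1
  rw [hpow] at h2
  exact Ideal.Quotient.eq_zero_iff_mem.mp h2

end Groth.Agent.S19436
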