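import Groth.Statements.S19438
import Mathlib

set_option autoImplicit false
universe u
open CAlg

namespace Groth.Agent.S19438

/-- First assertion: let A be a Noetherian local commutative algebra over a field k with maximal ideal
M, residue field k (the map from k to A/M is onto) and embedding dimension dim M/M^2 at least 2, and
let I be a proper ideal with A/I finite-dimensional over k. If A/I is generated as a k-algebra by
one element, then some element of I does not lie in M^2; that is, the finite closed subscheme
defined by I lies on a smooth hypersurface germ (it is curvilinear). (The published statement is for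
the local ring of a smooth surface at a closed point; only a Noetherian local algebra with residue
field k and embedding dimension at least 2 is assumed here, which is what the published argument
uses.) -/
theorem result (k : Type u) [Field k]
    (A : Type u) [CommRing A] [Algebra k A] [IsNoetherianRing A] [IsLocalRing A]
    (hres : Function.Surjective (algebraMap k (IsLocalRing.ResidueField A)))
    (hemb : 2 ≤ Module.finrank (IsLocalRing.ResidueField A) (IsLocalRing.CotangentSpace A))
    (I : Ideal A) (hI : I ≠ ⊤) [Module.Finite k (A ⧸ I)]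
    (f : A ⧸ I) (hf : Algebra.adjoin k {f} = ⊤) :
    ∃ g ∈ I, g ∉ IsLocalRing.maximalIdeal A ^ 2 := by
  classical
  by_contra hcon
  push Not at hcon
  have hIsq : I ≤ IsLocalRing.maximalIdeal A ^ 2 := fun g hg => hcon g hg
  have hIm : I ≤ IsLocalRing.maximalIdeal A := IsLocalRing.le_maximalIdeal hI
  obtain ⟨f₀, rfl⟩ := Ideal.Quotient.mk_surjective f
  obtain ⟨a, ha⟩ := hres (IsLocalRing.residue A f₀)
  set g₀ : A := f₀ - algebraMap k A a with hg₀
  have hg₀m : g₀ ∈ IsLocalRing.maximalIdeal A := by
    rw [← IsLocalRing.residue_eq_zero_iff, hg₀, map_sub, ← ha, sub_eq_zero]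
    exact (IsScalarTower.algebraMap_apply k A (IsLocalRing.ResidueField A) a)
  have hstep : IsLocalRing.maximalIdeal A ≤ Ideal.span {g₀} ⊔ I := by
    intro t ht
    have h1 : Ideal.Quotient.mk I t ∈ Algebra.adjoin k {Ideal.Quotient.mk I f₀} := by
      rw [hf]; exact Algebra.mem_top
    rw [Algebra.adjoin_singleton_eq_range_aeval] at h1
    obtain ⟨P, hP⟩ := h1
    -- shift polynomial: P' = P.comp (X + C a)
    set P' : Polynomial k := P.comp (Polynomial.X + Polynomial.C a) with hP'
    have h2 : Polynomial.aeval (Ideal.Quotient.mk I g₀) P' = Ideal.Quotient.mk I t := by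
      rw [hP', Polynomial.aeval_comp, ← hP]
      congr 1
      simp only [map_add, Polynomial.aeval_X, Polynomial.aeval_C, hg₀, map_sub]
      have : (Ideal.Quotient.mk I) (algebraMap k A a) = algebraMap k (A ⧸ I) a := rfl
      rw [this]
      ring_nf
    have h3 : P' = Polynomial.X * P'.divX + Polynomial.C (P'.coeff 0) :=
      (Polynomial.X_mul_divX_add P').symm
    obtain ⟨q, hq⟩ := Ideal.Quotient.mk_surjective (Polynomial.aeval (Ideal.Quotient.mk I g₀) P'.divX)
    have h4 : Ideal.Quotient.mk I t = Ideal.Quotient.mk I (g₀ * q + algebraMap k A (P'.coeff 0)) := by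
      rw [← h2]
      conv_lhs => rw [h3]
      rw [map_add, map_mul, Polynomial.aeval_X, Polynomial.aeval_C, map_add, map_mul, hq]
      rfl
    have h5 : t - (g₀ * q + algebraMap k A (P'.coeff 0)) ∈ I := by
      rw [← Ideal.Quotient.eq_zero_iff_mem, map_sub, h4, sub_self]
    have h6 : algebraMap k A (P'.coeff 0) ∈ IsLocalRing.maximalIdeal A := by
      have h7 := hIm h5
      have h8 : g₀ * q ∈ IsLocalRing.maximalIdeal A := Ideal.mul_mem_right _ _ hg₀m
      have h9 : algebraMap k A (P'.coeff 0) = t - g₀ * q - (t - (g₀ * q + algebraMap k A (P'.coeff 0))) := by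
        ring
      rw [h9]
      exact Ideal.sub_mem _ (Ideal.sub_mem _ ht h8) h7
    have h10 : P'.coeff 0 = 0 := by
      by_contra hne
      have : IsUnit (algebraMap k A (P'.coeff 0)) := (isUnit_iff_ne_zero.2 hne).map _
      exact (IsLocalRing.mem_maximalIdeal _).1 h6 this
    rw [h10, map_zero, add_zero] at h5
    have h11 : t = g₀ * q + (t - g₀ * q) := by ring
    rw [h11]
    exact Ideal.add_mem _ (Ideal.mem_sup_left (Ideal.mul_mem_right _ _ (Ideal.subset_span rfl)))
      (Ideal.mem_sup_right h5)
  have hle : IsLocalRing.maximalIdeal A ≤ Ideal.span {g₀} := by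
    apply Submodule.le_of_le_smul_of_le_jacobson_bot (I := IsLocalRing.maximalIdeal A)
      (IsNoetherian.noetherian _) (IsLocalRing.maximalIdeal_le_jacobson _)
    refine le_trans hstep (sup_le_sup le_rfl ?_)
    rw [smul_eq_mul, ← pow_two]
    exact hIsq
  have heq : IsLocalRing.maximalIdeal A = Ideal.span {g₀} :=
    le_antisymm hle ((Ideal.span_singleton_le_iff_mem _).2 hg₀m)
  have hprin : (IsLocalRing.maximalIdeal A).IsPrincipal := ⟨⟨g₀, heq⟩⟩
  have := (IsLocalRing.finrank_cotangentSpace_le_one_iff).2 hprin
  omega

end Groth.Agent.S19438
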