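import Groth.Statements.S19440
import Mathlib

set_option autoImplicit false
universe u
open LinAlg

namespace Groth.Agent.S19440

/-- Let U, V be commuting n × n matrices over a field k and e a vector which is cyclic for them (the
vectors U^p V^q e span k^n). An invertible matrix T which commutes with U and V and fixes e is the
identity: the general linear group acts freely by simultaneous conjugation on commuting pairs with a
cyclic vector. -/
theorem result (k : Type u) [Field k] (n : ℕ)
    (U V : Matrix (Fin n) (Fin n) k) (hUV : U * V = V * U) (e : Fin n → k)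
    (he : Submodule.span k (Set.range fun p : ℕ × ℕ => (U ^ p.1 * V ^ p.2).mulVec e) = ⊤)
    (T : Matrix.GeneralLinearGroup (Fin n) k)
    (hTU : (T : Matrix (Fin n) (Fin n) k) * U = U * T) (hTV : (T : Matrix (Fin n) (Fin n) k) * V = V * T)
    (hTe : (T : Matrix (Fin n) (Fin n) k).mulVec e = e) : T = 1 := by
  have hcomm : ∀ a b : ℕ, (T : Matrix (Fin n) (Fin n) k) * (U ^ a * V ^ b) =
      (U ^ a * V ^ b) * (T : Matrix (Fin n) (Fin n) k) := by
    intro a b
    have h1 : Commute (T : Matrix (Fin n) (Fin n) k) U := hTU
    have h2 : Commute (T : Matrix (Fin n) (Fin n) k) V := hTV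
    exact ((h1.pow_right a).mul_right (h2.pow_right b)).eq
  have hfix : ∀ v : Fin n → k, (T : Matrix (Fin n) (Fin n) k).mulVec v = v := by
    intro v
    have hv : v ∈ Submodule.span k (Set.range fun p : ℕ × ℕ => (U ^ p.1 * V ^ p.2).mulVec e) := by
      rw [he]; exact Submodule.mem_top
    refine Submodule.span_induction
      (p := fun v _ => (T : Matrix (Fin n) (Fin n) k).mulVec v = v) ?_ ?_ ?_ ?_ hv
    · rintro _ ⟨⟨a, b⟩, rfl⟩
      simp only
      rw [Matrix.mulVec_mulVec, hcomm, ← Matrix.mulVec_mulVec, hTe]
    · exact Matrix.mulVec_zero _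
    · intro x y _ _ hx hy
      rw [Matrix.mulVec_add, hx, hy]
    · intro c x _ hx
      rw [Matrix.mulVec_smul, hx]
  apply Units.ext
  apply Matrix.mulVec_injective
  funext v
  rw [hfix v]
  simp

end Groth.Agent.S19440
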