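import Groth.Statements.S19443
import Mathlib

set_option autoImplicit false
universe u
open LinAlg

namespace Groth.Agent.S19443

/-- Algebraic form: let G be a finite group with order invertible in the field k, ρ a linear
representation of G on a k-vector space V, and ω a nondegenerate bilinear form on V invariant under
G. Then ω restricted to the fixed subspace V^G is nondegenerate (for a finite group of symplectic
automorphisms, the fixed subspace is a symplectic subspace). -/
theorem result (k : Type u) [Field k]
    (G : Type u) [Group G] [Finite G] (hG : (Nat.card G : k) ≠ 0)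
    (V : Type u) [AddCommGroup V] [Module k V] (ρ : Representation k G V)
    (ω : LinearMap.BilinForm k V) (hω : ω.Nondegenerate)
    (hinv : ∀ (g : G) (v w : V), ω (ρ g v) (ρ g w) = ω v w) :
    (ω.restrict ρ.invariants).Nondegenerate := by
  classical
  haveI : Fintype G := Fintype.ofFinite G
  have hcard : (Fintype.card G : k) ≠ 0 := by
    rw [← Nat.card_eq_fintype_card]; exact hG
  have havg : ∀ u : V, (∑ g : G, ρ g u) ∈ ρ.invariants := by
    intro u
    rw [Representation.mem_invariants]
    intro h
    rw [map_sum]
    refine Fintype.sum_equiv (Equiv.mulLeft h) _ _ ?_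
    intro g
    simp only [Equiv.coe_mulLeft, map_mul, Module.End.mul_apply]
  constructor
  · rintro ⟨v, hv⟩ hvw
    rw [Representation.mem_invariants] at hv
    have : v = 0 := by
      apply hω.1
      intro u
      have h1 := hvw ⟨∑ g : G, ρ g u, havg u⟩
      simp only [LinearMap.BilinForm.restrict_apply, LinearMap.domRestrict_apply] at h1
      rw [map_sum] at h1
      have h2 : ∀ g : G, ω v (ρ g u) = ω v u := by
        intro g
        conv_lhs => rw [← hv g]
        exact hinv g v u
      rw [Finset.sum_congr rfl (fun g _ => h2 g), Finset.sum_const, Finset.card_univ,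
        nsmul_eq_mul] at h1
      exact (mul_eq_zero.mp h1).resolve_left hcard
    exact Subtype.ext this
  · rintro ⟨v, hv⟩ hvw
    rw [Representation.mem_invariants] at hv
    have : v = 0 := by
      apply hω.2
      intro u
      have h1 := hvw ⟨∑ g : G, ρ g u, havg u⟩
      simp only [LinearMap.BilinForm.restrict_apply, LinearMap.domRestrict_apply] at h1
      rw [map_sum, LinearMap.sum_apply] at h1
      have h2 : ∀ g : G, ω (ρ g u) v = ω u v := by
        intro g
        conv_lhs => rw [← hv g]
        exact hinv g u v
      rw [Finset.sum_congr rfl (fun g _ => h2 g), Finset.sum_const, Finset.card_univ,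
        nsmul_eq_mul] at h1
      exact (mul_eq_zero.mp h1).resolve_left hcard
    exact Subtype.ext this

end Groth.Agent.S19443
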