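import Groth.Statements.S19448
import Mathlib

set_option autoImplicit false
universe u
open CAlg

namespace Groth.Agent.S19448

/-- Let k be a field, A a Noetherian local k-algebra with maximal ideal M and residue field k, and G a
finite group with |G| ≠ 0 in k acting on A by k-algebra automorphisms. An element of G which acts
trivially on M/M^2 acts trivially on A; in other words the stabilizer acts faithfully on the
cotangent space whenever it acts faithfully on the local ring. -/
theorem result (k : Type u) [Field k] (A : Type u) [CommRing A]
    [Algebra k A] [IsLocalRing A] [IsNoetherianRing A]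
    (hres : Function.Surjective (algebraMap k (IsLocalRing.ResidueField A)))
    (G : Type u) [Group G] [Finite G] [MulSemiringAction G A] [SMulCommClass G k A]
    (hG : (Nat.card G : k) ≠ 0) (g : G)
    (hg : ∀ a ∈ IsLocalRing.maximalIdeal A, g • a - a ∈ IsLocalRing.maximalIdeal A ^ 2) (a : A) :
    g • a = a := by
  classical
  set M := IsLocalRing.maximalIdeal A with hM
  have halg : ∀ c : k, g • (algebraMap k A c) = algebraMap k A c := by
    intro c
    rw [Algebra.algebraMap_eq_smul_one, smul_comm, smul_one]
  -- step 3
  have hδM : ∀ y ∈ M, g • y ∈ M := by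
    intro y hy
    have h1 := hg y hy
    have h2 : g • y - y ∈ M := Ideal.pow_le_self (by norm_num) h1
    have : g • y = (g • y - y) + y := by ring
    rw [this]
    exact M.add_mem h2 hy
  have h3 : ∀ j : ℕ, ∀ a ∈ M ^ j, g • a - a ∈ M ^ (j + 1) := by
    intro j
    induction j with
    | zero =>
      intro a _
      obtain ⟨c, hc⟩ := hres (IsLocalRing.residue A a)
      have hm : a - algebraMap k A c ∈ M := by
        rw [hM, ← Ideal.Quotient.eq_zero_iff_mem]
        have : (Ideal.Quotient.mk (IsLocalRing.maximalIdeal A)) (algebraMap k A c)
            = algebraMap k (IsLocalRing.ResidueField A) c := rfl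
        rw [map_sub, this, hc]
        exact sub_self _
      have h1 := hg _ hm
      have h2 : g • (a - algebraMap k A c) - (a - algebraMap k A c) = g • a - a := by
        rw [smul_sub, halg]; ring
      rw [h2] at h1
      simpa using Ideal.pow_le_self (by norm_num) h1
    | succ j ih =>
      intro a ha
      rw [pow_succ] at ha
      refine Submodule.mul_induction_on ha ?_ ?_
      · intro x hx y hy
        have e : g • (x * y) - x * y = (g • x - x) * (g • y) + x * (g • y - y) := by
          rw [smul_mul']; ring
        rw [e]
        refine Ideal.add_mem _ ?_ ?_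
        · rw [pow_succ (M) (j + 1)]
          exact Ideal.mul_mem_mul (ih x hx) (hδM y hy)
        · have : M ^ (j + 1 + 1) = M ^ j * M ^ 2 := by rw [← pow_add]
          rw [this]
          exact Ideal.mul_mem_mul hx (hg y hy)
      · intro x y hx hy
        have e : g • (x + y) - (x + y) = (g • x - x) + (g • y - y) := by
          rw [smul_add]; ring
        rw [e]
        exact Ideal.add_mem _ hx hy
  -- order
  set n := orderOf g with hn
  have hnpos : 0 < n := orderOf_pos g
  have hnk : (n : k) ≠ 0 := by
    obtain ⟨m, hm⟩ := orderOf_dvd_natCard g
    intro h0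
    apply hG
    rw [hm, Nat.cast_mul, h0, zero_mul]
  have hnA : IsUnit ((n : ℕ) : A) := by
    have : ((n : ℕ) : A) = algebraMap k A (n : k) := by simp
    rw [this]
    exact (IsUnit.mk0 _ hnk).map _
  have h5 : ∀ j : ℕ, ∀ a : A, g • a - a ∈ M ^ j := by
    intro j
    induction j with
    | zero => intro a; simp
    | succ j ih =>
      have hdd : ∀ a : A, g • (g • a - a) - (g • a - a) ∈ M ^ (j + 1) := fun a => h3 j _ (ih a)
      have key : ∀ i : ℕ, ∀ a : A, g ^ i • a - a - (i : A) * (g • a - a) ∈ M ^ (j + 1) := by
        intro i
        induction i with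
        | zero => intro a; simp
        | succ i ihi =>
          intro a
          have e : g ^ (i + 1) • a - a - ((i + 1 : ℕ) : A) * (g • a - a)
              = (g ^ i • a - a - (i : A) * (g • a - a))
                + ((g ^ i • (g • a - a) - (g • a - a) - (i : A) * (g • (g • a - a) - (g • a - a)))
                  + (i : A) * (g • (g • a - a) - (g • a - a))) := by
            rw [pow_succ, mul_smul]
            have : g ^ i • g • a = g ^ i • (g • a - a) + g ^ i • a := by
              rw [← smul_add]; congr 1; ring
            rw [this]; push_cast; ring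
          rw [e]
          refine Ideal.add_mem _ (ihi a) (Ideal.add_mem _ (ihi _) ?_)
          exact Ideal.mul_mem_left _ _ (hdd a)
      intro a
      have h := key n a
      rw [hn, pow_orderOf_eq_one, one_smul, sub_self, zero_sub, neg_mem_iff] at h
      obtain ⟨u, hu⟩ := hnA
      have : g • a - a = (↑u⁻¹ : A) * ((n : A) * (g • a - a)) := by
        rw [← mul_assoc, ← hu, Units.inv_mul, one_mul]
      rw [this]
      exact Ideal.mul_mem_left _ _ h
  have hK : (⨅ i, M ^ i) = ⊥ :=
    Ideal.iInf_pow_eq_bot_of_isLocalRing M (IsLocalRing.maximalIdeal.isMaximal A).ne_top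
  have : g • a - a ∈ (⨅ i, M ^ i) := by
    rw [Ideal.mem_iInf]; exact fun i => h5 i a
  rw [hK, Ideal.mem_bot, sub_eq_zero] at this
  exact this

end Groth.Agent.S19448
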