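import Groth.Statements.S19461
import Groth.Statements.S19461
import Groth.Agent.Lib.helper9.H9_FlatDescent

set_option autoImplicit false
universe u
open CAlg

namespace Groth.Agent.S19461

/-- The implication from isomorphic completions to flat and unramified. Let A → B be a local
homomorphism of Noetherian local rings and ψ a ring map from the completion of A at its maximal
ideal to that of B whose composite with A → A^ is A → B → B^. If ψ is bijective, then A → B is flat
and the maximal ideal of A generates the maximal ideal of B. (The published statement is the
implication, for a morphism of algebraic varieties over an algebraically closed field, from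
isomorphic induced maps of completed local rings at every point to flat and unramified; its proof is
this local-ring argument, valid for any Noetherian local rings. The converse implication is a
separate result.) -/
theorem result (A B : Type u) [CommRing A]
    [CommRing B] [IsLocalRing A] [IsLocalRing B] [IsNoetherianRing A] [IsNoetherianRing B]
    [Algebra A B] [IsLocalHom (algebraMap A B)]
    (ψ : AdicCompletion (IsLocalRing.maximalIdeal A) A →+* AdicCompletion (IsLocalRing.maximalIdeal B) B)
    (hψ : ψ.comp (algebraMap A (AdicCompletion (IsLocalRing.maximalIdeal A) A)) =
      (algebraMap B (AdicCompletion (IsLocalRing.maximalIdeal B) B)).comp (algebraMap A B))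
    (hbij : Function.Bijective ψ) :
    Module.Flat A B ∧
      Ideal.map (algebraMap A B) (IsLocalRing.maximalIdeal A) = IsLocalRing.maximalIdeal B := by
  classical
  have hA := AdicCompletion.maximalIdeal_eq_map (R := A)
  have hB := AdicCompletion.maximalIdeal_eq_map (R := B)
  haveI : Module.FaithfullyFlat B (AdicCompletion (IsLocalRing.maximalIdeal B) B) :=
    Module.FaithfullyFlat.of_flat_of_isLocalHom
  have halg : ∀ a : A, algebraMap A (AdicCompletion (IsLocalRing.maximalIdeal B) B) a =
      algebraMap B (AdicCompletion (IsLocalRing.maximalIdeal B) B) (algebraMap A B a) := by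
    intro a
    rfl
  haveI : IsScalarTower A B (AdicCompletion (IsLocalRing.maximalIdeal B) B) :=
    IsScalarTower.of_algebraMap_eq halg
  -- ψ is A-linear
  let e : AdicCompletion (IsLocalRing.maximalIdeal A) A ≃ₗ[A]
      AdicCompletion (IsLocalRing.maximalIdeal B) B :=
    LinearEquiv.ofBijective
      { toFun := ψ
        map_add' := map_add ψ
        map_smul' := fun a x => by
          rw [RingHom.id_apply, Algebra.smul_def, map_mul, Algebra.smul_def, halg]
          congr 1
          exact RingHom.congr_fun hψ a } hbij
  haveI : Module.Flat A (AdicCompletion (IsLocalRing.maximalIdeal B) B) :=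
    Module.Flat.of_linearEquiv e.symm
  refine ⟨Groth.Agent.H9.FlatDescent.flat_of_flat_of_faithfullyFlat A B
    (AdicCompletion (IsLocalRing.maximalIdeal B) B), ?_⟩
  have h1 : (IsLocalRing.maximalIdeal (AdicCompletion (IsLocalRing.maximalIdeal A) A)).map ψ =
      IsLocalRing.maximalIdeal (AdicCompletion (IsLocalRing.maximalIdeal B) B) :=
    IsLocalRing.eq_maximalIdeal ((Ideal.isMaximal_map_iff_of_bijective ψ hbij).2 inferInstance)
  rw [hA, Ideal.map_map, hψ, ← Ideal.map_map, hB] at h1
  have h2 := congrArg (Ideal.comap (algebraMap B (AdicCompletion (IsLocalRing.maximalIdeal B) B))) h1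
  rwa [Ideal.comap_map_eq_self_of_faithfullyFlat, Ideal.comap_map_eq_self_of_faithfullyFlat] at h2

end Groth.Agent.S19461
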