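import Groth.Statements.S9232
import Groth.Statements.S9232
import Groth.Agent.Lib.helper9.H9_ComplMap
import Groth.Agent.Lib.helper9.H9_HullFlatBC
import Groth.Agent.Lib.helper9.H9_MatlisComplete

set_option autoImplicit false
universe u
open CAlg

namespace Groth.Agent.S9232

/-- Suppose A → B is a flat local ring map between Noetherian local rings, the maximal ideal of A
generates that of B, and the residue field map is bijective. Then the induced map between the
completions of A and B (a ring map of the completions compatible with A → B; it is unique since A is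
Noetherian) is an isomorphism. -/
theorem result (A B : Type u) [CommRing A]
    [CommRing B] [IsLocalRing A] [IsLocalRing B] [IsNoetherianRing A] [IsNoetherianRing B]
    [Algebra A B] [IsLocalHom (algebraMap A B)] [Module.Flat A B]
    (hm : Ideal.map (algebraMap A B) (IsLocalRing.maximalIdeal A) = IsLocalRing.maximalIdeal B)
    (hk : Function.Bijective (IsLocalRing.ResidueField.map (algebraMap A B)))
    (ψ : AdicCompletion (IsLocalRing.maximalIdeal A) A →+* AdicCompletion (IsLocalRing.maximalIdeal B) B)
    (hψ : ψ.comp (algebraMap A (AdicCompletion (IsLocalRing.maximalIdeal A) A)) =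
      (algebraMap B (AdicCompletion (IsLocalRing.maximalIdeal B) B)).comp (algebraMap A B)) :
    Function.Bijective ψ := by
  classical
  haveI : Module.FaithfullyFlat A B := Module.FaithfullyFlat.of_flat_of_isLocalHom
  -- the residue degree is one
  have hd : Module.length (IsLocalRing.ResidueField A) (IsLocalRing.ResidueField B) = 1 := by
    have e : IsLocalRing.ResidueField A ≃ₗ[IsLocalRing.ResidueField A] IsLocalRing.ResidueField B :=
      LinearEquiv.ofBijective (Algebra.linearMap _ _) hk
    rw [← e.length_eq, Module.length_eq_finrank, Module.finrank_self]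
    rfl
  -- level-wise bijectivity
  have hbij : ∀ n : ℕ, Function.Bijective
      (TensorProduct.mk A B (A ⧸ IsLocalRing.maximalIdeal A ^ n) 1) := by
    intro n
    have hinj := Module.FaithfullyFlat.tensorProduct_mk_injective (A := A) (B := B)
      (A ⧸ IsLocalRing.maximalIdeal A ^ n)
    refine ⟨hinj, ?_⟩
    have hfl := Groth.Agent.H9.MatlisComplete.isFiniteLength_quot_pow (R := A) n
    have h1 := IsLocalRing.length_restrictScalars A B
      (TensorProduct A B (A ⧸ IsLocalRing.maximalIdeal A ^ n))
    rw [hd, mul_one, Groth.Agent.H9.HullFlatBC.length_bc hm] at h1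
    exact Groth.Agent.H9.HullCrit.surjective_of_length _ hinj
      (Module.length_ne_top_iff.2 hfl) h1
  have hset : ∀ n : ℕ, ∀ b : B, b ∈ (IsLocalRing.maximalIdeal A ^ n • ⊤ : Submodule A B) ↔
      b ∈ IsLocalRing.maximalIdeal B ^ n := by
    intro n b
    rw [Ideal.smul_top_eq_map, Submodule.restrictScalars_mem, Ideal.map_pow, hm]
  have hinj : ∀ n : ℕ, ∀ a : A, algebraMap A B a ∈ IsLocalRing.maximalIdeal B ^ n →
      a ∈ IsLocalRing.maximalIdeal A ^ n := by
    intro n a ha
    have h1 : TensorProduct.mk A B (A ⧸ IsLocalRing.maximalIdeal A ^ n) 1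
        (Ideal.Quotient.mk _ a) = 0 := by
      apply (TensorProduct.tensorQuotEquivQuotSMul B (IsLocalRing.maximalIdeal A ^ n)).injective
      rw [TensorProduct.mk_apply, TensorProduct.tensorQuotEquivQuotSMul_tmul_mk, map_zero,
        Submodule.Quotient.mk_eq_zero, hset, Algebra.smul_def, mul_one]
      exact ha
    have h2 := (hbij n).1 (h1.trans (map_zero _).symm)
    exact Ideal.Quotient.eq_zero_iff_mem.1 h2
  have hsurj : ∀ n : ℕ, ∀ b : B, ∃ a : A, b - algebraMap A B a ∈ IsLocalRing.maximalIdeal B ^ n := by
    intro n b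
    obtain ⟨m, hm'⟩ := (hbij n).2 (TensorProduct.tmul A b (1 : A ⧸ IsLocalRing.maximalIdeal A ^ n))
    obtain ⟨a, rfl⟩ := Ideal.Quotient.mk_surjective m
    refine ⟨a, ?_⟩
    have h1 := congrArg (TensorProduct.tensorQuotEquivQuotSMul B (IsLocalRing.maximalIdeal A ^ n)) hm'
    rw [TensorProduct.mk_apply, TensorProduct.tensorQuotEquivQuotSMul_tmul_mk,
      ← map_one (Ideal.Quotient.mk (IsLocalRing.maximalIdeal A ^ n)),
      TensorProduct.tensorQuotEquivQuotSMul_tmul_mk, one_smul] at h1
    rw [← hset, Algebra.algebraMap_eq_smul_one]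
    exact (Submodule.Quotient.eq _).1 h1.symm
  have hI : (IsLocalRing.maximalIdeal A).FG := IsNoetherian.noetherian _
  exact ⟨Groth.Agent.H9.ComplMap.injective_of _ _ ψ hψ hI hm.le hinj,
    Groth.Agent.H9.ComplMap.surjective_of _ _ ψ hψ hI hm.le hinj hsurj⟩

end Groth.Agent.S9232
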