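import Groth.Statements.S19474
import Groth.Statements.S19474
import Groth.Agent.S0548
import Groth.Agent.S9232
import Groth.Agent.Lib.helper9.H9_ComplFunct

set_option autoImplicit false
universe u
open CAlg

namespace Groth.Agent.S19474

/-- Let A be a Noetherian local ring and I an ideal of A different from A. Then the I-adic completion of
A has the same Krull dimension as A, and A is a regular local ring if and only if the I-adic
completion of A is a regular local ring (in particular the completion is then local and Noetherian).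
The case where I is the maximal ideal is the classical one; here I is any proper ideal. -/
theorem result (A : Type u) [CommRing A]
    [IsLocalRing A] [IsNoetherianRing A] (I : Ideal A) (hI : I ≠ ⊤) :
    ringKrullDim (AdicCompletion I A) = ringKrullDim A ∧
      (IsRegularLocalRing A ↔ IsRegularLocalRing (AdicCompletion I A)) := by
  classical
  haveI hN : IsNoetherianRing (AdicCompletion I A) :=
    Groth.Agent.H9.ComplNoeth.isNoetherianRing_adicCompletion A I
  have hIfg : I.FG := IsNoetherian.noetherian I
  have hIm : I ≤ IsLocalRing.maximalIdeal A := IsLocalRing.le_maximalIdeal hI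
  haveI h𝔐 : ((IsLocalRing.maximalIdeal A).map (algebraMap A (AdicCompletion I A))).IsMaximal :=
    AdicCompletion.isMaximal_map_of_le I (IsLocalRing.maximalIdeal A) hIm hIfg
  haveI hcompl : IsAdicComplete (I.map (algebraMap A (AdicCompletion I A))) (AdicCompletion I A) :=
    AdicCompletion.isAdicComplete_self I hIfg
  haveI : Nontrivial (A ⧸ I) := Ideal.Quotient.nontrivial_iff.2 hI
  haveI : IsLocalRing (A ⧸ I) :=
    IsLocalRing.of_surjective' (Ideal.Quotient.mk I) Ideal.Quotient.mk_surjective
  have hsurj := AdicCompletion.evalOneₐ_surjective I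
  have key : ∀ 𝔞 : Ideal (AdicCompletion I A), 𝔞.IsMaximal →
      𝔞 = (IsLocalRing.maximalIdeal (A ⧸ I)).comap (AdicCompletion.evalOneₐ I).toRingHom := by
    intro 𝔞 h𝔞
    haveI := h𝔞
    have h1 : I.map (algebraMap A (AdicCompletion I A)) ≤ 𝔞 :=
      (IsAdicComplete.le_jacobson_bot _).trans (sInf_le ⟨bot_le, h𝔞⟩)
    have h2 : RingHom.ker (AdicCompletion.evalOneₐ I).toRingHom ≤ 𝔞 := by
      rw [AdicCompletion.ker_evalOneₐ_eq_map I hIfg]
      exact h1
    have h3 : (𝔞.map (AdicCompletion.evalOneₐ I).toRingHom).IsMaximal :=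
      Ideal.IsMaximal.map_of_surjective_of_ker_le hsurj h2
    rw [← IsLocalRing.eq_maximalIdeal h3,
      Ideal.comap_map_of_surjective' (AdicCompletion.evalOneₐ I).toRingHom hsurj, sup_eq_left.2 h2]
  haveI hloc : IsLocalRing (AdicCompletion I A) :=
    IsLocalRing.of_unique_max_ideal
      ⟨_, h𝔐, fun 𝔫 h𝔫 => (key 𝔫 h𝔫).trans (key _ h𝔐).symm⟩
  have hmax : (IsLocalRing.maximalIdeal A).map (algebraMap A (AdicCompletion I A)) =
      IsLocalRing.maximalIdeal (AdicCompletion I A) := IsLocalRing.eq_maximalIdeal h𝔐
  haveI hlh : IsLocalHom (algebraMap A (AdicCompletion I A)) := by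
    apply ((IsLocalRing.local_hom_TFAE _).out 0 2).mpr
    rw [hmax]
  -- residue field map bijective
  have hk : Function.Bijective
      (IsLocalRing.ResidueField.map (algebraMap A (AdicCompletion I A))) := by
    refine ⟨RingHom.injective _, fun x => ?_⟩
    obtain ⟨y, rfl⟩ := IsLocalRing.residue_surjective x
    obtain ⟨a, ha⟩ := Ideal.Quotient.mk_surjective (AdicCompletion.evalOneₐ I y)
    refine ⟨IsLocalRing.residue A a, ?_⟩
    rw [IsLocalRing.ResidueField.map_residue]
    apply (Ideal.Quotient.mk_eq_mk_iff_sub_mem _ _).mpr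
    have h1 : algebraMap A (AdicCompletion I A) a - y ∈
        RingHom.ker (AdicCompletion.evalOneₐ I).toRingHom := by
      rw [RingHom.mem_ker, map_sub, sub_eq_zero]
      show AdicCompletion.evalOneₐ I (AdicCompletion.of I A a) = AdicCompletion.evalOneₐ I y
      rw [AdicCompletion.evalOneₐ_of, ha]
    rw [AdicCompletion.ker_evalOneₐ_eq_map I hIfg] at h1
    rw [← hmax]
    exact Ideal.map_mono hIm h1
  -- the map on maximal-adic completions
  let ψ := Groth.Agent.H9.ComplFunct.complMap (algebraMap A (AdicCompletion I A))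
    (IsLocalRing.maximalIdeal A) (IsLocalRing.maximalIdeal (AdicCompletion I A)) hmax.le
  have hψ := Groth.Agent.H9.ComplFunct.complMap_comp (algebraMap A (AdicCompletion I A))
    (IsLocalRing.maximalIdeal A) (IsLocalRing.maximalIdeal (AdicCompletion I A)) hmax.le
  have hbij := Groth.Agent.S9232.result A (AdicCompletion I A) hmax hk ψ hψ
  let e := RingEquiv.ofBijective ψ hbij
  haveI hN2 := Groth.Agent.H9.ComplNoeth.isNoetherianRing_adicCompletion A
    (IsLocalRing.maximalIdeal A)
  haveI hN3 := Groth.Agent.H9.ComplNoeth.isNoetherianRing_adicCompletion (AdicCompletion I A)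
    (IsLocalRing.maximalIdeal (AdicCompletion I A))
  constructor
  · rw [← Groth.Agent.S0547.result (AdicCompletion I A), ← ringKrullDim_eq_of_ringEquiv e,
      Groth.Agent.S0547.result A]
  · rw [Groth.Agent.S0548.result A, Groth.Agent.S0548.result (AdicCompletion I A)]
    exact ⟨fun h => IsRegularLocalRing.of_ringEquiv e, fun h => IsRegularLocalRing.of_ringEquiv e.symm⟩

end Groth.Agent.S19474
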