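import Groth.Statements.S19479
import Mathlib
import Groth.Agent.Lib.helper9.H9_ComodSS

set_option autoImplicit false
universe u v w
open HopfRep

namespace Groth.Agent.S19479

open TensorProduct in
/-- Let K be a field, C a K-coalgebra and V a right C-comodule. The following are equivalent: (i) V is
the internal direct sum of a family of simple subcomodules, i.e. there is an independent family of
subcomodules W_i with sum V, each W_i nonzero and having no subcomodules inside it other than 0 and
W_i; (ii) every subcomodule of V has a complementary subcomodule. A subcomodule is a subspace W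
whose coaction lands in the image of W ⊗ C. (The source states this for left comodules; a left
comodule over C is a right comodule over the co-opposite coalgebra, so the statement is the same.) -/
theorem result {K : Type u} {C : Type v} [Field K]
    [AddCommGroup C] [Module K C] [Coalgebra K C] (V : Type w) [AddCommGroup V] [Module K V] [HopfRep.Comod K C V] :
    (∃ (ι : Type w) (W : ι → Submodule K V), iSupIndep W ∧ iSup W = ⊤ ∧ ∀ i,
        HopfRep.IsSubcomod (k := K) (A := C) (W i) ∧ W i ≠ ⊥ ∧
          ∀ W' : Submodule K V, HopfRep.IsSubcomod (k := K) (A := C) W' → W' ≤ W i → W' = ⊥ ∨ W' = W i) ↔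
      HopfRep.IsSemisimpleComod K C V := by
  classical
  letI := H9_ComodMod.modR (k := K) (C := C) V
  constructor
  · rintro ⟨ι, W, hind, hsup, hW⟩
    apply H9_ComodMod.comod_of_isSemisimpleModule
    apply IsSemisimpleModule.of_sSup_simples_eq_top
    rw [eq_top_iff]
    have hsup' : (⨆ i, H9_ComodMod.toSub (W i) (hW i).1) = ⊤ := by
      apply H9_ComodMod.ofSub_injective
      rw [H9_ComodMod.ofSub_iSup, H9_ComodMod.ofSub_top]
      simp only [H9_ComodMod.ofSub_toSub]
      exact hsup
    rw [← hsup']
    apply iSup_le
    intro i
    apply le_sSup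
    show IsSimpleModule _ _
    rw [isSimpleModule_iff_isAtom, H9_ComodMod.isAtom_ofSub_iff, H9_ComodMod.ofSub_toSub]
    exact (hW i).2
  · intro h
    have hss := H9_ComodMod.isSemisimpleModule_of_comod (k := K) (C := C) (V := V) h
    obtain ⟨s, hind, hsup, hsimple⟩ :=
      IsSemisimpleModule.exists_sSupIndep_sSup_simples_eq_top (H9_ComodMod.R K C) V
    refine ⟨↥s, fun i => H9_ComodMod.ofSub i.1, ?_, ?_, ?_⟩
    · apply H9_ComodMod.iSupIndep_ofSub (fun i : ↥s => i.1)
      exact (sSupIndep_iff s).mp hind
    · rw [← H9_ComodMod.ofSub_iSup, ← sSup_eq_iSup', hsup, H9_ComodMod.ofSub_top]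
    · intro i
      refine ⟨H9_ComodMod.isSubcomod_ofSub _, ?_⟩
      have := hsimple i.1 i.2
      rw [isSimpleModule_iff_isAtom, H9_ComodMod.isAtom_ofSub_iff] at this
      exact this

end Groth.Agent.S19479
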