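import Groth.Statements.S19487
import Mathlib

set_option autoImplicit false
open W4c1frobunstiva

namespace Groth.Agent.S19487

theorem h8_card_eq_coeff {ι : Type*} [Fintype ι] [DecidableEq ι] (A : ι → Finset ℕ) (s : ℕ) :
    ((Fintype.piFinset A).filter (fun e => ∑ i, e i = s)).card =
      (∏ i, ∑ a ∈ A i, (Polynomial.X : Polynomial ℕ) ^ a).coeff s := by
  rw [Finset.prod_univ_sum]
  simp_rw [Finset.prod_pow_eq_pow_sum]
  rw [Polynomial.finsetSum_coeff, Finset.card_filter]
  refine Finset.sum_congr rfl (fun e _ => ?_)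
  rw [Polynomial.coeff_X_pow]
  by_cases h : ∑ i, e i = s
  · rw [if_pos h, if_pos h.symm]
  · rw [if_neg h, if_neg (fun h2 => h h2.symm)]

theorem h8_card_transfer (m q : ℕ) (P : (Fin m → ℕ) → Prop) [DecidablePred P]
    [Fintype {e : Fin m → Fin q // (∀ i, 1 ≤ (e i : ℕ)) ∧ P (fun i => (e i : ℕ))}] :
    Fintype.card {e : Fin m → Fin q // (∀ i, 1 ≤ (e i : ℕ)) ∧ P (fun i => (e i : ℕ))} =
      ((Fintype.piFinset (fun _ : Fin m => Finset.Ico 1 q)).filter P).card := by
  classical
  rw [Fintype.card_of_subtype (Finset.univ.filter fun e : Fin m → Fin q =>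
    (∀ i, 1 ≤ (e i : ℕ)) ∧ P (fun i => (e i : ℕ))) (by simp)]
  refine Finset.card_bij (fun e _ => fun i => (e i : ℕ)) ?_ ?_ ?_
  · intro e he
    rw [Finset.mem_filter] at he
    rw [Finset.mem_filter, Fintype.mem_piFinset]
    exact ⟨fun i => Finset.mem_Ico.2 ⟨he.2.1 i, (e i).isLt⟩, he.2.2⟩
  · intro e₁ _ e₂ _ h12
    funext i
    exact Fin.ext (congrFun h12 i)
  · intro f hf
    rw [Finset.mem_filter, Fintype.mem_piFinset] at hf
    refine ⟨fun i => ⟨f i, (Finset.mem_Ico.1 (hf.1 i)).2⟩, ?_, rfl⟩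
    rw [Finset.mem_filter]
    exact ⟨Finset.mem_univ _, fun i => (Finset.mem_Ico.1 (hf.1 i)).1, hf.2⟩

noncomputable def h8S (h : ℕ) : Polynomial ℕ :=
  ∑ a ∈ Finset.Ico 1 (h + 1), (Polynomial.X : Polynomial ℕ) ^ a

theorem h8S_coeff_zero (h : ℕ) : (h8S h).coeff 0 = 0 := by
  unfold h8S
  rw [Polynomial.finsetSum_coeff]
  refine Finset.sum_eq_zero (fun a ha => ?_)
  rw [Polynomial.coeff_X_pow, if_neg]
  have := (Finset.mem_Ico.1 ha).1
  omega

theorem h8_coeff_core (S : Polynomial ℕ) (hS0 : S.coeff 0 = 0) (h m D s : ℕ) :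
    (S ^ D * (Polynomial.X ^ h * S) ^ m).coeff s =
      ∑ j ∈ Finset.range (s + 1), (S ^ D).coeff j * (S ^ m).coeff (s - j - m * h) := by
  have hQ0 : 0 < m → (S ^ m).coeff 0 = 0 := by
    intro hm
    rw [Polynomial.coeff_zero_eq_eval_zero, Polynomial.eval_pow,
      ← Polynomial.coeff_zero_eq_eval_zero, hS0, zero_pow hm.ne']
  have hmpos : 0 < m * h → 0 < m := by
    intro hmh
    rcases Nat.eq_zero_or_pos m with h0 | h0
    · rw [h0] at hmh; simp at hmh
    · exact h0
  have e1 : S ^ D * (Polynomial.X ^ h * S) ^ m = Polynomial.X ^ (m * h) * (S ^ D * S ^ m) := by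
    rw [mul_pow, ← pow_mul, mul_comm h m]; ring
  rw [e1, Polynomial.coeff_X_pow_mul']
  by_cases hc : m * h ≤ s
  · rw [if_pos hc, Polynomial.coeff_mul, Finset.Nat.sum_antidiagonal_eq_sum_range_succ_mk]
    refine (Finset.sum_congr rfl (fun k hk => ?_)).trans (Finset.sum_subset ?_ ?_)
    · have hk' := Finset.mem_range.1 hk
      show (S ^ D).coeff k * (S ^ m).coeff (s - m * h - k) = (S ^ D).coeff k * (S ^ m).coeff (s - k - m * h)
      rw [show s - m * h - k = s - k - m * h by omega]
    · intro k hk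
      have hk' := Finset.mem_range.1 hk
      exact Finset.mem_range.2 (by omega)
    · intro k hk hk'
      have h1 := Finset.mem_range.1 hk
      have h2 : ¬ k < (s - m * h).succ := fun h3 => hk' (Finset.mem_range.2 h3)
      have h3 : s - k - m * h = 0 := by omega
      have h4 : 0 < m * h := by omega
      rw [h3, hQ0 (hmpos h4), mul_zero]
  · rw [if_neg hc]
    symm
    refine Finset.sum_eq_zero (fun k hk => ?_)
    have h3 : s - k - m * h = 0 := by omega
    have h4 : 0 < m * h := by omega
    rw [h3, hQ0 (hmpos h4), mul_zero]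

theorem h8_main_left (n s D h : ℕ) :
    ((Fintype.piFinset (fun _ : Fin n => Finset.Ico 1 (2 * h + 1))).filter
        (fun f => ∑ i, f i = s ∧ (Finset.univ.filter fun i => 2 * f i < 2 * h + 1).card = D)).card
      = n.choose D * (h8S h ^ D * (Polynomial.X ^ h * h8S h) ^ (n - D)).coeff s := by
  classical
  have H : Set.MapsTo (fun f : Fin n → ℕ => Finset.univ.filter fun i => 2 * f i < 2 * h + 1)
      (↑((Fintype.piFinset (fun _ : Fin n => Finset.Ico 1 (2 * h + 1))).filter
        (fun f => ∑ i, f i = s ∧ (Finset.univ.filter fun i => 2 * f i < 2 * h + 1).card = D)))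
      (↑(Finset.powersetCard D (Finset.univ : Finset (Fin n)))) := by
    intro f hf
    rw [Finset.mem_coe, Finset.mem_filter] at hf
    rw [Finset.mem_coe, Finset.mem_powersetCard]
    exact ⟨Finset.subset_univ _, hf.2.2⟩
  rw [Finset.card_eq_sum_card_fiberwise H,
    Finset.sum_const_nat (m := (h8S h ^ D * (Polynomial.X ^ h * h8S h) ^ (n - D)).coeff s),
    Finset.card_powersetCard, Finset.card_univ, Fintype.card_fin]
  intro U hU
  rw [Finset.mem_powersetCard] at hU
  have hUc : U.card = D := hU.2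
  have hfib : (((Fintype.piFinset (fun _ : Fin n => Finset.Ico 1 (2 * h + 1))).filter
      (fun f => ∑ i, f i = s ∧ (Finset.univ.filter fun i => 2 * f i < 2 * h + 1).card = D)).filter
      (fun f => (Finset.univ.filter fun i => 2 * f i < 2 * h + 1) = U))
      = (Fintype.piFinset (fun i : Fin n => if i ∈ U then Finset.Ico 1 (h + 1)
          else Finset.Ico (h + 1) (2 * h + 1))).filter (fun f => ∑ i, f i = s) := by
    ext f
    simp only [Finset.mem_filter, Fintype.mem_piFinset]
    constructor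
    · rintro ⟨⟨hf, hs, _⟩, hfU⟩
      refine ⟨fun i => ?_, hs⟩
      have hi := Finset.mem_Ico.1 (hf i)
      by_cases hiU : i ∈ U
      · rw [if_pos hiU, Finset.mem_Ico]
        have h5 : 2 * f i < 2 * h + 1 := by
          rw [← hfU] at hiU
          simpa using hiU
        omega
      · rw [if_neg hiU, Finset.mem_Ico]
        have h5 : ¬ 2 * f i < 2 * h + 1 := by
          rw [← hfU] at hiU
          simpa using hiU
        omega
    · rintro ⟨hf, hs⟩
      have hfU : (Finset.univ.filter fun i => 2 * f i < 2 * h + 1) = U := by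
        ext i
        simp only [Finset.mem_filter, Finset.mem_univ, true_and]
        have hi := hf i
        by_cases hiU : i ∈ U
        · rw [if_pos hiU, Finset.mem_Ico] at hi
          exact ⟨fun _ => hiU, fun _ => by omega⟩
        · rw [if_neg hiU, Finset.mem_Ico] at hi
          exact ⟨fun h2 => by omega, fun h2 => absurd h2 hiU⟩
      refine ⟨⟨fun i => ?_, hs, by rw [hfU, hUc]⟩, hfU⟩
      have hi := hf i
      rw [Finset.mem_Ico]
      by_cases hiU : i ∈ U
      · rw [if_pos hiU, Finset.mem_Ico] at hi; omega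
      · rw [if_neg hiU, Finset.mem_Ico] at hi; omega
  rw [hfib, h8_card_eq_coeff]
  congr 1
  have hterm : ∀ i : Fin n, (∑ a ∈ (if i ∈ U then Finset.Ico 1 (h + 1)
      else Finset.Ico (h + 1) (2 * h + 1)), (Polynomial.X : Polynomial ℕ) ^ a)
      = if i ∈ U then h8S h else Polynomial.X ^ h * h8S h := by
    intro i
    by_cases hiU : i ∈ U
    · rw [if_pos hiU, if_pos hiU]; rfl
    · rw [if_neg hiU, if_neg hiU]
      unfold h8S
      rw [Finset.mul_sum]
      have h6 : Finset.Ico (h + 1) (2 * h + 1) = Finset.Ico (1 + h) (h + 1 + h) := by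
        congr 1 <;> omega
      rw [h6, ← Finset.sum_Ico_add' (fun x => (Polynomial.X : Polynomial ℕ) ^ x) 1 (h + 1) h]
      refine Finset.sum_congr rfl (fun a _ => ?_)
      show (Polynomial.X : Polynomial ℕ) ^ (a + h) = Polynomial.X ^ h * Polynomial.X ^ a
      rw [pow_add, mul_comm]
  simp_rw [hterm]
  rw [Finset.prod_ite, Finset.prod_const, Finset.prod_const]
  congr 2
  · rw [Finset.filter_mem_eq_inter, Finset.univ_inter, hUc]
  · have h7 : (Finset.univ.filter fun i => i ∉ U) = Uᶜ := by ext; simp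
    rw [h7, Finset.card_compl, Fintype.card_fin, hUc]


/-- The second formula. For p odd and natural numbers n, s, write N_p(n, s) for the number of monomials
of degree s in n variables in which every variable occurs with a positive exponent strictly less
than p, that is of exponent vectors (e_1, …, e_n) with sum s and 1 ≤ e_i ≤ p − 1, and N_p^D(n, s)
for the number of those in which exactly D variables occur with exponent less than p/2. Then
N_p^D(n, s) = C(n, D) · Σ_j N_{(p+1)/2}(D, j) · N_{(p+1)/2}(n − D, s − j − (n − D)(p − 1)/2), the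
sum running over 0 ≤ j ≤ s. (Natural-number subtraction is used in the last argument; when it
truncates and n > D the factor vanishes, as it should. The published setting has p an odd prime;
only p odd is used. The companion inclusion–exclusion expression for N_p(n, s) itself is a separate
statement.) -/
theorem result (p n s D : ℕ) (hp : Odd p) :
    Fintype.card {e : Fin n → Fin p // (∀ i, 1 ≤ (e i : ℕ)) ∧ ∑ i, (e i : ℕ) = s ∧
        (Finset.univ.filter fun i => 2 * (e i : ℕ) < p).card = D} =
      n.choose D * ∑ j ∈ Finset.range (s + 1),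
        Fintype.card {e : Fin D → Fin ((p + 1) / 2) // (∀ i, 1 ≤ (e i : ℕ)) ∧ ∑ i, (e i : ℕ) = j} *
          Fintype.card {e : Fin (n - D) → Fin ((p + 1) / 2) // (∀ i, 1 ≤ (e i : ℕ)) ∧ ∑ i, (e i : ℕ) = (s - j - (n - D) * ((p - 1) / 2))} := by
  have eL : Fintype.card {e : Fin n → Fin p // (∀ i, 1 ≤ (e i : ℕ)) ∧ ∑ i, (e i : ℕ) = s ∧
        (Finset.univ.filter fun i => 2 * (e i : ℕ) < p).card = D} =
      ((Fintype.piFinset (fun _ : Fin n => Finset.Ico 1 p)).filter
        (fun f => ∑ i, f i = s ∧ (Finset.univ.filter fun i => 2 * f i < p).card = D)).card :=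
    h8_card_transfer n p
      (fun f : Fin n → ℕ => ∑ i, f i = s ∧ (Finset.univ.filter fun i => 2 * f i < p).card = D)
  have eN : ∀ (m j : ℕ), Fintype.card {e : Fin m → Fin ((p + 1) / 2) //
        (∀ i, 1 ≤ (e i : ℕ)) ∧ ∑ i, (e i : ℕ) = j} =
      ((Fintype.piFinset (fun _ : Fin m => Finset.Ico 1 ((p + 1) / 2))).filter
        (fun f => ∑ i, f i = j)).card :=
    fun m j => h8_card_transfer m ((p + 1) / 2) (fun f : Fin m → ℕ => ∑ i, f i = j)
  rw [eL]
  simp_rw [eN]
  obtain ⟨h, rfl⟩ := hp
  have hp1 : (2 * h + 1 + 1) / 2 = h + 1 := by omega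
  have hp2 : (2 * h + 1 - 1) / 2 = h := by omega
  rw [hp1, hp2]
  have hN : ∀ (m j : ℕ), ((Fintype.piFinset (fun _ : Fin m => Finset.Ico 1 (h + 1))).filter
      (fun f => ∑ i, f i = j)).card = (h8S h ^ m).coeff j := by
    intro m j
    rw [h8_card_eq_coeff]
    simp [h8S]
  simp_rw [hN]
  rw [h8_main_left, h8_coeff_core _ (h8S_coeff_zero h)]

end Groth.Agent.S19487
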