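import Groth.Statements.S19502
import Mathlib

set_option autoImplicit false
universe u
open W4c3ghconstell

namespace Groth.Agent.S19502

/-- Let ι index the irreducible representations, θ : ι → ℚ a weight which is negative exactly on the
finite set D₋, h h' : ι → ℕ with h' ≤ h pointwise (the isotypic dimensions of an object and of a
sub-object) and Σ_i θ_i h_i summable. For a finite set D of indices put S_D = Σ_{i ∉ D} θ_i h_i, d =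
#(D ∖ D₋) and θ̃_D = Σ_{i ∈ D} θ_i h'_i + (S_D / d) · Σ_{i ∈ D ∖ D₋} h'_i / h_i, the modified weight
attached to the parameters chosen for D (a quotient by zero is read as zero). Then for finite sets
D₋ ⊆ D ⊆ D̃ contained in the locus θ ≠ 0: (first error term) θ̃_{D̃} − θ̃_D = Σ_{τ ∈ D̃ ∖ D} (θ_τ
h_τ + S_{D̃}/d̃) · (h'_τ/h_τ − (1/d) Σ_{σ ∈ D ∖ D₋} h'_σ/h_σ); (second error term) Σ_i θ_i h'_i −
θ̃_D = Σ_{τ ∉ D} θ_τ h_τ · (h'_τ/h_τ − (1/d) Σ_{σ ∈ D ∖ D₋} h'_σ/h_σ). -/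
theorem result {ι : Type u} [DecidableEq ι]
    (θ : ι → ℚ) (h h' : ι → ℕ) (hle : ∀ i, h' i ≤ h i) (hfin : {i | θ i < 0}.Finite)
    (hsum : Summable (fun i => (θ i : ℝ) * (h i : ℝ))) (D D' : Finset ι)
    (hDm : hfin.toFinset ⊆ D) (hDD' : D ⊆ D') (hsupp : ∀ i ∈ D', θ i ≠ 0) :
    (((∑ i ∈ D', (θ i : ℝ) * (h' i : ℝ)) + ((∑' i, if i ∈ D' then (0 : ℝ) else (θ i : ℝ) * (h i : ℝ)) / ((D' \ hfin.toFinset).card : ℝ)) * (∑ σ ∈ D' \ hfin.toFinset, ((h' σ : ℝ) / (h σ : ℝ)))) - ((∑ i ∈ D, (θ i : ℝ) * (h' i : ℝ)) + ((∑' i, if i ∈ D then (0 : ℝ) else (θ i : ℝ) * (h i : ℝ)) / ((D \ hfin.toFinset).card : ℝ)) * (∑ σ ∈ D \ hfin.toFinset, ((h' σ : ℝ) / (h σ : ℝ)))) =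
      ∑ τ ∈ D' \ D, ((θ τ : ℝ) * (h τ : ℝ) + (∑' i, if i ∈ D' then (0 : ℝ) else (θ i : ℝ) * (h i : ℝ)) / ((D' \ hfin.toFinset).card : ℝ)) *
        (((h' τ : ℝ) / (h τ : ℝ)) - (1 / ((D \ hfin.toFinset).card : ℝ)) * (∑ σ ∈ D \ hfin.toFinset, ((h' σ : ℝ) / (h σ : ℝ))))) ∧
    ((∑' i, (θ i : ℝ) * (h' i : ℝ)) - ((∑ i ∈ D, (θ i : ℝ) * (h' i : ℝ)) + ((∑' i, if i ∈ D then (0 : ℝ) else (θ i : ℝ) * (h i : ℝ)) / ((D \ hfin.toFinset).card : ℝ)) * (∑ σ ∈ D \ hfin.toFinset, ((h' σ : ℝ) / (h σ : ℝ)))) =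
      ∑' τ, if τ ∈ D then (0 : ℝ) else (θ τ : ℝ) * (h τ : ℝ) *
        (((h' τ : ℝ) / (h τ : ℝ)) - (1 / ((D \ hfin.toFinset).card : ℝ)) * (∑ σ ∈ D \ hfin.toFinset, ((h' σ : ℝ) / (h σ : ℝ))))) := by
  classical
  obtain ⟨N, hN⟩ : ∃ N : Finset ι, N = hfin.toFinset := ⟨_, rfl⟩
  rw [← hN] at hDm ⊢
  -- tail formula
  have hT : ∀ (w : ι → ℝ), Summable w → ∀ E : Finset ι,
      (∑' i, if i ∈ E then (0 : ℝ) else w i) = (∑' i, w i) - ∑ i ∈ E, w i := by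
    intro w hw E
    have hfE : Summable (fun i => if i ∈ E then w i else 0) :=
      summable_of_ne_finset_zero (s := E) (fun i hi => if_neg hi)
    have hsumE : ∑' i, (if i ∈ E then w i else 0) = ∑ i ∈ E, w i := by
      rw [tsum_eq_sum (s := E) (fun i hi => if_neg hi)]
      exact Finset.sum_congr rfl (fun i hi => if_pos hi)
    have hgE : (fun i => if i ∈ E then (0 : ℝ) else w i)
        = fun i => w i - (if i ∈ E then w i else 0) := by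
      funext i; by_cases hi : i ∈ E <;> simp [hi]
    rw [hgE, Summable.tsum_sub hw hfE, hsumE]
  have hsum' : Summable (fun i => (θ i : ℝ) * (h' i : ℝ)) := by
    refine Summable.of_norm_bounded hsum.abs (fun i => ?_)
    rw [Real.norm_eq_abs, abs_mul, abs_mul]
    refine mul_le_mul_of_nonneg_left ?_ (abs_nonneg _)
    rw [abs_of_nonneg (Nat.cast_nonneg _), abs_of_nonneg (Nat.cast_nonneg _)]
    exact_mod_cast hle i
  have F5 : ∀ τ : ι, (θ τ : ℝ) * (h τ : ℝ) * ((h' τ : ℝ) / (h τ : ℝ)) = (θ τ : ℝ) * (h' τ : ℝ) := by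
    intro τ
    by_cases h0 : h τ = 0
    · have : h' τ = 0 := by have := hle τ; omega
      simp [h0, this]
    · have : (h τ : ℝ) ≠ 0 := by exact_mod_cast h0
      field_simp
  -- abbreviations
  obtain ⟨G, hG⟩ : ∃ G : ℝ, G = ∑' i, (θ i : ℝ) * (h i : ℝ) := ⟨_, rfl⟩
  obtain ⟨H, hH⟩ : ∃ H : ℝ, H = ∑' i, (θ i : ℝ) * (h' i : ℝ) := ⟨_, rfl⟩
  have hTD := hT _ hsum D
  have hTD' := hT _ hsum D'
  rw [← hG] at hTD hTD'
  obtain ⟨T, hTd⟩ : ∃ T : ℝ, T = ∑' i, if i ∈ D then (0 : ℝ) else (θ i : ℝ) * (h i : ℝ) := ⟨_, rfl⟩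
  obtain ⟨T', hTd'⟩ : ∃ T' : ℝ, T' = ∑' i, if i ∈ D' then (0 : ℝ) else (θ i : ℝ) * (h i : ℝ) :=
    ⟨_, rfl⟩
  obtain ⟨c, hc⟩ : ∃ c : ℝ, c = ((D \ N).card : ℝ) := ⟨_, rfl⟩
  obtain ⟨c', hc'⟩ : ∃ c' : ℝ, c' = ((D' \ N).card : ℝ) := ⟨_, rfl⟩
  obtain ⟨A, hA⟩ : ∃ A : ℝ, A = ∑ σ ∈ D \ N, ((h' σ : ℝ) / (h σ : ℝ)) := ⟨_, rfl⟩
  obtain ⟨A', hA'⟩ : ∃ A' : ℝ, A' = ∑ σ ∈ D' \ N, ((h' σ : ℝ) / (h σ : ℝ)) := ⟨_, rfl⟩
  obtain ⟨U, hU⟩ : ∃ U : ℝ, U = ∑ i ∈ D, (θ i : ℝ) * (h' i : ℝ) := ⟨_, rfl⟩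
  obtain ⟨U', hU'⟩ : ∃ U' : ℝ, U' = ∑ i ∈ D', (θ i : ℝ) * (h' i : ℝ) := ⟨_, rfl⟩
  rw [← hTd] at hTD
  rw [← hTd'] at hTD'
  rw [← hH, ← hTd, ← hTd', ← hc, ← hc', ← hA, ← hA', ← hU, ← hU']
  obtain ⟨s1, hs1⟩ : ∃ s1 : ℝ, s1 = ∑ τ ∈ D' \ D, (θ τ : ℝ) * (h' τ : ℝ) := ⟨_, rfl⟩
  obtain ⟨s2, hs2⟩ : ∃ s2 : ℝ, s2 = ∑ τ ∈ D' \ D, ((h' τ : ℝ) / (h τ : ℝ)) := ⟨_, rfl⟩
  obtain ⟨s3, hs3⟩ : ∃ s3 : ℝ, s3 = ∑ τ ∈ D' \ D, (θ τ : ℝ) * (h τ : ℝ) := ⟨_, rfl⟩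
  obtain ⟨k, hk⟩ : ∃ k : ℝ, k = ((D' \ D).card : ℝ) := ⟨_, rfl⟩
  have hset : D' \ N = (D' \ D) ∪ (D \ N) := by
    ext x
    simp only [Finset.mem_sdiff, Finset.mem_union]
    constructor
    · rintro ⟨h1, h2⟩
      by_cases hx : x ∈ D
      · exact Or.inr ⟨hx, h2⟩
      · exact Or.inl ⟨h1, hx⟩
    · rintro (⟨h1, h2⟩ | ⟨h1, h2⟩)
      · exact ⟨h1, fun hn => h2 (hDm hn)⟩
      · exact ⟨hDD' h1, h2⟩
  have hdisj : Disjoint (D' \ D) (D \ N) :=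
    Finset.disjoint_left.2 (fun x hx1 hx2 => (Finset.mem_sdiff.1 hx1).2 (Finset.mem_sdiff.1 hx2).1)
  have F1 : U' = s1 + U := by
    rw [hU', hs1, hU]; exact (Finset.sum_sdiff hDD').symm
  have F2 : A' = s2 + A := by
    rw [hA', hs2, hA, hset, Finset.sum_union hdisj]
  have F3 : c' = k + c := by
    rw [hc', hk, hc, hset, Finset.card_union_of_disjoint hdisj, Nat.cast_add]
  have F4 : T = T' + s3 := by
    rw [hTD, hTD', hs3, ← Finset.sum_sdiff hDD']; ring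
  have hknn : 0 ≤ k := by rw [hk]; exact Nat.cast_nonneg _
  have hcnn : 0 ≤ c := by rw [hc]; exact Nat.cast_nonneg _
  have hA0 : c = 0 → A = 0 := by
    intro h0
    rw [hc] at h0
    have : (D \ N).card = 0 := by exact_mod_cast h0
    rw [hA, Finset.card_eq_zero.1 this, Finset.sum_empty]
  refine ⟨?_, ?_⟩
  · have hR : ∑ τ ∈ D' \ D, ((θ τ : ℝ) * (h τ : ℝ) + T' / c') *
          (((h' τ : ℝ) / (h τ : ℝ)) - (1 / c) * A)
        = s1 + (T' / c') * s2 - (A / c) * s3 - k * ((T' / c') * (A / c)) := by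
      have hterm : ∀ τ ∈ D' \ D, ((θ τ : ℝ) * (h τ : ℝ) + T' / c') *
          (((h' τ : ℝ) / (h τ : ℝ)) - (1 / c) * A)
          = (θ τ : ℝ) * (h' τ : ℝ) + (T' / c') * ((h' τ : ℝ) / (h τ : ℝ))
            - (A / c) * ((θ τ : ℝ) * (h τ : ℝ)) - (T' / c') * (A / c) := by
        intro τ _
        rw [← F5 τ]; ring
      rw [Finset.sum_congr rfl hterm, Finset.sum_sub_distrib, Finset.sum_sub_distrib,
        Finset.sum_add_distrib, ← Finset.mul_sum, ← Finset.mul_sum, Finset.sum_const,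
        nsmul_eq_mul, ← hs1, ← hs2, ← hs3, ← hk]
    rw [hR, F1, F2, F3, F4]
    by_cases hc0 : c = 0
    · rw [hA0 hc0, hc0]
      simp
      ring
    · have hcpos : 0 < c := lt_of_le_of_ne hcnn (Ne.symm hc0)
      have hkc : k + c ≠ 0 := ne_of_gt (by linarith)
      field_simp
      ring
  · have hTH := hT _ hsum' D
    rw [← hH, ← hU] at hTH
    have hsumD : Summable (fun i => if i ∈ D then (0 : ℝ) else (θ i : ℝ) * (h i : ℝ)) := by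
      have hfE : Summable (fun i => if i ∈ D then (θ i : ℝ) * (h i : ℝ) else 0) :=
        summable_of_ne_finset_zero (s := D) (fun i hi => if_neg hi)
      have hgE : (fun i => if i ∈ D then (0 : ℝ) else (θ i : ℝ) * (h i : ℝ))
          = fun i => (θ i : ℝ) * (h i : ℝ) - (if i ∈ D then (θ i : ℝ) * (h i : ℝ) else 0) := by
        funext i; by_cases hi : i ∈ D <;> simp [hi]
      rw [hgE]; exact hsum.sub hfE
    have hsumD' : Summable (fun i => if i ∈ D then (0 : ℝ) else (θ i : ℝ) * (h' i : ℝ)) := by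
      have hfE : Summable (fun i => if i ∈ D then (θ i : ℝ) * (h' i : ℝ) else 0) :=
        summable_of_ne_finset_zero (s := D) (fun i hi => if_neg hi)
      have hgE : (fun i => if i ∈ D then (0 : ℝ) else (θ i : ℝ) * (h' i : ℝ))
          = fun i => (θ i : ℝ) * (h' i : ℝ) - (if i ∈ D then (θ i : ℝ) * (h' i : ℝ) else 0) := by
        funext i; by_cases hi : i ∈ D <;> simp [hi]
      rw [hgE]; exact hsum'.sub hfE
    have hfun : (fun τ => if τ ∈ D then (0 : ℝ) else (θ τ : ℝ) * (h τ : ℝ) *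
          (((h' τ : ℝ) / (h τ : ℝ)) - (1 / c) * A))
        = fun τ => (if τ ∈ D then (0 : ℝ) else (θ τ : ℝ) * (h' τ : ℝ))
            - (A / c) * (if τ ∈ D then (0 : ℝ) else (θ τ : ℝ) * (h τ : ℝ)) := by
      funext τ
      by_cases hτ : τ ∈ D
      · simp [hτ]
      · simp only [hτ, if_false]
        rw [← F5 τ]; ring
    rw [hfun, Summable.tsum_sub hsumD' (hsumD.mul_left _), hTH, tsum_mul_left, ← hTd]
    ring

end Groth.Agent.S19502
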