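import Groth.Statements.S19522
import Mathlib

set_option autoImplicit false
universe u
open TensorProduct
open GLin

namespace Groth.Agent.S19522

/-- Let k be a field, A a commutative k-bialgebra coacting multiplicatively on a commutative k-algebra
R, and χ ∈ A a group-like element with an inverse χ' (χχ' = 1). Suppose the polynomial ring R[t]
carries a multiplicative coaction which restricts to the given one on constants and sends t to t ⊗
χ'. Then g ∈ R[t] is coinvariant if and only if, for every r, its r-th coefficient has coaction g_r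
↦ g_r ⊗ χ^r; that is, the ring of invariants of R[t] is the sum over r ≥ 0 of the weight-χ^r
semi-invariants of R times t^r. (The published statement is phrased for an affine variety with an
action of a linear algebraic group over an algebraically closed field of characteristic zero and
identifies the invariants of X × A¹ with the graded ring of invariant sections of the powers of the
linearised trivial bundle; this is its coordinate-ring content, valid over any field.) -/
theorem result (k : Type u) [Field k]
    (A : Type u) [CommRing A] [Bialgebra k A]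
    (R : Type u) [CommRing R] [Algebra k R] [HopfRep.Comod k A R] [GLin.IsCoactAlg k A R]
    [HopfRep.Comod k A (Polynomial R)] [GLin.IsCoactAlg k A (Polynomial R)]
    (χ χ' : A) (hχ : CoalgebraStruct.comul (R := k) (A := A) χ = χ ⊗ₜ[k] χ)
    (hχε : CoalgebraStruct.counit (R := k) (A := A) χ = 1) (hχχ' : χ * χ' = 1)
    (hC : ∀ r : R, HopfRep.Comod.coact (k := k) (A := A) (Polynomial.C r) =
      Algebra.TensorProduct.map (Polynomial.CAlgHom : R →ₐ[k] Polynomial R) (AlgHom.id k A)
        (HopfRep.Comod.coact (k := k) (A := A) r))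
    (hX : HopfRep.Comod.coact (k := k) (A := A) (Polynomial.X : Polynomial R) = Polynomial.X ⊗ₜ[k] χ')
    (g : Polynomial R) :
    g ∈ GLin.invariants k A (Polynomial R) ↔
      ∀ r : ℕ, g.coeff r ∈ HopfRep.eigenspace k A R (χ ^ r) := by
  classical
  -- the coefficient functionals
  let cr : ℕ → (Polynomial R →ₗ[k] R) := fun r => (Polynomial.lcoeff R r).restrictScalars k
  have hcr : ∀ r (p : Polynomial R), cr r p = p.coeff r := fun r p => rfl
  -- key computation
  have hL : ∀ (y : R ⊗[k] A) (s r : ℕ) (a : A),
      (cr r).rTensor A (Algebra.TensorProduct.map (Polynomial.CAlgHom : R →ₐ[k] Polynomial R)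
        (AlgHom.id k A) y * (((Polynomial.X : Polynomial R) ^ s) ⊗ₜ[k] a)) =
      if r = s then y * ((1 : R) ⊗ₜ[k] a) else 0 := by
    intro y s r a
    induction y using TensorProduct.induction_on with
    | zero => simp
    | tmul u b =>
      rw [Algebra.TensorProduct.map_tmul, Algebra.TensorProduct.tmul_mul_tmul,
        LinearMap.rTensor_tmul, hcr, Polynomial.CAlgHom_apply, Polynomial.coeff_C_mul_X_pow]
      split_ifs with h
      · rw [Algebra.TensorProduct.tmul_mul_tmul, mul_one]; rfl
      · rw [TensorProduct.zero_tmul]
    | add x y hx hy =>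
      rw [map_add, add_mul, map_add, hx, hy]
      split_ifs
      · rw [add_mul]
      · rw [add_zero]
  have hpow : ∀ s : ℕ, HopfRep.Comod.coact (k := k) (A := A) ((Polynomial.X : Polynomial R) ^ s) =
      ((Polynomial.X : Polynomial R) ^ s) ⊗ₜ[k] (χ' ^ s) := by
    intro s
    rw [← GLin.coactAlgHom_apply, map_pow, GLin.coactAlgHom_apply, hX,
      Algebra.TensorProduct.tmul_pow]
  have hg : g = ∑ s ∈ Finset.range (g.natDegree + 1),
      Polynomial.C (g.coeff s) * Polynomial.X ^ s := g.as_sum_range_C_mul_X_pow
  have hρ : HopfRep.Comod.coact (k := k) (A := A) g =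
      ∑ s ∈ Finset.range (g.natDegree + 1),
        Algebra.TensorProduct.map (Polynomial.CAlgHom : R →ₐ[k] Polynomial R) (AlgHom.id k A)
          (HopfRep.Comod.coact (k := k) (A := A) (g.coeff s)) *
          (((Polynomial.X : Polynomial R) ^ s) ⊗ₜ[k] (χ' ^ s)) := by
    conv_lhs => rw [hg]
    rw [map_sum]
    refine Finset.sum_congr rfl fun s _ => ?_
    rw [GLin.IsCoactAlg.coact_mul, hC, hpow]
  have hχpow : ∀ r : ℕ, χ' ^ r * χ ^ r = 1 := by
    intro r
    rw [← mul_pow, mul_comm, hχχ', one_pow]
  rw [GLin.mem_invariants_iff]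
  constructor
  · intro h r
    show HopfRep.Comod.coact (k := k) (A := A) (g.coeff r) = g.coeff r ⊗ₜ[k] (χ ^ r)
    have h1 := congrArg ((cr r).rTensor A) h
    rw [hρ, map_sum, LinearMap.rTensor_tmul, hcr] at h1
    simp only [hL] at h1
    rw [Finset.sum_ite_eq] at h1
    by_cases hr : r ∈ Finset.range (g.natDegree + 1)
    · rw [if_pos hr] at h1
      have h2 := congrArg (fun z => z * ((1 : R) ⊗ₜ[k] (χ ^ r))) h1
      simp only [mul_assoc, Algebra.TensorProduct.tmul_mul_tmul, mul_one, hχpow, one_mul] at h2
      rw [show ((1 : R) ⊗ₜ[k] (1 : A)) = 1 from rfl, mul_one] at h2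
      exact h2
    · have hc : g.coeff r = 0 := by
        apply Polynomial.coeff_eq_zero_of_natDegree_lt
        rw [Finset.mem_range, not_lt] at hr
        omega
      rw [hc, map_zero, TensorProduct.zero_tmul]
  · intro h
    rw [hρ]
    conv_rhs => rw [hg]
    rw [TensorProduct.sum_tmul]
    refine Finset.sum_congr rfl fun s _ => ?_
    have hs : HopfRep.Comod.coact (k := k) (A := A) (g.coeff s) = g.coeff s ⊗ₜ[k] (χ ^ s) := h s
    rw [hs, Algebra.TensorProduct.map_tmul, Algebra.TensorProduct.tmul_mul_tmul,
      Polynomial.CAlgHom_apply, AlgHom.id_apply, mul_comm (χ ^ s), hχpow]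

end Groth.Agent.S19522
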