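import Groth.Statements.S19540
import Mathlib.CategoryTheory.Sites.Limits
import Mathlib.CategoryTheory.Sites.LocallySurjective
import Mathlib.CategoryTheory.Sites.EpiMono
import Mathlib.Algebra.Homology.ShortComplex.Ab
import Mathlib.CategoryTheory.Abelian.Exact

set_option autoImplicit false
open CategoryTheory CategoryTheory.Limits Opposite
universe w v u
open CohSite

namespace Groth.Agent.S19540


variable {C : Type u} [Category.{v} C] (J : GrothendieckTopology C)

noncomputable abbrev Γ (U : C) : Sheaf J AddCommGrpCat.{w} ⥤ AddCommGrpCat.{w} :=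
  sheafToPresheaf J AddCommGrpCat.{w} ⋙ (evaluation Cᵒᵖ AddCommGrpCat.{w}).obj (op U)

instance (U : C) : (Γ.{w} J U).Additive where

example (U : C) : PreservesFiniteLimits (Γ.{w} J U) := inferInstance

variable [HasSheafify J AddCommGrpCat.{w}] [J.WEqualsLocallyBijective AddCommGrpCat.{w}]

/-- sections of the kernel. -/
lemma ker_sec {A B : Sheaf J AddCommGrpCat.{w}} (φ : A ⟶ B) (U : C) :
    Function.Injective ((kernel.ι φ).hom.app (op U)).hom ∧
    (∀ y, (φ.hom.app (op U)).hom y = 0 → ∃ a, ((kernel.ι φ).hom.app (op U)).hom a = y) := by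
  let T : ShortComplex (Sheaf J AddCommGrpCat.{w}) := ShortComplex.mk (kernel.ι φ) φ (kernel.condition φ)
  have hT : T.Exact := ShortComplex.exact_kernel φ
  have hm : Mono T.f := by dsimp [T]; infer_instance
  have h1 : (T.map (Γ.{w} J U)).Exact := hT.map_of_mono_of_preservesKernel (Γ.{w} J U) hm inferInstance
  have h2 : Mono ((Γ.{w} J U).map (kernel.ι φ)) := inferInstance
  exact ⟨(AddCommGrpCat.mono_iff_injective _).1 h2, (ShortComplex.ab_exact_iff _).1 h1⟩

theorem main
    (B : C → Prop)
    (hB : ∀ U : C, B U → ∀ (P Q : Sheaf J (Type w)) (ψ : P ⟶ Q), Epi ψ → Function.Surjective (ψ.hom.app (op U)))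
    (hcov : ∀ V : C, ∃ S : Sieve V, S ∈ J V ∧ ∀ ⦃W : C⦄ (f : W ⟶ V), S.arrows f →
      ∃ (U : C) (g : W ⟶ U) (h : U ⟶ V), B U ∧ g ≫ h = f)
    (S : ShortComplex (Sheaf J AddCommGrpCat.{w})) :
    S.Exact ↔ ∀ U : C, B U →
      (S.map (sheafToPresheaf J AddCommGrpCat.{w} ⋙ (evaluation Cᵒᵖ AddCommGrpCat.{w}).obj (op U))).Exact := by
  rw [ShortComplex.exact_iff_epi_kernel_lift]
  have hι : ∀ (U : C) (a : S.X₁.obj.obj (op U)),
      ((kernel.ι S.g).hom.app (op U)).hom (((kernel.lift S.g S.f S.zero).hom.app (op U)).hom a) =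
        (S.f.hom.app (op U)).hom a := by
    intro U a
    have h : (kernel.lift S.g S.f S.zero).hom.app (op U) ≫ (kernel.ι S.g).hom.app (op U) =
        S.f.hom.app (op U) := by
      rw [← NatTrans.comp_app]
      exact congrArg (fun ψ => ψ.hom.app (op U)) (kernel.lift_ι S.g S.f S.zero)
    exact congrArg (fun ψ => ψ.hom a) h
  constructor
  · intro hepi U hU
    rw [ShortComplex.ab_exact_iff]
    intro x hx
    obtain ⟨κ, hκ⟩ := (ker_sec J S.g U).2 x hx
    have h1 : Sheaf.IsLocallySurjective (kernel.lift S.g S.f S.zero) :=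
      (Sheaf.isLocallySurjective_iff_epi' (φ := kernel.lift S.g S.f S.zero)).2 hepi
    have h2 : Sheaf.IsLocallySurjective
        ((sheafCompose J (forget AddCommGrpCat.{w})).map (kernel.lift S.g S.f S.zero)) := by
      constructor
      intro V s
      exact Presheaf.imageSieve_mem J (kernel.lift S.g S.f S.zero).hom s
    have h3 : Epi ((sheafCompose J (forget AddCommGrpCat.{w})).map (kernel.lift S.g S.f S.zero)) :=
      inferInstance
    obtain ⟨a, ha⟩ := hB U hU _ _ _ h3 κ
    refine ⟨a, ?_⟩
    change (S.f.hom.app (op U)).hom a = x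
    rw [← hι, ← hκ]
    exact congrArg _ ha
  · intro h
    rw [← Sheaf.isLocallySurjective_iff_epi']
    refine ⟨fun {V} κ => ?_⟩
    obtain ⟨S', hS', hfac⟩ := hcov V
    refine J.superset_covering ?_ hS'
    intro W f hf
    obtain ⟨U, g, h', hU, rfl⟩ := hfac f hf
    let κU := ((kernel S.g).obj.map h'.op).hom κ
    have hx : (S.g.hom.app (op U)).hom (((kernel.ι S.g).hom.app (op U)).hom κU) = 0 := by
      have h0 : (kernel.ι S.g).hom.app (op U) ≫ S.g.hom.app (op U) = 0 := by
        rw [← NatTrans.comp_app]
        exact congrArg (fun ψ => ψ.hom.app (op U)) (kernel.condition S.g)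
      exact congrArg (fun ψ => ψ.hom κU) h0
    obtain ⟨a, ha⟩ := (ShortComplex.ab_exact_iff _).1 (h U hU) _ hx
    change (S.f.hom.app (op U)).hom a = _ at ha
    have hlift : ((kernel.lift S.g S.f S.zero).hom.app (op U)).hom a = κU := by
      apply (ker_sec J S.g U).1
      rw [hι, ha]
    refine ⟨(S.X₁.obj.map g.op).hom a, ?_⟩
    have hn := congrArg (fun ψ => ψ.hom a) ((kernel.lift S.g S.f S.zero).hom.naturality g.op)
    change ((kernel.lift S.g S.f S.zero).hom.app (op W)).hom ((S.X₁.obj.map g.op).hom a) =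
      ((kernel S.g).obj.map g.op).hom (((kernel.lift S.g S.f S.zero).hom.app (op U)).hom a) at hn
    change ((kernel.lift S.g S.f S.zero).hom.app (op W)).hom ((S.X₁.obj.map g.op).hom a) =
      ((kernel S.g).obj.map (g ≫ h').op).hom κ
    rw [hn, hlift, op_comp, Functor.map_comp]
    rfl

/-- Let (C, J) be a site and B a class of objects of C, each weakly contractible (every epimorphism of
sheaves of sets, valued in a fixed universe, is surjective on sections over it), such that every
object V of C has a covering sieve all of whose arrows factor through some object of B. Then a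
three-term complex F ⟶ G ⟶ H of abelian sheaves on (C, J) is exact if and only if for every U in B
the sequence of section groups F(U) ⟶ G(U) ⟶ H(U) is exact. (The published statement is for sheaves
of modules over a sheaf of rings O; this row is the case of the constant sheaf of rings ℤ, i.e.
abelian sheaves, to which exactness questions for O-modules reduce. The universe set-up assumes that
abelian sheafification exists and inverts exactly the locally bijective maps, as on any small site.) -/
theorem result
    {C : Type u} [Category.{v} C] (J : GrothendieckTopology C) [HasSheafify J AddCommGrpCat.{w}]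
    [J.WEqualsLocallyBijective AddCommGrpCat.{w}]
    (B : C → Prop)
    (hB : ∀ U : C, B U → ∀ (P Q : Sheaf J (Type w)) (ψ : P ⟶ Q), Epi ψ → Function.Surjective (ψ.hom.app (op U)))
    (hcov : ∀ V : C, ∃ S : Sieve V, S ∈ J V ∧ ∀ ⦃W : C⦄ (f : W ⟶ V), S.arrows f →
      ∃ (U : C) (g : W ⟶ U) (h : U ⟶ V), B U ∧ g ≫ h = f)
    (S : ShortComplex (Sheaf J AddCommGrpCat.{w})) :
    S.Exact ↔ ∀ U : C, B U →
      (S.map (sheafToPresheaf J AddCommGrpCat.{w} ⋙ (evaluation Cᵒᵖ AddCommGrpCat.{w}).obj (op U))).Exact := by
  exact main J B hB hcov S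

end Groth.Agent.S19540
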