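import Groth.Statements.S19562
import Mathlib

set_option autoImplicit false
universe u
open W4c1limliniiii

namespace Groth.Agent.S19562

theorem dimLemma {k E : Type*} [Field k] [AddCommGroup E] [Module k E] [FiniteDimensional k E]
    (F : E →ₗ[k] E) (V : Submodule k E) :
    Module.finrank k ↥(Submodule.map F V) + Module.finrank k ↥(LinearMap.ker F ⊓ V) =
      Module.finrank k ↥V := by
  have h := LinearMap.finrank_range_add_finrank_ker (F.domRestrict V)
  rw [LinearMap.range_domRestrict, LinearMap.ker_domRestrict] at h
  rw [← h, ← Submodule.finrank_map_subtype_eq V (Submodule.comap V.subtype (LinearMap.ker F)),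
    Submodule.map_comap_subtype, inf_comm]

open TensorProduct in
/-- Let k be a field, 0 < r < d, and f_i, g_i (i < n) linear maps forward and backward between
consecutive ones of n + 1 copies of k^d, forming a linked Grassmannian over Spec k whose scalar s is
zero: every composite f_i ∘ g_i and g_i ∘ f_i vanishes, rank f_i + rank g_i ≥ d, and for consecutive
indices im f_i ∩ ker f_{i+1} = 0 and im g_{i+1} ∩ ker g_i = 0. Let (V_i) be a k-valued point of the
linked Grassmannian of rank-r sub-bundles (subspaces V_i of k ⊗ k^d with quotient of rank d − r,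
with f_i(V_i) ⊆ V_{i+1} and g_i(V_{i+1}) ⊆ V_i). Then (V_i) is exact, meaning ker g_i ∩ V_{i+1} ⊆
f_i(V_i) and ker f_i ∩ V_i ⊆ g_i(V_{i+1}) for all i, if and only if dim f_i(V_i) + dim g_i(V_{i+1})
= r for all i. (The published assertion is for points with values in an arbitrary scheme and also
says that f_i(V_i) and g_i(V_{i+1}) are then sub-bundles; this row is the case of a field, where the
last clause is empty.) -/
theorem result (k : Type u) [Field k]
    (d r n : ℕ) (hr : 0 < r) (hrd : r < d) (f g : Fin n → ((Fin d → k) →ₗ[k] (Fin d → k)))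
    (hI : ∀ i, (f i).comp (g i) = 0 ∧ (g i).comp (f i) = 0)
    (hII : ∀ i, d ≤ Module.finrank k (LinearMap.range (f i)) + Module.finrank k (LinearMap.range (g i)))
    (hIII : ∀ i j : Fin n, i.val + 1 = j.val →
      LinearMap.range (f i) ⊓ LinearMap.ker (f j) = ⊥ ∧
        LinearMap.range (g j) ⊓ LinearMap.ker (g i) = ⊥)
    (V : Fin (n + 1) → Module.Grassmannian k (k ⊗[k] (Fin d → k)) (d - r))
    (hV : V ∈ W4c1limliniiii.LGPoints k d r n f g k) :
    W4c1limliniiii.IsExact k d r n f g k V ↔
      ∀ i : Fin n,
        Module.finrank k ↥(Submodule.map ((f i).baseChange k) (V i.castSucc).toSubmodule) +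
          Module.finrank k ↥(Submodule.map ((g i).baseChange k) (V i.succ).toSubmodule) = r := by
  classical
  have hdimE : Module.finrank k (k ⊗[k] (Fin d → k)) = d := by
    rw [Module.finrank_tensorProduct, Module.finrank_self, one_mul, Module.finrank_fin_fun]
  have hdimV : ∀ j : Fin (n + 1), Module.finrank k ↥(V j).toSubmodule = r := by
    intro j
    have h1 := Submodule.finrank_quotient_add_finrank (V j).toSubmodule
    have h2 : Module.finrank k ((k ⊗[k] (Fin d → k)) ⧸ (V j).toSubmodule) = d - r := by
      have h3 := (V j).rankAtStalk_eq ⟨(⊥ : Ideal k), Ideal.isPrime_bot⟩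
      rw [Module.rankAtStalk_eq_finrank_of_free] at h3
      exact h3
    rw [h2, hdimE] at h1
    omega
  have hpt : ∀ i : Fin n,
      (LinearMap.ker ((g i).baseChange k) ⊓ (V i.succ).toSubmodule ≤
          Submodule.map ((f i).baseChange k) (V i.castSucc).toSubmodule ∧
        LinearMap.ker ((f i).baseChange k) ⊓ (V i.castSucc).toSubmodule ≤
          Submodule.map ((g i).baseChange k) (V i.succ).toSubmodule) ↔
      Module.finrank k ↥(Submodule.map ((f i).baseChange k) (V i.castSucc).toSubmodule) +
          Module.finrank k ↥(Submodule.map ((g i).baseChange k) (V i.succ).toSubmodule) = r := by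
    intro i
    have hFG : ((f i).baseChange k) ∘ₗ ((g i).baseChange k) = 0 := by
      rw [← LinearMap.baseChange_comp, (hI i).1, LinearMap.baseChange_zero]
    have hGF : ((g i).baseChange k) ∘ₗ ((f i).baseChange k) = 0 := by
      rw [← LinearMap.baseChange_comp, (hI i).2, LinearMap.baseChange_zero]
    have hFV_le : Submodule.map ((f i).baseChange k) (V i.castSucc).toSubmodule ≤
        LinearMap.ker ((g i).baseChange k) ⊓ (V i.succ).toSubmodule := by
      refine le_inf ?_ (hV i).1
      rintro x ⟨y, _, rfl⟩
      exact LinearMap.congr_fun hGF y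
    have hGW_le : Submodule.map ((g i).baseChange k) (V i.succ).toSubmodule ≤
        LinearMap.ker ((f i).baseChange k) ⊓ (V i.castSucc).toSubmodule := by
      refine le_inf ?_ (hV i).2
      rintro x ⟨y, _, rfl⟩
      exact LinearMap.congr_fun hFG y
    have d1 := dimLemma ((f i).baseChange k) (V i.castSucc).toSubmodule
    have d2 := dimLemma ((g i).baseChange k) (V i.succ).toSubmodule
    rw [hdimV] at d1 d2
    constructor
    · rintro ⟨h1, h2⟩
      have e1 : Submodule.map ((f i).baseChange k) (V i.castSucc).toSubmodule =
          LinearMap.ker ((g i).baseChange k) ⊓ (V i.succ).toSubmodule := le_antisymm hFV_le h1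
      rw [e1]
      omega
    · intro hs
      have e1 : Submodule.map ((f i).baseChange k) (V i.castSucc).toSubmodule =
          LinearMap.ker ((g i).baseChange k) ⊓ (V i.succ).toSubmodule :=
        Submodule.eq_of_le_of_finrank_eq hFV_le (by omega)
      have e2 : Submodule.map ((g i).baseChange k) (V i.succ).toSubmodule =
          LinearMap.ker ((f i).baseChange k) ⊓ (V i.castSucc).toSubmodule :=
        Submodule.eq_of_le_of_finrank_eq hGW_le (by omega)
      exact ⟨e1.ge, e2.ge⟩
  unfold W4c1limliniiii.IsExact
  exact forall_congr' hpt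

end Groth.Agent.S19562
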