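import Groth.Statements.S1959
import Mathlib.RingTheory.IntegralClosure.Algebra.Ideal

set_option autoImplicit false
universe u
open Polynomial
open EtAlg

namespace Groth.Agent.S1959

/-- Let I be an ideal of a ring A, A -> B an integral ring map and b an element of B whose image in B/IB
is idempotent. Then there are d ≥ 1 and a monic polynomial f over A with f(b) = 0 whose reduction
modulo I is x^d (x - 1)^d. -/
theorem result (A B : Type u) [CommRing A] [CommRing B] [Algebra A B]
    [Algebra.IsIntegral A B] (I : Ideal A) (b : B)
    (hb : IsIdempotentElem (Ideal.Quotient.mk (I.map (algebraMap A B)) b)) :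
    ∃ (f : A[X]) (d : ℕ), f.Monic ∧ 1 ≤ d ∧ aeval b f = 0 ∧
      f.map (Ideal.Quotient.mk I) = X ^ d * (X - 1) ^ d := by
  cases subsingleton_or_nontrivial A with
  | inl hsub =>
    have : Subsingleton B := Module.subsingleton A B
    have : Subsingleton (A ⧸ I) := Ideal.Quotient.mk_surjective.subsingleton
    exact ⟨1, 1, monic_one, le_refl 1, Subsingleton.elim _ _, Subsingleton.elim _ _⟩
  | inr hnt =>
    have hx : b * b - b ∈ I.map (algebraMap A B) := by
      rw [← Ideal.Quotient.eq]
      simpa using hb.eq
    obtain ⟨p, hp, hroot, hcoeff⟩ :=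
      Polynomial.exists_monic_aeval_eq_zero_forall_mem_of_mem_map hx
    set d := p.natDegree with hd
    have hpmap : p.map (Ideal.Quotient.mk I) = X ^ d := by
      ext i
      rw [Polynomial.coeff_map, Polynomial.coeff_X_pow]
      split_ifs with h
      · rw [h, hd, hp.coeff_natDegree, map_one]
      · exact Ideal.Quotient.eq_zero_iff_mem.mpr (hcoeff i h)
    let q : A[X] := X * (X - C 1)
    have hq : q.Monic := monic_X.mul (monic_X_sub_C 1)
    have hqdeg : q.natDegree ≠ 0 := by
      have : q.natDegree = 1 + 1 := by
        rw [Polynomial.Monic.natDegree_mul monic_X (monic_X_sub_C 1), natDegree_X, natDegree_X_sub_C]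
      omega
    refine ⟨(p * X).comp q, d + 1, (hp.mul monic_X).comp hq hqdeg, by omega, ?_, ?_⟩
    · rw [Polynomial.aeval_comp]
      have : aeval b q = b * b - b := by
        simp only [q, map_mul, aeval_X, map_sub, map_one]
        ring
      rw [this, map_mul, hroot, zero_mul]
    · rw [Polynomial.map_comp, Polynomial.map_mul, hpmap, Polynomial.map_X, ← pow_succ,
        Polynomial.X_pow_comp]
      simp only [q, Polynomial.map_mul, Polynomial.map_X, Polynomial.map_sub, map_one, mul_pow,
        Polynomial.map_one]

end Groth.Agent.S1959
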