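import Groth.Statements.S19590
import Mathlib

set_option autoImplicit false
open BddFin

namespace Groth.Agent.S19590

abbrev phi (n : ℕ) : Matrix (Fin n) (Fin n) ℤ →+* Matrix (Fin n) (Fin n) (ZMod 3) :=
  (Int.castRingHom (ZMod 3)).mapMatrix

lemma ker_phi {n : ℕ} (B : Matrix (Fin n) (Fin n) ℤ) (h : phi n B = 0) :
    ∃ N : Matrix (Fin n) (Fin n) ℤ, B = (3 : ℤ) • N := by
  have h1 : ∀ i j, (3 : ℤ) ∣ B i j := by
    intro i j
    have h2 := congrFun (congrFun h i) j
    simp only [phi, RingHom.mapMatrix_apply, Matrix.map_apply, Matrix.zero_apply,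
      Int.coe_castRingHom] at h2
    exact (ZMod.intCast_zmod_eq_zero_iff_dvd (B i j) 3).1 h2
  choose N hN using h1
  refine ⟨Matrix.of N, ?_⟩
  ext i j
  simp [hN i j]

lemma phi_three_smul {n : ℕ} (X : Matrix (Fin n) (Fin n) ℤ) : phi n ((3 : ℤ) • X) = 0 := by
  ext i j
  simp only [phi, RingHom.mapMatrix_apply, Matrix.map_apply, Matrix.smul_apply, smul_eq_mul,
    Int.coe_castRingHom, Matrix.zero_apply]
  push_cast
  have h3 : (3 : ZMod 3) = 0 := by decide
  rw [h3, zero_mul]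

lemma phi_pow_smul {n : ℕ} (j : ℕ) (X : Matrix (Fin n) (Fin n) ℤ) :
    phi n (((3 : ℤ) ^ (j + 1)) • X) = 0 := by
  rw [pow_succ', mul_smul]
  exact phi_three_smul _

def Q {n : ℕ} (h : Matrix (Fin n) (Fin n) ℤ) : Prop :=
  ∃ (j : ℕ) (A : Matrix (Fin n) (Fin n) ℤ), h = 1 + ((3 : ℤ) ^ (j + 1)) • A ∧ phi n A ≠ 0

lemma Q_ne_one {n : ℕ} (h : Matrix (Fin n) (Fin n) ℤ) (hQ : Q h) : h ≠ 1 := by
  obtain ⟨j, A, rfl, hA⟩ := hQ
  intro h1
  apply hA
  have h2 : ((3 : ℤ) ^ (j + 1)) • A = 0 := by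
    have := congrArg (fun M => M - 1) h1
    simpa using this
  have h3 : A = 0 := by
    ext a b
    have h4 := congrFun (congrFun h2 a) b
    simp only [Matrix.smul_apply, smul_eq_mul, Matrix.zero_apply] at h4
    rcases mul_eq_zero.1 h4 with h5 | h5
    · exact absurd h5 (pow_ne_zero _ (by norm_num))
    · exact h5
  rw [h3, map_zero]

lemma Q_pow_prime {n : ℕ} (h : Matrix (Fin n) (Fin n) ℤ) (hQ : Q h) (q : ℕ) (hq : q.Prime) :
    Q (h ^ q) := by
  obtain ⟨j, A, rfl, hA⟩ := hQ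
  by_cases hq3 : q = 3
  · subst hq3
    refine ⟨j + 1, A + ((3 : ℤ) ^ (j + 1)) • A ^ 2 + ((3 : ℤ) ^ (2 * j + 1)) • A ^ 3, ?_, ?_⟩
    · have h1 : ∀ B : Matrix (Fin n) (Fin n) ℤ,
          (1 + B) ^ 3 = 1 + (3 : ℤ) • B + (3 : ℤ) • B ^ 2 + B ^ 3 := by
        intro B
        noncomm_ring
      rw [h1, smul_pow, smul_pow]
      have e1 : (3 : ℤ) * 3 ^ (j + 1) = 3 ^ (j + 1 + 1) := by ring
      have e2 : (3 : ℤ) * (3 ^ (j + 1)) ^ 2 = 3 ^ (j + 1 + 1) * 3 ^ (j + 1) := by ring
      have e3 : ((3 : ℤ) ^ (j + 1)) ^ 3 = 3 ^ (j + 1 + 1) * 3 ^ (2 * j + 1) := by ring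
      rw [smul_add, smul_add, smul_smul, smul_smul, smul_smul, smul_smul, e1, e2, e3]
      abel
    · rw [map_add, map_add, phi_pow_smul]
      have h2 : (2 * j + 1) = (2 * j) + 1 := rfl
      rw [h2, phi_pow_smul, add_zero, add_zero]
      exact hA
  · set c : ℤ := 3 ^ (j + 1) with hc
    have hone : phi n (1 + c • A) = 1 := by
      rw [map_add, map_one, hc, phi_pow_smul, add_zero]
    have hsum : phi n (∑ i ∈ Finset.range q, (1 + c • A) ^ i) = (q : Matrix (Fin n) (Fin n) (ZMod 3)) := by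
      rw [map_sum]
      simp only [map_pow, hone, one_pow, Finset.sum_const, Finset.card_range, nsmul_eq_mul, mul_one]
    obtain ⟨N, hN⟩ := ker_phi (∑ i ∈ Finset.range q, (1 + c • A) ^ i - (q : Matrix (Fin n) (Fin n) ℤ))
      (by rw [map_sub, hsum, map_natCast, sub_self])
    have hgs := geom_sum_mul (1 + c • A) q
    have hpow : (1 + c • A) ^ q = 1 + c • ((q : ℤ) • A + (3 : ℤ) • (N * A)) := by
      have h3 : ∑ i ∈ Finset.range q, (1 + c • A) ^ i = (q : Matrix (Fin n) (Fin n) ℤ) + (3 : ℤ) • N := by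
        rw [← hN]; abel
      rw [h3] at hgs
      have h4 : (1 + c • A) ^ q = 1 + ((q : Matrix (Fin n) (Fin n) ℤ) + (3 : ℤ) • N) * (1 + c • A - 1) := by
        rw [hgs]; abel
      rw [h4, add_sub_cancel_left, mul_smul_comm, add_mul, smul_mul_assoc]
      congr 2
      rw [← Int.cast_natCast, ← zsmul_eq_mul]
    refine ⟨j, (q : ℤ) • A + (3 : ℤ) • (N * A), hpow, ?_⟩
    rw [map_add, phi_three_smul, add_zero]
    intro h0
    apply hA
    have hq0 : ((q : ℤ) : ZMod 3) ≠ 0 := by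
      rw [Int.cast_natCast]
      intro h5
      have h6 : 3 ∣ q := (ZMod.natCast_eq_zero_iff q 3).1 h5
      exact hq3 ((Nat.prime_dvd_prime_iff_eq Nat.prime_three hq).1 h6).symm
    ext a b
    have h7 := congrFun (congrFun h0 a) b
    simp only [phi, RingHom.mapMatrix_apply, Matrix.map_apply, Matrix.smul_apply, smul_eq_mul,
      Int.coe_castRingHom, Matrix.zero_apply] at h7 ⊢
    push_cast at h7
    rcases mul_eq_zero.1 h7 with h8 | h8
    · exact absurd (by exact_mod_cast h8) hq0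
    · exact h8

lemma Q_pow {n : ℕ} (h : Matrix (Fin n) (Fin n) ℤ) (hQ : Q h) (k : ℕ) (hk : 0 < k) :
    Q (h ^ k) := by
  induction k using induction_on_primes with
  | zero => exact absurd hk (lt_irrefl 0)
  | one => rwa [pow_one]
  | prime_mul p a hp ih =>
    have ha : 0 < a := by
      rcases Nat.eq_zero_or_pos a with h0 | h0
      · rw [h0, mul_zero] at hk; exact absurd hk (lt_irrefl 0)
      · exact h0
    rw [mul_comm, pow_mul]
    exact Q_pow_prime _ (ih ha) p hp

/-- For every n, the orders of the finite subgroups of GL_n(ℤ) are bounded: there is B such that every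
finite subgroup of GL_n(ℤ) has at most B elements. -/
theorem result (n : ℕ) :
    ∃ B : ℕ, ∀ H : Subgroup (Matrix.GeneralLinearGroup (Fin n) ℤ), Finite H → Nat.card H ≤ B := by
  classical
  let ρ : Matrix.GeneralLinearGroup (Fin n) ℤ →* Matrix.GeneralLinearGroup (Fin n) (ZMod 3) :=
    Matrix.GeneralLinearGroup.map (Int.castRingHom (ZMod 3))
  refine ⟨Nat.card (Matrix.GeneralLinearGroup (Fin n) (ZMod 3)), fun H hH => ?_⟩
  have hker : ∀ g : Matrix.GeneralLinearGroup (Fin n) ℤ, g ∈ H → ρ g = 1 → g = 1 := by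
    intro g hg hρ
    by_contra hne
    set G : Matrix (Fin n) (Fin n) ℤ := (g : Matrix (Fin n) (Fin n) ℤ) with hG
    have hG1 : G ≠ 1 := fun h => hne (Units.ext h)
    have hphi : phi n G = 1 := by
      have h0 := congrArg (fun u : Matrix.GeneralLinearGroup (Fin n) (ZMod 3) =>
        (u : Matrix (Fin n) (Fin n) (ZMod 3))) hρ
      exact h0
    have hQ : Q G := by
      by_contra hnQ
      have hall : ∀ j : ℕ, ∃ A : Matrix (Fin n) (Fin n) ℤ, G = 1 + ((3 : ℤ) ^ (j + 1)) • A := by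
        intro j
        induction j with
        | zero =>
          obtain ⟨N, hN⟩ := ker_phi (G - 1) (by rw [map_sub, hphi, map_one, sub_self])
          refine ⟨N, ?_⟩
          rw [zero_add, pow_one, ← hN]
          abel
        | succ j ih =>
          obtain ⟨A, hA⟩ := ih
          by_cases hA0 : phi n A = 0
          · obtain ⟨N, hN⟩ := ker_phi A hA0
            refine ⟨N, ?_⟩
            rw [hA, hN, smul_smul, ← pow_succ]
          · exact absurd ⟨j, A, hA, hA0⟩ hnQ
      apply hG1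
      ext a b
      by_contra hab
      set d : ℤ := G a b - (1 : Matrix (Fin n) (Fin n) ℤ) a b with hd
      have hd0 : d ≠ 0 := sub_ne_zero.2 hab
      obtain ⟨A, hA⟩ := hall d.natAbs
      have hdvd : (3 : ℤ) ^ (d.natAbs + 1) ∣ d := by
        generalize d.natAbs + 1 = e at hA ⊢
        refine ⟨A a b, ?_⟩
        have h5 : G a b = (1 + ((3 : ℤ) ^ e) • A) a b := by rw [← hA]
        rw [hd, h5, Matrix.add_apply, Matrix.smul_apply, smul_eq_mul]
        ring
      have h1 : (3 ^ (d.natAbs + 1) : ℕ) ∣ d.natAbs := by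
        have h6 := Int.natAbs_dvd_natAbs.2 hdvd
        simpa [Int.natAbs_pow] using h6
      have h2 := Nat.le_of_dvd (Int.natAbs_pos.2 hd0) h1
      have h3 : d.natAbs + 1 < 3 ^ (d.natAbs + 1) := Nat.lt_pow_self (by norm_num)
      omega
    have hfin : IsOfFinOrder (⟨g, hg⟩ : H) := isOfFinOrder_of_finite _
    obtain ⟨k, hk, hgk⟩ := isOfFinOrder_iff_pow_eq_one.1 hfin
    have hgk' : g ^ k = 1 := by
      have h7 := congrArg Subtype.val hgk
      simpa using h7
    have hGk : G ^ k = 1 := by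
      have h8 := congrArg (fun u : Matrix.GeneralLinearGroup (Fin n) ℤ =>
        (u : Matrix (Fin n) (Fin n) ℤ)) hgk'
      simpa using h8
    exact Q_ne_one _ (Q_pow G hQ k hk) hGk
  have hinj : Function.Injective (ρ.comp H.subtype) := by
    rw [injective_iff_map_eq_one]
    intro g hg
    apply Subtype.ext
    exact hker g.1 g.2 hg
  exact Nat.card_le_card_of_injective _ hinj

end Groth.Agent.S19590
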