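import Groth.Statements.S19591
import Mathlib

set_option autoImplicit false
universe u v
open BddFin

namespace Groth.Agent.S19591

/-- Let K be a perfect field of characteristic 2, V a finite-dimensional K-vector space with dim V > 2
and q a quadratic form on V whose polar bilinear form is non-degenerate. Then q represents zero
non-trivially. (Non-degeneracy of the polar form, which is alternating in characteristic 2, forces
dim V to be even, as the published lemma notes.) -/
theorem result
    (K : Type u) [Field K] [CharP K 2] [PerfectField K]
    (V : Type v) [AddCommGroup V] [Module K V] [FiniteDimensional K V]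
    (hV : 2 < Module.finrank K V) (q : QuadraticForm K V)
    (hq : (QuadraticMap.polarBilin q).Nondegenerate) :
    ∃ v : V, v ≠ 0 ∧ q v = 0 := by
  classical
  have hpos : 0 < Module.finrank K V := by omega
  obtain ⟨v, hv⟩ : ∃ v : V, v ≠ 0 := by
    haveI : Nontrivial V := Module.nontrivial_of_finrank_pos hpos
    exact exists_ne 0
  by_cases hqv : q v = 0
  · exact ⟨v, hv, hqv⟩
  let φ : V →ₗ[K] K := QuadraticMap.polarBilin q v
  have hker : 2 ≤ Module.finrank K (LinearMap.ker φ) := by
    have h1 := LinearMap.finrank_range_add_finrank_ker φ
    have h2 : Module.finrank K (LinearMap.range φ) ≤ 1 := by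
      calc _ ≤ Module.finrank K K := Submodule.finrank_le _
        _ = 1 := Module.finrank_self K
    omega
  have hnle : ¬ (LinearMap.ker φ ≤ Submodule.span K {v}) := by
    intro hle
    have h3 := Submodule.finrank_mono hle
    have h4 : Module.finrank K (Submodule.span K {v}) = 1 := finrank_span_singleton hv
    omega
  obtain ⟨w, hwker, hwspan⟩ := SetLike.not_le_iff_exists.mp hnle
  obtain ⟨t, ht⟩ := surjective_frobenius K 2 (q w / q v)
  refine ⟨w + t • v, ?_, ?_⟩
  · intro h0
    apply hwspan
    have : w = (-t) • v := by rw [neg_smul]; exact eq_neg_of_add_eq_zero_left h0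
    rw [this]
    exact Submodule.smul_mem _ _ (Submodule.mem_span_singleton_self v)
  · have hpol : QuadraticMap.polar q w (t • v) = 0 := by
      rw [QuadraticMap.polar_smul_right, QuadraticMap.polar_comm]
      have : QuadraticMap.polar q v w = 0 := hwker
      rw [this, smul_zero]
    have := QuadraticMap.map_add q w (t • v)
    rw [this, hpol, add_zero, QuadraticMap.map_smul, smul_eq_mul]
    have ht' : t * t = q w / q v := by rw [← ht, frobenius_def, pow_two]
    rw [ht', div_mul_cancel₀ _ hqv]
    exact CharTwo.add_self_eq_zero (q w)

end Groth.Agent.S19591
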