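import Groth.Statements.S19603
import Mathlib
import Groth.Agent.Lib.helper9.H9_InvSep
import Groth.Agent.Lib.helper9.H9_LinAct

set_option autoImplicit false
universe u
open GIT

namespace Groth.Agent.S19603

/-- For the whole projective space U = P(V), let k be an algebraically closed field of arbitrary
characteristic and G = Spec A a linearly reductive affine algebraic group acting linearly on affine
ι-space, and let v be a vector. Then some invariant homogeneous polynomial of positive degree is
non-zero at v (the point of v is semistable) if and only if the origin is not in the closure of the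
orbit of v. -/
theorem result (k : Type u) [Field k] [IsAlgClosed k]
    (A : Type u) [CommRing A] [HopfAlgebra k A] [Algebra.FiniteType k A] (hG : HopfRep.IsLinearlyReductive k A)
    (ι : Type u) [Fintype ι] [HopfRep.Comod k A (MvPolynomial ι k)] [GLin.IsCoactAlg k A (MvPolynomial ι k)]
    (hlin : GLin.IsLinear k A ι) (v : ι → k) :
    GLin.IsSemistableVec k A v ↔
      ¬ GLin.InOrbitClosure k A (GLin.vecPt k ι v) (GLin.vecPt k ι (fun _ => (0 : k))) := by
  classical
  have hlin' := H9_LinAct.isLin_of_isLinear hlin
  constructor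
  · intro hss hclo
    apply hss
    intro F hF d hd hhom
    have h1 : F - algebraMap k _ (GLin.vecPt k ι v F) ∈
        RingHom.ker (GLin.orbitHom k A (GLin.vecPt k ι v)) := by
      rw [RingHom.mem_ker, map_sub, H9_InvSep.orbitHom_of_mem_invariants _ F hF, AlgHom.commutes,
        sub_self]
    have h2 := RingHom.mem_ker.1 (hclo h1)
    rw [map_sub, AlgHom.commutes, sub_eq_zero] at h2
    have h3 : GLin.vecPt k ι (fun _ => (0 : k)) F = 0 := by
      rw [H9_LinAct.vecPt_zero_apply]
      apply hhom.coeff_eq_zero
      simp
      omega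
    rw [h3] at h2
    show MvPolynomial.eval v F = 0
    rw [← H9_LinAct.vecPt_apply]
    simpa using h2.symm
  · intro hclo hnull
    apply hclo
    by_contra hnot
    -- the two ideals
    set J₁ := RingHom.ker (GLin.orbitHom k A (GLin.vecPt k ι v) : MvPolynomial ι k →+* A) with hJ₁
    set J₂ := RingHom.ker (GLin.vecPt k ι (fun _ => (0 : k)) : MvPolynomial ι k →+* k) with hJ₂
    have hsurj : Function.Surjective (GLin.vecPt k ι (fun _ => (0 : k)) : MvPolynomial ι k →+* k) := by
      intro c
      exact ⟨MvPolynomial.C c, by simp⟩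
    have hmax : J₂.IsMaximal := RingHom.ker_isMaximal_of_surjective _ hsurj
    have htop : J₁ ⊔ J₂ = ⊤ := by
      by_contra hne
      have heq := hmax.eq_of_le hne le_sup_right
      apply hnot
      intro f hf
      have : f ∈ J₁ ⊔ J₂ := Ideal.mem_sup_left hf
      rwa [← heq] at this
    have hJ₂sub : HopfRep.IsSubcomod (k := k) (A := A) (J₂.restrictScalars k) := by
      rw [hJ₂, H9_LinAct.ker_vecPt_zero]
      exact H9_LinAct.isSubcomod_ker_homogeneousComponent_zero (k := k) (A := A) hlin'
    obtain ⟨e, hefix, he₁, he₂⟩ := H9_InvSep.exists_invariant_sep hG J₁ J₂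
      (H9_InvSep.isSubcomod_ker_orbitHom _) hJ₂sub htop
    have hFfix : (1 - e) ∈ HopfRep.fixedPts k A (MvPolynomial ι k) :=
      Submodule.sub_mem _ H9_InvSep.one_mem_fixedPts hefix
    have hev : MvPolynomial.eval v e = 0 := by
      have he₁' : GLin.orbitHom k A (GLin.vecPt k ι v) e = 0 := RingHom.mem_ker.1 he₁
      have h1 := H9_InvSep.counit_orbitHom (A := A) (GLin.vecPt k ι v) e
      rw [he₁', map_zero] at h1
      rw [← H9_LinAct.vecPt_apply, ← h1]
    have hF0 : MvPolynomial.homogeneousComponent 0 (1 - e) = 0 := by
      have h2 : (1 - e) ∈ J₂.restrictScalars k := he₂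
      rw [hJ₂, H9_LinAct.ker_vecPt_zero] at h2
      exact LinearMap.mem_ker.1 h2
    have hsum : MvPolynomial.eval v (1 - e) = 1 := by
      rw [map_sub, map_one, hev, sub_zero]
    rw [← MvPolynomial.sum_homogeneousComponent (1 - e), map_sum] at hsum
    obtain ⟨d, -, hd⟩ := Finset.exists_ne_zero_of_sum_ne_zero (by rw [hsum]; exact one_ne_zero)
    have hd0 : d ≠ 0 := by
      rintro rfl
      apply hd
      rw [hF0, map_zero]
    exact hd (hnull _ (H9_LinAct.homogeneousComponent_mem_fixedPts hlin' hFfix d) d
      (Nat.pos_of_ne_zero hd0) (MvPolynomial.homogeneousComponent_isHomogeneous d _))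

end Groth.Agent.S19603
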