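import Groth.Statements.S19609
import Mathlib

set_option autoImplicit false
universe u
open CartMod

namespace Groth.Agent.S19609

/-- Let p be a prime and u : A → B a ring homomorphism between commutative rings which are complete and
separated for the p-adic topology and have no p-torsion (flat over the p-adic base). If u induces a
bijection A/pA → B/pB (injectivity: u a ∈ pB forces a ∈ pA; surjectivity: every b ∈ B is congruent
to some u a modulo pB), then u is bijective. (The published statement is for a morphism of flat
p-adic formal schemes over the Witt vectors of a perfect field: if its special fibre is an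
isomorphism, so is the morphism; this row is its affine, ring-level case.) -/
theorem result (p : ℕ) [Fact p.Prime]
    {A B : Type u} [CommRing A] [CommRing B]
    [IsAdicComplete (Ideal.span {(p : A)}) A] [IsAdicComplete (Ideal.span {(p : B)}) B]
    (hA : IsSMulRegular A (p : A)) (hB : IsSMulRegular B (p : B)) (u : A →+* B)
    (hinj : ∀ a : A, u a ∈ Ideal.span {(p : B)} → a ∈ Ideal.span {(p : A)})
    (hsurj : ∀ b : B, ∃ a : A, b - u a ∈ Ideal.span {(p : B)}) :
    Function.Bijective u := by
  classical
  have hmemA : ∀ (n : ℕ) (x : A), x ∈ ((Ideal.span {(p : A)}) ^ n • ⊤ : Submodule A A) ↔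
      (p : A) ^ n ∣ x := by
    intro n x
    rw [smul_eq_mul, Ideal.mul_top, Ideal.span_singleton_pow, Ideal.mem_span_singleton]
  have hmemB : ∀ (n : ℕ) (x : B), x ∈ ((Ideal.span {(p : B)}) ^ n • ⊤ : Submodule B B) ↔
      (p : B) ^ n ∣ x := by
    intro n x
    rw [smul_eq_mul, Ideal.mul_top, Ideal.span_singleton_pow, Ideal.mem_span_singleton]
  have hup : u (p : A) = (p : B) := map_natCast u p
  have hBreg : ∀ (n : ℕ) (x : B), (p : B) ^ n * x = 0 → x = 0 := by
    intro n
    induction n with
    | zero => intro x hx; simpa using hx
    | succ n ih =>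
      intro x hx
      apply ih
      apply hB
      simp only [smul_eq_mul, mul_zero]
      rw [← hx]
      ring
  constructor
  · rw [injective_iff_map_eq_zero]
    intro a ha
    have hdiv : ∀ n : ℕ, (p : A) ^ n ∣ a := by
      intro n
      induction n with
      | zero => simp
      | succ n ih =>
        obtain ⟨c, rfl⟩ := ih
        have h1 : (p : B) ^ n * u c = 0 := by
          rw [← ha, map_mul, map_pow, hup]
        have h2 : u c = 0 := hBreg n _ h1
        have h3 : c ∈ Ideal.span {(p : A)} := hinj c (by rw [h2]; exact Ideal.zero_mem _)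
        obtain ⟨c', rfl⟩ := Ideal.mem_span_singleton.mp h3
        exact ⟨c', by ring⟩
    apply IsHausdorff.haus' (I := Ideal.span {(p : A)}) a
    intro n
    rw [SModEq.sub_mem, sub_zero, hmemA]
    exact hdiv n
  · intro b
    -- one approximation step
    have hstep : ∀ b : B, ∃ ab : A × B, b - u ab.1 = (p : B) * ab.2 := by
      intro b
      obtain ⟨a, ha⟩ := hsurj b
      obtain ⟨b', hb'⟩ := Ideal.mem_span_singleton.mp ha
      exact ⟨(a, b'), hb'⟩
    choose g hg using hstep
    let bs : ℕ → B := fun n => Nat.rec b (fun _ x => (g x).2) n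
    have hbs : ∀ n, bs (n + 1) = (g (bs n)).2 := fun n => rfl
    let as : ℕ → A := fun n => (g (bs n)).1
    let s : ℕ → A := fun n => ∑ i ∈ Finset.range n, (p : A) ^ i * as i
    have hs : ∀ n, b - u (s n) = (p : B) ^ n * bs n := by
      intro n
      induction n with
      | zero => simp [s, bs]
      | succ n ih =>
        have h1 : s (n + 1) = s n + (p : A) ^ n * as n := Finset.sum_range_succ _ _
        have h2 := hg (bs n)
        rw [h1, map_add, map_mul, map_pow, hup, hbs]
        calc b - (u (s n) + (p : B) ^ n * u (as n))
            = (b - u (s n)) - (p : B) ^ n * u (as n) := by ring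
          _ = (p : B) ^ n * (bs n - u (g (bs n)).1) := by rw [ih]; ring
          _ = (p : B) ^ (n + 1) * (g (bs n)).2 := by rw [h2]; ring
    have hcauchy : ∀ {m n : ℕ}, m ≤ n →
        s m ≡ s n [SMOD ((Ideal.span {(p : A)}) ^ m • ⊤ : Submodule A A)] := by
      intro m n hmn
      rw [SModEq.sub_mem, hmemA]
      have : s n - s m = ∑ i ∈ Finset.Ico m n, (p : A) ^ i * as i := by
        simp only [s]
        rw [Finset.sum_Ico_eq_sub _ hmn]
      have h2 : (p : A) ^ m ∣ s n - s m := by
        rw [this]
        apply Finset.dvd_sum
        intro i hi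
        exact dvd_mul_of_dvd_left (pow_dvd_pow _ (Finset.mem_Ico.mp hi).1) _
      have h3 : s m - s n = -(s n - s m) := by ring
      rw [h3]
      exact (dvd_neg).mpr h2
    obtain ⟨a, ha⟩ := IsPrecomplete.prec
      (IsAdicComplete.toIsPrecomplete (I := Ideal.span {(p : A)}) (M := A)) hcauchy
    refine ⟨a, ?_⟩
    have : u a - b = 0 := by
      apply IsHausdorff.haus' (I := Ideal.span {(p : B)}) (u a - b)
      intro n
      rw [SModEq.sub_mem, sub_zero, hmemB]
      have h1 := ha n
      rw [SModEq.sub_mem, hmemA] at h1
      obtain ⟨c, hc⟩ := h1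
      have h2 : u a - b = -(u (s n - a)) - (b - u (s n)) := by
        rw [map_sub]; ring
      rw [h2, hc, hs n, map_mul, map_pow, hup]
      exact ⟨-(u c) - bs n, by ring⟩
    exact sub_eq_zero.mp this

end Groth.Agent.S19609
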