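import Groth.Statements.S19611

set_option autoImplicit false
universe u
open CategoryTheory AlgebraicGeometry
open CartMod

namespace Groth.Agent.S19611


open CategoryTheory CategoryTheory.Limits Opposite

open AlgebraicGeometry

theorem main (p : ℕ) [Fact p.Prime] (Y : Scheme.{u}) [FrobSch.IsCharP Y p] :
    Epi (FrobSch.frob Y p).toImage := by
  set f := FrobSch.frob Y p with hf
  haveI : QuasiCompact f := ⟨fun U _ hc => hc⟩
  have hinj : Function.Injective f.imageι := f.imageι.isEmbedding.injective
  have hcomp : ∀ y : Y, f.imageι (f.toImage y) = y := fun y => by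
    have := congr($(f.toImage_imageι) y)
    rw [Scheme.Hom.comp_apply] at this
    exact this
  have hsurj : Function.Surjective f.toImage := fun x =>
    ⟨f.imageι x, hinj (hcomp _)⟩
  have hinjV : ∀ V : f.image.Opens, Function.Injective (f.toImage.app V) := by
    intro V s t hst
    refine TopCat.Presheaf.section_ext f.image.sheaf V s t (fun x hx => ?_)
    apply f.stalkFunctor_toImage_injective x
    erw [TopCat.Presheaf.stalkFunctor_map_germ_apply, TopCat.Presheaf.stalkFunctor_map_germ_apply]
    exact congrArg _ hst
  constructor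
  intro Z g₁ g₂ h
  have hbase : g₁.base = g₂.base := by
    ext x
    obtain ⟨y, rfl⟩ := hsurj x
    exact congr($h y)
  refine Scheme.Hom.ext hbase (fun U => ?_)
  have hmono : Mono (f.toImage.app (g₂ ⁻¹ᵁ U)) :=
    ConcreteCategory.mono_of_injective _ (hinjV _)
  rw [← cancel_mono (f.toImage.app (g₂ ⁻¹ᵁ U))]
  have h2 := Scheme.Hom.congr_app h U
  rw [Scheme.Hom.comp_app, Scheme.Hom.comp_app] at h2
  rw [Category.assoc, Scheme.Hom.naturality, reassoc_of% h2]
  have this : ∀ (V : Y.Opens) (e : V ⟶ V), Y.presheaf.map e.op = 𝟙 _ := fun V e => by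
    rw [Subsingleton.elim e (𝟙 V)]; exact Y.presheaf.map_id _
  have key : ∀ {A B C : CommRingCat.{u}} (a : A ⟶ B) (m₁ : B ⟶ C) (m₂ : C ⟶ B),
      m₁ ≫ m₂ = 𝟙 _ → (a ≫ m₁) ≫ m₂ = a := by
    intro A B C a m₁ m₂ h; rw [Category.assoc, h, Category.comp_id]
  refine key _ _ _ ?_
  erw [← Functor.map_comp]
  exact this _ _

/-- For a prime p and a scheme Y of characteristic p, write Y♭ for the scheme-theoretic image of the
absolute Frobenius F_Y : Y → Y, i.e. the closed subscheme of Y defined by the sections of O_Y whose
p-th power vanishes, and Y → Y♭ for the canonical morphism through which F_Y factors. Then Y → Y♭ is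
an epimorphism of schemes: two morphisms g₁, g₂ from Y♭ to a scheme Z with equal composites Y → Y♭ →
Z are equal. (The published statement is for k-morphisms g₁, g₂ from Y♭ to a k-scheme Z over a
perfect field k of characteristic p, compared after Frobenius twist through Y → (Y♭)'; this row asks
right-cancellation against morphisms to every scheme Z, which is equivalent to it for k-morphisms.) -/
theorem result (p : ℕ) [Fact p.Prime] (Y : Scheme.{u}) [FrobSch.IsCharP Y p] :
    Epi (FrobSch.frob Y p).toImage := by
  exact main p Y

end Groth.Agent.S19611
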