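import Groth.Statements.S19632
import Mathlib

set_option autoImplicit false
universe u
open DeRham

namespace Groth.Agent.S19632

/-- Let k be a field of characteristic zero and G_m = Spec k[t, t⁻¹] the multiplicative group. The
kernel of the differential d : k[t, t⁻¹] → Ω¹ of the de Rham complex of G_m consists of the
constants: for a Laurent polynomial f, df = 0 if and only if f lies in the image of k. Equivalently
H^0_dR(G_m/k) = k. (Characteristic zero is used: in characteristic p the element t^p is closed.) -/
theorem result (k : Type u) [Field k] [CharZero k]
    (f : LaurentPolynomial k) :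
    KaehlerDifferential.D k (LaurentPolynomial k) f = 0 ↔ f ∈ Set.range (algebraMap k (LaurentPolynomial k)) := by
  classical
  -- the Euler operator on finitely supported functions
  let mulIdx : (ℤ →₀ k) →ₗ[k] (ℤ →₀ k) :=
    { toFun := fun x => Finsupp.onFinset x.support (fun n => (n : k) * x n) (by
        intro n hn
        rw [Finsupp.mem_support_iff]
        intro h
        exact hn (by rw [h, mul_zero]))
      map_add' := by
        intro x y
        ext n
        simp only [Finsupp.onFinset_apply, Finsupp.add_apply, mul_add]
      map_smul' := by
        intro c x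
        ext n
        simp only [Finsupp.onFinset_apply, Finsupp.smul_apply, smul_eq_mul, RingHom.id_apply]
        ring }
  let θ : LaurentPolynomial k →ₗ[k] LaurentPolynomial k :=
    (AddMonoidAlgebra.coeffLinearEquiv k).symm.toLinearMap ∘ₗ mulIdx ∘ₗ
      (AddMonoidAlgebra.coeffLinearEquiv k).toLinearMap
  have hθcoeff : ∀ (f : LaurentPolynomial k) (n : ℤ), (θ f).coeff n = (n : k) * f.coeff n := by
    intro f n
    rfl
  have hθsingle : ∀ (a : ℤ) (r : k),
      θ (AddMonoidAlgebra.single a r) = AddMonoidAlgebra.single a ((a : k) * r) := by
    intro a r
    apply AddMonoidAlgebra.coeff_injective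
    ext n
    rw [hθcoeff, AddMonoidAlgebra.coeff_single, AddMonoidAlgebra.coeff_single,
      Finsupp.single_apply, Finsupp.single_apply]
    split_ifs with h
    · rw [h]
    · rw [mul_zero]
  have hleib : ∀ f g : LaurentPolynomial k, θ (f * g) = f • θ g + g • θ f := by
    intro f g
    induction f using AddMonoidAlgebra.induction_linear with
    | zero => simp
    | add f₁ f₂ h₁ h₂ =>
      rw [add_mul, map_add, h₁, h₂, map_add, add_smul, smul_add]
      abel
    | single a r =>
      induction g using AddMonoidAlgebra.induction_linear with
      | zero => simp
      | add g₁ g₂ h₁ h₂ =>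
        rw [mul_add, map_add, h₁, h₂, map_add, add_smul, smul_add]
        abel
      | single b s =>
        rw [AddMonoidAlgebra.single_mul_single, hθsingle, hθsingle, hθsingle, smul_eq_mul,
          smul_eq_mul, AddMonoidAlgebra.single_mul_single, AddMonoidAlgebra.single_mul_single,
          add_comm b a, ← AddMonoidAlgebra.single_add]
        congr 1
        push_cast
        ring
  let δ : Derivation k (LaurentPolynomial k) (LaurentPolynomial k) := Derivation.mk' θ hleib
  constructor
  · intro hD
    have h1 : θ f = 0 := by
      have := δ.liftKaehlerDifferential_comp_D f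
      rw [hD, map_zero] at this
      exact this.symm
    refine ⟨f.coeff 0, ?_⟩
    apply AddMonoidAlgebra.coeff_injective
    ext n
    rw [LaurentPolynomial.algebraMap_apply, Algebra.algebraMap_self, RingHom.id_apply,
      LaurentPolynomial.C_apply]
    split_ifs with hn
    · rw [hn]
    · have h2 := hθcoeff f n
      rw [h1] at h2
      have h3 : (n : k) * f.coeff n = 0 := h2.symm
      rcases mul_eq_zero.mp h3 with h4 | h4
      · exact absurd (by exact_mod_cast h4) hn
      · exact h4.symm
  · rintro ⟨r, rfl⟩
    exact Derivation.map_algebraMap _ r

end Groth.Agent.S19632
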