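import Groth.Statements.S19634
import Mathlib

set_option autoImplicit false
universe u
open DeRham

namespace Groth.Agent.S19634

/-- Let k be a field of characteristic zero and A = k[X, Y]/(XY), the coordinate ring of two affine
lines crossing in a point. In the naive de Rham complex A → Ω¹_{A/k} the kernel of d consists of the
constants: dP = 0 if and only if P is in the image of k. -/
theorem result (k : Type u) [Field k] [CharZero k]
    (P : MvPolynomial (Fin 2) k ⧸ Ideal.span {(MvPolynomial.X 0 * MvPolynomial.X 1 : MvPolynomial (Fin 2) k)}) :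
    KaehlerDifferential.D k (MvPolynomial (Fin 2) k ⧸ Ideal.span {(MvPolynomial.X 0 * MvPolynomial.X 1 : MvPolynomial (Fin 2) k)}) P = 0 ↔
      P ∈ Set.range (algebraMap k (MvPolynomial (Fin 2) k ⧸ Ideal.span {(MvPolynomial.X 0 * MvPolynomial.X 1 : MvPolynomial (Fin 2) k)})) := by
  classical
  constructor
  · intro hP
    obtain ⟨q, rfl⟩ := Ideal.Quotient.mk_surjective P
    -- the three evaluation homomorphisms on the polynomial ring
    let ψ₁ : MvPolynomial (Fin 2) k →ₐ[k] MvPolynomial (Fin 2) k :=
      MvPolynomial.aeval ![MvPolynomial.X 0, 0]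
    let ψ₂ : MvPolynomial (Fin 2) k →ₐ[k] MvPolynomial (Fin 2) k :=
      MvPolynomial.aeval ![0, MvPolynomial.X 1]
    let ψ₀ : MvPolynomial (Fin 2) k →ₐ[k] MvPolynomial (Fin 2) k :=
      MvPolynomial.aeval ![0, 0]
    have hdecomp : ∀ r : MvPolynomial (Fin 2) k, r - ψ₁ r - ψ₂ r + ψ₀ r ∈
        Ideal.span {(MvPolynomial.X 0 * MvPolynomial.X 1 : MvPolynomial (Fin 2) k)} := by
      intro r
      induction r using MvPolynomial.induction_on' with
      | monomial u a =>
        have e0 : (MvPolynomial.monomial u a : MvPolynomial (Fin 2) k) =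
            MvPolynomial.C a * (MvPolynomial.X 0 ^ u 0 * MvPolynomial.X 1 ^ u 1) := by
          rw [MvPolynomial.monomial_eq, Finsupp.prod_fintype _ _ (fun i => pow_zero _),
            Fin.prod_univ_two]
        have e1 : ψ₁ (MvPolynomial.monomial u a) =
            MvPolynomial.C a * (MvPolynomial.X 0 ^ u 0 * 0 ^ u 1) := by
          simp only [ψ₁, MvPolynomial.aeval_monomial]
          rw [Finsupp.prod_fintype _ _ (fun i => pow_zero _), Fin.prod_univ_two]
          rfl
        have e2 : ψ₂ (MvPolynomial.monomial u a) =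
            MvPolynomial.C a * (0 ^ u 0 * MvPolynomial.X 1 ^ u 1) := by
          simp only [ψ₂, MvPolynomial.aeval_monomial]
          rw [Finsupp.prod_fintype _ _ (fun i => pow_zero _), Fin.prod_univ_two]
          rfl
        have e3 : ψ₀ (MvPolynomial.monomial u a) =
            MvPolynomial.C a * (0 ^ u 0 * 0 ^ u 1) := by
          simp only [ψ₀, MvPolynomial.aeval_monomial]
          rw [Finsupp.prod_fintype _ _ (fun i => pow_zero _), Fin.prod_univ_two]
          rfl
        rw [e0] at e1 e2 e3 ⊢
        rw [e1, e2, e3]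
        rcases Nat.eq_zero_or_pos (u 0) with h0 | h0 <;> rcases Nat.eq_zero_or_pos (u 1) with h1 | h1
        · rw [h0, h1]; simp
        · rw [h0, zero_pow h1.ne']; simp
        · rw [h1, zero_pow h0.ne']; simp
        · rw [zero_pow h0.ne', zero_pow h1.ne']
          simp only [mul_zero, zero_mul, sub_zero, add_zero]
          obtain ⟨n, hn⟩ := Nat.exists_eq_succ_of_ne_zero h0.ne'
          obtain ⟨m, hm⟩ := Nat.exists_eq_succ_of_ne_zero h1.ne'
          rw [hn, hm, pow_succ, pow_succ]
          rw [Ideal.mem_span_singleton]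
          exact ⟨MvPolynomial.C a * (MvPolynomial.X 0 ^ n * MvPolynomial.X 1 ^ m), by ring⟩
      | add p q hp hq =>
        have : p + q - ψ₁ (p + q) - ψ₂ (p + q) + ψ₀ (p + q) =
            (p - ψ₁ p - ψ₂ p + ψ₀ p) + (q - ψ₁ q - ψ₂ q + ψ₀ q) := by
          rw [map_add, map_add, map_add]; ring
        rw [this]
        exact Ideal.add_mem _ hp hq
    -- homomorphisms to the polynomial ring in one variable
    have hkey : ∀ (f g : Polynomial k), f * g = 0 →
        ∃ c : k, MvPolynomial.aeval ![f, g] q = Polynomial.C c := by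
      intro f g hfg
      let ev : MvPolynomial (Fin 2) k →ₐ[k] Polynomial k := MvPolynomial.aeval ![f, g]
      have hker : ∀ a ∈ Ideal.span {(MvPolynomial.X 0 * MvPolynomial.X 1 : MvPolynomial (Fin 2) k)},
          ev a = 0 := by
        intro a ha
        rw [Ideal.mem_span_singleton] at ha
        obtain ⟨b, rfl⟩ := ha
        rw [map_mul, map_mul]
        simp only [ev, MvPolynomial.aeval_X]
        simp [hfg]
      let Φ : (MvPolynomial (Fin 2) k ⧸
          Ideal.span {(MvPolynomial.X 0 * MvPolynomial.X 1 : MvPolynomial (Fin 2) k)}) →ₐ[k]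
          Polynomial k := Ideal.Quotient.liftₐ _ ev hker
      letI : Algebra (MvPolynomial (Fin 2) k ⧸
          Ideal.span {(MvPolynomial.X 0 * MvPolynomial.X 1 : MvPolynomial (Fin 2) k)})
          (Polynomial k) := Φ.toRingHom.toAlgebra
      haveI : IsScalarTower k (MvPolynomial (Fin 2) k ⧸
          Ideal.span {(MvPolynomial.X 0 * MvPolynomial.X 1 : MvPolynomial (Fin 2) k)})
          (Polynomial k) := IsScalarTower.of_algebraMap_eq (fun c => (Φ.commutes c).symm)
      have h1 := congrArg (KaehlerDifferential.map k k (MvPolynomial (Fin 2) k ⧸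
          Ideal.span {(MvPolynomial.X 0 * MvPolynomial.X 1 : MvPolynomial (Fin 2) k)})
          (Polynomial k)) hP
      rw [KaehlerDifferential.map_D, map_zero] at h1
      have h2 := congrArg (KaehlerDifferential.polynomialEquiv k) h1
      rw [KaehlerDifferential.polynomialEquiv_D, map_zero] at h2
      have h3 : Φ (Ideal.Quotient.mk _ q) = ev q := by
        simp [Φ]
      have h4 : algebraMap (MvPolynomial (Fin 2) k ⧸
          Ideal.span {(MvPolynomial.X 0 * MvPolynomial.X 1 : MvPolynomial (Fin 2) k)})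
          (Polynomial k) (Ideal.Quotient.mk _ q) = ev q := h3
      rw [h4] at h2
      have h5 := Polynomial.natDegree_eq_zero_of_derivative_eq_zero h2
      exact ⟨_, Polynomial.eq_C_of_natDegree_eq_zero h5⟩
    obtain ⟨c₁, hc₁⟩ := hkey Polynomial.X 0 (mul_zero _)
    obtain ⟨c₂, hc₂⟩ := hkey 0 Polynomial.X (zero_mul _)
    have hψ₁ : ψ₁ = (Polynomial.aeval (MvPolynomial.X 0 : MvPolynomial (Fin 2) k)).comp
        (MvPolynomial.aeval ![Polynomial.X, 0]) := by
      apply MvPolynomial.algHom_ext
      intro i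
      fin_cases i <;> simp [ψ₁]
    have hψ₂ : ψ₂ = (Polynomial.aeval (MvPolynomial.X 1 : MvPolynomial (Fin 2) k)).comp
        (MvPolynomial.aeval ![0, Polynomial.X]) := by
      apply MvPolynomial.algHom_ext
      intro i
      fin_cases i <;> simp [ψ₂]
    have hψ₀ : ψ₀ = (Polynomial.aeval (0 : MvPolynomial (Fin 2) k)).comp
        (MvPolynomial.aeval ![Polynomial.X, 0]) := by
      apply MvPolynomial.algHom_ext
      intro i
      fin_cases i <;> simp [ψ₀]
    have e1 : ψ₁ q = MvPolynomial.C c₁ := by
      rw [hψ₁, AlgHom.comp_apply, hc₁, Polynomial.aeval_C]; rfl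
    have e2 : ψ₂ q = MvPolynomial.C c₂ := by
      rw [hψ₂, AlgHom.comp_apply, hc₂, Polynomial.aeval_C]; rfl
    have e0 : ψ₀ q = MvPolynomial.C c₁ := by
      rw [hψ₀, AlgHom.comp_apply, hc₁, Polynomial.aeval_C]; rfl
    have hq := hdecomp q
    rw [e1, e2, e0] at hq
    have hq' : q - MvPolynomial.C c₂ ∈
        Ideal.span {(MvPolynomial.X 0 * MvPolynomial.X 1 : MvPolynomial (Fin 2) k)} := by
      convert hq using 1
      ring
    refine ⟨c₂, ?_⟩
    have hc : algebraMap k (MvPolynomial (Fin 2) k ⧸
        Ideal.span {(MvPolynomial.X 0 * MvPolynomial.X 1 : MvPolynomial (Fin 2) k)}) c₂ =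
        Ideal.Quotient.mk _ (MvPolynomial.C c₂) := rfl
    rw [hc]
    exact (Ideal.Quotient.eq.2 hq').symm
  · rintro ⟨c, rfl⟩
    exact (KaehlerDifferential.D k _).map_algebraMap c

end Groth.Agent.S19634
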