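import Groth.Statements.S19635
import Mathlib

set_option autoImplicit false
universe u
open DeRham

namespace Groth.Agent.S19635

section Aux
open TrivSqZeroExt

variable {k : Type u} [Field k]

instance smulB : SMul (TrivSqZeroExt k (k × k)) (k × k × k) :=
  ⟨fun b m => (b.fst * m.1 + b.snd.1 * m.2.1 + b.snd.2 * m.2.2, b.fst * m.2.1, b.fst * m.2.2)⟩

theorem smulB_def (b : TrivSqZeroExt k (k × k)) (m : k × k × k) :
    b • m = (b.fst * m.1 + b.snd.1 * m.2.1 + b.snd.2 * m.2.2, b.fst * m.2.1, b.fst * m.2.2) := rfl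

instance modB : Module (TrivSqZeroExt k (k × k)) (k × k × k) where
  one_smul m := by
    rw [smulB_def]; simp
  mul_smul a b m := by
    simp only [smulB_def, fst_mul, snd_mul, Prod.fst_add, Prod.snd_add, Prod.smul_fst,
      Prod.smul_snd, smul_eq_mul, MulOpposite.smul_eq_mul_unop, MulOpposite.unop_op]
    refine Prod.ext ?_ (Prod.ext ?_ ?_) <;> simp only [] <;> ring
  smul_zero a := by
    rw [smulB_def]; simp
  smul_add a m n := by
    simp only [smulB_def, Prod.fst_add, Prod.snd_add]
    refine Prod.ext ?_ (Prod.ext ?_ ?_) <;> simp only [Prod.fst_add, Prod.snd_add] <;> ring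
  add_smul a b m := by
    simp only [smulB_def, fst_add, snd_add, Prod.fst_add, Prod.snd_add]
    refine Prod.ext ?_ (Prod.ext ?_ ?_) <;> simp only [Prod.fst_add, Prod.snd_add] <;> ring
  zero_smul m := by
    rw [smulB_def]; simp

instance towerB : IsScalarTower k (TrivSqZeroExt k (k × k)) (k × k × k) where
  smul_assoc c b m := by
    simp only [smulB_def, fst_smul, snd_smul, Prod.smul_fst, Prod.smul_snd, smul_eq_mul,
      Prod.smul_mk]
    refine Prod.ext ?_ (Prod.ext ?_ ?_) <;> simp only [] <;> ring

end Aux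

/-- Let k be a field of characteristic zero and A = k[X, Y]/(XY), the coordinate ring of two affine
lines crossing in a point. The differential d : A → Ω¹_{A/k} of the naive de Rham complex is not
surjective, so the naive H^1 of this singular curve does not vanish although one expects trivial
cohomology; this is the example motivating the h-topology definition. -/
theorem result (k : Type u) [Field k] [CharZero k] :
    ¬ Function.Surjective (KaehlerDifferential.D k (MvPolynomial (Fin 2) k ⧸ Ideal.span {(MvPolynomial.X 0 * MvPolynomial.X 1 : MvPolynomial (Fin 2) k)})) := by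
  classical
  intro hsurj
  set I : Ideal (MvPolynomial (Fin 2) k) :=
    Ideal.span {(MvPolynomial.X 0 * MvPolynomial.X 1 : MvPolynomial (Fin 2) k)} with hI
  let v : Fin 2 → TrivSqZeroExt k (k × k) :=
    ![TrivSqZeroExt.inr ((1 : k), (0 : k)), TrivSqZeroExt.inr ((0 : k), (1 : k))]
  have hker : ∀ a : MvPolynomial (Fin 2) k, a ∈ I → MvPolynomial.aeval v a = 0 := by
    intro a ha
    have hle : I ≤ RingHom.ker (MvPolynomial.aeval v : MvPolynomial (Fin 2) k →ₐ[k] _) := by
      rw [hI, Ideal.span_le]
      intro z hz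
      rw [Set.mem_singleton_iff] at hz
      subst hz
      simp [v, RingHom.mem_ker]
    exact hle ha
  let ρ : (MvPolynomial (Fin 2) k ⧸ I) →ₐ[k] TrivSqZeroExt k (k × k) :=
    Ideal.Quotient.liftₐ I (MvPolynomial.aeval v) hker
  letI modA : Module (MvPolynomial (Fin 2) k ⧸ I) (k × k × k) :=
    Module.compHom (k × k × k) (ρ : (MvPolynomial (Fin 2) k ⧸ I) →+* TrivSqZeroExt k (k × k))
  have smulA_def : ∀ (a : MvPolynomial (Fin 2) k ⧸ I) (m : k × k × k), a • m = ρ a • m :=
    fun a m => rfl
  haveI towerA : IsScalarTower k (MvPolynomial (Fin 2) k ⧸ I) (k × k × k) :=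
    ⟨fun c a m => by rw [smulA_def, smulA_def, map_smul, smul_assoc]⟩
  -- the linear map L
  let L : TrivSqZeroExt k (k × k) →ₗ[k] (k × k × k) :=
    { toFun := fun b => ((0 : k), b.snd.2, -b.snd.1)
      map_add' := by
        intro a b
        refine Prod.ext ?_ (Prod.ext ?_ ?_) <;> simp <;> ring
      map_smul' := by
        intro c b
        refine Prod.ext ?_ (Prod.ext ?_ ?_) <;> simp }
  have hL : ∀ b, L b = ((0 : k), b.snd.2, -b.snd.1) := fun b => rfl
  let D' : Derivation k (MvPolynomial (Fin 2) k ⧸ I) (k × k × k) :=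
    Derivation.mk' (L.comp ρ.toLinearMap) (by
      intro a b
      show L (ρ (a * b)) = a • L (ρ b) + b • L (ρ a)
      rw [smulA_def, smulA_def, map_mul, hL, hL, hL, smulB_def, smulB_def]
      simp only [TrivSqZeroExt.fst_mul, TrivSqZeroExt.snd_mul, Prod.fst_add, Prod.snd_add,
        Prod.smul_fst, Prod.smul_snd, smul_eq_mul, MulOpposite.smul_eq_mul_unop,
        MulOpposite.unop_op]
      refine Prod.ext ?_ (Prod.ext ?_ ?_) <;> simp only [Prod.fst_add, Prod.snd_add] <;> ring)
  have hD' : ∀ a, D' a = L (ρ a) := fun a => rfl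
  set x : MvPolynomial (Fin 2) k ⧸ I := Ideal.Quotient.mk I (MvPolynomial.X 0) with hx
  set y : MvPolynomial (Fin 2) k ⧸ I := Ideal.Quotient.mk I (MvPolynomial.X 1) with hy
  have hρx : ρ x = TrivSqZeroExt.inr ((1 : k), (0 : k)) := by
    simp [ρ, hx, v]
  have hρy : ρ y = TrivSqZeroExt.inr ((0 : k), (1 : k)) := by
    simp [ρ, hy, v]
  obtain ⟨g, hg⟩ := hsurj (x • KaehlerDifferential.D k _ y)
  have h1 := congrArg D'.liftKaehlerDifferential hg
  rw [Derivation.liftKaehlerDifferential_comp_D, map_smul,
    Derivation.liftKaehlerDifferential_comp_D, hD', hD', smulA_def, hρx, hρy, hL, hL,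
    smulB_def] at h1
  have h2 := congrArg Prod.fst h1
  simp at h2

end Groth.Agent.S19635
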