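import Groth.Statements.S1964
import Mathlib
import Groth.Agent.Lib.helper4.IntegralHenselian

set_option autoImplicit false
universe u
open EtAlg

namespace Groth.Agent.S1964

/-- A domain B integral over a henselian local ring A is itself henselian local, and the structure map A
-> B is local; if the residue field of A is separably closed, so is that of B, and the residue field
extension is purely inseparable. -/
theorem result (A B : Type u) [CommRing A] [HenselianLocalRing A] [CommRing B]
    [IsDomain B] [Algebra A B] [Algebra.IsIntegral A B] :
    ∃ _ : HenselianLocalRing B, IsLocalHom (algebraMap A B) ∧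
      (IsSepClosed (IsLocalRing.ResidueField A) →
        IsSepClosed (IsLocalRing.ResidueField B) ∧
        ∀ _ : IsLocalHom (algebraMap A B),
          letI := (IsLocalRing.ResidueField.map (algebraMap A B)).toAlgebra
          IsPurelyInseparable (IsLocalRing.ResidueField A) (IsLocalRing.ResidueField B)) := by
  obtain ⟨hH, hloc⟩ := Groth.Agent.H4.H4_integral_henselian A B
    (fun e he => Groth.Agent.H4.H4_domain_idem e he)
  refine ⟨hH, hloc, ?_⟩
  intro hsep
  have key : ∀ hl : IsLocalHom (algebraMap A B),
      letI := (IsLocalRing.ResidueField.map (algebraMap A B)).toAlgebra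
      Algebra.IsAlgebraic (IsLocalRing.ResidueField A) (IsLocalRing.ResidueField B) := by
    intro hl
    letI := (IsLocalRing.ResidueField.map (algebraMap A B)).toAlgebra
    haveI : Algebra.IsIntegral (IsLocalRing.ResidueField A) (IsLocalRing.ResidueField B) := by
      constructor
      intro x
      obtain ⟨b, rfl⟩ := IsLocalRing.residue_surjective x
      obtain ⟨p, hp, hpb⟩ := Algebra.IsIntegral.isIntegral (R := A) b
      refine ⟨p.map (IsLocalRing.residue A), hp.map _, ?_⟩
      rw [Polynomial.eval₂_map]
      have : (algebraMap (IsLocalRing.ResidueField A) (IsLocalRing.ResidueField B)).comp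
          (IsLocalRing.residue A) = (IsLocalRing.residue B).comp (algebraMap A B) := rfl
      rw [this, ← Polynomial.hom_eval₂, hpb, map_zero]
    exact Algebra.IsIntegral.isAlgebraic
  constructor
  · letI := (IsLocalRing.ResidueField.map (algebraMap A B)).toAlgebra
    haveI := key hloc
    exact Algebra.IsAlgebraic.isSepClosed (F := IsLocalRing.ResidueField A)
  · intro hl
    letI := (IsLocalRing.ResidueField.map (algebraMap A B)).toAlgebra
    haveI := key hl
    infer_instance

end Groth.Agent.S1964
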