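import Groth.Statements.S19651
import Mathlib

set_option autoImplicit false
universe u v
open AbVar

namespace Groth.Agent.S19651

open Polynomial in
/-- Stated for an arbitrary invariant bilinear form, as the argument there allows. Let k be a field, V a
k-vector space with a bilinear form B and M a linear automorphism of V with B(Mx, My) = B(x, y) for
all x, y. If Q₁ and Q₂ are polynomials such that the reciprocal polynomial of Q₁ (its coefficient
list reversed) is coprime to Q₂, then every vector killed by a power of Q₁(M) is B-orthogonal to
every vector killed by a power of Q₂(M). With Q₁ = Q₂ = Q this says that the generalized kernel of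
Q(M) is totally isotropic whenever Q is coprime to its reciprocal polynomial, which for an
irreducible Q means that Q is not self-reciprocal. (The published statement takes M symplectic and
Q₁, Q₂ irreducible factors of the characteristic polynomial, with Q not self-reciprocal in the first
clause; its second clause asks Q₁ and Q₂ to be distinct and not reciprocal, which holds as proved
when this is read as saying that Q₂ is not the reciprocal of Q₁, but fails if it only means that
neither is self-reciprocal, as the diagonal matrix with entries 2 and 1/2 preserving the standard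
alternating form on k² shows; the coprimality of the reciprocal of Q₁ with Q₂, which is what the
published proof uses, is imposed here and covers both clauses.) -/
theorem result
    {k : Type u} [Field k] {V : Type v} [AddCommGroup V] [Module k V]
    (B : LinearMap.BilinForm k V) (M : V ≃ₗ[k] V)
    (hM : ∀ x y : V, B (M x) (M y) = B x y)
    (Q₁ Q₂ : k[X]) (h : IsCoprime Q₁.reverse Q₂)
    (x y : V)
    (hx : ∃ n : ℕ, (Polynomial.aeval (M : V →ₗ[k] V) Q₁ ^ n) x = 0)
    (hy : ∃ n : ℕ, (Polynomial.aeval (M : V →ₗ[k] V) Q₂ ^ n) y = 0) :
    B x y = 0 := by
  classical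
  set T : V →ₗ[k] V := (M : V →ₗ[k] V) with hT
  have hTapply : ∀ v, T v = M v := fun v => rfl
  -- invariance under powers
  have L0 : ∀ (n : ℕ) (a b : V), B ((T ^ n) a) ((T ^ n) b) = B a b := by
    intro n
    induction n with
    | zero => intro a b; simp
    | succ n ih =>
      intro a b
      rw [pow_succ, Module.End.mul_apply, Module.End.mul_apply, ih, hTapply, hTapply, hM]
  -- adjoint of a polynomial in T against a shift
  have L1 : ∀ (N : ℕ) (f : k[X]), f.natDegree ≤ N → ∀ a w : V,
      B (Polynomial.aeval T f a) ((T ^ N) w) = B a (Polynomial.aeval T (Polynomial.reflect N f) w) := by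
    intro N f hf
    refine Polynomial.induction_with_natDegree_le
      (fun f => ∀ a w : V, B (Polynomial.aeval T f a) ((T ^ N) w) =
        B a (Polynomial.aeval T (Polynomial.reflect N f) w)) N ?_ ?_ ?_ f hf
    · intro a w
      simp
    · intro n r _ hn a w
      rw [Polynomial.reflect_C_mul_X_pow, Polynomial.revAt_le hn]
      simp only [map_mul, Polynomial.aeval_C, map_pow, Polynomial.aeval_X, Module.End.mul_apply,
        Module.algebraMap_end_apply, map_smul, LinearMap.smul_apply, smul_eq_mul]
      have : (T ^ N) w = (T ^ n) ((T ^ (N - n)) w) := by
        rw [← Module.End.mul_apply, ← pow_add, Nat.add_sub_cancel' hn]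
      rw [this, L0]
    · intro f g _ _ hf hg a w
      rw [Polynomial.reflect_add, map_add, map_add, LinearMap.add_apply, map_add,
        LinearMap.add_apply, LinearMap.add_apply, map_add, hf, hg]
  set N := Q₁.natDegree with hN
  set R := Q₁.reverse with hR
  have hRdef : R = Polynomial.reflect N Q₁ := rfl
  -- iterate
  have L2 : ∀ (n : ℕ) (a w : V),
      B ((Polynomial.aeval T Q₁ ^ n) a) ((T ^ (N * n)) w) = B a ((Polynomial.aeval T R ^ n) w) := by
    intro n
    induction n with
    | zero => intro a w; simp
    | succ n ih =>
      intro a w
      have e1 : (Polynomial.aeval T Q₁ ^ (n + 1)) a =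
          Polynomial.aeval T Q₁ ((Polynomial.aeval T Q₁ ^ n) a) := by
        rw [pow_succ', Module.End.mul_apply]
      have e2 : (T ^ (N * (n + 1))) w = (T ^ N) ((T ^ (N * n)) w) := by
        rw [← Module.End.mul_apply, ← pow_add]
        congr 2
        ring
      rw [e1, e2, L1 N Q₁ le_rfl, ← hRdef]
      have e3 : Polynomial.aeval T R ((T ^ (N * n)) w) = (T ^ (N * n)) (Polynomial.aeval T R w) := by
        have hc : Polynomial.aeval T R * T ^ (N * n) = T ^ (N * n) * Polynomial.aeval T R := by
          have h1 : T ^ (N * n) = Polynomial.aeval T (Polynomial.X ^ (N * n) : k[X]) := by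
            rw [map_pow, Polynomial.aeval_X]
          rw [h1, ← map_mul, ← map_mul, mul_comm]
        rw [← Module.End.mul_apply, hc, Module.End.mul_apply]
      rw [e3, ih, pow_succ, Module.End.mul_apply]
  obtain ⟨n, hn⟩ := hx
  obtain ⟨m, hm⟩ := hy
  -- coprimality of powers
  obtain ⟨a, c, hac⟩ := (h.pow (m := n) (n := m))
  have hy' : (Polynomial.aeval T R ^ n) (Polynomial.aeval T a y) = y := by
    have h1 := congrArg (fun P => Polynomial.aeval T P y) hac
    simp only [map_add, map_mul, map_pow, map_one, LinearMap.add_apply, Module.End.mul_apply,
      Module.End.one_apply] at h1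
    rw [hm, map_zero, add_zero] at h1
    have hc : Polynomial.aeval T a * Polynomial.aeval T R ^ n =
        Polynomial.aeval T R ^ n * Polynomial.aeval T a := by
      rw [← map_pow, ← map_mul, ← map_mul, mul_comm]
    rw [← Module.End.mul_apply, ← hc, Module.End.mul_apply]
    exact h1
  rw [← hy', ← L2 n x, hn]
  simp

end Groth.Agent.S19651
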