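import Groth.Statements.S19652
import Mathlib

set_option autoImplicit false
universe u v
open AbVar

namespace Groth.Agent.S19652

open Polynomial in
/-- Stated for an arbitrary invariant nondegenerate bilinear form, as the argument there allows. Let k
be a field, V a finite-dimensional k-vector space with a nondegenerate bilinear form B and M a
linear automorphism of V with B(Mx, My) = B(x, y) for all x, y. If Q is a polynomial associated to
its own reciprocal polynomial (its coefficient list reversed), then B restricted to the generalized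
kernel of Q(M), the union of the kernels of the powers Q(M)^n, is nondegenerate. (The published
statement takes M symplectic and Q a self-reciprocal divisor of the characteristic polynomial;
divisibility plays no role and is not assumed.) -/
theorem result
    {k : Type u} [Field k] {V : Type v} [AddCommGroup V] [Module k V] [FiniteDimensional k V]
    (B : LinearMap.BilinForm k V) (hB : B.Nondegenerate) (M : V ≃ₗ[k] V)
    (hM : ∀ x y : V, B (M x) (M y) = B x y)
    (Q : k[X]) (hQ : Associated Q Q.reverse) :
    (B.restrict (⨆ n : ℕ, LinearMap.ker (Polynomial.aeval (M : V →ₗ[k] V) Q ^ n))).Nondegenerate := by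
  classical
  set f : Module.End k V := (M : V →ₗ[k] V) with hf
  have hM' : ∀ x y, B (f x) (f y) = B x y := fun x y => hM x y
  have hMpow : ∀ (i : ℕ) x y, B ((f ^ i) x) ((f ^ i) y) = B x y := by
    intro i
    induction i with
    | zero => intro x y; simp
    | succ i ih =>
      intro x y
      rw [pow_succ, Module.End.mul_apply, Module.End.mul_apply, ih, hM']
  obtain ⟨N, hN⟩ : ∃ N, N = Q.natDegree := ⟨_, rfl⟩
  set g : Module.End k V := Polynomial.aeval f Q with hg
  obtain ⟨u, hu⟩ := hQ
  obtain ⟨c, hc, hcu⟩ : ∃ c : k, c ≠ 0 ∧ (u : k[X]) = Polynomial.C c := by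
    obtain ⟨r, hr, hr'⟩ := Polynomial.isUnit_iff.1 u.isUnit
    exact ⟨r, hr.ne_zero, hr'.symm⟩
  have J0 : ∀ x y, B (g x) ((f ^ N) y) = B x ((Polynomial.aeval f Q.reverse) y) := by
    intro x y
    have e1 : g = ∑ i ∈ Finset.range (N + 1), Q.coeff i • f ^ i := by
      rw [hg, hN, Polynomial.aeval_eq_sum_range]
    have e2 : Polynomial.aeval f Q.reverse
        = ∑ i ∈ Finset.range (N + 1), Q.reverse.coeff i • f ^ i := by
      have hlt : Q.reverse.natDegree < N + 1 := by
        rw [hN]; exact Nat.lt_succ_of_le (Polynomial.reverse_natDegree_le Q)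
      rw [Polynomial.aeval_eq_sum_range' hlt]
    have L : B (g x) ((f ^ N) y)
        = ∑ i ∈ Finset.range (N + 1), Q.coeff i • B ((f ^ i) x) ((f ^ N) y) := by
      rw [e1, LinearMap.sum_apply, map_sum, LinearMap.sum_apply]
      refine Finset.sum_congr rfl fun i _ => ?_
      rw [LinearMap.smul_apply, map_smul, LinearMap.smul_apply]
    have Rr : B x ((Polynomial.aeval f Q.reverse) y)
        = ∑ i ∈ Finset.range (N + 1), Q.reverse.coeff i • B x ((f ^ i) y) := by
      rw [e2, LinearMap.sum_apply, map_sum]
      refine Finset.sum_congr rfl fun i _ => ?_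
      rw [LinearMap.smul_apply, map_smul]
    have hterm : ∀ i ∈ Finset.range (N + 1), Q.coeff i • B ((f ^ i) x) ((f ^ N) y)
        = Q.reverse.coeff (N + 1 - 1 - i) • B x ((f ^ (N + 1 - 1 - i)) y) := by
      intro i hi
      have hi' : i ≤ N := Nat.lt_succ_iff.1 (Finset.mem_range.1 hi)
      have h1 : N + 1 - 1 - i = N - i := by omega
      rw [h1, Polynomial.coeff_reverse, ← hN, Polynomial.revAt_le (Nat.sub_le N i),
        Nat.sub_sub_self hi']
      congr 1
      have h2 : f ^ N = f ^ i * f ^ (N - i) := by rw [← pow_add]; congr 1; omega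
      rw [h2, Module.End.mul_apply, hMpow]
    have hrefl := Finset.sum_range_reflect
      (fun i => Q.reverse.coeff i • B x ((f ^ i) y)) (N + 1)
    rw [L, Rr, ← hrefl]
    exact Finset.sum_congr rfl hterm
  have J : ∀ x y, B (g x) ((f ^ N) y) = c * B x (g y) := by
    intro x y
    rw [J0, ← hu, hcu, map_mul, Polynomial.aeval_C, Module.End.mul_apply,
      Module.algebraMap_end_apply, ← hg, map_smul, map_smul, smul_eq_mul]
  have hcomm : ∀ j : ℕ, g * f ^ j = f ^ j * g := by
    intro j
    have h1 : f ^ j = Polynomial.aeval f (Polynomial.X ^ j : k[X]) := by simp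
    rw [h1, hg, ← map_mul, ← map_mul, mul_comm]
  have Jn : ∀ n : ℕ, ∀ x y, B ((g ^ n) x) ((f ^ (N * n)) y) = c ^ n * B x ((g ^ n) y) := by
    intro n
    induction n with
    | zero => intro x y; simp
    | succ n ih =>
      intro x y
      have h1 : f ^ (N * (n + 1)) = f ^ N * f ^ (N * n) := by
        rw [← pow_add]; congr 1; ring
      have h2 : g ((f ^ (N * n)) y) = (f ^ (N * n)) (g y) := by
        rw [← Module.End.mul_apply, hcomm, Module.End.mul_apply]
      have h3 : (g ^ (n + 1)) x = g ((g ^ n) x) := by rw [pow_succ', Module.End.mul_apply]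
      have h4 : (g ^ n) (g y) = (g ^ (n + 1)) y := by rw [pow_succ, Module.End.mul_apply]
      rw [h3, h1, Module.End.mul_apply, J, h2, ih, h4, pow_succ]
      ring
  have hinj : ∀ j : ℕ, Function.Injective (f ^ j) := by
    intro j
    rw [Module.End.coe_pow]
    exact Function.Injective.iterate M.injective j
  have hsurj : ∀ j : ℕ, Function.Surjective (f ^ j) := by
    intro j
    rw [Module.End.coe_pow]
    exact Function.Surjective.iterate M.surjective j
  have hi : ∀ (n : ℕ) (w z : V), (g ^ n) w = 0 → B w ((g ^ n) z) = 0 := by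
    intro n w z hw
    have h := Jn n w z
    rw [hw, map_zero, LinearMap.zero_apply] at h
    rcases mul_eq_zero.1 h.symm with h0 | h0
    · exact absurd h0 (pow_ne_zero n hc)
    · exact h0
  have hii : ∀ (n : ℕ) (w z : V), (g ^ n) w = 0 → B ((g ^ n) z) w = 0 := by
    intro n w z hw
    obtain ⟨w', hw'⟩ := hsurj (N * n) w
    have hc2 : g ^ n * f ^ (N * n) = f ^ (N * n) * g ^ n :=
      (Commute.pow_left (hcomm (N * n)) n).eq
    have hw'0 : (g ^ n) w' = 0 := by
      apply hinj (N * n)
      rw [map_zero, ← Module.End.mul_apply, ← hc2, Module.End.mul_apply, hw', hw]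
    rw [← hw', Jn, hw'0, map_zero, mul_zero]
  obtain ⟨n, hn, hW⟩ := ((LinearMap.eventually_isCompl_ker_pow_range_pow g).and
      (LinearMap.eventually_iSup_ker_pow_eq g)).exists
  rw [hW]
  refine ⟨?_, ?_⟩
  · intro x hx
    have hx0 : (g ^ n) (x : V) = 0 := LinearMap.mem_ker.1 x.2
    have h0 : (x : V) = 0 := by
      apply hB.1
      intro v
      have hv : v ∈ LinearMap.ker (g ^ n) ⊔ LinearMap.range (g ^ n) := by
        rw [hn.sup_eq_top]; trivial
      obtain ⟨a, ha, r, hr, rfl⟩ := Submodule.mem_sup.1 hv
      obtain ⟨z, rfl⟩ := hr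
      rw [map_add, hi n x z hx0, add_zero]
      exact hx ⟨a, ha⟩
    exact Subtype.ext h0
  · intro y hy
    have hy0 : (g ^ n) (y : V) = 0 := LinearMap.mem_ker.1 y.2
    have h0 : (y : V) = 0 := by
      apply hB.2
      intro v
      have hv : v ∈ LinearMap.ker (g ^ n) ⊔ LinearMap.range (g ^ n) := by
        rw [hn.sup_eq_top]; trivial
      obtain ⟨a, ha, r, hr, rfl⟩ := Submodule.mem_sup.1 hv
      obtain ⟨z, rfl⟩ := hr
      rw [map_add, LinearMap.add_apply, hii n y z hy0, add_zero]
      exact hy ⟨a, ha⟩
    exact Subtype.ext h0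

end Groth.Agent.S19652
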