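import Groth.Statements.S1966
import Mathlib
import Groth.Agent.Lib.helper5.HenselNil

set_option autoImplicit false
universe u
open EtAlg

namespace Groth.Agent.S1966

/-- Towers indexed by the natural numbers: let (A_k) be rings with surjective transition maps A_{k+1} ->
A_k whose kernels consist of nilpotent elements, and let A be a ring with compatible projections p_k
: A -> A_k identifying A with the set of compatible sequences (p is jointly injective and every
compatible sequence comes from an element of A). Then for every k the pair (A, ker p_k) is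
henselian. -/
theorem result (A : Type u) [CommRing A] (As : ℕ → Type u) [∀ k, CommRing (As k)]
    (t : ∀ k, As (k + 1) →+* As k) (ht : ∀ k, Function.Surjective (t k))
    (hnil : ∀ k (x : As (k + 1)), t k x = 0 → IsNilpotent x)
    (p : ∀ k, A →+* As k) (hp : ∀ k, (t k).comp (p (k + 1)) = p k)
    (hinj : ∀ a b : A, (∀ k, p k a = p k b) → a = b)
    (hsurj : ∀ x : ∀ k, As k, (∀ k, t k (x (k + 1)) = x k) → ∃ a : A, ∀ k, p k a = x k) (k : ℕ) :
    HenselianRing A (RingHom.ker (p k)) := by
  classical
  have hpt : ∀ m (a : A), t m (p (m + 1) a) = p m a := fun m a => RingHom.congr_fun (hp m) a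
  have Z : ∀ j m (a : A), p (m + j) a = 0 → p m a = 0 := by
    intro j
    induction j with
    | zero => intro m a h; exact h
    | succ j ih =>
      intro m a h
      apply ih m a
      rw [← hpt (m + j) a]
      rw [show p (m + j + 1) a = 0 from h, map_zero]
  have Nn : ∀ j m (a : A), p m a = 0 → IsNilpotent (p (m + j) a) := by
    intro j
    induction j with
    | zero =>
      intro m a h
      rw [show p (m + 0) a = p m a from rfl, h]
      exact IsNilpotent.zero
    | succ j ih =>
      intro m a h
      obtain ⟨n, hn⟩ := ih m a h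
      have h1 : t (m + j) ((p (m + j + 1) a) ^ n) = 0 := by
        rw [map_pow, hpt, hn]
      obtain ⟨n', hn'⟩ := hnil (m + j) _ h1
      exact ⟨n * n', by rw [pow_mul]; exact hn'⟩
  have hNil : ∀ (a : A), p k a = 0 → ∀ m, IsNilpotent (p m a) := by
    intro a ha m
    rcases le_total k m with hkm | hmk
    · obtain ⟨j, rfl⟩ := Nat.exists_eq_add_of_le hkm
      exact Nn j k a ha
    · obtain ⟨j, hj⟩ := Nat.exists_eq_add_of_le hmk
      rw [hj] at ha
      rw [Z j m a ha]; exact IsNilpotent.zero
  refine ⟨?_, ?_⟩
  · intro x hx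
    rw [Ideal.mem_jacobson_bot]
    intro y
    have hx0 : p k x = 0 := RingHom.mem_ker.1 hx
    have hunit : ∀ m, IsUnit (p m (x * y + 1)) := by
      intro m
      rw [map_add, map_mul, map_one]
      apply IsNilpotent.isUnit_add_one
      exact mem_nilradical.1 ((nilradical _).mul_mem_right _ (mem_nilradical.2 (hNil x hx0 m)))
    choose v hv using fun m => isUnit_iff_exists_inv.1 (hunit m)
    obtain ⟨w, hw⟩ := hsurj v (by
      intro m
      have h1 : p m (x * y + 1) * t m (v (m + 1)) = 1 := by
        rw [← hpt, ← map_mul, hv, map_one]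
      have h2 := hv m
      calc t m (v (m + 1)) = t m (v (m + 1)) * (p m (x * y + 1) * v m) := by
            rw [h2, _root_.mul_one]
        _ = (p m (x * y + 1) * t m (v (m + 1))) * v m := by ring
        _ = v m := by rw [h1, _root_.one_mul])
    refine isUnit_iff_exists_inv.2 ⟨w, hinj _ _ fun m => ?_⟩
    rw [map_mul, hw, hv, map_one]
  · intro f hf a₀ h₁ h₂
    have h₁0 : p k (f.eval a₀) = 0 := RingHom.mem_ker.1 h₁
    obtain ⟨y, hy⟩ := h₂.exists_right_inv
    obtain ⟨y', rfl⟩ := Ideal.Quotient.mk_surjective y
    have hy1 : f.derivative.eval a₀ * y' - 1 ∈ RingHom.ker (p k) := by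
      rw [← Ideal.Quotient.eq, map_mul, hy, map_one]
    have hy0 : p k (f.derivative.eval a₀ * y' - 1) = 0 := RingHom.mem_ker.1 hy1
    have hud : ∀ m, IsUnit ((f.map (p m)).derivative.eval (p m a₀)) := by
      intro m
      rw [Polynomial.derivative_map, Polynomial.eval_map_apply]
      have hn := hNil _ hy0 m
      rw [map_sub, map_mul, map_one] at hn
      have hu1 : IsUnit (p m (f.derivative.eval a₀) * p m y') := by
        have := hn.isUnit_add_one
        rw [sub_add_cancel] at this
        exact this
      exact isUnit_of_mul_isUnit_left hu1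
    have hnl : ∀ m, IsNilpotent ((f.map (p m)).eval (p m a₀)) := by
      intro m
      rw [Polynomial.eval_map_apply]
      exact hNil _ h₁0 m
    have hex : ∀ m, ∃ r : As m, (f.map (p m)).eval r = 0 ∧ IsNilpotent (r - p m a₀) := by
      intro m
      obtain ⟨N, hN⟩ := hnl m
      obtain ⟨r, hr, c, hc⟩ := H5HN.newton (f.map (p m)) N (p m a₀) hN (hud m)
      refine ⟨r, hr, ?_⟩
      rw [hc]
      exact mem_nilradical.1 ((nilradical _).mul_mem_left _ (mem_nilradical.2 (hnl m)))
    choose s hsroot hsnil using hex
    have huniq : ∀ m (r r' : As m), (f.map (p m)).eval r = 0 → IsNilpotent (r - p m a₀) →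
        (f.map (p m)).eval r' = 0 → IsNilpotent (r' - p m a₀) → r' = r := by
      intro m r r' hr hrn hr' hrn'
      apply H5HN.root_unique_nil (f.map (p m)) hr hr'
      · have : r' - r = (r' - p m a₀) - (r - p m a₀) := by ring
        rw [this]
        exact mem_nilradical.1
          ((nilradical (As m)).sub_mem (mem_nilradical.2 hrn') (mem_nilradical.2 hrn))
      · exact H5HN.isUnit_eval_of_nil _ (hud m) hrn
    have hcompat : ∀ m, t m (s (m + 1)) = s m := by
      intro m
      have hpm : p m = (t m).comp (p (m + 1)) := (hp m).symm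
      apply huniq m (s m) _ (hsroot m) (hsnil m)
      · rw [hpm, ← Polynomial.map_map, Polynomial.eval_map_apply, hsroot (m + 1), map_zero]
      · rw [← hpt m a₀, ← map_sub]
        exact (hsnil (m + 1)).map (t m)
    obtain ⟨a, ha⟩ := hsurj s hcompat
    refine ⟨a, ?_, ?_⟩
    · show f.eval a = 0
      apply hinj
      intro m
      rw [← Polynomial.eval_map_apply, ha, hsroot, map_zero]
    · rw [RingHom.mem_ker, map_sub, ha, sub_eq_zero]
      refine huniq k (p k a₀) (s k) ?_ ?_ (hsroot k) (hsnil k)
      · rw [Polynomial.eval_map_apply, h₁0]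
      · rw [sub_self]; exact IsNilpotent.zero

end Groth.Agent.S1966
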