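import Groth.Statements.S19660
import Mathlib

set_option autoImplicit false
universe u v
open AbVar

namespace Groth.Agent.S19660

/-- The text applies this to the Frobenius acting on the points of prime order of a principally
polarised abelian variety over a finite field with q elements and to their Weil pairing. Let k be a
field, V a finite-dimensional k-vector space with a nondegenerate bilinear form B, q a nonzero
element of k and M a linear automorphism of V with B(Mx, My) = q·B(x, y) for all x, y. Write V₁ and
V_q for the generalized eigenspaces of M at 1 and at q. Then every vector of V₁ that is B-orthogonal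
to all of V_q is zero, every vector of V_q that is B-orthogonal (on the right) to all of V₁ is zero,
and when q ≠ 1 the form B vanishes identically on V₁ × V₁ and on V_q × V_q. (The text asserts this
as the evident adaptation, to a form scaled by q, of the orthogonality and nondegeneracy facts for
generalized kernels of an automorphism preserving a form; the abstract statement is recorded here,
the application to the Weil pairing needing that pairing's formalism.) -/
theorem result
    {k : Type u} [Field k] {V : Type v} [AddCommGroup V] [Module k V] [FiniteDimensional k V]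
    (B : LinearMap.BilinForm k V) (hB : B.Nondegenerate) (q : k) (hq : q ≠ 0)
    (M : V ≃ₗ[k] V) (hM : ∀ x y : V, B (M x) (M y) = q * B x y) :
    (∀ x ∈ Module.End.maxGenEigenspace (M : Module.End k V) 1,
        (∀ y ∈ Module.End.maxGenEigenspace (M : Module.End k V) q, B x y = 0) → x = 0) ∧
      (∀ y ∈ Module.End.maxGenEigenspace (M : Module.End k V) q,
        (∀ x ∈ Module.End.maxGenEigenspace (M : Module.End k V) 1, B x y = 0) → y = 0) ∧
      (q ≠ 1 → ∀ x ∈ Module.End.maxGenEigenspace (M : Module.End k V) 1,
        ∀ x' ∈ Module.End.maxGenEigenspace (M : Module.End k V) 1, B x x' = 0) ∧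
      (q ≠ 1 → ∀ y ∈ Module.End.maxGenEigenspace (M : Module.End k V) q,
        ∀ y' ∈ Module.End.maxGenEigenspace (M : Module.End k V) q, B y y' = 0) := by
  classical
  set f : Module.End k V := (M : Module.End k V) with hf
  have hM' : ∀ x y, B (f x) (f y) = q * B x y := fun x y => hM x y
  have key : ∀ (μ ν : k), μ * ν ≠ q → ∀ s m n : ℕ, m + n = s → ∀ x y : V,
      ((f - μ • (1 : Module.End k V)) ^ m) x = 0 →
      ((f - ν • (1 : Module.End k V)) ^ n) y = 0 → B x y = 0 := by
    intro μ ν hμν s
    induction s with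
    | zero =>
      intro m n hmn x y hx hy
      have hm : m = 0 := by omega
      subst hm
      rw [pow_zero, Module.End.one_apply] at hx
      rw [hx, map_zero, LinearMap.zero_apply]
    | succ s ih =>
      intro m n hmn x y hx hy
      rcases Nat.eq_zero_or_pos m with hm | hm
      · subst hm
        rw [pow_zero, Module.End.one_apply] at hx
        rw [hx, map_zero, LinearMap.zero_apply]
      rcases Nat.eq_zero_or_pos n with hn | hn
      · subst hn
        rw [pow_zero, Module.End.one_apply] at hy
        rw [hy, map_zero]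
      obtain ⟨m', rfl⟩ : ∃ m', m = m' + 1 := ⟨m - 1, by omega⟩
      obtain ⟨n', rfl⟩ : ∃ n', n = n' + 1 := ⟨n - 1, by omega⟩
      obtain ⟨x1, hx1⟩ : ∃ x1, x1 = (f - μ • (1 : Module.End k V)) x := ⟨_, rfl⟩
      obtain ⟨y1, hy1⟩ : ∃ y1, y1 = (f - ν • (1 : Module.End k V)) y := ⟨_, rfl⟩
      have hx1' : ((f - μ • (1 : Module.End k V)) ^ m') x1 = 0 := by
        rw [hx1, ← Module.End.mul_apply, ← pow_succ]; exact hx
      have hy1' : ((f - ν • (1 : Module.End k V)) ^ (n' + 1)) y1 = 0 := by
        rw [hy1, ← Module.End.mul_apply, ← pow_succ, pow_succ', Module.End.mul_apply, hy, map_zero]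
      have hy1'' : ((f - ν • (1 : Module.End k V)) ^ n') y1 = 0 := by
        rw [hy1, ← Module.End.mul_apply, ← pow_succ]; exact hy
      have e1 : B x1 y = 0 := ih m' (n' + 1) (by omega) x1 y hx1' hy
      have e2 : B x y1 = 0 := ih (m' + 1) n' (by omega) x y1 hx hy1''
      have e3 : B x1 y1 = 0 := ih m' (n' + 1) (by omega) x1 y1 hx1' hy1'
      have fx : f x = μ • x + x1 := by
        rw [hx1, LinearMap.sub_apply, LinearMap.smul_apply, Module.End.one_apply]; abel
      have fy : f y = ν • y + y1 := by
        rw [hy1, LinearMap.sub_apply, LinearMap.smul_apply, Module.End.one_apply]; abel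
      have h := hM' x y
      have h' : B (μ • x + x1) (ν • y + y1)
          = μ * ν * B x y + μ * B x y1 + ν * B x1 y + B x1 y1 := by
        simp only [map_add, map_smul, LinearMap.add_apply, LinearMap.smul_apply, smul_eq_mul]
        ring
      rw [fx, fy, h', e1, e2, e3] at h
      have : (μ * ν - q) * B x y = 0 := by linear_combination h
      rcases mul_eq_zero.1 this with h0 | h0
      · exact absurd (sub_eq_zero.1 h0) hμν
      · exact h0
  obtain ⟨g1, hg1d⟩ : ∃ g1 : Module.End k V, g1 = f - (1 : k) • (1 : Module.End k V) := ⟨_, rfl⟩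
  obtain ⟨gq, hgqd⟩ : ∃ gq : Module.End k V, gq = f - q • (1 : Module.End k V) := ⟨_, rfl⟩
  have hg1 : ∀ x, g1 x = f x - x := fun x => by
    rw [hg1d, LinearMap.sub_apply, LinearMap.smul_apply, Module.End.one_apply, one_smul]
  have hgq : ∀ x, gq x = f x - q • x := fun x => by
    rw [hgqd, LinearMap.sub_apply, LinearMap.smul_apply, Module.End.one_apply]
  have c1 : f * g1 = g1 * f := by rw [hg1d]; simp [mul_sub, sub_mul]
  have cq : f * gq = gq * f := by rw [hgqd]; simp [mul_sub, sub_mul]
  have c1n : ∀ n z, f ((g1 ^ n) z) = (g1 ^ n) (f z) := fun n z => by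
    have h : Commute f (g1 ^ n) := Commute.pow_right c1 n
    have := congrArg (fun e : Module.End k V => e z) h.eq
    simpa [Module.End.mul_apply] using this
  have cqn : ∀ n z, f ((gq ^ n) z) = (gq ^ n) (f z) := fun n z => by
    have h : Commute f (gq ^ n) := Commute.pow_right cq n
    have := congrArg (fun e : Module.End k V => e z) h.eq
    simpa [Module.End.mul_apply] using this
  have I1b : ∀ x w, B x (gq w) = -B (g1 x) (f w) := by
    intro x w
    rw [hgq, hg1]
    simp only [map_sub, map_smul, LinearMap.sub_apply, smul_eq_mul]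
    rw [hM']; ring
  have I1 : ∀ n : ℕ, ∀ x z : V,
      B x ((gq ^ n) z) = (-1) ^ n * B ((g1 ^ n) x) ((f ^ n) z) := by
    intro n
    induction n with
    | zero => intro x z; simp
    | succ n ih =>
      intro x z
      rw [pow_succ' gq n, Module.End.mul_apply, I1b, cqn, ih (g1 x) (f z),
        ← Module.End.mul_apply (g1 ^ n) g1, ← pow_succ, ← Module.End.mul_apply (f ^ n) f, ← pow_succ]
      ring
  have hqi : q⁻¹ * q = 1 := inv_mul_cancel₀ hq
  have I2b : ∀ z y, B (g1 z) y = -q⁻¹ * B (f z) (gq y) := by
    intro z y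
    rw [hgq, hg1]
    simp only [map_sub, map_smul, LinearMap.sub_apply, smul_eq_mul]
    rw [hM']
    linear_combination (B z y - B (f z) y) * hqi
  have I2 : ∀ n : ℕ, ∀ z y : V,
      B ((g1 ^ n) z) y = (-q⁻¹) ^ n * B ((f ^ n) z) ((gq ^ n) y) := by
    intro n
    induction n with
    | zero => intro z y; simp
    | succ n ih =>
      intro z y
      rw [pow_succ' g1 n, Module.End.mul_apply, I2b, c1n, ih (f z) (gq y),
        ← Module.End.mul_apply (gq ^ n) gq, ← pow_succ, ← Module.End.mul_apply (f ^ n) f, ← pow_succ]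
      ring
  have hpow_le : ∀ (g : Module.End k V) (m n : ℕ) (x : V), m ≤ n → (g ^ m) x = 0 → (g ^ n) x = 0 := by
    intro g m n x hmn hx
    obtain ⟨d, rfl⟩ := Nat.exists_eq_add_of_le hmn
    rw [add_comm, pow_add, Module.End.mul_apply, hx, map_zero]
  refine ⟨?_, ?_, ?_, ?_⟩
  · intro x hx h
    obtain ⟨m, hm⟩ := (Module.End.mem_maxGenEigenspace f 1 x).1 hx
    rw [← hg1d] at hm
    obtain ⟨n, hn, hmn⟩ := ((LinearMap.eventually_isCompl_ker_pow_range_pow gq).and
      (Filter.eventually_ge_atTop m)).exists
    apply hB.1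
    intro v
    have hv : v ∈ LinearMap.ker (gq ^ n) ⊔ LinearMap.range (gq ^ n) := by
      rw [hn.sup_eq_top]; trivial
    obtain ⟨a, ha, r, hr, rfl⟩ := Submodule.mem_sup.1 hv
    rw [map_add]
    have e1 : B x a = 0 := by
      apply h a
      rw [Module.End.mem_maxGenEigenspace]
      refine ⟨n, ?_⟩
      rw [← hgqd]
      exact LinearMap.mem_ker.1 ha
    obtain ⟨z, rfl⟩ := hr
    have e2 : B x ((gq ^ n) z) = 0 := by
      rw [I1 n x z, hpow_le g1 m n x hmn hm, map_zero, LinearMap.zero_apply, mul_zero]
    rw [e1, e2, add_zero]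
  · intro y hy h
    obtain ⟨m, hm⟩ := (Module.End.mem_maxGenEigenspace f q y).1 hy
    rw [← hgqd] at hm
    obtain ⟨n, hn, hmn⟩ := ((LinearMap.eventually_isCompl_ker_pow_range_pow g1).and
      (Filter.eventually_ge_atTop m)).exists
    apply hB.2
    intro v
    have hv : v ∈ LinearMap.ker (g1 ^ n) ⊔ LinearMap.range (g1 ^ n) := by
      rw [hn.sup_eq_top]; trivial
    obtain ⟨a, ha, r, hr, rfl⟩ := Submodule.mem_sup.1 hv
    rw [map_add, LinearMap.add_apply]
    have e1 : B a y = 0 := by
      apply h a
      rw [Module.End.mem_maxGenEigenspace]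
      refine ⟨n, ?_⟩
      rw [← hg1d]
      exact LinearMap.mem_ker.1 ha
    obtain ⟨z, rfl⟩ := hr
    have e2 : B ((g1 ^ n) z) y = 0 := by
      rw [I2 n z y, hpow_le gq m n y hmn hm, map_zero, mul_zero]
    rw [e1, e2, add_zero]
  · intro hq1 x hx x' hx'
    obtain ⟨m, hm⟩ := (Module.End.mem_maxGenEigenspace f 1 x).1 hx
    obtain ⟨n, hn⟩ := (Module.End.mem_maxGenEigenspace f 1 x').1 hx'
    exact key 1 1 (by rw [one_mul]; exact fun h => hq1 h.symm) (m + n) m n rfl x x' hm hn
  · intro hq1 y hy y' hy'
    obtain ⟨m, hm⟩ := (Module.End.mem_maxGenEigenspace f q y).1 hy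
    obtain ⟨n, hn⟩ := (Module.End.mem_maxGenEigenspace f q y').1 hy'
    refine key q q ?_ (m + n) m n rfl y y' hm hn
    intro h
    apply hq1
    have : q * q = q * 1 := by rw [mul_one]; exact h
    exact mul_left_cancel₀ hq this

end Groth.Agent.S19660
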