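import Groth.Statements.S19856
import Mathlib

set_option autoImplicit false
universe u v
open CAlg

namespace Groth.Agent.S19856

/-- Ring-level form: let O be a discrete valuation ring and G a finite group acting faithfully on O by
ring automorphisms, such that every element of G acts trivially on the residue field of O (that is,
g • a - a lies in the maximal ideal for all a) and such that the order of G is nonzero in the
residue field of O. Then G is cyclic. (The source states this for a finite group of order invertible
in an algebraically closed field k acting faithfully on a smooth connected k-variety and the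
subgroup of elements fixing pointwise a codimension-one irreducible component of the ramification
locus, applied to the local ring at the generic point of that component; it is stated here for an
arbitrary discrete valuation ring with a faithful action. The source also shows that this subgroup
is nontrivial; that geometric part is not stated.) -/
theorem result
    (O : Type u) [CommRing O] [IsDomain O] [IsDiscreteValuationRing O]
    (G : Type v) [Group G] [Finite G] [MulSemiringAction G O] [FaithfulSMul G O]
    (htriv : ∀ (g : G) (a : O), g • a - a ∈ IsLocalRing.maximalIdeal O)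
    (hcard : ((Nat.card G : ℕ) : IsLocalRing.ResidueField O) ≠ 0) :
    IsCyclic G := by
  classical
  set M := IsLocalRing.maximalIdeal O with hM
  -- general unipotent lemma
  have unip : ∀ g : G, (∀ a ∈ M, g • a - a ∈ M ^ 2) → ∀ a : O, g • a = a := by
    intro g hg
    have hδM : ∀ y ∈ M, g • y ∈ M := by
      intro y hy
      have h2 : g • y - y ∈ M := htriv g y
      have : g • y = (g • y - y) + y := by ring
      rw [this]
      exact M.add_mem h2 hy
    have h3 : ∀ j : ℕ, ∀ a ∈ M ^ j, g • a - a ∈ M ^ (j + 1) := by
      intro j
      induction j with
      | zero =>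
        intro a _
        simpa using htriv g a
      | succ j ih =>
        intro a ha
        rw [pow_succ] at ha
        refine Submodule.mul_induction_on ha ?_ ?_
        · intro x hx y hy
          have e : g • (x * y) - x * y = (g • x - x) * (g • y) + x * (g • y - y) := by
            rw [smul_mul']; ring
          rw [e]
          refine Ideal.add_mem _ ?_ ?_
          · rw [pow_succ (M) (j + 1)]
            exact Ideal.mul_mem_mul (ih x hx) (hδM y hy)
          · have : M ^ (j + 1 + 1) = M ^ j * M ^ 2 := by rw [← pow_add]
            rw [this]
            exact Ideal.mul_mem_mul hx (hg y hy)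
        · intro x y hx hy
          have e : g • (x + y) - (x + y) = (g • x - x) + (g • y - y) := by
            rw [smul_add]; ring
          rw [e]
          exact Ideal.add_mem _ hx hy
    set n := orderOf g with hn
    have hnpos : 0 < n := orderOf_pos g
    have hnA : IsUnit ((n : ℕ) : O) := by
      by_contra hnu
      have hmem : ((n : ℕ) : O) ∈ M := hnu
      have h0 : ((n : ℕ) : IsLocalRing.ResidueField O) = 0 := by
        have := (IsLocalRing.residue_eq_zero_iff ((n : ℕ) : O)).2 hmem
        simpa using this
      obtain ⟨m, hm⟩ := orderOf_dvd_natCard g
      apply hcard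
      rw [hm, Nat.cast_mul, h0, zero_mul]
    have h5 : ∀ j : ℕ, ∀ a : O, g • a - a ∈ M ^ j := by
      intro j
      induction j with
      | zero => intro a; simp
      | succ j ih =>
        have hdd : ∀ a : O, g • (g • a - a) - (g • a - a) ∈ M ^ (j + 1) := fun a => h3 j _ (ih a)
        have key : ∀ i : ℕ, ∀ a : O, g ^ i • a - a - (i : O) * (g • a - a) ∈ M ^ (j + 1) := by
          intro i
          induction i with
          | zero => intro a; simp
          | succ i ihi =>
            intro a
            have e : g ^ (i + 1) • a - a - ((i + 1 : ℕ) : O) * (g • a - a)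
                = (g ^ i • a - a - (i : O) * (g • a - a))
                  + ((g ^ i • (g • a - a) - (g • a - a) - (i : O) * (g • (g • a - a) - (g • a - a)))
                    + (i : O) * (g • (g • a - a) - (g • a - a))) := by
              rw [pow_succ, mul_smul]
              have : g ^ i • g • a = g ^ i • (g • a - a) + g ^ i • a := by
                rw [← smul_add]; congr 1; ring
              rw [this]; push_cast; ring
            rw [e]
            refine Ideal.add_mem _ (ihi a) (Ideal.add_mem _ (ihi _) ?_)
            exact Ideal.mul_mem_left _ _ (hdd a)
        intro a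
        have h := key n a
        rw [hn, pow_orderOf_eq_one, one_smul, sub_self, zero_sub, neg_mem_iff] at h
        obtain ⟨u, hu⟩ := hnA
        have : g • a - a = (↑u⁻¹ : O) * ((n : O) * (g • a - a)) := by
          rw [← mul_assoc, ← hu, Units.inv_mul, one_mul]
        rw [this]
        exact Ideal.mul_mem_left _ _ h
    have hK : (⨅ i, M ^ i) = ⊥ :=
      Ideal.iInf_pow_eq_bot_of_isLocalRing M (IsLocalRing.maximalIdeal.isMaximal O).ne_top
    intro a
    have : g • a - a ∈ (⨅ i, M ^ i) := by
      rw [Ideal.mem_iInf]; exact fun i => h5 i a
    rw [hK, Ideal.mem_bot, sub_eq_zero] at this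
    exact this
  -- uniformizer
  obtain ⟨π, hπ⟩ := IsDiscreteValuationRing.exists_irreducible O
  have hMπ : M = Ideal.span {π} := hπ.maximalIdeal_eq
  have hπ0 : π ≠ 0 := hπ.ne_zero
  have hπM : π ∈ M := by rw [hMπ]; exact Ideal.mem_span_singleton_self π
  have hex : ∀ g : G, ∃ u : O, g • π = u * π := by
    intro g
    have h1 : g • π ∈ M := by
      have h2 : g • π - π ∈ M := htriv g π
      have : g • π = (g • π - π) + π := by ring
      rw [this]; exact M.add_mem h2 hπM
    rw [hMπ, Ideal.mem_span_singleton'] at h1
    obtain ⟨u, hu⟩ := h1
    exact ⟨u, hu.symm⟩
  choose u hu using hex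
  have hres : ∀ (g : G) (a : O), IsLocalRing.residue O (g • a) = IsLocalRing.residue O a := by
    intro g a
    have := htriv g a
    rw [← sub_eq_zero, ← map_sub]
    exact (IsLocalRing.residue_eq_zero_iff _).2 this
  have hu1 : u 1 = 1 := by
    have := hu 1
    rw [one_smul] at this
    have h2 : (1 : O) * π = u 1 * π := by rw [one_mul]; exact this
    exact (mul_right_cancel₀ hπ0 h2).symm
  have humul : ∀ g h : G, u (g * h) = (g • u h) * u g := by
    intro g h
    have h1 : (g * h) • π = u (g * h) * π := hu (g * h)
    rw [mul_smul, hu h, smul_mul', hu g] at h1
    have h2 : (g • u h * u g) * π = u (g * h) * π := by rw [← h1]; ring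
    exact (mul_right_cancel₀ hπ0 h2).symm
  let χ : G →* IsLocalRing.ResidueField O :=
    { toFun := fun g => IsLocalRing.residue O (u g)
      map_one' := by simp [hu1]
      map_mul' := by
        intro g h
        show IsLocalRing.residue O (u (g * h)) = _
        rw [humul, map_mul, hres, mul_comm] }
  have hker : ∀ g : G, χ g = 1 → g = 1 := by
    intro g hg1
    have h1 : u g - 1 ∈ M := by
      rw [← IsLocalRing.residue_eq_zero_iff, map_sub, map_one, sub_eq_zero]
      exact hg1
    have h2 : g • π - π ∈ M ^ 2 := by
      have : g • π - π = (u g - 1) * π := by rw [hu g]; ring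
      rw [this, pow_two]
      exact Ideal.mul_mem_mul h1 hπM
    have h3 : ∀ a ∈ M, g • a - a ∈ M ^ 2 := by
      intro a ha
      rw [hMπ, Ideal.mem_span_singleton'] at ha
      obtain ⟨b, rfl⟩ := ha
      have e : g • (b * π) - b * π = (g • b - b) * (g • π) + b * (g • π - π) := by
        rw [smul_mul']; ring
      rw [e]
      refine Ideal.add_mem _ ?_ (Ideal.mul_mem_left _ _ h2)
      rw [pow_two]
      refine Ideal.mul_mem_mul (htriv g b) ?_
      have : g • π = (g • π - π) + π := by ring
      rw [this]; exact M.add_mem (htriv g π) hπM
    have h4 := unip g h3
    apply FaithfulSMul.eq_of_smul_eq_smul (α := O)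
    intro a
    rw [h4 a, one_smul]
  have hinj : Function.Injective χ := by
    intro g h hgh
    have : χ (h⁻¹ * g) = 1 := by
      rw [map_mul, hgh, ← map_mul, inv_mul_cancel, map_one]
    have := hker _ this
    exact (inv_mul_eq_one.1 this).symm
  exact isCyclic_of_subgroup_isDomain χ hinj

end Groth.Agent.S19856
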