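import Groth.Statements.S19904
import Mathlib
import Groth.Agent.Lib.helper6.FunPB

set_option autoImplicit false
universe u v
open CategoryTheory
open ArtFun

namespace Groth.Agent.S19904

/-- For functors F, G, G' on Artinian local Λ-algebras with residue field k and morphisms φ : F → G, ψ :
G' → G: if φ is smooth then the base change F ×_G G' → G' (second projection of the fibre product of
functors) is smooth. -/
theorem result {Λ : Type u} {k : Type u} [CommRing Λ] [Field k] [Algebra Λ k]
    [IsNoetherianRing Λ] [Module.Finite Λ k]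
    {F G G' : ArtFun.Art Λ k ⥤ Type v} (φ : F ⟶ G) (ψ : G' ⟶ G) (hφ : ArtFun.IsSmooth φ) :
    ArtFun.IsSmooth (Limits.pullback.snd φ ψ) := by
  classical
  intro B A μ hμ
  rintro ⟨⟨z, g'⟩, hzg⟩
  have hzg' : (Limits.pullback.snd φ ψ).app A z = G'.map μ g' := hzg
  have hcond := Groth.Agent.Lib.helper6.H6_pb_condition φ ψ A z
  obtain ⟨x', hx'⟩ := hφ μ hμ ⟨((Limits.pullback.fst φ ψ).app A z, ψ.app B g'), by
    show φ.app A _ = G.map μ (ψ.app B g')
    rw [hcond, hzg', FunctorToTypes.naturality]⟩
  have hx'1 : F.map μ x' = (Limits.pullback.fst φ ψ).app A z := congrArg (fun t => t.1.1) hx'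
  have hx'2 : φ.app B x' = ψ.app B g' := congrArg (fun t => t.1.2) hx'
  obtain ⟨z', hz'1, hz'2⟩ := Groth.Agent.Lib.helper6.H6_pb_exists φ ψ B x' g' hx'2
  refine ⟨z', ?_⟩
  apply Subtype.ext
  apply Prod.ext
  · show (Limits.pullback φ ψ).map μ z' = z
    apply Groth.Agent.Lib.helper6.H6_pb_ext
    · rw [FunctorToTypes.naturality, hz'1, hx'1]
    · rw [FunctorToTypes.naturality, hz'2, hzg']
  · exact hz'2

end Groth.Agent.S19904
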