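import Groth.Statements.S1996
import Mathlib
import Groth.Agent.Lib.helper6.FlatDescentSrc

set_option autoImplicit false
universe u
open EtAlg

open TensorProduct in
theorem H1_ringHom_flat_of_comp_faithfullyFlat {A B C : Type*} [CommRing A] [CommRing B]
    [CommRing C] (φ : A →+* B) (ψ : B →+* C) (hψ : ψ.FaithfullyFlat) (hc : (ψ.comp φ).Flat) :
    φ.Flat := by
  algebraize [φ, ψ, ψ.comp φ]
  exact Groth.Agent.Lib.helper6.H6_flat_of_flat_of_faithfullyFlat A B C


namespace Groth.Agent.S1996

/-- Let A -> B -> C be ring maps with B -> C faithfully flat. Weak etaleness of A -> C then implies weak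
etaleness of A -> B. -/
theorem result (A B C : Type u) [CommRing A] [CommRing B] [CommRing C] [Algebra A B]
    [Algebra B C] [Algebra A C] [IsScalarTower A B C] [Module.FaithfullyFlat B C] [Algebra.WeaklyEtale A C] :
    Algebra.WeaklyEtale A B := by
  have hflat : Module.Flat A B := Groth.Agent.Lib.helper6.H6_flat_of_flat_of_faithfullyFlat A B C
  refine ⟨hflat, ?_⟩
  have h1 : (Algebra.TensorProduct.lmul' A (S := C)).Flat := Algebra.WeaklyEtale.flat_lmul' A C
  have h2 : (Algebra.TensorProduct.map (IsScalarTower.toAlgHom A B C)
      (IsScalarTower.toAlgHom A B C)).Flat := by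
    apply RingHom.Flat.tensorProductMap
    · change (algebraMap B C).Flat
      rw [RingHom.flat_algebraMap_iff]
      infer_instance
    · change (algebraMap B C).Flat
      rw [RingHom.flat_algebraMap_iff]
      infer_instance
  have h3 := RingHom.Flat.comp h2 h1
  have e : ((Algebra.TensorProduct.lmul' A (S := C)) : TensorProduct A C C →+* C).comp
      ((Algebra.TensorProduct.map (IsScalarTower.toAlgHom A B C)
      (IsScalarTower.toAlgHom A B C)) : TensorProduct A B B →+* TensorProduct A C C) =
      (algebraMap B C).comp ((Algebra.TensorProduct.lmul' A (S := B)) : TensorProduct A B B →+* B) := by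
    ext x
    · simp
    · simp
  have h3' : ((algebraMap B C).comp
      ((Algebra.TensorProduct.lmul' A (S := B)) : TensorProduct A B B →+* B)).Flat := by
    rw [← e]
    exact h3
  refine H1_ringHom_flat_of_comp_faithfullyFlat _ (algebraMap B C) ?_ h3'
  rw [RingHom.faithfullyFlat_algebraMap_iff]
  infer_instance

end Groth.Agent.S1996
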