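import Groth.Statements.S1998
import Mathlib

set_option autoImplicit false
universe u
open EtAlg

namespace Groth.Agent.S1998

/-- Let (A_j, I_j) be a directed system of henselian pairs (ring maps A_j -> A_k for j ≤ k carrying I_j
into I_k). Then the direct limit A of the A_j together with the ideal generated by the images of the
I_j is a henselian pair. -/
theorem result {ι : Type u} [Preorder ι] [IsDirected ι (· ≤ ·)] [Nonempty ι]
    (G : ι → Type u) [∀ i, CommRing (G i)] (f : ∀ i j, i ≤ j → G i →+* G j)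
    [DirectedSystem G fun i j h => f i j h] (I : ∀ i, Ideal (G i))
    (hI : ∀ i j (h : i ≤ j), (I i).map (f i j h) ≤ I j) (hh : ∀ i, HenselianRing (G i) (I i)) :
    HenselianRing (Ring.DirectLimit G fun i j h => f i j h)
      (⨆ i, (I i).map (Ring.DirectLimit.of G (fun i j h => f i j h) i)) := by
  classical
  obtain ⟨φ, hφdef⟩ : ∃ φ : ∀ i, G i →+* Ring.DirectLimit G (fun i j h => f i j h),
      φ = fun i => Ring.DirectLimit.of G (fun i j h => f i j h) i := ⟨_, rfl⟩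
  have hgoal : (⨆ i, (I i).map (Ring.DirectLimit.of G (fun i j h => f i j h) i))
      = ⨆ i, (I i).map (φ i) := by rw [hφdef]
  rw [hgoal]; clear hgoal
  have P0 : ∀ i j k (hij : i ≤ j) (hjk : j ≤ k) (x : G i),
      f j k hjk (f i j hij x) = f i k (hij.trans hjk) x :=
    fun i j k hij hjk x => DirectedSystem.map_map' f hij hjk x
  have P1 : ∀ i j (h : i ≤ j) (x : G i), φ j (f i j h x) = φ i x := by
    intro i j h x; rw [hφdef]; exact Ring.DirectLimit.of_f h x
  have P2 : ∀ z : Ring.DirectLimit G (fun i j h => f i j h), ∃ i x, φ i x = z := by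
    intro z; rw [hφdef]; exact Ring.DirectLimit.exists_of z
  have P3 : ∀ i (x : G i), φ i x = 0 → ∃ j, ∃ hij : i ≤ j, f i j hij x = 0 := by
    intro i x hx; rw [hφdef] at hx; exact Ring.DirectLimit.of.zero_exact hx
  have P4 : ∀ q : Polynomial (Ring.DirectLimit G (fun i j h => f i j h)),
      ∃ i p, Polynomial.map (φ i) p = q := by
    intro q; rw [hφdef]; exact Ring.DirectLimit.Polynomial.exists_of q
  clear hφdef
  have P5 : ∀ i (x y : G i), φ i x = φ i y → ∃ j, ∃ hij : i ≤ j, f i j hij x = f i j hij y := by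
    intro i x y hxy
    obtain ⟨j, hij, hj⟩ := P3 i (x - y) (by rw [map_sub, hxy, sub_self])
    exact ⟨j, hij, by rw [map_sub] at hj; exact sub_eq_zero.1 hj⟩
  let J : Ideal (Ring.DirectLimit G (fun i j h => f i j h)) :=
    { carrier := {z | ∃ i, ∃ a ∈ I i, φ i a = z}
      zero_mem' := ⟨Classical.arbitrary ι, 0, (I _).zero_mem, map_zero _⟩
      add_mem' := by
        rintro _ _ ⟨i, a, ha, rfl⟩ ⟨j, b, hb, rfl⟩
        obtain ⟨k, hik, hjk⟩ := exists_ge_ge i j
        refine ⟨k, f i k hik a + f j k hjk b,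
          (I k).add_mem (hI i k hik (Ideal.mem_map_of_mem _ ha))
            (hI j k hjk (Ideal.mem_map_of_mem _ hb)), ?_⟩
        rw [map_add, P1, P1]
      smul_mem' := by
        rintro c _ ⟨i, a, ha, rfl⟩
        obtain ⟨j, c', rfl⟩ := P2 c
        obtain ⟨k, hik, hjk⟩ := exists_ge_ge i j
        refine ⟨k, f j k hjk c' * f i k hik a,
          (I k).mul_mem_left _ (hI i k hik (Ideal.mem_map_of_mem _ ha)), ?_⟩
        rw [map_mul, P1, P1, smul_eq_mul] }
  have hmem : ∀ z, z ∈ (⨆ i, (I i).map (φ i)) → ∃ i, ∃ a ∈ I i, φ i a = z := by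
    intro z hz
    have hle : (⨆ i, (I i).map (φ i)) ≤ J :=
      iSup_le fun i => Ideal.map_le_iff_le_comap.2 (fun a ha => ⟨i, a, ha, rfl⟩)
    exact hle hz
  have hmem' : ∀ i, ∀ a ∈ I i, φ i a ∈ (⨆ i, (I i).map (φ i)) := by
    intro i a ha
    exact (le_iSup (fun i => (I i).map (φ i)) i) (Ideal.mem_map_of_mem _ ha)
  have H : ∀ k (z : G k), φ k z ∈ (⨆ i, (I i).map (φ i)) →
      ∃ k', ∃ hk : k ≤ k', f k k' hk z ∈ I k' := by
    intro k z hz
    obtain ⟨i, a, ha, hia⟩ := hmem _ hz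
    obtain ⟨m, him, hkm⟩ := exists_ge_ge i k
    have e : φ m (f i m him a) = φ m (f k m hkm z) := by rw [P1, P1, hia]
    obtain ⟨k', hmk', hk'⟩ := P5 m _ _ e
    rw [P0, P0] at hk'
    refine ⟨k', hkm.trans hmk', ?_⟩
    rw [← hk']
    exact hI i k' _ (Ideal.mem_map_of_mem _ ha)
  refine ⟨?_, ?_⟩
  · intro x hx
    rw [Ideal.mem_jacobson_bot]
    intro y
    obtain ⟨i, a, ha, rfl⟩ := hmem x hx
    obtain ⟨j, b, rfl⟩ := P2 y
    obtain ⟨k, hik, hjk⟩ := exists_ge_ge i j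
    have hak : f i k hik a ∈ I k := hI i k hik (Ideal.mem_map_of_mem _ ha)
    have hu : IsUnit (f i k hik a * f j k hjk b + 1) :=
      Ideal.mem_jacobson_bot.1 ((hh k).jac hak) _
    have := hu.map (φ k)
    rw [map_add, map_mul, map_one, P1, P1] at this
    exact this
  · intro q hq a₀ h₁ h₂
    rcases subsingleton_or_nontrivial (Ring.DirectLimit G fun i j h => f i j h) with hL | hL
    · exact ⟨a₀, Subsingleton.elim _ _, by rw [sub_self]; exact Ideal.zero_mem _⟩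
    obtain ⟨i₁, q₁, hq₁⟩ := P4 q
    have hlift : q ∈ Polynomial.lifts (φ i₁) := by
      rw [Polynomial.mem_lifts]; exact ⟨q₁, hq₁⟩
    obtain ⟨q₂, hq₂, -, hq₂m⟩ := Polynomial.lifts_and_degree_eq_and_monic hlift hq
    obtain ⟨i₂, b₀, hb₀⟩ := P2 a₀
    obtain ⟨y, hy⟩ := h₂.exists_right_inv
    obtain ⟨y', rfl⟩ := Ideal.Quotient.mk_surjective y
    have hy1 : q.derivative.eval a₀ * y' - 1 ∈ (⨆ i, (I i).map (φ i)) := by
      rw [← Ideal.Quotient.eq, map_mul, hy, map_one]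
    obtain ⟨i₄, y₀, hy₀⟩ := P2 y'
    obtain ⟨k₀', h1, h2⟩ := exists_ge_ge i₁ i₂
    obtain ⟨k₀, h3, h4⟩ := exists_ge_ge k₀' i₄
    have hi₁ : i₁ ≤ k₀ := h1.trans h3
    have hi₂ : i₂ ≤ k₀ := h2.trans h3
    obtain ⟨Q, hQ⟩ : ∃ Q, Q = q₂.map (f i₁ k₀ hi₁) := ⟨_, rfl⟩
    obtain ⟨b, hb⟩ : ∃ b, b = f i₂ k₀ hi₂ b₀ := ⟨_, rfl⟩
    obtain ⟨yy, hyy⟩ : ∃ yy, yy = f i₄ k₀ h4 y₀ := ⟨_, rfl⟩
    have hQm : Q.Monic := by rw [hQ]; exact hq₂m.map _
    have hcomp : (φ k₀).comp (f i₁ k₀ hi₁) = φ i₁ := RingHom.ext (fun x => P1 i₁ k₀ hi₁ x)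
    have hQq : Q.map (φ k₀) = q := by
      rw [hQ, Polynomial.map_map, hcomp, hq₂]
    have hba : φ k₀ b = a₀ := by rw [hb, P1, hb₀]
    have hyy' : φ k₀ yy = y' := by rw [hyy, P1, hy₀]
    have hz1 : φ k₀ (Q.eval b) ∈ (⨆ i, (I i).map (φ i)) := by
      rw [← Polynomial.eval_map_apply, hQq, hba]; exact h₁
    have hz2 : φ k₀ (Q.derivative.eval b * yy - 1) ∈ (⨆ i, (I i).map (φ i)) := by
      rw [map_sub, map_mul, map_one, ← Polynomial.eval_map_apply, ← Polynomial.derivative_map,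
        hQq, hba, hyy']
      exact hy1
    obtain ⟨k₁, hk₁, hm₁⟩ := H k₀ _ hz1
    obtain ⟨k₂, hk₂, hm₂⟩ := H k₀ _ hz2
    obtain ⟨k, hk₁k, hk₂k⟩ := exists_ge_ge k₁ k₂
    have hk : k₀ ≤ k := hk₁.trans hk₁k
    have hm₁' : f k₀ k hk (Q.eval b) ∈ I k := by
      have := hI k₁ k hk₁k (Ideal.mem_map_of_mem _ hm₁)
      rw [P0] at this; exact this
    have hm₂' : f k₀ k hk (Q.derivative.eval b * yy - 1) ∈ I k := by
      have := hI k₂ k hk₂k (Ideal.mem_map_of_mem _ hm₂)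
      rw [P0] at this; exact this
    have hroot := (hh k).is_henselian (Q.map (f k₀ k hk)) (hQm.map _) (f k₀ k hk b)
      (by rw [Polynomial.eval_map_apply]; exact hm₁')
      (by
        rw [Polynomial.derivative_map, Polynomial.eval_map_apply]
        rw [map_sub, map_mul, map_one] at hm₂'
        refine isUnit_iff_exists_inv.2 ⟨Ideal.Quotient.mk (I k) (f k₀ k hk yy), ?_⟩
        rw [← map_mul, ← map_one (Ideal.Quotient.mk (I k)), Ideal.Quotient.eq]
        exact hm₂')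
    obtain ⟨r, hr, hrb⟩ := hroot
    have hcomp2 : (φ k).comp (f k₀ k hk) = φ k₀ := RingHom.ext (fun x => P1 k₀ k hk x)
    have hQk : (Q.map (f k₀ k hk)).map (φ k) = q := by
      rw [Polynomial.map_map, hcomp2, hQq]
    refine ⟨φ k r, ?_, ?_⟩
    · show q.eval (φ k r) = 0
      rw [← hQk, Polynomial.eval_map_apply]
      have : (Q.map (f k₀ k hk)).eval r = 0 := hr
      rw [this, map_zero]
    · rw [← hba, ← P1 k₀ k hk b, ← map_sub]
      exact hmem' k _ hrb

end Groth.Agent.S1998
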