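import Groth.Statements.S20018
import Mathlib

set_option autoImplicit false
open CAlg

namespace Groth.Agent.S20018

open PowerSeries in
/-- Product expansion of big Witt vectors: let R be a commutative ring and x ∈ 1 + tR[[t]] a formal
power series with constant term 1. Then x can be written uniquely as an infinite product ∏_{i ≥ 1}
(1 - α_i t^i) with α_i ∈ R. The infinite product is expressed through its truncations: there is a
unique sequence α : ℕ → R (α i standing for the coefficient attached to t^{i+1}) such that for every
N the series x and the finite product ∏_{i=0}^{N} (1 - α_i t^{i+1}) agree modulo t^{N+2}. -/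
theorem result
    (R : Type*) [CommRing R] (x : PowerSeries R) (hx : PowerSeries.constantCoeff x = 1) :
    ∃! α : ℕ → R, ∀ N : ℕ,
      PowerSeries.trunc (N + 2) x =
        PowerSeries.trunc (N + 2) (∏ i ∈ Finset.range (N + 1),
          (1 - PowerSeries.C (α i) * PowerSeries.X ^ (i + 1) : PowerSeries R)) := by
  classical
  -- general facts
  have hc0 : ∀ (β : ℕ → R) (N : ℕ), PowerSeries.coeff 0
      (∏ i ∈ Finset.range N, (1 - PowerSeries.C (β i) * PowerSeries.X ^ (i + 1) : PowerSeries R)) = 1 := by
    intro β N
    induction N with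
    | zero => simp
    | succ N ih =>
      rw [Finset.prod_range_succ, PowerSeries.coeff_zero_eq_constantCoeff_apply, map_mul,
        ← PowerSeries.coeff_zero_eq_constantCoeff_apply, ih]
      simp
  have hstep : ∀ (Q : PowerSeries R) (a : R) (N k : ℕ), PowerSeries.coeff 0 Q = 1 → k < N + 2 →
      PowerSeries.coeff k (Q * (1 - PowerSeries.C a * PowerSeries.X ^ (N + 1))) =
        if k = N + 1 then PowerSeries.coeff k Q - a else PowerSeries.coeff k Q := by
    intro Q a N k hQ hk
    have e : Q * (1 - PowerSeries.C a * PowerSeries.X ^ (N + 1)) =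
        Q - PowerSeries.C a * (Q * PowerSeries.X ^ (N + 1)) := by ring
    rw [e, map_sub, PowerSeries.coeff_C_mul, PowerSeries.coeff_mul_X_pow']
    by_cases h : k = N + 1
    · rw [if_pos h, if_pos (le_of_eq h.symm), h, Nat.sub_self, hQ, mul_one]
    · rw [if_neg h, if_neg (by omega), mul_zero, sub_zero]
  -- the recursive sequence of partial products
  let s : ℕ → PowerSeries R := fun N => Nat.rec (1 : PowerSeries R)
    (fun n P => P * (1 - PowerSeries.C (PowerSeries.coeff (n + 1) P - PowerSeries.coeff (n + 1) x) *
      PowerSeries.X ^ (n + 1))) N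
  let α : ℕ → R := fun n => PowerSeries.coeff (n + 1) (s n) - PowerSeries.coeff (n + 1) x
  have hs0 : s 0 = 1 := rfl
  have hss : ∀ n, s (n + 1) = s n * (1 - PowerSeries.C (α n) * PowerSeries.X ^ (n + 1)) := fun n => rfl
  have hsprod : ∀ N, s N = ∏ i ∈ Finset.range N,
      (1 - PowerSeries.C (α i) * PowerSeries.X ^ (i + 1) : PowerSeries R) := by
    intro N
    induction N with
    | zero => simp [hs0]
    | succ N ih => rw [hss, Finset.prod_range_succ, ih]
  have hinv : ∀ N, ∀ k, k < N + 1 → PowerSeries.coeff k (s N) = PowerSeries.coeff k x := by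
    intro N
    induction N with
    | zero =>
      intro k hk
      have : k = 0 := by omega
      subst this
      rw [hs0, PowerSeries.coeff_zero_eq_constantCoeff_apply, PowerSeries.coeff_zero_eq_constantCoeff_apply,
        hx, map_one]
    | succ N ih =>
      intro k hk
      rw [hss, hstep (s N) (α N) N k (by rw [hsprod]; exact hc0 α N) hk]
      by_cases h : k = N + 1
      · rw [if_pos h, h]
        show PowerSeries.coeff (N + 1) (s N) - (PowerSeries.coeff (N + 1) (s N) - PowerSeries.coeff (N + 1) x) = _
        ring
      · rw [if_neg h]; exact ih k (by omega)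
  refine ⟨α, ?_, ?_⟩
  · intro N
    ext k
    rw [PowerSeries.coeff_trunc, PowerSeries.coeff_trunc, ← hsprod]
    by_cases hk : k < N + 2
    · rw [if_pos hk, if_pos hk, hinv (N + 1) k hk]
    · rw [if_neg hk, if_neg hk]
  · intro β hβ
    funext N
    induction N using Nat.strong_induction_on with
    | _ N ih =>
      have hQ : ∏ i ∈ Finset.range N, (1 - PowerSeries.C (β i) * PowerSeries.X ^ (i + 1) : PowerSeries R) =
          ∏ i ∈ Finset.range N, (1 - PowerSeries.C (α i) * PowerSeries.X ^ (i + 1) : PowerSeries R) := by
        apply Finset.prod_congr rfl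
        intro i hi
        rw [ih i (Finset.mem_range.1 hi)]
      have h1 := congrArg (fun q : Polynomial R => q.coeff (N + 1)) (hβ N)
      simp only [PowerSeries.coeff_trunc, if_pos (Nat.lt_succ_self (N + 1))] at h1
      rw [Finset.prod_range_succ, hQ, ← hsprod,
        hstep (s N) (β N) N (N + 1) (by rw [hsprod]; exact hc0 α N) (Nat.lt_succ_self _), if_pos rfl] at h1
      show β N = PowerSeries.coeff (N + 1) (s N) - PowerSeries.coeff (N + 1) x
      rw [h1]; ring

end Groth.Agent.S20018
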