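import Groth.Statements.S2004
import Mathlib

set_option autoImplicit false
universe u
open TensorProduct
open EtAlg

namespace Groth.Agent.S2004

/-- Let R -> R' induce bijections R/f^n R -> R'/f^n R' for all n > 0. Then (R -> R', f) is a glueing
pair if and only if R -> R' maps the f-power torsion of R bijectively onto the f-power torsion of R'
(stated as: injective on f-power torsion elements, and every f-power torsion element of R' is the
image of one of R). -/
theorem result (R R' : Type u) [CommRing R] [CommRing R'] [Algebra R R'] (f : R)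
    (hq : EtGlue.QuotPowBijective R R' f) :
    EtGlue.IsGlueingPair R R' f ↔
      ((∀ x : R, (∃ n : ℕ, f ^ n * x = 0) → algebraMap R R' x = 0 → x = 0) ∧
       (∀ x' : R', (∃ n : ℕ, algebraMap R R' f ^ n * x' = 0) →
          ∃ x : R, (∃ n : ℕ, f ^ n * x = 0) ∧ algebraMap R R' x = x')) := by
  classical
  set f' : R' := algebraMap R R' f with hf'
  -- basic facts
  have F1 : ∀ r : R, algebraMap R (Localization.Away f) r = 0 ↔ ∃ n : ℕ, f ^ n * r = 0 := by
    intro r
    rw [IsLocalization.map_eq_zero_iff (Submonoid.powers f)]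
    constructor
    · rintro ⟨⟨_, n, rfl⟩, h⟩; exact ⟨n, h⟩
    · rintro ⟨n, h⟩; exact ⟨⟨f ^ n, n, rfl⟩, h⟩
  have F2 : ∀ r : R', algebraMap R' (Localization.Away f') r = 0 ↔ ∃ n : ℕ, f' ^ n * r = 0 := by
    intro r
    rw [IsLocalization.map_eq_zero_iff (Submonoid.powers f')]
    constructor
    · rintro ⟨⟨_, n, rfl⟩, h⟩; exact ⟨n, h⟩
    · rintro ⟨n, h⟩; exact ⟨⟨f' ^ n, n, rfl⟩, h⟩
  have Fμ : ∀ r : R, Localization.awayMap (algebraMap R R') f (algebraMap R (Localization.Away f) r) =
      algebraMap R' (Localization.Away f') (algebraMap R R' r) := by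
    intro r
    simp [Localization.awayMap, IsLocalization.Away.map, IsLocalization.map_eq]
    rfl
  have Fμn : ∀ n : ℕ, Localization.awayMap (algebraMap R R') f
      (algebraMap R (Localization.Away f) (f ^ n)) =
      algebraMap R' (Localization.Away f') (f' ^ n) := by
    intro n
    rw [Fμ, map_pow]
  have Fu : ∀ n : ℕ, IsUnit (algebraMap R (Localization.Away f) (f ^ n)) := by
    intro n
    rw [map_pow]
    exact (IsLocalization.Away.algebraMap_isUnit f).pow n
  have Fu' : ∀ n : ℕ, IsUnit (algebraMap R' (Localization.Away f') (f' ^ n)) := by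
    intro n
    rw [map_pow]
    exact (IsLocalization.Away.algebraMap_isUnit f').pow n
  have F3 : ∀ y : Localization.Away f, ∃ (a : R) (n : ℕ), 0 < n ∧
      y * algebraMap R (Localization.Away f) (f ^ n) = algebraMap R (Localization.Away f) a := by
    intro y
    obtain ⟨⟨a, ⟨_, n, rfl⟩⟩, h⟩ := IsLocalization.surj (Submonoid.powers f) y
    refine ⟨a * f, n + 1, Nat.succ_pos n, ?_⟩
    simp only at h
    rw [pow_succ, map_mul, ← mul_assoc, h, map_mul]
  have F3' : ∀ y : Localization.Away f', ∃ (a : R') (n : ℕ), 0 < n ∧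
      y * algebraMap R' (Localization.Away f') (f' ^ n) = algebraMap R' (Localization.Away f') a := by
    intro y
    obtain ⟨⟨a, ⟨_, n, rfl⟩⟩, h⟩ := IsLocalization.surj (Submonoid.powers f') y
    refine ⟨a * f', n + 1, Nat.succ_pos n, ?_⟩
    simp only at h
    rw [pow_succ, map_mul, ← mul_assoc, h, map_mul]
  have Fmem : ∀ (n : ℕ) (x : R'), x ∈ Ideal.map (algebraMap R R') (Ideal.span {f ^ n}) ↔
      ∃ w : R', x = f' ^ n * w := by
    intro n x
    rw [Ideal.map_span, Set.image_singleton, Ideal.mem_span_singleton', map_pow]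
    constructor
    · rintro ⟨w, rfl⟩; exact ⟨w, mul_comm _ _⟩
    · rintro ⟨w, rfl⟩; exact ⟨w, mul_comm _ _⟩
  constructor
  · rintro ⟨-, hinj, hmid, -⟩
    constructor
    · intro x hx hx0
      have h1 : algebraMap R (Localization.Away f) x = 0 := (F1 x).2 hx
      have := @hinj x 0 (by simp [hx0, h1])
      exact this
    · intro x' hx'
      have h1 : algebraMap R' (Localization.Away f') x' = 0 := (F2 x').2 hx'
      obtain ⟨r, hr1, hr2⟩ := hmid x' 0 (by rw [h1, map_zero])
      exact ⟨r, (F1 r).1 hr2, hr1⟩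
  · rintro ⟨htinj, htsurj⟩
    refine ⟨hq, ?_, ?_, ?_⟩
    · intro r₁ r₂ h
      simp only [Prod.mk.injEq] at h
      have h1 : algebraMap R R' (r₁ - r₂) = 0 := by rw [map_sub, h.1, sub_self]
      have h2 : algebraMap R (Localization.Away f) (r₁ - r₂) = 0 := by rw [map_sub, h.2, sub_self]
      exact sub_eq_zero.1 (htinj _ ((F1 _).1 h2) h1)
    · intro x y hxy
      obtain ⟨a, n, hn, hy⟩ := F3 y
      have h1 : algebraMap R' (Localization.Away f') (x * f' ^ n - algebraMap R R' a) = 0 := by
        rw [map_sub, map_mul, hxy, ← Fμ a, ← hy, map_mul, Fμn, sub_self]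
      obtain ⟨t, ht, htt⟩ := htsurj _ ((F2 _).1 h1)
      have h2 : algebraMap R R' (a + t) = f' ^ n * x := by
        rw [map_add, htt]; ring
      have h3 : a + t ∈ Ideal.span {f ^ n} := by
        have hb := (hq n hn).1
        have h4 : Ideal.Quotient.mk (Ideal.span {f ^ n}) (a + t) = 0 := by
          apply hb
          rw [map_zero, Ideal.quotientMap_mk, Ideal.Quotient.eq_zero_iff_mem, Fmem]
          exact ⟨x, h2⟩
        exact Ideal.Quotient.eq_zero_iff_mem.1 h4
      obtain ⟨r, hr⟩ := Ideal.mem_span_singleton'.1 h3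
      have h5 : f' ^ n * (x - algebraMap R R' r) = 0 := by
        have : algebraMap R R' (r * f ^ n) = f' ^ n * x := by rw [hr, h2]
        rw [map_mul, map_pow] at this
        rw [mul_sub, ← this]; ring
      obtain ⟨s, hs, hss⟩ := htsurj _ ⟨n, h5⟩
      refine ⟨r + s, ?_, ?_⟩
      · rw [map_add, hss]; ring
      · have hs0 : algebraMap R (Localization.Away f) s = 0 := (F1 s).2 hs
        have ht0 : algebraMap R (Localization.Away f) t = 0 := (F1 t).2 ht
        rw [map_add, hs0, add_zero]
        apply (Fu n).mul_right_cancel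
        rw [hy, ← map_mul, hr, map_add, ht0, add_zero]
    · intro z
      obtain ⟨x₀, n, hn, hz⟩ := F3' z
      obtain ⟨rbar, hrbar⟩ := (hq n hn).2 (Ideal.Quotient.mk _ x₀)
      obtain ⟨r, rfl⟩ := Ideal.Quotient.mk_surjective rbar
      rw [Ideal.quotientMap_mk, ← sub_eq_zero, ← map_sub, Ideal.Quotient.eq_zero_iff_mem, Fmem] at hrbar
      obtain ⟨w, hw⟩ := hrbar
      obtain ⟨y₀, hy₀⟩ : ∃ y₀ : Localization.Away f,
          y₀ * algebraMap R (Localization.Away f) (f ^ n) = algebraMap R (Localization.Away f) r := by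
        obtain ⟨v, hv⟩ := (Fu n).exists_right_inv
        exact ⟨algebraMap R (Localization.Away f) r * v, by rw [mul_assoc, mul_comm v, hv, mul_one]⟩
      refine ⟨-w, -y₀, ?_⟩
      apply (Fu' n).mul_right_cancel
      have h1 : Localization.awayMap (algebraMap R R') f y₀ * algebraMap R' (Localization.Away f') (f' ^ n) =
          algebraMap R' (Localization.Away f') (algebraMap R R' r) := by
        rw [← Fμ r, ← hy₀, map_mul, Fμn]
      rw [hz, map_neg (Localization.awayMap (algebraMap R R') f), sub_neg_eq_add, add_mul, h1,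
        ← map_mul, ← map_add]
      have : x₀ = algebraMap R R' r - f' ^ n * w := by linear_combination -hw
      rw [this]
      congr 1
      ring

end Groth.Agent.S2004
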