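import Groth.Statements.S2113
import Mathlib
import Groth.Agent.Lib.helper1.HeightOne

set_option autoImplicit false
universe u
open CAlg

namespace Groth.Agent.S2113

/-- A Noetherian ring in which each prime is maximal or else lies below infinitely many primes is a
Jacobson ring. -/
theorem result {R : Type u} [CommRing R] [IsNoetherianRing R]
    (h : ∀ (p : Ideal R) [p.IsPrime], p.IsMaximal ∨ {q : PrimeSpectrum R | p ≤ q.asIdeal}.Infinite) :
    IsJacobsonRing R := by
  classical
  rw [isJacobsonRing_iff_prime_eq]
  intro P
  induction P using WellFoundedGT.induction with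
  | ind P ih =>
    intro hP
    haveI := hP
    rcases h P with hmax | hinf
    · haveI := hmax
      exact Ideal.jacobson_eq_self_of_isMaximal
    · refine le_antisymm ?_ Ideal.le_jacobson
      intro x hx
      by_contra hxP
      -- pass to the quotient domain
      have hinfD : (Set.univ : Set (PrimeSpectrum (R ⧸ P))).Infinite := by
        have hr : Set.range (PrimeSpectrum.comap (Ideal.Quotient.mk P)) =
            {q : PrimeSpectrum R | P ≤ q.asIdeal} := by
          rw [range_comap_of_surjective _ _ Ideal.Quotient.mk_surjective, Ideal.mk_ker]
          ext q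
          simp [PrimeSpectrum.mem_zeroLocus]
        rw [← hr, ← Set.image_univ] at hinf
        exact Set.Infinite.of_image _ hinf
      have hx0 : Ideal.Quotient.mk P x ≠ 0 := by
        rwa [Ne, Ideal.Quotient.eq_zero_iff_mem]
      obtain ⟨q', hq', hq'0, hxq'⟩ :=
        Groth.Agent.H1.H1_exists_prime_not_mem (R ⧸ P) hinfD _ hx0
      haveI := hq'
      let Q := q'.comap (Ideal.Quotient.mk P)
      have hPQ : P ≤ Q := by
        intro y hy
        change Ideal.Quotient.mk P y ∈ q'
        rw [Ideal.Quotient.eq_zero_iff_mem.mpr hy]
        exact q'.zero_mem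
      have hne : P ≠ Q := by
        intro he
        apply hq'0
        have h1 : q' = Q.map (Ideal.Quotient.mk P) :=
          (Ideal.map_comap_of_surjective _ Ideal.Quotient.mk_surjective q').symm
        rw [h1, ← he, Ideal.map_quotient_self]
      have hQj : Q.jacobson = Q := ih Q (lt_of_le_of_ne hPQ hne) inferInstance
      have hxQ : x ∈ Q := by
        rw [← hQj]
        exact Ideal.jacobson_mono hPQ hx
      exact hxq' hxQ

end Groth.Agent.S2113
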