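import Groth.Statements.S2011
import Mathlib
import Groth.Agent.Lib.helper1.ZariskiJac
import Groth.Agent.S2113

set_option autoImplicit false
universe u
open EtAlg

namespace Groth.Agent.S2011

/-- Let A be a Noetherian ring and I an ideal contained in the Jacobson radical of A (a Zariski pair).
Then for every f in I the localization A_f is a Jacobson ring. -/
theorem result (A : Type u) [CommRing A] [IsNoetherianRing A] (I : Ideal A)
    (hI : I ≤ (⊥ : Ideal A).jacobson) (f : A) (hf : f ∈ I) : IsJacobsonRing (Localization.Away f) := by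
  classical
  have hfJ : f ∈ (⊥ : Ideal A).jacobson := hI hf
  apply Groth.Agent.S2113.result
  intro P hP
  by_cases hmax : P.IsMaximal
  · exact Or.inl hmax
  right
  obtain ⟨Mx, hMx, hPM⟩ := Ideal.exists_le_maximal P hP.ne_top
  have hPM' : P < Mx := lt_of_le_of_ne hPM (fun h => hmax (h ▸ hMx))
  let e := IsLocalization.orderIsoOfPrime (Submonoid.powers f) (Localization.Away f)
  let p := e ⟨P, hP⟩
  let q := e ⟨Mx, hMx.isPrime⟩
  have hpq : p.1 < q.1 := by
    have : p < q := e.lt_iff_lt.mpr (Subtype.mk_lt_mk.mpr hPM')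
    exact this
  have hfq : f ∉ q.1 := fun hmem =>
    Set.disjoint_left.mp q.2.2 (Submonoid.mem_powers f) hmem
  haveI := p.2.1
  haveI := q.2.1
  have hinf := Groth.Agent.H1.H1_zariski_infinite A f hfJ p.1 q.1 hpq hfq
  have hdisj : ∀ t : Ideal A, t.IsPrime → f ∉ t →
      Disjoint (Submonoid.powers f : Set A) (t : Set A) := by
    intro t ht hft
    rw [Set.disjoint_left]
    rintro _ ⟨n, rfl⟩ hmem
    exact hft (ht.mem_of_pow_mem n hmem)
  let g : Ideal A → PrimeSpectrum (Localization.Away f) := fun t =>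
    if h : t.IsPrime ∧ Disjoint (Submonoid.powers f : Set A) (t : Set A) then
      ⟨(e.symm ⟨t, h⟩).1, (e.symm ⟨t, h⟩).2⟩ else ⟨P, hP⟩
  refine Set.infinite_of_injOn_mapsTo (f := g) ?_ ?_ hinf
  · rintro t ⟨ht, -, hft⟩ t' ⟨ht', -, hft'⟩ htt'
    have h1 : t.IsPrime ∧ Disjoint (Submonoid.powers f : Set A) (t : Set A) :=
      ⟨ht, hdisj t ht hft⟩
    have h2 : t'.IsPrime ∧ Disjoint (Submonoid.powers f : Set A) (t' : Set A) :=
      ⟨ht', hdisj t' ht' hft'⟩
    simp only [g, dif_pos h1, dif_pos h2] at htt'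
    have h3 : e.symm ⟨t, h1⟩ = e.symm ⟨t', h2⟩ :=
      Subtype.ext (congrArg PrimeSpectrum.asIdeal htt')
    have h4 := e.symm.injective h3
    exact congrArg Subtype.val h4
  · rintro t ⟨ht, hpt, hft⟩
    have h1 : t.IsPrime ∧ Disjoint (Submonoid.powers f : Set A) (t : Set A) :=
      ⟨ht, hdisj t ht hft⟩
    simp only [g, dif_pos h1]
    change P ≤ (e.symm ⟨t, h1⟩).1
    have h5 : p ≤ ⟨t, h1⟩ := hpt
    have h6 : e.symm p ≤ e.symm ⟨t, h1⟩ := e.symm.monotone h5
    rw [e.symm_apply_apply] at h6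
    exact h6

end Groth.Agent.S2011
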