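import Groth.Statements.S2012
import Mathlib.RingTheory.Nakayama
import Mathlib.RingTheory.Flat.EquationalCriterion
import Mathlib.RingTheory.Finiteness.ModuleFinitePresentation
import Mathlib.RingTheory.IntegralClosure.IsIntegralClosure.Basic

set_option autoImplicit false
universe u
open EtAlg

namespace Groth.Agent.S2012

/-- Let A be a ring and I an ideal contained in its Jacobson radical. Let B be an A-algebra which is
flat, integral and of finite presentation over A and such that A/I -> B/IB is bijective. Then A -> B
is bijective. -/
theorem result (A B : Type u) [CommRing A] [CommRing B] [Algebra A B]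
    (I : Ideal A) (hI : I ≤ (⊥ : Ideal A).jacobson) [Module.Flat A B] [Algebra.IsIntegral A B] [Algebra.FinitePresentation A B]
    (hq : Function.Bijective (Ideal.quotientMap (I.map (algebraMap A B)) (algebraMap A B) Ideal.le_comap_map)) :
    Function.Bijective (algebraMap A B) := by
  have hfin : Module.Finite A B := Algebra.IsIntegral.finite
  have hfp : Module.FinitePresentation A B :=
    Module.FinitePresentation.of_finite_of_finitePresentation A B
  have hproj : Module.Projective A B := Module.Flat.projective_of_finitePresentation
  -- surjectivity via Nakayama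
  have hsurj : Function.Surjective (algebraMap A B) := by
    have h1 : (⊤ : Submodule A B) ≤ LinearMap.range (Algebra.linearMap A B) := by
      apply Submodule.le_of_le_smul_of_le_jacobson_bot (I := I) hfin.fg_top hI
      intro b _
      obtain ⟨a, ha⟩ := hq.2 (Ideal.Quotient.mk _ b)
      obtain ⟨a, rfl⟩ := Ideal.Quotient.mk_surjective a
      rw [Ideal.quotientMap_mk, Ideal.Quotient.eq] at ha
      rw [Ideal.smul_top_eq_map]
      refine Submodule.mem_sup.mpr ⟨algebraMap A B a, ⟨a, rfl⟩, b - algebraMap A B a, ?_, by ring⟩
      have : b - algebraMap A B a = -(algebraMap A B a - b) := by ring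
      rw [this]
      exact neg_mem ha
    intro b
    obtain ⟨a, ha⟩ := h1 (Submodule.mem_top : b ∈ ⊤)
    exact ⟨a, ha⟩
  refine ⟨?_, hsurj⟩
  -- splitting
  obtain ⟨s, hs⟩ := Module.projective_lifting_property (Algebra.linearMap A B)
    (LinearMap.id : B →ₗ[A] B) hsurj
  have hs1 : algebraMap A B (s 1) = 1 := by
    have := LinearMap.congr_fun hs 1
    simpa using this
  -- kernel is contained in I
  have hKI : ∀ x : A, algebraMap A B x = 0 → x ∈ I := by
    intro x hx
    have h1 : Ideal.quotientMap (I.map (algebraMap A B)) (algebraMap A B) Ideal.le_comap_map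
        (Ideal.Quotient.mk I x) = 0 := by
      rw [Ideal.quotientMap_mk, hx, map_zero]
    have h2 := hq.1 (h1.trans (map_zero _).symm)
    exact Ideal.Quotient.eq_zero_iff_mem.mp h2
  have he : IsUnit (s 1) := by
    have h1 : 1 - s 1 ∈ I := hKI _ (by rw [map_sub, map_one, hs1, sub_self])
    have h2 := Ideal.mem_jacobson_bot.mp (hI h1) (-1)
    have : (1 - s 1) * (-1) + 1 = s 1 := by ring
    rwa [this] at h2
  rw [injective_iff_map_eq_zero]
  intro x hx
  have h1 : s (algebraMap A B x) = x * s 1 := by
    have : algebraMap A B x = x • (1 : B) := by rw [Algebra.smul_def, mul_one]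
    rw [this, map_smul, smul_eq_mul]
  rw [hx, map_zero] at h1
  exact (he.mul_left_eq_zero).mp h1.symm

end Groth.Agent.S2012
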