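import Groth.Statements.S2014
import Mathlib

set_option autoImplicit false
universe u
open EtAlg

namespace Groth.Agent.S2014

/-- Let R be a Noetherian local ring of Krull dimension 1 and x an element of the maximal ideal
contained in no minimal prime of R. Then the number of minimal prime ideals of R is at most the
length of R/xR as an R-module. -/
theorem result (R : Type u) [CommRing R] [IsNoetherianRing R] [IsLocalRing R]
    (hdim : ringKrullDim R = 1) (x : R) (hx : x ∈ IsLocalRing.maximalIdeal R) (hmin : ∀ p ∈ minimalPrimes R, x ∉ p) :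
    (Set.ncard (minimalPrimes R) : ℕ∞) ≤ Module.length R (R ⧸ Ideal.span {x}) := by
  classical
  have hfin : (minimalPrimes R).Finite := minimalPrimes.finite_of_isNoetherianRing R
  set t := Set.ncard (minimalPrimes R) with ht
  have hcard : hfin.toFinset.card = t := (Set.ncard_eq_toFinset_card _ hfin).symm
  let e : Fin t ≃ hfin.toFinset := (Finset.equivFinOfCardEq hcard).symm
  let p : Fin t → Ideal R := fun i => (e i).1
  have hpmem : ∀ i, p i ∈ minimalPrimes R := fun i => hfin.mem_toFinset.1 (e i).2
  have hpinj : Function.Injective p := fun i j h => e.injective (Subtype.ext h)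
  have hpprime : ∀ i, (p i).IsPrime := fun i => (hpmem i).1.1
  let I : ℕ → Ideal R := fun j => (Finset.univ.filter (fun i : Fin t => i.val < j)).inf p
  let N : ℕ → Submodule R (R ⧸ Ideal.span {x}) := fun j => Submodule.map (Ideal.span {x}).mkQ (I j)
  have hImono : ∀ j, I (j + 1) ≤ I j := by
    intro j
    apply Finset.inf_mono
    intro i hi
    simp only [Finset.mem_filter, Finset.mem_univ, true_and] at hi ⊢
    omega
  have hstrict : ∀ j, j < t → N (j + 1) < N j := by
    intro j hj
    apply lt_of_le_of_ne (Submodule.map_mono (hImono j))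
    intro heq
    have heq' : N (j + 1) = N j := heq
    -- I j ≤ I (j+1) ⊔ span {x}
    have h1 : I j ≤ I (j + 1) ⊔ Ideal.span {x} • I j := by
      intro a ha
      have ha' : (Ideal.span {x}).mkQ a ∈ N j := ⟨a, ha, rfl⟩
      rw [← heq'] at ha'
      obtain ⟨b, hb, hab⟩ := ha'
      have hsub : b - a ∈ Ideal.span {x} := by
        have : (Ideal.span {x}).mkQ (b - a) = 0 := by rw [map_sub, hab, sub_self]
        rwa [Submodule.mkQ_apply, Submodule.Quotient.mk_eq_zero] at this
      obtain ⟨c, hc⟩ := Ideal.mem_span_singleton'.1 hsub
      -- a = b - c * x, c ∈ I j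
      have hcI : c ∈ I j := by
        simp only [I, Submodule.mem_finsetInf]
        intro i hi
        have hai : a ∈ p i := (Submodule.mem_finsetInf.1 ha) i hi
        have hbi : b ∈ p i := by
          have hi' : i ∈ Finset.univ.filter (fun i : Fin t => i.val < j + 1) := by
            simp only [Finset.mem_filter, Finset.mem_univ, true_and] at hi ⊢
            omega
          exact (Submodule.mem_finsetInf.1 hb) i hi'
        have hcx : c * x ∈ p i := by rw [hc]; exact (p i).sub_mem hbi hai
        rcases (hpprime i).mem_or_mem hcx with h | h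
        · exact h
        · exact absurd h (hmin _ (hpmem i))
      have : a = b + (-x) • c := by
        have : b - a = c * x := hc.symm
        rw [smul_eq_mul]
        linear_combination -this
      rw [this]
      apply Submodule.add_mem_sup hb
      rw [neg_smul]
      apply Submodule.neg_mem
      exact Submodule.smul_mem_smul (Ideal.subset_span rfl) hcI
    have hjac : Ideal.span {x} ≤ Ideal.jacobson ⊥ := by
      rw [IsLocalRing.jacobson_eq_maximalIdeal ⊥ bot_ne_top]
      rw [Ideal.span_le]
      intro y hy
      rw [Set.mem_singleton_iff] at hy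
      rw [hy]; exact hx
    have h2 : I j ≤ I (j + 1) :=
      Submodule.le_of_le_smul_of_le_jacobson_bot (IsNoetherian.noetherian _) hjac h1
    -- so inf ≤ p j
    have h3 : I j ≤ p ⟨j, hj⟩ := by
      refine h2.trans ?_
      apply Finset.inf_le
      simp
    rw [(hpprime ⟨j, hj⟩).inf_le'] at h3
    obtain ⟨i, hi, hle⟩ := h3
    simp only [Finset.mem_filter, Finset.mem_univ, true_and] at hi
    have heq2 : p i = p ⟨j, hj⟩ :=
      le_antisymm hle ((hpmem ⟨j, hj⟩).2 ⟨hpprime i, bot_le⟩ hle)
    have := hpinj heq2
    rw [Fin.ext_iff] at this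
    simp at this
    omega
  let f : Fin (t + 1) → Submodule R (R ⧸ Ideal.span {x}) := fun k => N (t - k)
  have hf : StrictMono f := by
    rw [Fin.strictMono_iff_lt_succ]
    intro i
    simp only [f, Fin.val_castSucc, Fin.val_succ]
    have h1 : t - (i : ℕ) = (t - ((i : ℕ) + 1)) + 1 := by have := i.2; omega
    rw [h1]
    exact hstrict _ (by have := i.2; omega)
  have hlen := Order.LTSeries.length_le_krullDim (LTSeries.mk t f hf)
  rw [← Module.coe_length] at hlen
  have : ((t : ℕ∞) : WithBot ℕ∞) ≤ (Module.length R (R ⧸ Ideal.span {x}) : WithBot ℕ∞) := by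
    simpa using hlen
  exact_mod_cast this

end Groth.Agent.S2014
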