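import Groth.Statements.S2017
import Mathlib

set_option autoImplicit false
universe u
open EtAlg

namespace Groth.Agent.S2017

/-- Let R be a Noetherian ring, A, B, C R-algebras of finite type, f : A -> B a surjective R-algebra map
and g : C -> B an R-algebra map making B a finite C-module. Then the fibre product A ×_B C (the
equalizer of f ∘ pr₁ and g ∘ pr₂ in A × C) is an R-algebra of finite type. -/
theorem result (R A B C : Type u) [CommRing R] [IsNoetherianRing R] [CommRing A] [CommRing B]
    [CommRing C] [Algebra R A] [Algebra R B] [Algebra R C] [Algebra.FiniteType R A] [Algebra.FiniteType R B]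
    [Algebra.FiniteType R C] (f : A →ₐ[R] B) (hf : Function.Surjective f) (g : C →ₐ[R] B)
    (hg : (g.toRingHom).Finite) :
    Algebra.FiniteType R ↥(AlgHom.equalizer (f.comp (AlgHom.fst R A C)) (g.comp (AlgHom.snd R A C))) := by
  classical
  set D := AlgHom.equalizer (f.comp (AlgHom.fst R A C)) (g.comp (AlgHom.snd R A C)) with hD
  have hAC : (⊤ : Subalgebra R (A × C)).FG := (inferInstance : Algebra.FiniteType R (A × C)).out
  letI algCB : Algebra C B := g.toRingHom.toAlgebra
  have hfin : Module.Finite C B := hg
  obtain ⟨s, hs⟩ := hfin.fg_top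
  choose lift hlift using hf
  have hmemD : ∀ (a : A) (c : C), f a = g c → ((a, c) : A × C) ∈ D := by
    intro a c h
    rw [hD, AlgHom.mem_equalizer]
    simpa using h
  have hsmul : ∀ (c : C) (b : B), c • b = g c * b := fun c b => rfl
  have hBC : (⊤ : Submodule D (A × C)).FG := by
    refine ⟨insert ((1 : A), (0 : C)) (insert ((0 : A), (1 : C)) (s.image fun b => (lift b, (0 : C)))), ?_⟩
    rw [eq_top_iff]
    rintro ⟨a, c⟩ -
    have h1 : ((0 : A), c) ∈ Submodule.span D
        (↑(insert ((1 : A), (0 : C)) (insert ((0 : A), (1 : C)) (s.image fun b => (lift b, (0 : C))))) : Set (A × C)) := by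
      have hd : ((lift (g c), c) : A × C) ∈ D := hmemD _ _ (hlift _)
      have : ((0 : A), c) = (⟨(lift (g c), c), hd⟩ : D) • (((0 : A), (1 : C)) : A × C) := by
        rw [Subalgebra.smul_def]; simp
      rw [this]
      apply Submodule.smul_mem
      apply Submodule.subset_span
      simp
    have h2 : (a, (0 : C)) ∈ Submodule.span D
        (↑(insert ((1 : A), (0 : C)) (insert ((0 : A), (1 : C)) (s.image fun b => (lift b, (0 : C))))) : Set (A × C)) := by
      have hfa : f a ∈ Submodule.span C (s : Set B) := by rw [hs]; trivial
      rw [Submodule.mem_span_finset] at hfa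
      obtain ⟨φ, -, hφ⟩ := hfa
      set x : A := a - ∑ b ∈ s, lift (g (φ b)) * lift b with hx
      have hfx : f x = 0 := by
        rw [hx, map_sub, map_sum, ← hφ, sub_eq_zero]
        apply Finset.sum_congr rfl
        intro b _
        rw [map_mul, hlift, hlift, hsmul]
      have hxD : ((x, (0 : C)) : A × C) ∈ D := hmemD _ _ (by rw [hfx, map_zero])
      have hdb : ∀ b, ((lift (g (φ b)), φ b) : A × C) ∈ D := fun b => hmemD _ _ (hlift _)
      have : (a, (0 : C)) = (⟨(x, 0), hxD⟩ : D) • (((1 : A), (0 : C)) : A × C) +
          ∑ b ∈ s, (⟨(lift (g (φ b)), φ b), hdb b⟩ : D) • ((lift b, (0 : C)) : A × C) := by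
        simp only [Subalgebra.smul_def]
        ext
        · simp [Prod.fst_sum, hx]
        · simp [Prod.snd_sum]
      rw [this]
      apply add_mem
      · apply Submodule.smul_mem
        apply Submodule.subset_span
        simp
      · apply Submodule.sum_mem
        intro b hb
        apply Submodule.smul_mem
        apply Submodule.subset_span
        simp only [Finset.coe_insert, Finset.coe_image, Set.mem_insert_iff, Set.mem_image, Finset.mem_coe]
        right; right
        exact ⟨b, hb, rfl⟩
    have : ((a, c) : A × C) = (a, 0) + (0, c) := by simp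
    rw [this]
    exact add_mem h2 h1
  have hinj : Function.Injective (algebraMap D (A × C)) := Subtype.val_injective
  exact ⟨fg_of_fg_of_fg R D (A × C) hAC hBC hinj⟩

end Groth.Agent.S2017
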