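import Groth.Statements.S2018

set_option autoImplicit false
universe u
open EtAlg

namespace Groth.Agent.S2018

/-- Let g : A' -> A be a surjective ring map and f : B -> A an integral ring map. Then the projection
from the fibre product B ×_A A' (the equalizer of f ∘ pr₁ and g ∘ pr₂ in B × A') to A' is integral. -/
theorem result (A A' B : Type u) [CommRing A] [CommRing A'] [CommRing B] (g : A' →+* A)
    (hg : Function.Surjective g) (f : B →+* A) (hf : f.IsIntegral) :
    ((RingHom.snd B A').comp ((f.comp (RingHom.fst B A')).eqLocus (g.comp (RingHom.snd B A'))).subtype).IsIntegral := by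
  intro a'
  set P := (f.comp (RingHom.fst B A')).eqLocus (g.comp (RingHom.snd B A')) with hP
  set φ : P →+* A' := (RingHom.snd B A').comp P.subtype with hφ
  have hfst : Function.Surjective ((RingHom.fst B A').comp P.subtype) := by
    intro b
    obtain ⟨x, hx⟩ := hg (f b)
    exact ⟨⟨(b, x), by simp [hP, RingHom.mem_eqLocus, hx]⟩, rfl⟩
  have hcomm : g.comp φ = f.comp ((RingHom.fst B A').comp P.subtype) := by
    ext ⟨x, hx⟩
    exact hx.symm
  obtain ⟨p, hp, hp0⟩ := hf (g a')
  obtain ⟨q, hq, -, hqm⟩ := Polynomial.lifts_and_natDegree_eq_and_monic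
    (Polynomial.mem_lifts_of_surjective hfst p) hp
  have hc : g (Polynomial.eval₂ φ a' q) = 0 := by
    rw [Polynomial.hom_eval₂, hcomm, ← Polynomial.eval₂_map, hq, hp0]
  set c := Polynomial.eval₂ φ a' q * a' with hcdef
  have hgc : g c = 0 := by rw [hcdef, map_mul, hc, zero_mul]
  let r : P := ⟨(0, c), by simp [hP, RingHom.mem_eqLocus, hgc]⟩
  have hr : φ r = c := rfl
  refine ⟨q * Polynomial.X - Polynomial.C r, ?_, ?_⟩
  · rcases subsingleton_or_nontrivial P with h | h
    · exact Subsingleton.elim _ _
    · apply (hqm.mul Polynomial.monic_X).sub_of_left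
      refine lt_of_le_of_lt Polynomial.degree_C_le ?_
      rw [Polynomial.degree_mul_X]
      have : (0 : WithBot ℕ) ≤ q.degree := by
        rw [Polynomial.degree_eq_natDegree hqm.ne_zero]; exact_mod_cast Nat.zero_le _
      calc (0 : WithBot ℕ) < 0 + 1 := by decide
        _ ≤ q.degree + 1 := by gcongr
  · rw [Polynomial.eval₂_sub, Polynomial.eval₂_mul, Polynomial.eval₂_X, Polynomial.eval₂_C, hr, hcdef,
      sub_self]

end Groth.Agent.S2018
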