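import Groth.Statements.S6916
import Groth.Statements.S6916
import Mathlib
import Groth.Agent.Lib.helper9.H9_Milnor

set_option autoImplicit false
universe u
open TensorProduct
open EtAlg

namespace Groth.Agent.S6916

/-- Let `B' = B ×_A A'` be a fibre square of rings with `A' → A` surjective and `L'` any `B'`-module.
Then the canonical map from `L'` to the glueing of `(L' ⊗_{B'} B, L' ⊗_{B'} A')` is surjective:
every pair `(x, y) ∈ (B ⊗_{B'} L') × (A' ⊗_{B'} L')` with equal images in `A ⊗_{B'} L'` is of the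
form `(1 ⊗ l, 1 ⊗ l)`. (It is in general not injective.) -/
theorem result (B' B A' A : Type u) [CommRing B'] [CommRing B] [CommRing A'] [CommRing A]
    [Algebra B' B] [Algebra B' A'] [Algebra B A] [Algebra A' A] [Algebra B' A] [IsScalarTower B' B A] [IsScalarTower B' A' A]
    (hsq : EtMil.IsFibreSquare B' B A' A)
    (L' : Type u) [AddCommGroup L'] [Module B' L'] (x : B ⊗[B'] L') (y : A' ⊗[B'] L')
    (hxy : (IsScalarTower.toAlgHom B' B A).toLinearMap.rTensor L' x = (IsScalarTower.toAlgHom B' A' A).toLinearMap.rTensor L' y) :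
    ∃ l : L', (1 : B) ⊗ₜ[B'] l = x ∧ (1 : A') ⊗ₜ[B'] l = y := by
  obtain ⟨l0, rfl⟩ := H9_Milnor.exists_one_tmul L' hsq x
  have hz : (IsScalarTower.toAlgHom B' A' A).toLinearMap.rTensor L' (y - (1 : A') ⊗ₜ[B'] l0) = 0 := by
    rw [map_sub, ← hxy, LinearMap.rTensor_tmul, LinearMap.rTensor_tmul]
    simp
  obtain ⟨l1, hl1, e1⟩ := H9_Milnor.exists_of_rTensor_eq_zero L' hsq _ hz
  refine ⟨l0 + l1, ?_, ?_⟩
  · rw [TensorProduct.tmul_add, H9_Milnor.one_tmul_eq_zero_of_mem L' l1 hl1, add_zero]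
  · rw [TensorProduct.tmul_add, e1]; abel

end Groth.Agent.S6916
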