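import Groth.Statements.S2020
import Groth.Statements.S2020
import Mathlib
import Groth.Agent.Lib.helper9.H9_MilnorFlat
import Groth.Agent.Lib.helper9.H9_MilnorGlue
import Groth.Agent.S6916

set_option autoImplicit false
universe u
open TensorProduct
open EtAlg

namespace Groth.Agent.S2020

/-- Let B' → B, B' → A', B → A and A' → A be ring homomorphisms forming a commutative square that is a
fibre product, B' = B ×_A A', with A' → A surjective. (1) Given a flat B-module N, a flat A'-module
M' and an A-linear isomorphism φ : A ⊗_B N ≅ A ⊗_{A'} M', the glued module N ×_φ M' (pairs (n, m')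
with φ(1 ⊗ n) = 1 ⊗ m') is a flat B'-module. (2) For every flat B'-module L', the map L' → (B ⊗_{B'}
L') × (A' ⊗_{B'} L') is injective, and any pair (x, y) whose two images in A ⊗_{B'} L' agree comes
from an element of L'. -/
theorem result (B' B A' A : Type u) [CommRing B'] [CommRing B] [CommRing A'] [CommRing A]
    [Algebra B' B] [Algebra B' A'] [Algebra B A] [Algebra A' A] [Algebra B' A] [IsScalarTower B' B A] [IsScalarTower B' A' A]
    (hsq : EtMil.IsFibreSquare B' B A' A) :
    (∀ (N M' : Type u) [AddCommGroup N] [Module B N] [Module B' N] [IsScalarTower B' B N]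
    [AddCommGroup M'] [Module A' M'] [Module B' M'] [IsScalarTower B' A' M'] (φ : A ⊗[B] N ≃ₗ[A] A ⊗[A'] M'), Module.Flat B N → Module.Flat A' M' → Module.Flat B' ↥(EtMil.glue B' φ)) ∧
    (∀ (L' : Type u) [AddCommGroup L'] [Module B' L'], Module.Flat B' L' →
      Function.Injective (fun l : L' => (((1 : B) ⊗ₜ[B'] l : B ⊗[B'] L'), ((1 : A') ⊗ₜ[B'] l : A' ⊗[B'] L'))) ∧
      ∀ (x : B ⊗[B'] L') (y : A' ⊗[B'] L'),
        (IsScalarTower.toAlgHom B' B A).toLinearMap.rTensor L' x = (IsScalarTower.toAlgHom B' A' A).toLinearMap.rTensor L' y →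
          ∃ l : L', (1 : B) ⊗ₜ[B'] l = x ∧ (1 : A') ⊗ₜ[B'] l = y) := by
  refine ⟨?_, ?_⟩
  · intro N M' _ _ _ _ _ _ _ _ φ hN hM'
    haveI : Module.Flat B (B ⊗[B'] ↥(EtMil.glue B' φ)) :=
      Module.Flat.of_linearEquiv (H9_MilnorGlue.fstEquiv φ hsq)
    haveI : Module.Flat A' (A' ⊗[B'] ↥(EtMil.glue B' φ)) :=
      Module.Flat.of_linearEquiv (LinearEquiv.ofBijective _ (H9_MilnorGlue.snd_bijective φ hsq))
    exact H9_MilnorFlat.flat_of_flat_baseChange _ hsq
  · intro L' _ _ hflat
    refine ⟨?_, fun x y hxy => Groth.Agent.S6916.result B' B A' A hsq L' x y hxy⟩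
    intro l1 l2 h
    have h1 : (1 : B) ⊗ₜ[B'] (l1 - l2) = 0 := by
      rw [TensorProduct.tmul_sub, sub_eq_zero]; exact congrArg Prod.fst h
    have h2 : (1 : A') ⊗ₜ[B'] (l1 - l2) = 0 := by
      rw [TensorProduct.tmul_sub, sub_eq_zero]; exact congrArg Prod.snd h
    have hmem := H9_Milnor.mem_smul_top_of_one_tmul_eq_zero L' (H9_Milnor.surj_B hsq) _ h1
    set I' : Ideal B' := RingHom.ker (algebraMap B' B) with hI'
    have hw : ∀ l ∈ I' • (⊤ : Submodule B' L'), ∃ w : I' ⊗[B'] L',
        (Submodule.subtype I').rTensor L' w = (1 : B') ⊗ₜ[B'] l := by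
      intro l hl
      refine Submodule.smul_induction_on hl ?_ ?_
      · intro i hi n _
        refine ⟨(⟨i, hi⟩ : I') ⊗ₜ[B'] n, ?_⟩
        rw [LinearMap.rTensor_tmul, Submodule.subtype_apply, TensorProduct.tmul_smul,
          TensorProduct.smul_tmul', smul_eq_mul, mul_one]
      · rintro x y ⟨w1, e1⟩ ⟨w2, e2⟩
        exact ⟨w1 + w2, by rw [map_add, e1, e2, TensorProduct.tmul_add]⟩
    obtain ⟨w, hw⟩ := hw _ hmem
    have hinj0 : Function.Injective ((Algebra.linearMap B' A') ∘ₗ (Submodule.subtype I')) := by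
      rintro ⟨x, hx⟩ ⟨y, hy⟩ hxy
      apply Subtype.ext
      exact H9_Milnor.eq_of_eq hsq x y
        (by rw [(RingHom.mem_ker).1 hx, (RingHom.mem_ker).1 hy]) hxy
    have hinj := Module.Flat.rTensor_preserves_injective_linearMap (M := L') _ hinj0
    have hw0 : w = 0 := by
      apply hinj
      rw [LinearMap.rTensor_comp, LinearMap.comp_apply, hw, LinearMap.rTensor_tmul, map_zero]
      simpa using h2
    rw [hw0, map_zero] at hw
    have := congrArg (TensorProduct.lid B' L') hw
    rw [map_zero, TensorProduct.lid_tmul, one_smul] at this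
    exact sub_eq_zero.1 this.symm

end Groth.Agent.S2020
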