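import Groth.Statements.S2021
import Groth.Statements.S2021
import Mathlib
import Groth.Agent.Lib.helper9.H9_MilnorFP

set_option autoImplicit false
universe u
open TensorProduct
open EtAlg

namespace Groth.Agent.S2021

/-- Let B' = B ×_A A' be a fibre product of rings with A' -> A surjective, N a B-module, M' an A'-module
and φ : A ⊗_B N ≅ A ⊗_{A'} M'. If N and M' are finitely generated then so is the glued B'-module N
×_φ M'; if N and M' are finite projective then N ×_φ M' is finite projective over B'. -/
theorem result (B' B A' A : Type u) [CommRing B'] [CommRing B] [CommRing A'] [CommRing A]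
    [Algebra B' B] [Algebra B' A'] [Algebra B A] [Algebra A' A] [Algebra B' A] [IsScalarTower B' B A] [IsScalarTower B' A' A]
    (hsq : EtMil.IsFibreSquare B' B A' A)
    (N M' : Type u) [AddCommGroup N] [Module B N] [Module B' N] [IsScalarTower B' B N]
    [AddCommGroup M'] [Module A' M'] [Module B' M'] [IsScalarTower B' A' M'] (φ : A ⊗[B] N ≃ₗ[A] A ⊗[A'] M') :
    (Module.Finite B N → Module.Finite A' M' → Module.Finite B' ↥(EtMil.glue B' φ)) ∧
    (Module.Finite B N → Module.Projective B N → Module.Finite A' M' → Module.Projective A' M' →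
      Module.Finite B' ↥(EtMil.glue B' φ) ∧ Module.Projective B' ↥(EtMil.glue B' φ)) := by
  have hfin : Module.Finite B N → Module.Finite A' M' → Module.Finite B' ↥(EtMil.glue B' φ) := by
    intro hN hM'
    haveI : Module.Finite B (B ⊗[B'] ↥(EtMil.glue B' φ)) :=
      Module.Finite.equiv (H9_MilnorGlue.fstEquiv φ hsq).symm
    haveI : Module.Finite A' (A' ⊗[B'] ↥(EtMil.glue B' φ)) :=
      Module.Finite.equiv (LinearEquiv.ofBijective _ (H9_MilnorGlue.snd_bijective φ hsq)).symm
    exact Groth.Agent.S14953.result B' B A' A hsq _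
  refine ⟨hfin, ?_⟩
  intro hN hNp hM' hM'p
  refine ⟨hfin hN hM', ?_⟩
  haveI : Module.FinitePresentation B N := Module.finitePresentation_of_projective B N
  haveI : Module.FinitePresentation A' M' := Module.finitePresentation_of_projective A' M'
  haveI : Module.Flat B (B ⊗[B'] ↥(EtMil.glue B' φ)) :=
    Module.Flat.of_linearEquiv (H9_MilnorGlue.fstEquiv φ hsq)
  haveI : Module.Flat A' (A' ⊗[B'] ↥(EtMil.glue B' φ)) :=
    Module.Flat.of_linearEquiv (LinearEquiv.ofBijective _ (H9_MilnorGlue.snd_bijective φ hsq))
  haveI : Module.FinitePresentation B (B ⊗[B'] ↥(EtMil.glue B' φ)) :=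
    Module.FinitePresentation.of_equiv (H9_MilnorGlue.fstEquiv φ hsq).symm
  haveI : Module.FinitePresentation A' (A' ⊗[B'] ↥(EtMil.glue B' φ)) :=
    Module.FinitePresentation.of_equiv
      (LinearEquiv.ofBijective _ (H9_MilnorGlue.snd_bijective φ hsq)).symm
  haveI : Module.Flat B' ↥(EtMil.glue B' φ) := H9_MilnorFlat.flat_of_flat_baseChange _ hsq
  haveI : Module.FinitePresentation B' ↥(EtMil.glue B' φ) :=
    H9_MilnorFP.finitePresentation_of_baseChange _ hsq
  exact Module.Flat.projective_of_finitePresentation

end Groth.Agent.S2021
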