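import Groth.Statements.S2032
import Mathlib
import Groth.Agent.Lib.helper1.StdSmooth2

set_option autoImplicit false
universe u
open Smoothing

namespace Groth.Agent.S2032

/-- For a finitely presented `R`-algebra `A` and `a ∈ A`, if `a` is elementary standard then `A_a` is
standard smooth over `R`. (Part (f), the converse for large powers of `a`, is not stated: as
published it fails, for example for the nodal cubic `A = {g ∈ ℚ[u] : g(0) = g(1)}` and `a =
u(u-1)`.) -/
theorem result {R A : Type u} [CommRing R] [CommRing A]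
    [Algebra R A] [Algebra.FinitePresentation R A] (a : A)
    (ha : Smoothing.IsElementaryStandard R A a) : Algebra.IsStandardSmooth R (Localization.Away a) := by
  classical
  obtain ⟨P, ⟨a', ha'⟩, hkillTail⟩ := ha
  obtain ⟨t, ht⟩ := P.surj a'
  set Δ := Smoothing.jacobianMinor P.rel (Fin.castLE P.hcm) (Fin.castLE P.hcn) with hΔ
  set at' := t * Δ with hat'
  have hat : P.hom at' = a := by rw [hat', map_mul, ht, ha']
  let g : Fin P.c → MvPolynomial (Fin P.n) R := fun j => P.rel (Fin.castLE P.hcm j)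
  have hJ : Ideal.span (P.rel '' {j' : Fin P.m | (j' : ℕ) < P.c}) = Ideal.span (Set.range g) := by
    congr 1
    ext x
    constructor
    · rintro ⟨j', hj', rfl⟩
      exact ⟨⟨j', hj'⟩, by simp [g]⟩
    · rintro ⟨j, rfl⟩
      exact ⟨Fin.castLE P.hcm j, by simp, rfl⟩
  have hkill' : ∀ j : Fin P.m, at' * P.rel j ∈
      Ideal.span (Set.range g) ⊔ (Ideal.span (Set.range P.rel)) ^ 2 := by
    intro j
    rw [← hJ]
    by_cases hj : P.c ≤ (j : ℕ)
    · exact hkillTail at' hat j hj
    · refine Ideal.mem_sup_left (Ideal.mul_mem_left _ _ (Ideal.subset_span ⟨j, ?_, rfl⟩))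
      simpa using hj
  obtain ⟨h₀, hh₀I, hh₀J⟩ := Groth.Agent.H1.H1_det_trick P.rel (Ideal.span (Set.range g)) at' hkill'
  have hker : ∀ p, p ∈ Ideal.span (Set.range P.rel) → P.hom p = 0 := by
    intro p hp
    rw [← P.ker_eq] at hp
    exact hp
  have hhom0 : P.hom h₀ = a ^ P.m := by
    have h1 := hker _ hh₀I
    rw [map_sub, map_pow, hat, sub_eq_zero] at h1
    exact h1
  have hk : P.hom (at' * h₀) = a ^ (P.m + 1) := by
    rw [map_mul, hat, hhom0, pow_succ, mul_comm]
  have hdivΔ : Matrix.det (Matrix.of fun j k : Fin P.c =>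
      MvPolynomial.pderiv (Fin.castLE P.hcn k) (g j)) ∣ at' * h₀ := by
    have : Matrix.det (Matrix.of fun j k : Fin P.c =>
      MvPolynomial.pderiv (Fin.castLE P.hcn k) (g j)) = Δ := rfl
    rw [this]
    exact Dvd.dvd.mul_right (Dvd.intro_left t rfl) h₀
  have hstd := Groth.Agent.H1.H1_stdSmooth_quotient P.hcn g (at' * h₀) hdivΔ
  obtain ⟨e⟩ := Groth.Agent.H1.H1_Q_equiv_away P.rel P.hom g (at' * h₀) a P.surj P.ker_eq
    (fun j => Ideal.subset_span ⟨_, rfl⟩) at' h₀ (P.m + 1) hk hat (Dvd.intro _ rfl)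
    (Dvd.intro_left _ rfl) hh₀J
  exact Algebra.IsStandardSmooth.of_algEquiv e

end Groth.Agent.S2032
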