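import Groth.Statements.S2056
import Groth.Statements.S2056
import Groth.Agent.S6360
open scoped TensorProduct

set_option autoImplicit false
universe u
open CAlg

namespace Groth.Agent.S2056

/-- A linear map of `R`-modules is universally injective (injective after tensoring with any module) if
and only if it is injective after tensoring with every finitely presented module. -/
theorem result {R M N : Type u} [CommRing R] [AddCommGroup M]
    [Module R M] [AddCommGroup N] [Module R N] (f : M →ₗ[R] N) :
    CAlgX.UniversallyInjective R f ↔
      ∀ (Q : Type u) [AddCommGroup Q] [Module R Q], Module.FinitePresentation R Q →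
        Function.Injective (f.rTensor Q) := by
  classical
  have hid : ∀ (Q : Type u) [AddCommGroup Q] [Module R Q],
      LinearMap.ker ((LinearMap.id : M →ₗ[R] M).rTensor Q) = ⊥ := by
    intro Q _ _
    rw [LinearMap.rTensor_id, LinearMap.ker_id]
  have h := Groth.Agent.S6360.result R f (LinearMap.id : M →ₗ[R] M)
  constructor
  · intro hui Q _ _ _
    exact hui Q
  · intro hfp
    have h2 := h.mpr (fun Q _ _ hQ => by
      rw [hid Q, le_bot_iff]
      exact LinearMap.ker_eq_bot.mpr (hfp Q hQ))
    intro Q _ _
    have := h2 Q
    rw [hid Q, le_bot_iff] at this
    exact LinearMap.ker_eq_bot.mp this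

end Groth.Agent.S2056
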