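import Groth.Statements.S2097
import Mathlib.RingTheory.Noetherian.Nilpotent

set_option autoImplicit false
universe u
open CAlg

namespace Groth.Agent.S2097

/-- Let `R → S` be smooth, `A` an `R`-algebra and `I ⊆ A` an ideal all of whose elements are nilpotent.
Every `R`-algebra map `S → A/I` lifts to an `R`-algebra map `S → A`. -/
theorem result {R S A : Type u} [CommRing R] [CommRing S] [Algebra R S] [Algebra.Smooth R S]
    [CommRing A] [Algebra R A] (I : Ideal A) (hI : ∀ x ∈ I, IsNilpotent x) (g : S →ₐ[R] A ⧸ I) :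
    ∃ f : S →ₐ[R] A, (Ideal.Quotient.mkₐ R I).comp f = g := by
  obtain ⟨n, π, hπ, hker⟩ := (Algebra.Smooth.finitePresentation (R := R) (A := S)).out
  obtain ⟨T, hT⟩ := hker
  -- lift the variables
  have hlift : ∀ i : Fin n, ∃ a : A, Ideal.Quotient.mk I a = g (π (MvPolynomial.X i)) :=
    fun i => Ideal.Quotient.mk_surjective _
  choose a ha using hlift
  let ψ : MvPolynomial (Fin n) R →ₐ[R] A := MvPolynomial.aeval a
  have hψ : (Ideal.Quotient.mkₐ R I).comp ψ = g.comp π := by
    apply MvPolynomial.algHom_ext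
    intro i
    simp [ψ, ha]
  let I' : Ideal A := Ideal.span (ψ '' (T : Set (MvPolynomial (Fin n) R)))
  have hI'I : I' ≤ I := by
    rw [Ideal.span_le]
    rintro _ ⟨t, ht, rfl⟩
    have ht' : t ∈ RingHom.ker π.toRingHom := by rw [← hT]; exact Ideal.subset_span ht
    have h1 : Ideal.Quotient.mk I (ψ t) = g (π t) := AlgHom.congr_fun hψ t
    have h2 : π t = 0 := ht'
    rw [h2, map_zero] at h1
    exact Ideal.Quotient.eq_zero_iff_mem.mp h1
  have hI'fg : I'.FG := Submodule.fg_span (T.finite_toSet.image ψ)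
  have hI'nil : IsNilpotent I' := by
    rw [hI'fg.isNilpotent_iff_le_nilradical]
    intro x hx
    exact hI x (hI'I hx)
  -- the induced map S → A ⧸ I'
  have hkerle : RingHom.ker π.toRingHom ≤ RingHom.ker ((Ideal.Quotient.mkₐ R I').comp ψ).toRingHom := by
    rw [← hT, Ideal.span_le]
    intro t ht
    change (Ideal.Quotient.mk I') (ψ t) = 0
    rw [Ideal.Quotient.eq_zero_iff_mem]
    exact Ideal.subset_span ⟨t, ht, rfl⟩
  let ψ' : S →ₐ[R] A ⧸ I' :=
    AlgHom.liftOfSurjective π hπ ((Ideal.Quotient.mkₐ R I').comp ψ) hkerle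
  have hψ' : ψ'.comp π = (Ideal.Quotient.mkₐ R I').comp ψ := by
    ext x
    simp [ψ']
  obtain ⟨f, hf⟩ := Algebra.FormallySmooth.exists_lift I' hI'nil ψ'
  refine ⟨f, ?_⟩
  have hfac : (Ideal.Quotient.factorₐ R hI'I).comp (Ideal.Quotient.mkₐ R I') = Ideal.Quotient.mkₐ R I := by
    ext x; rfl
  have : ((Ideal.Quotient.mkₐ R I).comp f).comp π = g.comp π := by
    calc ((Ideal.Quotient.mkₐ R I).comp f).comp π
        = (Ideal.Quotient.factorₐ R hI'I).comp (((Ideal.Quotient.mkₐ R I').comp f).comp π) := by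
          rw [← hfac]; rfl
      _ = (Ideal.Quotient.factorₐ R hI'I).comp ((Ideal.Quotient.mkₐ R I').comp ψ) := by
          rw [hf, hψ']
      _ = (Ideal.Quotient.mkₐ R I).comp ψ := by rw [← hfac]; rfl
      _ = g.comp π := hψ
  exact AlgHom.cancel_right hπ |>.mp this

end Groth.Agent.S2097
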