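import Groth.Statements.S2098
import Mathlib
import Groth.Agent.Lib.helper5.ARLift

set_option autoImplicit false
universe u
open CAlg

namespace Groth.Agent.S2098

/-- Let `R` be Noetherian, `I` an ideal inside the Jacobson radical and `u : N → M` a map of finite
`R`-modules. If for arbitrarily large `n` the induced map `N/IⁿN → M/IⁿM` has a left inverse, then
`u` has a left inverse. -/
theorem result {R M N : Type u} [CommRing R] [IsNoetherianRing R] (I : Ideal R)
    (hI : I ≤ (⊥ : Ideal R).jacobson) [AddCommGroup M] [Module R M] [Module.Finite R M] [AddCommGroup N] [Module R N]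
    [Module.Finite R N] (u : N →ₗ[R] M)
    (h : ∀ n₀ : ℕ, ∃ n, n₀ ≤ n ∧ ∃ s : (M ⧸ (I ^ n) • (⊤ : Submodule R M)) →ₗ[R] (N ⧸ (I ^ n) • (⊤ : Submodule R N)),
      ∀ x : N, s (Submodule.Quotient.mk (u x)) = Submodule.Quotient.mk x) :
    ∃ s : M →ₗ[R] N, s.comp u = LinearMap.id := by
  classical
  obtain ⟨c, hc⟩ := H5AR.exists_lift I M N
  obtain ⟨n, hn, s, hs⟩ := h (c + 1)
  have hle : (I ^ n • ⊤ : Submodule R N) ≤
      Submodule.comap (LinearMap.id : N →ₗ[R] N) (I ^ (c + 1) • ⊤ : Submodule R N) := by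
    rw [Submodule.comap_id]
    exact Submodule.smul_mono (Ideal.pow_le_pow_right hn) le_rfl
  let γ : M →ₗ[R] (N ⧸ (I ^ (c + 1) • ⊤ : Submodule R N)) :=
    (Submodule.mapQ _ _ LinearMap.id hle) ∘ₗ s ∘ₗ (Submodule.mkQ (I ^ n • ⊤ : Submodule R M))
  have hγ : ∀ x : N, γ (u x) = Submodule.Quotient.mk x := by
    intro x
    show Submodule.mapQ _ _ LinearMap.id hle (s (Submodule.Quotient.mk (u x))) = _
    rw [hs, Submodule.mapQ_apply, LinearMap.id_apply]
  obtain ⟨φ, hφ⟩ := hc γ
  have hmod : ∀ x : N, x - φ (u x) ∈ (I • ⊤ : Submodule R N) := by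
    intro x
    obtain ⟨y, hy, hxy⟩ := hφ (u x)
    rw [hγ, Submodule.Quotient.eq] at hxy
    have h1 : x - (φ (u x) + y) ∈ (I • ⊤ : Submodule R N) := by
      refine Submodule.smul_mono ?_ le_rfl hxy
      calc I ^ (c + 1) ≤ I ^ 1 := Ideal.pow_le_pow_right (Nat.succ_le_succ (Nat.zero_le c))
        _ = I := pow_one I
    have : x - φ (u x) = (x - (φ (u x) + y)) + y := by abel
    rw [this]
    exact Submodule.add_mem _ h1 hy
  let w : N →ₗ[R] N := φ ∘ₗ u
  have hsurj : Function.Surjective w := by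
    rw [← LinearMap.range_eq_top, eq_top_iff]
    apply Submodule.le_of_le_smul_of_le_jacobson_bot Module.Finite.fg_top hI
    intro x _
    have : x = w x + (x - w x) := by abel
    rw [this]
    exact Submodule.add_mem_sup (LinearMap.mem_range_self w x) (hmod x)
  have hinj : Function.Injective w := OrzechProperty.injective_of_surjective_endomorphism w hsurj
  let e : N ≃ₗ[R] N := LinearEquiv.ofBijective w ⟨hinj, hsurj⟩
  refine ⟨e.symm.toLinearMap ∘ₗ φ, ?_⟩
  ext x
  show e.symm (φ (u x)) = x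
  rw [LinearEquiv.symm_apply_eq]
  rfl

end Groth.Agent.S2098
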