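import Groth.Statements.S2102
import Mathlib

set_option autoImplicit false
universe u
open CategoryTheory AlgebraicGeometry
open Mor

namespace Groth.Agent.S2102

/-- The ring of global sections of an integral normal scheme is an integrally closed domain. -/
theorem result (X : Scheme.{u}) [IsIntegral X] (hX : Pi1.IsNormalScheme X) :
    IsIntegrallyClosed (Γ(X, ⊤) : Type u) := by
  classical
  haveI : Nonempty X := inferInstance
  haveI hne : Nonempty (⊤ : X.Opens) := ⟨⟨Classical.arbitrary X, trivial⟩⟩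
  have hinj : Function.Injective (algebraMap Γ(X, ⊤) X.functionField) :=
    X.germToFunctionField_injective ⊤
  rw [isIntegrallyClosed_iff (FractionRing Γ(X, ⊤))]
  intro s hs
  have hinj' : Function.Injective (Algebra.ofId Γ(X, ⊤) X.functionField) := hinj
  let ι : FractionRing Γ(X, ⊤) →ₐ[Γ(X, ⊤)] X.functionField := IsFractionRing.liftAlgHom hinj'
  have hσ : IsIntegral Γ(X, ⊤) (ι s) := hs.map ι
  have key : ∀ x : X, ∃ sx : X.presheaf.stalk x, algebraMap _ X.functionField sx = ι s := by
    intro x
    haveI := (hX x).1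
    haveI := (hX x).2
    letI := TopCat.Presheaf.algebra_section_stalk X.presheaf (⟨x, trivial⟩ : (⊤ : X.Opens))
    haveI := functionField_isScalarTower X ⊤ ⟨x, trivial⟩
    have : IsIntegral (X.presheaf.stalk x) (ι s) := hσ.tower_top
    exact IsIntegrallyClosed.algebraMap_eq_of_integral this
  choose sx hsx using key
  have key2 : ∀ x : X, ∃ (U : X.Opens) (hxU : x ∈ U) (t : Γ(X, U)),
      X.presheaf.germ U x hxU t = sx x := fun x => X.presheaf.exists_germ_eq (sx x)
  choose U hxU t ht using key2
  have hgen : ∀ x, genericPoint X ∈ U x := fun x =>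
    ((genericPoint_spec X).mem_open_set_iff (U x).isOpen).mpr (by simpa using ⟨x, hxU x⟩)
  have htK : ∀ x, X.presheaf.germ (U x) (genericPoint X) (hgen x) (t x) = ι s := by
    intro x
    haveI : Nonempty (U x) := ⟨⟨x, hxU x⟩⟩
    rw [← hsx x, ← ht x, Scheme.algebraMap_germ_eq_germToFunctionField]
  have hcompat : TopCat.Presheaf.IsCompatible X.sheaf.1 U t := by
    intro i j
    have hmem : genericPoint X ∈ U i ⊓ U j := ⟨hgen i, hgen j⟩
    apply germ_injective_of_isIntegral X (genericPoint X) hmem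
    have h1 := X.presheaf.germ_res_apply (TopologicalSpace.Opens.infLELeft (U i) (U j))
      (genericPoint X) hmem (t i)
    have h2 := X.presheaf.germ_res_apply (TopologicalSpace.Opens.infLERight (U i) (U j))
      (genericPoint X) hmem (t j)
    exact (h1.trans (htK i)).trans ((h2.trans (htK j)).symm)
  have hcover : (⊤ : X.Opens) ≤ iSup U := by
    intro x _
    exact TopologicalSpace.Opens.mem_iSup.mpr ⟨x, hxU x⟩
  obtain ⟨gl0, hgl0, -⟩ := X.sheaf.existsUnique_gluing' U ⊤ (fun x => homOfLE le_top) hcover t hcompat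
  obtain ⟨gl, hgl⟩ : ∃ gl : Γ(X, ⊤), ∀ x, X.presheaf.map (homOfLE (le_top : U x ≤ ⊤)).op gl = t x :=
    ⟨gl0, hgl0⟩
  refine ⟨gl, ?_⟩
  apply ι.toRingHom.injective
  change ι (algebraMap _ _ (gl : Γ(X, ⊤))) = ι s
  rw [AlgHom.commutes]
  let x0 : X := Classical.arbitrary X
  have h3 := X.presheaf.germ_res_apply (homOfLE (le_top : U x0 ≤ ⊤)) (genericPoint X) (hgen x0) gl
  have h4 : X.presheaf.map (homOfLE (le_top : U x0 ≤ ⊤)).op gl = t x0 := hgl x0
  rw [h4, htK x0] at h3
  exact h3.symm

end Groth.Agent.S2102
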