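import Groth.Statements.S2111
import Mathlib
import Groth.Agent.Lib.helper4.AssNormal

set_option autoImplicit false
universe u
open CAlg

namespace Groth.Agent.S2111

/-- Let `R` be a Noetherian normal domain with fraction field `K`. An element of `K` which lies in `R_𝔭`
for every prime `𝔭` of height one lies in `R`. -/
theorem result {R : Type u} [CommRing R] [IsDomain R] [IsNoetherianRing R]
    [IsIntegrallyClosed R] (x : FractionRing R)
    (hx : ∀ (p : Ideal R) [p.IsPrime], p.height = 1 →
      x ∈ Set.range (algebraMap (Localization.AtPrime p) (FractionRing R))) :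
    x ∈ Set.range (algebraMap R (FractionRing R)) := by
  classical
  obtain ⟨a, b, hb, rfl⟩ := IsFractionRing.div_surjective (A := R) x
  have hb0 : b ≠ 0 := nonZeroDivisors.ne_zero hb
  have hbK : algebraMap R (FractionRing R) b ≠ 0 := by simpa using hb0
  by_cases hdvd : b ∣ a
  · obtain ⟨c, rfl⟩ := hdvd
    refine ⟨c, ?_⟩
    rw [map_mul, mul_div_cancel_left₀ _ hbK]
  · exfalso
    have hne : (Ideal.Quotient.mk (Ideal.span ({b} : Set R)) a) ≠ 0 := by
      rw [Ne, Ideal.Quotient.eq_zero_iff_mem, Ideal.mem_span_singleton]
      exact hdvd
    obtain ⟨P, hP, hle⟩ := exists_le_isAssociatedPrime_of_isNoetherianRing R _ hne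
    have hPp : P.IsPrime := hP.isPrime
    have hh : P.height = 1 := Groth.Agent.H4.H4_height_one_of_mem_ass R b hb0 P hP
    obtain ⟨w, hw⟩ := hx P hh
    obtain ⟨c, s, rfl⟩ := IsLocalization.exists_mk'_eq P.primeCompl w
    have hs : (s : R) ∈ P := by
      apply hle
      rw [Groth.Agent.H4.H4_mem_colon_quot_iff]
      refine ⟨c, ?_⟩
      apply IsFractionRing.injective R (FractionRing R)
      have hsK : algebraMap R (FractionRing R) (s : R) ≠ 0 := by
        have : (s : R) ≠ 0 := fun h => s.2 (by rw [h]; exact P.zero_mem)
        simpa using this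
      have h1 : algebraMap (Localization.AtPrime P) (FractionRing R)
          (IsLocalization.mk' (Localization.AtPrime P) c s) * algebraMap R (FractionRing R) (s : R) =
          algebraMap R (FractionRing R) c := by
        rw [IsScalarTower.algebraMap_apply R (Localization.AtPrime P) (FractionRing R) (s : R),
          ← map_mul, IsLocalization.mk'_spec,
          ← IsScalarTower.algebraMap_apply R (Localization.AtPrime P) (FractionRing R)]
      rw [hw] at h1
      rw [map_mul, map_mul, ← h1]
      field_simp
    exact s.2 hs

end Groth.Agent.S2111
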