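import Groth.Statements.S2117
import Mathlib
import Groth.Agent.Lib.helper6.KaehlerPrime

set_option autoImplicit false
universe u
open CAlg

namespace Groth.Agent.S2117

/-- Let k be a field of characteristic p > 0 and K a field extension of k. Then K is geometrically
reduced over k (equivalently, K/k is separable: every finitely generated subextension is separably
generated) if and only if the natural base-change map K ⊗_k Ω_{k/ℤ} → Ω_{K/ℤ} on absolute Kähler
differentials is injective. -/
theorem result {k K : Type u} [Field k] [Field K] [Algebra k K] (p : ℕ)
    [Fact p.Prime] [CharP k p] :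
    Algebra.IsGeometricallyReduced k K ↔ Function.Injective (KaehlerDifferential.mapBaseChange ℤ k K) := by
  constructor
  · intro h
    exact Groth.Agent.Lib.helper6.H6_kaehler_inj_of_geomRed ℤ k K
  · intro hinj
    letI : Algebra (ZMod p) k := ZMod.algebra k p
    letI : Algebra (ZMod p) K := ((algebraMap k K).comp (algebraMap (ZMod p) k)).toAlgebra
    haveI : IsScalarTower (ZMod p) k K := IsScalarTower.of_algebraMap_eq (fun _ => rfl)
    have hs : Function.Surjective (algebraMap ℤ (ZMod p)) := fun x => by
      obtain ⟨n, rfl⟩ := ZMod.intCast_surjective x
      exact ⟨n, by simp⟩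
    exact Groth.Agent.Lib.helper6.H6_geomRed_of_kaehler_inj (ZMod p) k K
      (Groth.Agent.Lib.helper6.H6_mapBaseChange_inj_of_surj ℤ (ZMod p) k K hs hinj)

end Groth.Agent.S2117
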