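import Groth.Statements.S2120
import Mathlib

set_option autoImplicit false
universe u
open CategoryTheory AlgebraicGeometry
open Mor

namespace Groth.Agent.S2120

/-- Let `f : X → Y` be surjective and universally closed. If `X` is quasi-separated then so is `Y`; if
`X` is separated then so is `Y`. -/
theorem result {X Y : Scheme.{u}} (f : X ⟶ Y) [Surjective f] [UniversallyClosed f] :
    (QuasiSeparatedSpace X → QuasiSeparatedSpace Y) ∧ (X.IsSeparated → Y.IsSeparated) := by
  open Limits in
  refine ⟨fun hX => ?_, fun hX => ?_⟩
  · refine ⟨fun U V hU hUc hV hVc => ?_⟩
    have h1 : IsCompact (f ⁻¹' U) := QuasiCompact.isCompact_preimage (f := f) U hU hUc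
    have h2 : IsCompact (f ⁻¹' V) := QuasiCompact.isCompact_preimage (f := f) V hV hVc
    have h3 : IsCompact (f ⁻¹' U ∩ f ⁻¹' V) :=
      QuasiSeparatedSpace.inter_isCompact _ _ (hU.preimage f.continuous) h1
        (hV.preimage f.continuous) h2
    have h4 : U ∩ V = f '' (f ⁻¹' U ∩ f ⁻¹' V) := by
      rw [← Set.preimage_inter, Set.image_preimage_eq _ f.surjective]
    rw [h4]
    exact h3.image f.continuous
  · refine ⟨⟨?_⟩⟩
    have e1 : terminal.from X = f ≫ terminal.from Y := by simp
    have hmap : UniversallyClosed (pullback.map (terminal.from X) (terminal.from X)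
        (terminal.from Y) (terminal.from Y) f f (𝟙 _) ((Category.comp_id _).trans e1)
          ((Category.comp_id _).trans e1)) :=
      MorphismProperty.pullbackMap (P := @UniversallyClosed) ‹_› ‹_› e1 e1
    apply IsClosedImmersion.of_isPreimmersion
    have hcomm : pullback.diagonal (terminal.from X) ≫ pullback.map (terminal.from X) (terminal.from X)
        (terminal.from Y) (terminal.from Y) f f (𝟙 _) ((Category.comp_id _).trans e1)
          ((Category.comp_id _).trans e1) =
        f ≫ pullback.diagonal (terminal.from Y) := by
      ext
      · rw [Category.assoc, pullback.lift_fst, pullback.diagonal_fst_assoc, Category.assoc,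
          pullback.diagonal_fst, Category.comp_id]
      · rw [Category.assoc, pullback.lift_snd, pullback.diagonal_snd_assoc, Category.assoc,
          pullback.diagonal_snd, Category.comp_id]
    have hr : Set.range (pullback.diagonal (terminal.from Y)) =
        (pullback.map (terminal.from X) (terminal.from X)
        (terminal.from Y) (terminal.from Y) f f (𝟙 _) ((Category.comp_id _).trans e1)
          ((Category.comp_id _).trans e1)) ''
          Set.range (pullback.diagonal (terminal.from X)) := by
      have h5 := congrArg (fun g : X ⟶ _ => Set.range g) hcomm
      simp only [Scheme.Hom.comp_base, TopCat.hom_comp, ContinuousMap.coe_comp] at h5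
      rw [Set.range_comp, Set.range_comp, Set.range_eq_univ.mpr f.surjective, Set.image_univ] at h5
      exact h5.symm
    rw [hr]
    exact (pullback.map (terminal.from X) (terminal.from X)
        (terminal.from Y) (terminal.from Y) f f (𝟙 _) ((Category.comp_id _).trans e1)
          ((Category.comp_id _).trans e1)).isClosedMap _
      (pullback.diagonal (terminal.from X)).isClosedEmbedding.isClosed_range

end Groth.Agent.S2120
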