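import Groth.Statements.S2134
import Mathlib
import Groth.Agent.Lib.helper5.FieldDescent

set_option autoImplicit false
universe u
open CAlg

namespace Groth.Agent.S2134

/-- Let `K/k` be a field extension and `(K_α)` a nonempty family of intermediate fields, directed
downwards, with intersection `k`. For a `K`-subspace `V` of `K^n` (`n ≥ 1`), `V` contains a nonzero
vector with all coordinates in `k` if and only if for every `α` it contains a nonzero vector with
all coordinates in `K_α`. -/
theorem result {k K : Type u} [Field k] [Field K] [Algebra k K] {ι : Type u} [Nonempty ι]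
    (F : ι → IntermediateField k K) (hdir : ∀ a b : ι, ∃ c, F c ≤ F a ⊓ F b) (hinf : ⨅ a, F a = ⊥) (n : ℕ) (hn : 1 ≤ n)
    (V : Submodule K (Fin n → K)) :
    (∃ v ∈ V, v ≠ 0 ∧ ∀ i, v i ∈ Set.range (algebraMap k K)) ↔
      ∀ a, ∃ v ∈ V, v ≠ 0 ∧ ∀ i, v i ∈ F a := by
  constructor
  · rintro ⟨v, hvV, hv0, hv⟩ a
    refine ⟨v, hvV, hv0, fun i => ?_⟩
    obtain ⟨c, hc⟩ := hv i
    rw [← hc]
    exact (F a).algebraMap_mem c
  · intro H
    exact H5FD.descent F V hdir hinf H

end Groth.Agent.S2134
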