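import Groth.Statements.S2159

set_option autoImplicit false
universe u
open CAlg

namespace Groth.Agent.S2159

/-- Given surjections `p₁ : P₁ → M` and `p₂ : P₂ → M` from projective modules, with kernels `K` and `L`,
there is an isomorphism `K ⊕ P₂ ≅ L ⊕ P₁`. -/
theorem result {R M P₁ P₂ : Type u} [CommRing R] [AddCommGroup M] [Module R M] [AddCommGroup P₁] [Module R P₁]
    [Module.Projective R P₁] [AddCommGroup P₂] [Module R P₂] [Module.Projective R P₂] (p₁ : P₁ →ₗ[R] M) (p₂ : P₂ →ₗ[R] M)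
    (h₁ : Function.Surjective p₁) (h₂ : Function.Surjective p₂) :
    Nonempty ((LinearMap.ker p₁ × P₂) ≃ₗ[R] (LinearMap.ker p₂ × P₁)) := by
  obtain ⟨a, ha⟩ := Module.projective_lifting_property p₂ p₁ h₂
  obtain ⟨b, hb⟩ := Module.projective_lifting_property p₁ p₂ h₁
  have ha' : ∀ x, p₂ (a x) = p₁ x := fun x => LinearMap.congr_fun ha x
  have hb' : ∀ y, p₁ (b y) = p₂ y := fun y => LinearMap.congr_fun hb y
  refine ⟨{
    toFun := fun z => (⟨z.2 - a (z.1.1 + b z.2), ?_⟩, z.1.1 + b z.2)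
    map_add' := ?_
    map_smul' := ?_
    invFun := fun w => (⟨w.2 - b (w.1.1 + a w.2), ?_⟩, w.1.1 + a w.2)
    left_inv := ?_
    right_inv := ?_ }⟩
  · rw [LinearMap.mem_ker, map_sub, ha', map_add, hb', LinearMap.mem_ker.mp z.1.2]; simp
  · rintro ⟨⟨k, hk⟩, y⟩ ⟨⟨k', hk'⟩, y'⟩
    refine Prod.ext (Subtype.ext ?_) ?_
    · simp only [Prod.fst_add, Prod.snd_add, Submodule.coe_add, map_add]; abel
    · simp only [Prod.fst_add, Prod.snd_add, Submodule.coe_add, map_add]; abel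
  · rintro r ⟨⟨k, hk⟩, y⟩
    refine Prod.ext (Subtype.ext ?_) ?_
    · simp [smul_sub]
    · simp
  · rw [LinearMap.mem_ker, map_sub, hb', map_add, ha', LinearMap.mem_ker.mp w.1.2]; simp
  · rintro ⟨⟨k, hk⟩, y⟩
    refine Prod.ext (Subtype.ext ?_) ?_
    · simp
    · simp
  · rintro ⟨⟨l, hl⟩, x⟩
    refine Prod.ext (Subtype.ext ?_) ?_
    · simp
    · simp

end Groth.Agent.S2159
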