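import Groth.Statements.S2160
import Mathlib
import Groth.Agent.Lib.helper1.HeightOne

set_option autoImplicit false
universe u
open CAlg

namespace Groth.Agent.S2160

/-- Let `R` be a Noetherian local domain of Krull dimension at least `2`. Then every nonempty open
subset of `Spec R` is infinite. -/
theorem result {R : Type u} [CommRing R] [IsDomain R] [IsLocalRing R] [IsNoetherianRing R]
    (hdim : 2 ≤ ringKrullDim R) (U : Set (PrimeSpectrum R)) (hU : IsOpen U) (hne : U.Nonempty) : U.Infinite := by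
  classical
  obtain ⟨x, hxU⟩ := hne
  obtain ⟨_, ⟨f, rfl⟩, hxf, hfU⟩ :=
    PrimeSpectrum.isTopologicalBasis_basic_opens.exists_subset_of_mem_open hxU hU
  have hf0 : f ≠ 0 := by
    rintro rfl
    exact hxf (Ideal.zero_mem _)
  have hQ : 2 ≤ (IsLocalRing.maximalIdeal R).height := by
    have h := IsLocalRing.maximalIdeal_height_eq_ringKrullDim (R := R)
    rw [← h] at hdim
    have h2 : ((2 : ℕ∞) : WithBot ℕ∞) ≤ ((IsLocalRing.maximalIdeal R).height : WithBot ℕ∞) := hdim
    exact WithBot.coe_le_coe.mp h2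
  have hinf := Groth.Agent.H1.H1_infinite_height_one_le R (IsLocalRing.maximalIdeal R) hQ
  have hfin : ({p : Ideal R | p.IsPrime ∧ p.height = 1 ∧ p ≤ IsLocalRing.maximalIdeal R} ∩
      {p | f ∈ p}).Finite := by
    refine (Ideal.finite_minimalPrimes_of_isNoetherianRing R (Ideal.span {f})).subset ?_
    rintro p ⟨⟨hp, hp1, -⟩, hfp⟩
    haveI := hp
    refine Ideal.mem_minimalPrimes_of_height_le ((Ideal.span_singleton_le_iff_mem _).mpr hfp) ?_
    rw [hp1]
    exact Ideal.one_le_height_span_singleton_of_mem_nonZeroDivisors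
      (mem_nonZeroDivisors_of_ne_zero hf0)
  have hinf2 := hinf.sdiff hfin
  let g : Ideal R → PrimeSpectrum R := fun p => if h : p.IsPrime then ⟨p, h⟩ else x
  refine Set.infinite_of_injOn_mapsTo (f := g) ?_ ?_ hinf2
  · rintro p ⟨⟨hp, -, -⟩, -⟩ q ⟨⟨hq, -, -⟩, -⟩ hpq
    simp only [g, dif_pos hp, dif_pos hq] at hpq
    exact congrArg PrimeSpectrum.asIdeal hpq
  · rintro p ⟨⟨hp, hp1, hpQ⟩, hfp⟩
    apply hfU
    simp only [g, dif_pos hp]
    intro hmem
    exact hfp ⟨⟨hp, hp1, hpQ⟩, hmem⟩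

end Groth.Agent.S2160
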