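import Groth.Statements.S2162
import Mathlib
import Groth.Agent.Lib.helper6.GeomRedFS3

set_option autoImplicit false
universe u
open CAlg

namespace Groth.Agent.S2162

/-- Let `R → S` be an injective ring map of finite type between domains, with fraction fields `K ⊆ L`.
Then `R → S` is smooth at the zero ideal of `S` if and only if `L` is geometrically reduced over `K`
(the published statement phrases the condition as `L/K` being separable; here separability is
expressed as geometric reducedness). -/
theorem result {R S K L : Type u} [CommRing R] [IsDomain R] [CommRing S]
    [IsDomain S] [Algebra R S] [FaithfulSMul R S] [Algebra.FiniteType R S] [Field K] [Field L] [Algebra R K] [IsFractionRing R K]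
    [Algebra S L] [IsFractionRing S L] [Algebra K L] [Algebra R L] [IsScalarTower R S L] [IsScalarTower R K L] :
    Algebra.IsSmoothAt R (⊥ : Ideal S) ↔ Algebra.IsGeometricallyReduced K L := by
  classical
  haveI : Algebra.EssFiniteType S L := Algebra.EssFiniteType.of_isLocalization L (nonZeroDivisors S)
  haveI : Algebra.EssFiniteType R L := Algebra.EssFiniteType.comp R S L
  haveI : Algebra.EssFiniteType K L := Algebra.EssFiniteType.of_comp R K L
  haveI hfr : IsFractionRing S (Localization.AtPrime (⊥ : Ideal S)) := by
    simpa [Ideal.primeCompl_bot] using Localization.isLocalization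
      (M := (⊥ : Ideal S).primeCompl)
  let e : Localization.AtPrime (⊥ : Ideal S) ≃ₐ[S] L :=
    IsLocalization.algEquiv (nonZeroDivisors S) _ _
  have h1 : Algebra.IsSmoothAt R (⊥ : Ideal S) ↔ Algebra.FormallySmooth R L :=
    Algebra.FormallySmooth.iff_of_equiv (e.restrictScalars R)
  have h2 : Algebra.FormallySmooth R L ↔ Algebra.FormallySmooth K L := by
    constructor
    · intro h
      exact Algebra.FormallySmooth.localization_base (R := R) (Rₘ := K) (Sₘ := L)
        (nonZeroDivisors R)
    · intro h
      haveI : Algebra.FormallySmooth R K :=
        Algebra.FormallySmooth.of_isLocalization (nonZeroDivisors R)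
      exact Algebra.FormallySmooth.comp R K L
  rw [h1, h2]
  constructor
  · intro h
    exact Groth.Agent.Lib.helper6.H6_geomRed_of_fs_essFT K L
  · intro h
    exact Groth.Agent.Lib.helper6.H6_fs_field_of_geomReduced K L

end Groth.Agent.S2162
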