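import Groth.Statements.S2170
import Groth.Agent.Lib.helper1.SymMat

set_option autoImplicit false
open Finset
open Models

namespace Groth.Agent.S2170

/-- Let A be a symmetric real n × n matrix with non-negative off-diagonal entries and m a vector with
positive entries such that for every i, ∑_{j ≠ i} A_{ij} m_j ≤ −A_{ii} m_i. Then the kernel of A is
the span of the vectors equal to m on an index set I and zero off I, for those I such that A_{ij} =
0 whenever i ∈ I and j ∉ I and such that equality holds in the above inequality for every i ∈ I. The
published statement omits the symmetry of A (without which it fails) and applies it only to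
symmetric matrices; stated here with A symmetric. -/
theorem result {n : ℕ} (A : Matrix (Fin n) (Fin n) ℝ) (m : Fin n → ℝ)
    (hsymm : A.IsSymm) (hA : ∀ i j, i ≠ j → 0 ≤ A i j) (hm : ∀ i, 0 < m i)
    (hle : ∀ i, ∑ j ∈ univ.erase i, A i j * m j ≤ -(A i i * m i)) :
    LinearMap.ker (Matrix.mulVecLin A) = Submodule.span ℝ
      {x : Fin n → ℝ | ∃ I : Finset (Fin n), (∀ i ∈ I, ∀ j ∉ I, A i j = 0) ∧
        (∀ i ∈ I, ∑ j ∈ univ.erase i, A i j * m j = -(A i i * m i)) ∧
        x = fun i => if i ∈ I then m i else 0} := by
  classical
  have hsplit : ∀ i, ∑ j, A i j * m j = A i i * m i + ∑ j ∈ univ.erase i, A i j * m j := by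
    intro i
    exact (Finset.add_sum_erase univ (fun j => A i j * m j) (mem_univ i)).symm
  have hr : ∀ i, ∑ j, A i j * m j ≤ 0 := by
    intro i
    rw [hsplit i]
    have := hle i
    linarith
  have hs : ∀ i j, A j i = A i j := fun i j => hsymm.apply i j
  apply le_antisymm
  · -- kernel ⊆ span
    intro x hxker
    have hAx : A.mulVec x = 0 := by simpa using hxker
    set y : Fin n → ℝ := fun i => x i / m i with hy
    have hx : ∀ i, x i = y i * m i := by
      intro i
      simp only [hy]
      field_simp [(hm i).ne']
    have hdot : dotProduct x (A.mulVec x) = ∑ i, ∑ j, (y i * m i) * (A i j * (y j * m j)) := by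
      rw [Groth.Agent.H1.H1_dot_mulVec]
      refine Finset.sum_congr rfl fun i _ => Finset.sum_congr rfl fun j _ => ?_
      rw [hx i, hx j]
    have h0 : ∑ i, ∑ j, (y i * m i) * (A i j * (y j * m j)) = 0 := by
      rw [← hdot, hAx]; simp
    obtain ⟨heq, hconst⟩ := (Groth.Agent.H1.H1_quad_nonpos_and_eq A hsymm hA m hm hr y).2 h0
    have hxsum : x = ∑ c ∈ univ.image y,
        c • (fun i => if i ∈ univ.filter (fun k => y k = c) then m i else 0) := by
      funext i
      rw [Finset.sum_apply]
      simp only [Pi.smul_apply, smul_eq_mul, mem_filter, mem_univ, true_and, mul_ite, mul_zero]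
      rw [Finset.sum_ite_eq]
      simp only [mem_image, mem_univ, true_and, exists_apply_eq_apply, if_true]
      exact hx i
    rw [hxsum]
    refine Submodule.sum_mem _ fun c _ => ?_
    by_cases hc : c = 0
    · rw [hc, zero_smul]; exact Submodule.zero_mem _
    · refine Submodule.smul_mem _ _ (Submodule.subset_span ?_)
      refine ⟨univ.filter (fun k => y k = c), ?_, ?_, rfl⟩
      · intro i hi j hj
        simp only [mem_filter, mem_univ, true_and] at hi hj
        by_contra hAij
        have hij : i ≠ j := by
          rintro rfl; exact hj hi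
        exact hj ((hconst i j hij hAij) ▸ hi)
      · intro i hi
        simp only [mem_filter, mem_univ, true_and] at hi
        have hyi : y i ≠ 0 := by rw [hi]; exact hc
        have := heq i hyi
        rw [hsplit i] at this
        linarith
  · -- span ⊆ kernel
    rw [Submodule.span_le]
    rintro x ⟨I, hclosed, heqI, rfl⟩
    show (Matrix.mulVecLin A) _ = 0
    rw [Matrix.mulVecLin_apply]
    funext i
    simp only [Matrix.mulVec, dotProduct, Pi.zero_apply, mul_ite, mul_zero]
    by_cases hi : i ∈ I
    · have h1 : ∑ j, (if j ∈ I then A i j * m j else 0) = ∑ j, A i j * m j := by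
        refine Finset.sum_congr rfl fun j _ => ?_
        by_cases hj : j ∈ I
        · simp [hj]
        · simp [hj, hclosed i hi j hj]
      rw [h1, hsplit i, heqI i hi]; ring
    · refine Finset.sum_eq_zero fun j _ => ?_
      by_cases hj : j ∈ I
      · have : A i j = 0 := (hs i j).symm.trans (hclosed j hj i hi)
        simp [hj, this]
      · simp [hj]

end Groth.Agent.S2170
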