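import Groth.Statements.S2179
import Groth.Agent.Lib.helper1.Models

set_option autoImplicit false
open Finset
open Models Models.NumericalType

namespace Groth.Agent.S2179

/-- For a numerical type T, the map Z^n -> Z^n multiplying the i-th coordinate by w i induces a
well-defined injective homomorphism from Pic(T), the cokernel of (a i j / w i), to the cokernel of
the matrix a. -/
theorem result {n : ℕ} (T : Models.NumericalType n) :
    ∃ f : T.Pic →+ T.CokerA, Function.Injective f ∧
      ∀ x : Fin n → ℤ, f (Submodule.Quotient.mk x) = Submodule.Quotient.mk (fun i => T.w i * x i) := by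
  classical
  let W : (Fin n → ℤ) →ₗ[ℤ] (Fin n → ℤ) :=
    { toFun := fun x i => T.w i * x i
      map_add' := fun x y => by ext i; simp [mul_add]
      map_smul' := fun c x => by ext i; simp; ring }
  have hW : ∀ y : Fin n → ℤ, W (T.picMatrix.mulVec y) = T.a.mulVec y := by
    intro y
    ext i
    show T.w i * (T.picMatrix.mulVec y) i = (T.a.mulVec y) i
    simp only [Matrix.mulVec, dotProduct, Finset.mul_sum]
    refine Finset.sum_congr rfl fun j _ => ?_
    show T.w i * (T.a i j / T.w i * y j) = T.a i j * y j
    rw [← mul_assoc, Int.mul_ediv_cancel' (T.w_dvd i j)]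
  have hle : LinearMap.range (Matrix.mulVecLin T.picMatrix) ≤
      (LinearMap.range (Matrix.mulVecLin T.a)).comap W := by
    rintro _ ⟨y, rfl⟩
    exact ⟨y, by simp [hW]⟩
  let F := Submodule.mapQ _ _ W hle
  refine ⟨F.toAddMonoidHom, ?_, fun x => rfl⟩
  rw [injective_iff_map_eq_zero]
  intro z hz
  obtain ⟨x, rfl⟩ := Submodule.Quotient.mk_surjective _ z
  have hz' : (Submodule.Quotient.mk (W x) : T.CokerA) = 0 := hz
  rw [Submodule.Quotient.mk_eq_zero] at hz' ⊢
  obtain ⟨y, hy⟩ := hz'
  refine ⟨y, ?_⟩
  have hy' : T.a.mulVec y = W x := by simpa using hy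
  rw [← hW] at hy'
  show T.picMatrix.mulVec y = x
  ext i
  have := congrFun hy' i
  have h2 : T.w i * (T.picMatrix.mulVec y) i = T.w i * x i := this
  exact mul_left_cancel₀ (T.w_pos i).ne' h2

end Groth.Agent.S2179
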