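import Groth.Statements.S2182
import Groth.Agent.Lib.helper1.Models

set_option autoImplicit false
open Finset
open Models Models.NumericalType

namespace Groth.Agent.S2182

/-- In a numerical type, whenever a i j > 0 one has m i * a i j at most m j * |a j j| and m i * w i at
most m j * |a j j|. -/
theorem result {n : ℕ} (T : Models.NumericalType n) (i j : Fin n) (hij : 0 < T.a i j) :
    T.m i * T.a i j ≤ T.m j * |T.a j j| ∧ T.m i * T.w i ≤ T.m j * |T.a j j| := by
  have hmi := T.m_pos i
  have hmj := T.m_pos j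
  have hfirst : T.m i * T.a i j ≤ T.m j * |T.a j j| := by
    by_cases hij' : i = j
    · subst hij'
      exact mul_le_mul_of_nonneg_left (le_abs_self _) hmi.le
    · have h1 := Groth.Agent.H1.H1_mul_le T i j hij'
      have h2 : -T.a j j ≤ |T.a j j| := neg_le_abs _
      calc T.m i * T.a i j ≤ T.m j * (-T.a j j) := h1
        _ ≤ T.m j * |T.a j j| := mul_le_mul_of_nonneg_left h2 hmj.le
  refine ⟨hfirst, ?_⟩
  have hw : T.w i ≤ T.a i j := Int.le_of_dvd hij (T.w_dvd i j)
  calc T.m i * T.w i ≤ T.m i * T.a i j := mul_le_mul_of_nonneg_left hw hmi.le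
    _ ≤ T.m j * |T.a j j| := hfirst

end Groth.Agent.S2182
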