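import Groth.Statements.S2203
import Mathlib

set_option autoImplicit false
universe u
open CategoryTheory
open QCohCat


open CategoryTheory in
theorem Groth.Agent.H1.H1_center_comp {C D : Type*} [Category C] [Category D]
    (F : C ≌ D)
    [hF : F.functor.IsLocalization (MorphismProperty.isomorphisms C)]
    [hG : F.inverse.IsLocalization (MorphismProperty.isomorphisms D)] (r : CatCenter C) :
    (r.localization F.functor (MorphismProperty.isomorphisms C)).localization F.inverse
      (MorphismProperty.isomorphisms D) = r := by
  apply CatCenter.ext
  intro X
  have h1 := CatCenter.naturality ((r.localization F.functor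
    (MorphismProperty.isomorphisms C)).localization F.inverse
      (MorphismProperty.isomorphisms D)) (F.unit.app X)
  have h2 : ((r.localization F.functor (MorphismProperty.isomorphisms C)).localization F.inverse
      (MorphismProperty.isomorphisms D)).app (F.inverse.obj (F.functor.obj X)) =
      F.inverse.map (F.functor.map (r.app X)) := by
    rw [CatCenter.localization_app, CatCenter.localization_app]
  have h3 : F.unit.app X ≫ F.inverse.map (F.functor.map (r.app X)) = r.app X ≫ F.unit.app X :=
    (F.unit.naturality (r.app X)).symm
  have h4 : ((r.localization F.functor (MorphismProperty.isomorphisms C)).localization F.inverse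
      (MorphismProperty.isomorphisms D)).app X ≫ F.unit.app X = r.app X ≫ F.unit.app X := by
    rw [← h3, ← h2]
    exact h1.symm
  exact (cancel_mono (F.unit.app X)).mp h4

open CategoryTheory in
theorem Groth.Agent.H1.H1_toCatCenter_bijective (A : Type u) [CommRing A] :
    Function.Bijective (Linear.toCatCenter A (ModuleCat.{u} A)) := by
  constructor
  · intro a a' h
    have h1 := congrArg (fun z : CatCenter (ModuleCat.{u} A) => (z.app (ModuleCat.of A A)).hom (1 : A)) h
    simpa using h1
  · intro η
    refine ⟨(η.app (ModuleCat.of A A)).hom (1 : A), ?_⟩
    apply CatCenter.ext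
    intro M
    ext m
    let fm : ModuleCat.of A A ⟶ M := ModuleCat.ofHom (LinearMap.toSpanSingleton A M m)
    have h1 := CatCenter.naturality η fm
    have h2 := congrArg (fun g : ModuleCat.of A A ⟶ M => g.hom (1 : A)) h1
    simp only [ModuleCat.hom_comp, LinearMap.comp_apply] at h2
    have h3 : fm.hom (1 : A) = m := by simp [fm]
    rw [h3] at h2
    rw [h2]
    simp [fm]

namespace Groth.Agent.S2203

/-- Ring-isomorphism part of the statement: let A and B be commutative rings whose categories of modules
are equivalent. Then A and B are isomorphic as rings. (The source moreover describes the equivalence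
as base change followed by tensoring with an invertible module.) -/
theorem result (A B : Type u) [CommRing A] [CommRing B]
    (F : ModuleCat.{u} A ≌ ModuleCat.{u} B) : Nonempty (A ≃+* B) := by
  classical
  haveI : F.functor.Additive := Functor.additive_of_preserves_binary_products _
  haveI : F.inverse.Additive := Functor.additive_of_preserves_binary_products _
  haveI hF : F.functor.IsLocalization (MorphismProperty.isomorphisms (ModuleCat.{u} A)) :=
    Functor.IsLocalization.of_isEquivalence _ _ le_rfl
  haveI hG : F.inverse.IsLocalization (MorphismProperty.isomorphisms (ModuleCat.{u} B)) :=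
    Functor.IsLocalization.of_isEquivalence _ _ le_rfl
  let eA : A ≃+* CatCenter (ModuleCat.{u} A) :=
    RingEquiv.ofBijective _ (Groth.Agent.H1.H1_toCatCenter_bijective A)
  let eB : B ≃+* CatCenter (ModuleCat.{u} B) :=
    RingEquiv.ofBijective _ (Groth.Agent.H1.H1_toCatCenter_bijective B)
  let Φ : CatCenter (ModuleCat.{u} A) →+* CatCenter (ModuleCat.{u} B) :=
    CatCenter.localizationRingHom F.functor (MorphismProperty.isomorphisms _)
  let Ψ : CatCenter (ModuleCat.{u} B) →+* CatCenter (ModuleCat.{u} A) :=
    CatCenter.localizationRingHom F.inverse (MorphismProperty.isomorphisms _)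
  have h1 : ∀ r, Ψ (Φ r) = r := fun r => Groth.Agent.H1.H1_center_comp F r
  have h2 : ∀ s, Φ (Ψ s) = s := fun s => by
    haveI : F.symm.functor.IsLocalization (MorphismProperty.isomorphisms (ModuleCat.{u} B)) := hG
    haveI : F.symm.inverse.IsLocalization (MorphismProperty.isomorphisms (ModuleCat.{u} A)) := hF
    exact Groth.Agent.H1.H1_center_comp F.symm s
  let e : CatCenter (ModuleCat.{u} A) ≃+* CatCenter (ModuleCat.{u} B) :=
    RingEquiv.ofRingHom Φ Ψ (RingHom.ext h2) (RingHom.ext h1)
  exact ⟨(eA.trans e).trans eB.symm⟩

end Groth.Agent.S2203
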