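import Groth.Statements.S2211
import Mathlib
import Groth.Agent.Lib.helper7.DPowNum

set_option autoImplicit false
universe u
open DPow

namespace Groth.Agent.S2211

/-- First part: let p be a prime and A a ring in which every integer prime to p is invertible, I an
ideal of A. Two divided power structures on I coincide exactly when their p-th divided power maps
agree on I. -/
theorem result {A : Type u} [CommRing A] (p : ℕ) (hp : p.Prime)
    (hA : ∀ n : ℕ, ¬ p ∣ n → IsUnit (n : A)) {I : Ideal A} (γ γ' : DividedPowers I) :
    γ = γ' ↔ ∀ x ∈ I, γ.dpow p x = γ'.dpow p x := by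
  constructor
  · intro h x _
    rw [h]
  · intro h
    apply DividedPowers.ext
    intro n
    induction n using Nat.strong_induction_on with
    | _ n ih =>
      intro x hx
      by_cases hn : n < p
      · have hu : IsUnit ((n.factorial : ℕ) : A) := by
          apply hA
          rw [hp.dvd_factorial]
          omega
        have h1 := γ.factorial_mul_dpow_eq_pow (n := n) hx
        have h2 := γ'.factorial_mul_dpow_eq_pow (n := n) hx
        exact hu.mul_left_cancel (h1.trans h2.symm)
      · push Not at hn
        set q := n / p with hq
        set r := n % p with hr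
        have hn' : n = p * q + r := (Nat.div_add_mod n p).symm
        have hrp : r < p := Nat.mod_lt n hp.pos
        have hq1 : 1 ≤ q := (Nat.one_le_div_iff hp.pos).2 hn
        have hqn : q < n := Nat.div_lt_self (by omega) hp.one_lt
        have hrn : r < n := lt_of_lt_of_le hrp hn
        have hu1 : IsUnit ((Nat.choose (p * q + r) (p * q) : ℕ) : A) :=
          hA _ (Groth.Agent.Lib.helper7.H7_not_dvd_of_modEq_one p hp _ (Groth.Agent.Lib.helper7.H7_choose_modEq_one p hp q r hrp))
        have hu2 : IsUnit ((Nat.uniformBell q p : ℕ) : A) :=
          hA _ (Groth.Agent.Lib.helper7.H7_not_dvd_of_modEq_one p hp _ (Groth.Agent.Lib.helper7.H7_uniformBell_modEq_one p hp q))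
        have e1 : ∀ δ : DividedPowers I, ((Nat.uniformBell q p : ℕ) : A) *
            (((Nat.choose (p * q + r) (p * q) : ℕ) : A) * δ.dpow n x) =
            δ.dpow q (δ.dpow p x) * δ.dpow r x := by
          intro δ
          rw [δ.dpow_comp hp.ne_zero hx, hn', ← δ.mul_dpow hx, mul_comm q p]
          ring
        have e2 : γ.dpow q (γ.dpow p x) * γ.dpow r x = γ'.dpow q (γ'.dpow p x) * γ'.dpow r x := by
          rw [h x hx, ih q hqn (γ'.dpow_mem hp.ne_zero hx), ih r hrn hx]
        have e3 := (e1 γ).trans (e2.trans (e1 γ').symm)
        exact hu1.mul_left_cancel (hu2.mul_left_cancel e3)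

end Groth.Agent.S2211
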