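import Groth.Statements.S2338
import Mathlib
import Groth.Agent.Lib.helper1.QuasiAffineHom

set_option autoImplicit false
universe u
open CategoryTheory CategoryTheory.Limits AlgebraicGeometry
open EGA2

namespace Groth.Agent.S2338

/-- The composite of two quasi-affine morphisms is quasi-affine. -/
theorem result {X Y Z : Scheme.{u}} (f : X ⟶ Y) (g : Y ⟶ Z) (hf : Mor2.IsQuasiAffine f) (hg : Mor2.IsQuasiAffine g) :
    Mor2.IsQuasiAffine (f ≫ g) := by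
  obtain ⟨hf1, hf2⟩ := hf
  obtain ⟨hg1, hg2⟩ := hg
  haveI := hf1
  haveI := hg1
  refine ⟨inferInstance, fun W hW => ?_⟩
  have hT := hg2 W hW
  have hc : IsCompact ((f ⁻¹ᵁ (g ⁻¹ᵁ W) : X.Opens) : Set X) := by
    have := QuasiCompact.isCompact_preimage (f := f ≫ g) W.1 W.2 hW.isCompact
    exact this
  have key : Scheme.IsQuasiAffine ((f ⁻¹ᵁ (g ⁻¹ᵁ W) : X.Opens) : Scheme.{u}) := by
    refine Groth.Agent.H1.H1_isQuasiAffine_opens_of_cover (f ⁻¹ᵁ (g ⁻¹ᵁ W)) hc fun x hx => ?_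
    obtain ⟨r0, hxr0, hr0⟩ := Groth.Agent.H1.H1_exists_affine_basicOpen (g ⁻¹ᵁ W) hT (f x) hx
    refine ⟨f.appLE (g ⁻¹ᵁ W) (f ⁻¹ᵁ (g ⁻¹ᵁ W)) le_rfl r0, ?_, ?_⟩
    · rw [Scheme.basicOpen_appLE]; exact ⟨hx, hxr0⟩
    · have h1 := hf2 (Y.basicOpen r0) hr0
      refine Groth.Agent.H1.H1_isQuasiAffine_of_eq ?_ h1
      rw [Scheme.basicOpen_appLE]
      exact inf_eq_right.mpr (f.preimage_mono (Y.basicOpen_le r0))
  exact key

end Groth.Agent.S2338
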