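import Groth.Statements.S2339
import Mathlib
import Groth.Agent.Lib.helper1.QuasiAffineHom

set_option autoImplicit false
universe u
open CategoryTheory CategoryTheory.Limits AlgebraicGeometry
open EGA2

namespace Groth.Agent.S2339

/-- If f : X → Y is quasi-affine then so is its base change along any morphism Y' → Y. -/
theorem result {X Y Y' : Scheme.{u}} (f : X ⟶ Y) (hf : Mor2.IsQuasiAffine f) (g : Y' ⟶ Y) :
    Mor2.IsQuasiAffine (pullback.snd f g) := by
  obtain ⟨hf1, hf2⟩ := hf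
  haveI := hf1
  refine ⟨inferInstance, fun V' hV' => ?_⟩
  have hc : IsCompact (((pullback.snd f g) ⁻¹ᵁ V' : (pullback f g).Opens) : Set ↥(pullback f g)) :=
    QuasiCompact.isCompact_preimage (f := pullback.snd f g) V'.1 V'.2 hV'.isCompact
  refine Groth.Agent.H1.H1_isQuasiAffine_of_basicOpen_cover (pullback.snd f g)
    ((pullback.snd f g) ⁻¹ᵁ V') hc V' le_rfl fun x hx => ?_
  obtain ⟨_, ⟨V, hV, rfl⟩, hyV, -⟩ := Y.isBasis_affineOpens.exists_subset_of_mem_open
    (Set.mem_univ (g (pullback.snd f g x))) isOpen_univ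
  obtain ⟨b, hbN, hxb⟩ := hV'.exists_basicOpen_le (V := g ⁻¹ᵁ V) ⟨pullback.snd f g x, hyV⟩ hx
  refine ⟨b, hxb, ?_⟩
  have hT := hf2 V hV
  have hD := hV'.basicOpen b
  have hq := Groth.Agent.H1.H1_isQuasiAffine_pullback f g hT hD hV le_rfl hbN
  refine Groth.Agent.H1.H1_isQuasiAffine_of_eq ?_ hq
  apply le_antisymm
  · rintro z ⟨hz1, hz2⟩
    refine ⟨?_, hz2⟩
    change f (pullback.fst f g z) ∈ V
    rw [← Scheme.Hom.comp_apply, pullback.condition]
    exact hbN hz2
  · rintro z ⟨hz1, hz2⟩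
    exact ⟨Y'.basicOpen_le b hz2, hz2⟩

end Groth.Agent.S2339
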