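import Groth.Statements.S2340
import Mathlib
import Groth.Agent.Lib.helper1.QuasiAffineHom

set_option autoImplicit false
universe u
open CategoryTheory CategoryTheory.Limits AlgebraicGeometry
open EGA2

namespace Groth.Agent.S2340

/-- Let f : X → Y and g : Y → Z be morphisms of schemes with g ∘ f quasi-affine and g quasi-separated.
Then f is quasi-affine. -/
theorem result {X Y Z : Scheme.{u}} (f : X ⟶ Y) (g : Y ⟶ Z) [QuasiSeparated g]
    (h : Mor2.IsQuasiAffine (f ≫ g)) : Mor2.IsQuasiAffine f := by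
  obtain ⟨h1, h2⟩ := h
  haveI := h1
  haveI : QuasiCompact f := QuasiCompact.of_comp f g
  refine ⟨inferInstance, fun V hV => ?_⟩
  have hc : IsCompact ((f ⁻¹ᵁ V : X.Opens) : Set X) :=
    QuasiCompact.isCompact_preimage (f := f) V.1 V.2 hV.isCompact
  refine Groth.Agent.H1.H1_isQuasiAffine_of_basicOpen_cover f (f ⁻¹ᵁ V) hc V le_rfl fun x hx => ?_
  obtain ⟨_, ⟨W, hW, rfl⟩, hyW, -⟩ := Z.isBasis_affineOpens.exists_subset_of_mem_open
    (Set.mem_univ (g (f x))) isOpen_univ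
  obtain ⟨b, hbN, hxb⟩ := hV.exists_basicOpen_le (V := g ⁻¹ᵁ W) ⟨f x, hyW⟩ hx
  refine ⟨b, hxb, ?_⟩
  have hT := h2 W hW
  have hle : f ⁻¹ᵁ V ⊓ f ⁻¹ᵁ (Y.basicOpen b) ≤ (f ≫ g) ⁻¹ᵁ W := fun z hz => hbN hz.2
  have hcomp : IsCompact ((f ⁻¹ᵁ V ⊓ f ⁻¹ᵁ (Y.basicOpen b) : X.Opens) : Set X) := by
    have : f ⁻¹ᵁ V ⊓ f ⁻¹ᵁ (Y.basicOpen b) = f ⁻¹ᵁ (Y.basicOpen b) :=
      inf_eq_right.mpr (f.preimage_mono (Y.basicOpen_le b))
    rw [this]
    exact QuasiCompact.isCompact_preimage (f := f) _ (Y.basicOpen b).2 (hV.basicOpen b).isCompact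
  exact Groth.Agent.H1.H1_isQuasiAffine_of_le hle hT hcomp

end Groth.Agent.S2340
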