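import Groth.Statements.S2341
import Mathlib
import Groth.Agent.Lib.helper1.QuasiAffineMor

set_option autoImplicit false
universe u
open CategoryTheory CategoryTheory.Limits AlgebraicGeometry
open EGA2

namespace Groth.Agent.S2341

/-- A quasi-compact morphism X → Y whose underlying map is a homeomorphism onto its image (for instance
a closed immersion) is quasi-affine. -/
theorem result {X Y : Scheme.{u}} (f : X ⟶ Y) [QuasiCompact f]
    (hf : Topology.IsEmbedding f.base) : Mor2.IsQuasiAffine f := by
  refine ⟨inferInstance, fun V hV => ?_⟩
  have : IsAffine (V : Scheme.{u}) := hV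
  have hc : CompactSpace (f ⁻¹ᵁ V : Scheme.{u}) :=
    isCompact_iff_compactSpace.mp (QuasiCompact.isCompact_preimage (f := f) V V.isOpen hV.isCompact)
  refine Groth.Agent.H1.H1_isQuasiAffine_of_isInducing (f ∣_ V) ?_
  rw [morphismRestrict_base]
  exact (hf.restrictPreimage _).isInducing

end Groth.Agent.S2341
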