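import Groth.Statements.S4389
import Mathlib

set_option autoImplicit false
universe u
open EGA2

namespace Groth.Agent.S4389

/-- Let S be a ring graded in nonnegative degrees, S_0 its degree-zero subring, S_+ its irrelevant
ideal, and E a set of homogeneous elements of positive degree. Then E generates S_+ as an ideal of S
if and only if E generates S as an S_0-algebra. -/
theorem result {R A : Type u} [CommRing R] [CommRing A] [Algebra R A] (𝒜 : ℕ → Submodule R A) [GradedAlgebra 𝒜]
    (E : Set A) (hE : ∀ e ∈ E, ∃ d : ℕ, 0 < d ∧ e ∈ 𝒜 d) :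
    (HomogeneousIdeal.irrelevant 𝒜).toIdeal = Ideal.span E ↔ Algebra.adjoin (𝒜 0) E = ⊤ := by
  classical
  have hEirr : ∀ e ∈ E, e ∈ (HomogeneousIdeal.irrelevant 𝒜).toIdeal := by
    intro e he
    obtain ⟨d, hd, hed⟩ := hE e he
    exact HomogeneousIdeal.mem_irrelevant_of_mem 𝒜 hd hed
  have hspan_le : Ideal.span E ≤ (HomogeneousIdeal.irrelevant 𝒜).toIdeal :=
    Ideal.span_le.mpr hEirr
  constructor
  · intro hirr
    -- every homogeneous component lies in the adjoin
    have key : ∀ n : ℕ, ∀ x ∈ 𝒜 n, x ∈ Algebra.adjoin (𝒜 0) E := by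
      intro n
      induction n using Nat.strong_induction_on with
      | _ n ih =>
        intro x hx
        rcases Nat.eq_zero_or_pos n with rfl | hn
        · exact Subalgebra.algebraMap_mem _ (⟨x, hx⟩ : 𝒜 0)
        · have hx' : x ∈ Ideal.span E := by
            rw [← hirr]; exact HomogeneousIdeal.mem_irrelevant_of_mem 𝒜 hn hx
          obtain ⟨k, f, g, rfl⟩ := Submodule.mem_span_set'.mp hx'
          have h1 : (∑ i, f i • (g i : A)) = GradedRing.proj 𝒜 n (∑ i, f i • (g i : A)) := by
            rw [GradedRing.proj_apply, DirectSum.decompose_of_mem_same _ hx]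
          rw [h1, map_sum]
          refine Subalgebra.sum_mem _ fun i _ => ?_
          obtain ⟨d, hd, hgd⟩ := hE (g i) (g i).2
          rw [GradedRing.proj_apply, smul_eq_mul, DirectSum.coe_decompose_mul_of_right_mem 𝒜 n hgd]
          split_ifs with hdn
          · refine Subalgebra.mul_mem _ (ih (n - d) (by omega) _ (SetLike.coe_mem _))
              (Algebra.subset_adjoin (g i).2)
          · exact Subalgebra.zero_mem _
    rw [eq_top_iff]
    intro x _
    rw [← DirectSum.sum_support_decompose 𝒜 x]
    exact Subalgebra.sum_mem _ fun n _ => key n _ (SetLike.coe_mem _)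
  · intro hadj
    apply le_antisymm _ hspan_le
    -- adjoin ⊆ 𝒜 0 + span E
    have key : ∀ x ∈ Algebra.adjoin (𝒜 0) E, ∃ a ∈ 𝒜 0, ∃ s ∈ Ideal.span E, x = a + s := by
      intro x hx
      induction hx using Algebra.adjoin_induction with
      | mem x hx => exact ⟨0, zero_mem _, x, Ideal.subset_span hx, by simp⟩
      | algebraMap r => exact ⟨r, r.2, 0, zero_mem _, by simp⟩
      | add x y _ _ hx hy =>
        obtain ⟨a, ha, s, hs, rfl⟩ := hx
        obtain ⟨b, hb, t, ht, rfl⟩ := hy
        exact ⟨a + b, add_mem ha hb, s + t, add_mem hs ht, by ring⟩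
      | mul x y _ _ hx hy =>
        obtain ⟨a, ha, s, hs, rfl⟩ := hx
        obtain ⟨b, hb, t, ht, rfl⟩ := hy
        refine ⟨a * b, ?_, a * t + s * b + s * t, ?_, by ring⟩
        · have := SetLike.GradedMul.mul_mem (A := 𝒜) ha hb
          simpa using this
        · exact add_mem (add_mem (Ideal.mul_mem_left _ _ ht) (Ideal.mul_mem_right _ _ hs))
            (Ideal.mul_mem_left _ _ ht)
    intro x hx
    obtain ⟨a, ha, s, hs, rfl⟩ := key x (hadj ▸ Algebra.mem_top)
    have ha' : a ∈ (HomogeneousIdeal.irrelevant 𝒜).toIdeal := by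
      have := Ideal.sub_mem _ hx (hspan_le hs)
      simpa using this
    have ha0 : a = 0 := by
      have h2 : GradedRing.proj 𝒜 0 a = 0 := (HomogeneousIdeal.mem_irrelevant_iff 𝒜 a).mp ha'
      rw [GradedRing.proj_apply, DirectSum.decompose_of_mem_same _ ha] at h2
      exact h2
    rw [ha0, zero_add]
    exact hs

end Groth.Agent.S4389
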