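import Groth.Statements.S4390
import Mathlib
import Groth.Agent.S4389

set_option autoImplicit false
universe u
open EGA2

namespace Groth.Agent.S4390

/-- Let S be a ring graded in nonnegative degrees. Then the irrelevant ideal S_+ is a finitely generated
ideal if and only if S is an S_0-algebra of finite type. -/
theorem result {R A : Type u} [CommRing R] [CommRing A] [Algebra R A] (𝒜 : ℕ → Submodule R A) [GradedAlgebra 𝒜] :
    (HomogeneousIdeal.irrelevant 𝒜).toIdeal.FG ↔ Algebra.FiniteType (𝒜 0) A := by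
  classical
  constructor
  · rintro ⟨F, hF⟩
    let E : Finset A := F.biUnion (fun x => (DirectSum.decompose 𝒜 x).support.image
      (fun n => ((DirectSum.decompose 𝒜 x n : 𝒜 n) : A)))
    have hFirr : ∀ x ∈ F, x ∈ (HomogeneousIdeal.irrelevant 𝒜).toIdeal := by
      intro x hx; rw [← hF]; exact Ideal.subset_span hx
    have hE : ∀ e ∈ (E : Set A), ∃ d : ℕ, 0 < d ∧ e ∈ 𝒜 d := by
      intro e he
      simp only [E, Finset.coe_biUnion, Finset.coe_image, Set.mem_iUnion, Set.mem_image] at he
      obtain ⟨x, hx, n, hn, rfl⟩ := he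
      refine ⟨n, ?_, SetLike.coe_mem _⟩
      rw [Nat.pos_iff_ne_zero]
      rintro rfl
      have h0 := (HomogeneousIdeal.mem_irrelevant_iff 𝒜 x).mp (hFirr x hx)
      rw [GradedRing.proj_apply] at h0
      have : DirectSum.decompose 𝒜 x 0 ≠ 0 := by simpa using hn
      exact this (Subtype.ext h0)
    have hspan : (HomogeneousIdeal.irrelevant 𝒜).toIdeal = Ideal.span (E : Set A) := by
      apply le_antisymm
      · rw [← hF, Ideal.span_le]
        intro x hx
        rw [SetLike.mem_coe, ← DirectSum.sum_support_decompose 𝒜 x]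
        refine Ideal.sum_mem _ fun n hn => Ideal.subset_span ?_
        simp only [E, Finset.coe_biUnion, Finset.coe_image, Set.mem_iUnion, Set.mem_image]
        exact ⟨x, hx, n, hn, rfl⟩
      · rw [Ideal.span_le]
        intro e he
        simp only [E, Finset.coe_biUnion, Finset.coe_image, Set.mem_iUnion, Set.mem_image] at he
        obtain ⟨x, hx, n, hn, rfl⟩ := he
        exact (HomogeneousIdeal.irrelevant 𝒜).isHomogeneous n (hFirr x hx)
    exact ⟨⟨E, (Groth.Agent.S4389.result 𝒜 (E : Set A) hE).mp hspan⟩⟩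
  · intro hft
    obtain ⟨s, hs, hs'⟩ := GradedAlgebra.exists_finset_adjoin_eq_top_and_homogeneous_ne_zero 𝒜
    have hE : ∀ e ∈ (s : Set A), ∃ d : ℕ, 0 < d ∧ e ∈ 𝒜 d := by
      intro e he
      obtain ⟨n, hn, hen⟩ := hs' e he
      exact ⟨n, Nat.pos_of_ne_zero hn, hen⟩
    exact ⟨s, ((Groth.Agent.S4389.result 𝒜 (s : Set A) hE).mpr hs).symm⟩

end Groth.Agent.S4390
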