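import Groth.Statements.S2357
import Mathlib
import Groth.Agent.Lib.helper2.IrrelFG
import Groth.Agent.S4397

set_option autoImplicit false
universe u
open CategoryTheory CategoryTheory.Limits AlgebraicGeometry
open EGA2

namespace Groth.Agent.S2357

/-- If A is a graded ring which is Noetherian, then Proj A is a Noetherian scheme. -/
theorem result {R A : Type u} [CommRing R] [CommRing A] [Algebra R A] (𝒜 : ℕ → Submodule R A) [GradedAlgebra 𝒜] [IsNoetherianRing A] :
    IsNoetherian (Proj 𝒜) := by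
  classical
  have hfg : (HomogeneousIdeal.irrelevant 𝒜).toIdeal.FG :=
    (isNoetherianRing_iff_ideal_fg A).mp ‹_› _
  obtain ⟨E, hE, hspan⟩ := Groth.Agent.H2.H2_irrelevant_fg_homog 𝒜 hfg
  choose d hd0 hd using hE
  let 𝒰 := Proj.affineOpenCoverOfIrrelevantLESpan 𝒜 (ι := {e // e ∈ E}) (fun e => e.1)
    (m := fun e => d e.1 e.2) (fun e => hd e.1 e.2) (fun e => hd0 e.1 e.2)
    (by rw [hspan]; apply Ideal.span_mono; intro e he; exact ⟨⟨e, he⟩, rfl⟩)
  haveI : Finite 𝒰.openCover.I₀ := inferInstanceAs (Finite {e // e ∈ E})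
  refine (isNoetherian_iff_of_finite_affine_openCover (𝒰 := 𝒰.openCover)).mpr ?_
  intro i
  haveI : IsNoetherianRing (HomogeneousLocalization.Away 𝒜 i.1) :=
    Groth.Agent.S4397.result 𝒜 (hd0 i.1 i.2) i.1 (hd i.1 i.2)
  exact isNoetherianRing_of_ringEquiv _
    (Scheme.ΓSpecIso (CommRingCat.of (HomogeneousLocalization.Away 𝒜 i.1))).symm.commRingCatIsoToRingEquiv

end Groth.Agent.S2357
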