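import Groth.Statements.S2452
import Mathlib
import Groth.Agent.Lib.helper6.AdicLift
import Groth.Agent.Lib.helper6.GeomRedFS2

set_option autoImplicit false
universe u
open EGA41

namespace Groth.Agent.S2452

open IsLocalRing in
/-- Let A be a local ring which is separated and complete for the adic topology of its maximal ideal
(not necessarily Noetherian), k a field contained in A, and suppose the residue field K of A is a
separable extension of k. Then there is a k-algebra section K → A of the residue map, i.e. a
coefficient field of A containing k. -/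
theorem result {k A : Type u} [Field k] [CommRing A] [IsLocalRing A] [Algebra k A]
    [IsAdicComplete (maximalIdeal A) A] [Algebra.IsGeometricallyReduced k (ResidueField A)] :
    ∃ σ : ResidueField A →ₐ[k] A, ∀ x : ResidueField A, residue A (σ x) = x := by
  haveI : Algebra.FormallySmooth k (ResidueField A) :=
    Groth.Agent.Lib.helper6.H6_fs_field_of_geomReduced k (ResidueField A)
  have hB : EGA41.IsFormallySmoothAdic k (⊥ : Ideal k) (ResidueField A)
      (⊥ : Ideal (ResidueField A)) := by
    intro C _ _ J hJ _ u _
    exact Algebra.FormallySmooth.exists_lift J hJ u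
  haveI hH : IsHausdorff ((maximalIdeal A).map (Ideal.Quotient.mk (maximalIdeal A)))
      (A ⧸ maximalIdeal A) := by
    rw [Ideal.map_quotient_self]
    refine ⟨fun x hx => ?_⟩
    have h1 := hx 1
    rw [SModEq.zero, pow_one, Submodule.bot_smul, Submodule.mem_bot] at h1
    exact h1
  let u : ResidueField A →ₐ[k] A ⧸ maximalIdeal A :=
    { toRingHom := RingHom.id _
      commutes' := fun _ => rfl }
  obtain ⟨v, -, hv⟩ := Groth.Agent.Lib.helper6.H6_lift_complete (⊥ : Ideal k)
    (⊥ : Ideal (ResidueField A)) (maximalIdeal A) hB
    ⟨1, by rw [pow_one, Ideal.map_bot]; exact bot_le⟩ (maximalIdeal A)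
    ⟨1, by rw [pow_one]⟩ u
    ⟨1, by rw [pow_one, Ideal.map_bot]; exact bot_le⟩
  refine ⟨v, fun x => ?_⟩
  have h1 := congrArg (fun g => g x) hv
  exact h1

end Groth.Agent.S2452
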