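import Groth.Statements.S2461
import Mathlib
import Groth.Agent.Lib.helper6.AdicFS

set_option autoImplicit false
universe u
open EGA41

namespace Groth.Agent.S2461

/-- Let A carry the 𝔞-adic topology and let B be a Noetherian A-algebra with the 𝔟-adic topology. Then B
is formally smooth over A if and only if the 𝔟-adic completion of B, with the adic topology of the
extended ideal, is formally smooth over A. -/
theorem result {A B : Type u} [CommRing A] (𝔞 : Ideal A) [CommRing B] [IsNoetherianRing B] [Algebra A B] (𝔟 : Ideal B) :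
    EGA41.IsFormallySmoothAdic A 𝔞 B 𝔟 ↔
      EGA41.IsFormallySmoothAdic A 𝔞 (AdicCompletion 𝔟 B) (𝔟.map (algebraMap B (AdicCompletion 𝔟 B))) := by
  have h𝔟 : 𝔟.FG := (isNoetherianRing_iff_ideal_fg B).1 inferInstance 𝔟
  constructor
  · intro h E _ _ J hJ hak ψh hk
    obtain ⟨k, hk⟩ := hk
    let ψ : B →ₐ[A] E ⧸ J := ψh.comp (IsScalarTower.toAlgHom A B (AdicCompletion 𝔟 B))
    have hψ : ∃ k' : ℕ, ∀ x ∈ 𝔟 ^ k', ψ x = 0 := by
      refine ⟨k, fun x hx => hk _ ?_⟩
      rw [← Ideal.map_pow]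
      exact Ideal.mem_map_of_mem _ hx
    obtain ⟨χ, hχ⟩ := h E J hJ hak ψ hψ
    obtain ⟨N, hN⟩ := hJ
    refine Groth.Agent.Lib.helper6.H6_adic_lift_completion 𝔟 h𝔟 J N hN ψh k hk χ ?_
    intro s
    have h1 := congrArg (fun g => g s) hχ
    exact h1
  · intro h E _ _ J hJ hak ψ hk
    obtain ⟨k, hk⟩ := hk
    obtain ⟨ψh, hψh0, hψh⟩ := Groth.Agent.Lib.helper6.H6_adic_extend 𝔟 ψ k hk
    obtain ⟨χh, hχh⟩ := h E J hJ hak ψh ⟨k, hψh0⟩
    refine ⟨χh.comp (IsScalarTower.toAlgHom A B (AdicCompletion 𝔟 B)), ?_⟩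
    ext s
    have h1 := congrArg (fun g => g (algebraMap B (AdicCompletion 𝔟 B) s)) hχh
    exact h1.trans (hψh s)

end Groth.Agent.S2461
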