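import Groth.Statements.S3398
import Mathlib
import Groth.Agent.Lib.helper4.ProConsScheme

set_option autoImplicit false
open CategoryTheory AlgebraicGeometry
universe u
open EGA41

namespace Groth.Agent.S3398

/-- Let f : X' ⟶ X be a quasi-compact morphism of schemes and E' a pro-constructible subset of X'. Then
f(E') is pro-constructible in X; in particular f(X') is pro-constructible. -/
theorem result {X' X : Scheme.{u}} (f : X' ⟶ X) [QuasiCompact f]
    (E' : Set X') (hE' : ProCons.IsProConstructible E') :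
    ProCons.IsProConstructible (f.base '' E') := by
  classical
  apply Groth.Agent.H4.H4_pro_of_PC
  intro x
  obtain ⟨W, hW, hxW, -⟩ := Groth.Agent.H4.H4_exists_affine_nhd X ⊤ x trivial
  haveI := Groth.Agent.H4.H4_spectral_affineOpen X W hW
  refine ⟨W, W.isOpen, hxW, inferInstance, ?_⟩
  have hc : IsCompact (f ⁻¹ᵁ W : Set X') := f.isCompact_preimage hW.isCompact
  obtain ⟨s, hsfin, hs⟩ := isCompact_iff_finite_and_eq_biUnion_affineOpens.1 hc
  have hle : ∀ V ∈ s, (V : X'.Opens) ≤ f ⁻¹ᵁ W := fun V hV => by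
    rw [hs]; exact le_iSup₂ (f := fun (i : X'.affineOpens) (_ : i ∈ s) => (i : X'.Opens)) V hV
  have key : (Subtype.val ⁻¹' (f.base '' E') : Set ↥(W : Set X)) =
      ⋃ V : s, Groth.Agent.H4.H4_resMap f V.1.1 W (hle V.1 V.2) ''
        (Subtype.val ⁻¹' E' : Set ↥((V.1.1 : X'.Opens) : Set X')) := by
    ext z
    simp only [Set.mem_preimage, Set.mem_image, Set.mem_iUnion]
    constructor
    · rintro ⟨e, heE, hez⟩
      have hemem : e ∈ f ⁻¹ᵁ W := by
        show f.base e ∈ W
        rw [hez]; exact z.2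
      rw [hs] at hemem
      simp only [TopologicalSpace.Opens.mem_iSup] at hemem
      obtain ⟨V, hV, heV⟩ := hemem
      exact ⟨⟨V, hV⟩, ⟨e, heV⟩, heE, Subtype.ext hez⟩
    · rintro ⟨V, y, hy, rfl⟩
      exact ⟨y.1, hy, rfl⟩
  unfold Groth.Agent.H4.H4_PC
  rw [key]
  haveI : Finite s := hsfin
  refine @isClosed_iUnion_of_finite ↥(W : Set X) _ (constructibleTopology ↥(W : Set X)) _ _
    fun V => ?_
  haveI := Groth.Agent.H4.H4_spectral_affineOpen X' V.1.1 V.1.2
  exact _root_.H4.H4_isClosed_constr_image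
    (Groth.Agent.H4.H4_isSpectralMap_resMap f V.1.1 W V.1.2 hW (hle V.1 V.2))
    (Groth.Agent.H4.H4_PC_of_pro hE' V.1.1.isOpen)

end Groth.Agent.S3398
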