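import Groth.Statements.S3400
import Mathlib
import Groth.Agent.Lib.helper4.ProConsAffine
import Groth.Agent.S3398

set_option autoImplicit false
open CategoryTheory AlgebraicGeometry
universe u
open EGA41

namespace Groth.Agent.S3400

/-- Let X be a quasi-compact and quasi-separated scheme. A subset E of X is pro-constructible if and
only if there are an affine scheme X' and a morphism f : X' ⟶ X with f(X') = E. -/
theorem result (X : Scheme.{u}) [CompactSpace X] [QuasiSeparatedSpace X]
    (E : Set X) :
    ProCons.IsProConstructible E ↔ ∃ (X' : Scheme.{u}) (f : X' ⟶ X), IsAffine X' ∧ Set.range f.base = E := by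
  constructor
  · intro hE
    classical
    have hcov : ∀ x : X, ∃ W : X.Opens, IsAffineOpen W ∧ x ∈ W := fun x => by
      obtain ⟨W, hW, hx, _⟩ := Groth.Agent.H4.H4_exists_affine_nhd X ⊤ x trivial
      exact ⟨W, hW, hx⟩
    choose W hW hxW using hcov
    obtain ⟨t, ht⟩ := isCompact_univ.elim_nhds_subcover (fun x => (W x : Set X))
      (fun x _ => (W x).isOpen.mem_nhds (hxW x))
    choose B f hf using fun x : X =>
      Groth.Agent.H4.H4_exists_affine_range_eq_inter (W x) (hW x) E hE
    let g : (↥t) → Scheme.{u} := fun x => Spec (B x.1)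
    haveI : ∀ i, IsAffine (g i) := fun i => by dsimp [g]; infer_instance
    refine ⟨∐ g, Limits.Sigma.desc (fun x : ↥t => f x.1), inferInstance, ?_⟩
    ext y
    constructor
    · rintro ⟨z, rfl⟩
      obtain ⟨⟨i, w⟩, rfl⟩ := (sigmaMk g).surjective z
      rw [sigmaMk_mk, ← Scheme.Hom.comp_apply, Limits.Sigma.ι_desc]
      have : (f i.1).base w ∈ Set.range (f i.1).base := ⟨w, rfl⟩
      rw [hf] at this
      exact this.1
    · intro hy
      obtain ⟨x, hxt, hyx⟩ : ∃ x ∈ t, y ∈ (W x : Set X) := by
        have := ht.2 (Set.mem_univ y)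
        simpa using this
      have hmem : y ∈ Set.range (f x).base := by rw [hf]; exact ⟨hy, hyx⟩
      obtain ⟨z, rfl⟩ := hmem
      refine ⟨(Limits.Sigma.ι g ⟨x, hxt⟩).base z, ?_⟩
      rw [← Scheme.Hom.comp_apply, Limits.Sigma.ι_desc]
  · rintro ⟨X', f, hX', rfl⟩
    haveI := hX'
    haveI : QuasiCompact f := inferInstance
    have := Groth.Agent.S3398.result f Set.univ Groth.Agent.H4.H4_pro_univ
    rwa [Set.image_univ] at this

end Groth.Agent.S3400
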