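import Groth.Statements.S2479
import Mathlib
import Groth.Agent.S3400

set_option autoImplicit false
universe u
open EGA41

namespace Groth.Agent.S2479

open AlgebraicGeometry CategoryTheory Topology in
/-- Let X be a quasi-compact and quasi-separated scheme and E ⊆ X. Then E = f(X') for some quasi-compact
morphism f : X' → X if and only if E is an intersection of a family of constructible subsets of X. -/
theorem result {X : Scheme.{u}} [CompactSpace X] [QuasiSeparatedSpace X] (E : Set X) :
    (∃ (X' : Scheme.{u}) (f : X' ⟶ X), QuasiCompact f ∧ Set.range f.base = E) ↔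
      ∃ S : Set (Set X), (∀ s ∈ S, IsConstructible s) ∧ E = ⋂₀ S := by
  classical
  have hX : ∀ x : X, ∃ W : Set X, IsOpen W ∧ x ∈ W ∧ SpectralSpace ↥W := fun x => by
    obtain ⟨W, hW, hx, _⟩ := Groth.Agent.H4.H4_exists_affine_nhd X ⊤ x trivial
    exact ⟨W, W.isOpen, hx, Groth.Agent.H4.H4_spectral_affineOpen X W hW⟩
  constructor
  · rintro ⟨X', f, hf, rfl⟩
    have hpro : ProCons.IsProConstructible (Set.range f.base) := by
      have := Groth.Agent.S3398.result f Set.univ Groth.Agent.H4.H4_pro_univ
      rwa [Set.image_univ] at this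
    have hcl : @IsClosed X (constructibleTopology X) (Set.range f.base) :=
      (Groth.Agent.H4.H4_isClosed_constr_iff_pro hX _).2 hpro
    refine ⟨{s | IsConstructible s ∧ Set.range f.base ⊆ s}, fun s hs => hs.1, ?_⟩
    apply Set.Subset.antisymm
    · intro x hx s hs
      exact hs.2 hx
    · intro P hP
      by_contra hPE
      have hop : @IsOpen X (constructibleTopology X) (Set.range f.base)ᶜ :=
        (@isOpen_compl_iff X _ (constructibleTopology X)).2 hcl
      obtain ⟨t, ht, hPt, hts⟩ := _root_.H4.H4_exists_constructible_of_mem_isOpen_constr hop hPE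
      have := hP tᶜ ⟨ht.compl, fun x hx hxt => hts hxt hx⟩
      exact this hPt
  · rintro ⟨S, hS, rfl⟩
    have hcl : @IsClosed X (constructibleTopology X) (⋂₀ S) :=
      @isClosed_sInter X (constructibleTopology X) S fun s hs =>
        (_root_.H4.H4_isClopen_constr_of_isConstructible (hS s hs)).1
    have hpro : ProCons.IsProConstructible (⋂₀ S) :=
      (Groth.Agent.H4.H4_isClosed_constr_iff_pro hX _).1 hcl
    obtain ⟨X', f, hX', hf⟩ := (Groth.Agent.S3400.result X (⋂₀ S)).1 hpro
    haveI := hX'
    exact ⟨X', f, inferInstance, hf⟩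

end Groth.Agent.S2479
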