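import Groth.Statements.S2483
import Mathlib
import Groth.Agent.Lib.helper6.CoeffField

set_option autoImplicit false
universe u
open EGA41

namespace Groth.Agent.S2483

open IsLocalRing in
/-- Let C be a complete Noetherian local ring with maximal ideal 𝔍 ≠ 0 and residue field K, and u : K →
C a ring homomorphism which is a section of the residue map. Then u is the only such section if and
only if Ω_{K/ℤ} = 0. -/
theorem result {C : Type u} [CommRing C] [IsLocalRing C] [IsNoetherianRing C] [IsAdicComplete (maximalIdeal C) C]
    (hm : maximalIdeal C ≠ ⊥) (u : ResidueField C →+* C) (hu : ∀ x, residue C (u x) = x) :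
    (∀ v : ResidueField C →+* C, (∀ x, residue C (v x) = x) → v = u) ↔ Subsingleton (Ω[ResidueField C⁄ℤ]) := by
  constructor
  · intro huniq
    by_contra hne
    rw [not_subsingleton_iff_nontrivial] at hne
    have hx : ∃ x : ResidueField C, KaehlerDifferential.D ℤ (ResidueField C) x ≠ 0 := by
      by_contra hcon
      push_neg at hcon
      have h1 : Submodule.span (ResidueField C)
          (Set.range (KaehlerDifferential.D ℤ (ResidueField C))) = ⊤ :=
        KaehlerDifferential.span_range_derivation ℤ (ResidueField C)
      have h2 : Submodule.span (ResidueField C)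
          (Set.range (KaehlerDifferential.D ℤ (ResidueField C))) = ⊥ := by
        rw [Submodule.span_eq_bot]
        rintro _ ⟨x, rfl⟩
        exact hcon x
      rw [h2] at h1
      exact bot_ne_top h1
    obtain ⟨x, hx⟩ := hx
    obtain ⟨ℓ, hℓ⟩ : ∃ ℓ : Module.Dual (ResidueField C) (Ω[ResidueField C⁄ℤ]),
        ℓ (KaehlerDifferential.D ℤ (ResidueField C) x) ≠ 0 := by
      by_contra hcon
      push_neg at hcon
      exact hx ((Module.forall_dual_apply_eq_zero_iff (ResidueField C) _).1 hcon)
    set D' : ResidueField C → ResidueField C :=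
      fun y => ℓ (KaehlerDifferential.D ℤ (ResidueField C) y) with hD'
    have hD'x : D' x ≠ 0 := hℓ
    have hD'one : D' 1 = 0 := by
      rw [hD']
      show ℓ (KaehlerDifferential.D ℤ (ResidueField C) 1) = 0
      rw [Derivation.map_one_eq_zero, map_zero]
    have hD'zero : D' 0 = 0 := by
      rw [hD']
      show ℓ (KaehlerDifferential.D ℤ (ResidueField C) 0) = 0
      rw [map_zero, map_zero]
    have hD'add : ∀ y z, D' (y + z) = D' y + D' z := by
      intro y z
      rw [hD']
      show ℓ (KaehlerDifferential.D ℤ (ResidueField C) (y + z)) = _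
      rw [map_add, map_add]
    have hD'mul : ∀ y z, D' (y * z) = y * D' z + z * D' y := by
      intro y z
      rw [hD']
      show ℓ (KaehlerDifferential.D ℤ (ResidueField C) (y * z)) = _
      rw [Derivation.leibniz, map_add, map_smul, map_smul, smul_eq_mul, smul_eq_mul]
    have hm2 : ¬ maximalIdeal C ≤ maximalIdeal C ^ 2 := by
      intro hle
      apply hm
      have h1 : (maximalIdeal C) ≤ (maximalIdeal C) • (maximalIdeal C) := by
        rwa [smul_eq_mul, ← pow_two]
      exact Submodule.eq_bot_of_le_smul_of_le_jacobson_bot (maximalIdeal C) (maximalIdeal C)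
        (IsNoetherian.noetherian _) h1 (IsLocalRing.maximalIdeal_le_jacobson _)
    obtain ⟨t, htm, htm2⟩ := SetLike.not_le_iff_exists.1 hm2
    have hττ : Ideal.Quotient.mk (maximalIdeal C ^ 2) t * Ideal.Quotient.mk (maximalIdeal C ^ 2) t
        = 0 := by
      rw [← map_mul, Ideal.Quotient.eq_zero_iff_mem, pow_two]
      exact Ideal.mul_mem_mul htm htm
    let v₁ : ResidueField C →+* C ⧸ maximalIdeal C ^ 2 :=
      { toFun := fun y => Ideal.Quotient.mk (maximalIdeal C ^ 2) (u y) +
          Ideal.Quotient.mk (maximalIdeal C ^ 2) (u (D' y)) *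
            Ideal.Quotient.mk (maximalIdeal C ^ 2) t
        map_one' := by
          rw [hD'one, map_zero, map_zero, zero_mul, add_zero, map_one, map_one]
        map_mul' := fun y z => by
          rw [hD'mul]
          simp only [map_add, map_mul]
          linear_combination (- Ideal.Quotient.mk (maximalIdeal C ^ 2) (u (D' y)) *
            Ideal.Quotient.mk (maximalIdeal C ^ 2) (u (D' z))) * hττ
        map_zero' := by
          rw [hD'zero, map_zero, map_zero, zero_mul, add_zero]
        map_add' := fun y z => by
          rw [hD'add]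
          simp only [map_add]
          ring }
    haveI : IsAdicComplete (maximalIdeal C ^ 2) C := Groth.Agent.Lib.helper6.H6_complete_sq _
    obtain ⟨v, hv⟩ := Groth.Agent.Lib.helper6.H6_field_lift_complete (maximalIdeal C ^ 2) u v₁
    have hvy : ∀ y, v y - u y - u (D' y) * t ∈ maximalIdeal C ^ 2 := by
      intro y
      have h2 : Ideal.Quotient.mk (maximalIdeal C ^ 2) (v y) =
          Ideal.Quotient.mk (maximalIdeal C ^ 2) (u y) +
          Ideal.Quotient.mk (maximalIdeal C ^ 2) (u (D' y)) *
            Ideal.Quotient.mk (maximalIdeal C ^ 2) t := congrArg (fun g => g y) hv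
      rw [← Ideal.Quotient.eq_zero_iff_mem, map_sub, map_sub, map_mul, h2]
      ring
    have hvsec : ∀ y, residue C (v y) = y := by
      intro y
      have h1 : v y - u y - u (D' y) * t ∈ maximalIdeal C :=
        Ideal.pow_le_self two_ne_zero (hvy y)
      have h2 : v y - u y ∈ maximalIdeal C := by
        have h3 := add_mem h1 (Ideal.mul_mem_left _ (u (D' y)) htm)
        have h4 : v y - u y - u (D' y) * t + u (D' y) * t = v y - u y := by ring
        rwa [h4] at h3
      have h5 : residue C (v y - u y) = 0 := (IsLocalRing.residue_eq_zero_iff _).2 h2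
      rw [map_sub, sub_eq_zero, hu] at h5
      exact h5
    have hvu := huniq v hvsec
    have h3 := hvy x
    rw [hvu, sub_self, zero_sub, neg_mem_iff] at h3
    have hunit : IsUnit (u (D' x)) := by
      rw [← IsLocalRing.notMem_maximalIdeal]
      intro hmem
      have h4 := (IsLocalRing.residue_eq_zero_iff _).2 hmem
      rw [hu] at h4
      exact hD'x h4
    apply htm2
    obtain ⟨w, hw⟩ := hunit
    have h5 : t = ↑w⁻¹ * (u (D' x) * t) := by
      rw [← hw, ← mul_assoc, Units.inv_mul, one_mul]
    rw [h5]
    exact Ideal.mul_mem_left _ _ h3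
  · intro hΩ v hv
    haveI : Algebra.FormallyUnramified ℤ (ResidueField C) := ⟨hΩ⟩
    have hI : ⨅ i, maximalIdeal C ^ i = ⊥ :=
      Ideal.iInf_pow_eq_bot_of_isLocalRing _ (IsLocalRing.maximalIdeal.isMaximal C).ne_top
    let g₁ : ResidueField C →ₐ[ℤ] C :=
      { v with
        commutes' := fun n => by
          rw [eq_intCast (algebraMap ℤ (ResidueField C)) n, eq_intCast (algebraMap ℤ C) n]
          exact map_intCast v n }
    let g₂ : ResidueField C →ₐ[ℤ] C :=
      { u with
        commutes' := fun n => by
          rw [eq_intCast (algebraMap ℤ (ResidueField C)) n, eq_intCast (algebraMap ℤ C) n]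
          exact map_intCast u n }
    have h1 : g₁ = g₂ := Algebra.FormallyUnramified.ext_of_iInf (R := ℤ) (maximalIdeal C) hI (fun x => by
        show residue C (v x) = residue C (u x)
        rw [hv, hu])
    ext x
    exact AlgHom.congr_fun h1 x

end Groth.Agent.S2483
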