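import Groth.Statements.S2484
import Mathlib
import Groth.Agent.Lib.helper6.FSFieldGeomRed

set_option autoImplicit false
universe u
open EGA41

namespace Groth.Agent.S2484

/-- Let K ⊆ E ⊆ F be fields. (i) If F is a separable extension of E, then Υ_{F/E/K} = 0, i.e. the
canonical map Ω_{E/K} ⊗_E F → Ω_{F/K} is injective. (ii) Conversely, if F is separable over K and
this map is injective, then F is separable over E. (Separable means geometrically reduced.) -/
theorem result {K E F : Type u} [Field K] [Field E] [Field F] [Algebra K E] [Algebra E F] [Algebra K F] [IsScalarTower K E F] :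
    (Algebra.IsGeometricallyReduced E F → Function.Injective (KaehlerDifferential.mapBaseChange K E F)) ∧
    (Algebra.IsGeometricallyReduced K F → Function.Injective (KaehlerDifferential.mapBaseChange K E F) → Algebra.IsGeometricallyReduced E F) := by
  constructor
  · intro h
    haveI : Algebra.FormallySmooth E F := Groth.Agent.Lib.helper6.H6_fs_field_of_geomReduced E F
    rw [injective_iff_map_eq_zero]
    intro y hy
    obtain ⟨z, rfl⟩ := (Algebra.H1Cotangent.exact_δ_mapBaseChange K E F y).mp hy
    rw [Subsingleton.elim z 0, map_zero]
  · intro h hinj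
    haveI : Algebra.FormallySmooth K F := Groth.Agent.Lib.helper6.H6_fs_field_of_geomReduced K F
    have hsub : Subsingleton (Algebra.H1Cotangent E F) := by
      refine ⟨fun a b => ?_⟩
      have key : ∀ z : Algebra.H1Cotangent E F, z = 0 := by
        intro z
        have h1 : KaehlerDifferential.mapBaseChange K E F (Algebra.H1Cotangent.δ K E F z) = 0 :=
          (Algebra.H1Cotangent.exact_δ_mapBaseChange K E F).apply_apply_eq_zero z
        have h2 : Algebra.H1Cotangent.δ K E F z = 0 := hinj (by rw [h1, map_zero])
        obtain ⟨w, rfl⟩ := (Algebra.H1Cotangent.exact_map_δ K E F z).mp h2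
        rw [Subsingleton.elim w 0, map_zero]
      rw [key a, key b]
    haveI : Algebra.FormallySmooth E F := ⟨inferInstance, hsub⟩
    exact Groth.Agent.Lib.helper6.H6_geomRed_of_fs_field E F

end Groth.Agent.S2484
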