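import Groth.Statements.S2485
import Mathlib

set_option autoImplicit false
universe u
open EGA41

namespace Groth.Agent.S2485

/-- Let p be a prime and A → B a ring homomorphism making B an A-algebra of finite type, with B of
characteristic p, such that for some s ≥ 0 every p^s-th power of an element of B lies in the image
of A. If Ω_{B/A} = 0 then A → B is surjective. -/
theorem result (p : ℕ) [Fact p.Prime] {A B : Type u} [CommRing A] [CommRing B] [Algebra A B] [CharP B p]
    [Algebra.FiniteType A B] (s : ℕ) (hpow : ∀ b : B, b ^ p ^ s ∈ Set.range (algebraMap A B)) [Subsingleton (Ω[B⁄A])] :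
    Function.Surjective (algebraMap A B) := by
  classical
  have hp : p.Prime := Fact.out
  -- B is integral, hence finite over A
  haveI : Algebra.IsIntegral A B := ⟨fun b => by
    obtain ⟨a, ha⟩ := hpow b
    exact IsIntegral.of_pow (pow_pos hp.pos s) (ha ▸ isIntegral_algebraMap)⟩
  haveI : Module.Finite A B := Algebra.IsIntegral.finite
  rw [← Algebra.isEpi_iff_surjective_algebraMap_of_finite, Algebra.isEpi_iff_forall_one_tmul_eq]
  intro b
  rcases subsingleton_or_nontrivial (TensorProduct A B B) with hsub | hnt
  · exact Subsingleton.elim _ _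
  haveI : CharP (TensorProduct A B B) p := by
    rw [CharP.charP_iff_prime_eq_zero hp]
    have h0 : ((p : ℕ) : B) = 0 := CharP.cast_eq_zero B p
    have := congrArg (algebraMap B (TensorProduct A B B)) h0
    rwa [map_natCast, map_zero] at this
  obtain ⟨e, he, hsp⟩ : ∃ e, IsIdempotentElem e ∧ KaehlerDifferential.ideal A B = Ideal.span {e} :=
    (Ideal.isIdempotentElem_iff_of_fg _ (KaehlerDifferential.ideal_fg A B)).mp <|
      (Ideal.cotangent_subsingleton_iff _).mp <| inferInstanceAs <| Subsingleton Ω[B⁄A]
  have hnil : ∀ c : B, IsNilpotent ((1 : B) ⊗ₜ[A] c - c ⊗ₜ[A] (1 : B)) := by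
    intro c
    refine ⟨p ^ s, ?_⟩
    rw [sub_pow_char_pow, Algebra.TensorProduct.tmul_pow, Algebra.TensorProduct.tmul_pow,
      one_pow]
    obtain ⟨a, ha⟩ := hpow c
    rw [← ha, Algebra.algebraMap_eq_smul_one, TensorProduct.tmul_smul, TensorProduct.smul_tmul',
      sub_self]
  have hle : KaehlerDifferential.ideal A B ≤ nilradical (TensorProduct A B B) := by
    rw [← KaehlerDifferential.span_range_eq_ideal, Ideal.span_le]
    rintro _ ⟨c, rfl⟩
    exact hnil c
  have he0 : e = 0 := by
    apply he.eq_zero_of_isNilpotent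
    apply hle
    rw [hsp]
    exact Ideal.mem_span_singleton_self e
  have hbot : KaehlerDifferential.ideal A B = ⊥ := by
    rw [hsp, he0]; exact Ideal.span_singleton_eq_bot.mpr rfl
  have hmem : (1 : B) ⊗ₜ[A] b - b ⊗ₜ[A] (1 : B) ∈ KaehlerDifferential.ideal A B :=
    KaehlerDifferential.one_smul_sub_smul_one_mem_ideal A b
  rw [hbot, Ideal.mem_bot, sub_eq_zero] at hmem
  exact hmem

end Groth.Agent.S2485
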