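import Groth.Statements.S2913

set_option autoImplicit false
open CategoryTheory CategoryTheory.Limits AlgebraicGeometry Opposite
universe u
open SGA1

namespace Groth.Agent.S2913

/-- Let g : S' ⟶ S be a surjective morphism of schemes such that for every open U of S the map O_S(U) →
O_{S'}(g⁻¹U) is injective. Then g is an epimorphism in the category of schemes. -/
theorem result {S' S : Scheme.{u}} (g : S' ⟶ S) [Surjective g]
    (hinj : ∀ U : S.Opens, Function.Injective (g.app U).hom) : Epi g := by
  constructor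
  intro T a b hab
  have hbase : a.base = b.base := by
    ext s
    obtain ⟨s', rfl⟩ := g.surjective s
    have := congr_arg (fun h : S' ⟶ T => h s') hab
    simpa using this
  refine Scheme.Hom.ext hbase ?_
  intro U
  have hinj' : Function.Injective (g.app (b ⁻¹ᵁ U)).hom := hinj _
  apply CommRingCat.hom_ext
  apply RingHom.ext
  intro x
  apply hinj'
  have hopen : g ⁻¹ᵁ b ⁻¹ᵁ U = g ⁻¹ᵁ a ⁻¹ᵁ U := by
    change (g ≫ b) ⁻¹ᵁ U = (g ≫ a) ⁻¹ᵁ U
    rw [hab]
  have key : (a.app U ≫ S.presheaf.map
      (eqToHom congr((TopologicalSpace.Opens.map $hbase.symm).obj U)).op) ≫ g.app (b ⁻¹ᵁ U)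
      = b.app U ≫ g.app (b ⁻¹ᵁ U) := by
    have h1 : a.app U ≫ g.app (a ⁻¹ᵁ U) = (b.app U ≫ g.app (b ⁻¹ᵁ U)) ≫ S'.presheaf.map
        (eqToHom hopen.symm).op := Scheme.Hom.congr_app hab U
    rw [Category.assoc, Scheme.Hom.naturality, ← Category.assoc, h1, Category.assoc, Category.assoc,
      ← Functor.map_comp]
    have h2 : S'.presheaf.map ((eqToHom hopen.symm).op ≫ ((TopologicalSpace.Opens.map g.base).map
        (eqToHom congr((TopologicalSpace.Opens.map $hbase.symm).obj U)).op.unop).op)
        = 𝟙 _ := by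
      rw [← S'.presheaf.map_id]
      congr 1
    rw [h2, Category.comp_id]
  exact congr_arg (fun h => h.hom x) key

end Groth.Agent.S2913
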