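import Groth.Statements.S2954
import Mathlib
import Groth.Agent.Lib.helper3.RootInt4

set_option autoImplicit false
open RootPairing
open scoped Pointwise
universe u
open RootD

namespace Groth.Agent.S2954

/-- For a finite crystallographic reduced root pairing (over a domain of characteristic zero), the Weyl
group acts freely and transitively on bases: for two bases b, b' there is exactly one element of the
Weyl group carrying the set of simple roots of b onto that of b'. -/
theorem result {ι R M N : Type*} [CommRing R] [CharZero R] [IsDomain R] [AddCommGroup M] [Module R M]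
    [AddCommGroup N] [Module R N] (P : RootPairing ι R M N) [Finite ι] [P.IsCrystallographic] [P.IsReduced]
    (b b' : P.Base) :
    ∃! g : P.weylGroup, (fun i : ι => (g : P.Aut) • i) '' (b.support : Set ι) = (b'.support : Set ι) := by
  open Groth.Agent.H3RootD RootPairing in
  obtain ⟨g, hg, him⟩ := base_exists_weyl b b'
  refine ⟨⟨g, hg⟩, him, ?_⟩
  rintro ⟨h, hh⟩ hhim
  apply Subtype.ext
  change h = g
  have h1 : g⁻¹ * h = 1 := by
    apply base_weyl_eq_one_of_image b _ (mul_mem (inv_mem hg) hh)
    have hhim' : (fun i : ι => h • i) '' (b.support : Set ι) = (b'.support : Set ι) := hhim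
    ext x
    constructor
    · rintro ⟨i, hi, rfl⟩
      have : h • i ∈ (b'.support : Set ι) := by rw [← hhim']; exact ⟨i, hi, rfl⟩
      rw [← him] at this
      obtain ⟨j, hj, hji⟩ := this
      change g • j = h • i at hji
      change (g⁻¹ * h) • i ∈ _
      rw [mul_smul, ← hji, inv_smul_smul]
      exact hj
    · intro hx
      have : g • x ∈ (b'.support : Set ι) := by rw [← him]; exact ⟨x, hx, rfl⟩
      rw [← hhim'] at this
      obtain ⟨j, hj, hji⟩ := this
      change h • j = g • x at hji
      refine ⟨j, hj, ?_⟩
      change (g⁻¹ * h) • j = x
      rw [mul_smul, hji, inv_smul_smul]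
  rw [inv_mul_eq_one] at h1
  exact h1.symm

end Groth.Agent.S2954
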