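import Groth.Statements.S2955
import Mathlib
import Groth.Agent.Lib.helper3.RootBase

set_option autoImplicit false
open RootPairing
open scoped Pointwise Classical
universe u
open RootD

namespace Groth.Agent.S2955

/-- Let P be a finite crystallographic reduced root pairing over a domain of characteristic zero, with a
base b, and write 2ρ for the sum of the positive roots with respect to b. Then for every simple root
β (an index in the support of b) the reflection in β sends 2ρ to 2ρ − 2β (equivalently, the coroot
of β pairs to 1 with ρ; only the reflection identity is asserted). -/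
theorem result {ι R M N : Type*} [CommRing R] [CharZero R] [IsDomain R] [AddCommGroup M] [Module R M]
    [AddCommGroup N] [Module R N] (P : RootPairing ι R M N) [Finite ι] [P.IsCrystallographic] [P.IsReduced]
    [Fintype ι] (b : P.Base) (j : ι) (hj : j ∈ b.support) :
    P.reflection j (∑ i, if b.IsPos i then P.root i else 0) =
      (∑ i, if b.IsPos i then P.root i else 0) - (2 : R) • P.root j := by
  open Groth.Agent.H3RootD RootPairing in
  rw [← Finset.sum_filter]
  have hjpos : b.IsPos j := Base.isPos_of_mem_support hj
  have hjS : j ∈ Finset.univ.filter (fun i => b.IsPos i) := by simp [hjpos]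
  rw [map_sum, ← Finset.add_sum_erase _ _ hjS, ← Finset.add_sum_erase _ _ hjS]
  have key : ∑ i ∈ (Finset.univ.filter (fun i => b.IsPos i)).erase j, P.reflection j (P.root i)
      = ∑ i ∈ (Finset.univ.filter (fun i => b.IsPos i)).erase j, P.root i := by
    refine Finset.sum_bij (fun i _ => P.reflectionPerm j i) ?_ ?_ ?_ ?_
    · intro i hi
      rw [Finset.mem_erase, Finset.mem_filter] at hi ⊢
      refine ⟨?_, Finset.mem_univ _, hi.2.2.reflectionPerm hj hi.1⟩
      intro h
      have h1 : P.reflectionPerm j (P.reflectionPerm j i) = P.reflectionPerm j j := by rw [h]
      rw [P.reflectionPerm_self] at h1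
      have h2 := b.height_reflectionPerm_self j
      simp only [RootPairing.indexNeg_neg] at h2
      have h3 : b.IsPos i := hi.2.2
      rw [h1, Base.isPos_iff, h2] at h3
      rw [Base.isPos_iff] at hjpos
      omega
    · intro i _ i' _ h
      exact (P.reflectionPerm j).injective h
    · intro i hi
      refine ⟨P.reflectionPerm j i, ?_, P.reflectionPerm_self j i⟩
      rw [Finset.mem_erase, Finset.mem_filter] at hi ⊢
      refine ⟨?_, Finset.mem_univ _, hi.2.2.reflectionPerm hj hi.1⟩
      intro h
      have h1 : P.reflectionPerm j (P.reflectionPerm j i) = P.reflectionPerm j j := by rw [h]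
      rw [P.reflectionPerm_self] at h1
      have h2 := b.height_reflectionPerm_self j
      simp only [RootPairing.indexNeg_neg] at h2
      have h3 : b.IsPos i := hi.2.2
      rw [h1, Base.isPos_iff, h2] at h3
      rw [Base.isPos_iff] at hjpos
      omega
    · intro i _
      rw [P.root_reflectionPerm]
  rw [key, P.reflection_apply_self, two_smul]
  abel

end Groth.Agent.S2955
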