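import Groth.Statements.S2957
import Mathlib
import Groth.Agent.Lib.helper3.RootTits

set_option autoImplicit false
open RootPairing
open scoped Pointwise
universe u
open RootD

namespace Groth.Agent.S2957

/-- For a finite crystallographic reduced root pairing with a base b: let α, β be simple roots and w an
element of the Weyl group with w(α) = β. Then there are simple roots α = α_0, ..., α_m = β and Weyl
group elements w_0, ..., w_{m-1} with w = w_{m-1} ... w_0, w_i(α_i) = α_{i+1}, and each w_i lying in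
the subgroup generated by the reflections in α_i and in a simple root γ_i, where γ_i = α_{i+1}
whenever α_i ≠ α_{i+1}. -/
theorem result {ι R M N : Type*} [CommRing R] [CharZero R] [IsDomain R] [AddCommGroup M] [Module R M]
    [AddCommGroup N] [Module R N] (P : RootPairing ι R M N) [Finite ι] [P.IsCrystallographic] [P.IsReduced]
    (b : P.Base) (α β : ι) (hα : α ∈ b.support) (hβ : β ∈ b.support) (w : P.Aut) (hw : w ∈ P.weylGroup)
    (hwα : w • α = β) :
    ∃ (m : ℕ) (a : Fin (m + 1) → ι) (ws : Fin m → P.Aut),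
      (∀ i, a i ∈ b.support) ∧ a 0 = α ∧ a (Fin.last m) = β ∧
      (∀ i, ws i ∈ P.weylGroup) ∧
      w = (List.ofFn fun i : Fin m => ws (Fin.rev i)).prod ∧
      (∀ i : Fin m, ws i • a (Fin.castSucc i) = a (Fin.succ i)) ∧
      ∀ i : Fin m, ∃ γ ∈ b.support,
        ws i ∈ Subgroup.closure {Equiv.reflection P (a (Fin.castSucc i)), Equiv.reflection P γ} ∧
        (a (Fin.castSucc i) ≠ a (Fin.succ i) → γ = a (Fin.succ i)) := by
  open Groth.Agent.H3RootD RootPairing in
  have hΔ := isSimpleSys_of_base b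
  obtain ⟨l₀, rfl⟩ := exists_wdR w hw
  obtain ⟨l, hl, hwl⟩ := exists_word hΔ (wd (intForm P) l₀) (wd_int_mem l₀)
  have hα' : wd (intForm P) l • α = β := by
    rw [hwl, ← wdR_smul_idx, hwα]
  obtain ⟨m, a, us, haΔ, ha0, halast, hwd, hstep, hγ⟩ :=
    tits_int hΔ l.length l hl rfl α (Finset.mem_coe.2 hα) β (Finset.mem_coe.2 hβ) hα'
  refine ⟨m, a, fun i => wdR P (us i), fun i => Finset.mem_coe.1 (haΔ i), ha0, halast,
    fun i => wdR_mem _, ?_, fun i => ?_, fun i => ?_⟩
  · have e : (List.ofFn fun i : Fin m => wdR P (us (Fin.rev i)))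
        = (List.ofFn fun i : Fin m => us (Fin.rev i)).map (wdR P) := by
      rw [List.map_ofFn]
      rfl
    rw [e, ← wdR_flatten]
    refine weylR_eq_of_idx _ _ (wdR_mem _) (wdR_mem _) fun k => ?_
    rw [wdR_smul_idx, wdR_smul_idx, ← hwl, hwd]
  · rw [wdR_smul_idx]
    exact hstep i
  · obtain ⟨γ, hγΔ, h1, h2⟩ := hγ i
    refine ⟨γ, Finset.mem_coe.1 hγΔ, ?_, h2⟩
    have := wdR_mem_closure (P := P) ({a (Fin.castSucc i), γ} : Set ι) (us i) (fun x hx => by
      rcases h1 x hx with h | h
      · exact Or.inl h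
      · exact Or.inr h)
    rw [Set.image_pair] at this
    exact this

end Groth.Agent.S2957
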