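import Groth.Statements.S2965
import Groth.Statements.S2965
import Mathlib

set_option autoImplicit false
universe u
open SGA3t2b

namespace Groth.Agent.S2965

open Polynomial in
/-- Implication (iv) ⇒ (i) (global form, finite free module): let u be an endomorphism of a finite free
module M over a commutative ring A whose characteristic polynomial is X^r · Q with Q(0) invertible.
Then M is the direct sum of two u-stable submodules M', M'' such that u is nilpotent on M' and
bijective on M''. -/
theorem result {A : Type u} [CommRing A] {M : Type u} [AddCommGroup M] [Module A M]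
    [Module.Free A M] [Module.Finite A M] (u : M →ₗ[A] M) (r : ℕ) (Q : A[X]) (hQ : IsUnit (Q.coeff 0))
    (h : u.charpoly = X ^ r * Q) :
    ∃ M' M'' : Submodule A M, IsCompl M' M'' ∧ (∀ x ∈ M', u x ∈ M') ∧ (∀ x ∈ M'', u x ∈ M'') ∧
      (∃ n : ℕ, ∀ x ∈ M', (u ^ n) x = 0) ∧ Set.BijOn u M'' M'' := by
  classical
  obtain ⟨q0, hq0⟩ := hQ
  set Q₁ : Polynomial A := Q.divX with hQ₁
  have hQdec : Q = Polynomial.X * Q₁ + Polynomial.C (Q.coeff 0) := (Polynomial.X_mul_divX_add Q).symm
  have hq0' : Polynomial.C ((q0⁻¹ : Aˣ) : A) * Polynomial.C (Q.coeff 0) = 1 := by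
    rw [← Polynomial.C_mul, ← hq0, Units.inv_mul, Polynomial.C_1]
  have hcopX : IsCoprime (Polynomial.X : Polynomial A) Q := by
    refine ⟨-(Polynomial.C ((q0⁻¹ : Aˣ) : A) * Q₁), Polynomial.C ((q0⁻¹ : Aˣ) : A), ?_⟩
    calc -(Polynomial.C ((q0⁻¹ : Aˣ) : A) * Q₁) * Polynomial.X + Polynomial.C ((q0⁻¹ : Aˣ) : A) * Q
        = -(Polynomial.C ((q0⁻¹ : Aˣ) : A) * Q₁) * Polynomial.X +
            Polynomial.C ((q0⁻¹ : Aˣ) : A) * (Polynomial.X * Q₁ + Polynomial.C (Q.coeff 0)) := by
          rw [← hQdec]
      _ = Polynomial.C ((q0⁻¹ : Aˣ) : A) * Polynomial.C (Q.coeff 0) := by ring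
      _ = 1 := hq0'
  have hcop : IsCoprime ((Polynomial.X : Polynomial A) ^ r) Q := hcopX.pow_left
  have hCH : Polynomial.aeval u ((Polynomial.X : Polynomial A) ^ r * Q) = 0 := by
    rw [← h]; exact LinearMap.aeval_self_charpoly u
  -- polynomials in `u` commute with `u`
  have hcomm : ∀ (P : Polynomial A) (x : M), Polynomial.aeval u P (u x) = u (Polynomial.aeval u P x) := by
    intro P x
    have h1 : Polynomial.aeval u P * Polynomial.aeval u (Polynomial.X : Polynomial A) =
        Polynomial.aeval u (Polynomial.X : Polynomial A) * Polynomial.aeval u P := by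
      rw [← map_mul, ← map_mul, mul_comm]
    rw [Polynomial.aeval_X] at h1
    exact LinearMap.congr_fun h1 x
  have hcomm2 : ∀ (P P' : Polynomial A) (x : M),
      Polynomial.aeval u P (Polynomial.aeval u P' x) = Polynomial.aeval u P' (Polynomial.aeval u P x) := by
    intro P P' x
    have h1 : Polynomial.aeval u P * Polynomial.aeval u P' = Polynomial.aeval u P' * Polynomial.aeval u P := by
      rw [← map_mul, mul_comm, map_mul]
    exact LinearMap.congr_fun h1 x
  refine ⟨LinearMap.ker (Polynomial.aeval u ((Polynomial.X : Polynomial A) ^ r)),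
    LinearMap.ker (Polynomial.aeval u Q), ⟨?_, ?_⟩, ?_, ?_, ⟨r, ?_⟩, ?_, ?_, ?_⟩
  · exact Polynomial.disjoint_ker_aeval_of_isCoprime u hcop
  · rw [codisjoint_iff, Polynomial.sup_ker_aeval_eq_ker_aeval_mul_of_coprime u hcop, hCH,
      LinearMap.ker_zero]
  · intro x hx
    rw [LinearMap.mem_ker] at hx ⊢
    rw [hcomm, hx, map_zero]
  · intro x hx
    rw [LinearMap.mem_ker] at hx ⊢
    rw [hcomm, hx, map_zero]
  · intro x hx
    rw [LinearMap.mem_ker, map_pow, Polynomial.aeval_X] at hx
    exact hx
  · -- maps to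
    intro x hx
    have hx' : Polynomial.aeval u Q x = 0 := hx
    show Polynomial.aeval u Q (u x) = 0
    rw [hcomm, hx', map_zero]
  · -- injective
    have hz : ∀ z : M, Polynomial.aeval u Q z = 0 → u z = 0 → z = 0 := by
      intro z hz1 hz2
      have h1 : Polynomial.aeval u Q z = Polynomial.aeval u Q₁ (u z) + Q.coeff 0 • z := by
        conv_lhs => rw [hQdec]
        rw [map_add, map_mul, Polynomial.aeval_X, Polynomial.aeval_C, LinearMap.add_apply,
          Module.End.mul_apply, ← hcomm, Module.algebraMap_end_apply]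
      rw [hz1, hz2, map_zero, zero_add, ← hq0] at h1
      have := congrArg (fun w => ((q0⁻¹ : Aˣ) : A) • w) h1
      simp only [smul_zero, smul_smul, Units.inv_mul, one_smul] at this
      exact this.symm
    intro x hx y hy hxy
    have hx' : Polynomial.aeval u Q x = 0 := hx
    have hy' : Polynomial.aeval u Q y = 0 := hy
    have := hz (x - y) (by rw [map_sub, hx', hy', sub_self]) (by rw [map_sub, hxy, sub_self])
    exact sub_eq_zero.mp this
  · -- surjective
    intro y hy
    have hy' : Polynomial.aeval u Q y = 0 := hy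
    refine ⟨-(((q0⁻¹ : Aˣ) : A) • Polynomial.aeval u Q₁ y), ?_, ?_⟩
    · show Polynomial.aeval u Q (-(((q0⁻¹ : Aˣ) : A) • Polynomial.aeval u Q₁ y)) = 0
      rw [map_neg, map_smul, hcomm2, hy', map_zero, smul_zero, neg_zero]
    · have h1 : Polynomial.aeval u Q y = u (Polynomial.aeval u Q₁ y) + Q.coeff 0 • y := by
        conv_lhs => rw [hQdec]
        rw [map_add, map_mul, Polynomial.aeval_X, Polynomial.aeval_C, LinearMap.add_apply,
          Module.End.mul_apply, Module.algebraMap_end_apply]
      rw [hy', ← hq0] at h1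
      have h2 := congrArg (fun w => ((q0⁻¹ : Aˣ) : A) • w) h1
      simp only [smul_zero, smul_add, smul_smul, Units.inv_mul, one_smul] at h2
      rw [map_neg, map_smul]
      exact (eq_neg_of_add_eq_zero_right h2.symm).symm

end Groth.Agent.S2965
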