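import Groth.Statements.S2967
import Groth.Statements.S2967
import Mathlib

set_option autoImplicit false
universe u
open SGA3t2b

namespace Groth.Agent.S2967

/-- A commutative p-Lie algebra over a field k of characteristic p is recorded as a k-vector space g
together with its p-th power map φ, which is additive and Frobenius-semilinear. Let g be
finite-dimensional and non-zero, and assume every element of g is killed by some iterate of φ (g is
unipotent). Then the k-subspace of g spanned by the image φ(g) is a proper subspace. -/
theorem result {k : Type u} [Field k] (p : ℕ) [Fact p.Prime] [CharP k p]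
    {V : Type u} [AddCommGroup V] [Module k V] [FiniteDimensional k V] [Nontrivial V]
    (φ : V →ₛₗ[frobenius k p] V) (hφ : ∀ x : V, ∃ n : ℕ, φ^[n] x = 0) :
    Submodule.span k (Set.range φ) ≠ ⊤ := by
  classical
  intro htop
  -- semilinear maps commute with spans
  have iter_semilinear : ∀ (n : ℕ) (c : k) (x : V), φ^[n] (c • x) = (c ^ p ^ n) • φ^[n] x := by
    intro n
    induction n with
    | zero => intro c x; simp
    | succ n ih =>
      intro c x
      rw [Function.iterate_succ_apply', ih, Function.iterate_succ_apply', map_smulₛₗ,
        frobenius_def, ← pow_mul, pow_succ]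
  have iter_add : ∀ (n : ℕ) (x y : V), φ^[n] (x + y) = φ^[n] x + φ^[n] y := by
    intro n
    induction n with
    | zero => intro x y; simp
    | succ n ih => intro x y; rw [Function.iterate_succ_apply', ih, map_add,
        ← Function.iterate_succ_apply' φ, ← Function.iterate_succ_apply' φ]
  have iter_zero : ∀ n : ℕ, φ^[n] 0 = 0 := by
    intro n
    induction n with
    | zero => rfl
    | succ n ih => rw [Function.iterate_succ_apply', ih, map_zero]
  -- all iterates of `φ` span
  have hspan : ∀ n : ℕ, Submodule.span k (Set.range (φ^[n])) = ⊤ := by
    intro n
    induction n with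
    | zero => simp
    | succ n ih =>
      rw [eq_top_iff, ← htop, Submodule.span_le]
      rintro _ ⟨x, rfl⟩
      have hx : x ∈ Submodule.span k (Set.range (φ^[n])) := ih ▸ Submodule.mem_top
      induction hx using Submodule.span_induction with
      | mem y hy =>
        obtain ⟨z, rfl⟩ := hy
        apply Submodule.subset_span
        exact ⟨z, (Function.iterate_succ_apply' φ n z)⟩
      | zero => rw [map_zero]; exact Submodule.zero_mem _
      | add a b _ _ ha hb => rw [map_add]; exact Submodule.add_mem _ ha hb
      | smul c a _ ha => rw [map_smulₛₗ]; exact Submodule.smul_mem _ _ ha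
  -- a uniform exponent killing a basis
  let b := Module.finBasis k V
  choose N hN using fun i => hφ (b i)
  let Nmax := Finset.univ.sup N
  have hkill_basis : ∀ i, φ^[Nmax] (b i) = 0 := by
    intro i
    have hle : N i ≤ Nmax := Finset.le_sup (f := N) (Finset.mem_univ i)
    obtain ⟨d, hd⟩ := Nat.exists_eq_add_of_le hle
    rw [hd, add_comm, Function.iterate_add_apply, hN i, iter_zero]
  have hkill : ∀ x : V, φ^[Nmax] x = 0 := by
    intro x
    have hx : x ∈ Submodule.span k (Set.range b) := by rw [b.span_eq]; trivial
    induction hx using Submodule.span_induction with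
    | mem y hy => obtain ⟨i, rfl⟩ := hy; exact hkill_basis i
    | zero => exact iter_zero _
    | add a c _ _ ha hc => rw [iter_add, ha, hc, add_zero]
    | smul c a _ ha => rw [iter_semilinear, ha, smul_zero]
  have h0 : Submodule.span k (Set.range (φ^[Nmax])) = ⊥ := by
    rw [Submodule.span_eq_bot]
    rintro _ ⟨x, rfl⟩
    exact hkill x
  rw [hspan Nmax] at h0
  exact top_ne_bot h0

end Groth.Agent.S2967
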