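import Groth.Statements.S2978

set_option autoImplicit false
universe u
open SGA3b

namespace Groth.Agent.S2978

/-- Let A be a Noetherian ring, M a set and a : M × M → A a family vanishing off the diagonal which is a
finite sum of decomposable families: a(m, m') = Σ_i b_i(m) c_i(m') for finitely many b_i, c_i : M →
A. Then a has finite support. -/
theorem result (A : Type u) [CommRing A] [IsNoetherianRing A] (M : Type u)
    (a : M × M → A) (hdiag : ∀ m m', m ≠ m' → a (m, m') = 0)
    (ι : Type u) [Fintype ι] (b c : ι → M → A) (hdec : ∀ m m', a (m, m') = ∑ i, b i m * c i m') :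
    Set.Finite {p : M × M | a p ≠ 0} := by
  classical
  let β : M → (ι → A) := fun m i => b i m
  have hfg : (Submodule.span A (Set.range β)).FG := IsNoetherian.noetherian _
  obtain ⟨s', hs', hspan⟩ := (Submodule.fg_span_iff_fg_span_finset_subset _).mp hfg
  have hch : ∀ v : (s' : Set (ι → A)), ∃ m : M, β m = v.1 := fun v => hs' v.2
  choose mv hmv using hch
  let φ : M → ((ι → A) →ₗ[A] A) := fun m =>
    ∑ i, (c i m) • (LinearMap.proj i : (ι → A) →ₗ[A] A)
  have hφ : ∀ m m', φ m (β m') = a (m', m) := by
    intro m m'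
    simp only [φ, LinearMap.sum_apply, LinearMap.smul_apply, LinearMap.proj_apply, β, hdec,
      smul_eq_mul]
    exact Finset.sum_congr rfl fun i _ => mul_comm _ _
  refine Set.Finite.subset (Set.finite_range (fun v : (s' : Set (ι → A)) => (mv v, mv v))) ?_
  rintro ⟨m, m'⟩ hne
  have hmm : m = m' := by
    by_contra h
    exact hne (hdiag m m' h)
  subst hmm
  by_contra hnot
  apply hne
  have hker : Submodule.span A (s' : Set (ι → A)) ≤ LinearMap.ker (φ m) := by
    rw [Submodule.span_le]
    intro v hv
    have hv' : β (mv ⟨v, hv⟩) = v := hmv ⟨v, hv⟩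
    rw [SetLike.mem_coe, LinearMap.mem_ker, ← hv', hφ]
    apply hdiag
    intro h
    exact hnot ⟨⟨v, hv⟩, by simp only [h]⟩
  have hmem : β m ∈ Submodule.span A (s' : Set (ι → A)) := by
    rw [← hspan]
    exact Submodule.subset_span ⟨m, rfl⟩
  have := hker hmem
  rw [LinearMap.mem_ker, hφ] at this
  exact this

end Groth.Agent.S2978
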