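import Groth.Statements.S3043

set_option autoImplicit false
universe u
open CategoryTheory MonoidalCategory CartesianMonoidalCategory MonObj GrpObj AlgebraicGeometry TensorProduct
open SGA3

open CategoryTheory CategoryTheory.Limits MorphismProperty in
theorem aux_integral_of_section {X S : Scheme.{u}} (π : X ⟶ S) (ε : S ⟶ X) (hε : ε ≫ π = 𝟙 S)
    (hinj : Function.Injective π.base) : IsIntegralHom π := by
  wlog hS : ∃ R, S = Spec R generalizing X S
  · rw [IsZariskiLocalAtTarget.iff_of_openCover (P := @IsIntegralHom) S.affineCover]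
    intro i
    have hcond : (S.affineCover.f i ≫ ε) ≫ π = 𝟙 _ ≫ S.affineCover.f i := by
      rw [Category.assoc, hε, Category.comp_id, Category.id_comp]
    refine this (pullback.snd π (S.affineCover.f i))
      (pullback.lift (S.affineCover.f i ≫ ε) (𝟙 _) hcond) (pullback.lift_snd _ _ _) ?_ ⟨_, rfl⟩
    intro a b hab
    have h1 : π (pullback.fst π (S.affineCover.f i) a) = π (pullback.fst π (S.affineCover.f i) b) := by
      rw [← Scheme.Hom.comp_apply, ← Scheme.Hom.comp_apply, pullback.condition,
        Scheme.Hom.comp_apply, Scheme.Hom.comp_apply]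
      exact congr_arg _ hab
    exact (pullback.fst π (S.affineCover.f i)).isOpenEmbedding.injective (hinj h1)
  have hπε : ∀ s : S, π (ε s) = s := fun s => by
    have := congr_arg (fun h : S ⟶ S => h s) hε
    simpa using this
  have hεπ : ∀ x : X, ε (π x) = x := fun x => hinj (hπε _)
  have hsurjε : Function.Surjective ε := fun x => ⟨π x, hεπ x⟩
  have haff : IsAffineHom π := by
    apply isAffineHom_of_isInducing
    · refine Topology.IsInducing.of_comp π.continuous ε.continuous ?_
      have : (ε : S → X) ∘ (π : X → S) = id := funext hεπ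
      rw [this]
      exact Topology.IsInducing.id
    · have : Set.range π = Set.univ := Set.eq_univ_of_forall fun s => ⟨ε s, hπε s⟩
      rw [this]; exact isClosed_univ
  obtain ⟨R, rfl⟩ := hS
  have hX : IsAffine X := isAffine_of_isAffineHom π
  rw [HasAffineProperty.iff_of_isAffine (P := @IsIntegralHom)]
  refine ⟨hX, ?_⟩
  change RingHom.IsIntegral (π.appTop).hom
  have hcomp : ∀ a, (ε.appTop).hom ((π.appTop).hom a) = a := by
    intro a
    have h2 : π.appTop ≫ ε.appTop = 𝟙 _ := by
      rw [← Scheme.Hom.comp_appTop, hε]; rfl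
    exact congr_arg (fun h => h.hom a) h2
  intro b
  have hnil : IsNilpotent (b - (π.appTop).hom ((ε.appTop).hom b)) := by
    rw [Scheme.isNilpotent_iff_basicOpen_eq_bot]
    rw [eq_bot_iff]
    intro x hx
    obtain ⟨s, rfl⟩ := hsurjε x
    have h3 : s ∈ ε ⁻¹ᵁ X.basicOpen (b - (π.appTop).hom ((ε.appTop).hom b)) := hx
    rw [Scheme.preimage_basicOpen] at h3
    have h4 : (ε.appTop).hom (b - (π.appTop).hom ((ε.appTop).hom b)) = 0 := by
      rw [map_sub, hcomp, sub_self]
    have h5 : (ε.app ⊤) (b - (π.appTop).hom ((ε.appTop).hom b)) = 0 := h4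
    rw [h5] at h3
    rw [Scheme.basicOpen_zero] at h3
    exact h3
  have hb : b = (b - (π.appTop).hom ((ε.appTop).hom b)) + (π.appTop).hom ((ε.appTop).hom b) := by ring
  rw [hb]
  refine RingHom.IsIntegralElem.add _ ?_ (RingHom.isIntegralElem_map _)
  obtain ⟨n, hn⟩ := hnil
  refine ⟨Polynomial.X ^ n, Polynomial.monic_X_pow n, ?_⟩
  rw [Polynomial.eval₂_pow, Polynomial.eval₂_X]
  exact hn

namespace Groth.Agent.S3043

/-- Let π : X → S be a morphism of schemes admitting a section ε (ε followed by π is the identity). If π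
is injective on underlying points, then π is an integral morphism. -/
theorem result (X S : Scheme.{u}) (π : X ⟶ S) (ε : S ⟶ X) (hε : ε ≫ π = 𝟙 S)
    (hinj : Function.Injective π.base) : IsIntegralHom π := by
  exact aux_integral_of_section π ε hε hinj

end Groth.Agent.S3043
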