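import Groth.Statements.S3045
import Groth.Statements.S3045
import Mathlib

set_option autoImplicit false
universe u
open TensorProduct
open SGA3

namespace Groth.Agent.S3045

/-- Let A be a commutative Hopf algebra over a commutative ring k (the coordinate ring of an affine
group G = Spec A) and φ, ψ two k[ε]-valued points of G reducing to the unit point modulo ε (tangent
vectors at the identity). Then for every a ∈ A the ε-component of the product point φ · ψ at a — the
product of points being convolution, formed here as the triple convolution of φ, ψ and the unit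
point — is the sum of the ε-components of φ(a) and ψ(a): on tangent vectors at the identity the
group law of G induces addition. -/
theorem result (k : Type u) [CommRing k] (A : Type u) [CommRing A] [HopfAlgebra k A]
    (φ ψ : LieHopf.LiePts k A) (a : A) :
    TrivSqZeroExt.snd (Dyn.conv3 k A φ.1 ψ.1 ((Algebra.ofId k (DualNumber k)).comp (Bialgebra.counitAlgHom k A)) a) =
      LieHopf.LiePts.tangent k A φ a + LieHopf.LiePts.tangent k A ψ a := by
  classical
  set H : A →ₐ[k] DualNumber k :=
    (Algebra.ofId k (DualNumber k)).comp (Bialgebra.counitAlgHom k A) with hH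
  set U : A ⊗[k] A →ₐ[k] DualNumber k :=
    (Algebra.TensorProduct.lmul' (S := DualNumber k) k).comp (Algebra.TensorProduct.map φ.1 ψ.1) with hU
  -- step 1: collapse the third factor
  have step1 : ∀ c : A ⊗[k] A,
      (Algebra.TensorProduct.lmul' (S := DualNumber k) k)
        ((Algebra.TensorProduct.map U H)
          ((Algebra.TensorProduct.map (Bialgebra.comulAlgHom k A) (AlgHom.id k A)) c)) =
        U (Coalgebra.comul (TensorProduct.rid k A ((Coalgebra.counit (R := k) (A := A)).lTensor A c))) := by
    intro c
    induction c using TensorProduct.induction_on with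
    | zero => simp
    | add x y hx hy => simp only [map_add, hx, hy]
    | tmul x y =>
      simp only [Algebra.TensorProduct.map_tmul, Algebra.TensorProduct.lmul'_apply_tmul,
        LinearMap.lTensor_tmul, TensorProduct.rid_tmul, map_smul, AlgHom.coe_id, id_eq]
      rw [Algebra.smul_def, mul_comm]
      rfl
  have step2 : ∀ c : A ⊗[k] A,
      TrivSqZeroExt.snd (U c) =
        TrivSqZeroExt.snd (ψ.1 (TensorProduct.lid k A ((Coalgebra.counit (R := k) (A := A)).rTensor A c))) +
        TrivSqZeroExt.snd (φ.1 (TensorProduct.rid k A ((Coalgebra.counit (R := k) (A := A)).lTensor A c))) := by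
    intro c
    induction c using TensorProduct.induction_on with
    | zero => simp
    | add x y hx hy =>
      simp only [map_add, TrivSqZeroExt.snd_add, hx, hy]
      ring
    | tmul x y =>
      simp only [hU, AlgHom.comp_apply, Algebra.TensorProduct.map_tmul,
        Algebra.TensorProduct.lmul'_apply_tmul, LinearMap.lTensor_tmul, LinearMap.rTensor_tmul,
        TensorProduct.rid_tmul, TensorProduct.lid_tmul, map_smul, TrivSqZeroExt.snd_mul,
        TrivSqZeroExt.snd_smul]
      rw [φ.2 x, ψ.2 y]
      simp only [Bialgebra.counitAlgHom_apply, smul_eq_mul, MulOpposite.smul_eq_mul_unop,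
        MulOpposite.unop_op]
      ring
  have h1 : Dyn.conv3 k A φ.1 ψ.1 H a = U (Coalgebra.comul a) := by
    have := step1 (Coalgebra.comul a)
    rw [Coalgebra.lTensor_counit_comul, TensorProduct.rid_tmul, one_smul] at this
    exact this
  rw [h1, step2, Coalgebra.lTensor_counit_comul, Coalgebra.rTensor_counit_comul,
    TensorProduct.rid_tmul, TensorProduct.lid_tmul]
  simp only [one_smul]
  exact add_comm _ _

end Groth.Agent.S3045
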