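import Groth.Statements.S3056
import Groth.Agent.Lib.helper1.ToposFinSite

set_option autoImplicit false
open CategoryTheory CategoryTheory.Limits Opposite
universe u
open ToposFin

namespace Groth.Agent.S3056

/-- For a small site (C, J) and an object X of C, X is quasi-compact as an object of the site (every
covering sieve contains finitely many arrows generating a covering sieve) if and only if the sheaf
associated to the presheaf represented by X is a quasi-compact object of the topos of sheaves of
sets. -/
theorem result {C : Type u} [SmallCategory C] (J : GrothendieckTopology C) (X : C) :
    ToposFin.IsQCSite J X ↔ ToposFin.IsQC (ToposFin.eps J X) := by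
  exact ⟨Groth.Agent.H1.TF.H1_isQC_eps_of_isQCSite J, Groth.Agent.H1.TF.H1_isQCSite_of_isQC_eps J⟩

end Groth.Agent.S3056
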