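import Groth.Statements.S3060
import Groth.Agent.Lib.helper1.ToposFinColim2

set_option autoImplicit false
open CategoryTheory CategoryTheory.Limits Opposite
universe u
open ToposFin

namespace Groth.Agent.S3060

/-- For a topos of sheaves of sets on a small site admitting a generating family of quasi-compact
objects: if X is coherent then for every small filtered diagram (Y_i) the natural map colim Hom(X,
Y_i) -> Hom(X, colim Y_i) is bijective (X is finitely presentable). -/
theorem result {C : Type u} [SmallCategory C] {J : GrothendieckTopology C}
    (hE : ToposFin.HasQCGenerators J) (X : ToposFin.Sh J) (hX : ToposFin.IsCoherent X)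
    (I : Type u) [SmallCategory I] [IsFiltered I] (D : I ⥤ ToposFin.Sh J) :
    Function.Bijective (colimit.post D (coyoneda.obj (op X))) := by
  constructor
  · rw [Groth.Agent.H1.TF.H1_post_injective_iff]
    intro i f g h
    exact Groth.Agent.H1.TF.H1_hom_colim_inj_of_isQC D (colimit.cocone D) (colimit.isColimit D) hX.1 f g h
  · rw [Groth.Agent.H1.TF.H1_post_surjective_iff]
    intro φ
    exact Groth.Agent.H1.TF.H1_hom_colim_surj_of_isCoherent hE D (colimit.cocone D)
      (colimit.isColimit D) hX φ

end Groth.Agent.S3060
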