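import Groth.Statements.S3063
import Groth.Agent.Lib.helper1.ToposFin3

set_option autoImplicit false
open CategoryTheory CategoryTheory.Limits Opposite
universe u
open ToposFin

namespace Groth.Agent.S3063

/-- For a topos of sheaves of sets on a small site: suppose given a family of quasi-compact objects G_a
which is generating (every object receives a jointly epimorphic family from the G_a). Then f : X ->
Y is quasi-compact if and only if X x_Y G_a is quasi-compact for every a and every morphism G_a ->
Y. -/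
theorem result {C : Type u} [SmallCategory C] {J : GrothendieckTopology C} {α : Type u} (G : α → ToposFin.Sh J)
    (hG : ∀ a, ToposFin.IsQC (G a))
    (hgen : ∀ X : ToposFin.Sh J, ∃ (ι : Type u) (a : ι → α) (π : ∀ i, G (a i) ⟶ X), Epi (Sigma.desc π))
    {X Y : ToposFin.Sh J} (f : X ⟶ Y) :
    ToposFin.IsQCHom f ↔ ∀ (a : α) (s : G a ⟶ Y), ToposFin.IsQC (pullback f s) := by
  have hgen' : ∀ X : Sheaf J (Type u), ∃ (ι : Type u) (F : ι → Sheaf J (Type u))
      (π : ∀ i, F i ⟶ X), (∀ i, (fun W => ∃ a, W = G a) (F i)) ∧ Groth.Agent.H1.TF.JE π := by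
    intro X
    obtain ⟨ι, a, π, hπ⟩ := hgen X
    exact ⟨ι, fun i => G (a i), π, fun i => ⟨a i, rfl⟩,
      (Groth.Agent.H1.TF.H1_epi_sigmaDesc_iff π).1 hπ⟩
  constructor
  · intro h a s
    exact h (G a) s (hG a)
  · intro h
    refine Groth.Agent.H1.TF.H1_isQCHom_of_gen (fun W => ∃ a, W = G a) hgen' f ?_
    rintro W s ⟨a, rfl⟩
    exact h a s

end Groth.Agent.S3063
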