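import Groth.Statements.S3068
import Groth.Agent.Lib.helper1.ToposFin3

set_option autoImplicit false
open CategoryTheory CategoryTheory.Limits Opposite
universe u
open ToposFin

namespace Groth.Agent.S3068

/-- For a topos of sheaves of sets on a small site: given a generating family of quasi-compact objects
G_a, an object Y is quasi-separated if and only if every morphism G_a -> Y is quasi-compact. -/
theorem result {C : Type u} [SmallCategory C] {J : GrothendieckTopology C} {α : Type u} (G : α → ToposFin.Sh J) (hG : ∀ a, ToposFin.IsQC (G a))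
    (hgen : ∀ X : ToposFin.Sh J, ∃ (ι : Type u) (a : ι → α) (π : ∀ i, G (a i) ⟶ X), Epi (Sigma.desc π))
    (Y : ToposFin.Sh J) :
    ToposFin.IsQS Y ↔ ∀ (a : α) (s : G a ⟶ Y), ToposFin.IsQCHom s := by
  have hgen' : ∀ X : Sheaf J (Type u), ∃ (ι : Type u) (F : ι → Sheaf J (Type u))
      (π : ∀ i, F i ⟶ X), (∀ i, (fun W => ∃ a, W = G a) (F i)) ∧ Groth.Agent.H1.TF.JE π := by
    intro X
    obtain ⟨ι, a, π, hπ⟩ := hgen X
    exact ⟨ι, fun i => G (a i), π, fun i => ⟨a i, rfl⟩,
      (Groth.Agent.H1.TF.H1_epi_sigmaDesc_iff π).1 hπ⟩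
  constructor
  · intro h a s Y' g hY'
    exact h (G a) Y' s g (hG a) hY'
  · intro h
    refine Groth.Agent.H1.TF.H1_isQS_of_gen (fun W => ∃ a, W = G a) hgen' Y ?_
    rintro W s ⟨a, rfl⟩
    exact h a s

end Groth.Agent.S3068
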