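import Groth.Statements.S3082
import Mathlib

set_option autoImplicit false
universe u
open CategoryTheory
open SGA4

open CategoryTheory CategoryTheory.Limits Opposite in
theorem H1_3082 {C : Type u} [SmallCategory C] (J : GrothendieckTopology C) (G : Set C)
    (hG : ∀ X : C, ∃ (ι : Type u) (Y : ι → C) (f : ∀ i, Y i ⟶ X),
      Sieve.ofArrows Y f ∈ J X ∧ ∀ i, Y i ∈ G) :
    (ObjectProperty.ofObj fun X : G =>
      (presheafToSheaf J (Type u)).obj (yoneda.obj (X : C))).IsDetecting := by
  intro F F' f hf
  let adj := sheafificationAdjunction J (Type u)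
  -- bijectivity on sections over members of G
  have hbij : ∀ X : C, X ∈ G → Function.Bijective (f.hom.app (op X)) := by
    intro X hX
    have hX' := hf _ (ObjectProperty.ofObj_apply
      (fun X : G => (presheafToSheaf J (Type u)).obj (yoneda.obj (X : C))) ⟨X, hX⟩)
    -- translate
    have tr : ∀ (h' : (presheafToSheaf J (Type u)).obj (yoneda.obj X) ⟶ F),
        yonedaEquiv ((adj.homEquiv _ _) (h' ≫ f)) =
          f.hom.app (op X) (yonedaEquiv ((adj.homEquiv _ _) h')) := by
      intro h'
      rw [Adjunction.homEquiv_naturality_right]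
      rfl
    constructor
    · intro s s' hss
      let h1 : (presheafToSheaf J (Type u)).obj (yoneda.obj X) ⟶ F :=
        (adj.homEquiv _ _).symm (yonedaEquiv.symm s)
      let h2 : (presheafToSheaf J (Type u)).obj (yoneda.obj X) ⟶ F :=
        (adj.homEquiv _ _).symm (yonedaEquiv.symm s')
      have e1 : yonedaEquiv ((adj.homEquiv _ _) h1) = s := by simp [h1]
      have e2 : yonedaEquiv ((adj.homEquiv _ _) h2) = s' := by simp [h2]
      have : h1 ≫ f = h2 ≫ f := by
        apply (adj.homEquiv _ _).injective
        apply yonedaEquiv.injective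
        rw [tr, tr, e1, e2, hss]
      obtain ⟨h₀, _, hu⟩ := hX' (h1 ≫ f)
      have : h1 = h2 := (hu h1 rfl).trans (hu h2 this.symm).symm
      rw [← e1, ← e2, this]
    · intro s
      obtain ⟨h', hh', _⟩ := hX' ((adj.homEquiv _ _).symm (yonedaEquiv.symm s))
      refine ⟨yonedaEquiv ((adj.homEquiv _ _) h'), ?_⟩
      rw [← tr, hh']
      simp
  -- locally bijective
  rw [← GrothendieckTopology.W_sheafToPresheaf_map_iff_isIso]
  change J.W f.hom
  rw [GrothendieckTopology.W_iff_isLocallyBijective]
  constructor
  · constructor
    intro V x y hxy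
    obtain ⟨ι, Y, g, hcov, hYG⟩ := hG V.unop
    refine J.superset_covering ?_ hcov
    intro W k hk
    rw [Sieve.mem_ofArrows_iff] at hk
    obtain ⟨i, a, rfl⟩ := hk
    change F.obj.map (a ≫ g i).op x = F.obj.map (a ≫ g i).op y
    rw [op_comp, F.obj.map_comp]
    change F.obj.map a.op (F.obj.map (g i).op x) = F.obj.map a.op (F.obj.map (g i).op y)
    congr 1
    apply (hbij (Y i) (hYG i)).1
    have n1 := ConcreteCategory.congr_hom (f.hom.naturality (g i).op) x
    have n2 := ConcreteCategory.congr_hom (f.hom.naturality (g i).op) y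
    exact n1.trans ((congrArg _ hxy).trans n2.symm)
  · constructor
    intro V x
    obtain ⟨ι, Y, g, hcov, hYG⟩ := hG V
    refine J.superset_covering ?_ hcov
    intro W k hk
    rw [Sieve.mem_ofArrows_iff] at hk
    obtain ⟨i, a, rfl⟩ := hk
    obtain ⟨t, ht⟩ := (hbij (Y i) (hYG i)).2 (F'.obj.map (g i).op x)
    refine ⟨F.obj.map a.op t, ?_⟩
    have n1 := ConcreteCategory.congr_hom (f.hom.naturality a.op) t
    refine n1.trans ?_
    change F'.obj.map a.op (f.hom.app _ t) = F'.obj.map (a ≫ g i).op x
    rw [ht, op_comp, F'.obj.map_comp]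
    rfl

namespace Groth.Agent.S3082

/-- Let (C, J) be a small site and G a set of objects of C such that each object of C has a covering
family whose members all lie in G. Then the sheafifications of the presheaves represented by the
members of G form a detecting family in the category Sh(C, J) of set-valued sheaves on (C, J): any
morphism of sheaves that is bijective on sections over each member of G is an isomorphism. -/
theorem result {C : Type u} [SmallCategory C] (J : GrothendieckTopology C) (G : Set C)
    (hG : ∀ X : C, ∃ (ι : Type u) (Y : ι → C) (f : ∀ i, Y i ⟶ X), Sieve.ofArrows Y f ∈ J X ∧ ∀ i, Y i ∈ G) :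
    (ObjectProperty.ofObj fun X : G => (presheafToSheaf J (Type u)).obj (yoneda.obj (X : C))).IsDetecting := by
  exact H1_3082 J G hG

end Groth.Agent.S3082
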