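import Groth.Statements.S3084
import Mathlib
import Groth.Agent.Lib.helper1.SheafClosed2

set_option autoImplicit false
universe u
open CategoryTheory
open SGA4

namespace Groth.Agent.S3084

open CategoryTheory.Limits in
/-- For sheaves of sets on a small site: let U be an open, j^* = (X ↦ U × X over U) the restriction to
the open subtopos E/U and i^* any left adjoint of the inclusion of the closed complement of U. A
morphism m of E is an isomorphism if and only if both j^*(m) and i^*(m) are isomorphisms. -/
theorem result {C : Type u} [SmallCategory C] (J : GrothendieckTopology C)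
    (U : Sheaf J (Type u)) (hU : SGA4.IsOpen U)
    (L : Sheaf J (Type u) ⥤ (SGA4.closedCompl U).FullSubcategory) (adj : L ⊣ (SGA4.closedCompl U).ι)
    {X Y : Sheaf J (Type u)} (m : X ⟶ Y) :
    IsIso m ↔ IsIso ((Over.star U).map m) ∧ IsIso (L.map m) := by
  constructor
  · intro h
    exact ⟨inferInstance, inferInstance⟩
  · rintro ⟨h1, h2⟩
    let e : L ≅ Groth.Agent.H1.ShClosed.L₀ J U :=
      adj.leftAdjointUniq (Groth.Agent.H1.ShClosed.adj₀ J U)
    have h3 : IsIso ((Groth.Agent.H1.ShClosed.L₀ J U).map m) := (NatIso.isIso_map_iff e m).1 h2
    have h4 : IsIso ((Groth.Agent.H1.ShClosed.L' J U).map m) :=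
      (inferInstance : IsIso (((SGA4.closedCompl U).ι).map
        ((Groth.Agent.H1.ShClosed.L₀ J U).map m)))
    have h5 : IsIso (prod.map (𝟙 U) m) := by
      have : IsIso ((Over.forget U).map ((Over.star U).map m)) := inferInstance
      simp only [Over.forget_map, Over.star_map_left] at this
      exact this
    exact Groth.Agent.H1.ShClosed.isIso_of_open_closed J U hU m h5 h4

end Groth.Agent.S3084
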