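import Groth.Statements.S3085
import Mathlib
import Groth.Agent.Lib.helper1.Glue
import Groth.Agent.Lib.helper1.SheafClosed2
import Groth.Agent.S3084

set_option autoImplicit false
universe u
open CategoryTheory
open SGA4

namespace Groth.Agent.S3085

open CategoryTheory.Limits in
/-- Gluing a topos from an open subtopos and its closed complement, for sheaves of sets on a small site:
let E be the category of sheaves of sets on a small site, U an open of E (a subobject of the final
object) with restriction functor j^* : E → E/U, X ↦ U × X; assume j^* has a right adjoint j_* (true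
in any topos; taken as an instance hypothesis), and let i^* be a left adjoint of the inclusion of
the closed complement F of U. With ρ = i^* ∘ j_* : E/U → F, the category E is equivalent to the
glued category of triples (Y in F, X in E/U, Y → ρX). (Only the existence of an equivalence is
asserted; the published statement gives it explicitly as X ↦ (i^*X, j^*X, i^*(X → j_*j^*X)).) -/
theorem result {C : Type u} [SmallCategory C] (J : GrothendieckTopology C)
    (U : Sheaf J (Type u)) (hU : SGA4.IsOpen U) [(Over.star U).IsLeftAdjoint]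
    (L : Sheaf J (Type u) ⥤ (SGA4.closedCompl U).FullSubcategory) (adj : L ⊣ (SGA4.closedCompl U).ι) :
    Nonempty (Sheaf J (Type u) ≌
      Comma (𝟭 (SGA4.closedCompl U).FullSubcategory) ((Over.star U).rightAdjoint ⋙ L)) := by
  let adjJ : Over.star U ⊣ (Over.star U).rightAdjoint := Adjunction.ofIsLeftAdjoint _
  -- the right adjoint is fully faithful
  let t : Adjunction.Triple (Over.forget U) (Over.star U) (Over.star U).rightAdjoint :=
    ⟨Over.forgetAdjStar U, adjJ⟩
  let ffF : (Over.forget U).FullyFaithful :=
    { preimage := fun {A B} f => Over.homMk f (Groth.Agent.H1.ShOpen.subterminal_ext hU _ _)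
      map_preimage := fun _ => rfl
      preimage_map := fun _ => by ext; rfl }
  let ffR := t.fullyFaithfulEquiv ffF
  haveI := ffR.full
  haveI := ffR.faithful
  -- lexness
  let e : L ≅ Groth.Agent.H1.ShClosed.L₀ J U :=
    adj.leftAdjointUniq (Groth.Agent.H1.ShClosed.adj₀ J U)
  haveI : PreservesLimitsOfShape WalkingCospan L := preservesLimitsOfShape_of_natIso e.symm
  haveI : PreservesLimitsOfShape WalkingCospan (Over.star U) := by
    haveI := (Over.forgetAdjStar U).rightAdjoint_preservesLimits
    infer_instance
  have hT : ∀ {Y Y' : (SGA4.closedCompl U).FullSubcategory}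
      (g : (Over.star U).obj ((SGA4.closedCompl U).ι.obj Y) ⟶
        (Over.star U).obj ((SGA4.closedCompl U).ι.obj Y')), IsIso g := by
    intro Y Y' g
    haveI i1 : IsIso (prod.fst : U ⨯ Y.obj ⟶ U) := Y.property
    haveI i2 : IsIso (prod.fst : U ⨯ Y'.obj ⟶ U) := Y'.property
    have e1 : ((Over.star U).obj ((SGA4.closedCompl U).ι.obj Y)).hom =
        (prod.fst : U ⨯ Y.obj ⟶ U) := (Over.star_obj_hom U _).trans (prod.lift_fst _ _)
    have e2 : ((Over.star U).obj ((SGA4.closedCompl U).ι.obj Y')).hom =
        (prod.fst : U ⨯ Y'.obj ⟶ U) := (Over.star_obj_hom U _).trans (prod.lift_fst _ _)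
    have hw : g.left ≫ (prod.fst : U ⨯ Y'.obj ⟶ U) = (prod.fst : U ⨯ Y.obj ⟶ U) := by
      rw [← e1, ← e2]
      exact Over.w g
    have i3 : IsIso (g.left ≫ (prod.fst : U ⨯ Y'.obj ⟶ U)) := by rw [hw]; exact i1
    haveI : IsIso g.left :=
      @IsIso.of_isIso_comp_right _ _ _ _ _ g.left (prod.fst : U ⨯ Y'.obj ⟶ U) i2 i3
    haveI : IsIso ((Over.forget U).map g) := (inferInstance : IsIso g.left)
    exact isIso_of_reflects_iso g (Over.forget U)
  have hC : ∀ {X X' : Sheaf J (Type u)} (m : X ⟶ X'), IsIso (L.map m) →
      IsIso ((Over.star U).map m) → IsIso m :=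
    fun m h1 h2 => (Groth.Agent.S3084.result J U hU L adj m).2 ⟨h2, h1⟩
  haveI := Groth.Agent.H1.Glue.isEquivalence_Phi adj adjJ hT hC
  exact ⟨(Groth.Agent.H1.Glue.Phi (L := L) adjJ).asEquivalence⟩

end Groth.Agent.S3085
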