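import Groth.Statements.S3886
import Mathlib

set_option autoImplicit false
universe u
open CategoryTheory
open Hyper

namespace Groth.Agent.S3886


open CategoryTheory CategoryTheory.Limits Opposite


open CategoryTheory CategoryTheory.Limits Opposite AlgebraicTopology Simplicial

noncomputable section
section
universe v₁ u₁ v₂ u₂
variable {D : Type u₁} [Category.{v₁} D] {A : Type u₂} [Category.{v₂} A] [Preadditive A]
  (G : Dᵒᵖ ⥤ A) {K L : SimplicialObject D} {a b : L ⟶ K} (H : SimplicialObject.Homotopy a b)

lemma d_unop (K : SimplicialObject D) (n : ℕ) :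
    (((alternatingFaceMapComplex Aᵒᵖ).obj (((SimplicialObject.whiskering D Aᵒᵖ).obj G.rightOp).obj K)).d (n + 1) n).unop =
      ((alternatingCofaceMapComplex A).obj (K.rightOp ⋙ G : CosimplicialObject A)).d n (n + 1) := by
  have h1 : ((alternatingCofaceMapComplex A).obj (K.rightOp ⋙ G : CosimplicialObject A)).d n (n + 1) =
      AlternatingCofaceMapComplex.objD (K.rightOp ⋙ G : CosimplicialObject A) n := by
    change (AlternatingCofaceMapComplex.obj (K.rightOp ⋙ G : CosimplicialObject A)).d n (n + 1) = _
    exact CochainComplex.of_d _ (AlternatingCofaceMapComplex.objD (K.rightOp ⋙ G : CosimplicialObject A)) n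
  rw [h1]
  simp only [alternatingFaceMapComplex_obj_d, AlternatingCofaceMapComplex.objD,
    AlternatingFaceMapComplex.objD, unop_sum, unop_zsmul]
  rfl

def cochainHomotopy :
    Homotopy ((alternatingCofaceMapComplex A).map
        (X := (K.rightOp ⋙ G : CosimplicialObject A)) (Y := (L.rightOp ⋙ G : CosimplicialObject A))
        (Functor.whiskerRight (NatTrans.rightOp a) G))
      ((alternatingCofaceMapComplex A).map
        (X := (K.rightOp ⋙ G : CosimplicialObject A)) (Y := (L.rightOp ⋙ G : CosimplicialObject A))
        (Functor.whiskerRight (NatTrans.rightOp b) G)) where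
  hom i j := ((H.whiskerRight G.rightOp).toChainHomotopy.hom j i).unop
  zero i j hij := by
    rw [(H.whiskerRight G.rightOp).toChainHomotopy.zero j i (by simpa using hij)]
    rfl
  comm i := by
    have hc := congr_arg Quiver.Hom.unop ((H.whiskerRight G.rightOp).toChainHomotopy.comm i)
    cases i with
    | zero =>
      simp only [Homotopy.dNext_zero_chainComplex, Homotopy.prevD_chainComplex, zero_add, unop_add, unop_comp] at hc
      simp only [Homotopy.dNext_cochainComplex, Homotopy.prevD_zero_cochainComplex, add_zero]
      rw [← d_unop]
      exact hc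
    | succ n =>
      simp only [Homotopy.dNext_succ_chainComplex, Homotopy.prevD_chainComplex, unop_add, unop_comp] at hc
      simp only [Homotopy.dNext_cochainComplex, Homotopy.prevD_succ_cochainComplex]
      rw [← d_unop, ← d_unop]
      rw [add_comm (_ ≫ _) (_ ≫ _)]
      exact hc

end

theorem main {C : Type u} [SmallCategory C] (X : C)
    {K L : SimplicialObject (FormalCoproduct.{u} (Over X))} (a b : L ⟶ K)
    (h : Nonempty (SimplicialObject.Homotopy a b)) (P : Cᵒᵖ ⥤ AddCommGrpCat.{u}) (p : ℕ) :
    Hyper.cechHMap X a P p = Hyper.cechHMap X b P p := by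
  obtain ⟨H⟩ := h
  have := (cochainHomotopy ((FormalCoproduct.evalOp.{u} (Over X) AddCommGrpCat.{u}).obj ((Over.forget X).op ⋙ P)) H).homologyMap_eq p
  unfold Hyper.cechHMap Hyper.cechMap
  exact congr_arg _ this

end

open Opposite CategoryTheory.Limits in
/-- Let a, b : L -> K be two morphisms of simplicial semi-representable objects over an object X of a
small category (simplicial objects in formal coproducts of objects over X), homotopic in the
combinatorial (simplicial) sense. Then for every presheaf of abelian groups P and every p, a and b
induce the same map from the p-th Cech cohomology group of P with respect to K to that with respect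
to L. -/
theorem result {C : Type u} [SmallCategory C] (X : C)
    {K L : SimplicialObject (FormalCoproduct.{u} (Over X))} (a b : L ⟶ K)
    (h : Nonempty (SimplicialObject.Homotopy a b)) (P : Cᵒᵖ ⥤ AddCommGrpCat.{u}) (p : ℕ) :
    Hyper.cechHMap X a P p = Hyper.cechHMap X b P p := by
  exact main X a b h P p

end Groth.Agent.S3886
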