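import Groth.Statements.S3088
import Groth.Agent.Lib.PhiHomotopy
import Groth.Agent.S3886
import Mathlib

set_option autoImplicit false
universe u
open CategoryTheory
open CohSite

namespace Groth.Agent.S3088


open CategoryTheory CategoryTheory.Limits Opposite


open CategoryTheory CategoryTheory.Limits Opposite Simplicial Groth.Agent.PhiHomotopy

noncomputable section
section
universe v w
variable {D : Type u} [Category.{v} D] [HasFiniteProducts D]
  {𝒰 𝒰' : FormalCoproduct.{w} D} (f g : 𝒰 ⟶ 𝒰')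

lemma powerMap_π (f : 𝒰 ⟶ 𝒰') (n : ℕ) (a : Fin (n + 1)) :
    FormalCoproduct.powerMap f (Fin (n + 1)) ≫ 𝒰'.powerπ a = 𝒰.powerπ a ≫ f := by
  ext i
  · simp
  · simp
    erw [eqToHom_refl, Category.comp_id, Limits.Pi.map_π]
    rfl

def mix {n m : ℕ} (θ : Fin (m + 1) → Fin (n + 1)) (χ : Fin (m + 1) → Bool) :
    𝒰.power (Fin (n + 1)) ⟶ 𝒰'.power (Fin (m + 1)) :=
  Fan.IsLimit.lift (𝒰'.isLimitPowerFan (Fin (m + 1)))
    (fun k => 𝒰.powerπ (θ k) ≫ (if χ k then f else g))

lemma mix_π {n m : ℕ} (θ : Fin (m + 1) → Fin (n + 1)) (χ : Fin (m + 1) → Bool) (k : Fin (m + 1)) :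
    mix f g θ χ ≫ 𝒰'.powerπ k = 𝒰.powerπ (θ k) ≫ (if χ k then f else g) :=
  Fan.IsLimit.fac (𝒰'.isLimitPowerFan (Fin (m + 1))) _ k

def phiData : PhiData (FormalCoproduct.cechFunctor.map f) (FormalCoproduct.cechFunctor.map g) where
  Φ θ χ := mix f g θ χ
  left {n n' m} α θ χ := by
    refine Fan.IsLimit.hom_ext (𝒰'.isLimitPowerFan (Fin (m + 1))) _ _ (fun k => ?_)
    change (𝒰.mapPower _ ≫ mix f g θ χ) ≫ 𝒰'.powerπ k = mix f g _ χ ≫ 𝒰'.powerπ k
    rw [Category.assoc, mix_π, mix_π]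
    erw [FormalCoproduct.mapPower_π_assoc]
    rfl
  right {n m m'} β θ χ := by
    refine Fan.IsLimit.hom_ext (𝒰'.isLimitPowerFan (Fin (m' + 1))) _ _ (fun k => ?_)
    change (mix f g θ χ ≫ 𝒰'.mapPower _) ≫ 𝒰'.powerπ k = mix f g _ _ ≫ 𝒰'.powerπ k
    rw [Category.assoc, mix_π]
    erw [FormalCoproduct.mapPower_π, mix_π]
    rfl
  hf n := by
    refine Fan.IsLimit.hom_ext (𝒰'.isLimitPowerFan (Fin (n + 1))) _ _ (fun k => ?_)
    change mix f g _ _ ≫ 𝒰'.powerπ k = FormalCoproduct.powerMap f (Fin (n + 1)) ≫ 𝒰'.powerπ k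
    rw [mix_π, powerMap_π]
    rfl
  hg n := by
    refine Fan.IsLimit.hom_ext (𝒰'.isLimitPowerFan (Fin (n + 1))) _ _ (fun k => ?_)
    change mix f g _ _ ≫ 𝒰'.powerπ k = FormalCoproduct.powerMap g (Fin (n + 1)) ≫ 𝒰'.powerπ k
    rw [mix_π, powerMap_π]
    rfl

end

theorem main {C : Type u} [SmallCategory C] [HasPullbacks C] (M : Cᵒᵖ ⥤ AddCommGrpCat.{u})
    {U : C} {𝒰 𝒰' : FormalCoproduct.{u} (Over U)} (f g : 𝒰 ⟶ 𝒰') (q : ℕ) :
    HomologicalComplex.homologyMap (CohCx.cechRefine M f) q = HomologicalComplex.homologyMap (CohCx.cechRefine M g) q := by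
  have := (Groth.Agent.S3886.cochainHomotopy ((FormalCoproduct.evalOp.{u} (Over U) AddCommGrpCat.{u}).obj ((Over.forget U).op ⋙ M)) (phiData f g).homotopy).homologyMap_eq q
  exact this

end

open CategoryTheory.Limits in
/-- With A = Z: let C be a u-small category with fibre products, 𝒰 and 𝒰' two families of objects over U
(formal coproducts in the over category) and f, g : 𝒰 -> 𝒰' two refinement morphisms. Then for every
presheaf of abelian groups M and every q, the maps induced by f and g on the q-th Cech cohomology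
groups (from that of 𝒰' to that of 𝒰) coincide. -/
theorem result {C : Type u} [SmallCategory C] [HasPullbacks C] (M : Cᵒᵖ ⥤ AddCommGrpCat.{u})
    {U : C} {𝒰 𝒰' : FormalCoproduct.{u} (Over U)} (f g : 𝒰 ⟶ 𝒰') (q : ℕ) :
    HomologicalComplex.homologyMap (CohCx.cechRefine M f) q = HomologicalComplex.homologyMap (CohCx.cechRefine M g) q := by
  exact main M f g q

end Groth.Agent.S3088
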