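import Groth.Statements.S3093

set_option autoImplicit false
universe u
open CohTop

namespace Groth.Agent.S3093

/-- Let X be a topological space and K ⊆ X a compact subset such that any two distinct points of K have
disjoint open neighbourhoods in X. If A and B are subsets of K that are closed in K and W is an open
subset of X containing A ∩ B, then there are open subsets U ⊇ A and V ⊇ B of X with U ∩ V ⊆ W. -/
theorem result {X : Type u} [TopologicalSpace X] {K : Set X} (hK : IsCompact K)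
    (hsep : ∀ x ∈ K, ∀ y ∈ K, x ≠ y → ∃ U V : Set X, IsOpen U ∧ IsOpen V ∧ x ∈ U ∧ y ∈ V ∧ Disjoint U V)
    {A B W : Set X} (hA : A ⊆ K) (hB : B ⊆ K) (hAc : IsClosed (Subtype.val ⁻¹' A : Set K))
    (hBc : IsClosed (Subtype.val ⁻¹' B : Set K)) (hW : IsOpen W) (hABW : A ∩ B ⊆ W) :
    ∃ U V : Set X, IsOpen U ∧ IsOpen V ∧ A ⊆ U ∧ B ⊆ V ∧ U ∩ V ⊆ W := by
  have hcomp : ∀ {S : Set X}, S ⊆ K → IsClosed (Subtype.val ⁻¹' S : Set K) → IsCompact (S \ W) := by
    intro S hS hSc
    obtain ⟨C, hC, hCS⟩ := isClosed_induced_iff.mp hSc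
    have hSeq : S = K ∩ C := by
      ext x
      constructor
      · intro hx
        have hxK := hS hx
        have : (⟨x, hxK⟩ : K) ∈ (Subtype.val ⁻¹' C : Set K) := by rw [hCS]; exact hx
        exact ⟨hxK, this⟩
      · rintro ⟨hxK, hxC⟩
        have : (⟨x, hxK⟩ : K) ∈ (Subtype.val ⁻¹' S : Set K) := by rw [← hCS]; exact hxC
        exact this
    rw [hSeq]
    exact (hK.inter_right hC).diff hW
  have hA' := hcomp hA hAc
  have hB' := hcomp hB hBc
  have hsep : SeparatedNhds (A \ W) (B \ W) := by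
    rw [separatedNhds_iff_disjoint, hA'.disjoint_nhdsSet_left]
    intro x hx
    rw [hB'.disjoint_nhdsSet_right]
    intro y hy
    have hne : x ≠ y := by
      rintro rfl
      exact hx.2 (hABW ⟨hx.1, hy.1⟩)
    obtain ⟨U, V, hU, hV, hxU, hyV, hUV⟩ := hsep x (hA hx.1) y (hB hy.1) hne
    exact Filter.disjoint_of_disjoint_of_mem hUV (hU.mem_nhds hxU) (hV.mem_nhds hyV)
  obtain ⟨U, V, hU, hV, hAU, hBV, hUV⟩ := hsep
  refine ⟨U ∪ W, V ∪ W, hU.union hW, hV.union hW, ?_, ?_, ?_⟩
  · intro x hx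
    by_cases hxW : x ∈ W
    · exact Or.inr hxW
    · exact Or.inl (hAU ⟨hx, hxW⟩)
  · intro x hx
    by_cases hxW : x ∈ W
    · exact Or.inr hxW
    · exact Or.inl (hBV ⟨hx, hxW⟩)
  · rintro x ⟨hx1 | hx1, hx2 | hx2⟩
    · exact (Set.disjoint_left.mp hUV hx1 hx2).elim
    · exact hx2
    · exact hx1
    · exact hx1

end Groth.Agent.S3093
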