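import Groth.Statements.S3094
import Groth.Agent.Lib.PushTotAcyclic
import Groth.Agent.Lib.OverShriek

set_option autoImplicit false
universe u
open CategoryTheory
open CohSite

namespace Groth.Agent.S3094

/-- For abelian sheaves on a small site and an object X of the site: if F is flasque in the sense of
being totally acyclic (H^q(K, F) = 0 for every sheaf of sets K and every q > 0), then its
restriction to the site of objects over X is again flasque in this sense. -/
theorem result {C : Type u} [SmallCategory C] (J : GrothendieckTopology C) (X : C)
    (F : Sheaf J AddCommGrpCat.{u}) (hF : CohCx.IsTotallyAcyclic F) :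
    CohCx.IsTotallyAcyclic (((Over.forget X).sheafPushforwardContinuous AddCommGrpCat.{u} (J.over X) J).obj F) := by
  refine Groth.Agent.PushTot.push_isTotallyAcyclic J (J.over X) (Over.forget X) (fun I hI => ?_) F hF
  exact Groth.Agent.OverShriek.restr_injective X J I

end Groth.Agent.S3094
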