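import Groth.Statements.S3133
import Mathlib

set_option autoImplicit false
open Polynomial
open SGA4h

namespace Groth.Agent.S3133

section aux
open Polynomial Matrix
variable {R : Type} [CommRing R] {m : Type} [Fintype m] [DecidableEq m]

/-- sub-diagonal shift matrix -/
noncomputable def Ssh (n : ℕ) : Matrix (Fin n) (Fin n) R[X] :=
  Matrix.of fun p q => if q.val + 1 = p.val then 1 else 0

noncomputable def Dm (m : Type) [Fintype m] [DecidableEq m] (n : ℕ) :
    Matrix (Fin n × m) (Fin n × m) R[X] :=
  Matrix.kroneckerMap (· * ·) (1 - (X : R[X]) • Ssh (R := R) n) (1 : Matrix m m R[X])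

noncomputable def Zm (m : Type) [Fintype m] [DecidableEq m] (n : ℕ) : Matrix (Fin n × m) m R[X] :=
  Matrix.of fun p j => if p.2 = j then (X : R[X]) ^ (p.1.val + 1) else 0

noncomputable def Qm (A : Matrix m m R) (n : ℕ) : Matrix m (Fin n × m) R[X] :=
  Matrix.of fun i q => if q.1.val = n - 1 then C (A i q.2) else 0

noncomputable def Pm (m : Type) [Fintype m] [DecidableEq m] (n : ℕ) : Matrix (Fin n × m) m R[X] :=
  Matrix.of fun p j => if p.1.val = 0 ∧ p.2 = j then (X : R[X]) else 0

noncomputable def Bm (A : Matrix m m R) (n : ℕ) : Matrix (Fin n × m) (Fin n × m) R :=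
  Matrix.of fun (p q : Fin n × m) =>
    if p.1.val = 0 then (if q.1.val = n - 1 then A p.2 q.2 else 0)
    else (if q.1.val + 1 = p.1.val ∧ p.2 = q.2 then 1 else 0)

theorem Dm_apply (n : ℕ) (p r : Fin n) (i l : m) :
    Dm (R := R) m n (p, i) (r, l) =
      ((if p = r then 1 else 0) - (X : R[X]) * (if r.val + 1 = p.val then 1 else 0)) *
        (if i = l then 1 else 0) := by
  simp [Dm, Matrix.kroneckerMap_apply, Matrix.one_apply, Ssh]

theorem det_Dm (n : ℕ) : (Dm (R := R) m n).det = 1 := by
  have hdetS : (1 - (X : R[X]) • Ssh (R := R) n).det = 1 := by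
    rw [Matrix.det_of_isLowerTriangular]
    · apply Finset.prod_eq_one
      intro i _
      simp [Ssh]
    · intro i j hij
      have hlt : i < j := hij
      have h1 : (j : ℕ) + 1 ≠ (i : ℕ) := by have := Fin.lt_def.mp hlt; omega
      simp [Ssh, Matrix.one_apply_ne (ne_of_lt hlt), h1]
  unfold Dm
  have := Matrix.det_kronecker (1 - (X : R[X]) • Ssh (R := R) n) (1 : Matrix m m R[X])
  rw [hdetS] at this
  simpa using this

theorem PQ_apply (A : Matrix m m R) (n : ℕ) (p q : Fin n) (i j : m) :
    (Pm (R := R) m n * Qm A n) (p, i) (q, j) =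
      if p.val = 0 ∧ q.val = n - 1 then (X : R[X]) * C (A i j) else 0 := by
  rw [Matrix.mul_apply]
  by_cases hp : p.val = 0 <;> by_cases hq : q.val = n - 1 <;> simp [Pm, Qm, hp, hq]

theorem M_eq (A : Matrix m m R) (n : ℕ) :
    (1 - (X : R[X]) • (Bm A n).map C) = Dm (R := R) m n - Pm (R := R) m n * Qm A n := by
  ext ⟨p, i⟩ ⟨q, j⟩
  rw [Matrix.sub_apply, Matrix.sub_apply, PQ_apply, Dm_apply]
  simp only [Matrix.smul_apply, Matrix.map_apply, Matrix.one_apply, Bm, Matrix.of_apply,
    smul_eq_mul, Prod.mk.injEq]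
  by_cases hp : p.val = 0
  · rw [if_pos hp]
    have hqp : ¬ (q.val + 1 = p.val) := by omega
    rw [if_neg hqp]
    by_cases hq : q.val = n - 1
    · rw [if_pos hq, if_pos (show p.val = 0 ∧ q.val = n - 1 from ⟨hp, hq⟩)]
      by_cases hpq : p = q <;> by_cases hij : i = j <;> simp [hpq, hij]
    · rw [if_neg hq, if_neg (show ¬ (p.val = 0 ∧ q.val = n - 1) from fun h => hq h.2)]
      by_cases hpq : p = q <;> by_cases hij : i = j <;> simp [hpq, hij]
  · rw [if_neg hp, if_neg (show ¬ (p.val = 0 ∧ q.val = n - 1) from fun h => hp h.1)]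
    by_cases hqp : q.val + 1 = p.val
    · have hpq : p ≠ q := by intro h; rw [h] at hqp; omega
      by_cases hij : i = j <;> simp [hqp, hpq, hij]
    · by_cases hpq : p = q <;> by_cases hij : i = j <;> simp [hqp, hpq, hij]

theorem DZ_eq (n : ℕ) : Dm (R := R) m n * Zm (R := R) m n = Pm (R := R) m n := by
  ext ⟨p, i⟩ j
  have step : ∀ r : Fin n, ∑ l : m, Dm (R := R) m n (p, i) (r, l) * Zm (R := R) m n (r, l) j
      = ((if p = r then (1 : R[X]) else 0) - X * (if r.val + 1 = p.val then 1 else 0)) *
          (if i = j then X ^ (r.val + 1) else 0) := by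
    intro r
    rw [Finset.sum_eq_single i]
    · rw [Dm_apply]; simp [Zm]
    · intro l _ hl
      rw [Dm_apply]; simp [Ne.symm hl]
    · intro h; exact absurd (Finset.mem_univ i) h
  rw [Matrix.mul_apply, Fintype.sum_prod_type]
  rw [Finset.sum_congr rfl (fun r _ => step r)]
  by_cases hij : i = j
  · subst hij
    have hterm : ∀ r : Fin n, ((if p = r then (1 : R[X]) else 0) -
          X * (if r.val + 1 = p.val then 1 else 0)) * (if i = i then X ^ (r.val + 1) else 0)
        = (if p = r then X ^ (p.val + 1) else 0) -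
          (if r.val + 1 = p.val then X ^ (p.val + 1) else 0) := by
      intro r
      rw [if_pos rfl]
      by_cases h1 : p = r
      · subst h1
        have hne : ¬ (p.val + 1 = p.val) := by omega
        rw [if_pos rfl, if_pos rfl, if_neg hne, if_neg hne]; ring
      · by_cases h2 : r.val + 1 = p.val
        · rw [if_neg h1, if_neg h1, if_pos h2, if_pos h2, ← h2]; ring
        · rw [if_neg h1, if_neg h1, if_neg h2, if_neg h2]; ring
    rw [Finset.sum_congr rfl (fun r _ => hterm r), Finset.sum_sub_distrib]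
    rw [Finset.sum_ite_eq Finset.univ p (fun _ => (X : R[X]) ^ (p.val + 1))]
    rw [if_pos (Finset.mem_univ p)]
    by_cases hp : p.val = 0
    · rw [Finset.sum_eq_zero (fun r _ => if_neg (by omega))]
      simp [Pm, hp]
    · let r₀ : Fin n := ⟨p.val - 1, by have := p.isLt; omega⟩
      have hr₀ : r₀.val + 1 = p.val := by show p.val - 1 + 1 = p.val; omega
      rw [Finset.sum_eq_single r₀]
      · rw [if_pos hr₀]; simp [Pm, hp]
      · intro r _ hr
        apply if_neg
        intro h
        apply hr
        apply Fin.ext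
        show r.val = p.val - 1
        omega
      · intro h; exact absurd (Finset.mem_univ r₀) h
  · have hz : ∀ r : Fin n, ((if p = r then (1 : R[X]) else 0) -
          X * (if r.val + 1 = p.val then 1 else 0)) * (if i = j then X ^ (r.val + 1) else 0) = 0 := by
      intro r; rw [if_neg hij, mul_zero]
    rw [Finset.sum_eq_zero (fun r _ => hz r)]
    simp [Pm, hij]

theorem QZ_eq (A : Matrix m m R) (n : ℕ) (hn : 1 ≤ n) :
    Qm A n * Zm (R := R) m n = (X : R[X]) ^ n • A.map C := by
  ext i j
  have step : ∀ r : Fin n, ∑ l : m, Qm A n i (r, l) * Zm (R := R) m n (r, l) j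
      = if r.val = n - 1 then C (A i j) * X ^ (r.val + 1) else 0 := by
    intro r
    rw [Finset.sum_eq_single j]
    · simp [Qm, Zm]
    · intro l _ hl
      simp [Zm, hl]
    · intro h; exact absurd (Finset.mem_univ j) h
  rw [Matrix.mul_apply, Fintype.sum_prod_type, Finset.sum_congr rfl (fun r _ => step r)]
  let r₀ : Fin n := ⟨n - 1, by omega⟩
  have hr₀ : r₀.val + 1 = n := by show n - 1 + 1 = n; omega
  rw [Finset.sum_eq_single r₀]
  · rw [if_pos rfl, hr₀, Matrix.smul_apply, Matrix.map_apply, smul_eq_mul, mul_comm]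
  · intro r _ hr
    apply if_neg
    intro h
    apply hr
    apply Fin.ext
    exact h
  · intro h; exact absurd (Finset.mem_univ r₀) h

end aux


/-- Let A be a square matrix over a commutative ring and n ≥ 1, and let B be the matrix on n blocks of
the endomorphism (x_1, …, x_n) ↦ (A x_n, x_1, …, x_{n-1}). Then det(1 − B·T) = det(1 − A·Tⁿ), i.e.
the reverse characteristic polynomial of B is that of A expanded by n. -/
theorem result (R : Type) [CommRing R] (m : Type) [Fintype m] [DecidableEq m]
    (A : Matrix m m R) (n : ℕ) (hn : 1 ≤ n) :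
    (Matrix.of fun (p q : Fin n × m) =>
        if p.1.val = 0 then (if q.1.val = n - 1 then A p.2 q.2 else 0)
        else (if q.1.val + 1 = p.1.val ∧ p.2 = q.2 then 1 else 0)).charpolyRev =
      Polynomial.expand R n A.charpolyRev := by
  have hB : (Matrix.of fun (p q : Fin n × m) =>
        if p.1.val = 0 then (if q.1.val = n - 1 then A p.2 q.2 else 0)
        else (if q.1.val + 1 = p.1.val ∧ p.2 = q.2 then 1 else 0)) = Bm A n := rfl
  rw [hB]
  unfold Matrix.charpolyRev
  rw [M_eq A n]
  have h1 : Dm (R := R) m n - Pm (R := R) m n * Qm A n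
      = Dm (R := R) m n * (1 - Zm (R := R) m n * Qm A n) := by
    rw [Matrix.mul_sub, Matrix.mul_one, ← Matrix.mul_assoc, DZ_eq]
  rw [h1, Matrix.det_mul, det_Dm, one_mul, Matrix.det_one_sub_mul_comm, QZ_eq A n hn]
  rw [AlgHom.map_det]
  congr 1
  ext i j
  rw [AlgHom.mapMatrix_apply, Matrix.map_apply, Matrix.sub_apply, Matrix.sub_apply,
    Matrix.smul_apply, Matrix.smul_apply, Matrix.map_apply, smul_eq_mul, smul_eq_mul, map_sub,
    map_mul, Polynomial.expand_X, Polynomial.expand_C]
  by_cases hij : i = j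
  · subst hij; rw [Matrix.one_apply_eq, map_one]
  · rw [Matrix.one_apply_ne hij, map_zero]

end Groth.Agent.S3133
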