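import Groth.Statements.S3194
import Groth.Statements.S3194
import Mathlib
import Groth.Agent.Lib.helper9.H9_K0Fin

set_option autoImplicit false
universe u
open CategoryTheory
open SGA6

namespace Groth.Agent.S3194

/-- Let A be a principal ideal domain and K_•(Spec A) = K₀ of the category of finitely generated
A-modules (free abelian group on finitely generated modules modulo short exact sequences). The
homomorphism ℤ ⟶ K_•(Spec A) sending k to k·[A] is bijective. -/
theorem result (A : Type u) [CommRing A] [IsDomain A] [IsPrincipalIdealRing A] :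
    Function.Bijective (fun k : ℤ => k • KZero.clSub (fun M : ModuleCat.{u} A => Module.Finite A M) (ModuleCat.of A A)) := by
  classical
  constructor
  · intro k l hkl
    obtain ⟨ρ, hρ⟩ := Groth.Agent.H9K0Fin.exists_rank (R := A)
    have h1 := congrArg ρ hkl
    simp only [map_zsmul] at h1
    have h2 := hρ A
    rw [Module.finrank_self] at h2
    change k • ρ (KZero.clSub (Groth.Agent.H9K0Fin.PF A) (ModuleCat.of A A)) =
      l • ρ (KZero.clSub (Groth.Agent.H9K0Fin.PF A) (ModuleCat.of A A)) at h1
    rw [h2] at h1
    simpa using h1
  · intro x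
    obtain ⟨k, hk⟩ := Groth.Agent.H9K0Fin.k0_eq_zsmul_of_pid (R := A) x
    exact ⟨k, hk.symm⟩

end Groth.Agent.S3194
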