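import Groth.Statements.S3208
import Mathlib

set_option autoImplicit false
open SGA7

theorem H1_binom3 {E : Type} [CommRing E] (n : ℕ) (x : E) :
    ∃ c : E, (1 + x) ^ n = 1 + (n : E) * x + ((n.choose 2 : ℕ) : E) * x ^ 2 + x ^ 3 * c := by
  induction n with
  | zero => exact ⟨0, by simp⟩
  | succ n ih =>
    obtain ⟨c, hc⟩ := ih
    refine ⟨c + ((n.choose 2 : ℕ) : E) + x * c, ?_⟩
    have h2 : (n + 1).choose 2 = n + n.choose 2 := by
      rw [Nat.choose_succ_succ' n 1, Nat.choose_one_right]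
    rw [pow_succ, hc, h2]
    push_cast
    ring

theorem H1_cancel {E : Type} [CommRing E] [NoZeroSMulDivisors ℤ E] (a : ℕ) (ha : a ≠ 0) (x : E)
    (h : (a : E) * x = 0) : x = 0 := by
  have h' : (a : ℤ) • x = 0 := by
    rw [zsmul_eq_mul]; push_cast; exact h
  rcases smul_eq_zero.1 h' with h0 | h0
  · exact absurd (by exact_mod_cast h0) ha
  · exact h0

theorem H1_not_all_dvd {E : Type} [CommRing E] [NoZeroSMulDivisors ℤ E] [Module.Finite ℤ E]
    (q : ℕ) (hq : 2 ≤ q) (d : E) (hd : d ≠ 0) : ∃ K : ℕ, ¬ ((q : E) ^ K ∣ d) := by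
  classical
  haveI : Module.Free ℤ E := Module.free_of_finite_type_torsion_free'
  let b := Module.Free.chooseBasis ℤ E
  have hne : b.repr d ≠ 0 := by
    intro h0
    exact hd (b.repr.map_eq_zero_iff.1 h0)
  obtain ⟨i, hi⟩ : ∃ i, b.repr d i ≠ 0 := by
    by_contra hcon
    push_neg at hcon
    exact hne (Finsupp.ext hcon)
  refine ⟨(b.repr d i).natAbs, ?_⟩
  rintro ⟨v, hv⟩
  have h1 : b.repr d i = (q : ℤ) ^ (b.repr d i).natAbs * b.repr v i := by
    have : d = ((q : ℤ) ^ (b.repr d i).natAbs) • v := by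
      rw [zsmul_eq_mul]; push_cast; exact hv
    conv_lhs => rw [this]
    rw [map_smul]
    simp
  have h2 : ((q : ℤ) ^ (b.repr d i).natAbs) ∣ b.repr d i := ⟨_, h1⟩
  have h3 := Int.natAbs_dvd_natAbs.2 h2
  have h4 : q ^ (b.repr d i).natAbs ≤ (b.repr d i).natAbs := by
    apply Nat.le_of_dvd (Int.natAbs_pos.2 hi)
    simpa [Int.natAbs_pow] using h3
  have h5 : (b.repr d i).natAbs < q ^ (b.repr d i).natAbs := Nat.lt_pow_self hq
  omega

theorem H1_minkowski_prime {E : Type} [CommRing E] [NoZeroSMulDivisors ℤ E] [Module.Finite ℤ E]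
    (u : E) (p : ℕ) (hp : p.Prime) (hu : u ^ p = 1) (q k : ℕ) (hq : q.Prime) (hk : 1 ≤ k)
    (hqk : q ≠ 2 ∨ 2 ≤ k) (hdvd : (q : E) ^ k ∣ u - 1) : u = 1 := by
  classical
  by_contra hne
  have hd : u - 1 ≠ 0 := sub_ne_zero.2 hne
  set d := u - 1 with hd_def
  have hex := H1_not_all_dvd q hq.two_le d hd
  let K₀ := Nat.find hex
  have hK₀ : ¬ ((q : E) ^ K₀ ∣ d) := Nat.find_spec hex
  have hK₀pos : K₀ ≠ 0 := by
    intro h0
    apply hK₀
    rw [h0, pow_zero]
    exact one_dvd _
  obtain ⟨K, hK⟩ : ∃ K, K₀ = K + 1 := Nat.exists_eq_succ_of_ne_zero hK₀pos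
  have hKdvd : (q : E) ^ K ∣ d := by
    by_contra hcon
    have := Nat.find_min' hex hcon
    omega
  have hKk : k ≤ K := by
    by_contra hcon
    push_neg at hcon
    apply hK₀
    rw [hK]
    exact dvd_trans (pow_dvd_pow _ hcon) hdvd
  obtain ⟨V, hV⟩ := hKdvd
  have hVq : ¬ ((q : E) ∣ V) := by
    rintro ⟨W, hW⟩
    apply hK₀
    rw [hK]
    exact ⟨W, by rw [hV, hW, pow_succ]; ring⟩
  have hu' : u = 1 + d := by rw [hd_def]; ring
  obtain ⟨c, hc⟩ := H1_binom3 p d
  rw [← hu', hu] at hc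
  have hqK : q ^ K ≠ 0 := pow_ne_zero _ hq.ne_zero
  have hmain : (p : E) * V + ((p.choose 2 : ℕ) : E) * (q : E) ^ K * V ^ 2 +
      (q : E) ^ (2 * K) * V ^ 3 * c = 0 := by
    apply H1_cancel (q ^ K) hqK
    have : (p : E) * d + ((p.choose 2 : ℕ) : E) * d ^ 2 + d ^ 3 * c = 0 := by
      have := hc
      linear_combination -this
    rw [hV] at this
    push_cast
    linear_combination this
  by_cases hpq : p = q
  · subst hpq
    by_cases hK2 : 2 ≤ K
    · obtain ⟨K', rfl⟩ : ∃ K', K = K' + 1 := ⟨K - 1, by omega⟩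
      apply hVq
      have h1 : (p : E) * (V + ((p.choose 2 : ℕ) : E) * (p : E) ^ K' * V ^ 2 +
          (p : E) ^ (2 * K' + 1) * V ^ 3 * c) = 0 := by
        linear_combination hmain
      have h2 := H1_cancel p hp.ne_zero _ h1
      have hK'pos : 1 ≤ K' := by omega
      obtain ⟨K'', rfl⟩ : ∃ K'', K' = K'' + 1 := ⟨K' - 1, by omega⟩
      refine ⟨-(((p.choose 2 : ℕ) : E) * (p : E) ^ K'' * V ^ 2 +
          (p : E) ^ (2 * K'' + 2) * V ^ 3 * c), ?_⟩
      linear_combination h2
    · have hK1 : K = 1 := by omega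
      subst hK1
      have hp2 : p ≠ 2 := by
        rcases hqk with h | h
        · exact h
        · omega
      have hodd : Odd p := hp.odd_of_ne_two hp2
      obtain ⟨e, he⟩ := hodd
      have hch : p.choose 2 = p * e := by
        rw [Nat.choose_two_right, he]
        have : (2 * e + 1) * (2 * e + 1 - 1) = 2 * ((2 * e + 1) * e) := by
          simp only [Nat.add_sub_cancel]; ring
        rw [this, Nat.mul_div_cancel_left _ (by norm_num : 0 < 2)]
      apply hVq
      rw [hch] at hmain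
      push_cast at hmain
      have h1 : (p : E) * (V + (p : E) * (e : E) * V ^ 2 + (p : E) * V ^ 3 * c) = 0 := by
        linear_combination hmain
      have h2 := H1_cancel p hp.ne_zero _ h1
      refine ⟨-((e : E) * V ^ 2 + V ^ 3 * c), ?_⟩
      linear_combination h2
  · apply hVq
    have hcop : Nat.Coprime p q := (Nat.coprime_primes hp hq).2 hpq
    obtain ⟨K', rfl⟩ : ∃ K', K = K' + 1 := ⟨K - 1, by omega⟩
    have hbez := Nat.gcd_eq_gcd_ab p q
    rw [hcop.gcd_eq_one] at hbez
    have hbez' : ((p.gcdA q : ℤ) : E) * (p : E) + ((p.gcdB q : ℤ) : E) * (q : E) = 1 := by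
      have := congrArg (fun z : ℤ => (z : E)) hbez
      push_cast at this
      linear_combination -this
    refine ⟨((p.gcdB q : ℤ) : E) * V - ((p.gcdA q : ℤ) : E) *
      (((p.choose 2 : ℕ) : E) * (q : E) ^ K' * V ^ 2 + (q : E) ^ (2 * K' + 1) * V ^ 3 * c), ?_⟩
    linear_combination (-V) * hbez' + ((p.gcdA q : ℤ) : E) * hmain

theorem H1_minkowski {E : Type} [CommRing E] [NoZeroSMulDivisors ℤ E] [Module.Finite ℤ E]
    (q k : ℕ) (hq : q.Prime) (hk : 1 ≤ k) (hqk : q ≠ 2 ∨ 2 ≤ k) :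
    ∀ (m : ℕ), 0 < m → ∀ u : E, u ^ m = 1 → (q : E) ^ k ∣ u - 1 → u = 1 := by
  intro m
  induction m using Nat.strong_induction_on with
  | _ m ih =>
    intro hm u hu hdvd
    by_cases h1 : m = 1
    · subst h1; simpa using hu
    · have hp : (m.minFac).Prime := Nat.minFac_prime h1
      obtain ⟨m', hm'⟩ := Nat.minFac_dvd m
      have hm'pos : 0 < m' := by
        rcases Nat.eq_zero_or_pos m' with h0 | h0
        · rw [h0, mul_zero] at hm'; omega
        · exact h0
      have hm'lt : m' < m := by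
        have := hp.two_le
        nlinarith
      have hw : (u ^ m') ^ m.minFac = 1 := by
        rw [← pow_mul, mul_comm, ← hm', hu]
      have hwd : (q : E) ^ k ∣ u ^ m' - 1 := by
        have := sub_dvd_pow_sub_pow u 1 m'
        rw [one_pow] at this
        exact dvd_trans hdvd this
      have hw1 := H1_minkowski_prime (u ^ m') m.minFac hp hw q k hq hk hqk hwd
      exact ih m' hm'lt hm'pos u hw1 hdvd

namespace Groth.Agent.S3208

/-- Let E be a commutative ring which is finitely generated and torsion-free as an additive group, u an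
element of E of finite multiplicative order (u^m = 1 for some m > 0), and n ≥ 2 an integer with u ≡
1 modulo nE (i.e. 1 - u = n·v for some v ∈ E). Then u² = 1, and if n ≥ 3 then u = 1. -/
theorem result (E : Type) [CommRing E] [NoZeroSMulDivisors ℤ E] [Module.Finite ℤ E] (u : E) (m : ℕ) (hm : 0 < m)
    (hu : u ^ m = 1) (n : ℕ) (hn : 2 ≤ n) (hcong : ∃ v : E, 1 - u = (n : E) * v) :
    u ^ 2 = 1 ∧ (3 ≤ n → u = 1) := by
  obtain ⟨v, hv⟩ := hcong
  have key3 : 3 ≤ n → u = 1 := by
    intro h3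
    rcases Nat.four_dvd_or_exists_odd_prime_and_dvd_of_two_lt (by omega : 2 < n) with h4 | ⟨p, hp, hpn, hodd⟩
    · apply H1_minkowski 2 2 Nat.prime_two (by norm_num) (Or.inr le_rfl) m hm u hu
      obtain ⟨t, rfl⟩ := h4
      refine ⟨-((t : E) * v), ?_⟩
      push_cast at hv ⊢
      linear_combination -hv
    · apply H1_minkowski p 1 hp le_rfl (Or.inl ?_) m hm u hu
      · obtain ⟨t, rfl⟩ := hpn
        refine ⟨-((t : E) * v), ?_⟩
        push_cast at hv ⊢
        linear_combination -hv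
      · intro h2
        rw [h2] at hodd
        exact absurd hodd (by decide)
  refine ⟨?_, key3⟩
  by_cases h3 : 3 ≤ n
  · rw [key3 h3, one_pow]
  · have hn2 : n = 2 := by omega
    subst hn2
    apply H1_minkowski 2 2 Nat.prime_two (by norm_num) (Or.inr le_rfl) m hm (u ^ 2)
    · rw [← pow_mul, mul_comm, pow_mul, hu, one_pow]
    · refine ⟨v ^ 2 - v, ?_⟩
      push_cast at hv ⊢
      have : u = 1 - 2 * v := by linear_combination -hv
      rw [this]
      ring

end Groth.Agent.S3208
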