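import Groth.Statements.S3209
import Mathlib

set_option autoImplicit false
universe u
open TensorProduct
open SGA7


namespace Groth.Agent.H1
open TensorProduct

theorem H1_algTensorMap_eq_lTensor {R S X Y : Type*} [CommRing R] [CommRing S] [CommRing X]
    [CommRing Y] [Algebra R S] [Algebra R X] [Algebra R Y] (h : X →ₐ[R] Y) (z : S ⊗[R] X) :
    Algebra.TensorProduct.map (AlgHom.id R S) h z = LinearMap.lTensor S h.toLinearMap z := by
  induction z using TensorProduct.induction_on with
  | zero => simp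
  | tmul s x => simp
  | add a b ha hb => rw [map_add, map_add, ha, hb]

end Groth.Agent.H1

namespace Groth.Agent.S3209

/-- Let f : B' → B be a surjective map of R-algebras with kernel J, g : C → B a map of R-algebras, P =
B' ×_B C their fibre product (the equalizer of f ∘ pr₁ and g ∘ pr₂ in B' × C) and S an R-algebra
such that S ⊗_R J → S ⊗_R B' is injective (this holds when Tor_1^R(B, S) = 0, the published
hypothesis, and in particular when S is flat). Then the canonical map S ⊗_R P → (S ⊗_R B') ×_{S ⊗_R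
B} (S ⊗_R C) is bijective: it is injective, and every pair with the same image in S ⊗_R B comes from
S ⊗_R P. -/
theorem result (R B' B C S : Type u) [CommRing R] [CommRing B'] [CommRing B] [CommRing C]
    [CommRing S] [Algebra R B'] [Algebra R B] [Algebra R C] [Algebra R S]
    (f : B' →ₐ[R] B) (hf : Function.Surjective f) (g : C →ₐ[R] B)
    (hJ : Function.Injective (LinearMap.lTensor S (LinearMap.ker f.toLinearMap).subtype)) :
    letI P := AlgHom.equalizer (f.comp (AlgHom.fst R B' C)) (g.comp (AlgHom.snd R B' C))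
    letI φ₁ := Algebra.TensorProduct.map (AlgHom.id R S) ((AlgHom.fst R B' C).comp P.val)
    letI φ₂ := Algebra.TensorProduct.map (AlgHom.id R S) ((AlgHom.snd R B' C).comp P.val)
    Function.Injective (fun z : S ⊗[R] ↥P => (φ₁ z, φ₂ z)) ∧
    ∀ (x : S ⊗[R] B') (y : S ⊗[R] C),
      Algebra.TensorProduct.map (AlgHom.id R S) f x = Algebra.TensorProduct.map (AlgHom.id R S) g y →
        ∃ z : S ⊗[R] ↥P, φ₁ z = x ∧ φ₂ z = y := by
  let P := AlgHom.equalizer (f.comp (AlgHom.fst R B' C)) (g.comp (AlgHom.snd R B' C))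
  let φ₁ := Algebra.TensorProduct.map (AlgHom.id R S) ((AlgHom.fst R B' C).comp P.val)
  let φ₂ := Algebra.TensorProduct.map (AlgHom.id R S) ((AlgHom.snd R B' C).comp P.val)
  change Function.Injective (fun z : S ⊗[R] ↥P => (φ₁ z, φ₂ z)) ∧
    ∀ (x : S ⊗[R] B') (y : S ⊗[R] C),
      Algebra.TensorProduct.map (AlgHom.id R S) f x = Algebra.TensorProduct.map (AlgHom.id R S) g y →
        ∃ z : S ⊗[R] ↥P, φ₁ z = x ∧ φ₂ z = y
  -- the linear maps
  let J := LinearMap.ker f.toLinearMap
  let p₁ : ↥P →ₗ[R] B' := ((AlgHom.fst R B' C).comp P.val).toLinearMap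
  let p₂ : ↥P →ₗ[R] C := ((AlgHom.snd R B' C).comp P.val).toLinearMap
  have hφ₁ : ∀ z, φ₁ z = LinearMap.lTensor S p₁ z := fun z =>
    Groth.Agent.H1.H1_algTensorMap_eq_lTensor _ z
  have hφ₂ : ∀ z, φ₂ z = LinearMap.lTensor S p₂ z := fun z =>
    Groth.Agent.H1.H1_algTensorMap_eq_lTensor _ z
  have hmemP : ∀ q : B' × C, q ∈ P ↔ f q.1 = g q.2 := by
    intro q
    rw [AlgHom.mem_equalizer]
    rfl
  let ι : ↥J →ₗ[R] ↥P :=
    { toFun := fun j => ⟨((j : B'), (0 : C)), by
        rw [hmemP]
        have : f (j : B') = 0 := j.2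
        simp [this]⟩
      map_add' := by
        intro a b
        apply Subtype.ext
        simp
      map_smul' := by
        intro r a
        apply Subtype.ext
        simp }
  have hι₁ : p₁ ∘ₗ ι = J.subtype := by
    apply LinearMap.ext; intro j; rfl
  have hι₂ : p₂ ∘ₗ ι = 0 := by
    apply LinearMap.ext; intro j; rfl
  have hp₂surj : Function.Surjective p₂ := by
    intro c
    obtain ⟨b', hb'⟩ := hf (g c)
    exact ⟨⟨(b', c), by rw [hmemP]; exact hb'⟩, rfl⟩
  have hex₂ : Function.Exact ι p₂ := by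
    intro q
    constructor
    · intro hq
      have hq1 : f (q : B' × C).1 = 0 := by
        have h1 := (hmemP q).1 q.2
        have h2 : (q : B' × C).2 = 0 := hq
        rw [h1, h2, map_zero]
      refine ⟨⟨(q : B' × C).1, hq1⟩, ?_⟩
      apply Subtype.ext
      have h2 : (q : B' × C).2 = 0 := hq
      exact Prod.ext rfl h2.symm
    · rintro ⟨j, rfl⟩
      rfl
  have hexf : Function.Exact J.subtype f.toLinearMap := by
    intro b
    constructor
    · intro hb
      exact ⟨⟨b, hb⟩, rfl⟩
    · rintro ⟨j, rfl⟩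
      exact j.2
  have hEx₂ := lTensor_exact S hex₂ hp₂surj
  have hExf := lTensor_exact S hexf (show Function.Surjective f.toLinearMap from hf)
  have hfp : f.toLinearMap ∘ₗ p₁ = g.toLinearMap ∘ₗ p₂ := by
    apply LinearMap.ext
    intro q
    exact (hmemP q).1 q.2
  constructor
  · -- injectivity
    have hz : ∀ z : S ⊗[R] ↥P, φ₁ z = 0 → φ₂ z = 0 → z = 0 := by
      intro z h1 h2
      rw [hφ₂] at h2
      obtain ⟨w, rfl⟩ := (hEx₂ z).1 h2
      rw [hφ₁, ← LinearMap.comp_apply, ← LinearMap.lTensor_comp, hι₁] at h1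
      have hw : w = 0 := hJ (by rw [h1, map_zero])
      rw [hw, map_zero]
    intro a b hab
    have h1 : φ₁ a = φ₁ b := congrArg Prod.fst hab
    have h2 : φ₂ a = φ₂ b := congrArg Prod.snd hab
    have := hz (a - b) (by rw [map_sub, h1, sub_self]) (by rw [map_sub, h2, sub_self])
    exact sub_eq_zero.1 this
  · intro x y hxy
    rw [Groth.Agent.H1.H1_algTensorMap_eq_lTensor, Groth.Agent.H1.H1_algTensorMap_eq_lTensor] at hxy
    obtain ⟨z₀, hz₀⟩ := LinearMap.lTensor_surjective S hp₂surj y
    have hker : LinearMap.lTensor S f.toLinearMap (x - LinearMap.lTensor S p₁ z₀) = 0 := by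
      rw [map_sub, hxy, ← hz₀, ← LinearMap.comp_apply, ← LinearMap.comp_apply,
        ← LinearMap.lTensor_comp, ← LinearMap.lTensor_comp, hfp, sub_self]
    obtain ⟨w, hw⟩ := (hExf _).1 hker
    refine ⟨z₀ + LinearMap.lTensor S ι w, ?_, ?_⟩
    · rw [hφ₁, map_add, ← LinearMap.comp_apply (LinearMap.lTensor S p₁), ← LinearMap.lTensor_comp,
        hι₁, hw]
      abel
    · rw [hφ₂, map_add, ← LinearMap.comp_apply (LinearMap.lTensor S p₂), ← LinearMap.lTensor_comp,
        hι₂, hz₀]
      simp

end Groth.Agent.S3209
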