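import Groth.Statements.S3214
import Mathlib

set_option autoImplicit false
open Polynomial
universe u
open SGA7II

namespace Groth.Agent.S3214

/-- In the recursive form established in its proof: let A = Z[X_1, ..., X_a] (a >= 1), P = prod_i (T -
X_i) in A[T] and S_i the i-th elementary symmetric function. Writing a_j for the coefficient of
T^{a-1} in the remainder of T^{a-1+j} modulo P, one has a_0 = 1 and sum_{i=0}^{a} (-1)^i S_i a_{j-i}
= 0 for every j > 0 (with a_m = 0 for m < 0); equivalently sum_j (-1)^j a_j is the inverse of sum_i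
S_i. (The source works in formal power series; the identity involves only polynomials.) -/
theorem result (a : ℕ) (ha : 0 < a) :
    let P : (MvPolynomial (Fin a) ℤ)[X] := ∏ i : Fin a, (X - C (MvPolynomial.X i))
    let coef : ℤ → MvPolynomial (Fin a) ℤ := fun j =>
      if j < 0 then 0 else ((X : (MvPolynomial (Fin a) ℤ)[X]) ^ (a - 1 + j.toNat) %ₘ P).coeff (a - 1)
    coef 0 = 1 ∧ ∀ j : ℕ, 0 < j →
      (∑ i ∈ Finset.range (a + 1), (-1 : MvPolynomial (Fin a) ℤ) ^ i * MvPolynomial.esymm (Fin a) ℤ i *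
        coef ((j : ℤ) - i)) = 0 := by
  intro P coef
  have hcoef : ∀ z : ℤ, coef z = if z < 0 then 0 else
      ((X : (MvPolynomial (Fin a) ℤ)[X]) ^ (a - 1 + z.toNat) %ₘ P).coeff (a - 1) := fun z => rfl
  have hPdef : P = ∏ i : Fin a, (X - C (MvPolynomial.X i)) := rfl
  have hmonic : P.Monic := Polynomial.monic_prod_of_monic _ _ (fun i _ => Polynomial.monic_X_sub_C _)
  have hdeg : P.natDegree = a := by
    rw [hPdef, Polynomial.natDegree_prod_of_monic _ _ (fun i _ => Polynomial.monic_X_sub_C _)]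
    simp
  have hPsum : P = ∑ i ∈ Finset.range (a + 1),
      (-1 : (MvPolynomial (Fin a) ℤ)[X]) ^ i * (C (MvPolynomial.esymm (Fin a) ℤ i) * X ^ (a - i)) := by
    let s : Multiset (MvPolynomial (Fin a) ℤ) :=
      Finset.univ.val.map fun i : Fin a => (MvPolynomial.X i : MvPolynomial (Fin a) ℤ)
    have hs : Multiset.card s = a := by simp [s]
    have h1 := Multiset.prod_X_sub_X_eq_sum_esymm s
    rw [hs] at h1
    rw [hPdef, Finset.prod_eq_multiset_prod]
    rw [MvPolynomial.esymm_eq_multiset_esymm (Fin a) ℤ]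
    refine Eq.trans ?_ h1
    simp [s, Multiset.map_map, Function.comp_def]
  have hsmall : ∀ m : ℕ, m < a → (X : (MvPolynomial (Fin a) ℤ)[X]) ^ m %ₘ P = X ^ m := by
    intro m hm
    rw [Polynomial.modByMonic_eq_self_iff hmonic]
    rw [Polynomial.degree_X_pow, Polynomial.degree_eq_natDegree hmonic.ne_zero, hdeg]
    exact_mod_cast hm
  constructor
  · rw [hcoef 0, if_neg (lt_irrefl 0)]
    simp only [Int.toNat_zero, add_zero]
    rw [hsmall (a - 1) (by omega), Polynomial.coeff_X_pow_self]
  · intro j hj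
    let L : (MvPolynomial (Fin a) ℤ)[X] →ₗ[MvPolynomial (Fin a) ℤ] MvPolynomial (Fin a) ℤ :=
      (Polynomial.lcoeff _ (a - 1)).comp (Polynomial.modByMonicHom P)
    have hL : ∀ q, L q = (q %ₘ P).coeff (a - 1) := fun q => rfl
    have hterm : ∀ i ∈ Finset.range (a + 1), coef ((j : ℤ) - i) = L (X ^ (a - 1 + j - i)) := by
      intro i hi
      have hi' : i ≤ a := Nat.lt_succ_iff.mp (Finset.mem_range.mp hi)
      rw [hcoef, hL]
      by_cases hji : j < i
      · have hneg : ((j : ℤ) - i) < 0 := by omega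
        rw [if_pos hneg, hsmall (a - 1 + j - i) (by omega)]
        rw [Polynomial.coeff_X_pow, if_neg (by omega)]
      · have hneg : ¬ ((j : ℤ) - i) < 0 := by omega
        rw [if_neg hneg]
        have e : a - 1 + ((j : ℤ) - i).toNat = a - 1 + j - i := by omega
        rw [e]
    rw [Finset.sum_congr rfl (fun i hi => by rw [hterm i hi])]
    have hsum : ∑ i ∈ Finset.range (a + 1), (-1 : MvPolynomial (Fin a) ℤ) ^ i *
          MvPolynomial.esymm (Fin a) ℤ i * L (X ^ (a - 1 + j - i))
        = L (X ^ (j - 1) * P) := by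
      rw [hPsum, Finset.mul_sum, map_sum]
      apply Finset.sum_congr rfl
      intro i hi
      have hi' : i ≤ a := Nat.lt_succ_iff.mp (Finset.mem_range.mp hi)
      have e : (X : (MvPolynomial (Fin a) ℤ)[X]) ^ (j - 1) * ((-1 : (MvPolynomial (Fin a) ℤ)[X]) ^ i *
            (C (MvPolynomial.esymm (Fin a) ℤ i) * X ^ (a - i)))
          = ((-1 : MvPolynomial (Fin a) ℤ) ^ i * MvPolynomial.esymm (Fin a) ℤ i) •
            (X : (MvPolynomial (Fin a) ℤ)[X]) ^ (a - 1 + j - i) := by
        rw [Polynomial.smul_eq_C_mul, map_mul, map_pow, map_neg, map_one]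
        have hexp : a - 1 + j - i = (j - 1) + (a - i) := by omega
        rw [hexp, pow_add]
        ring
      rw [e, map_smul, smul_eq_mul]
    rw [hsum, hL]
    rw [(Polynomial.modByMonic_eq_zero_iff_dvd hmonic).mpr (Dvd.intro_left _ rfl)]
    simp

end Groth.Agent.S3214
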