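import Groth.Statements.S3399
import Mathlib
import Groth.Agent.Lib.helper4.ProConsScheme

set_option autoImplicit false
open CategoryTheory AlgebraicGeometry
universe u
open EGA41

namespace Groth.Agent.S3399

/-- Let f : X' ⟶ X be a morphism locally of finite presentation and E' an ind-constructible subset of
X'. Then f(E') is ind-constructible in X; in particular f(X') is ind-constructible. -/
theorem result {X' X : Scheme.{u}} (f : X' ⟶ X)
    [LocallyOfFinitePresentation f] (E' : Set X') (hE' : ProCons.IsIndConstructible E') :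
    ProCons.IsIndConstructible (f.base '' E') := by
  classical
  apply Groth.Agent.H4.H4_ind_of_PO
  intro x
  obtain ⟨W, hW, hxW, -⟩ := Groth.Agent.H4.H4_exists_affine_nhd X ⊤ x trivial
  haveI := Groth.Agent.H4.H4_spectral_affineOpen X W hW
  refine ⟨W, W.isOpen, hxW, inferInstance, ?_⟩
  have key : (Subtype.val ⁻¹' (f.base '' E') : Set ↥(W : Set X)) =
      ⋃ V : {V : X'.Opens // IsAffineOpen V ∧ V ≤ f ⁻¹ᵁ W},
        Groth.Agent.H4.H4_resMap f V.1 W V.2.2 ''
          (Subtype.val ⁻¹' E' : Set ↥((V.1 : X'.Opens) : Set X')) := by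
    ext z
    simp only [Set.mem_preimage, Set.mem_image, Set.mem_iUnion]
    constructor
    · rintro ⟨e, heE, hez⟩
      have hemem : e ∈ f ⁻¹ᵁ W := by
        show f.base e ∈ W
        rw [hez]; exact z.2
      obtain ⟨V, hV, heV, hVW⟩ := Groth.Agent.H4.H4_exists_affine_nhd X' (f ⁻¹ᵁ W) e hemem
      exact ⟨⟨V, hV, hVW⟩, ⟨e, heV⟩, heE, Subtype.ext hez⟩
    · rintro ⟨V, y, hy, rfl⟩
      exact ⟨y.1, hy, rfl⟩
  rw [key]
  refine @isOpen_iUnion ↥(W : Set X) _ (constructibleTopology ↥(W : Set X)) _ fun V => ?_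
  haveI := Groth.Agent.H4.H4_spectral_affineOpen X' V.1 V.2.1
  refine Groth.Agent.H4.H4_isOpen_constr_image_of_chevalley _ ?_
    (Groth.Agent.H4.H4_PO_of_ind hE' V.1.isOpen)
  intro C hC
  rw [Groth.Agent.H4.H4_resMap_eq]
  haveI : IsAffine V.1.toScheme := V.2.1
  haveI : IsAffine W.toScheme := hW
  haveI : QuasiCompact (f.resLE W V.1 V.2.2) :=
    HasAffineProperty.iff_of_isAffine.mpr (by infer_instance)
  exact (f.resLE W V.1 V.2.2).isConstructible_image hC

end Groth.Agent.S3399
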