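import Groth.Statements.S3401
import Mathlib
import Groth.Agent.Lib.helper4.ProConsScheme

set_option autoImplicit false
open CategoryTheory AlgebraicGeometry
universe u
open EGA41

namespace Groth.Agent.S3401

/-- Let X be a scheme and E a subset of X. If E is ind-constructible then for every point x of E the set
E ∩ cl{x} is a neighbourhood of x in cl{x}; when X is locally Noetherian the converse holds. (As
published, the necessity clause quantifies over all points x of X; for x outside E the condition
cannot hold, and the argument uses x ∈ E, so it is stated here for x ∈ E.) Stated as an equivalence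
for X locally Noetherian. -/
theorem result (X : Scheme.{u}) [IsLocallyNoetherian X]
    (E : Set X) :
    ProCons.IsIndConstructible E ↔
      ∀ x ∈ E, (Subtype.val ⁻¹' E : Set ↥(closure ({x} : Set X))) ∈ nhds (⟨x, subset_closure rfl⟩ : ↥(closure ({x} : Set X))) := by
  constructor
  · intro hE x hxE
    obtain ⟨W, hW, hxW, -⟩ := Groth.Agent.H4.H4_exists_affine_nhd X ⊤ x trivial
    haveI := Groth.Agent.H4.H4_spectral_affineOpen X W hW
    have hO := Groth.Agent.H4.H4_PO_of_ind hE W.isOpen
    let x' : ↥(W : Set X) := ⟨x, hxW⟩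
    let Z : Set ↥(W : Set X) := closure {x'}
    have hZc : @IsClosed _ (constructibleTopology ↥(W : Set X)) Z :=
      _root_.H4.H4_isClosed_constr_of_isClosed isClosed_closure
    have hO' : @IsOpen _ (constructibleTopology ↥(W : Set X))
        ((Subtype.val ⁻¹' E : Set ↥(W : Set X)) ∪ Zᶜ) :=
      @IsOpen.union _ _ _ (constructibleTopology ↥(W : Set X)) hO
        (@IsClosed.isOpen_compl _ (constructibleTopology ↥(W : Set X)) _ hZc)
    have hint : x' ∈ interior ((Subtype.val ⁻¹' E : Set ↥(W : Set X)) ∪ Zᶜ) := by
      refine Groth.Agent.H4.H4_mem_interior_of_generizations hO' x' fun y hy => ?_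
      by_cases hyZ : y ∈ Z
      · left
        have h1 : x' ⤳ y := specializes_iff_mem_closure.2 hyZ
        have h2 : y = x' := (hy.antisymm h1).eq
        rw [h2]; exact hxE
      · right; exact hyZ
    rw [mem_nhds_subtype]
    refine ⟨Subtype.val '' interior ((Subtype.val ⁻¹' E : Set ↥(W : Set X)) ∪ Zᶜ),
      (W.isOpen.isOpenMap_subtype_val _ isOpen_interior).mem_nhds ⟨x', hint, rfl⟩, ?_⟩
    rintro ⟨y, hycl⟩ ⟨z, hz, hzy⟩
    have hzy' : z.1 = y := hzy
    have hzZ : z ∈ Z := by
      show z ∈ closure {x'}
      rw [closure_subtype, Set.image_singleton, hzy']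
      exact hycl
    rcases interior_subset hz with h1 | h1
    · show y ∈ E
      rw [← hzy']; exact h1
    · exact absurd hzZ h1
  · intro h
    apply Groth.Agent.H4.H4_ind_of_PO
    intro x
    obtain ⟨W, hW, hxW, -⟩ := Groth.Agent.H4.H4_exists_affine_nhd X ⊤ x trivial
    haveI := Groth.Agent.H4.H4_spectral_affineOpen X W hW
    haveI : IsNoetherianRing Γ(X, W) := IsLocallyNoetherian.component_noetherian ⟨W, hW⟩
    haveI : TopologicalSpace.NoetherianSpace ↥(W : Set X) := noetherianSpace_of_isAffineOpen W hW
    refine ⟨W, W.isOpen, hxW, inferInstance, ?_⟩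
    have hconstr_open : ∀ N : Set ↥(W : Set X), IsOpen N → Topology.IsConstructible N :=
      fun N hN => (TopologicalSpace.NoetherianSpace.isCompact N).isConstructible hN
    have key : ∀ z ∈ (Subtype.val ⁻¹' E : Set ↥(W : Set X)), ∃ C : Set ↥(W : Set X),
        Topology.IsConstructible C ∧ z ∈ C ∧ C ⊆ (Subtype.val ⁻¹' E : Set ↥(W : Set X)) := by
      intro z hz
      have h1 := h z.1 hz
      rw [mem_nhds_subtype] at h1
      obtain ⟨u, hu, hsub⟩ := h1
      obtain ⟨N, hNu, hNo, hzN⟩ := mem_nhds_iff.1 hu
      refine ⟨(Subtype.val ⁻¹' N) ∩ closure {z}, ?_, ⟨hzN, subset_closure rfl⟩, ?_⟩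
      · refine (hconstr_open _ (hNo.preimage continuous_subtype_val)).inter ?_
        have := (hconstr_open _ (isClosed_closure (s := ({z} : Set ↥(W : Set X)))).isOpen_compl).compl
        rwa [compl_compl] at this
      · rintro y ⟨hyN, hycl⟩
        have hy' : y.1 ∈ closure ({z.1} : Set X) := by
          have := (closure_subtype (x := y) (s := {z})).1 hycl
          rwa [Set.image_singleton] at this
        exact hsub (a := ⟨y.1, hy'⟩) (hNu hyN)
    choose! C hC hzC hCE using key
    have hEq : (Subtype.val ⁻¹' E : Set ↥(W : Set X)) =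
        ⋃ z ∈ (Subtype.val ⁻¹' E : Set ↥(W : Set X)), C z := by
      apply Set.Subset.antisymm
      · intro z hz
        exact Set.mem_iUnion₂.2 ⟨z, hz, hzC z hz⟩
      · exact Set.iUnion₂_subset fun z hz => hCE z hz
    rw [hEq]
    exact @isOpen_biUnion ↥(W : Set X) _ (constructibleTopology ↥(W : Set X)) _ _ fun z hz =>
      (_root_.H4.H4_isClopen_constr_of_isConstructible (hC z hz)).2

end Groth.Agent.S3401
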