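import Groth.Statements.S3404
import Mathlib
import Groth.Agent.Lib.helper4.ProConsScheme
import Groth.Agent.S15542
import Groth.Agent.S3399
import Groth.Agent.S3403

set_option autoImplicit false
open CategoryTheory AlgebraicGeometry
universe u
open EGA41

namespace Groth.Agent.S3404

/-- Let f : X ⟶ Y be a morphism of schemes, x a point of X and y = f x. If f is open at x then every
generization of y is the image of a generization of x; when f is locally of finite presentation the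
converse holds. -/
theorem result {X Y : Scheme.{u}} (f : X ⟶ Y) (x : X) :
    (EGA43.IsOpenAt f.base x → ∀ y' : Y, y' ⤳ f.base x → ∃ x' : X, x' ⤳ x ∧ f.base x' = y') ∧
    (LocallyOfFinitePresentation f →
      ((EGA43.IsOpenAt f.base x) ↔ ∀ y' : Y, y' ⤳ f.base x → ∃ x' : X, x' ⤳ x ∧ f.base x' = y')) := by
  have hXs : ∀ (S : Scheme.{u}) (x : S), ∃ W : Set S, IsOpen W ∧ x ∈ W ∧ SpectralSpace ↥W := by
    intro S x
    obtain ⟨W, hW, hxW, -⟩ := Groth.Agent.H4.H4_exists_affine_nhd S ⊤ x trivial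
    exact ⟨W, W.isOpen, hxW, Groth.Agent.H4.H4_spectral_affineOpen S W hW⟩
  have h1 : EGA43.IsOpenAt f.base x → ∀ y' : Y, y' ⤳ f.base x →
      ∃ x' : X, x' ⤳ x ∧ f.base x' = y' := by
    intro hopen y' hy'
    have hpro : ProCons.IsProConstructible (f.base ⁻¹' ({y'} : Set Y)) :=
      Groth.Agent.S15542.result f {y'} (Groth.Agent.H4.H4_pro_singleton (hXs Y) y')
    have hcl : x ∈ closure (f.base ⁻¹' ({y'} : Set Y)) := by
      rw [mem_closure_iff]
      intro U hU hxU
      have hN : f.base '' U ∈ nhds (f.base x) := hopen U (hU.mem_nhds hxU)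
      obtain ⟨O, hON, hOo, hfxO⟩ := mem_nhds_iff.1 hN
      obtain ⟨u, huU, hu⟩ := hON (hy'.mem_open hOo hfxO)
      exact ⟨u, huU, hu⟩
    obtain ⟨W, hW, hxW, -⟩ := Groth.Agent.H4.H4_exists_affine_nhd X ⊤ x trivial
    haveI := Groth.Agent.H4.H4_spectral_affineOpen X W hW
    obtain ⟨x', hx', hx'x⟩ :=
      Groth.Agent.H4.H4_pro_exists_specializes hpro W.isOpen hxW hcl
    exact ⟨x', hx'x, hx'⟩
  refine ⟨h1, fun hfp => ⟨h1, fun hgen => ?_⟩⟩
  intro U hU
  obtain ⟨U₀, hU₀U, hU₀o, hxU₀⟩ := mem_nhds_iff.1 hU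
  have hind : ProCons.IsIndConstructible (f.base '' U₀) :=
    Groth.Agent.S3399.result f U₀ (Groth.Agent.H4.H4_ind_of_isOpen (hXs X) hU₀o)
  have hint : f.base x ∈ interior (f.base '' U₀) := by
    rw [Groth.Agent.S3403.result Y _ hind (f.base x)]
    intro y' hy'
    obtain ⟨x', hx'x, hx'⟩ := hgen y' hy'
    exact ⟨x', hx'x.mem_open hU₀o hxU₀, hx'⟩
  exact Filter.mem_of_superset (mem_interior_iff_mem_nhds.1 hint) (Set.image_mono hU₀U)

end Groth.Agent.S3404
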