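import Groth.Statements.S3431
import Mathlib
import Groth.Agent.Lib.helper2.ArtinTate

set_option autoImplicit false
universe u
open EGA43

namespace Groth.Agent.S3431

/-- Let A be a Noetherian ring. Then A is a Jacobson ring if and only if there is no prime ideal p of A
such that A/p is semi-local (finitely many maximal ideals) of Krull dimension 1. -/
theorem result (A : Type u) [CommRing A] [IsNoetherianRing A] :
    IsJacobsonRing A ↔
      ∀ (p : Ideal A) [p.IsPrime], ¬ (Finite (MaximalSpectrum (A ⧸ p)) ∧ ringKrullDim (A ⧸ p) = 1) := by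
  classical
  constructor
  · intro hJ p hp
    rintro ⟨hfin, hdim⟩
    have hD : IsJacobsonRing (A ⧸ p) := inferInstance
    have hjac : (⊥ : Ideal (A ⧸ p)).jacobson = ⊥ :=
      hD.out' ⊥ (Ideal.isPrime_bot (α := A ⧸ p)).isRadical
    have hex : ∃ m : MaximalSpectrum (A ⧸ p), m.asIdeal = ⊥ := by
      by_contra hcon
      push_neg at hcon
      haveI := Fintype.ofFinite (MaximalSpectrum (A ⧸ p))
      have hprod : (∏ m : MaximalSpectrum (A ⧸ p), m.asIdeal) ≤ ⊥ := by
        rw [← hjac]
        refine le_sInf ?_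
        rintro J ⟨-, hJmax⟩
        exact Ideal.prod_le_inf.trans
          (Finset.inf_le (f := fun m : MaximalSpectrum (A ⧸ p) => m.asIdeal)
            (Finset.mem_univ (⟨J, hJmax⟩ : MaximalSpectrum (A ⧸ p))))
      have h0 : (∏ m : MaximalSpectrum (A ⧸ p), m.asIdeal) = 0 := le_bot_iff.mp hprod
      rw [Finset.prod_eq_zero_iff] at h0
      obtain ⟨m, -, hm⟩ := h0
      exact hcon m hm
    obtain ⟨m, hm⟩ := hex
    have hfield : IsField (A ⧸ p) := Ring.isField_iff_maximal_bot.mpr (hm ▸ m.isMaximal)
    rw [ringKrullDim_eq_zero_of_isField hfield] at hdim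
    exact zero_ne_one hdim
  · intro H
    by_contra hJ
    rw [isJacobsonRing_iff_prime_eq] at hJ
    push_neg at hJ
    -- choose a maximal bad prime
    have hne : {P : Ideal A | P.IsPrime ∧ P.jacobson ≠ P}.Nonempty := by
      obtain ⟨P, hP, hPj⟩ := hJ
      exact ⟨P, hP, hPj⟩
    obtain ⟨P, ⟨hPprime, hPj⟩, hPmax⟩ :=
      WellFounded.has_min (wellFounded_gt (α := Ideal A)) _ hne
    haveI := hPprime
    obtain ⟨f, hfj, hfP⟩ : ∃ f, f ∈ P.jacobson ∧ f ∉ P := by
      by_contra hcon
      push_neg at hcon
      exact hPj (le_antisymm hcon Ideal.le_jacobson)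
    let mk := Ideal.Quotient.mk P
    have hmk : Function.Surjective mk := Ideal.Quotient.mk_surjective
    have hf0 : mk f ≠ 0 := fun h0 => hfP (Ideal.Quotient.eq_zero_iff_mem.mp h0)
    have hall : ∀ Q : Ideal (A ⧸ P), Q.IsPrime → Q ≠ ⊥ → mk f ∈ Q := by
      intro Q hQ hQ0
      have hPQ : P ≤ Q.comap mk := by
        intro a ha
        change mk a ∈ Q
        rw [Ideal.Quotient.eq_zero_iff_mem.mpr ha]; exact zero_mem _
      have hQprime : (Q.comap mk).IsPrime := inferInstance
      have hne' : Q.comap mk ≠ P := by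
        intro heq
        apply hQ0
        rw [← Ideal.map_comap_of_surjective mk hmk Q, heq]
        exact Ideal.map_quotient_self _
      have hQj : (Q.comap mk).jacobson = Q.comap mk := by
        by_contra hbad
        exact hPmax (Q.comap mk) ⟨hQprime, hbad⟩ (lt_of_le_of_ne hPQ (Ne.symm hne'))
      have : f ∈ Q.comap mk := by
        rw [← hQj]; exact Ideal.jacobson_mono hPQ hfj
      exact this
    have hfinP : {Q : Ideal (A ⧸ P) | Q.IsPrime}.Finite :=
      Groth.Agent.H2.H2_finite_primes_of_forall_mem (mk f) hf0 hall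
    have hfinM : Finite (MaximalSpectrum (A ⧸ P)) := by
      have : Finite {Q : Ideal (A ⧸ P) | Q.IsPrime} := hfinP
      exact Finite.of_injective (fun m : MaximalSpectrum (A ⧸ P) =>
        (⟨m.asIdeal, m.isMaximal.isPrime⟩ : {Q : Ideal (A ⧸ P) | Q.IsPrime}))
        (fun a b hab => MaximalSpectrum.ext (congrArg Subtype.val hab))
    have hnotfield : ¬ IsField (A ⧸ P) := by
      intro hF
      have : P.IsMaximal := Ideal.Quotient.maximal_of_isField P hF
      exact hPj Ideal.jacobson_eq_self_of_isMaximal
    have hdim : ringKrullDim (A ⧸ P) = 1 := by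
      apply le_antisymm
      · rw [ringKrullDim, Order.krullDim_le_one_iff]
        intro q
        by_cases hq : q.asIdeal = ⊥
        · left
          intro r _
          change q.asIdeal ≤ r.asIdeal
          rw [hq]; exact bot_le
        · right
          have := Groth.Agent.H2.H2_isMaximal_of_forall_mem (mk f) hf0 hall q.asIdeal hq
          intro r hr
          have hr' : q.asIdeal ≤ r.asIdeal := hr
          change r.asIdeal ≤ q.asIdeal
          exact (this.eq_of_le r.isPrime.ne_top hr').ge
      · rw [ringKrullDim, Order.one_le_krullDim_iff]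
        obtain ⟨q, hq0, hqp⟩ := Ring.not_isField_iff_exists_prime.mp hnotfield
        exact ⟨⟨⊥, Ideal.isPrime_bot⟩, ⟨q, hqp⟩, lt_of_le_of_ne bot_le
          (fun h => hq0 (congrArg PrimeSpectrum.asIdeal h).symm)⟩
    exact H P ⟨hfinM, hdim⟩

end Groth.Agent.S3431
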