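import Groth.Statements.S3432
import Mathlib
import Groth.Agent.Lib.helper2.LocClosedPt

set_option autoImplicit false
open CategoryTheory AlgebraicGeometry
universe u
open EGA43

namespace Groth.Agent.S3432

/-- Let X be a locally Noetherian scheme and Y a closed subset of X such that every nonempty closed
subset of X meets Y. Then the open subscheme X ∖ Y (equivalently, the subspace X ∖ Y) is a Jacobson
space. -/
theorem result (X : Scheme.{u}) [IsLocallyNoetherian X] (Y : Set X)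
    (hY : IsClosed Y) (hmeet : ∀ Z : Set X, IsClosed Z → Z.Nonempty → (Z ∩ Y).Nonempty) :
    JacobsonSpace ↥(Yᶜ) := by
  rw [jacobsonSpace_iff_locallyClosed]
  intro S hS hSlc
  obtain ⟨S', hS', rfl⟩ := Topology.IsInducing.subtypeVal.isLocallyClosed_iff.mp hSlc
  obtain ⟨W, C, hW, hC, rfl⟩ := hS'
  obtain ⟨⟨s, hsY⟩, hsW, hsC⟩ := hS
  have hsW' : s ∈ W := hsW
  have hsC' : s ∈ C := hsC
  obtain ⟨x₁, ⟨hx₁Y, hx₁W⟩, hspec, hlc⟩ :=
    Groth.Agent.H2.H2_exists_specializes_isLocallyClosed_singleton X s (Yᶜ ∩ W)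
      (hY.isOpen_compl.inter hW) ⟨hsY, hsW'⟩
  have hx₁C : x₁ ∈ C := hspec.mem_closed hC hsC'
  refine ⟨⟨x₁, hx₁Y⟩, ⟨hx₁W, hx₁C⟩, ?_⟩
  rw [mem_closedPoints_iff, ← closure_subset_iff_isClosed]
  rintro ⟨y, hyY⟩ hy
  have hy' : y ∈ closure ({x₁} : Set X) := by
    have := (subtype_specializes_iff (p := fun x => x ∈ Yᶜ) ⟨x₁, hx₁Y⟩ ⟨y, hyY⟩).mp
      (specializes_iff_mem_closure.mpr hy)
    exact this.mem_closure
  by_contra hne
  have hne' : y ≠ x₁ := fun h => hne (by subst h; rfl)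
  have hcl := Groth.Agent.H2.H2_isClosed_singleton_of_mem_closure_of_isLocallyClosed X x₁ hlc y hy' hne'
  obtain ⟨w, hw1, hw2⟩ := hmeet {y} hcl (Set.singleton_nonempty y)
  rw [Set.mem_singleton_iff] at hw1
  subst hw1
  exact hyY hw2

end Groth.Agent.S3432
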