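import Groth.Statements.S3433
import Mathlib
import Groth.Agent.S3432

set_option autoImplicit false
universe u
open EGA43

namespace Groth.Agent.S3433

/-- Let A be a Noetherian local ring with maximal ideal m and let Y be the punctured spectrum Spec A ∖
{m}. Then Y is a Jacobson space, and a point p of Y is closed in Y if and only if dim A/p = 1. -/
theorem result (A : Type u) [CommRing A] [IsNoetherianRing A] [IsLocalRing A] :
    JacobsonSpace ↥({IsLocalRing.closedPoint A}ᶜ : Set (PrimeSpectrum A)) ∧
      ∀ p : ↥({IsLocalRing.closedPoint A}ᶜ : Set (PrimeSpectrum A)),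
        IsClosed ({p} : Set ↥({IsLocalRing.closedPoint A}ᶜ : Set (PrimeSpectrum A))) ↔
          ringKrullDim (A ⧸ p.1.asIdeal) = 1 := by
  constructor
  · haveI : AlgebraicGeometry.IsLocallyNoetherian (AlgebraicGeometry.Spec (CommRingCat.of A)) := by
      rw [AlgebraicGeometry.isLocallyNoetherian_Spec]; infer_instance
    refine Groth.Agent.S3432.result (AlgebraicGeometry.Spec (CommRingCat.of A))
      ({IsLocalRing.closedPoint A} : Set (PrimeSpectrum A))
      (IsLocalRing.isClosed_singleton_closedPoint A) ?_
    intro Z hZ hne
    obtain ⟨z, hz⟩ := hne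
    refine ⟨IsLocalRing.closedPoint A, ?_, rfl⟩
    exact (IsLocalRing.specializes_closedPoint (R := A) z).mem_closed hZ hz
  · intro p
    have hpm : p.1 ≠ IsLocalRing.closedPoint A := p.2
    have hle : ∀ q : PrimeSpectrum A, q ≤ IsLocalRing.closedPoint A := fun q =>
      IsLocalRing.le_maximalIdeal q.2.ne_top
    rw [ringKrullDim,
      Order.krullDim_eq_of_orderIso p.1.asIdeal.primeSpectrumQuotientOrderIsoZeroLocus]
    have hclosed_iff : IsClosed ({p} : Set ↥({IsLocalRing.closedPoint A}ᶜ : Set (PrimeSpectrum A))) ↔
        ∀ q : PrimeSpectrum A, q ≠ IsLocalRing.closedPoint A → p.1 ≤ q → q = p.1 := by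
      rw [← closure_subset_iff_isClosed]
      constructor
      · intro h q hq hpq
        have : (⟨q, hq⟩ : ↥({IsLocalRing.closedPoint A}ᶜ : Set (PrimeSpectrum A))) ∈
            closure {p} := by
          rw [← specializes_iff_mem_closure, subtype_specializes_iff,
            ← PrimeSpectrum.le_iff_specializes]
          exact hpq
        exact congrArg Subtype.val (h this)
      · rintro h ⟨q, hq⟩ hqmem
        have : p.1 ≤ q := by
          rw [← specializes_iff_mem_closure, subtype_specializes_iff,
            ← PrimeSpectrum.le_iff_specializes] at hqmem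
          exact hqmem
        exact Subtype.ext (h q hq this)
    rw [hclosed_iff]
    constructor
    · intro h
      apply le_antisymm
      · rw [Order.krullDim_le_one_iff]
        rintro ⟨q, hq⟩
        have hq' : p.1 ≤ q := hq
        by_cases hqm : q = IsLocalRing.closedPoint A
        · right
          rintro ⟨r, hr⟩ _
          change r ≤ q
          rw [hqm]; exact hle r
        · left
          rintro ⟨r, hr⟩ _
          change q ≤ r
          rw [h q hqm hq']; exact hr
      · rw [Order.one_le_krullDim_iff]
        exact ⟨⟨p.1, (le_refl p.1 : p.1.asIdeal ≤ p.1.asIdeal)⟩,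
          ⟨IsLocalRing.closedPoint A, hle p.1⟩,
          lt_of_le_of_ne (hle p.1) (fun h => hpm (congrArg Subtype.val h))⟩
    · intro h q hqm hpq
      have h1 := (Order.krullDim_le_one_iff.mp h.le)
        (⟨q, hpq⟩ : PrimeSpectrum.zeroLocus (p.1.asIdeal : Set A))
      rcases h1 with hmin | hmax
      · have : q ≤ p.1 := hmin (b := ⟨p.1, (le_refl p.1 : p.1.asIdeal ≤ p.1.asIdeal)⟩) hpq
        exact le_antisymm this hpq
      · have : IsLocalRing.closedPoint A ≤ q :=
          hmax (b := ⟨IsLocalRing.closedPoint A, hle p.1⟩) (hle q)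
        exact absurd (le_antisymm (hle q) this) hqm

end Groth.Agent.S3433
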