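import Groth.Statements.S3435
import Groth.Statements.S3435
import Mathlib
open scoped TensorProduct

set_option autoImplicit false
universe u
open EGA41

namespace Groth.Agent.S3435

open TensorProduct in
/-- Let Λ → A → B → C be ring homomorphisms. The homomorphism Ω_{B/Λ} ⊗_B C → Ω_{B/A} ⊗_B C maps the
imperfection module Υ_{C/B/Λ} (the kernel of Ω_{B/Λ} ⊗_B C → Ω_{C/Λ}) onto the imperfection module
Υ_{C/B/A} (the kernel of Ω_{B/A} ⊗_B C → Ω_{C/A}): every element of Υ_{C/B/A} is the image of some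
element of Υ_{C/B/Λ}. -/
theorem result (Λ A B C : Type u) [CommRing Λ] [CommRing A] [CommRing B] [CommRing C]
    [Algebra Λ A] [Algebra Λ B] [Algebra Λ C] [Algebra A B] [Algebra A C] [Algebra B C]
    [IsScalarTower Λ A B] [IsScalarTower Λ A C] [IsScalarTower Λ B C] [IsScalarTower A B C] :
    ∀ ω ∈ EGA41.imperfection A B C, ∃ η ∈ EGA41.imperfection Λ B C,
      (KaehlerDifferential.map Λ A B B).baseChange C η = ω := by
  classical
  intro ω hω
  have hω0 : KaehlerDifferential.mapBaseChange A B C ω = 0 := hω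
  let bc : C ⊗[B] Ω[B⁄Λ] →ₗ[C] C ⊗[B] Ω[B⁄A] := (KaehlerDifferential.map Λ A B B).baseChange C
  let uΛ : C ⊗[B] Ω[B⁄Λ] →ₗ[C] Ω[C⁄Λ] := KaehlerDifferential.mapBaseChange Λ B C
  let uA : C ⊗[B] Ω[B⁄A] →ₗ[C] Ω[C⁄A] := KaehlerDifferential.mapBaseChange A B C
  let v : C ⊗[A] Ω[A⁄Λ] →ₗ[C] Ω[C⁄Λ] := KaehlerDifferential.mapBaseChange Λ A C
  -- (F1) compatibility
  have hF1 : uA ∘ₗ bc = (KaehlerDifferential.map Λ A C C) ∘ₗ uΛ := by
    apply (LinearMap.liftBaseChangeEquiv C).symm.injective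
    apply Derivation.liftKaehlerDifferential_unique
    ext b
    show uA (bc ((1 : C) ⊗ₜ[B] KaehlerDifferential.D Λ B b)) =
      KaehlerDifferential.map Λ A C C (uΛ ((1 : C) ⊗ₜ[B] KaehlerDifferential.D Λ B b))
    simp only [bc, uA, uΛ, LinearMap.baseChange_tmul, KaehlerDifferential.mapBaseChange_tmul,
      KaehlerDifferential.map_D, one_smul, Algebra.algebraMap_self_apply]
  -- lift ω
  have hbcsurj : Function.Surjective bc :=
    LinearMap.lTensor_surjective C (KaehlerDifferential.map_surjective Λ A B)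
  obtain ⟨η₀, hη₀⟩ := hbcsurj ω
  have h2 : KaehlerDifferential.map Λ A C C (uΛ η₀) = 0 := by
    have := LinearMap.congr_fun hF1 η₀
    simp only [LinearMap.coe_comp, Function.comp_apply] at this
    rw [← this, hη₀]
    exact hω0
  obtain ⟨ζ, hζ⟩ := (KaehlerDifferential.exact_mapBaseChange_map Λ A C (uΛ η₀)).mp h2
  -- the map τ
  let ρ₀ : Ω[A⁄Λ] →ₗ[A] C ⊗[B] Ω[B⁄Λ] :=
    ((TensorProduct.mk B C Ω[B⁄Λ] 1).restrictScalars A) ∘ₗ (KaehlerDifferential.map Λ Λ A B)
  let τ : C ⊗[A] Ω[A⁄Λ] →ₗ[C] C ⊗[B] Ω[B⁄Λ] := ρ₀.liftBaseChange C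
  have hτ1 : uΛ ∘ₗ τ = v := by
    apply (LinearMap.liftBaseChangeEquiv C).symm.injective
    apply Derivation.liftKaehlerDifferential_unique
    ext a
    show uΛ (τ ((1 : C) ⊗ₜ[A] KaehlerDifferential.D Λ A a)) =
      v ((1 : C) ⊗ₜ[A] KaehlerDifferential.D Λ A a)
    simp only [τ, ρ₀, uΛ, v, LinearMap.liftBaseChange_tmul, LinearMap.coe_comp,
      LinearMap.coe_restrictScalars, Function.comp_apply, TensorProduct.mk_apply,
      KaehlerDifferential.mapBaseChange_tmul, KaehlerDifferential.map_D, one_smul]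
    rw [← IsScalarTower.algebraMap_apply]
  have hτ2 : bc ∘ₗ τ = 0 := by
    apply (LinearMap.liftBaseChangeEquiv C).symm.injective
    apply Derivation.liftKaehlerDifferential_unique
    ext a
    show bc (τ ((1 : C) ⊗ₜ[A] KaehlerDifferential.D Λ A a)) = 0
    simp only [τ, ρ₀, bc, LinearMap.liftBaseChange_tmul, LinearMap.coe_comp,
      LinearMap.coe_restrictScalars, Function.comp_apply, TensorProduct.mk_apply,
      LinearMap.baseChange_tmul, KaehlerDifferential.map_D, one_smul,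
      Algebra.algebraMap_self_apply, Derivation.map_algebraMap, TensorProduct.tmul_zero]
  refine ⟨η₀ - τ ζ, ?_, ?_⟩
  · show uΛ (η₀ - τ ζ) = 0
    rw [map_sub, sub_eq_zero]
    have := LinearMap.congr_fun hτ1 ζ
    simp only [LinearMap.coe_comp, Function.comp_apply] at this
    rw [this]
    exact hζ.symm
  · show bc (η₀ - τ ζ) = ω
    rw [map_sub, hη₀]
    have := LinearMap.congr_fun hτ2 ζ
    simp only [LinearMap.coe_comp, Function.comp_apply, LinearMap.zero_apply] at this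
    rw [this, sub_zero]

end Groth.Agent.S3435
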