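import Groth.Statements.S5816
import Groth.Statements.S5816
import Mathlib

set_option autoImplicit false
universe u
open EGA41

namespace Groth.Agent.S5816

/-- Discrete case. For ring maps Λ → A → B, B is formally smooth over A relative to Λ (square-zero test
ideals) if and only if every A-extension of B by a B-module L which is Λ-trivial is A-trivial. Λ, A,
B are taken in one universe and L ranges over it. (The published statement is for topological rings;
this row is its discrete case.) -/
theorem result (Λ A B : Type u) [CommRing Λ]
    [CommRing A] [CommRing B] [Algebra Λ A] [Algebra Λ B] [Algebra A B] [IsScalarTower Λ A B] :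
    EGA41.IsFormallySmoothRel Λ A B ↔
      ∀ (L : Type u) [AddCommGroup L] [Module B L] (X : Exal.Ext A B L),
        X.IsTrivialOver Λ → X.IsTrivial := by
  classical
  constructor
  · intro hrel L _ _ X hX
    obtain ⟨sΛ, hsΛ⟩ := hX
    have hsurj : Function.Surjective X.proj := X.isExtension.proj_surjective
    letI algΛ : Algebra Λ X.E := inferInstanceAs (Algebra Λ (X.RestrictCarrier Λ))
    haveI : IsScalarTower Λ A X.E := IsScalarTower.of_algebraMap_eq (fun _ => rfl)
    have hJ : (RingHom.ker X.proj) ^ 2 = ⊥ := by
      rw [eq_bot_iff, pow_two, Ideal.mul_le]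
      intro x hx y hy
      obtain ⟨z, rfl⟩ := (X.isExtension.exact y).mp hy
      rw [X.isExtension.mul_incl]
      have hx0 : X.proj x = 0 := hx
      rw [hx0, zero_smul, map_zero]
      exact Ideal.zero_mem _
    let eq := Ideal.quotientKerAlgEquivOfSurjective hsurj
    let u₀ : B →ₐ[A] X.E ⧸ RingHom.ker X.proj := eq.symm.toAlgHom
    let u : B →ₐ[Λ] X.E := sΛ
    have hu : ∀ b, X.proj (u b) = b := fun b => hsΛ b
    obtain ⟨v, hv⟩ := hrel X.E (RingHom.ker X.proj) hJ u₀ ⟨u, by
      ext b
      show Ideal.Quotient.mk _ (u b) = eq.symm b
      rw [eq_comm, AlgEquiv.symm_apply_eq]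
      show b = X.proj (u b)
      rw [hu]⟩
    refine ⟨v, fun b => ?_⟩
    have h1 : Ideal.Quotient.mk (RingHom.ker X.proj) (v b) = eq.symm b := AlgHom.congr_fun hv b
    have h2 : eq (Ideal.Quotient.mk (RingHom.ker X.proj) (v b)) = X.proj (v b) := rfl
    rw [← h2, h1, AlgEquiv.apply_symm_apply]
  · intro h C _ _ _ _ I hI g hex
    obtain ⟨u, hu⟩ := hex
    have hug : ∀ b, g b = Ideal.Quotient.mk I (u b) := fun b => (AlgHom.congr_fun hu b).symm
    -- the module structure on I over C ⧸ I, then over B through g
    have hT : Module.IsTorsionBySet C (↥I) (I : Set C) := by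
      intro x a
      apply Subtype.ext
      have : (a : C) * (x : C) ∈ I ^ 2 := by
        rw [pow_two]; exact Ideal.mul_mem_mul a.2 x.2
      rw [hI] at this
      simpa using this
    letI modQ : Module (C ⧸ I) (↥I) := hT.module
    letI modB : Module B (↥I) := Module.compHom (↥I) (g : B →+* C ⧸ I)
    have hsmul : ∀ (b : B) (c : C) (z : ↥I), g b = Ideal.Quotient.mk I c →
        ((b • z : ↥I) : C) = c * (z : C) := by
      intro b c z hbc
      show (((g b) • z : ↥I) : C) = c * (z : C)
      rw [hbc]
      rfl
    -- the fibre product
    let E : Subalgebra A (B × C) :=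
      AlgHom.equalizer (g.comp (AlgHom.fst A B C)) ((Ideal.Quotient.mkₐ A I).comp (AlgHom.snd A B C))
    have hE : ∀ x : B × C, x ∈ E ↔ g x.1 = Ideal.Quotient.mk I x.2 := fun x => Iff.rfl
    let X : Exal.Ext A B (↥I) :=
      { E := E
        proj := (AlgHom.fst A B C).comp E.val
        incl :=
          { toFun := fun z => ⟨(0, (z : C)), by
              rw [hE]
              show g 0 = Ideal.Quotient.mk I (z : C)
              rw [map_zero, eq_comm, Ideal.Quotient.eq_zero_iff_mem]
              exact z.2⟩
            map_zero' := by
              apply Subtype.ext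
              rfl
            map_add' := fun z z' => by
              apply Subtype.ext
              apply Prod.ext
              · show (0 : B) = 0 + 0
                rw [add_zero]
              · rfl }
        isExtension :=
          { proj_surjective := fun b => by
              obtain ⟨c, hc⟩ := Ideal.Quotient.mk_surjective (g b)
              exact ⟨⟨(b, c), (hE _).mpr hc.symm⟩, rfl⟩
            incl_injective := fun z z' hzz => by
              have := congrArg (fun e : E => (e : B × C).2) hzz
              exact Subtype.ext this
            exact := fun x => by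
              obtain ⟨⟨b, c⟩, hx⟩ := x
              have hx' : g b = Ideal.Quotient.mk I c := (hE _).mp hx
              constructor
              · intro hb
                have hb0 : b = 0 := hb
                subst hb0
                rw [map_zero, eq_comm, Ideal.Quotient.eq_zero_iff_mem] at hx'
                exact ⟨⟨c, hx'⟩, rfl⟩
              · rintro ⟨z, hz⟩
                have := congrArg (fun e : E => (e : B × C).1) hz
                exact this.symm
            mul_incl := fun x z => by
              obtain ⟨⟨b, c⟩, hx⟩ := x
              have hx' : g b = Ideal.Quotient.mk I c := (hE _).mp hx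
              apply Subtype.ext
              apply Prod.ext
              · show b * 0 = 0
                rw [mul_zero]
              · show c * (z : C) = ((b • z : ↥I) : C)
                rw [hsmul b c z hx'] } }
    -- X is Λ-trivial through u
    have hXΛ : X.IsTrivialOver Λ := by
      let s₀ : B →+* E :=
        RingHom.codRestrict (RingHom.prod (RingHom.id B) (u : B →+* C)) E (fun b => by
          rw [hE]
          exact hug b)
      refine ⟨{ toRingHom := (s₀ : B →+* X.RestrictCarrier Λ), commutes' := ?_ }, fun b => rfl⟩
      intro l
      apply Subtype.ext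
      apply Prod.ext
      · show algebraMap Λ B l = algebraMap A B (algebraMap Λ A l)
        rw [← IsScalarTower.algebraMap_apply]
      · show u (algebraMap Λ B l) = algebraMap A C (algebraMap Λ A l)
        rw [AlgHom.commutes, ← IsScalarTower.algebraMap_apply]
    obtain ⟨s, hs⟩ := h (↥I) X hXΛ
    refine ⟨(AlgHom.snd A B C).comp (E.val.comp s), ?_⟩
    ext b
    have h1 : g ((s b : E) : B × C).1 = Ideal.Quotient.mk I ((s b : E) : B × C).2 :=
      (hE _).mp (s b).2
    have h2 : ((s b : E) : B × C).1 = b := hs b
    rw [h2] at h1
    exact h1.symm

end Groth.Agent.S5816
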