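import Groth.Statements.S5817
import Groth.Statements.S5817
import Mathlib
attribute [local instance] Exal.opModule Exal.isCentralScalar_opModule

set_option autoImplicit false
universe u v
open EGA41

namespace Groth.Agent.S5817

/-- Commutative rings, exactness at Der_A(B, L). For ring maps A → B → C and a C-module L, the
B-extension of C by L attached to an A-derivation D : B → L (middle ring C ⊕ L, made a B-algebra
through x ↦ (x, D x)) is trivial if and only if D is the composite of B → C with an A-derivation C →
L. -/
theorem result {A : Type u} {B C L : Type v} [CommRing A] [CommRing B] [CommRing C]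
    [Algebra A B] [Algebra B C] [Algebra A C] [IsScalarTower A B C]
    [AddCommGroup L] [Module C L] [Module B L] [IsScalarTower B C L] [Module A L] [IsScalarTower A B L]
    [IsScalarTower A C L]
    (D : Derivation A B L) :
    (Exal.Ext.ofDerivation (C := C) D).IsTrivial ↔
      ∃ D' : Derivation A C L, D'.compAlgebraMap B = D := by
  classical
  constructor
  · rintro ⟨s, hs⟩
    -- s : C →ₐ[B] DerCarrier D, with fst (s c) = c
    have hfst : ∀ c : C, TrivSqZeroExt.fst (show TrivSqZeroExt C L from s c) = c := fun c => hs c
    have hcomm : ∀ b : B, (show TrivSqZeroExt C L from s (algebraMap B C b)) =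
        TrivSqZeroExt.inl (algebraMap B C b) + TrivSqZeroExt.inr (D b) := fun b => s.commutes b
    have hmul : ∀ c c' : C, (show TrivSqZeroExt C L from s (c * c')) =
        (show TrivSqZeroExt C L from s c) * (show TrivSqZeroExt C L from s c') :=
      fun c c' => map_mul s c c'
    have hadd : ∀ c c' : C, (show TrivSqZeroExt C L from s (c + c')) =
        (show TrivSqZeroExt C L from s c) + (show TrivSqZeroExt C L from s c') :=
      fun c c' => map_add s c c'
    have hone : (show TrivSqZeroExt C L from s 1) = 1 := map_one s
    let d : C → L := fun c => TrivSqZeroExt.snd (show TrivSqZeroExt C L from s c)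
    have hd_add : ∀ c c', d (c + c') = d c + d c' := by
      intro c c'
      show TrivSqZeroExt.snd _ = _
      rw [hadd, TrivSqZeroExt.snd_add]
    have hd_mul : ∀ c c', d (c * c') = c • d c' + c' • d c := by
      intro c c'
      show TrivSqZeroExt.snd _ = _
      rw [hmul, TrivSqZeroExt.snd_mul, hfst, hfst]
      rfl
    have hd_alg : ∀ b : B, d (algebraMap B C b) = D b := by
      intro b
      show TrivSqZeroExt.snd _ = _
      rw [hcomm]
      simp
    have hd_smul : ∀ (a : A) (c : C), d (a • c) = a • d c := by
      intro a c
      have h1 : a • c = algebraMap B C (algebraMap A B a) * c := by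
        rw [← IsScalarTower.algebraMap_apply, Algebra.smul_def]
      rw [h1, hd_mul, hd_alg, Derivation.map_algebraMap, smul_zero, add_zero,
        ← IsScalarTower.algebraMap_apply, algebraMap_smul]
    let D' : Derivation A C L :=
      { toFun := d
        map_add' := hd_add
        map_smul' := hd_smul
        map_one_eq_zero' := by
          show d 1 = 0
          show TrivSqZeroExt.snd _ = _
          rw [hone]; rfl
        leibniz' := fun c c' => by
          show d (c * c') = _
          rw [hd_mul]
          rfl }
    refine ⟨D', ?_⟩
    ext b
    exact hd_alg b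
  · rintro ⟨D', rfl⟩
    let s₀ : C →+* TrivSqZeroExt C L := Exal.Ext.derivationHom (C := C) D'
    refine ⟨{ toRingHom := s₀, commutes' := ?_ }, ?_⟩
    · intro b
      rfl
    · intro c
      show TrivSqZeroExt.fst (TrivSqZeroExt.inl (algebraMap C C c) + TrivSqZeroExt.inr (D' c)) = c
      simp

end Groth.Agent.S5817
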