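import Groth.Statements.S5818
import Groth.Statements.S5818
import Mathlib
attribute [local instance] Exal.opModule Exal.isCentralScalar_opModule

set_option autoImplicit false
universe u v
open EGA41

namespace Groth.Agent.S5818

/-- Commutative rings, exactness at Exalcom_B(C, L) on underlying pointed sets. For ring maps A → B → C
and a C-module L, a B-extension of C by L is A-trivial if and only if it is equivalent to the
extension attached to some A-derivation B → L. -/
theorem result {A : Type u} {B C L : Type v} [CommRing A] [CommRing B] [CommRing C]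
    [Algebra A B] [Algebra B C] [Algebra A C] [IsScalarTower A B C]
    [AddCommGroup L] [Module C L] [Module B L] [IsScalarTower B C L] [Module A L] [IsScalarTower A B L]
    [IsScalarTower A C L]
    (X : Exal.Ext B C L) :
    X.IsTrivialOver A ↔
      ∃ D : Derivation A B L, Nonempty (X.Equiv (Exal.Ext.ofDerivation (C := C) D)) := by
  classical
  constructor
  · rintro ⟨s, hs⟩
    let s' : C →+* X.E :=
      { toFun := fun c => s c
        map_one' := map_one s
        map_mul' := map_mul s
        map_zero' := map_zero s
        map_add' := map_add s }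
    have hps : ∀ c, X.proj (s' c) = c := fun c => hs c
    have hscomm : ∀ a : A, s' (algebraMap A C a) = algebraMap B X.E (algebraMap A B a) :=
      fun a => s.commutes a
    have hpi : ∀ z : L, X.proj (X.incl z) = 0 := fun z => (X.isExtension.exact _).mpr ⟨z, rfl⟩
    have hii : ∀ z z' : L, X.incl z * X.incl z' = 0 := by
      intro z z'
      rw [X.isExtension.mul_incl, hpi, zero_smul, map_zero]
    have hsi : ∀ (c : C) (z : L), s' c * X.incl z = X.incl (c • z) := by
      intro c z
      rw [X.isExtension.mul_incl, hps]
    let ψ : TrivSqZeroExt C L →+* X.E :=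
      { toFun := fun t => s' t.fst + X.incl t.snd
        map_one' := by
          rw [TrivSqZeroExt.fst_one, TrivSqZeroExt.snd_one, map_one, map_zero, add_zero]
        map_zero' := by
          rw [TrivSqZeroExt.fst_zero, TrivSqZeroExt.snd_zero, map_zero, map_zero, add_zero]
        map_add' := fun t t' => by
          rw [TrivSqZeroExt.fst_add, TrivSqZeroExt.snd_add, map_add, map_add]
          abel
        map_mul' := fun t t' => by
          rw [TrivSqZeroExt.fst_mul, TrivSqZeroExt.snd_mul, map_mul, map_add]
          have h1 : (MulOpposite.op t'.fst) • t.snd = t'.fst • t.snd := rfl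
          rw [h1, ← hsi, ← hsi]
          have h2 := hii t.snd t'.snd
          calc s' t.fst * s' t'.fst + (s' t.fst * X.incl t'.snd + s' t'.fst * X.incl t.snd)
              = s' t.fst * s' t'.fst + (s' t.fst * X.incl t'.snd + s' t'.fst * X.incl t.snd)
                + X.incl t.snd * X.incl t'.snd := by rw [h2, add_zero]
            _ = _ := by ring }
    have hψ : ∀ t, ψ t = s' t.fst + X.incl t.snd := fun t => rfl
    have hpψ : ∀ t, X.proj (ψ t) = t.fst := by
      intro t
      rw [hψ, map_add, hps, hpi, add_zero]
    have hψinj : Function.Injective ψ := by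
      rw [injective_iff_map_eq_zero]
      intro t ht
      have h1 : t.fst = 0 := by rw [← hpψ t, ht, map_zero]
      have h2 : X.incl t.snd = 0 := by
        rw [hψ, h1, map_zero, zero_add] at ht
        exact ht
      have h3 : t.snd = 0 := by
        apply X.isExtension.incl_injective
        rw [h2, map_zero]
      exact TrivSqZeroExt.ext h1 h3
    have hψsurj : Function.Surjective ψ := by
      intro x
      have h0 : X.proj (x - s' (X.proj x)) = 0 := by
        rw [map_sub, hps, sub_self]
      obtain ⟨z, hz⟩ := (X.isExtension.exact _).mp h0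
      refine ⟨TrivSqZeroExt.inl (X.proj x) + TrivSqZeroExt.inr z, ?_⟩
      rw [hψ, TrivSqZeroExt.fst_add, TrivSqZeroExt.snd_add, TrivSqZeroExt.fst_inl,
        TrivSqZeroExt.fst_inr, TrivSqZeroExt.snd_inl, TrivSqZeroExt.snd_inr, add_zero, zero_add, hz]
      abel
    let e : TrivSqZeroExt C L ≃+* X.E := RingEquiv.ofBijective ψ ⟨hψinj, hψsurj⟩
    have he : ∀ t, e t = ψ t := fun t => rfl
    have hfst : ∀ x : X.E, (e.symm x).fst = X.proj x := by
      intro x
      rw [← hpψ (e.symm x), ← he, RingEquiv.apply_symm_apply]
    let θ : B →+* TrivSqZeroExt C L := (e.symm : X.E →+* TrivSqZeroExt C L).comp (algebraMap B X.E)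
    have hθ : ∀ b, θ b = e.symm (algebraMap B X.E b) := fun b => rfl
    have hθfst : ∀ b, (θ b).fst = algebraMap B C b := by
      intro b
      rw [hθ, hfst, AlgHom.commutes]
    have hθalg : ∀ a : A, θ (algebraMap A B a) = TrivSqZeroExt.inl (algebraMap A C a) := by
      intro a
      rw [hθ, RingEquiv.symm_apply_eq, he, hψ, TrivSqZeroExt.fst_inl, TrivSqZeroExt.snd_inl,
        map_zero, add_zero, hscomm]
    have hDmul : ∀ b b' : B, (θ (b * b')).snd = b • (θ b').snd + b' • (θ b).snd := by
      intro b b'
      rw [map_mul, TrivSqZeroExt.snd_mul, hθfst, hθfst]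
      have h1 : (MulOpposite.op (algebraMap B C b')) • (θ b).snd = (algebraMap B C b') • (θ b).snd :=
        rfl
      rw [h1, algebraMap_smul, algebraMap_smul]
    let Dl : B →ₗ[A] L :=
      { toFun := fun b => (θ b).snd
        map_add' := fun b b' => by rw [map_add, TrivSqZeroExt.snd_add]
        map_smul' := fun a b => by
          rw [Algebra.smul_def, hDmul, hθalg, TrivSqZeroExt.snd_inl, smul_zero, add_zero,
            RingHom.id_apply, ← IsScalarTower.algebraMap_smul B a (θ b).snd] }
    let D : Derivation A B L := Derivation.mk' Dl (fun b b' => hDmul b b')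
    have hD : ∀ b, D b = (θ b).snd := fun b => rfl
    refine ⟨D, ⟨?_⟩⟩
    let e' : X.E ≃+* (Exal.Ext.ofDerivation (C := C) D).E := e.symm
    have hcomm : ∀ b : B, e' (algebraMap B X.E b) =
        algebraMap B (Exal.Ext.ofDerivation (C := C) D).E b := by
      intro b
      show θ b = TrivSqZeroExt.inl (algebraMap B C b) + TrivSqZeroExt.inr (D b)
      rw [hD, ← hθfst, TrivSqZeroExt.inl_fst_add_inr_snd_eq]
    exact
      { toAlgEquiv := AlgEquiv.ofRingEquiv (f := e') hcomm
        proj_apply := by
          intro x
          exact hfst x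
        apply_incl := by
          intro z
          show e.symm (X.incl z) = TrivSqZeroExt.inr z
          rw [RingEquiv.symm_apply_eq, he, hψ, TrivSqZeroExt.fst_inr, TrivSqZeroExt.snd_inr,
            map_zero, zero_add] }
  · rintro ⟨D, ⟨eq⟩⟩
    let es : (Exal.Ext.ofDerivation (C := C) D).E →+* X.E := eq.toAlgEquiv.symm
    let s₀ : C →+* X.RestrictCarrier A :=
      es.comp (TrivSqZeroExt.inlHom C L : C →+* TrivSqZeroExt C L)
    have hs₀ : ∀ c, s₀ c = eq.toAlgEquiv.symm (TrivSqZeroExt.inl c : TrivSqZeroExt C L) :=
      fun c => rfl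
    refine ⟨{ toRingHom := s₀, commutes' := ?_ }, ?_⟩
    · intro a
      show s₀ (algebraMap A C a) = algebraMap B X.E (algebraMap A B a)
      have hx : eq.toAlgEquiv (algebraMap B X.E (algebraMap A B a)) =
          (TrivSqZeroExt.inl (algebraMap A C a) : TrivSqZeroExt C L) := by
        rw [AlgEquiv.commutes]
        show TrivSqZeroExt.inl (algebraMap B C (algebraMap A B a)) +
          TrivSqZeroExt.inr (D (algebraMap A B a)) =
          (TrivSqZeroExt.inl (algebraMap A C a) : TrivSqZeroExt C L)
        rw [Derivation.map_algebraMap, TrivSqZeroExt.inr_zero, add_zero,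
          ← IsScalarTower.algebraMap_apply]
      show eq.toAlgEquiv.symm (TrivSqZeroExt.inl (algebraMap A C a) : TrivSqZeroExt C L) = _
      rw [← hx]
      exact AlgEquiv.symm_apply_apply _ _
    · intro c
      show X.proj (eq.toAlgEquiv.symm (TrivSqZeroExt.inl c : TrivSqZeroExt C L)) = c
      have h1 := eq.proj_apply (eq.toAlgEquiv.symm (TrivSqZeroExt.inl c : TrivSqZeroExt C L))
      rw [← h1, AlgEquiv.apply_symm_apply]
      rfl

end Groth.Agent.S5818
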