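import Groth.Statements.S3441
import Groth.Statements.S3441
import Groth.Agent.S5816
import Groth.Agent.S5817
import Groth.Agent.S5818
open scoped TensorProduct

set_option autoImplicit false
universe u
open EGA41

namespace Groth.Agent.S3441

open TensorProduct in
/-- Let A → B → C be ring homomorphisms. The canonical C-linear map Ω_{B/A} ⊗_B C → Ω_{C/A} is left
invertible (has a C-linear left inverse) if and only if C is a formally smooth B-algebra relative to
A for the discrete topologies: every B-algebra homomorphism from C to a quotient C'/J of a B-algebra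
C' by an ideal J of square zero that lifts to C' as an A-algebra homomorphism also lifts to C' as a
B-algebra homomorphism. (The published definition of relative formal smoothness tests every
nilpotent ideal J; its reduction to ideals of square zero does not carry over to the relative
setting, and the square-zero form, which is what the published proof of this statement uses, is the
one taken here.) -/
theorem result (A B C : Type u) [CommRing A] [CommRing B]
    [CommRing C] [Algebra A B] [Algebra B C] [Algebra A C] [IsScalarTower A B C] :
    (∃ l : Ω[C⁄A] →ₗ[C] C ⊗[B] Ω[B⁄A], l ∘ₗ KaehlerDifferential.mapBaseChange A B C = LinearMap.id) ↔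
      EGA41.IsFormallySmoothRel A B C := by
  classical
  rw [Groth.Agent.S5816.result A B C]
  constructor
  · rintro ⟨l, hl⟩ L _ _ X hX
    letI modB : Module B L := Module.compHom L (algebraMap B C)
    haveI : IsScalarTower B C L := ⟨fun b c z => by
      show (b • c) • z = (algebraMap B C b) • (c • z)
      rw [Algebra.smul_def, mul_smul]⟩
    letI modA : Module A L := Module.compHom L (algebraMap A C)
    haveI : IsScalarTower A C L := ⟨fun a c z => by
      show (a • c) • z = (algebraMap A C a) • (c • z)
      rw [Algebra.smul_def, mul_smul]⟩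
    haveI : IsScalarTower A B L := ⟨fun a b z => by
      show (algebraMap B C (a • b)) • z = (algebraMap A C a) • ((algebraMap B C b) • z)
      rw [Algebra.smul_def, map_mul, ← IsScalarTower.algebraMap_apply, mul_smul]⟩
    obtain ⟨D, ⟨e⟩⟩ := (Groth.Agent.S5818.result X).mp hX
    -- extend D
    let δ : Ω[B⁄A] →ₗ[B] L := D.liftKaehlerDifferential
    let δC : C ⊗[B] Ω[B⁄A] →ₗ[C] L := δ.liftBaseChange C
    let D' : Derivation A C L := (δC ∘ₗ l).compDer (KaehlerDifferential.D A C)
    have hD' : D'.compAlgebraMap B = D := by
      ext b
      show δC (l (KaehlerDifferential.D A C (algebraMap B C b))) = D b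
      have h1 : KaehlerDifferential.D A C (algebraMap B C b) =
          KaehlerDifferential.mapBaseChange A B C ((1 : C) ⊗ₜ[B] KaehlerDifferential.D A B b) := by
        rw [KaehlerDifferential.mapBaseChange_tmul, one_smul, KaehlerDifferential.map_D]
      rw [h1]
      have h2 := LinearMap.congr_fun hl ((1 : C) ⊗ₜ[B] KaehlerDifferential.D A B b)
      simp only [LinearMap.coe_comp, Function.comp_apply, LinearMap.id_coe, id_eq] at h2
      rw [h2, LinearMap.liftBaseChange_tmul, one_smul, Derivation.liftKaehlerDifferential_comp_D]
    obtain ⟨s, hs⟩ := (Groth.Agent.S5817.result D).mpr ⟨D', hD'⟩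
    refine ⟨(e.toAlgEquiv.symm : (Exal.Ext.ofDerivation (C := C) D).E →ₐ[B] X.E).comp s, fun c => ?_⟩
    show X.proj (e.toAlgEquiv.symm (s c)) = c
    rw [← e.proj_apply, AlgEquiv.apply_symm_apply]
    exact hs c
  · intro h
    let D : Derivation A B (C ⊗[B] Ω[B⁄A]) :=
      (TensorProduct.mk B C Ω[B⁄A] 1).compDer (KaehlerDifferential.D A B)
    have hDapp : ∀ b, D b = (1 : C) ⊗ₜ[B] KaehlerDifferential.D A B b := fun b => rfl
    have hX : (Exal.Ext.ofDerivation (C := C) D).IsTrivialOver A :=
      (Groth.Agent.S5818.result _).mpr ⟨D, ⟨Exal.Ext.Equiv.refl _⟩⟩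
    have htriv := h _ _ hX
    obtain ⟨D', hD'⟩ := (Groth.Agent.S5817.result D).mp htriv
    refine ⟨D'.liftKaehlerDifferential, ?_⟩
    apply (LinearMap.liftBaseChangeEquiv C).symm.injective
    apply Derivation.liftKaehlerDifferential_unique
    ext b
    show D'.liftKaehlerDifferential (KaehlerDifferential.mapBaseChange A B C
      ((1 : C) ⊗ₜ[B] KaehlerDifferential.D A B b)) = (1 : C) ⊗ₜ[B] KaehlerDifferential.D A B b
    rw [KaehlerDifferential.mapBaseChange_tmul, one_smul, KaehlerDifferential.map_D,
      Derivation.liftKaehlerDifferential_comp_D, ← hDapp]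
    exact Derivation.congr_fun hD' b

end Groth.Agent.S3441
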