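import Groth.Statements.S3548
import Mathlib

set_option autoImplicit false
universe u
open CategoryTheory CategoryTheory.Limits AlgebraicGeometry
open EGA2

namespace Groth.Agent.S3548

/-- Let S be a graded ring, M a graded S-module and X = Proj S. If for every z in M and every
homogeneous f of positive degree some power of f annihilates z, then the O_X-module M~ is zero. -/
theorem result {R A : Type u} [CommRing R] [CommRing A] [Algebra R A] (𝒜 : ℕ → Submodule R A) [GradedAlgebra 𝒜]
    {M : Type u} [AddCommGroup M] [Module R M] [Module A M] [IsScalarTower R A M] (ℳ : ℕ → Submodule R M) [DirectSum.Decomposition ℳ] [SetLike.GradedSMul 𝒜 ℳ]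
    (h : ∀ (z : M) (d : ℕ) (f : A), 0 < d → f ∈ 𝒜 d → ∃ k : ℕ, f ^ k • z = 0) :
    IsZero (GrTilde.tilde 𝒜 ℳ 0) := by
  classical
  have key : ∀ (y : ProjectiveSpectrum 𝒜) (q : GrTilde.LocMod 𝒜 (M := M) y), q = 0 := by
    intro y q
    have hs : ∃ (i : ℕ) (s : A), 0 < i ∧ s ∈ 𝒜 i ∧ s ∉ y.asHomogeneousIdeal := by
      by_contra hno
      push Not at hno
      apply y.not_irrelevant_le
      rw [← toIdeal_le_toIdeal_iff, HomogeneousIdeal.irrelevant_eq_span, Ideal.span_le]
      intro s hs
      simp only [Set.mem_iUnion] at hs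
      obtain ⟨i, hi, hsi⟩ := hs
      exact hno i s hi hsi
    obtain ⟨i, f, hi, hfi, hfy⟩ := hs
    induction q using LocalizedModule.induction_on with
    | h m s =>
      obtain ⟨k, hk⟩ := h m i f hi hfi
      have hfk : f ^ k ∈ y.asHomogeneousIdeal.toIdeal.primeCompl := by
        intro hmem
        exact hfy (y.isPrime.mem_of_pow_mem k hmem)
      rw [← LocalizedModule.zero_mk s, LocalizedModule.mk_eq]
      refine ⟨⟨f ^ k, hfk⟩, ?_⟩
      rw [smul_zero, smul_zero, smul_comm]
      show s • (f ^ k • m) = 0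
      rw [hk, smul_zero]
  rw [Limits.IsZero.iff_id_eq_zero]
  ext U x
  have hx' : ∀ (x' : GrTilde.sect 𝒜 ℳ 0 (Opposite.op U)), x' = 0 := by
    intro x'
    apply Subtype.ext
    funext y
    apply Subtype.ext
    exact key y.1 _
  have hx : x = 0 := hx' x
  rw [hx, map_zero, map_zero]

end Groth.Agent.S3548
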