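import Groth.Statements.S3587
import Mathlib

set_option autoImplicit false
universe u
open CategoryTheory AlgebraicGeometry Opposite TopologicalSpace
open EGA2

namespace Groth.Agent.S3587

/-- Let S be a graded ring, M a graded S-module, f a homogeneous element of degree d > 0 and m a
homogeneous element of M. If the fraction m/f^k vanishes in the localized module M_x for every point
x of D_+(f), then f^N m = 0 for some N (so m/f^k = 0 in M_(f)); this is the injectivity half of the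
identification of the sections of M~ over D_+(f) with M_(f). -/
theorem result {R A : Type u} [CommRing R] [CommRing A] [Algebra R A] (𝒜 : ℕ → Submodule R A) [GradedAlgebra 𝒜]
    {M : Type u} [AddCommGroup M] [Module R M] [Module A M] [IsScalarTower R A M] (ℳ : ℕ → Submodule R M) [DirectSum.Decomposition ℳ] [SetLike.GradedSMul 𝒜 ℳ] {d : ℕ} (hd : 0 < d) {f : A} (hf : f ∈ 𝒜 d) (k i : ℕ) (m : ℳ i)
    (h : ∀ x : ProjectiveSpectrum.basicOpen 𝒜 f,
      (LocalizedModule.mk m.1 ⟨f ^ k, fun h => (ProjectiveSpectrum.mem_basicOpen 𝒜 f x.1).mp x.2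
        (x.1.isPrime.mem_of_pow_mem k h)⟩ : GrTilde.LocMod 𝒜 (M := M) x.1) = 0) :
    ∃ N : ℕ, f ^ N • m.1 = 0 := by
  classical
  obtain ⟨I, hIdef⟩ : ∃ I : Ideal A, I = LinearMap.ker (LinearMap.toSpanSingleton A M m.1) :=
    ⟨_, rfl⟩
  have hImem : ∀ a : A, a ∈ I ↔ a • m.1 = 0 := by
    intro a
    rw [hIdef, LinearMap.mem_ker, LinearMap.toSpanSingleton_apply]
  have hIhom : Ideal.IsHomogeneous 𝒜 I := by
    intro j₀ a ha
    rw [hImem] at ha ⊢
    have hmemj : ∀ j : ℕ, (DirectSum.decompose 𝒜 a j : A) • m.1 ∈ ℳ (j + i) := fun j =>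
      SetLike.GradedSMul.smul_mem (DirectSum.decompose 𝒜 a j).2 m.2
    have hsum : a • m.1 = ∑ j ∈ (DirectSum.decompose 𝒜 a).support,
        (DirectSum.decompose 𝒜 a j : A) • m.1 := by
      calc a • m.1 = (∑ j ∈ (DirectSum.decompose 𝒜 a).support,
            (DirectSum.decompose 𝒜 a j : A)) • m.1 := by
              rw [DirectSum.sum_support_decompose 𝒜 a]
        _ = _ := Finset.sum_smul
    have h0 : (DirectSum.decompose ℳ (a • m.1) (j₀ + i) : M) = 0 := by
      rw [ha]; simp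
    rw [hsum, DirectSum.decompose_sum, DFinsupp.finset_sum_apply,
      AddSubmonoidClass.coe_finset_sum] at h0
    rw [Finset.sum_eq_single j₀] at h0
    · rwa [DirectSum.decompose_of_mem_same ℳ (hmemj j₀)] at h0
    · intro j _ hj
      exact DirectSum.decompose_of_mem_ne ℳ (hmemj j) (by omega)
    · intro hj
      have hz : DirectSum.decompose 𝒜 a j₀ = 0 := by simpa using hj
      rw [hz]
      simp
  by_contra hcon
  push Not at hcon
  have hfrad : f ∉ I.radical := by
    intro hf'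
    obtain ⟨N, hN⟩ := Ideal.mem_radical_iff.mp hf'
    exact hcon N ((hImem _).mp hN)
  rw [Ideal.radical_eq_sInf, Ideal.mem_sInf] at hfrad
  push Not at hfrad
  obtain ⟨q, ⟨hIq, hq⟩, hfq⟩ := hfrad
  have hcore_le : (q.homogeneousCore 𝒜).toIdeal ≤ q := Ideal.toIdeal_homogeneousCore_le 𝒜 q
  have hIcore : I ≤ (q.homogeneousCore 𝒜).toIdeal := by
    rw [← hIhom.toIdeal_homogeneousCore_eq_self]
    exact Ideal.homogeneousCore_mono 𝒜 hIq
  have hy3 : ¬ HomogeneousIdeal.irrelevant 𝒜 ≤ q.homogeneousCore 𝒜 := by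
    intro hle
    exact hfq (hcore_le (hle (HomogeneousIdeal.mem_irrelevant_of_mem 𝒜 hd hf)))
  obtain ⟨x, hx⟩ : ∃ x : ProjectiveSpectrum 𝒜,
    x = ⟨q.homogeneousCore 𝒜, hq.homogeneousCore, hy3⟩ := ⟨_, rfl⟩
  have hfx : f ∉ x.asHomogeneousIdeal := by
    rw [hx]; exact fun h => hfq (hcore_le h)
  have hxI : I ≤ x.asHomogeneousIdeal.toIdeal := by
    rw [hx]; exact hIcore
  have hxmem : x ∈ ProjectiveSpectrum.basicOpen 𝒜 f :=
    (ProjectiveSpectrum.mem_basicOpen 𝒜 f x).mpr hfx
  have h1 := h ⟨x, hxmem⟩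
  have h2 := h1.trans
    (LocalizedModule.zero_mk (M := M) (1 : x.asHomogeneousIdeal.toIdeal.primeCompl)).symm
  obtain ⟨u, hu⟩ := LocalizedModule.mk_eq.mp h2
  simp only [one_smul, smul_zero] at hu
  rw [Submonoid.smul_def] at hu
  have huI : (u : A) ∈ I := (hImem _).mpr hu
  have hux : (u : A) ∈ x.asHomogeneousIdeal.toIdeal := hxI huI
  exact (Ideal.mem_primeCompl_iff.mp u.2) hux

end Groth.Agent.S3587
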