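import Groth.Statements.S3549
import Mathlib
import Groth.Agent.S3587

set_option autoImplicit false
universe u
open CategoryTheory CategoryTheory.Limits AlgebraicGeometry
open EGA2

namespace Groth.Agent.S3549

/-- Let S be a graded ring whose irrelevant ideal S_+ is generated by the degree-one elements, M a
graded S-module and X = Proj S. If the O_X-module M~ is zero, then for every z in M and every
homogeneous f of positive degree some power of f annihilates z. -/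
theorem result {R A : Type u} [CommRing R] [CommRing A] [Algebra R A] (𝒜 : ℕ → Submodule R A) [GradedAlgebra 𝒜]
    (hgen : (HomogeneousIdeal.irrelevant 𝒜).toIdeal = Ideal.span (𝒜 1 : Set A))
    {M : Type u} [AddCommGroup M] [Module R M] [Module A M] [IsScalarTower R A M] (ℳ : ℕ → Submodule R M) [DirectSum.Decomposition ℳ] [SetLike.GradedSMul 𝒜 ℳ]
    (h : IsZero (GrTilde.tilde 𝒜 ℳ 0)) (z : M) (d : ℕ) (f : A) (hd : 0 < d) (hf : f ∈ 𝒜 d) :
    ∃ k : ℕ, f ^ k • z = 0 := by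
  classical
  have hsec : ∀ (U : (Proj 𝒜).Opens) (x : GrTilde.sect 𝒜 ℳ 0 (Opposite.op U)), x = 0 := by
    intro U x
    have h1 : 𝟙 (GrTilde.tilde 𝒜 ℳ 0) = 0 := (Limits.IsZero.iff_id_eq_zero _).mp h
    have h2 : (AddCommGrpCat.Hom.hom (Scheme.Modules.Hom.app (𝟙 (GrTilde.tilde 𝒜 ℳ 0)) U)) x =
        (AddCommGrpCat.Hom.hom (Scheme.Modules.Hom.app
          (0 : GrTilde.tilde 𝒜 ℳ 0 ⟶ GrTilde.tilde 𝒜 ℳ 0) U)) x := by
      rw [h1]
    exact h2
  have stepB : ∀ (i : ℕ) (m : ℳ i) (y : ProjectiveSpectrum 𝒜),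
      ∃ u : y.asHomogeneousIdeal.toIdeal.primeCompl, (u : A) • m.1 = 0 := by
    intro i m y
    have hg : ∃ g : A, g ∈ 𝒜 1 ∧ g ∉ y.asHomogeneousIdeal := by
      by_contra hno
      push Not at hno
      apply y.not_irrelevant_le
      rw [← toIdeal_le_toIdeal_iff, hgen, Ideal.span_le]
      intro g hg
      exact hno g hg
    obtain ⟨g, hg1, hgy⟩ := hg
    have hgi : g ^ i ∈ 𝒜 (i • 1) := SetLike.pow_mem_graded i hg1
    have hnot : ∀ x : ProjectiveSpectrum.basicOpen 𝒜 g, g ^ i ∉ x.1.asHomogeneousIdeal :=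
      fun x hmem => (ProjectiveSpectrum.mem_basicOpen 𝒜 g x.1).mp x.2
        (x.1.isPrime.mem_of_pow_mem i hmem)
    obtain ⟨sec, hsecdef⟩ : ∃ sec : GrTilde.sect 𝒜 ℳ 0
        (Opposite.op (ProjectiveSpectrum.basicOpen 𝒜 g)),
        ∀ x : ProjectiveSpectrum.basicOpen 𝒜 g,
          ((sec.1 x).1 : GrTilde.LocMod 𝒜 (M := M) x.1) =
            LocalizedModule.mk m.1 ⟨g ^ i, hnot x⟩ :=
      ⟨⟨fun x => ⟨LocalizedModule.mk m.1 ⟨g ^ i, hnot x⟩,
        Submodule.subset_span ⟨i, i • 1, m, ⟨g ^ i, hgi⟩, hnot x, by simp, rfl⟩⟩,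
       fun x => ⟨ProjectiveSpectrum.basicOpen 𝒜 g, x.2, 𝟙 _, i, i • 1, m, ⟨g ^ i, hgi⟩,
        fun y => hnot y, Or.inl (by simp), fun _ => rfl⟩⟩, fun x => rfl⟩
    have hzero := hsec (ProjectiveSpectrum.basicOpen 𝒜 g) sec
    have hy : y ∈ ProjectiveSpectrum.basicOpen 𝒜 g :=
      (ProjectiveSpectrum.mem_basicOpen 𝒜 g y).mpr hgy
    have h3 := hsecdef ⟨y, hy⟩
    rw [hzero] at h3
    have h4 : (LocalizedModule.mk m.1 ⟨g ^ i, hnot ⟨y, hy⟩⟩ :
        GrTilde.LocMod 𝒜 (M := M) y) = 0 := h3.symm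
    have h5 := h4.trans
      (LocalizedModule.zero_mk (M := M) (1 : y.asHomogeneousIdeal.toIdeal.primeCompl)).symm
    obtain ⟨u, hu⟩ := LocalizedModule.mk_eq.mp h5
    simp only [one_smul, smul_zero] at hu
    rw [Submonoid.smul_def] at hu
    exact ⟨u, hu⟩
  have stepC : ∀ (i : ℕ) (m : ℳ i), ∃ N : ℕ, f ^ N • m.1 = 0 := by
    intro i m
    apply Groth.Agent.S3587.result 𝒜 ℳ hd hf 0 i m
    intro x
    obtain ⟨u, hu⟩ := stepB i m x.1
    rw [← LocalizedModule.zero_mk (1 : x.1.asHomogeneousIdeal.toIdeal.primeCompl),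
      LocalizedModule.mk_eq]
    refine ⟨u, ?_⟩
    rw [smul_zero, smul_zero, one_smul, Submonoid.smul_def, hu]
  choose N hN using fun i => stepC i (DirectSum.decompose ℳ z i)
  obtain ⟨N₀, hN₀⟩ : ∃ N₀, N₀ = ∑ j ∈ (DirectSum.decompose ℳ z).support, N j := ⟨_, rfl⟩
  refine ⟨N₀, ?_⟩
  calc f ^ N₀ • z = f ^ N₀ • ∑ i ∈ (DirectSum.decompose ℳ z).support,
        (DirectSum.decompose ℳ z i : M) := by rw [DirectSum.sum_support_decompose ℳ z]
    _ = 0 := by
      rw [Finset.smul_sum]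
      apply Finset.sum_eq_zero
      intro i hi
      have hle : N i ≤ N₀ := by
        rw [hN₀]
        exact Finset.single_le_sum (fun _ _ => Nat.zero_le _) hi
      obtain ⟨c, hc⟩ := Nat.exists_eq_add_of_le hle
      rw [hc, pow_add, mul_comm, mul_smul, hN i, smul_zero]

end Groth.Agent.S3549
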