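import Groth.Statements.S3553
import Mathlib

set_option autoImplicit false
universe u
open CategoryTheory CategoryTheory.Limits AlgebraicGeometry
open EGA2

namespace Groth.Agent.S3553

/-- In the case where the induced morphism is defined on all of Proj S: let φ : S' → S be a homomorphism
of graded rings such that S_+ is contained in the ideal generated by φ(S'_+), and suppose every
element of the kernel of φ is nilpotent. Then the induced morphism from Proj S to Proj S' has dense
image. -/
theorem result {R A : Type u} [CommRing R] [CommRing A] [Algebra R A] (𝒜 : ℕ → Submodule R A) [GradedAlgebra 𝒜]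
    {B : Type u} [CommRing B] [Algebra R B] (ℬ : ℕ → Submodule R B) [GradedAlgebra ℬ]
    (φ : 𝒜 →+*ᵍ ℬ) (hφ : HomogeneousIdeal.irrelevant ℬ ≤ (HomogeneousIdeal.irrelevant 𝒜).map φ)
    (hker : ∀ a : A, φ a = 0 → IsNilpotent a) :
    DenseRange (Proj.map φ hφ).base := by
  classical
  have key : ∀ a : A, (∃ x : ProjectiveSpectrum 𝒜, a ∉ x.asHomogeneousIdeal) →
      ∃ y : ProjectiveSpectrum ℬ, φ a ∉ y.asHomogeneousIdeal := by
    rintro a ⟨x, hax⟩
    by_contra hcon
    push_neg at hcon
    have hs : ∃ (i : ℕ) (s : A), 0 < i ∧ s ∈ 𝒜 i ∧ s ∉ x.asHomogeneousIdeal := by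
      by_contra hno
      push_neg at hno
      apply x.not_irrelevant_le
      rw [← toIdeal_le_toIdeal_iff, HomogeneousIdeal.irrelevant_eq_span, Ideal.span_le]
      intro s hs
      simp only [Set.mem_iUnion] at hs
      obtain ⟨i, hi, hsi⟩ := hs
      exact hno i s hi hsi
    obtain ⟨i, s, hi, hsi, hsx⟩ := hs
    have hxp : x.asHomogeneousIdeal.toIdeal.IsPrime := x.isPrime
    have hasx : a * s ∉ x.asHomogeneousIdeal.toIdeal := by
      intro h
      rcases hxp.mem_or_mem h with h | h
      · exact hax h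
      · exact hsx h
    have hnil : IsNilpotent (φ (a * s)) := by
      by_contra hnn
      rw [nilpotent_iff_mem_prime] at hnn
      push_neg at hnn
      obtain ⟨q, hq, hqn⟩ := hnn
      have hcore_le : (q.homogeneousCore ℬ).toIdeal ≤ q := Ideal.toIdeal_homogeneousCore_le ℬ q
      have hφs : φ s ∈ ℬ i := φ.2 hsi
      have hmul : φ (a * s) = φ a * φ s := map_mul φ a s
      have hy3 : ¬ HomogeneousIdeal.irrelevant ℬ ≤ q.homogeneousCore ℬ := by
        intro hle
        have h1 : φ s ∈ HomogeneousIdeal.irrelevant ℬ :=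
          HomogeneousIdeal.mem_irrelevant_of_mem ℬ hi hφs
        have h2 : φ s ∈ q := hcore_le (hle h1)
        apply hqn
        rw [hmul]
        exact q.mul_mem_left _ h2
      have h3 := hcon ⟨q.homogeneousCore ℬ, hq.homogeneousCore, hy3⟩
      have h4 : φ a ∈ q := hcore_le h3
      apply hqn
      rw [hmul]
      exact q.mul_mem_right _ h4
    obtain ⟨n, hn⟩ := hnil
    have h5 : φ ((a * s) ^ n) = 0 := by rw [map_pow]; exact hn
    obtain ⟨m, hm⟩ := hker _ h5
    have h6 : IsNilpotent (a * s) := ⟨n * m, by rw [pow_mul]; exact hm⟩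
    exact hasx ((nilpotent_iff_mem_prime.mp h6) _ hxp)
  have hb := ProjectiveSpectrum.isTopologicalBasis_basic_opens 𝒜
  show Dense (Set.range (Proj.map φ hφ).base)
  refine hb.dense_iff.mpr ?_
  rintro _ ⟨a, rfl⟩ ⟨x, hx⟩
  obtain ⟨y, hy⟩ := key a ⟨x, hx⟩
  exact ⟨(Proj.map φ hφ).base y, hy, y, rfl⟩

end Groth.Agent.S3553
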