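import Groth.Statements.S3555
import Mathlib

set_option autoImplicit false
universe u
open CategoryTheory CategoryTheory.Limits AlgebraicGeometry
open EGA2

namespace Groth.Agent.S3555

/-- Let S be a graded ring whose irrelevant ideal S_+ is generated by the degree-one elements, X = Proj
S, and f homogeneous of degree d > 0. Then D_+(f) is the set of points p of X at which the global
section f/1 of O_X(d) does not vanish, i.e. at which its value generates the module of degree-d
fractions at p. -/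
theorem result {R A : Type u} [CommRing R] [CommRing A] [Algebra R A] (𝒜 : ℕ → Submodule R A) [GradedAlgebra 𝒜]
    (hgen : (HomogeneousIdeal.irrelevant 𝒜).toIdeal = Ideal.span (𝒜 1 : Set A))
    {d : ℕ} (hd : 0 < d) (f : 𝒜 d) (p : ProjectiveSpectrum 𝒜) :
    p ∈ ProjectiveSpectrum.basicOpen 𝒜 (f : A) ↔
      Submodule.span (Twist.A0 𝒜 p) {(Twist.globalOf 𝒜 f).1 ⟨p, trivial⟩} = ⊤ := by
  classical
  constructor
  · intro hp
    have hfp : (f : A) ∉ p.asHomogeneousIdeal := (ProjectiveSpectrum.mem_basicOpen 𝒜 _ p).mp hp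
    rw [eq_top_iff]
    rintro ⟨q, hq⟩ -
    induction hq using Submodule.span_induction with
    | mem x hx =>
      obtain ⟨i, j, a, s, hs, hij, rfl⟩ := hx
      have hij' : i = j + d := by exact_mod_cast hij
      subst hij'
      have hsf : s.1 * f.1 ∉ p.asHomogeneousIdeal := fun hmem =>
        (p.isPrime.mem_or_mem hmem).elim hs hfp
      obtain ⟨c, hc⟩ : ∃ c : Twist.A0 𝒜 p, c.val = Localization.mk a.1 ⟨s.1 * f.1, hsf⟩ :=
        ⟨HomogeneousLocalization.mk ⟨j + d, a, ⟨s.1 * f.1, SetLike.mul_mem_graded s.2 f.2⟩, hsf⟩,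
          rfl⟩
      rw [Submodule.mem_span_singleton]
      refine ⟨c, ?_⟩
      apply Subtype.ext
      rw [Twist.coe_smul_val, hc]
      show Localization.mk a.1 ⟨s.1 * f.1, hsf⟩ * Localization.mk f.1 ⟨1, _⟩ =
        Localization.mk a.1 ⟨s.1, hs⟩
      rw [Localization.mk_mul, Localization.mk_eq_mk_iff, Localization.r_iff_exists]
      refine ⟨1, ?_⟩
      simp only [OneMemClass.coe_one, one_mul, Submonoid.coe_mul, mul_one]
      ring
    | zero => exact Submodule.zero_mem _
    | add x y hx hy ihx ihy => exact Submodule.add_mem _ ihx ihy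
    | smul c x hx ih => exact Submodule.smul_mem _ c ih
  · intro htop
    rw [ProjectiveSpectrum.mem_basicOpen]
    intro hfp
    have hg : ∃ g : A, g ∈ 𝒜 1 ∧ g ∉ p.asHomogeneousIdeal := by
      by_contra hno
      push Not at hno
      apply p.not_irrelevant_le
      rw [← toIdeal_le_toIdeal_iff, hgen, Ideal.span_le]
      intro g hg
      exact hno g hg
    obtain ⟨g, hg1, hgp⟩ := hg
    have hgd : g ^ d ∈ 𝒜 (d • 1) := SetLike.pow_mem_graded d hg1
    have h1p : (1 : A) ∉ p.asHomogeneousIdeal := fun h =>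
      p.isPrime.ne_top ((Ideal.eq_top_iff_one _).mpr h)
    obtain ⟨t, ht⟩ : ∃ t : Twist.twistAt 𝒜 (d : ℤ) p,
        t.1 = Localization.mk (g ^ d) ⟨1, h1p⟩ :=
      ⟨⟨Localization.mk (g ^ d) ⟨1, h1p⟩, Submodule.subset_span
        ⟨d • 1, 0, ⟨g ^ d, hgd⟩, ⟨1, SetLike.GradedOne.one_mem⟩, h1p, by simp, rfl⟩⟩, rfl⟩
    have hmem : t ∈ Submodule.span (Twist.A0 𝒜 p) {(Twist.globalOf 𝒜 f).1 ⟨p, trivial⟩} := by
      rw [htop]; trivial
    obtain ⟨c, hc⟩ := Submodule.mem_span_singleton.mp hmem
    have hc' := congrArg Subtype.val hc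
    rw [Twist.coe_smul_val, ht] at hc'
    obtain ⟨a', s', hcs⟩ :=
      IsLocalization.exists_mk'_eq p.asHomogeneousIdeal.toIdeal.primeCompl c.val
    rw [← Localization.mk_eq_mk'] at hcs
    rw [← hcs] at hc'
    change Localization.mk a' s' * Localization.mk f.1 ⟨1, _⟩ = _ at hc'
    rw [Localization.mk_mul, Localization.mk_eq_mk_iff, Localization.r_iff_exists] at hc'
    obtain ⟨u, hu⟩ := hc'
    simp only [OneMemClass.coe_one, one_mul, Submonoid.coe_mul, mul_one] at hu
    have hu' : (u : A) * ((s' : A) * g ^ d) = (u : A) * (a' * f.1) := by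
      linear_combination (-1 : A) * hu
    have hL : (u : A) * ((s' : A) * g ^ d) ∈ p.asHomogeneousIdeal.toIdeal := by
      rw [hu']
      exact Ideal.mul_mem_left _ _ (Ideal.mul_mem_left _ _ hfp)
    rcases p.isPrime.mem_or_mem hL with h | h
    · exact u.2 h
    · rcases p.isPrime.mem_or_mem h with h | h
      · exact s'.2 h
      · exact hgp (p.isPrime.mem_of_pow_mem d h)

end Groth.Agent.S3555
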