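import Groth.Statements.S3556
import Mathlib
import Groth.Agent.Lib.helper5.ProjReduced

set_option autoImplicit false
universe u
open CategoryTheory CategoryTheory.Limits AlgebraicGeometry
open EGA2

namespace Groth.Agent.S3556

/-- Let S be a graded ring which is essentially reduced, i.e. its irrelevant ideal S_+ contains no
nonzero nilpotent element. Then Proj S is a reduced scheme. -/
theorem result {R A : Type u} [CommRing R] [CommRing A] [Algebra R A] (𝒜 : ℕ → Submodule R A) [GradedAlgebra 𝒜]
    (hred : ∀ f ∈ (HomogeneousIdeal.irrelevant 𝒜).toIdeal, IsNilpotent f → f = 0) :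
    AlgebraicGeometry.IsReduced (Proj 𝒜) := by
  haveI : ∀ x : (Proj 𝒜), _root_.IsReduced ((Proj 𝒜).presheaf.stalk x) := by
    intro x
    obtain ⟨f, hfI, hfp⟩ := SetLike.not_le_iff_exists.mp x.not_irrelevant_le
    haveI : _root_.IsReduced
        ↑(CommRingCat.of (HomogeneousLocalization.AtPrime 𝒜 x.asHomogeneousIdeal.toIdeal)) :=
      H5PR.atPrime_reduced 𝒜 (HomogeneousIdeal.irrelevant 𝒜).toIdeal
        x.asHomogeneousIdeal.toIdeal hred f hfI hfp
    exact isReduced_of_injective (Proj.stalkIso 𝒜 x).commRingCatIsoToRingEquiv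
      (RingEquiv.injective _)
  exact AlgebraicGeometry.isReduced_of_isReduced_stalk (Proj 𝒜)

end Groth.Agent.S3556
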