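import Groth.Statements.S3557
import Mathlib
import Groth.Agent.S3556

set_option autoImplicit false
universe u
open CategoryTheory CategoryTheory.Limits AlgebraicGeometry
open EGA2

namespace Groth.Agent.S3557

/-- Let S be a graded ring which is essentially reduced (S_+ contains no nonzero nilpotent). Then Proj S
is an integral scheme if and only if S is essentially integral, i.e. S_+ is nonzero and the product
of two nonzero elements of S_+ is nonzero. -/
theorem result {R A : Type u} [CommRing R] [CommRing A] [Algebra R A] (𝒜 : ℕ → Submodule R A) [GradedAlgebra 𝒜]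
    (hred : ∀ f ∈ (HomogeneousIdeal.irrelevant 𝒜).toIdeal, IsNilpotent f → f = 0) :
    AlgebraicGeometry.IsIntegral (Proj 𝒜) ↔
      ((∃ f ∈ (HomogeneousIdeal.irrelevant 𝒜).toIdeal, f ≠ 0) ∧
        ∀ f ∈ (HomogeneousIdeal.irrelevant 𝒜).toIdeal, ∀ g ∈ (HomogeneousIdeal.irrelevant 𝒜).toIdeal,
          f * g = 0 → f = 0 ∨ g = 0) := by
  classical
  have key : ∀ c : A, c ∈ (HomogeneousIdeal.irrelevant 𝒜).toIdeal → c ≠ 0 →
      ∃ y : ProjectiveSpectrum 𝒜, c ∉ y.asHomogeneousIdeal := by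
    intro c hc hc0
    have hnn : ¬ IsNilpotent c := fun h => hc0 (hred c hc h)
    rw [nilpotent_iff_mem_prime] at hnn
    push_neg at hnn
    obtain ⟨q, hq, hqn⟩ := hnn
    have hcore_le : (q.homogeneousCore 𝒜).toIdeal ≤ q := Ideal.toIdeal_homogeneousCore_le 𝒜 q
    have hy3 : ¬ HomogeneousIdeal.irrelevant 𝒜 ≤ q.homogeneousCore 𝒜 := by
      intro hle
      exact hqn (hcore_le (hle hc))
    exact ⟨⟨q.homogeneousCore 𝒜, hq.homogeneousCore, hy3⟩, fun h => hqn (hcore_le h)⟩
  have key2 : ∀ (x : ProjectiveSpectrum 𝒜) (a : A), a ∉ x.asHomogeneousIdeal →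
      ∃ s : A, s ∈ (HomogeneousIdeal.irrelevant 𝒜).toIdeal ∧
        a * s ∉ x.asHomogeneousIdeal.toIdeal := by
    intro x a hax
    obtain ⟨s, hs, hsx⟩ := SetLike.not_le_iff_exists.mp x.not_irrelevant_le
    refine ⟨s, hs, ?_⟩
    intro h
    rcases x.isPrime.mem_or_mem h with h | h
    · exact hax h
    · exact hsx h
  have key3 : (∀ f ∈ (HomogeneousIdeal.irrelevant 𝒜).toIdeal,
      ∀ g ∈ (HomogeneousIdeal.irrelevant 𝒜).toIdeal, f * g = 0 → f = 0 ∨ g = 0) →
      ∀ (a b : A) (x y : ProjectiveSpectrum 𝒜), a ∉ x.asHomogeneousIdeal →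
      b ∉ y.asHomogeneousIdeal →
      ∃ z : ProjectiveSpectrum 𝒜, a ∉ z.asHomogeneousIdeal ∧ b ∉ z.asHomogeneousIdeal := by
    intro hdom a b x y hax hby
    obtain ⟨s, hs, hasx⟩ := key2 x a hax
    obtain ⟨t, ht, hbty⟩ := key2 y b hby
    have h1 : a * s ∈ (HomogeneousIdeal.irrelevant 𝒜).toIdeal := Ideal.mul_mem_left _ _ hs
    have h2 : b * t ∈ (HomogeneousIdeal.irrelevant 𝒜).toIdeal := Ideal.mul_mem_left _ _ ht
    have h1' : a * s ≠ 0 := fun h => hasx (by rw [h]; exact Ideal.zero_mem _)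
    have h2' : b * t ≠ 0 := fun h => hbty (by rw [h]; exact Ideal.zero_mem _)
    have h3 : (a * s) * (b * t) ≠ 0 := by
      intro h
      rcases hdom _ h1 _ h2 h with h | h
      · exact h1' h
      · exact h2' h
    obtain ⟨z, hz⟩ := key _ (Ideal.mul_mem_right _ _ h1) h3
    refine ⟨z, fun h => hz ?_, fun h => hz ?_⟩
    · have e : a * s * (b * t) = a * (s * (b * t)) := by ring
      rw [e]
      show a * (s * (b * t)) ∈ z.asHomogeneousIdeal.toIdeal
      exact Ideal.mul_mem_right _ _ h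
    · have e : a * s * (b * t) = b * (a * s * t) := by ring
      rw [e]
      show b * (a * s * t) ∈ z.asHomogeneousIdeal.toIdeal
      exact Ideal.mul_mem_right _ _ h
  rw [isIntegral_iff_irreducibleSpace_and_isReduced]
  constructor
  · rintro ⟨hirr, -⟩
    constructor
    · obtain ⟨x⟩ := hirr.toNonempty
      obtain ⟨s, hs, hsx⟩ :=
        SetLike.not_le_iff_exists.mp (x : ProjectiveSpectrum 𝒜).not_irrelevant_le
      refine ⟨s, hs, ?_⟩
      intro hs0
      apply hsx
      rw [hs0]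
      exact Ideal.zero_mem _
    · intro f hf g hg hfg
      by_contra hcon
      push_neg at hcon
      obtain ⟨x, hx⟩ := key f hf hcon.1
      obtain ⟨y, hy⟩ := key g hg hcon.2
      have hpre : IsPreirreducible (Set.univ : Set (ProjectiveSpectrum 𝒜)) :=
        hirr.toPreirreducibleSpace.isPreirreducible_univ
      obtain ⟨z, -, hz1, hz2⟩ := hpre (ProjectiveSpectrum.basicOpen 𝒜 f : Set _)
        (ProjectiveSpectrum.basicOpen 𝒜 g : Set _) (ProjectiveSpectrum.basicOpen 𝒜 f).2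
        (ProjectiveSpectrum.basicOpen 𝒜 g).2 ⟨x, trivial, hx⟩ ⟨y, trivial, hy⟩
      have hz : f * g ∉ z.asHomogeneousIdeal.toIdeal := by
        intro h
        rcases z.isPrime.mem_or_mem h with h | h
        · exact hz1 h
        · exact hz2 h
      apply hz
      rw [hfg]
      exact Ideal.zero_mem _
  · rintro ⟨⟨f, hf, hf0⟩, hdom⟩
    refine ⟨?_, Groth.Agent.S3556.result 𝒜 hred⟩
    obtain ⟨x0, -⟩ := key f hf hf0
    have hpre : IsPreirreducible (Set.univ : Set (ProjectiveSpectrum 𝒜)) := by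
      rintro u v hu hv ⟨x, -, hxu⟩ ⟨y, -, hyv⟩
      have hb := ProjectiveSpectrum.isTopologicalBasis_basic_opens 𝒜
      obtain ⟨_, ⟨a, rfl⟩, hxa, hau⟩ := hb.exists_subset_of_mem_open hxu hu
      obtain ⟨_, ⟨b, rfl⟩, hyb, hbv⟩ := hb.exists_subset_of_mem_open hyv hv
      obtain ⟨z, hza, hzb⟩ := key3 hdom a b x y hxa hyb
      exact ⟨z, trivial, hau hza, hbv hzb⟩
    exact @IrreducibleSpace.mk _ _ ⟨hpre⟩ ⟨x0⟩

end Groth.Agent.S3557
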