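import Groth.Statements.S3558
import Mathlib

set_option autoImplicit false
universe u
open CategoryTheory CategoryTheory.Limits AlgebraicGeometry
open EGA2

namespace Groth.Agent.S3558

/-- For a graded ring S, Proj S is empty if and only if every element of the irrelevant ideal S_+ is
nilpotent. -/
theorem result {R A : Type u} [CommRing R] [CommRing A] [Algebra R A] (𝒜 : ℕ → Submodule R A) [GradedAlgebra 𝒜] :
    IsEmpty (Proj 𝒜) ↔ ∀ f ∈ (HomogeneousIdeal.irrelevant 𝒜).toIdeal, IsNilpotent f := by
  constructor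
  · intro h f hf
    by_contra hnil
    have : f ∉ nilradical A := hnil
    rw [nilradical_eq_sInf, Submodule.mem_sInf] at this
    push Not at this
    obtain ⟨P, hP, hfP⟩ := this
    have hP' : Ideal.IsPrime P := hP
    have hcore := Ideal.IsPrime.homogeneousCore (𝒜 := 𝒜) (I := P) hP'
    have hle : (Ideal.homogeneousCore 𝒜 P).toIdeal ≤ P := Ideal.toIdeal_homogeneousCore_le 𝒜 P
    have hrel : ¬ HomogeneousIdeal.irrelevant 𝒜 ≤ Ideal.homogeneousCore 𝒜 P := by
      intro hirr
      exact hfP (hle (hirr hf))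
    let x : ProjectiveSpectrum 𝒜 := ⟨Ideal.homogeneousCore 𝒜 P, hcore, hrel⟩
    exact h.false (show Proj 𝒜 from x)
  · intro h
    refine ⟨fun x => ?_⟩
    have hx : ProjectiveSpectrum 𝒜 := x
    apply x.not_irrelevant_le
    intro f hf
    obtain ⟨n, hn⟩ := h f hf
    have : f ^ n ∈ x.asHomogeneousIdeal.toIdeal := by rw [hn]; exact Ideal.zero_mem _
    exact x.isPrime.mem_of_pow_mem n this

end Groth.Agent.S3558
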