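import Groth.Statements.S3559
import Mathlib

set_option autoImplicit false
universe u
open CategoryTheory CategoryTheory.Limits AlgebraicGeometry
open EGA2

namespace Groth.Agent.S3559

/-- Let S be a graded ring and (f_i) a family of homogeneous elements of positive degree. The opens
D_+(f_i) cover Proj S if and only if every element of S_+ has a power in the ideal generated by the
f_i. -/
theorem result {R A : Type u} [CommRing R] [CommRing A] [Algebra R A] (𝒜 : ℕ → Submodule R A) [GradedAlgebra 𝒜]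
    {ι : Type u} (f : ι → A) (hf : ∀ i, ∃ d : ℕ, 0 < d ∧ f i ∈ 𝒜 d) :
    (⨆ i, Proj.basicOpen 𝒜 (f i)) = ⊤ ↔
      (HomogeneousIdeal.irrelevant 𝒜).toIdeal ≤ (Ideal.span (Set.range f)).radical := by
  constructor
  · intro hcov g hg
    rw [Ideal.radical_eq_sInf, Submodule.mem_sInf]
    rintro P ⟨hfP, hP⟩
    have hP' : Ideal.IsPrime P := hP
    have hcore := Ideal.IsPrime.homogeneousCore (𝒜 := 𝒜) (I := P) hP'
    have hle : (Ideal.homogeneousCore 𝒜 P).toIdeal ≤ P := Ideal.toIdeal_homogeneousCore_le 𝒜 P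
    by_cases hrel : HomogeneousIdeal.irrelevant 𝒜 ≤ Ideal.homogeneousCore 𝒜 P
    · exact hle (hrel hg)
    · exfalso
      let x : Proj 𝒜 := (⟨Ideal.homogeneousCore 𝒜 P, hcore, hrel⟩ : ProjectiveSpectrum 𝒜)
      have hx : x ∈ (⨆ i, Proj.basicOpen 𝒜 (f i)) := by rw [hcov]; trivial
      obtain ⟨i, hi⟩ := TopologicalSpace.Opens.mem_iSup.mp hx
      rw [Proj.mem_basicOpen] at hi
      apply hi
      obtain ⟨d, -, hd⟩ := hf i
      exact Ideal.mem_homogeneousCore_of_homogeneous_of_mem ⟨d, hd⟩
        (hfP (Ideal.subset_span ⟨i, rfl⟩))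
  · intro h
    classical
    refine top_le_iff.mp fun x hx ↦ TopologicalSpace.Opens.mem_iSup.mpr ?_
    by_contra! H
    simp only [Proj.mem_basicOpen, Decidable.not_not] at H
    refine x.not_irrelevant_le (fun g hg => ?_)
    have hspan : Ideal.span (Set.range f) ≤ x.asHomogeneousIdeal.toIdeal := by
      rw [Ideal.span_le, Set.range_subset_iff]; exact H
    obtain ⟨n, hn⟩ := h hg
    exact x.isPrime.mem_of_pow_mem n (hspan hn)

end Groth.Agent.S3559
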