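import Groth.Statements.S4394
import Mathlib
import Groth.Agent.S4389
import Groth.Agent.Lib.helper2.GradedSpan

set_option autoImplicit false
universe u
open EGA2

namespace Groth.Agent.S4394

/-- Let S be a ring graded in nonnegative degrees which is an S_0-algebra of finite type. Then for every
integer n > 0 there is m₀ such that S_m ⊆ (S_+)^n for all m ≥ m₀. -/
theorem result {R A : Type u} [CommRing R] [CommRing A] [Algebra R A] (𝒜 : ℕ → Submodule R A) [GradedAlgebra 𝒜] [Algebra.FiniteType (𝒜 0) A]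
    (n : ℕ) (hn : 0 < n) :
    ∃ m₀ : ℕ, ∀ m : ℕ, m₀ ≤ m → (𝒜 m : Set A) ⊆ ((HomogeneousIdeal.irrelevant 𝒜).toIdeal ^ n : Ideal A) := by
  classical
  obtain ⟨s, hs, hs'⟩ := GradedAlgebra.exists_finset_adjoin_eq_top_and_homogeneous_ne_zero 𝒜
  choose! deg hdeg0 hdeg using hs'
  have hE : ∀ e ∈ (s : Set A), ∃ d : ℕ, 0 < d ∧ e ∈ 𝒜 d := fun e he =>
    ⟨deg e, Nat.pos_of_ne_zero (hdeg0 e he), hdeg e he⟩
  have hirr : (HomogeneousIdeal.irrelevant 𝒜).toIdeal = Ideal.span (s : Set A) :=
    (Groth.Agent.S4389.result 𝒜 (s : Set A) hE).mpr hs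
  set I := (HomogeneousIdeal.irrelevant 𝒜).toIdeal with hI
  let D := s.sup deg
  have hD : ∀ e ∈ s, deg e ≤ D := fun e he => Finset.le_sup he
  have key : ∀ n : ℕ, ∀ m : ℕ, 1 + n * D ≤ m → (𝒜 m : Set A) ⊆ (I ^ (n + 1) : Ideal A) := by
    intro n
    induction n with
    | zero =>
      intro m hm x hx
      rw [zero_add, pow_one]
      exact HomogeneousIdeal.mem_irrelevant_of_mem 𝒜 (by omega) hx
    | succ n ih =>
      intro m hm x hx
      have hxI : x ∈ Ideal.span (s : Set A) := by
        rw [← hirr]; exact HomogeneousIdeal.mem_irrelevant_of_mem 𝒜 (by omega) hx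
      refine Groth.Agent.H2.H2_homog_span_induction 𝒜 (s : Set A) deg (fun e he => hdeg e he) m
        (fun y => y ∈ (I ^ (n + 1 + 1) : Ideal A)) (zero_mem _) (fun x y hx hy => add_mem hx hy)
        ?_ x hx hxI
      intro e c he hle hc
      have hc' : c ∈ (I ^ (n + 1) : Ideal A) := by
        refine ih (m - deg e) ?_ hc
        have := hD e he
        have h2 : (n + 1) * D = n * D + D := by ring
        omega
      have he' : e ∈ I := by
        rw [hirr]; exact Ideal.subset_span he
      rw [pow_succ]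
      exact Ideal.mul_mem_mul hc' he'
  obtain ⟨k, rfl⟩ : ∃ k, n = k + 1 := ⟨n - 1, by omega⟩
  exact ⟨1 + k * D, fun m hm => key k m hm⟩

end Groth.Agent.S4394
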