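import Groth.Statements.S3560
import Mathlib
import Groth.Agent.S4390
import Groth.Agent.S4394

set_option autoImplicit false
universe u
open CategoryTheory CategoryTheory.Limits AlgebraicGeometry
open EGA2

namespace Groth.Agent.S3560

/-- Let S be a graded ring whose irrelevant ideal S_+ is finitely generated. Then Proj S is empty if and
only if there is n such that S_k = 0 for all k ≥ n. -/
theorem result {R A : Type u} [CommRing R] [CommRing A] [Algebra R A] (𝒜 : ℕ → Submodule R A) [GradedAlgebra 𝒜]
    (hfg : (HomogeneousIdeal.irrelevant 𝒜).toIdeal.FG) :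
    IsEmpty (Proj 𝒜) ↔ ∃ n : ℕ, ∀ k : ℕ, n ≤ k → 𝒜 k = ⊥ := by
  classical
  constructor
  · intro hempty
    have hft : Algebra.FiniteType (𝒜 0) A := (Groth.Agent.S4390.result 𝒜).mp hfg
    have hle : (HomogeneousIdeal.irrelevant 𝒜).toIdeal ≤ nilradical A := by
      rw [nilradical_eq_sInf]
      refine le_sInf fun p hp => ?_
      have hp' : p.IsPrime := hp
      by_contra hnot
      have hcore : ¬ HomogeneousIdeal.irrelevant 𝒜 ≤ p.homogeneousCore 𝒜 := by
        intro h
        exact hnot ((toIdeal_le_toIdeal_iff.mpr h).trans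
          (Ideal.toIdeal_homogeneousCore_le 𝒜 p))
      exact hempty.false (⟨p.homogeneousCore 𝒜, hp'.homogeneousCore, hcore⟩ :
        ProjectiveSpectrum 𝒜)
    obtain ⟨N, hN⟩ := (Ideal.FG.isNilpotent_iff_le_nilradical hfg).mpr hle
    have hN' : (HomogeneousIdeal.irrelevant 𝒜).toIdeal ^ (N + 1) = ⊥ := by
      rw [pow_succ, hN]; simp
    obtain ⟨m₀, hm₀⟩ := Groth.Agent.S4394.result 𝒜 (N + 1) (Nat.succ_pos N)
    refine ⟨m₀, fun k hk => ?_⟩
    rw [eq_bot_iff]
    intro x hx
    have := hm₀ k hk hx
    rw [hN'] at this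
    exact this
  · rintro ⟨n, hn⟩
    constructor
    intro x
    have hx : ∀ x' : ProjectiveSpectrum 𝒜, False := by
      intro x'
      apply x'.not_irrelevant_le
      intro a ha
      change a ∈ x'.asHomogeneousIdeal.toIdeal
      rw [← DirectSum.sum_support_decompose 𝒜 a]
      refine Ideal.sum_mem _ fun i _ => ?_
      rcases Nat.eq_zero_or_pos i with rfl | hi
      · have h0 : GradedRing.proj 𝒜 0 a = 0 := (HomogeneousIdeal.mem_irrelevant_iff 𝒜 a).mp ha
        rw [GradedRing.proj_apply] at h0
        rw [h0]; exact zero_mem _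
      · have hpow : ((DirectSum.decompose 𝒜 a i : 𝒜 i) : A) ^ n ∈ 𝒜 (n • i) :=
          SetLike.pow_mem_graded n (SetLike.coe_mem _)
        have hni : n ≤ n • i := by
          rw [smul_eq_mul]; exact Nat.le_mul_of_pos_right n hi
        rw [hn _ hni, Submodule.mem_bot] at hpow
        refine x'.isPrime.mem_of_pow_mem n ?_
        rw [hpow]; exact zero_mem _
    exact hx x

end Groth.Agent.S3560
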