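import Groth.Statements.S3570
import Mathlib

set_option autoImplicit false
universe u
open CategoryTheory CategoryTheory.Limits AlgebraicGeometry
open EGA2

namespace Groth.Agent.S3570

/-- Let f : X → S and g : Y → S be affine morphisms and h : Y → X an S-morphism. Then h is an
isomorphism if and only if A(h) : f_*O_X → g_*O_Y is an isomorphism (of presheaves of rings on S). -/
theorem result {X Y S : Scheme.{u}} (f : X ⟶ S) [IsAffineHom f] (g : Y ⟶ S)
    [IsAffineHom g] (h : Y ⟶ X) (w : h ≫ f = g) :
    IsIso h ↔ IsIso (AffAlg.algHom f g h w) := by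
  subst w
  constructor
  · intro hiso
    haveI : IsIso h.c := PresheafedSpace.c_isIso_of_iso h.toPshHom
    unfold AffAlg.algHom
    infer_instance
  · intro hiso
    unfold AffAlg.algHom at hiso
    have hmap : IsIso ((TopCat.Presheaf.pushforward CommRingCat.{u} f.base).map h.c) := by
      have hp : (TopCat.Presheaf.pushforward CommRingCat.{u} f.base).obj (h.base _* Y.presheaf) =
          AffAlg.alg (h ≫ f) := rfl
      haveI : IsIso ((TopCat.Presheaf.pushforward CommRingCat.{u} f.base).map h.c ≫
          eqToHom hp) := hiso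
      exact IsIso.of_isIso_comp_right _ (eqToHom hp)
    have hcomp : ∀ V : S.Opens, IsIso (h.app (f ⁻¹ᵁ V)) := by
      intro V
      exact NatIso.isIso_app_of_isIso
        ((TopCat.Presheaf.pushforward CommRingCat.{u} f.base).map h.c) (Opposite.op V)
    have key : ∀ (U U' : X.Opens) (W W' : Y.Opens) (hU : U = U') (hW : W = W')
        (e : W ≤ h ⁻¹ᵁ U) (e' : W' ≤ h ⁻¹ᵁ U'),
        IsIso (h.appLE U W e) → IsIso (h.appLE U' W' e') := by
      intro U U' W W' hU hW e e' hi
      subst hU hW
      exact hi
    show MorphismProperty.isomorphisms Scheme h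
    refine HasAffineProperty.of_iSup_eq_top (P := MorphismProperty.isomorphisms Scheme)
      (fun V : S.affineOpens =>
        (⟨f ⁻¹ᵁ V.1, (show IsAffineOpen V.1 from V.2).preimage f⟩ : X.affineOpens)) ?_ ?_
    · exact Scheme.Hom.iSup_preimage_eq_top f (iSup_affineOpens_eq_top S)
    · intro V
      refine ⟨?_, ?_⟩
      · exact (show IsAffineOpen V.1 from V.2).preimage (h ≫ f)
      · show IsIso ((h ∣_ f ⁻¹ᵁ V.1).app ⊤)
        rw [morphismRestrict_app']
        refine key (f ⁻¹ᵁ V.1) _ (h ⁻¹ᵁ f ⁻¹ᵁ V.1) _ (Scheme.Opens.ι_image_top _).symm ?_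
          le_rfl _ ?_
        · rw [Scheme.Hom.preimage_top, Scheme.Opens.ι_image_top]
        · rw [← Scheme.Hom.app_eq_appLE]
          exact hcomp V.1

end Groth.Agent.S3570
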