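import Groth.Statements.S3578
import Mathlib

set_option autoImplicit false
universe u
open EGA2

namespace Groth.Agent.S3578

/-- Via the correspondence between closed subsets of Proj S and radical graded ideals of S_+: let S be a
graded ring and Z a closed subset of Proj S, with J = S_+ ∩ (vanishing ideal of Z). Then Z is
irreducible if and only if J is a prime ideal of the ring-without-unit S_+: J ≠ S_+ and a product of
two elements of S_+ lies in J only if one factor does. -/
theorem result {R A : Type u} [CommRing R] [CommRing A] [Algebra R A] (𝒜 : ℕ → Submodule R A) [GradedAlgebra 𝒜]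
    (Z : Set (ProjectiveSpectrum 𝒜)) (hZ : IsClosed Z) :
    IsIrreducible Z ↔
      (¬ (HomogeneousIdeal.irrelevant 𝒜).toIdeal ≤ (ProjectiveSpectrum.vanishingIdeal Z).toIdeal ∧
        ∀ f ∈ (HomogeneousIdeal.irrelevant 𝒜).toIdeal, ∀ g ∈ (HomogeneousIdeal.irrelevant 𝒜).toIdeal,
          f * g ∈ (ProjectiveSpectrum.vanishingIdeal Z).toIdeal →
            f ∈ (ProjectiveSpectrum.vanishingIdeal Z).toIdeal ∨ g ∈ (ProjectiveSpectrum.vanishingIdeal Z).toIdeal) := by
  classical
  have hmemV : ∀ (t : Set (ProjectiveSpectrum 𝒜)) (f : A),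
      f ∈ (ProjectiveSpectrum.vanishingIdeal t).toIdeal ↔
        ∀ x : ProjectiveSpectrum 𝒜, x ∈ t → f ∈ x.asHomogeneousIdeal :=
    fun t f => ProjectiveSpectrum.mem_vanishingIdeal t f
  constructor
  · intro hirr
    refine ⟨?_, ?_⟩
    · obtain ⟨x, hxZ⟩ := hirr.nonempty
      intro hle
      apply x.not_irrelevant_le
      intro f hf
      exact (hmemV Z f).mp (hle hf) x hxZ
    · intro f _ g _ hfg
      have hcov : Z ⊆ ProjectiveSpectrum.zeroLocus 𝒜 {f} ∪ ProjectiveSpectrum.zeroLocus 𝒜 {g} := by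
        intro x hxZ
        have hx : f * g ∈ x.asHomogeneousIdeal.toIdeal := (hmemV Z (f * g)).mp hfg x hxZ
        rcases x.isPrime.mem_or_mem hx with h | h
        · left
          rw [ProjectiveSpectrum.mem_zeroLocus]
          exact Set.singleton_subset_iff.mpr h
        · right
          rw [ProjectiveSpectrum.mem_zeroLocus]
          exact Set.singleton_subset_iff.mpr h
      rcases isPreirreducible_iff_isClosed_union_isClosed.mp hirr.isPreirreducible _ _
        (ProjectiveSpectrum.isClosed_zeroLocus 𝒜 {f})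
        (ProjectiveSpectrum.isClosed_zeroLocus 𝒜 {g}) hcov with h | h
      · left
        rw [hmemV]
        intro x hxZ
        exact Set.singleton_subset_iff.mp ((ProjectiveSpectrum.mem_zeroLocus 𝒜 x _).mp (h hxZ))
      · right
        rw [hmemV]
        intro x hxZ
        exact Set.singleton_subset_iff.mp ((ProjectiveSpectrum.mem_zeroLocus 𝒜 x _).mp (h hxZ))
  · rintro ⟨hne, hpr⟩
    refine ⟨?_, ?_⟩
    · by_contra hemp
      rw [Set.not_nonempty_iff_eq_empty] at hemp
      apply hne
      rw [hemp, ProjectiveSpectrum.vanishingIdeal_univ, HomogeneousIdeal.toIdeal_top]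
      exact le_top
    · rw [isPreirreducible_iff_isClosed_union_isClosed]
      intro Z₁ Z₂ hZ₁ hZ₂ hcov
      by_contra hcon
      rw [not_or] at hcon
      obtain ⟨h1, h2⟩ := hcon
      obtain ⟨x₁, hx₁Z, hx₁⟩ := Set.not_subset.mp h1
      obtain ⟨x₂, hx₂Z, hx₂⟩ := Set.not_subset.mp h2
      have key : ∀ (W : Set (ProjectiveSpectrum 𝒜)), IsClosed W →
          ∀ x : ProjectiveSpectrum 𝒜, x ∉ W →
          ∃ F : A, F ∈ (HomogeneousIdeal.irrelevant 𝒜).toIdeal ∧
            F ∈ (ProjectiveSpectrum.vanishingIdeal W).toIdeal ∧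
            F ∉ x.asHomogeneousIdeal.toIdeal := by
        intro W hW x hx
        rw [← hW.closure_eq, ← ProjectiveSpectrum.zeroLocus_vanishingIdeal_eq_closure,
          ProjectiveSpectrum.mem_zeroLocus, Set.not_subset] at hx
        obtain ⟨f, hfW, hfx⟩ := hx
        obtain ⟨h, hh, hhx⟩ := SetLike.not_le_iff_exists.mp x.not_irrelevant_le
        refine ⟨f * h, Ideal.mul_mem_left _ _ hh, Ideal.mul_mem_right _ _ hfW, ?_⟩
        intro hmem
        rcases x.isPrime.mem_or_mem hmem with h' | h'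
        · exact hfx h'
        · exact hhx h'
      obtain ⟨F₁, hF₁irr, hF₁W, hF₁x⟩ := key Z₁ hZ₁ x₁ hx₁
      obtain ⟨F₂, hF₂irr, hF₂W, hF₂x⟩ := key Z₂ hZ₂ x₂ hx₂
      have hprod : F₁ * F₂ ∈ (ProjectiveSpectrum.vanishingIdeal Z).toIdeal := by
        rw [hmemV]
        intro x hxZ
        show F₁ * F₂ ∈ x.asHomogeneousIdeal.toIdeal
        rcases hcov hxZ with hx | hx
        · exact Ideal.mul_mem_right _ _ ((hmemV Z₁ F₁).mp hF₁W x hx)
        · exact Ideal.mul_mem_left _ _ ((hmemV Z₂ F₂).mp hF₂W x hx)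
      rcases hpr F₁ hF₁irr F₂ hF₂irr hprod with h | h
      · exact hF₁x ((hmemV Z F₁).mp h x₁ hx₁Z)
      · exact hF₂x ((hmemV Z F₂).mp h x₂ hx₂Z)

end Groth.Agent.S3578
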