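import Groth.Statements.S3583
import Mathlib

set_option autoImplicit false
universe u
open CategoryTheory AlgebraicGeometry Opposite
open EGA2

namespace Groth.Agent.S3583

/-- In the form stated after its proof: let f : X → S and f' : X' → S be affine morphisms and h : X' → X
an S-morphism such that the O_S-algebra homomorphism A(h) : f_*O_X → f'_*O_{X'} is surjective (as a
map of quasi-coherent O_S-modules, i.e. on sections over every affine open of S). Then h is a closed
immersion. -/
theorem result {X X' S : Scheme.{u}} (f : X ⟶ S) [IsAffineHom f]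
    (f' : X' ⟶ S) [IsAffineHom f'] (h : X' ⟶ X) (w : h ≫ f = f')
    (hsurj : ∀ U : S.affineOpens, Function.Surjective ((AffAlg.algHom f f' h w).app (op U.1)).hom) :
    IsClosedImmersion h := by
  subst w
  have hcomp : ∀ V : S.affineOpens, Function.Surjective (h.app (f ⁻¹ᵁ V.1)).hom := by
    intro V
    have h1 := hsurj V
    have e : (AffAlg.algHom f (h ≫ f) h rfl).app (Opposite.op V.1) = h.app (f ⁻¹ᵁ V.1) := by
      unfold AffAlg.algHom
      rw [NatTrans.comp_app, eqToHom_app]
      exact Category.comp_id _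
    rw [e] at h1
    exact h1
  have key : ∀ (U U' : X.Opens) (W W' : X'.Opens) (hU : U = U') (hW : W = W')
      (e : W ≤ h ⁻¹ᵁ U) (e' : W' ≤ h ⁻¹ᵁ U'),
      Function.Surjective (h.appLE U W e).hom → Function.Surjective (h.appLE U' W' e').hom := by
    intro U U' W W' hU hW e e' hi
    subst hU hW
    exact hi
  refine HasAffineProperty.of_iSup_eq_top (P := @IsClosedImmersion)
    (fun V : S.affineOpens =>
      (⟨f ⁻¹ᵁ V.1, (show IsAffineOpen V.1 from V.2).preimage f⟩ : X.affineOpens)) ?_ ?_
  · exact Scheme.Hom.iSup_preimage_eq_top f (iSup_affineOpens_eq_top S)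
  · intro V
    refine ⟨?_, ?_⟩
    · exact (show IsAffineOpen V.1 from V.2).preimage (h ≫ f)
    · show Function.Surjective ((h ∣_ f ⁻¹ᵁ V.1).app ⊤).hom
      rw [morphismRestrict_app']
      refine key (f ⁻¹ᵁ V.1) _ (h ⁻¹ᵁ f ⁻¹ᵁ V.1) _ (Scheme.Opens.ι_image_top _).symm ?_
        le_rfl _ ?_
      · rw [Scheme.Hom.preimage_top, Scheme.Opens.ι_image_top]
      · rw [← Scheme.Hom.app_eq_appLE]
        exact hcomp V

end Groth.Agent.S3583
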