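import Groth.Statements.S3588
import Mathlib
import Groth.Agent.S3553
import Groth.Agent.S3556
import Groth.Agent.Lib.helper5.ProjClosedImm

set_option autoImplicit false
universe u
open CategoryTheory CategoryTheory.Limits AlgebraicGeometry
open EGA2

namespace Groth.Agent.S3588

/-- Let S be a graded ring, N_+ the set of nilpotent elements of S_+ (an ideal of S), and S → S/N_+ the
quotient (here: any surjective homomorphism of graded rings φ : S → S' whose kernel is N_+). Then
the induced morphism Proj S' → Proj S is a closed immersion which is a homeomorphism of the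
underlying spaces, and Proj S' is reduced; thus Proj S' is the reduced closed subscheme (Proj
S)_red. -/
theorem result {R A : Type u} [CommRing R] [CommRing A] [Algebra R A] (𝒜 : ℕ → Submodule R A) [GradedAlgebra 𝒜]
    {B : Type u} [CommRing B] [Algebra R B] (ℬ : ℕ → Submodule R B) [GradedAlgebra ℬ]
    (φ : 𝒜 →+*ᵍ ℬ) (hsurj : Function.Surjective φ)
    (hker : ∀ a : A, φ a = 0 ↔ a ∈ (HomogeneousIdeal.irrelevant 𝒜).toIdeal ∧ IsNilpotent a)
    (hφ : HomogeneousIdeal.irrelevant ℬ ≤ (HomogeneousIdeal.irrelevant 𝒜).map φ) :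
    IsClosedImmersion (Proj.map φ hφ) ∧ IsHomeomorph (Proj.map φ hφ).base ∧
      AlgebraicGeometry.IsReduced (Proj ℬ) := by
  classical
  have hci : IsClosedImmersion (Proj.map φ hφ) := H5PC.main 𝒜 ℬ φ hsurj hφ
  have hdense : DenseRange (Proj.map φ hφ).base :=
    Groth.Agent.S3553.result 𝒜 ℬ φ hφ (fun a ha => ((hker a).mp ha).2)
  have hce := (Proj.map φ hφ).isClosedEmbedding
  refine ⟨hci, ?_, ?_⟩
  · rw [isHomeomorph_iff_isEmbedding_surjective]
    refine ⟨hce.isEmbedding, ?_⟩
    rw [← Set.range_eq_univ, ← hce.isClosed_range.closure_eq]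
    exact hdense.closure_range
  · apply Groth.Agent.S3556.result ℬ
    intro b hb hbn
    obtain ⟨a, rfl⟩ := hsurj b
    obtain ⟨a', ha'⟩ : ∃ a', a' = a - (DirectSum.decompose 𝒜 a 0 : A) := ⟨_, rfl⟩
    have h0 : (DirectSum.decompose ℬ (φ a) 0 : B) = 0 := by
      have := (HomogeneousIdeal.mem_irrelevant_iff ℬ (φ a)).mp hb
      rwa [GradedRing.proj_apply] at this
    have hφa' : φ a' = φ a := by
      rw [ha', map_sub, GradedRingHom.map_directSumDecompose 𝒜 ℬ φ, h0, sub_zero]
    have ha'irr : a' ∈ (HomogeneousIdeal.irrelevant 𝒜).toIdeal := by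
      rw [HomogeneousIdeal.toIdeal_irrelevant, RingHom.mem_ker, ha', map_sub, sub_eq_zero]
      rw [GradedRing.projZeroRingHom_apply, GradedRing.projZeroRingHom_apply]
      exact (DirectSum.decompose_of_mem_same 𝒜 (SetLike.coe_mem _)).symm
    obtain ⟨n, hn⟩ := hbn
    have h1 : φ (a' ^ n) = 0 := by rw [map_pow, hφa']; exact hn
    obtain ⟨m, hm⟩ := ((hker _).mp h1).2
    have h2 : IsNilpotent a' := ⟨n * m, by rw [pow_mul]; exact hm⟩
    rw [← hφa']
    exact (hker a').mpr ⟨ha'irr, h2⟩

end Groth.Agent.S3588
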