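import Groth.Statements.S3594
import Mathlib

set_option autoImplicit false
universe u
open CategoryTheory CategoryTheory.Limits AlgebraicGeometry
open EGA2

namespace Groth.Agent.S3594

/-- The closed immersion at infinity of a projective cone: let S be a graded R-algebra and Ŝ a graded
R-algebra over S such that the structure map φ : S → Ŝ is a graded homomorphism and Ŝ = S[z] is the
polynomial algebra on an element z of degree one (evaluation at z is a bijection S[T] → Ŝ); let ψ :
Ŝ → S be a graded homomorphism retracting φ and killing z, with S₊ contained in the ideal generated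
by ψ(Ŝ₊) so that j = Proj(ψ) : X = Proj S → Ĉ = Proj Ŝ is defined (it is the canonical closed
immersion). Then the image of j is exactly the complement of the open subset D₊(z) of Proj Ŝ (which
is the affine cone C = Spec S). -/
theorem result {R A : Type u} [CommRing R] [CommRing A] [Algebra R A] (𝒜 : ℕ → Submodule R A) [GradedAlgebra 𝒜]
    {B : Type u} [CommRing B] [Algebra R B] (ℬ : ℕ → Submodule R B) [GradedAlgebra ℬ]
    [Algebra A B] [IsScalarTower R A B] (φ : 𝒜 →+*ᵍ ℬ) (hφ : ∀ a : A, φ a = algebraMap A B a)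
    (z : B) (hz : z ∈ ℬ 1) (hhat : Function.Bijective (Polynomial.aeval (R := A) z))
    (ψ : ℬ →+*ᵍ 𝒜) (hψφ : ∀ a : A, ψ (φ a) = a) (hψz : ψ z = 0)
    (hψ : HomogeneousIdeal.irrelevant 𝒜 ≤ (HomogeneousIdeal.irrelevant ℬ).map ψ) :
    Set.range (Proj.map ψ hψ).base = ((Proj.basicOpen ℬ z : Set (Proj ℬ)))ᶜ := by
  classical
  have hdecomp : ∀ b : B, ∃ c : B, b = c * z + φ (ψ b) := by
    intro b
    obtain ⟨P, rfl⟩ := hhat.2 b
    have hP : Polynomial.aeval z P = Polynomial.aeval z P.divX * z + φ (P.coeff 0) := by
      conv_lhs => rw [← Polynomial.divX_mul_X_add P]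
      rw [map_add, map_mul, Polynomial.aeval_X, Polynomial.aeval_C, hφ]
    have hψP : ψ (Polynomial.aeval z P) = P.coeff 0 := by
      rw [hP, map_add, map_mul, hψz, mul_zero, zero_add, hψφ]
    exact ⟨Polynomial.aeval z P.divX, by rw [hψP]; exact hP⟩
  ext y
  constructor
  · rintro ⟨x, rfl⟩
    rw [Set.mem_compl_iff]
    intro hmem
    have h' : ψ z ∉ x.asHomogeneousIdeal.toIdeal := hmem
    apply h'
    rw [hψz]
    exact Ideal.zero_mem _
  · intro hy
    rw [Set.mem_compl_iff] at hy
    have hzy : z ∈ y.asHomogeneousIdeal.toIdeal := by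
      by_contra hcon
      exact hy hcon
    have hkey : ∀ b : B, b ∈ y.asHomogeneousIdeal.toIdeal ↔
        φ (ψ b) ∈ y.asHomogeneousIdeal.toIdeal := by
      intro b
      obtain ⟨c, hc⟩ := hdecomp b
      constructor
      · intro hb
        have e : φ (ψ b) = b - c * z := by linear_combination (-1 : B) * hc
        rw [e]
        exact Ideal.sub_mem _ hb (Ideal.mul_mem_left _ _ hzy)
      · intro hb
        have h2 : c * z + φ (ψ b) ∈ y.asHomogeneousIdeal.toIdeal :=
          Ideal.add_mem _ (Ideal.mul_mem_left _ _ hzy) hb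
        rwa [← hc] at h2
    have hnot : ¬ HomogeneousIdeal.irrelevant 𝒜 ≤ y.asHomogeneousIdeal.comap φ := by
      intro hle
      apply y.not_irrelevant_le
      intro b hb
      show b ∈ y.asHomogeneousIdeal.toIdeal
      rw [hkey]
      have hψb : ψ b ∈ HomogeneousIdeal.irrelevant 𝒜 := by
        rw [HomogeneousIdeal.mem_irrelevant_iff, GradedRing.proj_apply,
          ← GradedRingHom.map_directSumDecompose ℬ 𝒜 ψ]
        have h0 : (DirectSum.decompose ℬ b 0 : B) = 0 := by
          have := (HomogeneousIdeal.mem_irrelevant_iff ℬ b).mp hb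
          rwa [GradedRing.proj_apply] at this
        rw [h0, map_zero]
      exact hle hψb
    refine ⟨⟨y.asHomogeneousIdeal.comap φ, y.isPrime.comap φ, hnot⟩, ?_⟩
    apply ProjectiveSpectrum.ext
    apply HomogeneousIdeal.toIdeal_injective
    ext b
    exact (hkey b).symm

end Groth.Agent.S3594
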