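import Groth.Statements.S3791
import Mathlib
import Groth.Agent.Lib.helper6.LambdaPos3

set_option autoImplicit false
universe v u
open CategoryTheory CategoryTheory.Limits AlgebraicGeometry
attribute [local instance] HasDerivedCategory.standard
open KRR Groth.Agent.Lib.helper6
set_option linter.style.haveILetI false

namespace Groth.Agent.S3791

/-- Let K be a λ-ring with positive structure P and u an ample line element (for every x, u^n x is a
positive element minus a natural number for all large n). Then for every line element v, the element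
v - 1 is nilpotent. -/
theorem result (K : Type v) [CommRing K] [LambdaRing.LambdaOps K] (P : LambdaRing.PosStructure K)
    (u : K) (hu : KRR.IsAmpleElt P u) (w : K) (hw : P.IsLine w) : IsNilpotent (w - 1) := by
  obtain ⟨hul, hamp⟩ := hu
  have key : ∀ v, P.IsLine v → ∃ n₀ : ℕ, ∀ n, n₀ ≤ n → IsNilpotent (u ^ n * v - 1) := by
    intro v hv
    obtain ⟨n₀, h⟩ := hamp (-v)
    refine ⟨n₀, fun n hn => ?_⟩
    obtain ⟨e, m, he, hem⟩ := h n hn
    have hl : P.IsLine (u ^ n * v) := H6_isLine_mul P (H6_isLine_pow P hul n) hv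
    obtain ⟨ℓ, hℓ⟩ : ∃ ℓ, ℓ = u ^ n * v := ⟨_, rfl⟩
    rw [← hℓ] at hl ⊢
    have hm : (m : K) = e + ℓ := by rw [hℓ]; linear_combination hem
    have haug : (m : ℤ) = P.aug e + 1 := by
      have := congrArg P.aug hm
      rw [map_add, hl.2, map_natCast] at this
      exact this
    have hmpos : 1 ≤ m := by
      have := P.aug_pos e he
      omega
    -- λ^k of the natural number m
    have hlamm : ∀ k, LambdaRing.LambdaOps.lam k (m : K) = (m.choose k : K) := by
      intro k
      have h1 := H6_lam_lines P (Multiset.replicate m (1 : K))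
        (fun u hu => by rw [Multiset.eq_of_mem_replicate hu]; exact H6_isLine_one P) k
      rw [Multiset.sum_replicate, nsmul_eq_mul, mul_one, H6_esymm_replicate_one] at h1
      exact h1
    have hlamℓ0 : LambdaRing.LambdaOps.lam 0 ℓ = 1 := LambdaRing.LambdaOps.lam_zero ℓ
    have hlamℓ1 : LambdaRing.LambdaOps.lam 1 ℓ = ℓ := LambdaRing.LambdaOps.lam_one ℓ
    have hlamℓ : ∀ i, 2 ≤ i → LambdaRing.LambdaOps.lam i ℓ = 0 := by
      intro i hi
      apply P.lam_eq_zero ℓ hl.1 i
      rw [hl.2]; omega
    have hrec : ∀ k, (m.choose (k + 1) : K) =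
        LambdaRing.LambdaOps.lam (k + 1) e + LambdaRing.LambdaOps.lam k e * ℓ := by
      intro k
      rw [← hlamm, hm, LambdaRing.LambdaOps.lam_add, Finset.sum_range_succ, Finset.sum_range_succ]
      have hz : ∑ i ∈ Finset.range k, LambdaRing.LambdaOps.lam i e *
          LambdaRing.LambdaOps.lam (k + 1 - i) ℓ = 0 := by
        apply Finset.sum_eq_zero
        intro i hi
        rw [Finset.mem_range] at hi
        rw [hlamℓ (k + 1 - i) (by omega), mul_zero]
      rw [hz, zero_add, Nat.sub_self, hlamℓ0, mul_one, show k + 1 - k = 1 by omega, hlamℓ1]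
      ring
    have ham : LambdaRing.LambdaOps.lam m e = 0 := by
      apply P.lam_eq_zero e he m
      omega
    have ha0 : LambdaRing.LambdaOps.lam 0 e = 1 := LambdaRing.LambdaOps.lam_zero e
    obtain ⟨m', rfl⟩ : ∃ m', m = m' + 1 := ⟨m - 1, by omega⟩
    have hinv : LambdaRing.LambdaOps.lam m' e * ℓ = 1 := by
      have := hrec m'
      rw [Nat.choose_self, Nat.cast_one, ham, zero_add] at this
      exact this.symm
    obtain ⟨t, ht⟩ : ∃ t, t = -LambdaRing.LambdaOps.lam m' e := ⟨_, rfl⟩
    have hℓt : ℓ * t = -1 := by rw [ht]; linear_combination -hinv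
    have hpow : (t + 1) ^ (m' + 1) = 0 := by
      rw [add_pow, Finset.sum_range_succ']
      simp only [one_pow, mul_one, pow_zero, Nat.choose_zero_right, Nat.cast_one]
      have hterm : ∀ k ∈ Finset.range (m' + 1), t ^ (k + 1) * ((m' + 1).choose (k + 1) : K) =
          LambdaRing.LambdaOps.lam (k + 1) e * t ^ (k + 1) -
            LambdaRing.LambdaOps.lam k e * t ^ k := by
        intro k _
        rw [hrec k, pow_succ]
        linear_combination (LambdaRing.LambdaOps.lam k e * t ^ k) * hℓt
      rw [Finset.sum_congr rfl hterm,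
        Finset.sum_range_sub (fun k => LambdaRing.LambdaOps.lam k e * t ^ k), ham, ha0]
      ring
    refine ⟨m' + 1, ?_⟩
    have e1 : ℓ - 1 = ℓ * (t + 1) := by linear_combination -hℓt
    rw [e1, mul_pow, hpow, mul_zero]
  obtain ⟨n1, h1⟩ := key 1 (H6_isLine_one P)
  obtain ⟨n2, h2⟩ := key w hw
  have hA : u ^ (max n1 n2) - 1 ∈ nilradical K := by
    have := h1 (max n1 n2) (le_max_left _ _)
    rwa [mul_one] at this
  have hC : u ^ (max n1 n2) * w - 1 ∈ nilradical K := h2 (max n1 n2) (le_max_right _ _)
  have e2 : w - 1 = (u ^ (max n1 n2) * w - 1) - w * (u ^ (max n1 n2) - 1) := by ring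
  rw [← mem_nilradical, e2]
  exact Ideal.sub_mem _ hC (Ideal.mul_mem_left _ _ hA)

end Groth.Agent.S3791
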