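import Groth.Statements.S3792
import Mathlib
import Groth.Agent.Lib.helper6.LambdaBott

set_option autoImplicit false
universe v u
open CategoryTheory CategoryTheory.Limits AlgebraicGeometry
attribute [local instance] HasDerivedCategory.standard
open KRR Groth.Agent.Lib.helper6
set_option linter.style.haveILetI false

namespace Groth.Agent.S3792

/-- Let K be a λ-ring with positive structure having the splitting property, e a positive element and j
≥ 1. Then ψ^j(λ_{-1}(e)) = λ_{-1}(e) · θ^j(e), where λ_{-1}(e) = Σ_{i ≤ ε(e)} (-1)^i λ^i(e), ψ^j is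
the Adams operation and θ^j(e) is Bott's cannibalistic class (the universal polynomial in the λ^i(e)
which is Π (1 + u_i + ⋯ + u_i^{j-1}) on a splitting e = Σ u_i). -/
theorem result (K : Type v) [CommRing K] [LambdaRing.LambdaOps K] (P : LambdaRing.PosStructure K) (hK : LambdaRing.HasSplitting K P) (e : K) (he : e ∈ P.pos) (j : ℕ) (hj : 1 ≤ j) :
    LambdaRing.adams P j (KRR.lamAlt P e) = KRR.lamAlt P e * KRR.bott P j e := by
  obtain ⟨L, F, hF, s, hs, hsum⟩ := H6_split_one hK e he
  apply hF.injective
  have hcard : (Multiset.card s : ℤ) = P.aug e := by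
    rw [← H6_card_of_lines L.posStr s hs, hsum, hF.aug_comp]
  have hm : (P.aug e).toNat = Multiset.card s := by omega
  have hlam : ∀ i, F (LambdaRing.LambdaOps.lam i e) = s.esymm i := by
    intro i
    rw [hF.isLambdaHom, ← hsum, H6_lam_lines _ s hs]
  have hlamAlt : F (KRR.lamAlt P e) =
      ∑ i ∈ Finset.range (Multiset.card s + 1), (-1 : L.carrier) ^ i * s.esymm i := by
    rw [KRR.lamAlt, hm, map_sum]
    refine Finset.sum_congr rfl fun i _ => ?_
    rw [map_mul, map_pow, map_neg, map_one, hlam]
  have hbott : F (KRR.bott P j e) = (s.map fun u => ∑ k ∈ Finset.range j, u ^ k).prod := by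
    unfold KRR.bott
    obtain ⟨m, hm'⟩ : ∃ m, m = (P.aug e).toNat := ⟨_, rfl⟩
    rw [← hm']
    rw [← hm'] at hm
    obtain ⟨U, hU⟩ := H6_exists_fin_of_multiset s m hm.symm
    have h1 := MvPolynomial.comp_aeval_apply (f := fun i : Fin m =>
      LambdaRing.LambdaOps.lam (i.1 + 1) e) F.toIntAlgHom (KRR.bottPoly j m)
    have h2 : (fun i : Fin m => F.toIntAlgHom (LambdaRing.LambdaOps.lam (i.1 + 1) e)) =
        fun i : Fin m => (Finset.univ.val.map U).esymm ((i : ℕ) + 1) := by
      funext i
      rw [hU]
      exact hlam _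
    rw [h2, H6_aeval_bottPoly] at h1
    change F _ = _ at h1
    rw [h1, ← hU, Multiset.map_map]
    rfl
  rw [H6_ext_adams hF, map_mul, hlamAlt, H6_adams_alt_esymm _ j s hs, H6_sum_neg_one_pow_esymm,
    hbott, ← Multiset.prod_map_mul]
  congr 1
  refine Multiset.map_congr rfl fun u _ => ?_
  rw [mul_neg_geom_sum]

end Groth.Agent.S3792
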