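import Groth.Statements.S3795
import Mathlib
import Groth.Agent.Lib.helper6.LambdaPsiGamma4

set_option autoImplicit false
universe v u
open CategoryTheory CategoryTheory.Limits AlgebraicGeometry
attribute [local instance] HasDerivedCategory.standard
open KRR Groth.Agent.Lib.helper6
set_option linter.style.haveILetI false

namespace Groth.Agent.S3795

/-- Let K be a λ-ring with positive structure having the splitting property, j ≥ 2, n ≥ 0 and x ∈ K. If
ψ^j(x) - j^n x lies in ℚF^{n+1} (some positive multiple lies in F^{n+1}, γ-filtration), then x lies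
in ℚF^n (some positive multiple of x lies in F^n). -/
theorem result (K : Type v) [CommRing K] [LambdaRing.LambdaOps K] (P : LambdaRing.PosStructure K) (hK : LambdaRing.HasSplitting K P) (j : ℕ) (hj : 2 ≤ j) (n : ℕ) (x : K)
    (hx : ∃ N : ℕ, 1 ≤ N ∧ (N : K) * (LambdaRing.adams P j x - (j : K) ^ n * x) ∈ LambdaRing.gammaFiltration P (n + 1)) :
    ∃ N : ℕ, 1 ≤ N ∧ (N : K) * x ∈ LambdaRing.gammaFiltration P n := by
  obtain ⟨N0, hN0, hN0x⟩ := hx
  have key : ∀ m, m ≤ n → ∃ N : ℕ, 1 ≤ N ∧ (N : K) * x ∈ LambdaRing.gammaFiltration P m := by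
    intro m
    induction m with
    | zero =>
      intro _
      exact ⟨1, le_refl _, by rw [H6_gammaFiltration_zero]; trivial⟩
    | succ m ih =>
      intro hm
      obtain ⟨M, hM, hMx⟩ := ih (by omega)
      have h1 := H6_adams_sub_pow_mem hK j m ((M : K) * x) hMx
      have h2 : (N0 : K) * (LambdaRing.adams P j x - (j : K) ^ n * x) ∈
          LambdaRing.gammaFiltration P (m + 1) :=
        H6_gammaFiltration_mono P (by omega) hN0x
      have hadd : LambdaRing.adams P j ((M : K) * x) = (M : K) * LambdaRing.adams P j x := by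
        have := map_nsmul (H6_adamsAdd P j) M x
        rw [H6_adamsAdd_apply, H6_adamsAdd_apply, nsmul_eq_mul, nsmul_eq_mul] at this
        exact this
      rw [hadd] at h1
      have hlt : j ^ m < j ^ n := Nat.pow_lt_pow_right (by omega) (by omega)
      refine ⟨N0 * M * (j ^ n - j ^ m), ?_, ?_⟩
      · have : 1 ≤ j ^ n - j ^ m := by omega
        calc 1 = 1 * 1 * 1 := by norm_num
          _ ≤ N0 * M * (j ^ n - j ^ m) := Nat.mul_le_mul (Nat.mul_le_mul hN0 hM) this
      · have e : ((N0 * M * (j ^ n - j ^ m) : ℕ) : K) * x =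
            (M : K) * ((N0 : K) * (LambdaRing.adams P j x - (j : K) ^ n * x)) * (-1) +
            (N0 : K) * ((M : K) * LambdaRing.adams P j x - (j : K) ^ m * ((M : K) * x)) * (-1) * (-1) := by
          rw [Nat.cast_mul, Nat.cast_mul, Nat.cast_sub hlt.le, Nat.cast_pow, Nat.cast_pow]
          ring
        rw [e]
        refine AddSubgroup.add_mem _ ?_ ?_
        · rw [mul_comm _ (-1 : K)]
          exact H6_mul_mem_gammaFiltration P _ _ _ (H6_mul_mem_gammaFiltration P _ _ _ h2)
        · rw [mul_comm _ (-1 : K), mul_comm _ (-1 : K)]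
          exact H6_mul_mem_gammaFiltration P _ _ _ (H6_mul_mem_gammaFiltration P _ _ _
            (H6_mul_mem_gammaFiltration P _ _ _ h1))
  exact key n le_rfl

end Groth.Agent.S3795
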