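import Groth.Statements.S3810
import Mathlib
import Groth.Agent.Lib.helper6.PP16Basic

set_option autoImplicit false
universe u
open scoped TensorProduct
open PP16 Groth.Agent.Lib.helper6
set_option linter.style.haveILetI false

namespace Groth.Agent.S3810

/-- Let B be an A-algebra, K an ideal of B and C = B/K. Then the canonical map P^n_{B/A} → P^n_{C/A} is
surjective and its kernel is the ideal generated by the image of K under the structure map B →
P^n_{B/A} together with the image of K under the principal-part map d^n (the latter is an additive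
subgroup, not a B-submodule, in general). -/
theorem result (n : ℕ) (A B : Type u) [CommRing A] [CommRing B] [Algebra A B]
    (K : Ideal B) :
    Function.Surjective (PP16.map n A B A (B ⧸ K)) ∧
      RingHom.ker (PP16.map n A B A (B ⧸ K)) =
        K.map (algebraMap B (PP16.P n A B)) ⊔ K.map (PP16.dn n A B) := by
  have hs : Function.Surjective (algebraMap B (B ⧸ K)) := Ideal.Quotient.mk_surjective
  obtain ⟨h1, h2⟩ := H6_map_surj_ker A B A (B ⧸ K) n hs
  refine ⟨h1, ?_⟩
  rw [h2]
  have hT : tensorMap A B A (B ⧸ K) =
      Algebra.TensorProduct.map (Ideal.Quotient.mkₐ A K) (Ideal.Quotient.mkₐ A K) := by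
    apply Algebra.TensorProduct.ext'
    intro b c
    rw [tensorMap_tmul]
    rfl
  have hker : RingHom.ker (Ideal.Quotient.mkₐ A K) = K := by
    ext x
    simp [RingHom.mem_ker, Ideal.Quotient.eq_zero_iff_mem]
  have hk : RingHom.ker (tensorMap A B A (B ⧸ K)) =
      K.map (Algebra.TensorProduct.includeLeft : B →ₐ[A] B ⊗[A] B) ⊔
        K.map (Algebra.TensorProduct.includeRight : B →ₐ[A] B ⊗[A] B) := by
    rw [hT, Algebra.TensorProduct.map_ker _ _ (Ideal.Quotient.mkₐ_surjective A K)
      (Ideal.Quotient.mkₐ_surjective A K), hker]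
  rw [hk, Ideal.map_sup]
  congr 1
  · rw [show Ideal.map (Algebra.TensorProduct.includeLeft : B →ₐ[A] B ⊗[A] B) K =
      Ideal.map ((Algebra.TensorProduct.includeLeft : B →ₐ[A] B ⊗[A] B) : B →+* B ⊗[A] B) K from rfl,
      Ideal.map_map]
    rfl
  · rw [show Ideal.map (Algebra.TensorProduct.includeRight : B →ₐ[A] B ⊗[A] B) K =
      Ideal.map ((Algebra.TensorProduct.includeRight : B →ₐ[A] B ⊗[A] B) : B →+* B ⊗[A] B) K from rfl,
      Ideal.map_map]
    rfl

end Groth.Agent.S3810
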