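import Groth.Statements.S5002
import Groth.Statements.S5002
import Mathlib

set_option autoImplicit false
universe u
open PP16

namespace Groth.Agent.S5002

/-- Suppose A is a commutative ring and B is a finite-type A-algebra. For each n, the ring of principal
parts of order n of B over A is then finitely generated as a B-module, where B acts via the first
factor. -/
theorem result (n : ℕ) (A B : Type u) [CommRing A] [CommRing B] [Algebra A B]
    [Algebra.FiniteType A B] : Module.Finite B (PP16.P n A B) := by
  classical
  haveI : Algebra.FiniteType B (PP16.P n A B) :=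
    Algebra.FiniteType.of_surjective
      (Ideal.Quotient.mkₐ B ((KaehlerDifferential.ideal A B) ^ (n + 1)))
      (Ideal.Quotient.mkₐ_surjective B _)
  haveI : Algebra.IsIntegral B (PP16.P n A B) := by
    refine ⟨fun x => ?_⟩
    obtain ⟨y, rfl⟩ := Ideal.Quotient.mk_surjective x
    set b : B := Algebra.TensorProduct.lmul' A y with hb
    have hy : y - b ⊗ₜ[A] (1 : B) ∈ KaehlerDifferential.ideal A B := by
      rw [KaehlerDifferential.ideal, RingHom.mem_ker, map_sub, hb,
        Algebra.TensorProduct.lmul'_apply_tmul, mul_one, sub_self]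
    have hy' : (y - b ⊗ₜ[A] (1 : B)) ^ (n + 1) ∈ (KaehlerDifferential.ideal A B) ^ (n + 1) :=
      Ideal.pow_mem_pow hy _
    refine ⟨(Polynomial.X - Polynomial.C b) ^ (n + 1), (Polynomial.monic_X_sub_C b).pow _, ?_⟩
    rw [← Polynomial.aeval_def, map_pow, map_sub, Polynomial.aeval_X, Polynomial.aeval_C]
    have : algebraMap B (PP16.P n A B) b =
        Ideal.Quotient.mk ((KaehlerDifferential.ideal A B) ^ (n + 1)) (b ⊗ₜ[A] (1 : B)) := rfl
    rw [this, ← map_sub, ← map_pow, Ideal.Quotient.eq_zero_iff_mem]
    exact hy'
  exact Algebra.IsIntegral.finite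

end Groth.Agent.S5002
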