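import Groth.Statements.S3819
import Mathlib
import Groth.Agent.Lib.helper6.PP16Char0D

set_option autoImplicit false
universe u
open scoped TensorProduct
open PP16 Groth.Agent.Lib.helper6
set_option linter.style.haveILetI false

namespace Groth.Agent.S3819

/-- Let B be an A-algebra containing the rational numbers (a scheme of characteristic 0) whose module of
differentials over A is a free B-module, of any rank. Then B is differentially smooth over A. -/
theorem result (A B : Type u) [CommRing A] [CommRing B] [Algebra A B] [Algebra ℚ B]
    (hΩ : Module.Free B (KaehlerDifferential A B)) : PP16.IsDiffSmooth A B := by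
  haveI : Module.Free B (KaehlerDifferential A B) := hΩ
  haveI : Module.Projective B (KaehlerDifferential A B) := Module.Projective.of_free
  obtain ⟨L, hL, hsec⟩ := H6_exists_section A B
  have hLD := H6_section_D A B L hL hsec
  refine ⟨inferInstance, fun ι' _ => ⟨H6_gPhi A B L hL ι', H6_gPhi_D A B L hL ι' hLD, ?_,
    H6_gPhi_surjective A B L hL ι' hLD⟩⟩
  exact H6_gPhi_injective_of_free A B L hL hsec ι'
    (Module.Free.chooseBasis B (KaehlerDifferential A B))

end Groth.Agent.S3819
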