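import Groth.Statements.S3825
import Mathlib
import Groth.Agent.Lib.helper6.QReg6

set_option autoImplicit false
universe u
open QReg16

namespace Groth.Agent.S3825

/-- a) iff c) (affine local form): let A be a local ring and I a proper ideal generated by some
quasi-regular sequence. For a finite family (f_i) of elements of I, the following are equivalent:
(a) (f_i) is a quasi-regular sequence generating I; (c) the classes of the f_i form a basis of the
A/I-module I/I² (equivalently, b): (f_i) is a minimal system of generators of I). -/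
theorem result {A : Type u} [CommRing A] [IsLocalRing A]
    (I : Ideal A) (hI : I ≤ IsLocalRing.maximalIdeal A)
    (hq : ∃ (r : ℕ) (g : Fin r → A), CAlgX.IsQuasiRegular g ∧ Ideal.span (Set.range g) = I)
    {m : ℕ} (f : Fin m → I) :
    (CAlgX.IsQuasiRegular (fun i => (f i : A)) ∧ Ideal.span (Set.range fun i => (f i : A)) = I) ↔
      (LinearIndependent (A ⧸ I) (fun i => I.toCotangent (f i)) ∧
        Submodule.span (A ⧸ I) (Set.range fun i => I.toCotangent (f i)) = ⊤) := by
  classical
  obtain ⟨r, g, hg, hgI⟩ := hq
  constructor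
  · rintro ⟨h1, h2⟩
    exact Groth.Agent.Lib.helper6.H6_qr_cotangent_basis I f h1 h2
  · rintro ⟨hli, hsp⟩
    have hfg : I.FG := by
      rw [← hgI]
      exact ⟨(Finset.univ.image g), by simp⟩
    have hne : I ≠ ⊤ := fun h =>
      (IsLocalRing.maximalIdeal.isMaximal A).ne_top (top_le_iff.1 (h ▸ hI))
    have hjac : I ≤ Ideal.jacobson ⊥ := by
      rw [IsLocalRing.jacobson_eq_maximalIdeal ⊥ bot_ne_top]
      exact hI
    have hspan : Ideal.span (Set.range fun i => (f i : A)) = I :=
      Groth.Agent.Lib.helper6.H6_span_eq_of_cotangent_span I hfg hjac f hsp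
    refine ⟨?_, hspan⟩
    -- the sequence g as a family in I
    let g' : Fin r → I := fun j => ⟨g j, by rw [← hgI]; exact Ideal.subset_span (Set.mem_range_self j)⟩
    have hg' : CAlgX.IsQuasiRegular (fun j => (g' j : A)) := hg
    have hgI' : Ideal.span (Set.range fun j => (g' j : A)) = I := hgI
    obtain ⟨hli', hsp'⟩ := Groth.Agent.Lib.helper6.H6_qr_cotangent_basis I g' hg' hgI'
    haveI : Nontrivial (A ⧸ I) := Ideal.Quotient.nontrivial_iff.2 hne
    let b1 := Module.Basis.mk hli hsp.ge
    let b2 := Module.Basis.mk hli' hsp'.ge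
    have hcard : m = r := by
      have := Fintype.card_congr (b1.indexEquiv b2)
      simpa using this
    subst hcard
    exact Groth.Agent.Lib.helper6.H6_qr_of_span_eq g (fun i => (f i : A)) hg (hspan.trans hgI.symm)

end Groth.Agent.S3825
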