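import Groth.Statements.S3866
import Mathlib

set_option autoImplicit false
universe u
open AdicRing

namespace Groth.Agent.S3866

/-- Let A be a Noetherian ring that is complete and separated for the J-adic topology, where J is an
ideal of A. Then every finite A-module M is itself complete and separated for the J-adic topology.
(This is the algebraic fact behind the statement that the global sections of the sheaf M^Δ on the
formal spectrum of A recover M.) -/
theorem result (A : Type u) [CommRing A] [IsNoetherianRing A]
    (J : Ideal A) [IsAdicComplete J A] (M : Type u) [AddCommGroup M] [Module A M] [Module.Finite A M] :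
    IsAdicComplete J M := by
  rw [← AdicCompletion.of_bijective_iff]
  have hA : Function.Bijective (AdicCompletion.of J A) :=
    AdicCompletion.of_bijective_iff.mpr inferInstance
  let eA : A ≃ₗ[A] AdicCompletion J A := LinearEquiv.ofBijective (AdicCompletion.of J A) hA
  have hcomp : (AdicCompletion.of J M : M → AdicCompletion J M) =
      (AdicCompletion.ofTensorProduct J M) ∘ (LinearEquiv.rTensor M eA) ∘
        (TensorProduct.lid A M).symm := by
    ext1 x
    simp only [Function.comp_apply, TensorProduct.lid_symm_apply, LinearEquiv.rTensor_tmul,
      AdicCompletion.ofTensorProduct_tmul, eA, LinearEquiv.ofBijective_apply]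
    have h1 : AdicCompletion.of J A 1 = 1 := by
      ext n
      simp
    rw [h1, one_smul]
  rw [hcomp]
  exact (AdicCompletion.ofTensorProduct_bijective_of_finite_of_isNoetherian J M).comp
    ((LinearEquiv.rTensor M eA).bijective.comp (TensorProduct.lid A M).symm.bijective)

end Groth.Agent.S3866
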