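import Groth.Statements.S3873
import Mathlib

set_option autoImplicit false
universe u
open FCompl

namespace Groth.Agent.S3873

open AlgebraicGeometry in
/-- Its content on the affine schemes underlying the formal spectra: the inverse image ideal of b^Δ is
(bA)^Δ, read on Spec: For a ring homomorphism φ : B -> A and an ideal b of B, the inverse image
along Spec(φ) of the ideal sheaf of b on Spec B is the ideal sheaf on Spec A of the ideal generated
by φ(b). -/
theorem result (A B : Type u) [CommRing A] [CommRing B] (φ : B →+* A) (𝔟 : Ideal B) :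
    (FSch.idealSpec B 𝔟).comap (Spec.map (CommRingCat.ofHom φ)) = FSch.idealSpec A (𝔟.map φ) := by
  have hw : CategoryTheory.CategoryStruct.comp (CommRingCat.ofHom φ)
        (CommRingCat.ofHom (Ideal.Quotient.mk (𝔟.map φ))) =
      CategoryTheory.CategoryStruct.comp (CommRingCat.ofHom (Ideal.Quotient.mk 𝔟))
        (CommRingCat.ofHom (Ideal.quotientMap (𝔟.map φ) φ Ideal.le_comap_map)) := by
    ext x
    simp
  have hvan : ∀ (s : CategoryTheory.Limits.PushoutCocone (CommRingCat.ofHom φ)
      (CommRingCat.ofHom (Ideal.Quotient.mk 𝔟))),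
      ∀ a ∈ 𝔟.map φ, s.inl.hom a = 0 := by
    intro s
    have hle : 𝔟.map φ ≤ RingHom.ker s.inl.hom := by
      rw [Ideal.map_le_iff_le_comap]
      intro b hb
      rw [Ideal.mem_comap, RingHom.mem_ker]
      have h1 := congrArg (fun f => f.hom b) s.condition
      simp only [CommRingCat.hom_comp, CommRingCat.hom_ofHom, RingHom.comp_apply] at h1
      rw [h1, Ideal.Quotient.eq_zero_iff_mem.mpr hb, map_zero]
    intro a ha
    exact RingHom.mem_ker.mp (hle ha)
  have hpo : CategoryTheory.IsPushout (CommRingCat.ofHom φ)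
      (CommRingCat.ofHom (Ideal.Quotient.mk 𝔟))
      (CommRingCat.ofHom (Ideal.Quotient.mk (𝔟.map φ)))
      (CommRingCat.ofHom (Ideal.quotientMap (𝔟.map φ) φ Ideal.le_comap_map)) := by
    refine ⟨⟨hw⟩, ⟨CategoryTheory.Limits.PushoutCocone.IsColimit.mk hw
      (fun s => CommRingCat.ofHom (Ideal.Quotient.lift (𝔟.map φ) s.inl.hom (hvan s))) ?_ ?_ ?_⟩⟩
    · intro s
      ext x
      simp
    · intro s
      ext x
      have h1 := congrArg (fun f => f.hom x) s.condition
      simp only [CommRingCat.hom_comp, CommRingCat.hom_ofHom, RingHom.comp_apply] at h1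
      simp [h1]
    · intro s m h1 h2
      ext x
      have h3 := congrArg (fun f => f.hom x) h1
      simp only [CommRingCat.hom_comp, CommRingCat.hom_ofHom, RingHom.comp_apply] at h3
      simp [h3]
  have hpb := AlgebraicGeometry.isPullback_SpecMap_of_isPushout _ _ _ _ hpo
  haveI : AlgebraicGeometry.IsClosedImmersion
      (AlgebraicGeometry.Spec.map (CommRingCat.ofHom (Ideal.Quotient.mk 𝔟))) :=
    AlgebraicGeometry.IsClosedImmersion.spec_of_surjective _ Ideal.Quotient.mk_surjective
  unfold FSch.idealSpec
  rw [← AlgebraicGeometry.Scheme.IdealSheafData.ker_fst_of_isClosedImmersion,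
    ← AlgebraicGeometry.Scheme.Hom.ker_comp_of_isIso hpb.isoPullback.hom
      (CategoryTheory.Limits.pullback.fst _ _),
    hpb.isoPullback_hom_fst]

end Groth.Agent.S3873
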