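import Groth.Statements.S3894

set_option autoImplicit false
universe u
open CategoryTheory CategoryTheory.Limits Opposite
open Tors

namespace Groth.Agent.S3894

/-- A torsor P under an abelian sheaf G is trivial, i.e. equivariantly isomorphic to G acting on itself
by translations, if and only if P has a global section (a morphism from the final sheaf of sets). -/
theorem result {C : Type u} [SmallCategory C] {J : GrothendieckTopology C}
    {G : Sheaf J AddCommGrpCat.{u}} (T : Tors.Torsor G) : T.IsTrivial ↔ T.HasSection := by
  constructor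
  · rintro ⟨e, he⟩
    refine ⟨⟨{ app := fun U => TypeCat.ofHom (fun _ => e.hom.hom.app U (0 : G.obj.obj U))
               naturality := ?_ }⟩⟩
    intro U V f
    ext x
    have h : e.hom.hom.app V (G.obj.map f (0 : G.obj.obj U)) =
        T.P.obj.map f (e.hom.hom.app U (0 : G.obj.obj U)) :=
      ConcreteCategory.congr_hom (e.hom.hom.naturality f) (0 : G.obj.obj U)
    change e.hom.hom.app V (0 : G.obj.obj V) = T.P.obj.map f (e.hom.hom.app U (0 : G.obj.obj U))
    rw [← h]
    congr 1
    exact (map_zero (G.obj.map f).hom).symm
  · rintro ⟨s⟩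
    -- the unique sections of the terminal sheaf
    have hterm : ∀ U : Cᵒᵖ, IsTerminal ((⊤_ (Sheaf J (Type u))).obj.obj U) := fun U =>
      IsTerminal.isTerminalObj (sheafToPresheaf J (Type u) ⋙ (evaluation Cᵒᵖ (Type u)).obj U) _
        terminalIsTerminal
    let uq : ∀ U : Cᵒᵖ, Unique ((⊤_ (Sheaf J (Type u))).obj.obj U) := fun U =>
      (Types.isTerminalEquivUnique _) (hterm U)
    let σ : ∀ U : Cᵒᵖ, T.P.obj.obj U := fun U => s.hom.app U (uq U).default
    have hσ : ∀ {U V : Cᵒᵖ} (f : U ⟶ V), T.P.obj.map f (σ U) = σ V := by
      intro U V f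
      have h : s.hom.app V ((⊤_ (Sheaf J (Type u))).obj.map f (uq U).default) =
          T.P.obj.map f (s.hom.app U (uq U).default) :=
        ConcreteCategory.congr_hom (s.hom.naturality f) (uq U).default
      change T.P.obj.map f (s.hom.app U (uq U).default) = s.hom.app V (uq V).default
      rw [← h]
      congr 1
      exact (uq V).uniq _
    let eqv : ∀ U : Cᵒᵖ, G.obj.obj U ≃ T.P.obj.obj U := fun U =>
      { toFun := fun g => T.vadd g (σ U)
        invFun := fun p => (T.free_transitive (σ U) p).choose
        left_inv := fun g => ((T.free_transitive (σ U) (T.vadd g (σ U))).choose_spec.2 g rfl).symm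
        right_inv := fun p => (T.free_transitive (σ U) p).choose_spec.1 }
    let e0 : ((sheafCompose J (forget AddCommGrpCat.{u})).obj G).obj ≅ T.P.obj :=
      NatIso.ofComponents (fun U => (eqv U).toIso) (by
        intro U V f
        ext g
        change T.vadd (G.obj.map f g) (σ V) = T.P.obj.map f (T.vadd g (σ U))
        rw [T.map_vadd, hσ])
    refine ⟨(fullyFaithfulSheafToPresheaf J (Type u)).preimageIso e0, ?_⟩
    intro U g h
    change T.vadd (g + h) (σ U) = T.vadd g (T.vadd h (σ U))
    exact T.add_vadd g h (σ U)

end Groth.Agent.S3894
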