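import Groth.Statements.S4196
import Mathlib

set_option autoImplicit false
open CategoryTheory AlgebraicGeometry Topology TopologicalSpace
open An

namespace Groth.Agent.S4196

/-- The direction from schemes to spaces: an open immersion f : X → Y of schemes locally of finite type
over ℂ, compatible with the structure morphisms, induces an open embedding X(ℂ) → Y(ℂ) of the
associated spaces of complex points. (The published converse concerns analytic spaces, not bare
topological spaces, and is not stated here.) -/
theorem result (X Y : Scheme.{0}) [X.Over An.SC] [LocallyOfFiniteType (X ↘ An.SC)]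
    [Y.Over An.SC] [LocallyOfFiniteType (Y ↘ An.SC)] (f : X ⟶ Y) [f.IsOver An.SC] [IsOpenImmersion f] :
    Topology.IsOpenEmbedding (An.Pts.map f) := by
  have hinj : Function.Injective (An.Pts.map f) := by
    intro x x' h
    have h1 : x.1 ≫ f = x'.1 ≫ f := congrArg Subtype.val h
    exact Subtype.ext ((cancel_mono f).1 h1)
  have hcongr : ∀ (U U' : X.Opens) (h : U' = U) (s : Γ(X, U)) (V : Set ℂ),
      An.Pts.basicSet U' (X.presheaf.map (eqToHom h).op s) V = An.Pts.basicSet U s V := by
    intro U U' h s V
    subst h
    simp
  have hrange : Set.range (An.Pts.map f) = An.Pts.pt ⁻¹' (f.opensRange : Set Y) := by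
    ext y
    constructor
    · rintro ⟨x, rfl⟩
      change (An.Pts.map f x).pt ∈ Set.range f
      rw [An.Pts.pt_map]
      exact ⟨x.pt, rfl⟩
    · intro hy
      have hy' : y.pt ∈ Set.range f := hy
      have hsub : Set.range y.1 ⊆ Set.range f := by
        rintro _ ⟨p, rfl⟩
        rw [An.eq_cpt p]
        exact hy'
      refine ⟨⟨IsOpenImmersion.lift f y.1 hsub, ?_⟩, ?_⟩
      · rw [← comp_over f An.SC, ← Category.assoc, IsOpenImmersion.lift_fac]
        exact y.2
      · exact Subtype.ext (IsOpenImmersion.lift_fac f y.1 hsub)
  have hind : Topology.IsInducing (An.Pts.map f) := by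
    constructor
    apply le_antisymm
    · exact (An.Pts.continuous_map f).le_induced
    · change TopologicalSpace.induced (An.Pts.map f) _ ≤ TopologicalSpace.generateFrom _
      apply le_generateFrom
      rintro _ ⟨U, s, V, hV, rfl⟩
      have h1 : An.Pts.map f ⁻¹' An.Pts.basicSet (f ''ᵁ U) ((f.appIso U).inv s) V =
          An.Pts.basicSet U s V := by
        rw [An.Pts.preimage_basicSet]
        have h2 : f.app (f ''ᵁ U) ((f.appIso U).inv s) =
            X.presheaf.map (eqToHom (f.preimage_image_eq U)).op s := by
          exact f.appIso_inv_app_apply U s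
        rw [h2]
        exact hcongr U _ (f.preimage_image_eq U) s V
      rw [← h1]
      exact isOpen_induced (An.Pts.isOpen_basicSet _ _ hV)
  refine ⟨⟨hind, hinj⟩, ?_⟩
  rw [hrange]
  exact An.Pts.isOpen_preimage_pt f.opensRange

end Groth.Agent.S4196
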