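import Groth.Statements.S4200
import Mathlib
import Groth.Agent.Lib.helper2.AnLift

set_option autoImplicit false
open CategoryTheory AlgebraicGeometry Topology TopologicalSpace
open An

namespace Groth.Agent.S4200

/-- The direction from schemes to spaces: a closed immersion f : X → Y of schemes locally of finite type
over ℂ induces a closed embedding X(ℂ) → Y(ℂ). -/
theorem result (X Y : Scheme.{0}) [X.Over An.SC] [LocallyOfFiniteType (X ↘ An.SC)]
    [Y.Over An.SC] [LocallyOfFiniteType (Y ↘ An.SC)] (f : X ⟶ Y) [f.IsOver An.SC] [IsClosedImmersion f] :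
    Topology.IsClosedEmbedding (An.Pts.map f) := by
  have hinj : Function.Injective (An.Pts.map f) := by
    intro x x' h
    have h1 : x.1 ≫ f = x'.1 ≫ f := congrArg Subtype.val h
    exact Subtype.ext ((cancel_mono f).1 h1)
  have hind : Topology.IsInducing (An.Pts.map f) := by
    constructor
    apply le_antisymm
    · exact (An.Pts.continuous_map f).le_induced
    · change TopologicalSpace.induced (An.Pts.map f) _ ≤ TopologicalSpace.generateFrom _
      apply le_generateFrom
      rintro _ ⟨U, s, V, hV, rfl⟩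
      refine (@isOpen_iff_forall_mem_open _ (TopologicalSpace.induced (An.Pts.map f) _) _).2 ?_
      intro x hx
      obtain ⟨hxU, hxV⟩ := hx
      obtain ⟨U', hU'o, hU'⟩ := (f.isEmbedding.isInducing.isOpen_iff).1 U.2
      have hy₀ : f x.pt ∈ U' := by
        have : x.pt ∈ f ⁻¹' U' := by rw [hU']; exact hxU
        exact this
      obtain ⟨_, ⟨W, hW, rfl⟩, hyW, hWU'⟩ :=
        Y.isBasis_affineOpens.exists_subset_of_mem_open hy₀ hU'o
      have hWaff : IsAffineOpen W := hW
      have hle : f ⁻¹ᵁ W ≤ U := by
        intro p hp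
        have h1 : f p ∈ U' := hWU' hp
        have h2 : p ∈ f ⁻¹' U' := h1
        rw [hU'] at h2
        exact h2
      obtain ⟨t, ht⟩ := f.app_surjective W hWaff (X.presheaf.map (homOfLE hle).op s)
      have hpre : An.Pts.map f ⁻¹' An.Pts.basicSet W t V =
          An.Pts.basicSet U s V ∩ An.Pts.pt ⁻¹' ((f ⁻¹ᵁ W : X.Opens) : Set X) := by
        rw [An.Pts.preimage_basicSet, ht, Groth.Agent.H2.H2an_basicSet_restrict]
      refine ⟨An.Pts.map f ⁻¹' An.Pts.basicSet W t V, ?_, ?_, ?_⟩
      · rw [hpre]
        exact Set.inter_subset_left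
      · exact isOpen_induced (An.Pts.isOpen_basicSet W t hV)
      · rw [hpre]
        exact ⟨⟨hxU, hxV⟩, hyW⟩
  refine ⟨⟨hind, hinj⟩, ?_⟩
  rw [Groth.Agent.H2.H2an_range_map f]
  exact f.isClosedEmbedding.isClosed_range.preimage An.Pts.continuous_pt

end Groth.Agent.S4200
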