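import Groth.Statements.S4201
import Mathlib
import Groth.Agent.Lib.helper2.AnLift
import Groth.Agent.S4196
import Groth.Agent.S4200

set_option autoImplicit false
open CategoryTheory AlgebraicGeometry Topology TopologicalSpace
open An

namespace Groth.Agent.S4201

/-- The direction from schemes to spaces: an immersion f : X → Y of schemes locally of finite type over
ℂ induces an embedding X(ℂ) → Y(ℂ) whose image is locally closed. -/
theorem result (X Y : Scheme.{0}) [X.Over An.SC] [LocallyOfFiniteType (X ↘ An.SC)]
    [Y.Over An.SC] [LocallyOfFiniteType (Y ↘ An.SC)] (f : X ⟶ Y) [f.IsOver An.SC] [IsImmersion f] :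
    Topology.IsEmbedding (An.Pts.map f) ∧ IsLocallyClosed (Set.range (An.Pts.map f)) := by
  let U : Scheme.{0} := f.coborderRange.toScheme
  letI : U.Over An.SC := ⟨f.coborderRange.ι ≫ (Y ↘ An.SC)⟩
  haveI : f.coborderRange.ι.IsOver An.SC := ⟨rfl⟩
  haveI : f.liftCoborder.IsOver An.SC := ⟨by
    change f.liftCoborder ≫ f.coborderRange.ι ≫ (Y ↘ An.SC) = X ↘ An.SC
    rw [← Category.assoc, f.liftCoborder_ι, comp_over]⟩
  haveI : LocallyOfFiniteType (U ↘ An.SC) := by
    change LocallyOfFiniteType (f.coborderRange.ι ≫ (Y ↘ An.SC))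
    infer_instance
  have hcl := Groth.Agent.S4200.result X U f.liftCoborder
  have hop := Groth.Agent.S4196.result U Y f.coborderRange.ι
  have hfun : An.Pts.map f = An.Pts.map f.coborderRange.ι ∘ An.Pts.map f.liftCoborder := by
    funext x
    apply Subtype.ext
    change x.1 ≫ f = (x.1 ≫ f.liftCoborder) ≫ f.coborderRange.ι
    rw [Category.assoc, f.liftCoborder_ι]
  constructor
  · rw [hfun]
    exact hop.isEmbedding.comp hcl.isEmbedding
  · rw [Groth.Agent.H2.H2an_range_map f]
    exact (IsImmersion.isLocallyClosed_range (f := f)).preimage An.Pts.continuous_pt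

end Groth.Agent.S4201
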