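import Groth.Statements.S4243
import Mathlib

set_option autoImplicit false
open SGA4h

namespace Groth.Agent.S4243

/-- Let k be a finite field with q elements and P a nonzero homogeneous polynomial of degree d in r+1
variables over k. If P vanishes at every point of k^{r+1} (that is, the hypersurface P = 0 in
projective r-space passes through every rational point), then d ≥ q + 1. -/
theorem result (k : Type) [Field k] [Fintype k] (r d : ℕ)
    (P : MvPolynomial (Fin (r + 1)) k) (hP : P.IsHomogeneous d) (hP0 : P ≠ 0)
    (hvan : ∀ x : Fin (r + 1) → k, MvPolynomial.eval x P = 0) :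
    Fintype.card k + 1 ≤ d := by
  classical
  by_contra hlt
  push Not at hlt
  have hq : d ≤ Fintype.card k := by omega
  have hq1 : 1 < Fintype.card k := Fintype.one_lt_card
  obtain ⟨t, ht⟩ : ∃ t, MvPolynomial.coeff t P ≠ 0 := MvPolynomial.exists_coeff_ne_zero hP0
  have hdeg : ∀ t', MvPolynomial.coeff t' P ≠ 0 → t'.degree = d := by
    intro t' ht'
    have := hP ht'
    rw [Finsupp.degree_eq_weight_one]
    exact this
  have htot : P.totalDegree = d := hP.totalDegree hP0
  have hshape : ∀ t', MvPolynomial.coeff t' P ≠ 0 →
      ∃ i, t' = Finsupp.single i (Fintype.card k) ∧ d = Fintype.card k := by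
    intro t' ht'
    have hd' := hdeg t' ht'
    by_contra hno
    push Not at hno
    have hall : ∀ i, t' i < Fintype.card k := by
      intro i
      by_contra hi
      push Not at hi
      have hle : t' i ≤ t'.degree := by
        rw [Finsupp.degree_eq_sum]
        exact Finset.single_le_sum (f := fun j => t' j) (fun j _ => Nat.zero_le _) (Finset.mem_univ i)
      have hti : t' i = Fintype.card k := by omega
      have hdq : d = Fintype.card k := by omega
      refine hno i ?_ hdq
      ext j
      by_cases hj : j = i
      · subst hj; simp [hti]
      · rw [Finsupp.single_apply, if_neg (Ne.symm hj)]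
        have hsum : t'.degree = ∑ j, t' j := Finsupp.degree_eq_sum t'
        have h2 : t' i + t' j ≤ ∑ j, t' j := by
          have hsub : ({i, j} : Finset (Fin (r + 1))) ⊆ Finset.univ := Finset.subset_univ _
          have := Finset.sum_le_sum_of_subset (f := fun j => t' j) hsub
          rw [Finset.sum_pair (Ne.symm hj)] at this
          exact this
        omega
    obtain ⟨s, -, hs⟩ := MvPolynomial.combinatorial_nullstellensatz_exists_eval_nonzero P t' ht'
      (by rw [htot, hd']) (fun _ => Finset.univ) (fun i => by simpa using hall i)
    exact hs (hvan s)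
  obtain ⟨i, hti, hdq⟩ := hshape t ht
  have hev := hvan (Pi.single i 1)
  rw [MvPolynomial.eval_eq'] at hev
  rw [Finset.sum_eq_single t] at hev
  · have hprod : ∏ j, (Pi.single i (1 : k) : Fin (r + 1) → k) j ^ t j = 1 := by
      apply Finset.prod_eq_one
      intro j _
      by_cases hj : j = i
      · subst hj; simp
      · rw [hti, Finsupp.single_apply, if_neg (Ne.symm hj), pow_zero]
    rw [hprod, mul_one] at hev
    exact ht hev
  · intro t' ht' hne
    have hc : MvPolynomial.coeff t' P ≠ 0 := MvPolynomial.mem_support_iff.mp ht'
    obtain ⟨i', hti', -⟩ := hshape t' hc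
    have hii : i' ≠ i := by
      rintro rfl
      exact hne (hti'.trans hti.symm)
    have : ∏ j, (Pi.single i (1 : k) : Fin (r + 1) → k) j ^ t' j = 0 := by
      apply Finset.prod_eq_zero (Finset.mem_univ i')
      rw [Pi.single_apply, if_neg hii, hti', Finsupp.single_apply, if_pos rfl]
      exact zero_pow (by omega)
    rw [this, mul_zero]
  · intro hnot
    exact absurd (MvPolynomial.mem_support_iff.mpr ht) hnot

end Groth.Agent.S4243
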