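import Groth.Statements.S4337
import Groth.Statements.S4337
import Groth.Agent.Lib.helper9.H9_LinTopUnit
import Groth.Agent.Lib.helper9.H9_LenTensorFF

set_option autoImplicit false
universe u
open LinTop

namespace Groth.Agent.S4337

/-- Let A be an admissible ring, J an ideal of definition, and u : M -> N a homomorphism of A-modules
with N of finite type. Then u is surjective if and only if u tensored with A/J is surjective. -/
theorem result
    (A : Type u) [CommRing A] [UniformSpace A] [IsUniformAddGroup A] [IsTopologicalRing A]
    (hA : LinTop.IsAdmissible A) (J : Ideal A) (hJ : LinTop.IsIdealOfDefinition A J)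
    (M N : Type u) [AddCommGroup M] [Module A M] [AddCommGroup N] [Module A N] [Module.Finite A N]
    (u : M →ₗ[A] N) :
    Function.Surjective u ↔ Function.Surjective (u.rTensor (A ⧸ J)) := by
  classical
  constructor
  · intro h
    exact LinearMap.rTensor_surjective _ h
  · intro h
    have hJac : J ≤ Ideal.jacobson ⊥ := by
      intro x hx
      rw [Ideal.mem_jacobson_bot]
      intro y
      have : x * y + 1 = 1 - (-(x * y)) := by ring
      rw [this]
      exact Groth.Agent.H9_LinTopUnit.isUnit_one_sub hA J hJ _ (J.neg_mem (J.mul_mem_right y hx))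
    have hsup : (⊤ : Submodule A N) ≤ LinearMap.range u ⊔ J • (⊤ : Submodule A N) := by
      intro n _
      -- the element n ⊗ 1
      obtain ⟨z, hz⟩ := h (n ⊗ₜ[A] (1 : A ⧸ J))
      obtain ⟨m, rfl⟩ := Groth.Agent.H9_LenTensorFF.toTensorQuot_surjective (A := A) (B := A) M J z
      rw [Groth.Agent.H9_LenTensorFF.toTensorQuot_apply, LinearMap.rTensor_tmul] at hz
      have hz' : ((n - u m) ⊗ₜ[A] (1 : A ⧸ J) : TensorProduct A N (A ⧸ J)) = 0 := by
        rw [TensorProduct.sub_tmul, hz, sub_self]
      have h1 : (1 : A ⧸ J) = Ideal.Quotient.mk J 1 := rfl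
      have hmem : n - u m ∈ J • (⊤ : Submodule A N) := by
        have := congrArg (TensorProduct.tensorQuotEquivQuotSMul N J) hz'
        rw [h1, TensorProduct.tensorQuotEquivQuotSMul_tmul_mk, one_smul, map_zero,
          Submodule.Quotient.mk_eq_zero] at this
        exact this
      have : n = u m + (n - u m) := by abel
      rw [this]
      exact Submodule.add_mem_sup ⟨m, rfl⟩ hmem
    have hfg : (⊤ : Submodule A N).FG := Module.finite_def.mp inferInstance
    have := Submodule.le_of_le_smul_of_le_jacobson_bot hfg hJac hsup
    exact LinearMap.range_eq_top.mp (top_le_iff.mp this)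

end Groth.Agent.S4337
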