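import Groth.Statements.S4364
import Mathlib
import Groth.Agent.Lib.helper2.SpreadUnique

set_option autoImplicit false
universe u
open FinCond

namespace Groth.Agent.S4364

open AlgebraicGeometry in
open CategoryTheory in
/-- Let X and Y be S-schemes with Y locally of finite type over S, and let f, g : X -> Y be S-morphisms.
If f x = g x for some point x and the two induced homomorphisms of local rings O_{Y, f x} -> O_{X,
x} coincide, then f and g coincide on an open neighbourhood of x. No condition is imposed on X. (The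
published statement assumes Y of finite type over S; this row assumes Y only locally of finite type
over S, which is all the published proof uses.) -/
theorem result
    {X Y S : Scheme.{u}} (sX : X ⟶ S) (sY : Y ⟶ S) [LocallyOfFiniteType sY]
    (f g : X ⟶ Y) (hf : f ≫ sY = sX) (hg : g ≫ sY = sX) {x : X} (e : f x = g x)
    (H : f.stalkMap x =
      Y.presheaf.stalkSpecializes (Inseparable.of_eq e.symm).specializes ≫ g.stalkMap x) :
    ∃ U : X.Opens, x ∈ U ∧ U.ι ≫ f = U.ι ≫ g := by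
  classical
  -- affine opens
  obtain ⟨_, ⟨W : S.Opens, hW, rfl⟩, hxW, -⟩ :=
    S.isBasis_affineOpens.exists_subset_of_mem_open (Set.mem_univ (sX x)) isOpen_univ
  have hfxW : f x ∈ sY ⁻¹ᵁ W := by
    change sY (f x) ∈ W
    rw [← Scheme.Hom.comp_apply, hf]; exact hxW
  obtain ⟨_, ⟨V : Y.Opens, hV, rfl⟩, hxV, hVW⟩ :=
    Y.isBasis_affineOpens.exists_subset_of_mem_open hfxW (sY ⁻¹ᵁ W).2
  have hxV' : g x ∈ V := e ▸ hxV
  obtain ⟨_, ⟨U₀ : X.Opens, hU₀, rfl⟩, hxU₀, hU₀V⟩ :=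
    X.isBasis_affineOpens.exists_subset_of_mem_open
      (show x ∈ f ⁻¹ᵁ V ⊓ g ⁻¹ᵁ V from ⟨hxV, hxV'⟩) (f ⁻¹ᵁ V ⊓ g ⁻¹ᵁ V).2
  have hUf : U₀ ≤ f ⁻¹ᵁ V := fun y hy => (hU₀V hy).1
  have hUg : U₀ ≤ g ⁻¹ᵁ V := fun y hy => (hU₀V hy).2
  -- germs agree
  have hgerm : f.appLE V U₀ hUf ≫ X.presheaf.germ U₀ x hxU₀ =
      g.appLE V U₀ hUg ≫ X.presheaf.germ U₀ x hxU₀ := by
    simp only [Scheme.Hom.appLE, Category.assoc, X.presheaf.germ_res', ← Scheme.Hom.germ_stalkMap, H]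
    simp only [TopCat.Presheaf.germ_stalkSpecializes_assoc, Scheme.Hom.germ_stalkMap]
  have hft : RingHom.FiniteType (sY.appLE W V hVW).hom :=
    HasRingHomProperty.appLE (P := @LocallyOfFiniteType) sY ‹_› ⟨W, hW⟩ ⟨V, hV⟩ hVW
  have hαβ : sY.appLE W V hVW ≫ f.appLE V U₀ hUf = sY.appLE W V hVW ≫ g.appLE V U₀ hUg := by
    rw [Scheme.Hom.appLE_comp_appLE, Scheme.Hom.appLE_comp_appLE]
    simp only [hf, hg]
  obtain ⟨U, hxU, hUU₀, hres⟩ := Groth.Agent.H2.H2_exists_res_eq_of_germ_eq hxU₀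
    (sY.appLE W V hVW) hft _ _ hαβ hgerm
  rw [Scheme.Hom.appLE_map, Scheme.Hom.appLE_map] at hres
  refine ⟨U, hxU, ?_⟩
  rw [← Scheme.Hom.resLE_comp_ι _ (hUU₀.trans hUf),
    ← Scheme.Hom.resLE_comp_ι _ (hUU₀.trans hUg)]
  congr 1
  have : IsAffine V := hV
  suffices ∀ (U₁ V₁) (eU : U = U₁) (eV : V = V₁),
      f.appLE V₁ U₁ (eU ▸ eV ▸ hUU₀.trans hUf) =
        g.appLE V₁ U₁ (eU ▸ eV ▸ hUU₀.trans hUg) by
    rw [← cancel_mono V.toScheme.isoSpec.hom]
    simp only [Scheme.isoSpec, asIso_hom, Scheme.toSpecΓ_naturality,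
      Scheme.Hom.app_eq_appLE, Scheme.Hom.resLE_appLE]
    congr 2
    apply this <;> simp
  rintro U V rfl rfl
  exact hres

end Groth.Agent.S4364
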