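import Groth.Statements.S4344
import Mathlib

set_option autoImplicit false
universe u
open RatMapD

namespace Groth.Agent.S4344

open AlgebraicGeometry CategoryTheory Scheme

section
variable (S : Scheme.{u}) {X Y : Scheme.{u}} [X.Over S] [Y.Over S]

/-- the set of domains of S-representatives -/
def domSet (f : X ⤏ Y) : Set X.Opens :=
  { U | ∃ g : X.PartialMap Y, g.IsOver S ∧ g.toRationalMap = f ∧ g.domain = U }

/-- the union of domains of S-representatives -/
def domS (f : X ⤏ Y) : X.Opens := sSup (domSet S f)

lemma dense_domS (f : X ⤏ Y) [f.IsOver S] : Dense (X := X) (domS S f) := by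
  obtain ⟨g, hg, rfl⟩ := f.exists_partialMap_over S
  exact g.dense_domain.mono (le_sSup (a := g.domain) ⟨g, hg, rfl, rfl⟩)

set_option backward.isDefEq.respectTransparency false in
noncomputable
def coverS (f : X ⤏ Y) : (domS S f).toScheme.OpenCover where
  I₀ := domSet S f
  X U := U.1.toScheme
  f U := X.homOfLE (le_sSup U.2)
  mem₀ := by
    rw [presieve₀_mem_precoverage_iff]
    refine ⟨fun x ↦ ?_, inferInstance⟩
    use ⟨_, (TopologicalSpace.Opens.mem_sSup.mp x.2).choose_spec.1⟩
    exact ⟨⟨x.1, (TopologicalSpace.Opens.mem_sSup.mp x.2).choose_spec.2⟩, Subtype.ext (by simp)⟩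

set_option backward.isDefEq.respectTransparency false in
noncomputable
def bigMap [IsReduced X] [IsSeparated (Y ↘ S)] (f : X ⤏ Y) [f.IsOver S] : X.PartialMap Y := by
  refine ⟨domS S f, dense_domS S f, (coverS S f).glueMorphisms
    (fun x ↦ (X.isoOfEq x.2.choose_spec.2.2).inv ≫ x.2.choose.hom) ?_⟩
  intro x y
  let g (x : (coverS S f).I₀) := x.2.choose
  have hg₀ (x) : (g x).IsOver S := x.2.choose_spec.1
  have hg₁ (x) : (g x).toRationalMap = f := x.2.choose_spec.2.1
  have hg₂ (x) : (g x).domain = x.1 := x.2.choose_spec.2.2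
  refine (cancel_epi (isPullback_opens_inf_le (le_sSup x.2) (le_sSup y.2)).isoPullback.hom).mp ?_
  simp only [coverS, IsPullback.isoPullback_hom_fst_assoc,
    IsPullback.isoPullback_hom_snd_assoc]
  change _ ≫ _ ≫ (g x).hom = _ ≫ _ ≫ (g y).hom
  simp_rw [← cancel_epi (X.isoOfEq congr($(hg₂ x) ⊓ $(hg₂ y))).hom, ← Category.assoc]
  have := hg₀ x
  have := hg₀ y
  convert! (PartialMap.equiv_iff_of_isSeparated (S := S) (f := g x) (g := g y)).mp ?_ using 1
  · congr 1; simp [g, ← cancel_mono (Opens.ι _)]
  · congr 1; simp [g, ← cancel_mono (Opens.ι _)]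
  · rw [← PartialMap.toRationalMap_eq_iff, hg₁, hg₁]

lemma le_domS (f : X ⤏ Y) (h : X.PartialMap Y) (hS : h.IsOver S) (hf : h.toRationalMap = f) :
    h.domain ≤ domS S f := le_sSup (a := h.domain) ⟨h, hS, hf, rfl⟩

set_option backward.defeqAttrib.useBackward true in
lemma bigMap_restrict [IsReduced X] [IsSeparated (Y ↘ S)] (f : X ⤏ Y) [f.IsOver S]
    (h : X.PartialMap Y) (hS : h.IsOver S) (hf : h.toRationalMap = f) :
    ((bigMap S f).restrict h.domain h.dense_domain (le_domS S f h hS hf)).hom = h.hom := by
  dsimp [bigMap]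
  refine ((coverS S f).ι_glueMorphisms _ _ ⟨_, h, hS, hf, rfl⟩).trans ?_
  generalize_proofs _ H _
  have := H.choose_spec.1
  have : H.choose = h := (PartialMap.equiv_iff_of_domain_eq_of_isSeparated (S := S)
    H.choose_spec.2.2).mp
    (PartialMap.toRationalMap_eq_iff.mp (H.choose_spec.2.1.trans hf.symm))
  exact ((PartialMap.ext_iff _ _).mp this.symm).choose_spec.symm

set_option backward.defeqAttrib.useBackward true in
lemma bigMap_isOver [IsReduced X] [IsSeparated (Y ↘ S)] (f : X ⤏ Y) [f.IsOver S] :
    (bigMap S f).IsOver S := by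
  rw [PartialMap.isOver_iff]
  apply (coverS S f).hom_ext
  rintro ⟨U, hU⟩
  obtain ⟨g, hS, hf, hU'⟩ := id hU
  subst hU'
  have h1 := bigMap_restrict S f g hS hf
  simp only [PartialMap.restrict_hom] at h1
  have hle : g.domain ≤ (bigMap S f).domain := le_domS S f g hS hf
  show X.homOfLE hle ≫ (bigMap S f).hom ≫ Y ↘ S =
    X.homOfLE hle ≫ (bigMap S f).domain.ι ≫ X ↘ S
  rw [← Category.assoc, h1]
  have h2 : g.hom ≫ Y ↘ S = g.domain.ι ≫ X ↘ S := CategoryTheory.comp_over g.hom S
  rw [h2, ← Category.assoc]
  congr 1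
  exact (X.homOfLE_ι _).symm

set_option backward.isDefEq.respectTransparency.types false in
set_option backward.defeqAttrib.useBackward true in
lemma bigMap_restrict_eq [IsReduced X] [IsSeparated (Y ↘ S)] (f : X ⤏ Y) [f.IsOver S]
    (h : X.PartialMap Y) (hS : h.IsOver S) (hf : h.toRationalMap = f) :
    (bigMap S f).restrict h.domain h.dense_domain (le_domS S f h hS hf) = h :=
  PartialMap.ext _ h rfl (by simpa using bigMap_restrict S f h hS hf)

lemma bigMap_toRationalMap [IsReduced X] [IsSeparated (Y ↘ S)] (f : X ⤏ Y) [f.IsOver S] :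
    (bigMap S f).toRationalMap = f := by
  obtain ⟨g, hg, hgf⟩ := f.exists_partialMap_over S
  trans ((bigMap S f).restrict g.domain g.dense_domain (le_domS S f g hg hgf)).toRationalMap
  · simp
  · rw [bigMap_restrict_eq S f g hg hgf, hgf]

end

open AlgebraicGeometry in
open CategoryTheory in
/-- Let X be a reduced S-scheme, Y an S-scheme separated over S and f an S-rational map from X to Y.
There is a representative g of f which is an S-morphism and of which every S-morphism representing f
is a restriction; in particular g is the unique S-morphism of the class of f defined on the largest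
definition among all representatives; over a base that is not separated that domain can be larger
than the one on which an S-representative exists, and this row takes the latter.) -/
theorem result
    (S X Y : Scheme.{u}) [X.Over S] [Y.Over S] [IsReduced X] [IsSeparated (Y ↘ S)]
    (f : X ⤏ Y) [f.IsOver S] :
    ∃ g : X.PartialMap Y, g.IsOver S ∧ g.toRationalMap = f ∧
      ∀ h : X.PartialMap Y, h.IsOver S → h.toRationalMap = f →
        ∃ hle : h.domain ≤ g.domain, h = g.restrict h.domain h.dense_domain hle := by
  refine ⟨bigMap S f, bigMap_isOver S f, bigMap_toRationalMap S f, fun h hS hf => ?_⟩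
  refine ⟨le_domS S f h hS hf, ?_⟩
  exact (bigMap_restrict_eq S f h hS hf).symm

end Groth.Agent.S4344
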