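import Groth.Statements.S4345
import Mathlib
import Groth.Agent.Lib.helper2.LocalSub

set_option autoImplicit false
universe u
open SchLoc

namespace Groth.Agent.S4345

/-- Let A and B be subrings of a field R, C the subring generated by A and B, and for a subring E let
L(E) be the set of local subrings E_p of R, p a prime ideal of E. The following are equivalent: (i)
for every local subring Q of R containing A and B, the localizations of A and of B at the traces of
the maximal ideal of Q coincide; (ii) for every prime ideal r of C the localizations of A and B at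
the traces of r coincide; (iii) two members of L(A) and L(B) dominated by a common local subring of
R are equal; (iv) the intersection of L(A) and L(B) is L(C). -/
theorem result
    (R : Type u) [Field R] (A B : Subring R) :
    [ ∀ (Q : LocalSubring R) (hA : A ≤ Q.toSubring) (hB : B ≤ Q.toSubring),
        LocalSubring.ofPrime A ((IsLocalRing.maximalIdeal Q.toSubring).comap (Subring.inclusion hA)) =
          LocalSubring.ofPrime B ((IsLocalRing.maximalIdeal Q.toSubring).comap (Subring.inclusion hB)),
      ∀ r : PrimeSpectrum ↥(A ⊔ B),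
        LocalSubring.ofPrime A (r.asIdeal.comap (Subring.inclusion (le_sup_left : A ≤ A ⊔ B))) =
          LocalSubring.ofPrime B (r.asIdeal.comap (Subring.inclusion (le_sup_right : B ≤ A ⊔ B))),
      ∀ (p : PrimeSpectrum A) (q : PrimeSpectrum B),
        (∃ Q : LocalSubring R, LocalSubring.ofPrime A p.asIdeal ≤ Q ∧ LocalSubring.ofPrime B q.asIdeal ≤ Q) →
          LocalSubring.ofPrime A p.asIdeal = LocalSubring.ofPrime B q.asIdeal,
      Set.range (fun p : PrimeSpectrum A ↦ LocalSubring.ofPrime A p.asIdeal) ∩
          Set.range (fun q : PrimeSpectrum B ↦ LocalSubring.ofPrime B q.asIdeal) =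
        Set.range (fun r : PrimeSpectrum ↥(A ⊔ B) ↦ LocalSubring.ofPrime (A ⊔ B) r.asIdeal) ].TFAE := by
  have hcomapA : ∀ r : PrimeSpectrum ↥(A ⊔ B),
      r.asIdeal.comap (Subring.inclusion (le_sup_left : A ≤ A ⊔ B)) =
        Groth.Agent.H2.H2tr A (LocalSubring.ofPrime (A ⊔ B) r.asIdeal)
          (le_sup_left.trans (LocalSubring.le_ofPrime _ _)) := by
    intro r
    rw [← Groth.Agent.H2.H2_tr_comap A (A ⊔ B) le_sup_left _ (LocalSubring.le_ofPrime _ _),
      Groth.Agent.H2.H2_tr_ofPrime]
  have hcomapB : ∀ r : PrimeSpectrum ↥(A ⊔ B),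
      r.asIdeal.comap (Subring.inclusion (le_sup_right : B ≤ A ⊔ B)) =
        Groth.Agent.H2.H2tr B (LocalSubring.ofPrime (A ⊔ B) r.asIdeal)
          (le_sup_right.trans (LocalSubring.le_ofPrime _ _)) := by
    intro r
    rw [← Groth.Agent.H2.H2_tr_comap B (A ⊔ B) le_sup_right _ (LocalSubring.le_ofPrime _ _),
      Groth.Agent.H2.H2_tr_ofPrime]
  tfae_have 1 → 2 := by
    intro h r
    have := h (LocalSubring.ofPrime (A ⊔ B) r.asIdeal)
      (le_sup_left.trans (LocalSubring.le_ofPrime _ _))
      (le_sup_right.trans (LocalSubring.le_ofPrime _ _))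
    exact (Groth.Agent.H2.H2_ofPrime_congr A _ _ (hcomapA r)).trans
      (this.trans (Groth.Agent.H2.H2_ofPrime_congr B _ _ (hcomapB r)).symm)
  tfae_have 2 → 1 := by
    intro h Q hA hB
    have hC : A ⊔ B ≤ Q.toSubring := sup_le hA hB
    have := h ⟨Groth.Agent.H2.H2tr (A ⊔ B) Q hC, inferInstance⟩
    exact (Groth.Agent.H2.H2_ofPrime_congr A _ _
      (Groth.Agent.H2.H2_tr_comap A (A ⊔ B) le_sup_left Q hC)).symm.trans
      (this.trans (Groth.Agent.H2.H2_ofPrime_congr B _ _
      (Groth.Agent.H2.H2_tr_comap B (A ⊔ B) le_sup_right Q hC)))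
  tfae_have 1 → 3 := by
    rintro h p q ⟨Q, hpQ, hqQ⟩
    have hA : A ≤ Q.toSubring := (LocalSubring.le_ofPrime A p.asIdeal).trans hpQ.1
    have hB : B ≤ Q.toSubring := (LocalSubring.le_ofPrime B q.asIdeal).trans hqQ.1
    have := h Q hA hB
    exact (Groth.Agent.H2.H2_ofPrime_congr A _ _
      (Groth.Agent.H2.H2_tr_eq_of_le A p.asIdeal Q hpQ hA)).symm.trans
      (this.trans (Groth.Agent.H2.H2_ofPrime_congr B _ _
      (Groth.Agent.H2.H2_tr_eq_of_le B q.asIdeal Q hqQ hB)))
  tfae_have 3 → 1 := by
    intro h Q hA hB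
    exact h ⟨Groth.Agent.H2.H2tr A Q hA, inferInstance⟩ ⟨Groth.Agent.H2.H2tr B Q hB, inferInstance⟩
      ⟨Q, Groth.Agent.H2.H2_ofPrime_tr_le A Q hA, Groth.Agent.H2.H2_ofPrime_tr_le B Q hB⟩
  tfae_have 2 → 4 := by
    intro h
    ext D
    constructor
    · rintro ⟨⟨p, hp⟩, ⟨q, hq⟩⟩
      simp only at hp hq
      have hA : A ≤ D.toSubring := hp ▸ LocalSubring.le_ofPrime A _
      have hB : B ≤ D.toSubring := hq ▸ LocalSubring.le_ofPrime B _
      have hC : A ⊔ B ≤ D.toSubring := sup_le hA hB
      refine ⟨⟨Groth.Agent.H2.H2tr (A ⊔ B) D hC, inferInstance⟩, ?_⟩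
      simp only
      apply LocalSubring.toSubring_injective
      apply le_antisymm
      · exact (Groth.Agent.H2.H2_ofPrime_tr_le (A ⊔ B) D hC).1
      · have e1 : p.asIdeal = (Groth.Agent.H2.H2tr (A ⊔ B) D hC).comap
            (Subring.inclusion (le_sup_left : A ≤ A ⊔ B)) := by
          rw [Groth.Agent.H2.H2_tr_comap A (A ⊔ B) le_sup_left D hC]
          exact (Groth.Agent.H2.H2_tr_eq_of_eq A p.asIdeal D hp.symm _).symm
        have := Groth.Agent.H2.H2_ofPrime_mono A (A ⊔ B) le_sup_left p.asIdeal
          (Groth.Agent.H2.H2tr (A ⊔ B) D hC) e1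
        rw [hp] at this
        exact this
    · rintro ⟨r, hr⟩
      simp only at hr
      have claim : LocalSubring.ofPrime A (r.asIdeal.comap
          (Subring.inclusion (le_sup_left : A ≤ A ⊔ B))) =
          LocalSubring.ofPrime (A ⊔ B) r.asIdeal := by
        apply LocalSubring.toSubring_injective
        apply le_antisymm
        · exact Groth.Agent.H2.H2_ofPrime_mono A (A ⊔ B) le_sup_left _ r.asIdeal rfl
        · intro x hx
          rw [Groth.Agent.H2.H2_mem_ofPrime_iff] at hx
          obtain ⟨c, t, ht, rfl⟩ := hx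
          set D' := LocalSubring.ofPrime A (r.asIdeal.comap
            (Subring.inclusion (le_sup_left : A ≤ A ⊔ B))) with hD'
          have hAD : A ≤ D'.toSubring := LocalSubring.le_ofPrime A _
          have hBD : B ≤ D'.toSubring := by
            rw [hD', h r]; exact LocalSubring.le_ofPrime B _
          have hCD : A ⊔ B ≤ D'.toSubring := sup_le hAD hBD
          have hle : Groth.Agent.H2.H2tr (A ⊔ B) D' hCD ≤ r.asIdeal := by
            intro c' hc'
            rw [Groth.Agent.H2.H2_mem_tr] at hc'
            obtain ⟨a, s, hs, e⟩ := (Groth.Agent.H2.H2_mem_ofPrime_iff _ _ _).mp (hCD c'.2)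
            have hs0 : (s : R) ≠ 0 := by
              intro h0
              apply hs
              have : s = 0 := Subtype.ext h0
              rw [this]; exact zero_mem _
            have ha : a ∈ r.asIdeal.comap (Subring.inclusion (le_sup_left : A ≤ A ⊔ B)) := by
              by_contra ha
              apply hc'
              have ha0 : (a : R) ≠ 0 := by
                intro h0
                apply ha
                have : a = 0 := Subtype.ext h0
                rw [this]; exact zero_mem _
              refine ⟨by rw [e]; exact div_ne_zero ha0 hs0, ?_⟩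
              rw [Groth.Agent.H2.H2_mem_ofPrime_iff]
              exact ⟨s, a, ha, by rw [e, inv_div]⟩
            have hmul : c' * Subring.inclusion (le_sup_left : A ≤ A ⊔ B) s =
                Subring.inclusion (le_sup_left : A ≤ A ⊔ B) a := by
              ext
              change (c' : R) * (s : R) = (a : R)
              rw [e]; field_simp
            have h2 : c' * Subring.inclusion (le_sup_left : A ≤ A ⊔ B) s ∈ r.asIdeal := by
              rw [hmul]; exact ha
            rcases (r.isPrime.mem_or_mem h2) with h3 | h3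
            · exact h3
            · exact absurd h3 hs
          have ht' : t ∉ Groth.Agent.H2.H2tr (A ⊔ B) D' hCD := fun h => ht (hle h)
          rw [Groth.Agent.H2.H2_mem_tr, not_not] at ht'
          rw [div_eq_mul_inv]
          exact D'.toSubring.mul_mem (hCD c.2) ht'.2
      exact ⟨⟨⟨r.asIdeal.comap (Subring.inclusion (le_sup_left : A ≤ A ⊔ B)), inferInstance⟩,
        claim.trans hr⟩,
        ⟨⟨r.asIdeal.comap (Subring.inclusion (le_sup_right : B ≤ A ⊔ B)), inferInstance⟩,
        ((h r).symm.trans claim).trans hr⟩⟩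
  tfae_have 4 → 2 := by
    intro h r
    have hr : LocalSubring.ofPrime (A ⊔ B) r.asIdeal ∈
        Set.range (fun r : PrimeSpectrum ↥(A ⊔ B) ↦ LocalSubring.ofPrime (A ⊔ B) r.asIdeal) :=
      ⟨r, rfl⟩
    rw [← h] at hr
    obtain ⟨⟨p, hp⟩, ⟨q, hq⟩⟩ := hr
    simp only at hp hq
    have e1 : r.asIdeal.comap (Subring.inclusion (le_sup_left : A ≤ A ⊔ B)) = p.asIdeal := by
      rw [hcomapA r]
      exact Groth.Agent.H2.H2_tr_eq_of_eq A p.asIdeal _ hp.symm _
    have e2 : r.asIdeal.comap (Subring.inclusion (le_sup_right : B ≤ A ⊔ B)) = q.asIdeal := by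
      rw [hcomapB r]
      exact Groth.Agent.H2.H2_tr_eq_of_eq B q.asIdeal _ hq.symm _
    exact (Groth.Agent.H2.H2_ofPrime_congr A _ _ e1).trans
      ((hp.trans hq.symm).trans (Groth.Agent.H2.H2_ofPrime_congr B _ _ e2).symm)
  tfae_finish

end Groth.Agent.S4345
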