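import Groth.Statements.S4346
import Mathlib

set_option autoImplicit false
universe u
open SchLoc

namespace Groth.Agent.S4346

open AlgebraicGeometry CategoryTheory in
lemma key (X : Scheme.{u}) [IsIntegral X] [X.IsSeparated] (x y : X)
    (hle : (algebraMap (X.presheaf.stalk x) X.functionField).range ≤
      (algebraMap (X.presheaf.stalk y) X.functionField).range) : y ⤳ x := by
  have hξx : genericPoint X ⤳ x := (genericPoint_spec X).specializes trivial
  have hξy : genericPoint X ⤳ y := (genericPoint_spec X).specializes trivial
  let ax : X.presheaf.stalk x ⟶ X.presheaf.stalk (genericPoint X) :=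
    X.presheaf.stalkSpecializes hξx
  let ay : X.presheaf.stalk y ⟶ X.presheaf.stalk (genericPoint X) :=
    X.presheaf.stalkSpecializes hξy
  have hax : algebraMap (X.presheaf.stalk x) X.functionField = ax.hom := rfl
  have hay : algebraMap (X.presheaf.stalk y) X.functionField = ay.hom := rfl
  have hinj : Function.Injective ay.hom := by
    rw [← hay]; exact IsFractionRing.injective _ _
  rw [hax, hay] at hle
  let ey := RingEquiv.ofBijective ay.hom.rangeRestrict
    ⟨fun a b hab => hinj (congrArg Subtype.val hab), ay.hom.rangeRestrict_surjective⟩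
  let φ : X.presheaf.stalk x ⟶ X.presheaf.stalk y :=
    CommRingCat.ofHom (ey.symm.toRingHom.comp
      (ax.hom.codRestrict ay.hom.range (fun s => hle ⟨s, rfl⟩)))
  have hφ : φ ≫ ay = ax := by
    ext s
    change (ey (ey.symm _)).1 = _
    rw [RingEquiv.apply_symm_apply]
    rfl
  have : IsDominant (Spec.map ay) := by
    constructor
    change DenseRange (PrimeSpectrum.comap ay.hom)
    rw [PrimeSpectrum.denseRange_comap_iff_ker_le_nilRadical,
      (RingHom.injective_iff_ker_eq_bot _).mp hinj]
    exact bot_le
  have heq : Spec.map φ ≫ X.fromSpecStalk x = X.fromSpecStalk y := by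
    apply ext_of_isDominant (Spec.map ay)
    rw [← Category.assoc, ← Spec.map_comp, hφ]
    rw [Scheme.SpecMap_stalkSpecializes_fromSpecStalk, Scheme.SpecMap_stalkSpecializes_fromSpecStalk]
  have hmem : y ∈ Set.range (X.fromSpecStalk x) := by
    refine ⟨Spec.map φ (IsLocalRing.closedPoint _), ?_⟩
    rw [← Scheme.Hom.comp_apply, heq, Scheme.fromSpecStalk_closedPoint]
  rw [Scheme.range_fromSpecStalk] at hmem
  exact hmem

open AlgebraicGeometry in
/-- On an integral separated scheme distinct points have distinct local rings inside the function field. -/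
theorem result (X : Scheme.{u}) [IsIntegral X] [X.IsSeparated] :
    Function.Injective (fun x : X ↦ (algebraMap (X.presheaf.stalk x) X.functionField).range) := by
  intro x y hxy
  simp only at hxy
  exact ((key X x y hxy.le).antisymm (key X y x hxy.ge)).eq.symm

end Groth.Agent.S4346
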