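import Groth.Statements.S4349
import Mathlib

set_option autoImplicit false
universe u
open RatFun

namespace Groth.Agent.S4349

open AlgebraicGeometry in
/-- Second assertion (in the form: sections over a dense open inject into the ring of rational
functions). Let X be a reduced scheme and V a dense open subset of X. The canonical map from the
sections of O_X over V to the ring R(X) of rational functions on X is injective. (The published
statement also assumes X locally integral or locally Noetherian; that hypothesis serves the
quasi-coherence of the sheaf of rational functions and is not needed here.) -/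
theorem result (X : Scheme.{u}) [IsReduced X]
    (V : X.Opens) (hV : Dense (V : Set X)) :
    Function.Injective (RatFun.toRing X V hV) := by
  classical
  haveI : CategoryTheory.IsCofiltered ((RatFun.IsDenseOpen X).FullSubcategory) :=
    { cone_objs := fun U W =>
        ⟨⟨U.obj ⊓ W.obj, by
            show Dense ((U.obj ⊓ W.obj : X.Opens) : Set X)
            rw [TopologicalSpace.Opens.coe_inf]
            exact U.property.inter_of_isOpen_left W.property U.obj.isOpen⟩,
          CategoryTheory.ObjectProperty.homMk (CategoryTheory.homOfLE inf_le_left),
          CategoryTheory.ObjectProperty.homMk (CategoryTheory.homOfLE inf_le_right), trivial⟩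
      cone_maps := fun U W f g => ⟨U, CategoryTheory.CategoryStruct.id U, by
        apply CategoryTheory.ObjectProperty.hom_ext
        exact Subsingleton.elim _ _⟩
      nonempty := ⟨⟨⊤, by show Dense ((⊤ : X.Opens) : Set X); simp⟩⟩ }
  rw [injective_iff_map_eq_zero]
  intro s hs
  have h0 : (RatFun.toRing X V hV) s = (RatFun.toRing X V hV) 0 := by rw [hs, map_zero]
  obtain ⟨k, f, g, hfg⟩ := CategoryTheory.Limits.Concrete.colimit_exists_of_rep_eq
    (RatFun.sectionsOnDense X) (i := Opposite.op ⟨V, hV⟩) (j := Opposite.op ⟨V, hV⟩) s 0 h0
  rw [map_zero] at hfg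
  apply AlgebraicGeometry.eq_zero_of_basicOpen_eq_bot
  have hfg' : X.presheaf.map ((RatFun.IsDenseOpen X).ι.op.map f) s = 0 := hfg
  have hres : X.basicOpen (X.presheaf.map ((RatFun.IsDenseOpen X).ι.op.map f) s) =
      k.unop.obj ⊓ X.basicOpen s :=
    AlgebraicGeometry.Scheme.basicOpen_res _ _ _
  rw [hfg', AlgebraicGeometry.Scheme.basicOpen_zero] at hres
  by_contra hne
  have hne' : ((X.basicOpen s : X.Opens) : Set X).Nonempty := by
    rw [Set.nonempty_iff_ne_empty]
    intro h
    apply hne
    ext1
    simpa using h
  obtain ⟨x, hx1, hx2⟩ := k.unop.property.inter_open_nonempty _ (X.basicOpen s).isOpen hne'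
  have : x ∈ (k.unop.obj ⊓ X.basicOpen s : X.Opens) := ⟨hx2, hx1⟩
  rw [← hres] at this
  exact this

end Groth.Agent.S4349
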