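import Groth.Statements.S4362
import Mathlib

set_option autoImplicit false
universe u
open FinCond

namespace Groth.Agent.S4362

open AlgebraicGeometry in
open CategoryTheory in
/-- If X is a Noetherian scheme, every increasing sequence of quasi-coherent sheaves of ideals of the
structure sheaf is eventually constant; equivalently the ordered set of quasi-coherent ideal sheaves
of X is well-founded for the reverse order. (On a locally Noetherian scheme quasi-coherent and
coherent ideal sheaves coincide.) -/
theorem result
    (X : Scheme.{u}) [IsNoetherian X] : WellFoundedGT X.IdealSheafData := by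
  let 𝒰 := X.affineCover.finiteSubcover
  let U : 𝒰.I₀ → X.affineOpens := fun i => ⟨(𝒰.f i).opensRange, isAffineOpen_opensRange (𝒰.f i)⟩
  have hU : ⨆ i, (U i).1 = ⊤ := by
    rw [eq_top_iff]
    intro x _
    rw [TopologicalSpace.Opens.mem_iSup]
    exact ⟨𝒰.idx x, 𝒰.covers x⟩
  let F : X.IdealSheafData → (∀ i : 𝒰.I₀, (Ideal Γ(X, (U i).1))ᵒᵈ) :=
    fun I i => OrderDual.toDual (I.ideal (U i))
  have hF : ∀ I J : X.IdealSheafData, I > J → F I < F J := by
    intro I J hIJ
    have h1 : F I ≤ F J := fun i => (Scheme.IdealSheafData.le_def.mp hIJ.le) (U i)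
    refine lt_of_le_not_ge h1 fun h2 => ?_
    have : I ≤ J := Scheme.IdealSheafData.le_of_iSup_eq_top U hU (fun i => h2 i)
    exact (not_le_of_gt hIJ) this
  have : ∀ i : 𝒰.I₀, IsNoetherianRing Γ(X, (U i).1) := fun i =>
    IsLocallyNoetherian.component_noetherian (U i)
  have hwf : WellFoundedLT (∀ i : 𝒰.I₀, (Ideal Γ(X, (U i).1))ᵒᵈ) := inferInstance
  constructor
  exact Subrelation.wf (fun {a b} h => hF a b h) (InvImage.wf F hwf.wf)

end Groth.Agent.S4362
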