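import Groth.Statements.S4366
import Mathlib

set_option autoImplicit false
universe u
open SchMor

namespace Groth.Agent.S4366

open AlgebraicGeometry CategoryTheory Limits in
lemma flat_fromSpecStalk (X : Scheme.{u}) (x : X) : Flat (X.fromSpecStalk x) := by
  obtain ⟨_, ⟨U, hU, rfl⟩, hxU, -⟩ :=
    X.isBasis_affineOpens.exists_subset_of_mem_open (Set.mem_univ x) isOpen_univ
  rw [← hU.fromSpecStalk_eq_fromSpecStalk hxU]
  unfold IsAffineOpen.fromSpecStalk
  have : Flat (Spec.map (X.presheaf.germ U x hxU)) := by
    rw [HasRingHomProperty.Spec_iff (P := @Flat)]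
    let := X.presheaf.algebra_section_stalk ⟨x, hxU⟩
    have := hU.isLocalization_stalk ⟨x, hxU⟩
    have : Module.Flat Γ(X, U) (X.presheaf.stalk x) :=
      IsLocalization.flat _ (hU.primeIdealOf ⟨x, hxU⟩).asIdeal.primeCompl
    exact this
  have : IsOpenImmersion hU.fromSpec := hU.isOpenImmersion_fromSpec
  have : Flat hU.fromSpec := inferInstance
  exact MorphismProperty.comp_mem _ _ _ ‹_› ‹_›


open AlgebraicGeometry in
open CategoryTheory in
open CategoryTheory.Limits in
/-- Let f : X -> Y be a morphism, y a point of Y and Z = Spec O_{Y,y} the local scheme of Y at y with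
its canonical morphism to Y. Then the projection p : X x_Y Z -> X induces isomorphisms on all local
rings: for every point t of X x_Y Z the homomorphism O_{X, p t} -> O_{X x_Y Z, t} is bijective. (The
published statement also asserts that p is a homeomorphism onto the preimage of Z; that part is not
stated here.) -/
theorem result
    {X Y : Scheme.{u}} (f : X ⟶ Y) (y : Y) (t : ↑(pullback f (Y.fromSpecStalk y))) :
    IsIso ((pullback.fst f (Y.fromSpecStalk y)).stalkMap t) := by
  have := flat_fromSpecStalk Y y
  have h1 : Flat (pullback.fst f (Y.fromSpecStalk y)) := inferInstance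
  have h2 : IsPreimmersion (pullback.fst f (Y.fromSpecStalk y)) := inferInstance
  rw [ConcreteCategory.isIso_iff_bijective]
  refine ⟨?_, (pullback.fst f (Y.fromSpecStalk y)).stalkMap_surjective t⟩
  algebraize [((pullback.fst f (Y.fromSpecStalk y)).stalkMap t).hom]
  have : Module.FaithfullyFlat (X.presheaf.stalk ((pullback.fst f (Y.fromSpecStalk y)) t))
      ((pullback f (Y.fromSpecStalk y)).presheaf.stalk t) :=
    @Module.FaithfullyFlat.of_flat_of_isLocalHom _ _ _ _ _ _ _
      (Flat.stalkMap _ t) ((pullback.fst f (Y.fromSpecStalk y)).toLRSHom.prop t)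
  exact ‹RingHom.FaithfullyFlat _›.injective

end Groth.Agent.S4366
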