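import Groth.Statements.S4367
import Mathlib

set_option autoImplicit false
universe u
open RedSep

namespace Groth.Agent.S4367

open AlgebraicGeometry in
open CategoryTheory in
/-- Let X be a reduced scheme, f : X -> Y a morphism and j : Z -> Y a closed immersion (a closed
subscheme of Y) such that the image of f is contained, as a set, in the image of j. Then f factors
as a morphism X -> Z followed by j. -/
theorem result
    {X Y Z : Scheme.{u}} [IsReduced X] (f : X ⟶ Y) (j : Z ⟶ Y) [IsClosedImmersion j]
    (h : Set.range f ⊆ Set.range j) :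
    ∃ g : X ⟶ Z, g ≫ j = f := by
  have hle : j.ker ≤ f.ker := by
    rw [Scheme.Hom.ker.eq_1 f, Scheme.IdealSheafData.le_ofIdeals_iff]
    intro U s hs
    rw [RingHom.mem_ker, ← basicOpen_eq_bot_iff, ← Scheme.preimage_basicOpen]
    rw [eq_bot_iff]
    intro x hx
    exfalso
    have hx' : f x ∈ Y.basicOpen s := hx
    have hxU : f x ∈ U.1 := Y.basicOpen_le s hx'
    have h1 : f x ∈ (j.ker.support : Set Y) := j.range_subset_ker_support (h ⟨x, rfl⟩)
    have h2 : f x ∈ Y.zeroLocus (U := U.1) (j.ker.ideal U) ∩ U.1 := by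
      rw [← Scheme.IdealSheafData.coe_support_inter]
      exact ⟨h1, hxU⟩
    exact ((Scheme.mem_zeroLocus_iff _ _ _).mp h2.1) s hs hx'
  exact ⟨IsClosedImmersion.lift j f hle, IsClosedImmersion.lift_fac j f hle⟩

end Groth.Agent.S4367
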