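import Groth.Statements.S4368
import Mathlib

set_option autoImplicit false
universe u
open RedSep

namespace Groth.Agent.S4368

open AlgebraicGeometry in
open CategoryTheory in
/-- Let X be a scheme and I a quasi-coherent sheaf of ideals of O_X whose support is all of X, so that
the closed subscheme it defines has underlying space X. Then that closed subscheme is reduced if and
only if I is the nilradical of O_X. In particular the closed subscheme defined by the nilradical is
the unique reduced closed subscheme of X with underlying space X (and, the support condition being
equivalent to I being contained in the nilradical, the smallest one). -/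
theorem result
    (X : Scheme.{u}) (I : X.IdealSheafData) (hI : I.support = ⊤) :
    IsReduced I.subscheme ↔ I = X.nilradical := by
  constructor
  · intro hred
    apply le_antisymm
    · have h1 : (⊤ : TopologicalSpace.Closeds X) ≤ I.support := hI.ge
      rw [Scheme.IdealSheafData.le_support_iff_le_vanishingIdeal,
        Scheme.IdealSheafData.vanishingIdeal_top] at h1
      exact h1
    · intro U
      have hrad : (I.ideal U).IsRadical := by
        rw [Ideal.isRadical_iff_quotient_reduced]
        have e := (I.subschemeObjIso U).commRingCatIsoToRingEquiv
        exact isReduced_of_injective e.symm.toRingHom e.symm.injective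
      change ((⊥ : X.IdealSheafData).ideal U).radical ≤ I.ideal U
      rw [← hrad.radical]
      exact Ideal.radical_mono bot_le
  · rintro rfl
    apply +allowSynthFailures @IsReduced.of_openCover (𝒰 := X.nilradical.subschemeCover.openCover)
    intro U
    change IsReduced (Spec (.of (Γ(X, U.1) ⧸ X.nilradical.ideal U)))
    rw [affine_isReduced_iff]
    change IsReduced (Γ(X, U.1) ⧸ ((⊥ : X.IdealSheafData).ideal U).radical)
    rw [← Ideal.isRadical_iff_quotient_reduced]
    exact Ideal.radical_isRadical _

end Groth.Agent.S4368
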