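import Groth.Statements.S4369
import Mathlib

set_option autoImplicit false
universe u
open AffSch

namespace Groth.Agent.S4369

/-- Let φ : A' -> A be a ring homomorphism such that every f in A can be written f = h φ(f') with h
invertible in A (this holds in particular when φ is surjective). Then the associated continuous map
Spec A -> Spec A' is a homeomorphism onto its image. -/
theorem result
    {A' A : Type u} [CommRing A'] [CommRing A] (φ : A' →+* A)
    (h : ∀ f : A, ∃ (u : Aˣ) (f' : A'), f = (u : A) * φ f') :
    Topology.IsEmbedding (PrimeSpectrum.comap φ) := by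
  have hunit : ∀ (p : PrimeSpectrum A) (u : Aˣ) (x : A), (u : A) * x ∈ p.asIdeal ↔ x ∈ p.asIdeal := by
    intro p u x
    constructor
    · intro hx
      have := p.asIdeal.mul_mem_left (↑u⁻¹ : A) hx
      rwa [← mul_assoc, Units.inv_mul, one_mul] at this
    · intro hx
      exact p.asIdeal.mul_mem_left _ hx
  rw [Topology.isEmbedding_iff]
  constructor
  · constructor
    simp only [TopologicalSpace.ext_iff, ← isClosed_compl_iff, PrimeSpectrum.isClosed_iff_zeroLocus,
      isClosed_induced_iff]
    intro s
    constructor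
    · rintro ⟨F, hF⟩
      refine ⟨PrimeSpectrum.zeroLocus {f' : A' | ∃ u : Aˣ, (u : A) * φ f' ∈ F}, ⟨_, rfl⟩, ?_⟩
      rw [PrimeSpectrum.preimage_comap_zeroLocus, hF]
      ext p
      simp only [PrimeSpectrum.mem_zeroLocus, Set.subset_def, Set.mem_image, Set.mem_setOf_eq,
        SetLike.mem_coe]
      constructor
      · intro hp f hf
        obtain ⟨u, f', rfl⟩ := h f
        rw [hunit]
        exact hp _ ⟨f', ⟨u, hf⟩, rfl⟩
      · rintro hp _ ⟨f', ⟨u, hu⟩, rfl⟩
        rw [← hunit p u]
        exact hp _ hu
    · rintro ⟨-, ⟨F, rfl⟩, hF⟩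
      exact ⟨φ '' F, hF.symm.trans (PrimeSpectrum.preimage_comap_zeroLocus φ F)⟩
  · intro p q hpq
    ext f
    obtain ⟨u, f', rfl⟩ := h f
    rw [hunit, hunit]
    have := congrArg (fun x : PrimeSpectrum A' => f' ∈ x.asIdeal) hpq
    simpa using this

end Groth.Agent.S4369
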