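import Groth.Statements.S4370
import Mathlib
import Groth.Agent.S4368

set_option autoImplicit false
universe u
open RedSep

namespace Groth.Agent.S4370

open AlgebraicGeometry in
open CategoryTheory in
/-- Let f : X -> Y be an open immersion and let g : X_red -> Y_red be the morphism of reduced schemes
induced by f, i.e. the morphism between the closed subschemes defined by the nilradicals whose
composite with the inclusion of Y_red in Y is the inclusion of X_red in X followed by f. Then g is
an open immersion. -/
theorem result
    {X Y : Scheme.{u}} (f : X ⟶ Y) [IsOpenImmersion f]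
    (g : X.nilradical.subscheme ⟶ Y.nilradical.subscheme)
    (hg : g ≫ Y.nilradical.subschemeι = X.nilradical.subschemeι ≫ f) :
    IsOpenImmersion g := by
  let ιX := X.nilradical.subschemeι
  let ιY := Y.nilradical.subschemeι
  let c := Limits.pullback.snd ιY f
  have hredY : IsReduced Y.nilradical.subscheme :=
    (Groth.Agent.S4368.result Y Y.nilradical Y.support_nilradical).mpr rfl
  have hredP : IsReduced (Limits.pullback ιY f) := isReduced_of_isOpenImmersion (Limits.pullback.fst ιY f)
  have hsY : Surjective ιY := by
    constructor
    rw [← Set.range_eq_univ, Y.nilradical.range_subschemeι, Y.support_nilradical]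
    rfl
  have hsc : Surjective c := inferInstance
  have hsupp : c.ker.support = ⊤ := by
    apply SetLike.coe_injective
    rw [Scheme.Hom.support_ker, Set.range_eq_univ.mpr hsc.surj]
    simp
  have hredI : IsReduced c.ker.subscheme := by
    have : IsIso c.toImage := inferInstance
    exact isReduced_of_isOpenImmersion (inv c.toImage)
  have hker : c.ker = X.nilradical := (Groth.Agent.S4368.result X c.ker hsupp).mp hredI
  have hle : c.ker ≤ ιX.ker := by
    rw [hker, Scheme.IdealSheafData.ker_subschemeι]
  let φ := IsClosedImmersion.lift c ιX hle
  have hφ : φ ≫ c = ιX := IsClosedImmersion.lift_fac c ιX hle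
  have : IsIso φ := IsClosedImmersion.isIso_of_ker_eq ιX c φ hφ (by
    rw [hker, Scheme.IdealSheafData.ker_subschemeι])
  have hg' : g = φ ≫ Limits.pullback.fst ιY f := by
    rw [← cancel_mono ιY, hg, Category.assoc, Limits.pullback.condition, ← Category.assoc, hφ]
  rw [hg']
  infer_instance

end Groth.Agent.S4370
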