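import Groth.Statements.S4372
import Mathlib
import Groth.Agent.S4367

set_option autoImplicit false
universe u
open RedSep

namespace Groth.Agent.S4372

open AlgebraicGeometry in
open CategoryTheory in
/-- Let h : Z -> X be an immersion with Z reduced (a reduced subscheme of X), and let W be the reduced
closed subscheme of X whose underlying space is the closure of h(Z). Then Z is an open subscheme of
W: h factors as an open immersion Z -> W followed by the closed immersion W -> X. Stated as the
existence of such a factorization through a reduced scheme W closed-immersed onto the closure of the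
image. -/
theorem result
    {Z X : Scheme.{u}} (h : Z ⟶ X) [IsImmersion h] [IsReduced Z] :
    ∃ (W : Scheme.{u}) (j : Z ⟶ W) (i : W ⟶ X), IsOpenImmersion j ∧ IsClosedImmersion i ∧
      IsReduced W ∧ Set.range i = closure (Set.range h) ∧ j ≫ i = h := by
  let C : TopologicalSpace.Closeds X := ⟨closure (Set.range h), isClosed_closure⟩
  let I := Scheme.IdealSheafData.vanishingIdeal C
  let i := I.subschemeι
  have hri : Set.range i = closure (Set.range h) := by
    rw [I.range_subschemeι, Scheme.IdealSheafData.coe_support_vanishingIdeal]
    rfl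
  have hW : IsReduced I.subscheme := by
    apply +allowSynthFailures @IsReduced.of_openCover (𝒰 := I.subschemeCover.openCover)
    intro U
    change IsReduced (Spec (.of (Γ(X, U.1) ⧸ I.ideal U)))
    rw [affine_isReduced_iff]
    change IsReduced (Γ(X, U.1) ⧸ I.ideal U)
    rw [← Ideal.isRadical_iff_quotient_reduced, Scheme.IdealSheafData.vanishingIdeal_ideal]
    exact PrimeSpectrum.isRadical_vanishingIdeal _
  obtain ⟨j, hj⟩ := Groth.Agent.S4367.result h i (hri ▸ subset_closure)
  have : IsImmersion (j ≫ i) := hj ▸ inferInstance
  have : IsImmersion j := IsImmersion.of_comp j i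
  have hopen : IsOpen (Set.range j) := by
    have h1 : Set.range j = i ⁻¹' (Set.range h) := by
      ext w
      constructor
      · rintro ⟨z, rfl⟩
        exact ⟨z, by rw [← hj]; rfl⟩
      · rintro ⟨z, hz⟩
        refine ⟨z, i.isEmbedding.injective ?_⟩
        rw [← hz, ← hj]; rfl
    obtain ⟨U, Z', hU, hZ', hUZ⟩ := h.isLocallyClosed_range
    have h2 : Set.range h = U ∩ closure (Set.range h) := by
      apply subset_antisymm
      · exact fun x hx => ⟨(hUZ ▸ hx : x ∈ U ∩ Z').1, subset_closure hx⟩
      · rintro x ⟨hxU, hxc⟩
        rw [hUZ]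
        refine ⟨hxU, ?_⟩
        have : closure (Set.range h) ⊆ Z' := by
          apply closure_minimal _ hZ'
          rw [hUZ]; exact Set.inter_subset_right
        exact this hxc
    have h3 : i ⁻¹' (Set.range h) = i ⁻¹' U := by
      rw [h2, Set.preimage_inter]
      have : i ⁻¹' closure (Set.range h) = Set.univ := by
        rw [← hri]; exact Set.preimage_range _
      rw [this, Set.inter_univ]
    rw [h1, h3]
    exact hU.preimage i.continuous
  let U : I.subscheme.Opens := ⟨Set.range j, hopen⟩
  let j' : Z ⟶ U := IsOpenImmersion.lift U.ι j (by simp [U])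
  have hj' : j' ≫ U.ι = j := IsOpenImmersion.lift_fac _ _ _
  have : IsImmersion (j' ≫ U.ι) := hj' ▸ ‹_›
  have : IsImmersion j' := IsImmersion.of_comp j' U.ι
  have hsurj : Function.Surjective j' := by
    intro u
    obtain ⟨z, hz⟩ := u.2
    refine ⟨z, Subtype.ext ?_⟩
    rw [← hz, ← hj']; rfl
  have : Surjective j' := ⟨hsurj⟩
  have : IsClosedImmersion j' := .of_isPreimmersion _ (by
    rw [hsurj.range_eq]; exact isClosed_univ)
  have : IsReduced U := isReduced_of_isOpenImmersion U.ι
  have : IsIso j' := isIso_of_isClosedImmersion_of_surjective j'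
  have hjo : IsOpenImmersion j := hj' ▸ inferInstance
  exact ⟨I.subscheme, j, i, hjo, inferInstance, hW, hri, hj⟩

end Groth.Agent.S4372
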