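import Groth.Statements.S4378
import Mathlib

set_option autoImplicit false
universe u
open CategoryTheory CategoryTheory.Limits AlgebraicGeometry
open EGA2

namespace Groth.Agent.S4378

/-- Let q : Y → S be separated and of finite type, and f : X → Y a morphism such that X is also
separated and of finite type over S through f ≫ q. Then f is proper if and only if for every scheme
S' over S the morphism X ×_S S' → Y ×_S S' induced by f is closed (as a map of topological spaces). -/
theorem result {X Y S : Scheme.{u}} (q : Y ⟶ S) (f : X ⟶ Y)
    [IsSeparated q] [LocallyOfFiniteType q] [QuasiCompact q]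
    [IsSeparated (f ≫ q)] [LocallyOfFiniteType (f ≫ q)] [QuasiCompact (f ≫ q)] :
    IsProper f ↔ ∀ (S' : Scheme.{u}) (g : S' ⟶ S),
      IsClosedMap (pullback.map (f ≫ q) g q g f (𝟙 S') (𝟙 S) (Category.comp_id (f ≫ q))
        ((Category.comp_id g).trans (Category.id_comp g).symm)).base := by
  constructor
  · intro hf S' g
    set h := pullback.map (f ≫ q) g q g f (𝟙 S') (𝟙 S) (Category.comp_id (f ≫ q))
        ((Category.comp_id g).trans (Category.id_comp g).symm) with hh
    have h1 : h ≫ pullback.fst q g = pullback.fst (f ≫ q) g ≫ f := pullback.lift_fst _ _ _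
    have h2 : h ≫ pullback.snd q g = pullback.snd (f ≫ q) g := by
      rw [hh, pullback.lift_snd, Category.comp_id]
    have big : IsPullback (h ≫ pullback.snd q g) (pullback.fst (f ≫ q) g) g (f ≫ q) := by
      rw [h2]
      exact (IsPullback.of_hasPullback (f ≫ q) g).flip
    have sq : IsPullback h (pullback.fst (f ≫ q) g) (pullback.fst q g) f :=
      IsPullback.of_right big h1 (IsPullback.of_hasPullback q g).flip
    have : UniversallyClosed h :=
      MorphismProperty.of_isPullback (P := @UniversallyClosed) sq.flip inferInstance
    exact h.isClosedMap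
  · intro H
    have hsep : IsSeparated f := IsSeparated.of_comp f q
    have hlft : LocallyOfFiniteType f := locallyOfFiniteType_of_comp f q
    have hqc : QuasiCompact f := QuasiCompact.of_comp f q
    have huc : UniversallyClosed f := by
      rw [universallyClosed_iff]
      intro T' T i₁ i₂ f' hpb
      set g := i₂ ≫ q with hg
      set h := pullback.map (f ≫ q) g q g f (𝟙 T) (𝟙 S) (Category.comp_id (f ≫ q))
        ((Category.comp_id g).trans (Category.id_comp g).symm) with hh
      have hcl : IsClosedMap h.base := H T g
      let Γ : T ⟶ pullback q g := pullback.lift i₂ (𝟙 T) (by rw [Category.id_comp])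
      have hΓ : Γ ≫ pullback.snd q g = 𝟙 T := pullback.lift_snd _ _ _
      have hΓinj : Function.Injective Γ := by
        intro a b hab
        have := congrArg (pullback.snd q g) hab
        rwa [← Scheme.Hom.comp_apply, ← Scheme.Hom.comp_apply, hΓ] at this
      let γ : T' ⟶ pullback (f ≫ q) g := hpb.flip.isoPullback.hom ≫ pullback.mapDesc f i₂ q
      have hγ1 : γ ≫ pullback.fst (f ≫ q) g = i₁ := by
        change (hpb.flip.isoPullback.hom ≫ pullback.mapDesc f i₂ q) ≫
          pullback.fst (f ≫ q) (i₂ ≫ q) = i₁
        rw [Category.assoc, pullback.lift_fst, Category.comp_id, IsPullback.isoPullback_hom_fst]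
      have hγ2 : γ ≫ pullback.snd (f ≫ q) g = f' := by
        change (hpb.flip.isoPullback.hom ≫ pullback.mapDesc f i₂ q) ≫
          pullback.snd (f ≫ q) (i₂ ≫ q) = f'
        rw [Category.assoc, pullback.lift_snd, Category.comp_id, IsPullback.isoPullback_hom_snd]
      have hcomm : γ ≫ h = f' ≫ Γ := by
        apply pullback.hom_ext
        · rw [Category.assoc, hh, pullback.lift_fst, ← Category.assoc, hγ1, Category.assoc,
            pullback.lift_fst, hpb.w]
        · rw [Category.assoc, hh, pullback.lift_snd, Category.comp_id, hγ2, Category.assoc,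
            pullback.lift_snd, Category.comp_id]
      have hγcl : IsClosedMap γ := γ.isClosedEmbedding.isClosedMap
      intro Z hZ
      have e : f' '' Z = Γ ⁻¹' (h '' (γ '' Z)) := by
        ext t
        constructor
        · rintro ⟨z, hz, rfl⟩
          refine ⟨γ z, ⟨z, hz, rfl⟩, ?_⟩
          rw [← Scheme.Hom.comp_apply, ← Scheme.Hom.comp_apply, hcomm]
        · rintro ⟨w, ⟨z, hz, rfl⟩, hw⟩
          refine ⟨z, hz, ?_⟩
          apply hΓinj
          rw [← hw, ← Scheme.Hom.comp_apply, ← Scheme.Hom.comp_apply, hcomm]
      change IsClosed (f' '' Z)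
      rw [e]
      exact (hcl _ (hγcl _ hZ)).preimage Γ.continuous
    exact { }

end Groth.Agent.S4378
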