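import Groth.Statements.S4404
import Mathlib

set_option autoImplicit false
universe u
open EGA2

namespace Groth.Agent.S4404

/-- (a) ⇔ (b): let S be a ring graded in nonnegative degrees and E a subset of the irrelevant ideal S_+.
Then V_+(E) is the whole of Proj S if and only if every element of E is nilpotent. -/
theorem result {R A : Type u} [CommRing R] [CommRing A] [Algebra R A] (𝒜 : ℕ → Submodule R A) [GradedAlgebra 𝒜]
    (E : Set A) (hE : E ⊆ (HomogeneousIdeal.irrelevant 𝒜).toIdeal) :
    ProjectiveSpectrum.zeroLocus 𝒜 E = Set.univ ↔ ∀ e ∈ E, IsNilpotent e := by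
  constructor
  · intro h e he
    by_contra hnil
    -- a prime not containing e
    have : e ∉ nilradical A := hnil
    rw [nilradical_eq_sInf, Submodule.mem_sInf] at this
    push Not at this
    obtain ⟨P, hP, heP⟩ := this
    have hP' : Ideal.IsPrime P := hP
    have hcore := Ideal.IsPrime.homogeneousCore (𝒜 := 𝒜) (I := P) hP'
    have hle : (Ideal.homogeneousCore 𝒜 P).toIdeal ≤ P := Ideal.toIdeal_homogeneousCore_le 𝒜 P
    have hrel : ¬ HomogeneousIdeal.irrelevant 𝒜 ≤ Ideal.homogeneousCore 𝒜 P := by
      intro hirr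
      exact heP (hle (hirr (hE he)))
    let x : ProjectiveSpectrum 𝒜 := ⟨Ideal.homogeneousCore 𝒜 P, hcore, hrel⟩
    have hx : x ∈ ProjectiveSpectrum.zeroLocus 𝒜 E := by rw [h]; trivial
    exact heP (hle (hx he))
  · intro h
    ext x
    simp only [ProjectiveSpectrum.mem_zeroLocus, Set.mem_univ, iff_true]
    intro e he
    obtain ⟨n, hn⟩ := h e he
    have : e ^ n ∈ x.asHomogeneousIdeal.toIdeal := by rw [hn]; exact Ideal.zero_mem _
    exact x.isPrime.mem_of_pow_mem n this

end Groth.Agent.S4404
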