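import Groth.Statements.S4405
import Mathlib

set_option autoImplicit false
universe u
open EGA2

namespace Groth.Agent.S4405

/-- Let S be a ring graded in nonnegative degrees and E any subset of the irrelevant ideal S_+. Then the
intersection of S_+ with the vanishing ideal of the closed subset V_+(E) of Proj S equals the
intersection of S_+ with the radical of the graded ideal generated by E (the smallest homogeneous
ideal containing E). -/
theorem result {R A : Type u} [CommRing R] [CommRing A] [Algebra R A] (𝒜 : ℕ → Submodule R A) [GradedAlgebra 𝒜]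
    (E : Set A) (hE : E ⊆ (HomogeneousIdeal.irrelevant 𝒜).toIdeal) :
    (HomogeneousIdeal.irrelevant 𝒜).toIdeal ⊓
        (ProjectiveSpectrum.vanishingIdeal (ProjectiveSpectrum.zeroLocus 𝒜 E)).toIdeal =
      (HomogeneousIdeal.irrelevant 𝒜).toIdeal ⊓ (Ideal.homogeneousHull 𝒜 (Ideal.span E)).toIdeal.radical := by
  set J := Ideal.homogeneousHull 𝒜 (Ideal.span E) with hJ
  have hEJ : E ⊆ (J.toIdeal : Set A) := fun e he =>
    Ideal.le_toIdeal_homogeneousHull 𝒜 _ (Ideal.subset_span he)
  apply le_antisymm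
  · rintro f ⟨hf1, hf2⟩
    refine ⟨hf1, ?_⟩
    change f ∈ (J.toIdeal).radical
    rw [Ideal.radical_eq_sInf, Submodule.mem_sInf]
    rintro P ⟨hJP, hP⟩
    have hP' : Ideal.IsPrime P := hP
    have hcore := Ideal.IsPrime.homogeneousCore (𝒜 := 𝒜) (I := P) hP'
    have hle : (Ideal.homogeneousCore 𝒜 P).toIdeal ≤ P := Ideal.toIdeal_homogeneousCore_le 𝒜 P
    have hJcore : J ≤ Ideal.homogeneousCore 𝒜 P := (Ideal.homogeneousCore.gc 𝒜 J P).mp hJP
    by_cases hrel : HomogeneousIdeal.irrelevant 𝒜 ≤ Ideal.homogeneousCore 𝒜 P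
    · exact hle (hrel hf1)
    · let x : ProjectiveSpectrum 𝒜 := ⟨Ideal.homogeneousCore 𝒜 P, hcore, hrel⟩
      have hx : x ∈ ProjectiveSpectrum.zeroLocus 𝒜 E := fun e he => hJcore (hEJ he)
      have := (ProjectiveSpectrum.mem_vanishingIdeal _ f).mp hf2 x hx
      exact hle this
  · rintro f ⟨hf1, hf2⟩
    refine ⟨hf1, ?_⟩
    change f ∈ (ProjectiveSpectrum.vanishingIdeal (ProjectiveSpectrum.zeroLocus 𝒜 E))
    rw [ProjectiveSpectrum.mem_vanishingIdeal]
    intro x hx
    have hJx : J ≤ x.asHomogeneousIdeal := by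
      rw [hJ]
      apply (Ideal.homogeneousHull.gc 𝒜 _ _).mpr
      rw [Ideal.span_le]
      exact hx
    obtain ⟨n, hn⟩ := hf2
    exact x.isPrime.mem_of_pow_mem n (hJx hn)

end Groth.Agent.S4405
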