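import Groth.Statements.S4429
import Mathlib

set_option autoImplicit false
universe u
open EGA2

namespace Groth.Agent.S4429

/-- For an integral domain A with fraction field K, a finitely generated A-module E and an endomorphism
u of E, the coefficients of the characteristic polynomial of u ⊗ 1 acting on the K-vector space K
⊗_A E (the elementary symmetric functions of u, among them its trace and determinant) are integral
over A. -/
theorem result (A : Type u) [CommRing A] [IsDomain A] (K : Type u) [Field K]
    [Algebra A K] [IsFractionRing A K] (E : Type u) [AddCommGroup E] [Module A E] [Module.Finite A E]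
    (u : E →ₗ[A] E) (i : ℕ) :
    IsIntegral A (((u.baseChange K).charpoly).coeff i) := by
  classical
  obtain ⟨P, hPm, hP⟩ := LinearMap.exists_monic_and_aeval_eq_zero A u
  have hbc : ∀ (R S M : Type u) [CommRing R] [CommRing S] [Algebra R S] [AddCommGroup M] [Module R M]
      (g : M →ₗ[R] M) (q : Polynomial R), Polynomial.aeval g q = 0 →
      Polynomial.aeval (g.baseChange S) (q.map (algebraMap R S)) = 0 := by
    intro R S M _ _ _ _ _ g q hq
    rw [Polynomial.aeval_map_algebraMap]
    have := Polynomial.aeval_algHom_apply (Module.End.baseChangeHom R S M) g q
    rw [hq, map_zero] at this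
    exact this
  let L := AlgebraicClosure K
  have key : IsIntegral A (((u.baseChange K).charpoly.map (algebraMap K L)).coeff i) := by
    apply Polynomial.isIntegral_coeff_of_factors
    · rw [((u.baseChange K).charpoly_monic.map _).leadingCoeff]
      exact isIntegral_one
    · exact IsAlgClosed.splits _
    · intro x hx
      rw [← LinearMap.charpoly_baseChange] at hx
      have hev := (Module.End.hasEigenvalue_iff_isRoot_charpoly ((u.baseChange K).baseChange L) x).mpr hx
      obtain ⟨v, hv⟩ := hev.exists_hasEigenvector
      refine ⟨P, hPm, ?_⟩
      have h1 := hbc A K E u P hP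
      have h2 := hbc K L _ (u.baseChange K) _ h1
      rw [Polynomial.map_map, ← IsScalarTower.algebraMap_eq] at h2
      have h3 := Module.End.aeval_apply_of_hasEigenvector (p := P.map (algebraMap A L)) hv
      rw [h2, LinearMap.zero_apply] at h3
      have h4 := (smul_eq_zero.mp h3.symm).resolve_right hv.2
      rwa [Polynomial.eval_map] at h4
  rw [Polynomial.coeff_map] at key
  exact (isIntegral_algebraMap_iff (algebraMap K L).injective).mp key

end Groth.Agent.S4429
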