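import Groth.Statements.S4430
import Mathlib
import Groth.Agent.S4429

set_option autoImplicit false
universe u
open EGA2

namespace Groth.Agent.S4430

/-- Let A be an integral domain with fraction field K, E a finitely generated A-module and u an
endomorphism of E whose characteristic-polynomial coefficients (those of u ⊗ 1 on K ⊗_A E) all lie
in A. If u is an automorphism of E, then its determinant, as an element of A, is invertible in A. -/
theorem result (A : Type u) [CommRing A] [IsDomain A] (K : Type u) [Field K]
    [Algebra A K] [IsFractionRing A K] (E : Type u) [AddCommGroup E] [Module A E] [Module.Finite A E]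
    (u : E →ₗ[A] E) (hcoeff : ∀ i : ℕ, ((u.baseChange K).charpoly).coeff i ∈ (algebraMap A K).range)
    (a : A) (ha : algebraMap A K a = LinearMap.det (u.baseChange K)) (hu : Function.Bijective u) :
    IsUnit a := by
  classical
  have lem : ∀ (a : A) (b : K), algebraMap A K a * b = 1 → IsIntegral A b → IsUnit a := by
    intro a b hab hb
    obtain ⟨p, hpm, hp⟩ := hb
    letI : Invertible b := ⟨algebraMap A K a, hab, by rw [mul_comm]; exact hab⟩
    have h1 := Polynomial.eval₂_reverse_mul_pow (algebraMap A K) b p
    rw [hp] at h1
    have hb0 : b ≠ 0 := by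
      rintro rfl
      rw [mul_zero] at hab
      exact zero_ne_one hab
    have h2 : Polynomial.eval₂ (algebraMap A K) (⅟b) p.reverse = 0 := by
      rcases mul_eq_zero.mp h1 with h | h
      · exact h
      · exact absurd (eq_zero_of_pow_eq_zero h) hb0
    have h3 : (⅟b : K) = algebraMap A K a := rfl
    rw [h3, Polynomial.eval₂_at_apply] at h2
    have h4 : p.reverse.eval a = 0 := by
      apply IsFractionRing.injective A K
      rw [h2, map_zero]
    have h5 := Polynomial.divX_mul_X_add p.reverse
    rw [Polynomial.coeff_zero_reverse, hpm.leadingCoeff] at h5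
    rw [← h5] at h4
    simp only [Polynomial.eval_add, Polynomial.eval_mul, Polynomial.eval_X, Polynomial.eval_C] at h4
    refine IsUnit.of_mul_eq_one (-(p.reverse.divX.eval a)) ?_
    linear_combination -h4
  let e : E ≃ₗ[A] E := LinearEquiv.ofBijective u hu
  have huv : u ∘ₗ e.symm.toLinearMap = LinearMap.id := by
    ext x
    simp [e]
  have h1 : (u.baseChange K) ∘ₗ (e.symm.toLinearMap.baseChange K) = LinearMap.id := by
    rw [← LinearMap.baseChange_comp, huv, LinearMap.baseChange_id]
  have h2 : LinearMap.det (u.baseChange K) * LinearMap.det (e.symm.toLinearMap.baseChange K) = 1 := by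
    rw [← LinearMap.det_comp, h1, LinearMap.det_id]
  refine lem a _ (ha ▸ h2) ?_
  rw [LinearMap.det_eq_sign_charpoly_coeff]
  refine IsIntegral.mul ?_ (Groth.Agent.S4429.result A K E e.symm.toLinearMap 0)
  exact (IsIntegral.neg isIntegral_one).pow _

end Groth.Agent.S4430
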