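import Groth.Statements.S4431
import Mathlib

set_option autoImplicit false
universe u
open EGA2

namespace Groth.Agent.S4431

/-- Let A be an integral domain with fraction field K, E a finitely generated torsion-free A-module and
u an endomorphism of E whose characteristic-polynomial coefficients (those of u ⊗ 1 on K ⊗_A E) all
lie in A. If the determinant of u is the image of a unit of A, then u is an automorphism of E. -/
theorem result (A : Type u) [CommRing A] [IsDomain A] (K : Type u) [Field K]
    [Algebra A K] [IsFractionRing A K] (E : Type u) [AddCommGroup E] [Module A E] [Module.Finite A E]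
    [Module.IsTorsionFree A E]
    (u : E →ₗ[A] E) (hcoeff : ∀ i : ℕ, ((u.baseChange K).charpoly).coeff i ∈ (algebraMap A K).range)
    (a : A) (ha : algebraMap A K a = LinearMap.det (u.baseChange K)) (hunit : IsUnit a) :
    Function.Bijective u := by
  classical
  -- lift the characteristic polynomial to A
  have hl : (u.baseChange K).charpoly ∈ Polynomial.lifts (algebraMap A K) := by
    rw [Polynomial.lifts_iff_coeff_lifts]
    intro n
    exact hcoeff n
  obtain ⟨q, hq⟩ := hl
  rw [Polynomial.coe_mapRingHom] at hq
  -- q(u) ⊗ 1 = 0
  have h1 : Polynomial.aeval (u.baseChange K) (q.map (algebraMap A K)) = 0 := by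
    rw [hq]; exact LinearMap.aeval_self_charpoly _
  rw [Polynomial.aeval_map_algebraMap] at h1
  have h2 := Polynomial.aeval_algHom_apply (Module.End.baseChangeHom A K E) u q
  have h3 : (Polynomial.aeval u q).baseChange K = 0 := by
    have : Module.End.baseChangeHom A K E u = u.baseChange K := rfl
    rw [this, h1] at h2
    exact h2.symm
  -- E → K ⊗ E injective
  have hinj : ∀ x : E, (1 : K) ⊗ₜ[A] x = 0 → x = 0 := by
    intro x hx
    have hx' : TensorProduct.mk A K E 1 x = 0 := hx
    obtain ⟨s, hs⟩ := (IsLocalizedModule.eq_zero_iff (nonZeroDivisors A) (TensorProduct.mk A K E 1)).mp hx'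
    have hreg : IsRegular (s : A) := (isRegular_iff_mem_nonZeroDivisors).mpr s.2
    exact (Module.IsTorsionFree.isSMulRegular hreg) (by show (s : A) • x = (s : A) • 0; rw [smul_zero]; exact hs)
  have h4 : Polynomial.aeval u q = 0 := by
    ext x
    apply hinj
    have := LinearMap.congr_fun h3 ((1 : K) ⊗ₜ[A] x)
    simpa using this
  -- constant coefficient is a unit
  have hc0 : IsUnit (q.coeff 0) := by
    have hdet := LinearMap.det_eq_sign_charpoly_coeff (u.baseChange K)
    rw [← ha, ← hq, Polynomial.coeff_map] at hdet
    have : algebraMap A K (q.coeff 0) = algebraMap A K ((-1) ^ Module.finrank K (TensorProduct A K E) * a) := by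
      rw [map_mul, hdet, map_pow, map_neg, map_one, ← mul_assoc, ← mul_pow]
      simp
    have h := IsFractionRing.injective A K this
    rw [h]
    exact ((isUnit_one.neg).pow _).mul hunit
  obtain ⟨c, hc⟩ := hc0
  set w := Polynomial.aeval u q.divX with hw
  have h5 : w * u + (q.coeff 0) • (1 : Module.End A E) = 0 := by
    have := Polynomial.divX_mul_X_add q
    rw [← this] at h4
    simpa [Algebra.smul_def] using h4
  have h6 : u * w = w * u := by
    have hcomm := Polynomial.commute_X q.divX
    have := congrArg (Polynomial.aeval u) hcomm.eq
    rw [map_mul, map_mul, Polynomial.aeval_X] at this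
    exact this
  constructor
  · intro x y hxy
    have hz : u (x - y) = 0 := by rw [map_sub, hxy, sub_self]
    have := LinearMap.congr_fun h5 (x - y)
    simp only [LinearMap.add_apply, Module.End.mul_apply, hz, map_zero, LinearMap.smul_apply,
      Module.End.one_apply, zero_add, LinearMap.zero_apply] at this
    rw [← hc] at this
    have h7 : x - y = 0 := by
      have := congrArg (fun z => (↑c⁻¹ : A) • z) this
      simpa [smul_smul] using this
    exact sub_eq_zero.mp h7
  · intro y
    refine ⟨-((↑c⁻¹ : A) • w y), ?_⟩
    have := LinearMap.congr_fun h5 y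
    rw [← h6] at this
    simp only [LinearMap.add_apply, Module.End.mul_apply, LinearMap.smul_apply,
      Module.End.one_apply, LinearMap.zero_apply] at this
    rw [map_neg, map_smul]
    have h8 : u (w y) = -((c : A) • y) := by
      rw [hc]; exact eq_neg_of_add_eq_zero_left this
    rw [h8, smul_neg, neg_neg, smul_smul]
    simp

end Groth.Agent.S4431
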