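import Groth.Statements.S4447
import Mathlib

set_option autoImplicit false
universe u
open CategoryTheory CategoryTheory.Limits AlgebraicGeometry
open EGA2

namespace Groth.Agent.S4447

/-- Let p : X ⟶ Y be a morphism, x a point of X, y = p(x) and y' a specialization of y distinct from y.
Then there are a valuation ring A which is not a field, with field of fractions the residue field
k(x), and a morphism Spec A ⟶ Y mapping the closed point to y' and restricting on Spec k(x) to the
canonical morphism Spec k(x) ⟶ X ⟶ Y (in particular the generic point of Spec A goes to y). -/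
theorem result {X Y : Scheme.{u}} (p : X ⟶ Y) (x : X) (y' : Y)
    (hsp : p.base x ⤳ y') (hne : y' ≠ p.base x) :
    ∃ (A : ValuationSubring (X.residueField x)) (h : Spec (CommRingCat.of A) ⟶ Y), A ≠ ⊤ ∧
      h.base (IsLocalRing.closedPoint A) = y' ∧
      Spec.map (CommRingCat.ofHom A.subtype) ≫ h = X.fromSpecResidueField x ≫ p := by
  let φ : Y.presheaf.stalk y' ⟶ X.residueField x :=
    Y.presheaf.stalkSpecializes hsp ≫ p.stalkMap x ≫ X.residue x
  obtain ⟨A, hA, hA_local⟩ := IsLocalRing.exists_factor_valuationRing φ.hom
  let ψ : Y.presheaf.stalk y' ⟶ .of A :=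
    CommRingCat.ofHom (φ.hom.codRestrict _ hA)
  have w : X.fromSpecResidueField x ≫ p =
      Spec.map (CommRingCat.ofHom (algebraMap A (X.residueField x))) ≫
        Spec.map ψ ≫ Y.fromSpecStalk y' := by
    rw [Scheme.fromSpecResidueField, Category.assoc, ← Scheme.SpecMap_stalkMap_fromSpecStalk,
      ← Scheme.SpecMap_stalkSpecializes_fromSpecStalk hsp]
    simp_rw [← Spec.map_comp_assoc]
    rfl
  have hcl : (Spec.map ψ ≫ Y.fromSpecStalk y').base (IsLocalRing.closedPoint A) = y' := by
    simp only [Scheme.Hom.comp_base, TopCat.coe_comp, Function.comp_apply]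
    have : Spec.map ψ (IsLocalRing.closedPoint A) = IsLocalRing.closedPoint (Y.presheaf.stalk y') :=
      IsLocalRing.comap_closedPoint (S := A) (φ.hom.codRestrict A.toSubring hA)
    erw [this, Y.fromSpecStalk_closedPoint]
  refine ⟨A, Spec.map ψ ≫ Y.fromSpecStalk y', ?_, hcl, w.symm⟩
  intro htop
  apply hne
  have hmax : IsLocalRing.maximalIdeal A = ⊥ := by
    rw [eq_bot_iff]
    intro a ha
    by_contra hne0
    have hne0' : a ≠ 0 := hne0
    have hall : ∀ z : X.residueField x, z ∈ A := fun z => by rw [htop]; exact ValuationSubring.mem_top _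
    have hinv : (a : X.residueField x)⁻¹ ∈ A := hall _
    have hunit : IsUnit a := by
      refine IsUnit.of_mul_eq_one ⟨_, hinv⟩ (Subtype.ext ?_)
      simp only [MulMemClass.coe_mul, OneMemClass.coe_one]
      exact mul_inv_cancel₀ (fun h0 => hne0' (Subtype.ext h0))
    exact (IsLocalRing.mem_maximalIdeal a).mp ha hunit
  have hpt : IsLocalRing.closedPoint A =
      (Spec.map (CommRingCat.ofHom (algebraMap A (X.residueField x)))).base
        (IsLocalRing.closedPoint (X.residueField x)) := by
    apply PrimeSpectrum.ext
    change IsLocalRing.maximalIdeal A = Ideal.comap (algebraMap A (X.residueField x)) (IsLocalRing.maximalIdeal (X.residueField x))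
    rw [hmax, IsLocalRing.maximalIdeal_eq_bot, ← RingHom.ker_eq_comap_bot]
    symm
    rw [RingHom.ker_eq_bot_iff_eq_zero]
    intro a ha
    exact Subtype.ext ha
  rw [← hcl, hpt, ← Scheme.Hom.comp_apply, ← w, Scheme.Hom.comp_apply,
    Scheme.fromSpecResidueField_apply]

end Groth.Agent.S4447
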