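import Groth.Statements.S4459
import Mathlib

set_option autoImplicit false
universe u
open Coherent

namespace Groth.Agent.S4459

open AlgebraicGeometry CategoryTheory in
/-- Let A be a Noetherian ring which is separated and complete for the J-adic topology, and let f : X →
Spec A be a morphism of schemes which is a closed map on underlying spaces. Then every open subset
of X containing the inverse image of V(J) is all of X. (The published statement also assumes X of
finite type over A; that hypothesis is not used.) -/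
theorem result (A : Type u) [CommRing A] [IsNoetherianRing A]
    (J : Ideal A) [IsAdicComplete J A] {X : Scheme.{u}} (f : X ⟶ Spec (CommRingCat.of A))
    (hf : IsClosedMap f.base) (U : X.Opens)
    (hU : f.base ⁻¹' (PrimeSpectrum.zeroLocus (J : Set A)) ⊆ (U : Set X)) : U = ⊤ := by
  by_contra hne
  have hex : ∃ x : X, x ∉ U := by
    by_contra h
    push_neg at h
    apply hne
    ext x
    simp [h x]
  obtain ⟨x, hx⟩ := hex
  have hZ : IsClosed ((U : Set X)ᶜ) := U.isOpen.isClosed_compl
  have hfZ : IsClosed (f.base '' ((U : Set X)ᶜ)) := hf _ hZ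
  obtain ⟨I, hI⟩ := (PrimeSpectrum.isClosed_iff_zeroLocus_ideal _).mp hfZ
  have hIJ : I ⊔ J = ⊤ := by
    by_contra h
    obtain ⟨m, hm, hle⟩ := Ideal.exists_le_maximal _ h
    let p : PrimeSpectrum A := ⟨m, hm.isPrime⟩
    have hpI : p ∈ PrimeSpectrum.zeroLocus (I : Set A) := fun a ha => hle (Ideal.mem_sup_left ha)
    have hpJ : p ∈ PrimeSpectrum.zeroLocus (J : Set A) := fun a ha => hle (Ideal.mem_sup_right ha)
    rw [← hI] at hpI
    obtain ⟨z, hz, hzp⟩ := hpI
    apply hz
    apply hU
    show f.base z ∈ PrimeSpectrum.zeroLocus (J : Set A)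
    rw [hzp]
    exact hpJ
  have hJ : J ≤ Ideal.jacobson ⊥ := IsAdicComplete.le_jacobson_bot J
  have hItop : I = ⊤ := by
    obtain ⟨i, hi, j, hj, hij⟩ := Submodule.mem_sup.mp ((Ideal.eq_top_iff_one _).mp hIJ)
    have hu : IsUnit i := by
      have h1 := Ideal.mem_jacobson_bot.mp (hJ hj) (-1)
      have h2 : j * -1 + 1 = i := by
        have : i = 1 - j := by rw [← hij]; ring
        rw [this]; ring
      rwa [h2] at h1
    exact Ideal.eq_top_of_isUnit_mem _ hi hu
  have hmem : f.base x ∈ f.base '' ((U : Set X)ᶜ) := ⟨x, hx, rfl⟩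
  rw [hI, hItop] at hmem
  simp at hmem
  exact hmem

end Groth.Agent.S4459
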