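import Groth.Statements.S4495
import Mathlib

set_option autoImplicit false
universe u
open FlatCx

namespace Groth.Agent.S4495

open CategoryTheory AlgebraicGeometry Opposite in
/-- A locally ringed space Z is connected, in the sense that it is not the disjoint union of two
nonempty open subsets (the empty space being allowed), if and only if every idempotent of the ring
of global sections Γ(Z, O_Z) is 0 or 1 (equivalently, Γ(Z, O_Z) is not isomorphic to a product of
two nonzero rings). -/
theorem result (Z : LocallyRingedSpace.{u}) :
    PreconnectedSpace Z ↔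
      ∀ e : Z.presheaf.obj (op ⊤), IsIdempotentElem e → e = 0 ∨ e = 1 := by
  constructor
  · intro hpc e he
    have hstalk : ∀ z : Z, Z.presheaf.germ ⊤ z trivial e = 0 ∨ Z.presheaf.germ ⊤ z trivial e = 1 := by
      intro z
      have hg : Z.presheaf.germ ⊤ z trivial e * Z.presheaf.germ ⊤ z trivial e =
          Z.presheaf.germ ⊤ z trivial e := by rw [← map_mul, he.eq]
      rcases IsLocalRing.isUnit_or_isUnit_one_sub_self (Z.presheaf.germ ⊤ z trivial e) with h | h
      · right
        exact (IsIdempotentElem.iff_eq_one_of_isUnit h).mp hg
      · left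
        have h0 : Z.presheaf.germ ⊤ z trivial e * (1 - Z.presheaf.germ ⊤ z trivial e) = 0 := by
          rw [mul_sub, mul_one, hg, sub_self]
        exact (h.mul_left_eq_zero).mp h0
    have hopen : ∀ c : Z.presheaf.obj (op ⊤),
        IsOpen {z : Z | Z.presheaf.germ ⊤ z trivial e = Z.presheaf.germ ⊤ z trivial c} := by
      intro c
      rw [isOpen_iff_forall_mem_open]
      intro z hz
      obtain ⟨W, hzW, iU, iV, hW⟩ := Z.presheaf.germ_eq (U := ⊤) (V := ⊤) z trivial trivial e c hz
      refine ⟨W.1, fun w hw => ?_, W.2, hzW⟩
      show Z.presheaf.germ ⊤ w trivial e = Z.presheaf.germ ⊤ w trivial c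
      rw [← Z.presheaf.germ_res_apply iU w hw e, ← Z.presheaf.germ_res_apply iV w hw c, hW]
    have h0 := hopen 0
    have h1 := hopen 1
    simp only [map_zero, map_one] at h0 h1
    have hcover : (Set.univ : Set Z) ⊆ {z : Z | Z.presheaf.germ ⊤ z trivial e = 0} ∪
        {z : Z | Z.presheaf.germ ⊤ z trivial e = 1} := fun z _ => hstalk z
    have hdisj : (Set.univ : Set Z) ∩ ({z : Z | Z.presheaf.germ ⊤ z trivial e = 0} ∩
        {z : Z | Z.presheaf.germ ⊤ z trivial e = 1}) = ∅ := by
      ext z
      simp only [Set.mem_inter_iff, Set.mem_univ, Set.mem_setOf_eq, true_and,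
        Set.mem_empty_iff_false, iff_false, not_and]
      intro ha hb
      rw [ha] at hb
      exact zero_ne_one hb
    rcases isPreconnected_iff_subset_of_disjoint.mp isPreconnected_univ _ _ h0 h1 hcover hdisj
      with h | h
    · left
      refine TopCat.Presheaf.section_ext Z.sheaf ⊤ e 0 fun z hz => ?_
      rw [map_zero]
      exact h (Set.mem_univ z)
    · right
      refine TopCat.Presheaf.section_ext Z.sheaf ⊤ e 1 fun z hz => ?_
      rw [map_one]
      exact h (Set.mem_univ z)
  · intro h
    rw [preconnectedSpace_iff_clopen]
    intro s hs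
    let U : TopologicalSpace.Opens Z := ⟨s, hs.2⟩
    let V : TopologicalSpace.Opens Z := ⟨sᶜ, hs.1.isOpen_compl⟩
    let Uf : Bool → TopologicalSpace.Opens Z := fun b => match b with | true => U | false => V
    let sf : ∀ b : Bool, Z.presheaf.obj (op (Uf b)) := fun b =>
      match b with
      | true => (1 : Z.presheaf.obj (op U))
      | false => (0 : Z.presheaf.obj (op V))
    have hbot : ∀ (W : TopologicalSpace.Opens Z), (∀ z, z ∉ W) →
        ∀ a b : Z.presheaf.obj (op W), a = b := by
      intro W hW a b
      refine Z.sheaf.eq_of_locally_eq' (fun i : PEmpty.{1} => PEmpty.elim i) W (fun i => i.elim) ?_ a b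
        (fun i => i.elim)
      intro z hz
      exact absurd hz (hW z)
    have htriv : ∀ (W : TopologicalSpace.Opens Z), (0 : Z.presheaf.obj (op W)) = 1 → ∀ z, z ∉ W := by
      intro W h01 z hz
      have := congrArg (Z.presheaf.germ W z hz) h01
      rw [map_zero, map_one] at this
      exact zero_ne_one this
    have hcompat : TopCat.Presheaf.IsCompatible Z.presheaf Uf sf := by
      intro i j
      cases i <;> cases j
      · simp [sf]
      · apply hbot
        intro z hz
        exact hz.1 hz.2
      · apply hbot
        intro z hz
        exact hz.2 hz.1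
      · simp [sf]
    have hcover : (⊤ : TopologicalSpace.Opens Z) ≤ iSup Uf := by
      intro z _
      rw [TopologicalSpace.Opens.mem_iSup]
      by_cases hz : z ∈ s
      · exact ⟨true, hz⟩
      · exact ⟨false, hz⟩
    obtain ⟨e, he, huniq⟩ : ∃! e : Z.presheaf.obj (op ⊤),
        ∀ b, Z.presheaf.map (homOfLE (le_top : Uf b ≤ ⊤)).op e = sf b :=
      Z.sheaf.existsUnique_gluing' Uf ⊤ (fun b => homOfLE le_top) hcover sf hcompat
    have hidem : IsIdempotentElem e := by
      have h1 := huniq (e * e) (fun b => by
        rw [map_mul, he b]
        cases b <;> simp [sf])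
      exact h1
    rcases h e hidem with h0 | h1
    · left
      have h2 := he true
      rw [h0, map_zero] at h2
      have h3 := htriv U h2
      ext z
      simp only [Set.mem_empty_iff_false, iff_false]
      exact h3 z
    · right
      have h2 := he false
      rw [h1, map_one] at h2
      have h3 := htriv V h2.symm
      ext z
      simp only [Set.mem_univ, iff_true]
      by_contra hz
      exact h3 z hz

end Groth.Agent.S4495
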