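import Groth.Statements.S4515
import Mathlib
import Groth.Agent.Lib.helper4.FlatCoker

set_option autoImplicit false
universe u
open EGA41

namespace Groth.Agent.S4515

/-- Let A be a ring, J an ideal of A, and M, N two A-modules which are Hausdorff for the J-adic
topology; suppose moreover that N is J-adically complete and M is flat. Let u : N → M be A-linear.
If the induced map N/JN → M/JM is bijective (surjectivity and injectivity written out below), then u
is bijective. -/
theorem result {A : Type u} [CommRing A] (J : Ideal A)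
    {M N : Type u} [AddCommGroup M] [Module A M] [AddCommGroup N] [Module A N]
    [IsHausdorff J M] [IsAdicComplete J N] [Module.Flat A M] (u : N →ₗ[A] M)
    (hsurj : ∀ m : M, ∃ n : N, m - u n ∈ (J • ⊤ : Submodule A M))
    (hinj : ∀ n : N, u n ∈ (J • ⊤ : Submodule A M) → n ∈ (J • ⊤ : Submodule A N)) :
    Function.Bijective u := by
  classical
  -- (∗) approximate lifting at each level
  have hstar : ∀ k : ℕ, ∀ m ∈ (J ^ k • ⊤ : Submodule A M),
      ∃ n ∈ (J ^ k • ⊤ : Submodule A N), m - u n ∈ (J ^ (k + 1) • ⊤ : Submodule A M) := by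
    intro k m hm
    refine Submodule.smul_induction_on hm ?_ ?_
    · intro a ha m' _
      obtain ⟨n', hn'⟩ := hsurj m'
      refine ⟨a • n', Submodule.smul_mem_smul ha Submodule.mem_top, ?_⟩
      rw [map_smul, ← smul_sub, pow_succ, mul_smul]
      exact Submodule.smul_mem_smul ha hn'
    · intro x y ⟨n1, hn1, h1⟩ ⟨n2, hn2, h2⟩
      refine ⟨n1 + n2, add_mem hn1 hn2, ?_⟩
      have : x + y - u (n1 + n2) = (x - u n1) + (y - u n2) := by rw [map_add]; abel
      rw [this]
      exact add_mem h1 h2
  have humap : ∀ k : ℕ, ∀ n ∈ (J ^ k • ⊤ : Submodule A N), u n ∈ (J ^ k • ⊤ : Submodule A M) := by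
    intro k n hn
    have : u n ∈ (J ^ k • ⊤ : Submodule A N).map u := Submodule.mem_map_of_mem hn
    rw [Submodule.map_smul''] at this
    exact Submodule.smul_mono le_rfl le_top this
  have hsurj' : Function.Surjective u := by
    intro m
    -- recursive construction
    let step : (k : ℕ) → {s : N // m - u s ∈ (J ^ k • ⊤ : Submodule A M)} →
        {s : N // m - u s ∈ (J ^ (k + 1) • ⊤ : Submodule A M)} := fun k s =>
      ⟨s.1 + (hstar k _ s.2).choose, by
        have h := (hstar k _ s.2).choose_spec.2
        have : m - u (s.1 + (hstar k _ s.2).choose) = m - u s.1 - u (hstar k _ s.2).choose := by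
          rw [map_add]; abel
        rw [this]; exact h⟩
    let seq : (k : ℕ) → {s : N // m - u s ∈ (J ^ k • ⊤ : Submodule A M)} := fun k =>
      Nat.rec (motive := fun k => {s : N // m - u s ∈ (J ^ k • ⊤ : Submodule A M)})
        ⟨0, by rw [pow_zero, Ideal.one_eq_top, Submodule.top_smul]; exact Submodule.mem_top⟩
        (fun k s => step k s) k
    have hseq_succ : ∀ k, (seq (k + 1)).1 - (seq k).1 ∈ (J ^ k • ⊤ : Submodule A N) := by
      intro k
      have : (seq (k + 1)).1 = (seq k).1 + (hstar k _ (seq k).2).choose := rfl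
      rw [this, add_sub_cancel_left]
      exact (hstar k _ (seq k).2).choose_spec.1
    have hcauchy : ∀ {a b : ℕ}, a ≤ b →
        (seq a).1 ≡ (seq b).1 [SMOD (J ^ a • ⊤ : Submodule A N)] := by
      intro a b hab
      induction b, hab using Nat.le_induction with
      | base => rfl
      | succ b hab ih =>
        refine ih.trans ?_
        rw [SModEq.sub_mem]
        have h1 := hseq_succ b
        have h2 : (J ^ b • ⊤ : Submodule A N) ≤ J ^ a • ⊤ :=
          Submodule.smul_mono (Ideal.pow_le_pow_right hab) le_rfl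
        have h3 : (seq b).1 - (seq (b + 1)).1 = -((seq (b + 1)).1 - (seq b).1) := by abel
        rw [h3]
        exact neg_mem (h2 h1)
    obtain ⟨L, hL⟩ := IsPrecomplete.prec (I := J) (M := N) inferInstance (f := fun k => (seq k).1)
      (fun {a b} hab => hcauchy hab)
    refine ⟨L, ?_⟩
    have hzero : m - u L = 0 := by
      apply IsHausdorff.haus (I := J) (M := M) inferInstance
      intro k
      rw [SModEq.zero]
      have h1 : m - u (seq k).1 ∈ (J ^ k • ⊤ : Submodule A M) := (seq k).2
      have h2 : (seq k).1 - L ∈ (J ^ k • ⊤ : Submodule A N) := by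
        have := hL k
        rw [SModEq.sub_mem] at this
        exact this
      have h3 := humap k _ h2
      have : m - u L = (m - u (seq k).1) + u ((seq k).1 - L) := by rw [map_sub]; abel
      rw [this]
      exact add_mem h1 h3
    exact (sub_eq_zero.1 hzero).symm
  refine ⟨?_, hsurj'⟩
  -- injectivity
  set K := LinearMap.ker u with hK
  have hK1 : K ≤ (J • ⊤ : Submodule A N) := by
    intro x hx
    apply hinj
    rw [LinearMap.mem_ker.1 hx]
    exact Submodule.zero_mem _
  have hexact : Function.Exact K.subtype u := LinearMap.exact_subtype_ker_map u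
  have hflat : Function.Injective (K.subtype.lTensor (A ⧸ J)) :=
    Groth.Agent.H4.H4_lTensor_injective_of_flat_coker K.subtype u K.injective_subtype hsurj' hexact
      (A ⧸ J)
  have hzeroN : ∀ x ∈ (J • ⊤ : Submodule A N), (1 : A ⧸ J) ⊗ₜ[A] x = 0 := by
    intro x hx
    refine Submodule.smul_induction_on hx ?_ ?_
    · intro a ha n _
      rw [TensorProduct.tmul_smul, TensorProduct.smul_tmul']
      have : a • (1 : A ⧸ J) = 0 := by
        rw [Algebra.smul_def, mul_one]
        exact (Ideal.Quotient.eq_zero_iff_mem).2 ha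
      rw [this, TensorProduct.zero_tmul]
    · intro x y hx hy
      rw [TensorProduct.tmul_add, hx, hy, add_zero]
  have hK2 : K ≤ J • K := by
    intro x hx
    have h1 : (K.subtype.lTensor (A ⧸ J)) ((1 : A ⧸ J) ⊗ₜ[A] (⟨x, hx⟩ : K)) = 0 := by
      rw [LinearMap.lTensor_tmul]
      exact hzeroN x (hK1 hx)
    have h2 : (1 : A ⧸ J) ⊗ₜ[A] (⟨x, hx⟩ : K) = 0 := by
      apply hflat
      rw [h1, map_zero]
    have h3 := congrArg (TensorProduct.quotTensorEquivQuotSMul K J) h2
    rw [TensorProduct.quotTensorEquivQuotSMul_mk_one_tmul, map_zero,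
      Submodule.Quotient.mk_eq_zero] at h3
    have h4 : x ∈ (J • (⊤ : Submodule A K)).map K.subtype := ⟨⟨x, hx⟩, h3, rfl⟩
    rw [Submodule.map_smul'', Submodule.map_subtype_top] at h4
    exact h4
  have hK3 : ∀ k : ℕ, K ≤ J ^ k • K := by
    intro k
    induction k with
    | zero => rw [pow_zero, Ideal.one_eq_top, Submodule.top_smul]
    | succ k ih =>
      calc K ≤ J • K := hK2
        _ ≤ J • (J ^ k • K) := Submodule.smul_mono le_rfl ih
        _ = J ^ (k + 1) • K := by rw [← mul_smul, ← pow_succ']
  rw [← LinearMap.ker_eq_bot, eq_bot_iff]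
  intro x hx
  rw [Submodule.mem_bot]
  apply IsHausdorff.haus (I := J) (M := N) inferInstance
  intro k
  rw [SModEq.zero]
  exact Submodule.smul_mono le_rfl le_top (hK3 k hx)

end Groth.Agent.S4515
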