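import Groth.Statements.S4524
import Mathlib

set_option autoImplicit false
universe u
open EGA41

namespace Groth.Agent.S4524

/-- Let k be a field of characteristic 0 and K an extension of k. Then Ω_{K/k} = 0 if and only if K is
an algebraic extension of k. -/
theorem result {k K : Type u} [Field k] [CharZero k] [Field K] [Algebra k K] :
    Subsingleton (Ω[K⁄k]) ↔ Algebra.IsAlgebraic k K := by
  classical
  constructor
  · intro hsub
    by_contra hnalg
    obtain ⟨ι, x, hx⟩ := exists_isTranscendenceBasis' k K
    have hne : Nonempty ι := by
      rw [hx.nonempty_iff_transcendental, Algebra.transcendental_iff_not_isAlgebraic]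
      exact hnalg
    obtain ⟨i0⟩ := hne
    letI algPK : Algebra (MvPolynomial ι k) K := (MvPolynomial.aeval x).toAlgebra
    have : IsScalarTower k (MvPolynomial ι k) K :=
      IsScalarTower.of_algebraMap_eq (fun r => ((MvPolynomial.aeval x).commutes r).symm)
    have hinj : Function.Injective (algebraMap (MvPolynomial ι k) K) := hx.1
    have halgP : Algebra.IsAlgebraic (MvPolynomial ι k) K := by
      rw [hx.isAlgebraic_iff]
      intro i
      have : x i = algebraMap (MvPolynomial ι k) K (MvPolynomial.X i) :=
        (MvPolynomial.aeval_X x i).symm
      rw [this]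
      exact isAlgebraic_algebraMap _
    letI algEK : Algebra (FractionRing (MvPolynomial ι k)) K := (IsFractionRing.lift hinj).toAlgebra
    have : IsScalarTower (MvPolynomial ι k) (FractionRing (MvPolynomial ι k)) K :=
      IsScalarTower.of_algebraMap_eq (fun r => (IsFractionRing.lift_algebraMap hinj r).symm)
    have : Algebra.IsAlgebraic (FractionRing (MvPolynomial ι k)) K :=
      Algebra.IsAlgebraic.extendScalars (R := MvPolynomial ι k)
        (IsFractionRing.injective (MvPolynomial ι k) (FractionRing (MvPolynomial ι k)))
    have : CharZero (FractionRing (MvPolynomial ι k)) :=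
      charZero_of_injective_algebraMap
        (FaithfulSMul.algebraMap_injective k (FractionRing (MvPolynomial ι k)))
    have : Algebra.IsSeparable (FractionRing (MvPolynomial ι k)) K :=
      Algebra.IsAlgebraic.isSeparable_of_perfectField
    have : Algebra.FormallyEtale (FractionRing (MvPolynomial ι k)) K :=
      Algebra.FormallyEtale.of_isSeparable _ _
    have : Algebra.FormallyEtale (MvPolynomial ι k) (FractionRing (MvPolynomial ι k)) :=
      Algebra.FormallyEtale.of_isLocalization (nonZeroDivisors (MvPolynomial ι k))
    have : Algebra.FormallyEtale (MvPolynomial ι k) K :=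
      Algebra.FormallyEtale.comp (MvPolynomial ι k) (FractionRing (MvPolynomial ι k)) K
    let e := KaehlerDifferential.tensorKaehlerEquivOfFormallyEtale k (MvPolynomial ι k) K
    let b := (KaehlerDifferential.mvPolynomialBasis k ι).baseChange K
    have hb : b i0 ≠ 0 := b.ne_zero i0
    apply hb
    apply e.injective
    exact Subsingleton.elim _ _
  · intro halg
    have : Algebra.IsSeparable k K := Algebra.IsAlgebraic.isSeparable_of_perfectField
    have : Algebra.FormallyUnramified k K := Algebra.FormallyUnramified.of_isSeparable k K
    exact this.subsingleton_kaehlerDifferential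

end Groth.Agent.S4524
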