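import Groth.Statements.S4533
import Mathlib
import Groth.Agent.Lib.helper6.PSeriesFS

set_option autoImplicit false
universe u
open EGA41

namespace Groth.Agent.S4533

/-- Let A carry the 𝔞-adic topology and let B = A[[T_1, …, T_n]] carry the product topology, i.e. the
adic topology of the ideal 𝔞B + (T_1, …, T_n) (the kernel of the constant-coefficient map added to
the extension of 𝔞). Then B is a formally smooth A-algebra for these topologies. (The published
statement allows any linearly topologized base ring and any set of indeterminates with the product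
topology; this row takes an adic base and finitely many indeterminates, where the product topology
is adic.) -/
theorem result (A : Type u) [CommRing A] (𝔞 : Ideal A) (n : ℕ) :
    EGA41.IsFormallySmoothAdic A 𝔞 (MvPowerSeries (Fin n) A)
      (𝔞.map (MvPowerSeries.C : A →+* MvPowerSeries (Fin n) A) ⊔
        RingHom.ker (MvPowerSeries.constantCoeff : MvPowerSeries (Fin n) A →+* A)) := by
  intro C _ _ J hJ _ u hk
  obtain ⟨N, hN⟩ := hJ
  obtain ⟨k, hk⟩ := hk
  rw [Ideal.zero_eq_bot] at hN
  have hKle : RingHom.ker (MvPowerSeries.constantCoeff : MvPowerSeries (Fin n) A →+* A) ≤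
      (𝔞.map (MvPowerSeries.C : A →+* MvPowerSeries (Fin n) A) ⊔
        RingHom.ker (MvPowerSeries.constantCoeff : MvPowerSeries (Fin n) A →+* A)) := le_sup_right
  have hX : ∀ i : Fin n, (MvPowerSeries.X i : MvPowerSeries (Fin n) A) ∈
      RingHom.ker (MvPowerSeries.constantCoeff : MvPowerSeries (Fin n) A →+* A) := by
    intro i
    rw [RingHom.mem_ker, MvPowerSeries.constantCoeff_X]
  choose c hc using fun i : Fin n => Ideal.Quotient.mk_surjective (u (MvPowerSeries.X i))
  have hck : ∀ i, c i ^ k ∈ J := by
    intro i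
    rw [← Ideal.Quotient.eq_zero_iff_mem, map_pow, hc, ← map_pow]
    exact hk _ (Ideal.pow_right_mono hKle k (Ideal.pow_mem_pow (hX i) k))
  have hcM : ∀ i, c i ^ (k * N + k + 1) = 0 := by
    intro i
    have h1 : (c i ^ k) ^ N ∈ J ^ N := Ideal.pow_mem_pow (hck i) N
    rw [hN, Ideal.mem_bot, ← pow_mul] at h1
    rw [add_assoc, pow_add, h1, zero_mul]
  have hM : 1 ≤ k * N + k + 1 := Nat.le_add_left _ _
  refine ⟨Groth.Agent.Lib.helper6.H6_evalNil c (k * N + k + 1) hM hcM, ?_⟩
  ext F
  have hu : ∀ x ∈ (RingHom.ker (MvPowerSeries.constantCoeff :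
      MvPowerSeries (Fin n) A →+* A)) ^ (k * N + k + 1), u x = 0 := by
    intro x hx
    refine hk x ?_
    exact Ideal.pow_le_pow_right (by omega) (Ideal.pow_right_mono hKle _ hx)
  rw [Groth.Agent.Lib.helper6.H6_ps_hom_eq u (k * N + k + 1) hM hu F]
  show Ideal.Quotient.mkₐ A J (Groth.Agent.Lib.helper6.H6_evalNil c (k * N + k + 1) hM hcM F) = _
  rw [Groth.Agent.Lib.helper6.H6_evalNil_apply]
  have e1 := MvPolynomial.comp_aeval (R := A) (f := c) (Ideal.Quotient.mkₐ A J)
  have e2 := congrArg (fun g => g (MvPowerSeries.trunc' A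
    (Groth.Agent.Lib.helper6.H6_boxN n (k * N + k + 1)) F)) e1
  simp only [AlgHom.comp_apply] at e2
  rw [e2]
  congr 2
  funext i
  exact hc i

end Groth.Agent.S4533
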