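import Groth.Statements.S4534
import Mathlib

set_option autoImplicit false
universe u
open EGA41

namespace Groth.Agent.S4534

/-- Let A → B → C be continuous homomorphisms of adic rings (A with the 𝔞-adic, B the 𝔟-adic, C the
𝔠-adic topology; continuity: a power of 𝔞 maps into 𝔟 and a power of 𝔟 into 𝔠). If B is formally
smooth over A and C formally smooth over B, then C is formally smooth over A. -/
theorem result {A B C : Type u} [CommRing A] [CommRing B] [CommRing C] [Algebra A B] [Algebra B C]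
    [Algebra A C] [IsScalarTower A B C] (𝔞 : Ideal A) (𝔟 : Ideal B) (𝔠 : Ideal C)
    (hAB : ∃ k : ℕ, (𝔞 ^ k).map (algebraMap A B) ≤ 𝔟) (hBC : ∃ k : ℕ, (𝔟 ^ k).map (algebraMap B C) ≤ 𝔠)
    (hB : EGA41.IsFormallySmoothAdic A 𝔞 B 𝔟) (hC : EGA41.IsFormallySmoothAdic B 𝔟 C 𝔠) :
    EGA41.IsFormallySmoothAdic A 𝔞 C 𝔠 := by
  intro E _ _ J hJ hak u hu
  obtain ⟨k, hk⟩ := hu
  obtain ⟨kb, hkb⟩ := hBC
  let u₀ : B →ₐ[A] E ⧸ J := u.comp (IsScalarTower.toAlgHom A B C)
  have hu₀ : ∃ k' : ℕ, ∀ x ∈ 𝔟 ^ k', u₀ x = 0 := by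
    refine ⟨kb * k, fun x hx => ?_⟩
    have h2 : algebraMap B C x ∈ 𝔠 ^ k := by
      have h1 : algebraMap B C x ∈ (𝔟 ^ (kb * k)).map (algebraMap B C) :=
        Ideal.mem_map_of_mem _ hx
      rw [pow_mul, Ideal.map_pow] at h1
      exact Ideal.pow_right_mono hkb k h1
    exact hk _ h2
  obtain ⟨w, hw⟩ := hB E J hJ hak u₀ hu₀
  letI : Algebra B E := w.toRingHom.toAlgebra
  haveI : IsScalarTower A B E := IsScalarTower.of_algebraMap_eq (fun a => (w.commutes a).symm)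
  obtain ⟨N, hN⟩ := hJ
  obtain ⟨k', hk'⟩ := hu₀
  have hbk : ∃ m : ℕ, (𝔟 ^ m).map (algebraMap B E) = ⊥ := by
    refine ⟨k' * N, ?_⟩
    rw [pow_mul, Ideal.map_pow, eq_bot_iff, ← Ideal.zero_eq_bot, ← hN]
    refine Ideal.pow_right_mono ?_ N
    rw [Ideal.map_le_iff_le_comap]
    intro x hx
    have h1 := hk' x hx
    rw [← hw] at h1
    have h2 : Ideal.Quotient.mk J (w x) = 0 := h1
    rw [Ideal.mem_comap]
    exact Ideal.Quotient.eq_zero_iff_mem.1 h2
  let uB : C →ₐ[B] E ⧸ J :=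
    { u.toRingHom with
      commutes' := fun b => by
        show u (algebraMap B C b) = Ideal.Quotient.mk J (w b)
        have h1 := congrArg (fun g => g b) hw
        exact h1.symm }
  obtain ⟨v, hv⟩ := hC E J ⟨N, hN⟩ hbk uB ⟨k, hk⟩
  refine ⟨v.restrictScalars A, ?_⟩
  ext x
  have h1 := congrArg (fun g => g x) hv
  exact h1

end Groth.Agent.S4534
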