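import Groth.Statements.S4535
import Mathlib

set_option autoImplicit false
universe u
open EGA41

namespace Groth.Agent.S4535

open TensorProduct in
/-- Let B (𝔟-adic) be formally smooth over A (𝔞-adic) and let A' (𝔞'-adic) be a topological A-algebra (a
power of 𝔞 maps into 𝔞'). Then the A'-algebra A' ⊗_A B, with the tensor product topology, i.e. the
adic topology of the ideal generated by the images of 𝔞' and 𝔟, is formally smooth over A'. -/
theorem result {A B A' : Type u} [CommRing A] [CommRing B] [CommRing A'] [Algebra A B] [Algebra A A']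
    (𝔞 : Ideal A) (𝔟 : Ideal B) (𝔞' : Ideal A') (hAA' : ∃ k : ℕ, (𝔞 ^ k).map (algebraMap A A') ≤ 𝔞')
    (hB : EGA41.IsFormallySmoothAdic A 𝔞 B 𝔟) :
    EGA41.IsFormallySmoothAdic A' 𝔞' (A' ⊗[A] B)
      (𝔞'.map (algebraMap A' (A' ⊗[A] B)) ⊔
        𝔟.map (Algebra.TensorProduct.includeRight : B →ₐ[A] A' ⊗[A] B).toRingHom) := by
  intro E _ _ J hJ hak u hu
  letI : Algebra A E := ((algebraMap A' E).comp (algebraMap A A')).toAlgebra
  haveI : IsScalarTower A A' E := IsScalarTower.of_algebraMap_eq (fun _ => rfl)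
  obtain ⟨k, hk⟩ := hu
  obtain ⟨ka, hka⟩ := hAA'
  obtain ⟨ke, hke⟩ := hak
  have hak' : ∃ m : ℕ, (𝔞 ^ m).map (algebraMap A E) = ⊥ := by
    refine ⟨ka * ke, ?_⟩
    rw [eq_bot_iff, ← hke, pow_mul, IsScalarTower.algebraMap_eq A A' E, ← Ideal.map_map,
      Ideal.map_pow]
    exact Ideal.map_mono (Ideal.pow_right_mono hka ke)
  let u₀ : B →ₐ[A] E ⧸ J :=
    (u.restrictScalars A).comp (Algebra.TensorProduct.includeRight : B →ₐ[A] A' ⊗[A] B)
  have hu₀ : ∃ k' : ℕ, ∀ x ∈ 𝔟 ^ k', u₀ x = 0 := by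
    refine ⟨k, fun x hx => ?_⟩
    refine hk _ (Ideal.pow_right_mono le_sup_right k ?_)
    rw [← Ideal.map_pow]
    exact Ideal.mem_map_of_mem _ hx
  obtain ⟨v₀, hv₀⟩ := hB E J hJ hak' u₀ hu₀
  let v : A' ⊗[A] B →ₐ[A'] E :=
    Algebra.TensorProduct.lift (Algebra.ofId A' E) v₀ (fun _ _ => Commute.all _ _)
  refine ⟨v, ?_⟩
  apply Algebra.TensorProduct.ext
  · ext
  · ext b
    have h1 := congrArg (fun g => g b) hv₀
    have h2 : v ((1 : A') ⊗ₜ[A] b) = v₀ b := by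
      show Algebra.TensorProduct.lift (Algebra.ofId A' E) v₀ (fun _ _ => Commute.all _ _)
        ((1 : A') ⊗ₜ[A] b) = v₀ b
      rw [Algebra.TensorProduct.lift_tmul, map_one, one_mul]
    show Ideal.Quotient.mk J (v ((1 : A') ⊗ₜ[A] b)) = u ((1 : A') ⊗ₜ[A] b)
    rw [h2]
    exact h1

end Groth.Agent.S4535
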