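import Groth.Statements.S4536
import Mathlib

set_option autoImplicit false
universe u
open EGA41

namespace Groth.Agent.S4536

/-- Let A carry the 𝔞-adic and B the 𝔟-adic topology, A → B being continuous (a power of 𝔞 maps into 𝔟).
Then B is formally smooth over A if and only if for every n the (A/𝔞ⁿ)-algebra B/𝔞ⁿB, with the adic
topology of the image of 𝔟, is formally smooth over the discrete ring A/𝔞ⁿ. -/
theorem result {A B : Type u} [CommRing A] [CommRing B] [Algebra A B]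
    (𝔞 : Ideal A) (𝔟 : Ideal B) (hAB : ∃ k : ℕ, (𝔞 ^ k).map (algebraMap A B) ≤ 𝔟) :
    EGA41.IsFormallySmoothAdic A 𝔞 B 𝔟 ↔
      ∀ n : ℕ, EGA41.IsFormallySmoothAdic (A ⧸ 𝔞 ^ n) ⊥ (B ⧸ (𝔞 ^ n).map (algebraMap A B))
        (𝔟.map (Ideal.Quotient.mk ((𝔞 ^ n).map (algebraMap A B)))) := by
  constructor
  · intro h n E _ _ J hJ _ u hu
    letI : Algebra A E := ((algebraMap (A ⧸ 𝔞 ^ n) E).comp (Ideal.Quotient.mk (𝔞 ^ n))).toAlgebra
    haveI : IsScalarTower A (A ⧸ 𝔞 ^ n) E := IsScalarTower.of_algebraMap_eq (fun _ => rfl)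
    have hzero : ∀ a ∈ 𝔞 ^ n, algebraMap A E a = 0 := by
      intro a ha
      show algebraMap (A ⧸ 𝔞 ^ n) E (Ideal.Quotient.mk (𝔞 ^ n) a) = 0
      rw [Ideal.Quotient.eq_zero_iff_mem.2 ha, map_zero]
    have hak : ∃ m : ℕ, (𝔞 ^ m).map (algebraMap A E) = ⊥ := by
      refine ⟨n, ?_⟩
      rw [eq_bot_iff, Ideal.map_le_iff_le_comap]
      intro a ha
      rw [Ideal.mem_comap, Ideal.mem_bot]
      exact hzero a ha
    obtain ⟨k, hk⟩ := hu
    let u₀ : B →ₐ[A] E ⧸ J :=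
      (u.restrictScalars A).comp (Ideal.Quotient.mkₐ A ((𝔞 ^ n).map (algebraMap A B)))
    have hu₀ : ∃ k' : ℕ, ∀ x ∈ 𝔟 ^ k', u₀ x = 0 := by
      refine ⟨k, fun x hx => ?_⟩
      refine hk _ ?_
      rw [← Ideal.map_pow]
      exact Ideal.mem_map_of_mem _ hx
    obtain ⟨v₀, hv₀⟩ := h E J hJ hak u₀ hu₀
    have hv₀z : ∀ x ∈ (𝔞 ^ n).map (algebraMap A B), v₀ x = 0 := by
      intro x hx
      have hle : (𝔞 ^ n).map (algebraMap A B) ≤ RingHom.ker v₀.toRingHom := by
        rw [Ideal.map_le_iff_le_comap]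
        intro a ha
        rw [Ideal.mem_comap, RingHom.mem_ker]
        show v₀ (algebraMap A B a) = 0
        rw [v₀.commutes]
        exact hzero a ha
      exact hle hx
    let v₁ : (B ⧸ (𝔞 ^ n).map (algebraMap A B)) →ₐ[A] E :=
      Ideal.Quotient.liftₐ ((𝔞 ^ n).map (algebraMap A B)) v₀ hv₀z
    let v : (B ⧸ (𝔞 ^ n).map (algebraMap A B)) →ₐ[A ⧸ 𝔞 ^ n] E :=
      { v₁.toRingHom with
        commutes' := fun x => by
          obtain ⟨a, rfl⟩ := Ideal.Quotient.mk_surjective x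
          show v₁ (Ideal.Quotient.mk _ (algebraMap A B a)) = algebraMap A E a
          show v₀ (algebraMap A B a) = algebraMap A E a
          exact v₀.commutes a }
    refine ⟨v, ?_⟩
    ext x
    obtain ⟨b, rfl⟩ := Ideal.Quotient.mk_surjective x
    have h1 := congrArg (fun g => g b) hv₀
    exact h1
  · intro h E _ _ J hJ hak u hu
    obtain ⟨k, hk⟩ := hak
    obtain ⟨m, hm⟩ := hu
    have hzero : ∀ a ∈ 𝔞 ^ k, algebraMap A E a = 0 := by
      intro a ha
      have h1 : algebraMap A E a ∈ (𝔞 ^ k).map (algebraMap A E) := Ideal.mem_map_of_mem _ ha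
      rw [hk, Ideal.mem_bot] at h1
      exact h1
    letI : Algebra (A ⧸ 𝔞 ^ k) E :=
      (Ideal.Quotient.lift (𝔞 ^ k) (algebraMap A E) hzero).toAlgebra
    haveI : IsScalarTower A (A ⧸ 𝔞 ^ k) E := IsScalarTower.of_algebraMap_eq (fun _ => rfl)
    have huz : ∀ x ∈ (𝔞 ^ k).map (algebraMap A B), u x = 0 := by
      intro x hx
      have hle : (𝔞 ^ k).map (algebraMap A B) ≤ RingHom.ker u.toRingHom := by
        rw [Ideal.map_le_iff_le_comap]
        intro a ha
        rw [Ideal.mem_comap, RingHom.mem_ker]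
        show u (algebraMap A B a) = 0
        rw [u.commutes]
        show Ideal.Quotient.mk J (algebraMap A E a) = 0
        rw [hzero a ha, map_zero]
      exact hle hx
    let u₁ : (B ⧸ (𝔞 ^ k).map (algebraMap A B)) →ₐ[A] E ⧸ J :=
      Ideal.Quotient.liftₐ ((𝔞 ^ k).map (algebraMap A B)) u huz
    let ub : (B ⧸ (𝔞 ^ k).map (algebraMap A B)) →ₐ[A ⧸ 𝔞 ^ k] E ⧸ J :=
      { u₁.toRingHom with
        commutes' := fun x => by
          obtain ⟨a, rfl⟩ := Ideal.Quotient.mk_surjective x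
          show u (algebraMap A B a) = Ideal.Quotient.mk J (algebraMap A E a)
          exact u.commutes a }
    have hub : ∃ k' : ℕ, ∀ x ∈ (𝔟.map (Ideal.Quotient.mk ((𝔞 ^ k).map (algebraMap A B)))) ^ k',
        ub x = 0 := by
      refine ⟨m, fun x hx => ?_⟩
      rw [← Ideal.map_pow] at hx
      obtain ⟨b, hb, rfl⟩ := (Ideal.mem_map_iff_of_surjective _ Ideal.Quotient.mk_surjective).1 hx
      exact hm b hb
    obtain ⟨vb, hvb⟩ := h k E J hJ ⟨1, by simp⟩ ub hub
    refine ⟨(vb.restrictScalars A).comp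
      (Ideal.Quotient.mkₐ A ((𝔞 ^ k).map (algebraMap A B))), ?_⟩
    ext b
    have h1 := congrArg (fun g => g (Ideal.Quotient.mk _ b)) hvb
    exact h1

end Groth.Agent.S4536
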