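import Groth.Statements.S4537
import Groth.Statements.S4537
import Mathlib

set_option autoImplicit false
universe u
open EGA41

namespace Groth.Agent.S4537

/-- For a discrete base and an adic algebra: let A be a discrete ring and B an A-algebra with the 𝔫-adic
topology. If every continuous A-algebra map from B to a quotient C/J with J² = 0 lifts to C, then
the same holds for every nilpotent J; hence the square-zero and the nilpotent forms of adic formal
smoothness agree. -/
theorem result {A B : Type u} [CommRing A] [CommRing B] [Algebra A B]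
    (𝔫 : Ideal B) :
    CAlgX.IsAdicFormallySmooth A B 𝔫 ↔ EGA41.IsFormallySmoothAdic A ⊥ B 𝔫 := by
  constructor
  · intro h C _ instAlg J hJ hk0 u hu
    clear hk0
    revert u
    revert instAlg
    refine Ideal.IsNilpotent.induction_on (S := C) J hJ
      (P := fun S _ J => IsNilpotent J → ∀ [Algebra A S] (u : B →ₐ[A] S ⧸ J),
        (∃ k : ℕ, ∀ x ∈ 𝔫 ^ k, u x = 0) → ∃ v : B →ₐ[A] S, (Ideal.Quotient.mkₐ A J).comp v = u)
      ?_ ?_ hJ
    · intro S _ I hI _ _ u hu
      exact h S I hI u hu
    · intro S _ I J hIJ h₁ h₂ hJnil _ g hg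
      let this : ((S ⧸ I) ⧸ J.map (Ideal.Quotient.mk I)) ≃ₐ[A] S ⧸ J :=
        { (DoubleQuot.quotQuotEquivQuotSup I J).trans
            (Ideal.quotEquivOfEq (sup_eq_right.mpr hIJ)) with
          commutes' := fun x => rfl }
      obtain ⟨m, hm⟩ := hJnil
      have hInil : IsNilpotent I := ⟨m, by
        rw [Ideal.zero_eq_bot, eq_bot_iff]
        calc I ^ m ≤ J ^ m := Ideal.pow_right_mono hIJ m
          _ = ⊥ := hm⟩
      have hJmapnil : IsNilpotent (J.map (Ideal.Quotient.mk I)) := ⟨m, by
        rw [← Ideal.map_pow, hm, Ideal.zero_eq_bot, Ideal.map_bot]; rfl⟩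
      obtain ⟨k, hk⟩ := hg
      obtain ⟨g', e⟩ := h₂ hJmapnil (this.symm.toAlgHom.comp g) ⟨k, fun x hx => by
        simp [hk x hx]⟩
      have hg' : ∃ k' : ℕ, ∀ x ∈ 𝔫 ^ k', g' x = 0 := by
        refine ⟨k * m, fun x hx => ?_⟩
        have h1 : ∀ y ∈ 𝔫 ^ k, g' y ∈ J.map (Ideal.Quotient.mk I) := by
          intro y hy
          have h2 : (Ideal.Quotient.mkₐ A (J.map (Ideal.Quotient.mk I))) (g' y) = 0 := by
            have := congrArg (fun F => F y) e
            simp only [AlgHom.comp_apply] at this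
            rw [this, hk y hy, map_zero]
          exact Ideal.Quotient.eq_zero_iff_mem.mp h2
        have h3 : (𝔫 ^ k).map g'.toRingHom ≤ J.map (Ideal.Quotient.mk I) := by
          rw [Ideal.map_le_iff_le_comap]
          intro y hy
          exact h1 y hy
        have h4 : ((𝔫 ^ k) ^ m).map g'.toRingHom ≤ ⊥ := by
          rw [Ideal.map_pow]
          calc ((𝔫 ^ k).map g'.toRingHom) ^ m ≤ (J.map (Ideal.Quotient.mk I)) ^ m :=
                Ideal.pow_right_mono h3 m
            _ = ⊥ := by rw [← Ideal.map_pow, hm, Ideal.zero_eq_bot, Ideal.map_bot]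
        rw [pow_mul] at hx
        have := h4 (Ideal.mem_map_of_mem g'.toRingHom hx)
        simpa using this
      obtain ⟨g'', rfl⟩ := h₁ hInil g' hg'
      refine ⟨g'', ?_⟩
      replace e := congr_arg this.toAlgHom.comp e
      conv_rhs at e =>
        rw [← AlgHom.comp_assoc, AlgEquiv.toAlgHom_eq_coe, AlgEquiv.toAlgHom_eq_coe,
          AlgEquiv.comp_symm, AlgHom.id_comp]
      exact e
  · intro h C _ _ J hJ ψ hψ
    exact h C J ⟨2, hJ⟩ ⟨1, by simp⟩ ψ hψ

end Groth.Agent.S4537
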