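import Groth.Statements.S4544
import Mathlib
import Groth.Agent.Lib.helper6.AdicProj

set_option autoImplicit false
universe u
open EGA41

namespace Groth.Agent.S4544

open TensorProduct in
/-- Let B (𝔟-adic) be a formally smooth topological A-algebra over A (𝔞-adic), the structure map being
continuous (a power of 𝔞 maps into 𝔟); squares of open ideals of B are then open. For every open
ideal 𝔄 of B (an ideal containing a power of 𝔟), Ω_{B/A} ⊗_B (B/𝔄) = Ω_{B/A}/𝔄Ω_{B/A} is a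
projective (B/𝔄)-module. -/
theorem result {A B : Type u} [CommRing A] [CommRing B] [Algebra A B]
    (𝔞 : Ideal A) (𝔟 : Ideal B) (hAB : ∃ k : ℕ, (𝔞 ^ k).map (algebraMap A B) ≤ 𝔟)
    (h : EGA41.IsFormallySmoothAdic A 𝔞 B 𝔟) (𝔄 : Ideal B) (h𝔄 : ∃ n : ℕ, 𝔟 ^ n ≤ 𝔄) :
    Module.Projective (B ⧸ 𝔄) ((B ⧸ 𝔄) ⊗[B] Ω[B⁄A]) := by
  classical
  refine Module.Projective.of_lifting_property ?_
  intro M N _ _ _ _ f g hf
  letI : Module (B ⧸ 𝔄)ᵐᵒᵖ M :=
    Module.compHom M ((RingHom.id (B ⧸ 𝔄)).fromOpposite (fun _ _ => Commute.all _ _))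
  haveI : IsCentralScalar (B ⧸ 𝔄) M := ⟨fun _ _ => rfl⟩
  letI : Module (B ⧸ 𝔄)ᵐᵒᵖ N :=
    Module.compHom N ((RingHom.id (B ⧸ 𝔄)).fromOpposite (fun _ _ => Commute.all _ _))
  haveI : IsCentralScalar (B ⧸ 𝔄) N := ⟨fun _ _ => rfl⟩
  letI : Module B M := Module.compHom M (algebraMap B (B ⧸ 𝔄))
  haveI : IsScalarTower B (B ⧸ 𝔄) M := ⟨fun b c m => by
    show (b • c) • m = algebraMap B (B ⧸ 𝔄) b • (c • m)
    rw [Algebra.smul_def, mul_smul]⟩
  letI : Module A M := Module.compHom M (algebraMap A (B ⧸ 𝔄))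
  haveI : IsScalarTower A (B ⧸ 𝔄) M := ⟨fun a c m => by
    show (a • c) • m = algebraMap A (B ⧸ 𝔄) a • (c • m)
    rw [Algebra.smul_def, mul_smul]⟩
  haveI : IsScalarTower A B M := ⟨fun a b m => by
    show algebraMap B (B ⧸ 𝔄) (a • b) • m =
      algebraMap A (B ⧸ 𝔄) a • (algebraMap B (B ⧸ 𝔄) b • m)
    rw [Algebra.smul_def, map_mul, ← IsScalarTower.algebraMap_apply, mul_smul]⟩
  letI : Module B N := Module.compHom N (algebraMap B (B ⧸ 𝔄))
  haveI : IsScalarTower B (B ⧸ 𝔄) N := ⟨fun b c m => by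
    show (b • c) • m = algebraMap B (B ⧸ 𝔄) b • (c • m)
    rw [Algebra.smul_def, mul_smul]⟩
  letI : Module A N := Module.compHom N (algebraMap A (B ⧸ 𝔄))
  haveI : IsScalarTower A (B ⧸ 𝔄) N := ⟨fun a c m => by
    show (a • c) • m = algebraMap A (B ⧸ 𝔄) a • (c • m)
    rw [Algebra.smul_def, mul_smul]⟩
  haveI : IsScalarTower A B N := ⟨fun a b m => by
    show algebraMap B (B ⧸ 𝔄) (a • b) • m =
      algebraMap A (B ⧸ 𝔄) a • (algebraMap B (B ⧸ 𝔄) b • m)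
    rw [Algebra.smul_def, map_mul, ← IsScalarTower.algebraMap_apply, mul_smul]⟩
  exact Groth.Agent.Lib.helper6.H6_omega_lift f
    (fun u hu => Groth.Agent.Lib.helper6.H6_fs_tsze_lift 𝔞 𝔟 hAB h 𝔄 h𝔄 f hf u hu) g

end Groth.Agent.S4544
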