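import Groth.Statements.S4540
import Mathlib
import Groth.Agent.Lib.helper6.NilpFree
import Groth.Agent.S4544

set_option autoImplicit false
universe u
open EGA41

namespace Groth.Agent.S4540

open IsLocalRing TensorProduct in
/-- Let A, B be Noetherian local rings and A → B a local homomorphism making B a formally smooth
A-algebra for the adic topologies of the maximal ideals. Then for every ideal of definition 𝔟 of B,
the (B/𝔟)-module Ω_{B/A} ⊗_B (B/𝔟) is free. -/
theorem result {A B : Type u} [CommRing A] [IsLocalRing A]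
    [IsNoetherianRing A] [CommRing B] [IsLocalRing B] [IsNoetherianRing B] [Algebra A B] [IsLocalHom (algebraMap A B)]
    (h : EGA41.IsFormallySmoothAdic A (maximalIdeal A) B (maximalIdeal B))
    (𝔟 : Ideal B) (hle : 𝔟 ≤ maximalIdeal B) (hpow : ∃ k : ℕ, maximalIdeal B ^ k ≤ 𝔟) :
    Module.Free (B ⧸ 𝔟) ((B ⧸ 𝔟) ⊗[B] Ω[B⁄A]) := by
  have hAB : ∃ k : ℕ, (IsLocalRing.maximalIdeal A ^ k).map (algebraMap A B) ≤
      IsLocalRing.maximalIdeal B :=
    ⟨1, by
      rw [pow_one]
      have h0 : IsLocalHom (algebraMap A B) := inferInstance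
      exact ((IsLocalRing.local_hom_TFAE (algebraMap A B)).out 0 2).1 h0⟩
  have hproj := Groth.Agent.S4544.result (IsLocalRing.maximalIdeal A) (IsLocalRing.maximalIdeal B)
    hAB h 𝔟 hpow
  have hne : 𝔟 ≠ ⊤ := ne_top_of_le_ne_top (IsLocalRing.maximalIdeal.isMaximal B).ne_top hle
  have hnt : Nontrivial (B ⧸ 𝔟) := Ideal.Quotient.nontrivial_iff.2 hne
  have hloc : IsLocalRing (B ⧸ 𝔟) :=
    IsLocalRing.of_surjective' (Ideal.Quotient.mk 𝔟) Ideal.Quotient.mk_surjective
  obtain ⟨k, hk⟩ := hpow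
  have hmax : IsLocalRing.maximalIdeal (B ⧸ 𝔟) ^ k = ⊥ := by
    have h1 : IsLocalRing.maximalIdeal (B ⧸ 𝔟) ≤
        (IsLocalRing.maximalIdeal B).map (Ideal.Quotient.mk 𝔟) := by
      intro x hx
      obtain ⟨b, rfl⟩ := Ideal.Quotient.mk_surjective x
      refine Ideal.mem_map_of_mem _ ?_
      rw [IsLocalRing.mem_maximalIdeal, mem_nonunits_iff] at hx ⊢
      exact fun hb => hx (hb.map _)
    rw [eq_bot_iff]
    refine (Ideal.pow_right_mono h1 k).trans ?_
    rw [← Ideal.map_pow]
    refine (Ideal.map_mono hk).trans ?_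
    rw [Ideal.map_quotient_self]
  exact Groth.Agent.Lib.helper6.H6_free_of_projective_nilpotent k hmax _

end Groth.Agent.S4540
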