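import Groth.Statements.S4543
import Mathlib
import Groth.Agent.Lib.helper6.AdicLift
import Groth.Agent.Lib.helper6.FlatKer

set_option autoImplicit false
universe u
open EGA41

namespace Groth.Agent.S4543

open IsLocalRing in
/-- Let A be a Noetherian ring, J an ideal of A, B and B' two A-algebras which are Noetherian local
rings, the structure maps being continuous for the J-adic topology on A (JB and JB' lie in the
maximal ideals); suppose B and B' are complete for the J-adic topologies, B is a formally smooth
A-algebra for the J-adic topology on A and the JB-adic topology on B (nilpotent test ideals, test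
algebras killed by a power of J, test maps killing a power of JB), and B' is a flat A-module. Then
every (A/J)-algebra isomorphism u₀ : B/JB ≅ B'/JB' comes from an A-algebra isomorphism u : B ≅ B' by
passing to quotients. (B is taken formally smooth for the JB-adic topology, the topology along which
the argument lifts B → B'/JB' to B'; read with the convention that a local ring carries the adic
topology of its maximal ideal, the published hypothesis would be formal smoothness for the
maximal-ideal topology on B, a weaker condition when JB is strictly smaller than the maximal ideal,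
and that reading is not what the argument establishes.) -/
theorem result {A B B' : Type u} [CommRing A] [IsNoetherianRing A] (J : Ideal A)
    [CommRing B] [IsLocalRing B] [IsNoetherianRing B] [Algebra A B]
    [CommRing B'] [IsLocalRing B'] [IsNoetherianRing B'] [Algebra A B']
    (hB : J.map (algebraMap A B) ≤ maximalIdeal B) (hB' : J.map (algebraMap A B') ≤ maximalIdeal B')
    [IsAdicComplete (J.map (algebraMap A B)) B] [IsAdicComplete (J.map (algebraMap A B')) B']
    (hfs : EGA41.IsFormallySmoothAdic A J B (J.map (algebraMap A B))) [Module.Flat A B']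
    (u₀ : (B ⧸ J.map (algebraMap A B)) ≃ₐ[A ⧸ J] (B' ⧸ J.map (algebraMap A B'))) :
    ∃ u : B ≃ₐ[A] B', ∀ b : B,
      Ideal.Quotient.mk (J.map (algebraMap A B')) (u b) = u₀ (Ideal.Quotient.mk (J.map (algebraMap A B)) b) := by
  classical
  -- the map to lift
  let ū : B →ₐ[A] B' ⧸ J.map (algebraMap A B') :=
    ((u₀ : (B ⧸ J.map (algebraMap A B)) →ₐ[A ⧸ J] (B' ⧸ J.map (algebraMap A B'))).restrictScalars
      A).comp (Ideal.Quotient.mkₐ A (J.map (algebraMap A B)))
  have hū : ∀ b, ū b = u₀ (Ideal.Quotient.mk (J.map (algebraMap A B)) b) := fun b => rfl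
  haveI hH : IsHausdorff ((J.map (algebraMap A B')).map
      (Ideal.Quotient.mk (J.map (algebraMap A B')))) (B' ⧸ J.map (algebraMap A B')) := by
    rw [Ideal.map_quotient_self]
    refine ⟨fun x hx => ?_⟩
    have h1 := hx 1
    rw [SModEq.zero, pow_one, Submodule.bot_smul, Submodule.mem_bot] at h1
    exact h1
  obtain ⟨v, -, hv⟩ := Groth.Agent.Lib.helper6.H6_lift_complete J (J.map (algebraMap A B))
    (J.map (algebraMap A B')) hfs ⟨1, by rw [pow_one]⟩ (J.map (algebraMap A B'))
    ⟨1, by rw [pow_one]⟩ ū
    ⟨1, by
      rw [pow_one, Ideal.map_le_iff_le_comap]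
      intro x hx
      rw [Ideal.mem_comap]
      have h1 : ū x = 0 := by
        rw [hū, Ideal.Quotient.eq_zero_iff_mem.2 hx, map_zero]
      show ū x ∈ _
      rw [h1]
      exact Ideal.zero_mem _⟩
  have hvb : ∀ b, Ideal.Quotient.mk (J.map (algebraMap A B')) (v b) =
      u₀ (Ideal.Quotient.mk (J.map (algebraMap A B)) b) := fun b =>
    (congrArg (fun g => g b) hv).trans (hū b)
  -- surjectivity
  haveI hpre : IsPrecomplete J B :=
    (IsPrecomplete.map_algebraMap_iff (S := B)).1 inferInstance
  haveI hhaus : IsHausdorff J B' :=
    (IsHausdorff.map_algebraMap_iff (S := B')).1 inferInstance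
  have hsurj : Function.Surjective v := by
    have h1 : Function.Surjective ((J • ⊤ : Submodule A B').mkQ ∘ₗ v.toLinearMap) := by
      intro y
      obtain ⟨b', rfl⟩ := Submodule.mkQ_surjective _ y
      obtain ⟨z, hz⟩ := u₀.surjective (Ideal.Quotient.mk _ b')
      obtain ⟨b, rfl⟩ := Ideal.Quotient.mk_surjective z
      refine ⟨b, ?_⟩
      rw [← hvb b, Ideal.Quotient.eq] at hz
      show Submodule.Quotient.mk (v b) = Submodule.Quotient.mk b'
      rw [Submodule.Quotient.eq, Ideal.smul_top_eq_map]
      exact hz
    exact surjective_of_mkQ_comp_surjective (I := J) h1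
  -- injectivity
  have hker : RingHom.ker v.toRingHom ≤ (J.map (algebraMap A B)) • RingHom.ker v.toRingHom := by
    intro x hx
    have hx0 : v x = 0 := hx
    have hxJ : x ∈ J.map (algebraMap A B) := by
      have h1 := hvb x
      rw [hx0, map_zero] at h1
      have h2 := u₀.injective (h1.symm.trans (map_zero u₀).symm)
      exact Ideal.Quotient.eq_zero_iff_mem.1 h2
    have hxJ' : x ∈ (J • ⊤ : Submodule A B) := by
      rw [Ideal.smul_top_eq_map]
      exact hxJ
    have h3 := Groth.Agent.Lib.helper6.H6_flat_ker_inf v.toLinearMap hsurj J x hx hxJ'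
    refine Submodule.smul_induction_on h3 ?_ ?_
    · intro a ha k hk
      rw [← algebraMap_smul B a k]
      exact Submodule.smul_mem_smul (Ideal.mem_map_of_mem _ ha) hk
    · intro y z hy hz
      exact Submodule.add_mem _ hy hz
  have hjac : J.map (algebraMap A B) ≤ Ideal.jacobson ⊥ :=
    hB.trans (IsLocalRing.maximalIdeal_le_jacobson _)
  have hK : RingHom.ker v.toRingHom = ⊥ :=
    Submodule.eq_bot_of_le_smul_of_le_jacobson_bot (J.map (algebraMap A B)) _
      ((isNoetherianRing_iff_ideal_fg B).1 inferInstance _) hker hjac
  have hinj : Function.Injective v := (RingHom.injective_iff_ker_eq_bot v.toRingHom).2 hK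
  exact ⟨AlgEquiv.ofBijective v ⟨hinj, hsurj⟩, fun b => hvb b⟩

end Groth.Agent.S4543
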