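import Groth.Statements.S4555
import Mathlib
import Groth.Agent.Lib.helper6.PSeriesFS2

set_option autoImplicit false
universe u
open EGA41

namespace Groth.Agent.S4555

/-- Let A carry the 𝔞-adic topology, B = A[[T_1, …, T_n]] the product topology (the adic topology of 𝔞B
+ (T_1, …, T_n)), and let E be a discrete topological A-algebra (a power of 𝔞 kills E). (i) If f : B
→ E is a continuous A-algebra homomorphism then each f(T_i) is nilpotent. (ii) Conversely, for every
family (z_i) of nilpotent elements of E there is one and only one continuous A-algebra homomorphism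
g : B → E with g(T_i) = z_i for all i. -/
theorem result (A : Type u) [CommRing A] (𝔞 : Ideal A) (n : ℕ) (E : Type u) [CommRing E]
    [Algebra A E] (hE : ∃ k : ℕ, (𝔞 ^ k).map (algebraMap A E) = ⊥) :
    (∀ f : MvPowerSeries (Fin n) A →ₐ[A] E,
      (∃ m : ℕ, ∀ x ∈ (𝔞.map (MvPowerSeries.C : A →+* MvPowerSeries (Fin n) A) ⊔
        RingHom.ker (MvPowerSeries.constantCoeff : MvPowerSeries (Fin n) A →+* A)) ^ m, f x = 0) →
      ∀ i, IsNilpotent (f (MvPowerSeries.X i))) ∧
    ∀ z : Fin n → E, (∀ i, IsNilpotent (z i)) →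
      ∃! g : MvPowerSeries (Fin n) A →ₐ[A] E,
        (∃ m : ℕ, ∀ x ∈ (𝔞.map (MvPowerSeries.C : A →+* MvPowerSeries (Fin n) A) ⊔
          RingHom.ker (MvPowerSeries.constantCoeff : MvPowerSeries (Fin n) A →+* A)) ^ m, g x = 0) ∧
        ∀ i, g (MvPowerSeries.X i) = z i := by
  obtain ⟨k, hk⟩ := hE
  have hKle : RingHom.ker (MvPowerSeries.constantCoeff : MvPowerSeries (Fin n) A →+* A) ≤
      (𝔞.map (MvPowerSeries.C : A →+* MvPowerSeries (Fin n) A) ⊔
        RingHom.ker (MvPowerSeries.constantCoeff : MvPowerSeries (Fin n) A →+* A)) := le_sup_right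
  have hX : ∀ i : Fin n, (MvPowerSeries.X i : MvPowerSeries (Fin n) A) ∈
      RingHom.ker (MvPowerSeries.constantCoeff : MvPowerSeries (Fin n) A →+* A) := by
    intro i
    rw [RingHom.mem_ker, MvPowerSeries.constantCoeff_X]
  constructor
  · intro f hf i
    obtain ⟨m, hm⟩ := hf
    refine ⟨m, ?_⟩
    rw [← map_pow]
    exact hm _ (Ideal.pow_right_mono hKle m (Ideal.pow_mem_pow (hX i) m))
  · intro z hz
    choose e he using hz
    have hzM : ∀ i, z i ^ (Finset.univ.sup e + 2) = 0 := by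
      intro i
      refine pow_eq_zero_of_le ?_ (he i)
      exact (Finset.le_sup (Finset.mem_univ i)).trans (Nat.le_add_right _ _)
    have hM : 1 ≤ Finset.univ.sup e + 2 := by omega
    have hM2 : 2 ≤ Finset.univ.sup e + 2 := by omega
    have hgX : ∀ i, Groth.Agent.Lib.helper6.H6_evalNil (A := A) z _ hM hzM (MvPowerSeries.X i) = z i :=
      fun i => Groth.Agent.Lib.helper6.H6_evalNil_X z _ hM hM2 hzM i
    have hgk := Groth.Agent.Lib.helper6.H6_hom_kills 𝔞 k hk
      (Groth.Agent.Lib.helper6.H6_evalNil (A := A) z _ hM hzM)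
      (fun i => by rw [hgX i]; exact ⟨e i, he i⟩)
    refine ⟨Groth.Agent.Lib.helper6.H6_evalNil (A := A) z _ hM hzM, ⟨hgk, hgX⟩, ?_⟩
    rintro g' ⟨⟨m', hm'⟩, hX'⟩
    obtain ⟨m, hm⟩ := hgk
    have hM'' : 1 ≤ m + m' + 1 := by omega
    have hu : ∀ x ∈ (RingHom.ker (MvPowerSeries.constantCoeff :
        MvPowerSeries (Fin n) A →+* A)) ^ (m + m' + 1),
        Groth.Agent.Lib.helper6.H6_evalNil (A := A) z _ hM hzM x = 0 := by
      intro x hx
      exact hm x (Ideal.pow_le_pow_right (by omega) (Ideal.pow_right_mono hKle _ hx))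
    have hu' : ∀ x ∈ (RingHom.ker (MvPowerSeries.constantCoeff :
        MvPowerSeries (Fin n) A →+* A)) ^ (m + m' + 1), g' x = 0 := by
      intro x hx
      exact hm' x (Ideal.pow_le_pow_right (by omega) (Ideal.pow_right_mono hKle _ hx))
    ext F
    rw [Groth.Agent.Lib.helper6.H6_ps_hom_eq g' _ hM'' hu' F,
      Groth.Agent.Lib.helper6.H6_ps_hom_eq _ _ hM'' hu F]
    congr 2
    funext i
    rw [hX', hgX]

end Groth.Agent.S4555
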