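import Groth.Statements.S4556
import Mathlib

set_option autoImplicit false
universe u
open EGA41

namespace Groth.Agent.S4556

/-- Let B be a formally smooth A-algebra, E and E' two A-algebras, R (resp. R') a nilpotent ideal of E
(resp. E'), f : E → E' a surjective A-algebra homomorphism with f(R) = R', and f' : E/R → E'/R' the
induced homomorphism. Let u : B → E/R be an A-algebra homomorphism and v' : B → E' an A-algebra
homomorphism through which f' ∘ u factors (v' followed by E' → E'/R' equals f' ∘ u). Then there is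
an A-algebra homomorphism v : B → E with f ∘ v = v'. (The published statement assumes only f(R) ⊆
R'; in that form it fails for B = ℚ[x, x⁻¹], E = ℚ[t], E' = ℚ[t]/(t²), R = 0, R' = (t), u : x ↦ 1
and v' : x ↦ 1 + t, since any v sends x to a unit of ℚ[t], a constant; the argument identifies R'
with the image of R, and that equality is assumed here.) -/
theorem result {A B E E' : Type u} [CommRing A] [CommRing B] [Algebra A B]
    [Algebra.FormallySmooth A B] [CommRing E] [CommRing E'] [Algebra A E] [Algebra A E']
    (R : Ideal E) (R' : Ideal E') (hR : IsNilpotent R) (hR' : IsNilpotent R')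
    (f : E →ₐ[A] E') (hf : Function.Surjective f) (hfR : R.map f.toRingHom = R')
    (u : B →ₐ[A] E ⧸ R) (v' : B →ₐ[A] E')
    (huv : (Ideal.Quotient.mkₐ A R').comp v' =
      (Ideal.quotientMapₐ R' f (fun x hx => hfR.le (Ideal.mem_map_of_mem f.toRingHom hx))).comp u) :
    ∃ v : B →ₐ[A] E, f.comp v = v' := by
  -- the map E → (E/R) × E'
  let G : E →ₐ[A] (E ⧸ R) × E' := AlgHom.prod (Ideal.Quotient.mkₐ A R) f
  let T : Subalgebra A ((E ⧸ R) × E') := G.range
  let g : E →ₐ[A] T := G.rangeRestrict
  have hg : Function.Surjective g := G.rangeRestrict_surjective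
  have hker : RingHom.ker (g : E →+* T) ≤ R := by
    intro x hx
    have h1 : g x = 0 := hx
    have h2 : G x = 0 := by
      have := congrArg Subtype.val h1
      exact this
    have h3 : (Ideal.Quotient.mkₐ A R) x = 0 := by
      have := congrArg Prod.fst h2
      simpa [G] using this
    exact Ideal.Quotient.eq_zero_iff_mem.mp h3
  have hnil : IsNilpotent (RingHom.ker (g : E →+* T)) := by
    obtain ⟨n, hn⟩ := hR
    refine ⟨n, ?_⟩
    rw [Ideal.zero_eq_bot, eq_bot_iff]
    calc RingHom.ker (g : E →+* T) ^ n ≤ R ^ n := Ideal.pow_right_mono hker n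
      _ = ⊥ := hn
  -- (u, v') lands in T
  have hmem : ∀ b : B, (AlgHom.prod u v') b ∈ T := by
    intro b
    obtain ⟨x, hx⟩ := Ideal.Quotient.mk_surjective (u b)
    -- f x - v' b ∈ R'
    have h1 : f x - v' b ∈ R' := by
      rw [← Ideal.Quotient.eq]
      have h2 := AlgHom.congr_fun huv b
      simp only [AlgHom.comp_apply, Ideal.Quotient.mkₐ_eq_mk] at h2
      rw [h2, ← hx]
      simp [Ideal.quotientMapₐ]
    rw [← hfR] at h1
    obtain ⟨r, hr, hfr⟩ := (Ideal.mem_map_iff_of_surjective f.toRingHom hf).mp h1
    refine ⟨x - r, ?_⟩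
    apply Prod.ext
    · change Ideal.Quotient.mk R (x - r) = u b
      rw [map_sub, Ideal.Quotient.eq_zero_iff_mem.mpr hr, sub_zero, hx]
    · change f (x - r) = v' b
      have hfr' : f r = f x - v' b := hfr
      rw [map_sub, hfr']; ring
  let w : B →ₐ[A] T := (AlgHom.prod u v').codRestrict T hmem
  let v : B →ₐ[A] E := Algebra.FormallySmooth.liftOfSurjective w g hg hnil
  refine ⟨v, ?_⟩
  ext b
  have h := Algebra.FormallySmooth.liftOfSurjective_apply w g hg hnil b
  have h2 : ((g (v b) : T) : (E ⧸ R) × E').2 = ((w b : T) : (E ⧸ R) × E').2 := by rw [h]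
  exact h2

end Groth.Agent.S4556
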