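import Groth.Statements.S4569
import Mathlib

set_option autoImplicit false
universe u
open CAlg

namespace Groth.Agent.S4569

/-- Let A be a ring, x a non-zero-divisor of A with p = xA prime. For every n > 0 the inverse image in A
of x^n A_p is x^n A. -/
theorem result {A : Type u} [CommRing A] (x : A)
    (hx : x ∈ nonZeroDivisors A) [(Ideal.span ({x} : Set A)).IsPrime] (n : ℕ) (hn : 0 < n) :
    Ideal.comap (algebraMap A (Localization.AtPrime (Ideal.span ({x} : Set A))))
      (Ideal.map (algebraMap A (Localization.AtPrime (Ideal.span ({x} : Set A)))) (Ideal.span ({x ^ n} : Set A))) =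
      Ideal.span ({x ^ n} : Set A) := by
  have key : ∀ (n : ℕ) (a m : A), m ∉ Ideal.span ({x} : Set A) → x ^ n ∣ m * a → x ^ n ∣ a := by
    intro n
    induction n with
    | zero => intro a m _ _; simp
    | succ n ih =>
      intro a m hm hdvd
      have h1 : x ∣ m * a := dvd_trans (dvd_pow_self x (Nat.succ_ne_zero n)) hdvd
      have h2 : m * a ∈ Ideal.span ({x} : Set A) := Ideal.mem_span_singleton.mpr h1
      rcases Ideal.IsPrime.mem_or_mem inferInstance h2 with h3 | h3
      · exact absurd h3 hm
      · obtain ⟨a', rfl⟩ := Ideal.mem_span_singleton.mp h3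
        obtain ⟨c, hc⟩ := hdvd
        have h4 : x * (m * a') = x * (x ^ n * c) := by
          rw [pow_succ] at hc
          linear_combination hc
        have h5 : m * a' = x ^ n * c := by
          have := (mem_nonZeroDivisors_iff.mp hx).1
          have h6 : x * (m * a' - x ^ n * c) = 0 := by rw [mul_sub, h4, sub_self]
          have h7 := (mem_nonZeroDivisors_iff.mp hx).1 _ h6
          exact sub_eq_zero.mp h7
        have h8 := ih a' m hm ⟨c, h5⟩
        rw [pow_succ']
        exact mul_dvd_mul_left x h8
  ext a
  rw [Ideal.mem_comap, IsLocalization.algebraMap_mem_map_algebraMap_iff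
    (Ideal.span ({x} : Set A)).primeCompl, Ideal.mem_span_singleton]
  constructor
  · rintro ⟨m, hm, hma⟩
    exact key n a m hm (Ideal.mem_span_singleton.mp hma)
  · intro h
    exact ⟨1, Submonoid.one_mem _, by rw [one_mul]; exact Ideal.mem_span_singleton.mpr h⟩

end Groth.Agent.S4569
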