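import Groth.Statements.S4586
import Mathlib
import Groth.Agent.Lib.helper4.ProConsScheme
import Groth.Agent.S15542
import Groth.Agent.S15543
import Groth.Agent.S3398
import Groth.Agent.S3399
import Groth.Agent.S3402

set_option autoImplicit false
universe u
open AlgebraicGeometry CategoryTheory Topology
open EGA41

namespace Groth.Agent.S4586

/-- Let f : X → Y be surjective and either quasi-compact or locally of finite presentation, E ⊆ Y. Then
E is locally constructible (resp. pro-constructible, resp. ind-constructible) if and only if f⁻¹(E)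
is. -/
theorem result {X Y : Scheme.{u}} (f : X ⟶ Y) [Surjective f]
    (hf : QuasiCompact f ∨ LocallyOfFinitePresentation f) (E : Set Y) :
    (IsLocallyConstructible E ↔ IsLocallyConstructible (f.base ⁻¹' E)) ∧
    (ProCons.IsProConstructible E ↔ ProCons.IsProConstructible (f.base ⁻¹' E)) ∧
    (ProCons.IsIndConstructible E ↔ ProCons.IsIndConstructible (f.base ⁻¹' E)) := by
  have hsurj : ∀ A : Set Y, f.base '' (f.base ⁻¹' A) = A := fun A =>
    Set.image_preimage_eq A f.surjective
  have hpro : ProCons.IsProConstructible E ↔ ProCons.IsProConstructible (f.base ⁻¹' E) := by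
    refine ⟨fun h => Groth.Agent.S15542.result f E h, fun h => ?_⟩
    rcases hf with hqc | hfp
    · have := Groth.Agent.S3398.result f (f.base ⁻¹' E) h
      rwa [hsurj] at this
    · rw [Groth.Agent.H4.H4_pro_iff_ind_compl] at h ⊢
      rw [← Set.preimage_compl] at h
      have := Groth.Agent.S3399.result f (f.base ⁻¹' Eᶜ) h
      rwa [hsurj] at this
  have hind : ProCons.IsIndConstructible E ↔ ProCons.IsIndConstructible (f.base ⁻¹' E) := by
    refine ⟨fun h => Groth.Agent.S15543.result f E h, fun h => ?_⟩
    rcases hf with hqc | hfp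
    · rw [Groth.Agent.H4.H4_ind_iff_pro_compl] at h ⊢
      rw [← Set.preimage_compl] at h
      have := Groth.Agent.S3398.result f (f.base ⁻¹' Eᶜ) h
      rwa [hsurj] at this
    · have := Groth.Agent.S3399.result f (f.base ⁻¹' E) h
      rwa [hsurj] at this
  refine ⟨?_, hpro, hind⟩
  rw [Groth.Agent.S3402.result Y E, Groth.Agent.S3402.result X (f.base ⁻¹' E), hpro, hind]

end Groth.Agent.S4586
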