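import Groth.Statements.S4587
import Mathlib

set_option autoImplicit false
universe u
open AlgebraicGeometry CategoryTheory
open EGA41

namespace Groth.Agent.S4587

/-- A morphism of schemes f : X → Y is generizing if and only if, for every irreducible closed subset Y'
of Y, each irreducible component of f⁻¹(Y') has dense image in Y'. -/
theorem result {X Y : Scheme.{u}} (f : X ⟶ Y) :
    GeneralizingMap f.base ↔
      ∀ Y' : Set Y, IsClosed Y' → IsIrreducible Y' →
        ∀ Z ∈ irreducibleComponents ↥(f.base ⁻¹' Y'), closure (f.base '' (Subtype.val '' Z)) = Y' := by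
  constructor
  · intro hgen Y' hY'cl hY'irr Z hZ
    have hclpre : IsClosed (f.base ⁻¹' Y') := hY'cl.preimage f.base.hom.continuous
    haveI : QuasiSober ↥(f.base ⁻¹' Y') := hclpre.isClosedEmbedding_subtypeVal.quasiSober
    obtain ⟨η', hη'⟩ := QuasiSober.sober hY'irr hY'cl
    obtain ⟨z, hz⟩ := QuasiSober.sober hZ.1 (isClosed_of_mem_irreducibleComponents Z hZ)
    have hfz : f.base z.1 ∈ Y' := z.2
    have hspec : η' ⤳ f.base z.1 := hη'.specializes hfz
    obtain ⟨x', hx'z, hfx'⟩ := hgen hspec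
    have hx'mem : x' ∈ f.base ⁻¹' Y' := by
      change f.base x' ∈ Y'
      rw [hfx']; exact hη'.mem
    have hspec' : (⟨x', hx'mem⟩ : ↥(f.base ⁻¹' Y')) ⤳ z := (subtype_specializes_iff _ _).mpr hx'z
    have hsub : Z ⊆ closure ({(⟨x', hx'mem⟩ : ↥(f.base ⁻¹' Y'))} : Set ↥(f.base ⁻¹' Y')) := by
      rw [← hz.def]
      exact closure_minimal (Set.singleton_subset_iff.mpr hspec'.mem_closure) isClosed_closure
    have heq : closure ({(⟨x', hx'mem⟩ : ↥(f.base ⁻¹' Y'))} : Set ↥(f.base ⁻¹' Y')) = Z :=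
      (hZ.2 isIrreducible_singleton.closure hsub).antisymm hsub
    have hgen' : IsGenericPoint (⟨x', hx'mem⟩ : ↥(f.base ⁻¹' Y')) Z := heq
    have hxz : (⟨x', hx'mem⟩ : ↥(f.base ⁻¹' Y')) = z := hgen'.eq hz
    have hfz' : f.base z.1 = η' := by rw [← hxz]; exact hfx'
    apply subset_antisymm
    · apply closure_minimal _ hY'cl
      rintro _ ⟨_, ⟨w, -, rfl⟩, rfl⟩
      exact w.2
    · have hη'cl : closure ({η'} : Set Y) = Y' := hη'.def
      refine hη'cl.symm.le.trans ?_
      apply closure_minimal _ isClosed_closure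
      rw [Set.singleton_subset_iff]
      apply subset_closure
      exact ⟨z.1, ⟨z, hz.mem, rfl⟩, hfz'⟩
  · intro H x y' hy'
    let Y' := closure ({y'} : Set Y)
    have hY'cl : IsClosed Y' := isClosed_closure
    have hY'irr : IsIrreducible Y' := isIrreducible_singleton.closure
    have hxmem : x ∈ f.base ⁻¹' Y' := hy'.mem_closure
    have hclpre : IsClosed (f.base ⁻¹' Y') := hY'cl.preimage f.base.hom.continuous
    haveI : QuasiSober ↥(f.base ⁻¹' Y') := hclpre.isClosedEmbedding_subtypeVal.quasiSober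
    let Z := irreducibleComponent (⟨x, hxmem⟩ : ↥(f.base ⁻¹' Y'))
    have hZ : Z ∈ irreducibleComponents ↥(f.base ⁻¹' Y') :=
      irreducibleComponent_mem_irreducibleComponents _
    obtain ⟨z, hz⟩ := QuasiSober.sober hZ.1 (isClosed_of_mem_irreducibleComponents Z hZ)
    have hzx : z ⤳ (⟨x, hxmem⟩ : ↥(f.base ⁻¹' Y')) := hz.specializes mem_irreducibleComponent
    refine ⟨z.1, (subtype_specializes_iff _ _).mp hzx, ?_⟩
    have hcl := H Y' hY'cl hY'irr Z hZ
    have hsub : f.base '' (Subtype.val '' Z) ⊆ closure ({f.base z.1} : Set Y) := by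
      rintro _ ⟨_, ⟨w, hw, rfl⟩, rfl⟩
      have hzw : z ⤳ w := hz.specializes hw
      have : z.1 ⤳ w.1 := (subtype_specializes_iff _ _).mp hzw
      exact (this.map f.base.hom.continuous).mem_closure
    have h1 : Y' ⊆ closure ({f.base z.1} : Set Y) :=
      hcl.symm.le.trans (closure_minimal hsub isClosed_closure)
    have h2 : closure ({f.base z.1} : Set Y) ⊆ Y' :=
      closure_minimal (Set.singleton_subset_iff.mpr z.2) hY'cl
    have h3 : IsGenericPoint (f.base z.1) Y' := h2.antisymm h1
    have h4 : IsGenericPoint y' Y' := rfl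
    exact h3.eq h4

end Groth.Agent.S4587
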