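import Groth.Statements.S4593
import Mathlib

set_option autoImplicit false
universe u
open CategoryTheory CategoryTheory.Limits AlgebraicGeometry
open EGA41

namespace Groth.Agent.S4593

/-- Let B be a ring, (A_i) a filtered system of B-algebras with colimit A. The image of Spec A in Spec B
is the intersection of the images of the Spec A_i. -/
theorem result {I : Type u} [SmallCategory I] [IsFiltered I]
    (B : CommRingCat.{u}) (D : I ⥤ CommRingCat.{u}) (s : (Functor.const I).obj B ⟶ D) (c : Cocone D)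
    (hc : IsColimit c) (i₀ : I) :
    Set.range (Spec.map (s.app i₀ ≫ c.ι.app i₀)).base = ⋂ i : I, Set.range (Spec.map (s.app i)).base := by
  have hnat : ∀ {i j : I} (f : i ⟶ j), s.app i ≫ D.map f = s.app j := by
    intro i j f
    have := s.naturality f
    simpa using this.symm
  have hφ : ∀ i : I, s.app i ≫ c.ι.app i = s.app i₀ ≫ c.ι.app i₀ := by
    intro i
    rw [← c.w (IsFiltered.leftToMax i i₀), ← c.w (IsFiltered.rightToMax i i₀), ← Category.assoc,
      ← Category.assoc, hnat, hnat]
  -- ring-theoretic core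
  have key : ∀ p : PrimeSpectrum B,
      (∀ i : I, p ∈ Set.range (PrimeSpectrum.comap (show B ⟶ D.obj i from s.app i).hom)) →
      p ∈ Set.range (PrimeSpectrum.comap (show B ⟶ c.pt from s.app i₀ ≫ c.ι.app i₀).hom) := by
    intro p hp
    set φ : B ⟶ c.pt := s.app i₀ ≫ c.ι.app i₀ with hφdef
    let σ : ∀ i : I, B ⟶ D.obj i := fun i => s.app i
    have hσnat : ∀ {i j : I} (f : i ⟶ j), σ i ≫ D.map f = σ j := fun f => hnat f
    have hφ' : ∀ i : I, σ i ≫ c.ι.app i = φ := hφ
    change ∀ i : I, p ∈ Set.range (PrimeSpectrum.comap (σ i).hom) at hp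
    rw [PrimeSpectrum.mem_range_comap_iff]
    refine le_antisymm ?_ Ideal.le_comap_map
    have hpush : ∀ {i k : I} (f : i ⟶ k) (x' : D.obj i), x' ∈ Ideal.map (σ i).hom p.asIdeal →
        (D.map f) x' ∈ Ideal.map (σ k).hom p.asIdeal := by
      intro i k f x' hx'
      have : Ideal.map (D.map f).hom (Ideal.map (σ i).hom p.asIdeal) = Ideal.map (σ k).hom p.asIdeal := by
        rw [Ideal.map_map, ← CommRingCat.hom_comp, hσnat]
      rw [← this]
      exact Ideal.mem_map_of_mem _ hx'
    -- Lemma A
    have hA : ∀ a ∈ Ideal.map φ.hom p.asIdeal, ∃ (i : I) (a' : D.obj i),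
        a' ∈ Ideal.map (σ i).hom p.asIdeal ∧ c.ι.app i a' = a := by
      intro a ha
      unfold Ideal.map at ha
      induction ha using Submodule.span_induction with
      | mem x hx =>
        obtain ⟨y, hy, rfl⟩ := hx
        exact ⟨i₀, (σ i₀).hom y, Ideal.mem_map_of_mem _ hy, rfl⟩
      | zero => exact ⟨i₀, 0, Submodule.zero_mem _, map_zero _⟩
      | add x y _ _ hx hy =>
        obtain ⟨i, x', hx', rfl⟩ := hx
        obtain ⟨j, y', hy', rfl⟩ := hy
        refine ⟨IsFiltered.max i j, D.map (IsFiltered.leftToMax i j) x' +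
          D.map (IsFiltered.rightToMax i j) y', ?_, ?_⟩
        · exact Ideal.add_mem _ (hpush _ _ hx') (hpush _ _ hy')
        · rw [map_add]
          congr 1 <;> rw [← CommRingCat.comp_apply, c.w]
      | smul r x _ hx =>
        obtain ⟨i, x', hx', rfl⟩ := hx
        obtain ⟨j, r', rfl⟩ := Concrete.isColimit_exists_rep D hc r
        refine ⟨IsFiltered.max i j, D.map (IsFiltered.rightToMax i j) r' *
          D.map (IsFiltered.leftToMax i j) x', ?_, ?_⟩
        · exact Ideal.mul_mem_left _ _ (hpush _ _ hx')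
        · rw [map_mul, smul_eq_mul]
          congr 1 <;> rw [← CommRingCat.comp_apply, c.w]
    intro b hb
    rw [Ideal.mem_comap] at hb
    obtain ⟨i, a', ha', hab⟩ := hA _ hb
    have hb2 : c.ι.app i a' = c.ι.app i ((σ i).hom b) := by
      rw [hab, ← hφ' i]; rfl
    obtain ⟨k, f, g, hfg⟩ := Concrete.isColimit_exists_of_rep_eq D hc _ _ hb2
    have h1 : (D.map f) a' ∈ Ideal.map (σ k).hom p.asIdeal := hpush f a' ha'
    have h2 : (D.map g) ((σ i).hom b) = (σ k).hom b := by
      rw [← hσnat g]; rfl
    rw [hfg, h2] at h1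
    have h3 := (PrimeSpectrum.mem_range_comap_iff (f := (σ k).hom)).mp (hp k)
    rw [← h3]
    exact h1
  apply Set.Subset.antisymm
  · rintro _ ⟨y, rfl⟩
    simp only [Set.mem_iInter]
    intro i
    rw [← hφ i, Spec.map_comp]
    exact ⟨_, rfl⟩
  · intro p hp
    simp only [Set.mem_iInter] at hp
    exact key p hp

end Groth.Agent.S4593
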