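import Groth.Statements.S4597
import Mathlib

set_option autoImplicit false
universe u
open AlgebraicGeometry CategoryTheory CategoryTheory.Limits
open EGA41

namespace Groth.Agent.S4597

/-- Let f : X → Y, g : Y' → Y and f' : X ×_Y Y' → Y' the base change. If g is quasi-compact surjective
and f' quasi-compact, f is quasi-compact; if g is surjective and f' dominant, f is dominant. -/
theorem result {X Y Y' : Scheme.{u}} (f : X ⟶ Y)
    (g : Y' ⟶ Y) [Surjective g] :
    (QuasiCompact g → QuasiCompact (pullback.snd f g) → QuasiCompact f) ∧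
    (IsDominant (pullback.snd f g) → IsDominant f) := by
  have hcomm : ∀ z : ↑(pullback f g), f (pullback.fst f g z) = g (pullback.snd f g z) := by
    intro z
    have := congrArg (fun h : pullback f g ⟶ Y => h z) (pullback.condition (f := f) (g := g))
    simpa using this
  constructor
  · intro hg hf'
    constructor
    intro U hU hUc
    have h1 : IsCompact (g ⁻¹' U) := QuasiCompact.isCompact_preimage U hU hUc
    have h1o : IsOpen (g ⁻¹' U) := hU.preimage g.continuous
    have h2 : IsCompact ((pullback.snd f g) ⁻¹' (g ⁻¹' U)) :=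
      QuasiCompact.isCompact_preimage _ h1o h1
    have h3 : f ⁻¹' U = (pullback.fst f g) '' ((pullback.snd f g) ⁻¹' (g ⁻¹' U)) := by
      ext x
      constructor
      · intro hx
        obtain ⟨z, rfl⟩ := (pullback.fst f g).surjective x
        refine ⟨z, ?_, rfl⟩
        simp only [Set.mem_preimage] at hx ⊢
        rwa [← hcomm]
      · rintro ⟨z, hz, rfl⟩
        simp only [Set.mem_preimage] at hz ⊢
        rwa [hcomm]
    rw [h3]
    exact h2.image (pullback.fst f g).continuous
  · intro hd
    constructor
    rw [DenseRange, dense_iff_inter_open]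
    intro V hV hVne
    obtain ⟨y, hy⟩ := hVne
    obtain ⟨y', rfl⟩ := g.surjective y
    have hne : (g ⁻¹' V).Nonempty := ⟨y', hy⟩
    have := (dense_iff_inter_open.mp (pullback.snd f g).denseRange) _ (hV.preimage g.continuous) hne
    obtain ⟨_, hz1, ⟨z, rfl⟩⟩ := this
    refine ⟨f (pullback.fst f g z), ?_, ⟨_, rfl⟩⟩
    rw [hcomm]
    exact hz1

end Groth.Agent.S4597
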