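import Groth.Statements.S4603
import Mathlib
import Groth.Agent.Lib.helper2.DomMax

set_option autoImplicit false
universe u
open AlgebraicGeometry CategoryTheory
open EGA41

namespace Groth.Agent.S4603

/-- Let f : X → Y be quasi-compact. The following are equivalent: f is dominant; the fibre of f over
every maximal point of Y (a point with no proper generization, i.e. the generic point of an
irreducible component) is nonempty; every maximal point of Y is the image of a maximal point of X. -/
theorem result {X Y : Scheme.{u}} (f : X ⟶ Y) [QuasiCompact f] :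
    [IsDominant f,
     ∀ y : Y, (∀ y' : Y, y' ⤳ y → y' = y) → y ∈ Set.range f.base,
     ∀ y : Y, (∀ y' : Y, y' ⤳ y → y' = y) → ∃ x : X, (∀ x' : X, x' ⤳ x → x' = x) ∧ f.base x = y].TFAE := by
  tfae_have 1 → 2 := by
    intro h y hy
    exact Groth.Agent.H2.H2_mem_range_of_isDominant_of_quasiCompact f y hy
  tfae_have 2 → 3 := by
    intro h y hy
    obtain ⟨x, hx⟩ := h y hy
    obtain ⟨x', -, hx'x, hx'max⟩ :=
      Groth.Agent.H2.H2_exists_maximal_point (X := X) Set.univ isClosed_univ x trivial
    refine ⟨x', fun z hz => hx'max z trivial hz, ?_⟩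
    have h1 : f.base x' ⤳ f.base x := hx'x.map f.continuous
    have h2 : f.base x' ⤳ y := hx ▸ h1
    exact hy _ h2
  tfae_have 3 → 1 := by
    intro h
    refine ⟨fun y => ?_⟩
    obtain ⟨η, -, hηy, hηmax⟩ :=
      Groth.Agent.H2.H2_exists_maximal_point (X := Y) Set.univ isClosed_univ y trivial
    obtain ⟨x, -, hx⟩ := h η (fun z hz => hηmax z trivial hz)
    have : η ∈ Set.range f.base := ⟨x, hx⟩
    exact hηy.mem_closed isClosed_closure (subset_closure this)
  tfae_finish

end Groth.Agent.S4603
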