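import Groth.Statements.S4607
import Mathlib

set_option autoImplicit false
universe u
open TensorProduct
open EGA41

namespace Groth.Agent.S4607

/-- First assertion, case of two factors: for A-algebras A' and A'' the image of Spec(A' ⊗_A A'') in
Spec A is the intersection of the images of Spec A' and Spec A''. -/
theorem result {A A' A'' : Type u} [CommRing A] [CommRing A'] [CommRing A'']
    [Algebra A A'] [Algebra A A''] :
    Set.range (PrimeSpectrum.comap (algebraMap A (A' ⊗[A] A''))) =
      Set.range (PrimeSpectrum.comap (algebraMap A A')) ∩ Set.range (PrimeSpectrum.comap (algebraMap A A'')) := by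
  apply Set.Subset.antisymm
  · rintro _ ⟨q, rfl⟩
    have e1 : (algebraMap A (A' ⊗[A] A'')) =
        ((Algebra.TensorProduct.includeLeft : A' →ₐ[A] A' ⊗[A] A'').toRingHom).comp (algebraMap A A') :=
      ((Algebra.TensorProduct.includeLeft : A' →ₐ[A] A' ⊗[A] A'').comp_algebraMap).symm
    have e2 : (algebraMap A (A' ⊗[A] A'')) =
        ((Algebra.TensorProduct.includeRight : A'' →ₐ[A] A' ⊗[A] A'').toRingHom).comp (algebraMap A A'') :=
      ((Algebra.TensorProduct.includeRight : A'' →ₐ[A] A' ⊗[A] A'').comp_algebraMap).symm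
    refine ⟨⟨PrimeSpectrum.comap (Algebra.TensorProduct.includeLeft : A' →ₐ[A] A' ⊗[A] A'').toRingHom q, ?_⟩,
      ⟨PrimeSpectrum.comap (Algebra.TensorProduct.includeRight : A'' →ₐ[A] A' ⊗[A] A'').toRingHom q, ?_⟩⟩
    · conv_rhs => rw [e1]
      rfl
    · conv_rhs => rw [e2]
      rfl
  · rintro p ⟨h1, h2⟩
    rw [← PrimeSpectrum.nontrivial_iff_mem_rangeComap] at h1 h2 ⊢
    let κ := p.asIdeal.ResidueField
    haveI : Module.FaithfullyFlat κ (κ ⊗[A] A') := inferInstance
    haveI : Nontrivial ((κ ⊗[A] A') ⊗[κ] (κ ⊗[A] A'')) := inferInstance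
    exact (TensorProduct.AlgebraTensorModule.distribBaseChange A κ A' A'').toEquiv.nontrivial

end Groth.Agent.S4607
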