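import Groth.Statements.S4610
import Mathlib

set_option autoImplicit false
universe u
open EGA41

namespace Groth.Agent.S4610

open scoped TensorProduct

/-- Let A be a nonzero ring and F_1, …, F_r monic one-variable polynomials of degrees d_1, …, d_r; then
A[T_1, …, T_r]/(F_1(T_1), …, F_r(T_r)) is a free A-module of rank ∏ d_i. (The published statement
assumes A local with maximal ideal of square zero and A' local, which this assertion does not use;
its bound [K' : K] ≤ d and part (ii) are not stated.) -/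
theorem result {A : Type u} [CommRing A] [Nontrivial A]
    {r : ℕ} (F : Fin r → Polynomial A) (hF : ∀ i, (F i).Monic) :
    Module.Free A (MvPolynomial (Fin r) A ⧸ Ideal.span (Set.range fun i => Polynomial.aeval (MvPolynomial.X i : MvPolynomial (Fin r) A) (F i))) ∧
      Module.finrank A (MvPolynomial (Fin r) A ⧸ Ideal.span (Set.range fun i => Polynomial.aeval (MvPolynomial.X i : MvPolynomial (Fin r) A) (F i))) =
        Finset.univ.prod fun i => (F i).natDegree := by
  classical
  set I : Ideal (MvPolynomial (Fin r) A) := Ideal.span (Set.range fun i => Polynomial.aeval (MvPolynomial.X i : MvPolynomial (Fin r) A) (F i)) with hI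
  -- the algebra map to the tensor product
  let φ : MvPolynomial (Fin r) A →ₐ[A] (⨂[A] i, AdjoinRoot (F i)) :=
    MvPolynomial.aeval (fun i => PiTensorProduct.singleAlgHom (R := A) (A := fun i => AdjoinRoot (F i)) i (AdjoinRoot.root (F i)))
  have hφ : ∀ a ∈ I, φ a = 0 := by
    intro a ha
    have hle : I ≤ RingHom.ker φ.toRingHom := by
      rw [hI, Ideal.span_le]
      rintro _ ⟨i, rfl⟩
      simp only [SetLike.mem_coe, RingHom.mem_ker]
      show φ (Polynomial.aeval (MvPolynomial.X i) (F i)) = 0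
      rw [← Polynomial.aeval_algHom_apply, MvPolynomial.aeval_X, Polynomial.aeval_algHom_apply,
        AdjoinRoot.aeval_eq, AdjoinRoot.mk_self, map_zero]
    exact hle ha
  let φq : (MvPolynomial (Fin r) A ⧸ I) →ₐ[A] (⨂[A] i, AdjoinRoot (F i)) := Ideal.Quotient.liftₐ I φ hφ
  have hφq : ∀ x, φq (Ideal.Quotient.mk I x) = φ x := fun x => Ideal.Quotient.liftₐ_apply I φ hφ _
  have hroot : ∀ i, Polynomial.aeval (Ideal.Quotient.mk I (MvPolynomial.X i)) (F i) = 0 := by
    intro i
    have h1 : Polynomial.aeval (Ideal.Quotient.mkₐ A I (MvPolynomial.X i)) (F i) = 0 := by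
      rw [Polynomial.aeval_algHom_apply]
      exact Ideal.Quotient.eq_zero_iff_mem.2 (Ideal.subset_span ⟨i, rfl⟩)
    exact h1
  let ψi : ∀ i, AdjoinRoot (F i) →ₐ[A] (MvPolynomial (Fin r) A ⧸ I) := fun i =>
    AdjoinRoot.liftAlgHom (F i) (Algebra.ofId A (MvPolynomial (Fin r) A ⧸ I))
      (Ideal.Quotient.mk I (MvPolynomial.X i)) (hroot i)
  have hψi : ∀ i, ψi i (AdjoinRoot.root (F i)) = Ideal.Quotient.mk I (MvPolynomial.X i) := fun i =>
    AdjoinRoot.liftAlgHom_root _ _ _ _
  let fm : MultilinearMap A (fun i => AdjoinRoot (F i)) (MvPolynomial (Fin r) A ⧸ I) :=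
    (MultilinearMap.mkPiAlgebra A (Fin r) (MvPolynomial (Fin r) A ⧸ I)).compLinearMap (fun i => (ψi i).toLinearMap)
  have hfm : ∀ x, fm x = ∏ i, ψi i (x i) := by
    intro x
    simp only [fm, MultilinearMap.compLinearMap_apply, MultilinearMap.mkPiAlgebra_apply,
      AlgHom.toLinearMap_apply]
  let ψ : (⨂[A] i, AdjoinRoot (F i)) →ₐ[A] (MvPolynomial (Fin r) A ⧸ I) :=
    PiTensorProduct.liftAlgHom fm
      (by rw [hfm]; simp)
      (by intro x y; rw [hfm, hfm, hfm, ← Finset.prod_mul_distrib]; simp)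
  have hψ : ∀ i a, ψ (PiTensorProduct.singleAlgHom (R := A) (A := fun i => AdjoinRoot (F i)) i a) = ψi i a := by
    intro i a
    show PiTensorProduct.lift fm (PiTensorProduct.tprod A (MonoidHom.mulSingle _ i a)) = _
    rw [PiTensorProduct.lift.tprod, hfm]
    rw [Finset.prod_eq_single i]
    · simp
    · intro j _ hj
      simp [Pi.mulSingle_eq_of_ne hj]
    · intro h; exact absurd (Finset.mem_univ i) h
  have h1 : ψ.comp φq = AlgHom.id A _ := by
    apply Ideal.Quotient.algHom_ext
    apply MvPolynomial.algHom_ext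
    intro i
    show ψ (φq (Ideal.Quotient.mk I (MvPolynomial.X i))) = Ideal.Quotient.mk I (MvPolynomial.X i)
    rw [hφq]
    show ψ (MvPolynomial.aeval _ (MvPolynomial.X i)) = _
    rw [MvPolynomial.aeval_X, hψ, hψi]
  have h2 : φq.comp ψ = AlgHom.id A _ := by
    apply PiTensorProduct.algHom_ext
    intro i
    apply AdjoinRoot.algHom_ext
    show φq (ψ (PiTensorProduct.singleAlgHom (R := A) (A := fun i => AdjoinRoot (F i)) i (AdjoinRoot.root (F i)))) = PiTensorProduct.singleAlgHom (R := A) (A := fun i => AdjoinRoot (F i)) i (AdjoinRoot.root (F i))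
    rw [hψ, hψi, hφq]
    show MvPolynomial.aeval _ (MvPolynomial.X i) = _
    rw [MvPolynomial.aeval_X]
  let e : (MvPolynomial (Fin r) A ⧸ I) ≃ₐ[A] (⨂[A] i, AdjoinRoot (F i)) := AlgEquiv.ofAlgHom φq ψ h2 h1
  let bT := Basis.piTensorProduct (R := A) (fun i => (AdjoinRoot.powerBasis' (hF i)).basis)
  let bQ := bT.map e.toLinearEquiv.symm
  refine ⟨Module.Free.of_basis bQ, ?_⟩
  rw [Module.finrank_eq_card_basis bQ, Fintype.card_pi]
  simp only [Fintype.card_fin, AdjoinRoot.powerBasis'_dim]

end Groth.Agent.S4610
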