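import Groth.Statements.S4611
import Mathlib

set_option autoImplicit false
universe u
open EGA41

namespace Groth.Agent.S4611

/-- A local algebra essentially of finite type over a ring A is A-isomorphic to a quotient of a
localization A[T_1, …, T_n]_q of a polynomial algebra at a prime ideal q; stated as the existence of
a surjective A-algebra map from such a localization. -/
theorem result {A B : Type u} [CommRing A]
    [CommRing B] [IsLocalRing B] [Algebra A B] [Algebra.EssFiniteType A B] :
    ∃ (n : ℕ) (q : Ideal (MvPolynomial (Fin n) A)) (_ : q.IsPrime)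
      (φ : Localization.AtPrime q →ₐ[A] B), Function.Surjective φ := by
  classical
  obtain ⟨σ, hσ⟩ := (Algebra.essFiniteType_iff (R := A) (S := B)).mp inferInstance
  let n := σ.card
  let e : Fin n ≃ σ := σ.equivFin.symm
  let π : MvPolynomial (Fin n) A →ₐ[A] B := MvPolynomial.aeval (fun i => (e i : B))
  have hrange : ∀ b ∈ Algebra.adjoin A (σ : Set B), ∃ P, π P = b := by
    intro b hb
    have : (π.range : Subalgebra A B) = Algebra.adjoin A (σ : Set B) := by
      rw [← Algebra.adjoin_range_eq_range_aeval]
      congr 1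
      ext x
      constructor
      · rintro ⟨i, rfl⟩; exact (e i).2
      · intro hx; exact ⟨e.symm ⟨x, hx⟩, by simp⟩
    rw [← this] at hb
    exact hb
  let q : Ideal (MvPolynomial (Fin n) A) := (IsLocalRing.maximalIdeal B).comap π.toRingHom
  haveI hq : q.IsPrime := Ideal.comap_isPrime _ _
  have hunit : ∀ y : q.primeCompl, IsUnit (π.toRingHom y) := by
    intro y
    have hy : (y : MvPolynomial (Fin n) A) ∉ q := y.2
    by_contra hnu
    exact hy ((IsLocalRing.mem_maximalIdeal _).mpr hnu)
  let φ : Localization.AtPrime q →ₐ[A] B :=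
    IsLocalization.liftAlgHom (M := q.primeCompl) (f := π) hunit
  refine ⟨n, q, hq, φ, ?_⟩
  intro b
  obtain ⟨t, ht, htu, hbt⟩ := hσ b
  obtain ⟨T, rfl⟩ := hrange t ht
  obtain ⟨P, hP⟩ := hrange _ hbt
  have hT : T ∈ q.primeCompl := by
    intro hTq
    exact (IsLocalRing.mem_maximalIdeal _).mp hTq htu
  refine ⟨IsLocalization.mk' (Localization.AtPrime q) P ⟨T, hT⟩, ?_⟩
  change IsLocalization.lift hunit _ = b
  rw [IsLocalization.lift_mk'_spec]
  change π P = π T * b
  rw [hP, mul_comm]

end Groth.Agent.S4611
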