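import Groth.Statements.S4622
import Mathlib
import Groth.Agent.Lib.helper2.DescGeom

set_option autoImplicit false
open CategoryTheory AlgebraicGeometry
universe u
open FBase

namespace Groth.Agent.S4622

/-- Let k be a separably closed field, k' an algebraic closure of k and X a scheme over k. Then the
projection X ⊗_k k' → X is a universal homeomorphism. -/
theorem result {k k' : Type u} [Field k] [IsSepClosed k] [Field k'] [Algebra k k']
    [IsAlgClosure k k'] {X : Scheme.{u}} (f : X ⟶ Spec (CommRingCat.of k)) :
    FlatMor.IsUnivHomeo (FBase.bcπ f k') := by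
  open CategoryTheory.Limits MorphismProperty in
  haveI : Algebra.IsAlgebraic k k' := IsAlgClosure.isAlgebraic
  haveI hpi : IsPurelyInseparable k k' := inferInstance
  let φ : CommRingCat.of k ⟶ CommRingCat.of k' := CommRingCat.ofHom (algebraMap k k')
  have hinj : UniversallyInjective (Spec.map φ) := by
    refine ((tfae_universallyInjective (Spec.map φ)).out 0 1).mpr ?_
    intro K _ g₁ g₂ hg
    obtain ⟨ψ₁, rfl⟩ := Spec.map_surjective g₁
    obtain ⟨ψ₂, rfl⟩ := Spec.map_surjective g₂
    simp only [← Spec.map_comp] at hg
    have h := Spec.map_injective hg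
    congr 1
    ext x
    have h' : ψ₁.hom.comp (algebraMap k k') = ψ₂.hom.comp (algebraMap k k') := by
      have := congrArg CommRingCat.Hom.hom h
      simpa [φ] using this
    exact congrFun (congrArg DFunLike.coe
      (IsPurelyInseparable.injective_comp_algebraMap k k' K h')) x
  have hint : IsIntegralHom (Spec.map φ) := by
    rw [IsIntegralHom.SpecMap_iff]
    exact Algebra.IsIntegral.isIntegral (R := k) (A := k')
  have hcl : UniversallyClosed (Spec.map φ) := inferInstance
  have hsurj : Surjective (Spec.map φ) := Groth.Agent.H2.H2_surjective_to_spec_field _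
  have h1 : UniversallyInjective (FBase.bcπ f k') :=
    MorphismProperty.pullback_fst (P := @UniversallyInjective) f (Spec.map φ) hinj
  have h2 : UniversallyClosed (FBase.bcπ f k') :=
    MorphismProperty.pullback_fst (P := @UniversallyClosed) f (Spec.map φ) hcl
  have h3 : Surjective (FBase.bcπ f k') :=
    MorphismProperty.pullback_fst (P := @Surjective) f (Spec.map φ) hsurj
  intro X' Y' i₁ i₂ f' sq
  have h1' : UniversallyInjective f' := MorphismProperty.of_isPullback sq.flip h1
  have h2' : UniversallyClosed f' := MorphismProperty.of_isPullback sq.flip h2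
  have h3' : Surjective f' := MorphismProperty.of_isPullback sq.flip h3
  exact isHomeomorph_iff_continuous_isClosedMap_bijective.mpr
    ⟨f'.continuous, f'.isClosedMap, f'.injective, f'.surjective⟩

end Groth.Agent.S4622
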