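import Groth.Statements.S4624
import Mathlib

set_option autoImplicit false
open CategoryTheory AlgebraicGeometry
universe u
open FBase

namespace Groth.Agent.S4624

/-- Let h : X → Y be a surjective morphism of schemes over a field k. If X is geometrically connected
over k, then Y is geometrically connected over k. -/
theorem result {k : Type u} [Field k] {X Y : Scheme.{u}}
    (f : X ⟶ Spec (CommRingCat.of k)) (g : Y ⟶ Spec (CommRingCat.of k)) (h : X ⟶ Y) (w : h ≫ g = f)
    [Surjective h] [GeometricallyConnected f] : GeometricallyConnected g := by
  open CategoryTheory.Limits in
  subst w
  rw [geometricallyConnected_iff, geometrically_iff_of_isClosedUnderIsomorphisms]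
  intro K _ y
  haveI h1 : ConnectedSpace ↥(pullback (h ≫ g) y) :=
    pullback_of_geometrically (P := (ConnectedSpace ·))
      (GeometricallyConnected.geometrically_connectedSpace) K y
  let e := pullbackRightPullbackFstIso g y h
  let φ : pullback (h ≫ g) y ⟶ pullback g y := e.inv ≫ pullback.snd h (pullback.fst g y)
  have hsurj : Function.Surjective φ.base := by
    have h1 : Function.Surjective (pullback.snd h (pullback.fst g y)).base :=
      (inferInstance : Surjective (pullback.snd h (pullback.fst g y))).surj
    have h2 : Function.Surjective e.inv.base := (inferInstance : Surjective e.inv).surj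
    simpa [φ] using h1.comp h2
  exact hsurj.connectedSpace φ.base.hom.continuous

end Groth.Agent.S4624
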