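import Groth.Statements.S4625
import Mathlib
import Groth.Agent.Lib.helper2.DescGeom

set_option autoImplicit false
open CategoryTheory AlgebraicGeometry
universe u
open FBase

namespace Groth.Agent.S4625

/-- Let X be a scheme over a field k and K an extension field of k. Then X is geometrically connected
over k if and only if X ⊗_k K, with its structure of K-scheme, is geometrically connected over K. -/
theorem result {k K : Type u} [Field k] [Field K] [Algebra k K]
    {X : Scheme.{u}} (f : X ⟶ Spec (CommRingCat.of k)) :
    GeometricallyConnected f ↔ GeometricallyConnected (FBase.bcStr f K) := by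
  open CategoryTheory.Limits in
  constructor
  · intro h
    exact (inferInstance : GeometricallyConnected
      (pullback.snd f (Spec.map (CommRingCat.ofHom (algebraMap k K)))))
  · intro h
    haveI : Surjective (Spec.map (CommRingCat.ofHom (algebraMap k K))) :=
      Groth.Agent.H2.H2_surjective_to_spec_field _
    rw [geometricallyConnected_iff]
    refine Groth.Agent.H2.H2_geometrically_of_surjective_baseChange (ConnectedSpace ·) ?_ f
      (Spec.map (CommRingCat.ofHom (algebraMap k K)))
      ((geometricallyConnected_iff _).mp h)
    intro Z' Z φ hφ hZ'
    haveI : ConnectedSpace ↥Z' := hZ'
    exact hφ.surj.connectedSpace φ.base.hom.continuous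

end Groth.Agent.S4625
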