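import Groth.Statements.S4627
import Mathlib
import Groth.Agent.Lib.helper2.DescGeom

set_option autoImplicit false
open CategoryTheory AlgebraicGeometry
universe u
open FBase

namespace Groth.Agent.S4627

/-- Let X be a scheme over a field k and K an extension field of k. Then X is geometrically integral
over k if and only if X ⊗_k K, with its structure of K-scheme, is geometrically integral over K. -/
theorem result {k K : Type u} [Field k] [Field K] [Algebra k K]
    {X : Scheme.{u}} (f : X ⟶ Spec (CommRingCat.of k)) :
    GeometricallyIntegral f ↔ GeometricallyIntegral (FBase.bcStr f K) := by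
  open CategoryTheory.Limits in
  constructor
  · intro h
    exact (inferInstance : GeometricallyIntegral
      (pullback.snd f (Spec.map (CommRingCat.ofHom (algebraMap k K)))))
  · intro h
    haveI : Surjective (Spec.map (CommRingCat.ofHom (algebraMap k K))) :=
      Groth.Agent.H2.H2_surjective_to_spec_field _
    haveI : ObjectProperty.IsClosedUnderIsomorphisms (C := Scheme.{u}) AlgebraicGeometry.IsIntegral :=
      ⟨fun {Z Z'} e hZ => by
        haveI : AlgebraicGeometry.IsIntegral Z := hZ
        haveI : Nonempty ↥Z' := ⟨e.hom (Classical.arbitrary ↥Z)⟩
        exact isIntegral_of_isOpenImmersion e.inv⟩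
    rw [geometricallyIntegral_iff]
    refine Groth.Agent.H2.H2_geometrically_of_surjective_baseChange' AlgebraicGeometry.IsIntegral ?_ f
      (Spec.map (CommRingCat.ofHom (algebraMap k K)))
      ((geometricallyIntegral_iff _).mp h)
    intro K' L' _ _ Z a l hZ
    haveI : AlgebraicGeometry.IsIntegral (pullback a l) := hZ
    haveI : AlgebraicGeometry.IsReduced Z :=
      Groth.Agent.H2.H2_isReduced_of_pullback_field K' L' Z a l inferInstance
    haveI : IrreducibleSpace ↥Z :=
      (Groth.Agent.H2.H2_surjective_pullback_fst_field K' L' Z a l).surj.irreducibleSpace
        (pullback.fst a l).base.hom.continuous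
    exact isIntegral_of_irreducibleSpace_of_isReduced Z

end Groth.Agent.S4627
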