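import Groth.Statements.S4650
import Mathlib

set_option autoImplicit false
open CategoryTheory AlgebraicGeometry
universe u
open FDesc

namespace Groth.Agent.S4650

/-- Let f : X → Y be a morphism of schemes along which generizations lift (this holds for flat,
quasi-flat or open morphisms). Then every irreducible component of X dominates an irreducible
component of Y: the closure of its image is an irreducible component of Y. -/
theorem result {X Y : Scheme.{u}} (f : X ⟶ Y)
    (hf : GeneralizingMap ⇑f) (T : Set ↥X) (hT : T ∈ irreducibleComponents ↥X) :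
    closure (⇑f '' T) ∈ irreducibleComponents ↥Y := by
  have hTcl : IsClosed T := isClosed_of_mem_irreducibleComponents T hT
  obtain ⟨ξ, hξ⟩ := QuasiSober.sober hT.1 hTcl
  have hgen : IsGenericPoint (f ξ) (closure (⇑f '' T)) := hξ.image f.continuous
  refine ⟨hgen.isIrreducible, ?_⟩
  intro Z hZ hle
  have hZc : IsIrreducible (closure Z) := hZ.closure
  obtain ⟨η, hη⟩ := QuasiSober.sober hZc isClosed_closure
  have h1 : η ⤳ f ξ := hη.specializes (subset_closure (hle hgen.mem))
  obtain ⟨ξ', hξ', hfξ'⟩ := hf h1
  have h2 : T ⊆ closure {ξ'} := by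
    rw [← hξ.def]
    exact closure_minimal (Set.singleton_subset_iff.mpr hξ'.mem_closure) isClosed_closure
  have h3 : closure {ξ'} ⊆ T := hT.2 isIrreducible_singleton.closure h2
  have h4 : ξ' ∈ T := h3 (subset_closure rfl)
  have h5 : η ∈ closure (⇑f '' T) := subset_closure ⟨ξ', h4, hfξ'⟩
  calc Z ⊆ closure Z := subset_closure
    _ = closure {η} := hη.def.symm
    _ ⊆ closure (⇑f '' T) := closure_minimal (Set.singleton_subset_iff.mpr h5) isClosed_closure

end Groth.Agent.S4650
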