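import Groth.Statements.S4651
import Mathlib

set_option autoImplicit false
open CategoryTheory AlgebraicGeometry
universe u
open FDesc

namespace Groth.Agent.S4651

/-- Let Y be a scheme whose family of irreducible components is locally finite (every point has an open
neighbourhood meeting only finitely many irreducible components), and let f : X → Y be a morphism
along which generizations lift (e.g. flat, quasi-flat or open) such that every fibre f⁻¹(y) is a
finite set (e.g. f quasi-finite or radicial). Then the family of irreducible components of X is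
locally finite. -/
theorem result {X Y : Scheme.{u}} (f : X ⟶ Y)
    (hY : ∀ y : Y, ∃ U : Set ↥Y, IsOpen U ∧ y ∈ U ∧ {Z ∈ irreducibleComponents ↥Y | (Z ∩ U).Nonempty}.Finite)
    (hf : GeneralizingMap ⇑f) (hfin : ∀ y : Y, (⇑f ⁻¹' {y}).Finite) (x : X) :
    ∃ U : Set ↥X, IsOpen U ∧ x ∈ U ∧ {T ∈ irreducibleComponents ↥X | (T ∩ U).Nonempty}.Finite := by
  classical
  obtain ⟨U, hUo, hxU, hUfin⟩ := hY (f x)
  refine ⟨f ⁻¹' U, hUo.preimage f.continuous, hxU, ?_⟩
  -- generic points of the finitely many components of Y meeting U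
  set S : Set (Set ↥Y) := {Z ∈ irreducibleComponents ↥Y | (Z ∩ U).Nonempty} with hS
  -- the finite set of points of X mapping to a generic point of some Z ∈ S
  set P : Set ↥X := ⋃ Z ∈ S, {ξ : ↥X | IsGenericPoint (f ξ) Z} with hP
  have hPfin : P.Finite := by
    apply Set.Finite.biUnion hUfin
    intro Z hZ
    obtain ⟨η, hη⟩ := QuasiSober.sober hZ.1.1 (isClosed_of_mem_irreducibleComponents Z hZ.1)
    apply (hfin η).subset
    intro ξ hξ
    exact hξ.eq hη
  have hsub : {T ∈ irreducibleComponents ↥X | (T ∩ ⇑f ⁻¹' U).Nonempty} ⊆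
      (fun ξ : ↥X => closure {ξ}) '' P := by
    rintro T ⟨hT, t, htT, htU⟩
    have hTcl : IsClosed T := isClosed_of_mem_irreducibleComponents T hT
    obtain ⟨ξ, hξ⟩ := QuasiSober.sober hT.1 hTcl
    refine ⟨ξ, ?_, hξ.def⟩
    have hgen : IsGenericPoint (f ξ) (closure (⇑f '' T)) := hξ.image f.continuous
    -- closure (f '' T) is an irreducible component, by the generalizing property
    have hcomp : closure (⇑f '' T) ∈ irreducibleComponents ↥Y := by
      refine ⟨hgen.isIrreducible, ?_⟩
      intro Z hZ hle
      have hZc : IsIrreducible (closure Z) := hZ.closure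
      obtain ⟨η, hη⟩ := QuasiSober.sober hZc isClosed_closure
      have h1 : η ⤳ f ξ := hη.specializes (subset_closure (hle hgen.mem))
      obtain ⟨ξ', hξ', hfξ'⟩ := hf h1
      have h2 : T ⊆ closure {ξ'} := by
        rw [← hξ.def]
        exact closure_minimal (Set.singleton_subset_iff.mpr hξ'.mem_closure) isClosed_closure
      have h3 : closure {ξ'} ⊆ T := hT.2 isIrreducible_singleton.closure h2
      have h4 : ξ' ∈ T := h3 (subset_closure rfl)
      have h5 : η ∈ closure (⇑f '' T) := subset_closure ⟨ξ', h4, hfξ'⟩
      calc Z ⊆ closure Z := subset_closure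
        _ = closure {η} := hη.def.symm
        _ ⊆ closure (⇑f '' T) :=
          closure_minimal (Set.singleton_subset_iff.mpr h5) isClosed_closure
    simp only [hP, hS, Set.mem_iUnion, Set.mem_setOf_eq, exists_prop]
    exact ⟨closure (⇑f '' T), ⟨hcomp, f t, subset_closure ⟨t, htT, rfl⟩, htU⟩, hgen⟩
  exact (hPfin.image _).subset hsub

end Groth.Agent.S4651
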