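import Groth.Statements.S4674
import Mathlib

set_option autoImplicit false
open scoped TensorProduct
universe u v w
open FDesc

namespace Groth.Agent.S4674

/-- Let B be a flat A-algebra and M a finitely presented A-module. Then the annihilator of the B-module
B ⊗_A M is the ideal of B generated by the image of the annihilator of M. -/
theorem result {A : Type u} {B : Type v} [CommRing A] [CommRing B] [Algebra A B]
    [Module.Flat A B] (M : Type w) [AddCommGroup M] [Module A M] [Module.FinitePresentation A M] :
    Module.annihilator B (B ⊗[A] M) = (Module.annihilator A M).map (algebraMap A B) := by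
  classical
  apply le_antisymm
  · intro b hb
    rw [Module.mem_annihilator] at hb
    obtain ⟨n, s, hs⟩ := Module.Finite.exists_fin (R := A) (M := M)
    let φ : A →ₗ[A] (Fin n → M) := LinearMap.pi fun i => LinearMap.toSpanSingleton A M (s i)
    have hker : ∀ k : LinearMap.ker φ, (k : A) ∈ Module.annihilator A M := by
      intro k
      rw [Module.mem_annihilator]
      have hk : φ k = 0 := k.2
      have h0 : ∀ i, (k : A) • s i = 0 := fun i => by
        have := congrFun hk i
        simpa [φ] using this
      have : (LinearMap.lsmul A M (k : A)) = 0 := by
        apply LinearMap.ext_on_range hs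
        intro i
        simpa using h0 i
      intro m
      have := LinearMap.congr_fun this m
      simpa using this
    have hex := Module.Flat.lTensor_exact B (LinearMap.exact_subtype_ker_map φ)
    have hb1 : (LinearMap.lTensor B φ) (b ⊗ₜ[A] (1 : A)) = 0 := by
      apply (TensorProduct.piRight A A B (fun _ : Fin n => M)).injective
      rw [map_zero]
      ext i
      simp only [LinearMap.lTensor_tmul, TensorProduct.piRight_apply,
        TensorProduct.piRightHom_tmul, Pi.zero_apply]
      have : φ 1 i = s i := by simp [φ]
      rw [this]
      have := hb ((1 : B) ⊗ₜ[A] s i)
      rwa [TensorProduct.smul_tmul', smul_eq_mul, mul_one] at this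
    obtain ⟨z, hz⟩ := (hex _).mp hb1
    have hμ : ∀ z : B ⊗[A] (LinearMap.ker φ),
        (TensorProduct.rid A B) ((LinearMap.lTensor B (LinearMap.ker φ).subtype) z) ∈
          (Module.annihilator A M).map (algebraMap A B) := by
      intro z
      induction z using TensorProduct.induction_on with
      | zero => simp
      | tmul x k =>
        simp only [LinearMap.lTensor_tmul, Submodule.subtype_apply, TensorProduct.rid_tmul]
        rw [Algebra.smul_def]
        exact Ideal.mul_mem_right _ _ (Ideal.mem_map_of_mem _ (hker k))
      | add x y hx hy =>
        rw [map_add, map_add]
        exact Ideal.add_mem _ hx hy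
    have := hμ z
    rw [hz, TensorProduct.rid_tmul, one_smul] at this
    exact this
  · rw [Ideal.map_le_iff_le_comap]
    intro a ha
    rw [Ideal.mem_comap, Module.mem_annihilator]
    rw [Module.mem_annihilator] at ha
    intro x
    induction x using TensorProduct.induction_on with
    | zero => simp
    | tmul b m =>
      rw [algebraMap_smul, ← TensorProduct.tmul_smul, ha, TensorProduct.tmul_zero]
    | add x y hx hy => rw [smul_add, hx, hy, add_zero]

end Groth.Agent.S4674
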