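import Groth.Statements.S4711
import Mathlib
import Groth.Agent.Lib.helper2.LocClosedPt

set_option autoImplicit false
universe u
open EGA4

namespace Groth.Agent.S4711

open AlgebraicGeometry Topology in
/-- In any scheme X, every nonempty locally constructible subset E contains a point x such that the
one-point set {x} is locally closed in X (equivalently x is isolated in its closure). -/
theorem result (X : Scheme.{u}) (E : Set X)
    (hE : Topology.IsLocallyConstructible E) (hne : E.Nonempty) :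
    ∃ x ∈ E, IsLocallyClosed ({x} : Set X) := by
  -- structure of constructible sets: each point lies in a locally closed piece
  have claim : ∀ (Y : Type u) [TopologicalSpace Y] (s : Set Y), Topology.IsConstructible s →
      (∀ e ∈ s, ∃ W C : Set Y, IsOpen W ∧ IsClosed C ∧ e ∈ W ∩ C ∧ W ∩ C ⊆ s) ∧
      (∀ e ∉ s, ∃ W C : Set Y, IsOpen W ∧ IsClosed C ∧ e ∈ W ∩ C ∧ W ∩ C ⊆ sᶜ) := by
    intro Y _ s hs
    induction hs using Topology.IsConstructible.empty_union_induction with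
    | open_retrocompact U hUopen hUcomp =>
      refine ⟨fun e he => ⟨U, Set.univ, hUopen, isClosed_univ, ⟨he, trivial⟩, Set.inter_subset_left⟩,
        fun e he => ⟨Set.univ, Uᶜ, isOpen_univ, hUopen.isClosed_compl, ⟨trivial, he⟩,
          Set.inter_subset_right⟩⟩
    | union s hs t ht ihs iht =>
      constructor
      · rintro e (he | he)
        · obtain ⟨W, C, hW, hC, heWC, hsub⟩ := ihs.1 e he
          exact ⟨W, C, hW, hC, heWC, hsub.trans Set.subset_union_left⟩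
        · obtain ⟨W, C, hW, hC, heWC, hsub⟩ := iht.1 e he
          exact ⟨W, C, hW, hC, heWC, hsub.trans Set.subset_union_right⟩
      · intro e he
        rw [Set.mem_union, not_or] at he
        obtain ⟨W₁, C₁, hW₁, hC₁, he₁, hsub₁⟩ := ihs.2 e he.1
        obtain ⟨W₂, C₂, hW₂, hC₂, he₂, hsub₂⟩ := iht.2 e he.2
        refine ⟨W₁ ∩ W₂, C₁ ∩ C₂, hW₁.inter hW₂, hC₁.inter hC₂,
          ⟨⟨he₁.1, he₂.1⟩, ⟨he₁.2, he₂.2⟩⟩, ?_⟩
        rintro w ⟨⟨hw1, hw2⟩, ⟨hw3, hw4⟩⟩
        rw [Set.compl_union]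
        exact ⟨hsub₁ ⟨hw1, hw3⟩, hsub₂ ⟨hw2, hw4⟩⟩
    | compl s hs ih =>
      refine ⟨fun e he => ih.2 e he, fun e he => ?_⟩
      have he' : e ∈ s := by
        by_contra h; exact he h
      obtain ⟨W, C, hW, hC, heWC, hsub⟩ := ih.1 e he'
      exact ⟨W, C, hW, hC, heWC, by rwa [compl_compl]⟩
  obtain ⟨e, he⟩ := hne
  obtain ⟨U, hUe, hUopen, hUc⟩ := hE e
  have heU : e ∈ U := mem_of_mem_nhds hUe
  obtain ⟨W', C', hW', hC', heWC, hsub⟩ := (claim U _ hUc).1 ⟨e, heU⟩ he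
  have hWopen : IsOpen (Subtype.val '' W' : Set X) := hUopen.isOpenMap_subtype_val _ hW'
  obtain ⟨x₁, hx₁W, hspec, hlc⟩ :=
    Groth.Agent.H2.H2_exists_specializes_isLocallyClosed_singleton X e (Subtype.val '' W') hWopen
      ⟨⟨e, heU⟩, heWC.1, rfl⟩
  obtain ⟨⟨x₁', hx₁U⟩, hx₁W', rfl⟩ := hx₁W
  refine ⟨x₁', ?_, hlc⟩
  have hsp : (⟨e, heU⟩ : U) ⤳ ⟨x₁', hx₁U⟩ := (subtype_specializes_iff _ _).mpr hspec
  have hx₁C : (⟨x₁', hx₁U⟩ : U) ∈ C' := hsp.mem_closed hC' heWC.2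
  exact hsub ⟨hx₁W', hx₁C⟩

end Groth.Agent.S4711
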