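import Groth.Statements.S4712
import Mathlib
import Groth.Agent.Lib.helper2.LocClosedPt

set_option autoImplicit false
universe u
open EGA4

namespace Groth.Agent.S4712

open AlgebraicGeometry in
/-- Let X be a locally Noetherian scheme and x a point such that {x} is locally closed in X. Then the
closure of {x} has dimension at most 1, and every point of that closure other than x is a closed
point of X. -/
theorem result (X : Scheme.{u}) [IsLocallyNoetherian X] (x : X)
    (hx : IsLocallyClosed ({x} : Set X)) :
    topologicalKrullDim (closure ({x} : Set X)) ≤ 1 ∧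
      ∀ y ∈ closure ({x} : Set X), y ≠ x → IsClosed ({y} : Set X) := by
  refine ⟨?_, fun y hy hyx =>
    Groth.Agent.H2.H2_isClosed_singleton_of_mem_closure_of_isLocallyClosed X x hx y hy hyx⟩
  have hT : IsClosed (closure ({x} : Set X)) := isClosed_closure
  haveI : QuasiSober (closure ({x} : Set X)) := hT.isClosedEmbedding_subtypeVal.quasiSober
  let P : Preorder (closure ({x} : Set X)) :=
    (specializationOrder (closure ({x} : Set X))).toPreorder
  have hiso := @Order.krullDim_eq_of_orderIso _ (closure ({x} : Set X)) _ P
    (irreducibleSetEquivPoints (α := closure ({x} : Set X)))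
  rw [topologicalKrullDim, hiso, @Order.krullDim_le_one_iff _ P]
  intro t
  by_cases ht : t.1 = x
  · right
    intro s _
    change t ⤳ s
    rw [subtype_specializes_iff, ht]
    exact specializes_iff_mem_closure.mpr s.2
  · left
    intro s hs
    have hs' : t ⤳ s := hs
    rw [subtype_specializes_iff] at hs'
    have hcl := Groth.Agent.H2.H2_isClosed_singleton_of_mem_closure_of_isLocallyClosed
      X x hx t.1 t.2 ht
    have h1 : s.1 ∈ closure ({t.1} : Set X) := hs'.mem_closure
    rw [hcl.closure_eq] at h1
    have h2 : s = t := Subtype.ext h1
    rw [h2]

end Groth.Agent.S4712
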