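import Groth.Statements.S4713
import Mathlib
import Groth.Agent.Lib.helper2.LocClosedPt

set_option autoImplicit false
universe u
open EGA4

namespace Groth.Agent.S4713

open AlgebraicGeometry in
/-- In a locally Noetherian scheme X, every nonempty closed subset contains a closed point of X. -/
theorem result (X : Scheme.{u}) [IsLocallyNoetherian X]
    (Z : Set X) (hZ : IsClosed Z) (hne : Z.Nonempty) : ∃ x ∈ Z, IsClosed ({x} : Set X) := by
  obtain ⟨z, hz⟩ := hne
  obtain ⟨_, ⟨V, hV, rfl⟩, hzV, -⟩ :=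
    X.isBasis_affineOpens.exists_subset_of_mem_open (Set.mem_univ z) isOpen_univ
  have hrange : Set.range hV.fromSpec = V := hV.range_fromSpec
  have hemb : Topology.IsOpenEmbedding hV.fromSpec := hV.fromSpec.isOpenEmbedding
  obtain ⟨pz, rfl⟩ : z ∈ Set.range hV.fromSpec := hrange ▸ hzV
  obtain ⟨m, hm, hpm⟩ := Ideal.exists_le_maximal pz.asIdeal pz.isPrime.ne_top
  let pm : PrimeSpectrum Γ(X, V) := ⟨m, hm.isPrime⟩
  let x₁ := hV.fromSpec pm
  have hspec : hV.fromSpec pz ⤳ x₁ :=
    ((PrimeSpectrum.le_iff_specializes pz pm).mp hpm).map hemb.continuous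
  have hx₁Z : x₁ ∈ Z := hZ.closure_subset_iff.mpr (Set.singleton_subset_iff.mpr hz)
    hspec.mem_closure
  have hx₁V : x₁ ∈ V := by
    change x₁ ∈ (V : Set X)
    rw [← hrange]; exact Set.mem_range_self pm
  have hlc : IsLocallyClosed ({x₁} : Set X) := by
    refine ⟨V, closure {x₁}, V.2, isClosed_closure, ?_⟩
    apply subset_antisymm
    · rintro _ rfl
      exact ⟨hx₁V, subset_closure rfl⟩
    · rintro w ⟨hwV, hw⟩
      obtain ⟨pw, rfl⟩ : w ∈ Set.range hV.fromSpec := hrange ▸ hwV
      have h1 : pm ⤳ pw := hemb.isInducing.specializes_iff.mp (specializes_iff_mem_closure.mpr hw)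
      have hle : m ≤ pw.asIdeal := (PrimeSpectrum.le_iff_specializes pm pw).mpr h1
      have : pm = pw := PrimeSpectrum.ext (hm.eq_of_le pw.isPrime.ne_top hle)
      rw [← this]
      exact Set.mem_singleton _
  by_cases hcl : IsClosed ({x₁} : Set X)
  · exact ⟨x₁, hx₁Z, hcl⟩
  · have : ∃ y ∈ closure ({x₁} : Set X), y ≠ x₁ := by
      by_contra hcon
      push_neg at hcon
      apply hcl
      rw [← closure_subset_iff_isClosed]
      intro y hy
      exact hcon y hy
    obtain ⟨y, hy, hyx⟩ := this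
    refine ⟨y, ?_, Groth.Agent.H2.H2_isClosed_singleton_of_mem_closure_of_isLocallyClosed
      X x₁ hlc y hy hyx⟩
    exact hZ.closure_subset_iff.mpr (Set.singleton_subset_iff.mpr hx₁Z) hy

end Groth.Agent.S4713
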