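import Groth.Statements.S4715
import Mathlib
import Groth.Agent.Lib.helper2.DimSpec

set_option autoImplicit false
universe u
open EGA4

namespace Groth.Agent.S4715

open AlgebraicGeometry CategoryTheory in
/-- Let f : X → Y be a quasi-finite morphism (of finite type with discrete fibres) of locally Noetherian
schemes. Then dim X is at most the dimension of the closure of f(X), which is at most dim Y. -/
theorem result {X Y : Scheme.{u}} (f : X ⟶ Y) [IsLocallyNoetherian X] [IsLocallyNoetherian Y]
    [LocallyQuasiFinite f] [LocallyOfFiniteType f] [QuasiCompact f] :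
    topologicalKrullDim X ≤ topologicalKrullDim (closure (Set.range f.base)) ∧
      topologicalKrullDim (closure (Set.range f.base)) ≤ topologicalKrullDim Y := by
  refine ⟨?_, topologicalKrullDim_subspace_le _ _⟩
  have hT : IsClosed (closure (Set.range f.base)) := isClosed_closure
  haveI : QuasiSober (closure (Set.range f.base)) := hT.isClosedEmbedding_subtypeVal.quasiSober
  refine Groth.Agent.H2.H2_topologicalKrullDim_le_of_specializes_inj
    (fun x : X => (⟨f.base x, subset_closure ⟨x, rfl⟩⟩ : closure (Set.range f.base)))
    (Continuous.subtype_mk f.continuous _) ?_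
  intro x x' hspec heq
  have heq' : f.base x = f.base x' := congrArg Subtype.val heq
  have hd := f.isDiscrete_preimage_singleton (f.base x')
  have hx : x ∈ f ⁻¹' {f.base x'} := heq'
  have hx' : x' ∈ f ⁻¹' {f.base x'} := rfl
  haveI : DiscreteTopology ↥(f ⁻¹' {f.base x'}) := hd.to_subtype
  have h1 : (⟨x, hx⟩ : ↥(f ⁻¹' {f.base x'})) ⤳ ⟨x', hx'⟩ :=
    (subtype_specializes_iff _ _).mpr hspec
  exact congrArg Subtype.val h1.eq

end Groth.Agent.S4715
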