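import Groth.Statements.S4717
import Mathlib
import Groth.Agent.Lib.helper2.IntegralDim
import Groth.Agent.S7552

set_option autoImplicit false
universe u
open EGA4

namespace Groth.Agent.S4717

open AlgebraicGeometry CategoryTheory in
/-- Let f : X → Y be a finite morphism of locally Noetherian schemes. Then dim X equals the dimension of
the image f(X); in particular if f is surjective then dim X = dim Y. -/
theorem result {X Y : Scheme.{u}} (f : X ⟶ Y) [IsLocallyNoetherian X] [IsLocallyNoetherian Y]
    [IsFinite f] :
    topologicalKrullDim X = topologicalKrullDim (Set.range f.base) ∧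
      (Function.Surjective f.base → topologicalKrullDim X = topologicalKrullDim Y) := by
  have hcl : IsClosedMap f.base := f.isClosedMap
  constructor
  · apply le_antisymm (Groth.Agent.H2.H2_dim_le_range_of_isIntegralHom f)
    have hR : IsClosed (Set.range f.base) := hcl.isClosed_range
    haveI : QuasiSober (Set.range f.base) := hR.isClosedEmbedding_subtypeVal.quasiSober
    refine Groth.Agent.S7552.result (Set.rangeFactorization f.base)
      (f.continuous.subtype_mk _) Set.rangeFactorization_surjective (Or.inl ?_)
    apply IsClosedMap.specializingMap
    intro C hC
    have : Set.rangeFactorization f.base '' C = Subtype.val ⁻¹' (f.base '' C) := by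
      ext ⟨y, hy⟩
      constructor
      · rintro ⟨x, hxC, hx⟩
        exact ⟨x, hxC, congrArg Subtype.val hx⟩
      · rintro ⟨x, hxC, hx⟩
        exact ⟨x, hxC, Subtype.ext hx⟩
    rw [this]
    exact (hcl C hC).preimage continuous_subtype_val
  · intro hs
    exact le_antisymm (Groth.Agent.H2.H2_dim_le_of_isIntegralHom f)
      (Groth.Agent.S7552.result f.base f.continuous hs (Or.inl hcl.specializingMap))

end Groth.Agent.S4717
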