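import Groth.Statements.S4729
import Mathlib

set_option autoImplicit false
universe u
open EGA4

namespace Groth.Agent.S4729

/-- Let A be a commutative ring, M a finite A-module and p ⊆ q prime ideals of A (so that p is a
generization of q). Then the dimension of the A_p-module M_p is at most the dimension of the
A_q-module M_q. -/
theorem result (A : Type u) [CommRing A] (M : Type u) [AddCommGroup M] [Module A M]
    [Module.Finite A M] (p q : Ideal A) [p.IsPrime] [q.IsPrime] (hpq : p ≤ q) :
    Module.supportDim (Localization.AtPrime p) (LocalizedModule p.primeCompl M) ≤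
      Module.supportDim (Localization.AtPrime q) (LocalizedModule q.primeCompl M) := by
  classical
  have hr0p : ∀ P' : PrimeSpectrum (Localization.AtPrime p), P'.asIdeal.under A ≤ p := by
    intro P' a ha
    by_contra hap
    have hu : IsUnit (algebraMap A (Localization.AtPrime p) a) :=
      IsLocalization.map_units (Localization.AtPrime p) (⟨a, hap⟩ : p.primeCompl)
    exact P'.isPrime.ne_top (Ideal.eq_top_of_isUnit_mem _ ha hu)
  have hr0prime : ∀ P' : PrimeSpectrum (Localization.AtPrime p), (P'.asIdeal.under A).IsPrime := by
    intro P'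
    haveI := P'.isPrime
    exact Ideal.comap_isPrime (algebraMap A (Localization.AtPrime p)) P'.asIdeal
  have hdisjq : ∀ P' : PrimeSpectrum (Localization.AtPrime p),
      Disjoint (q.primeCompl : Set A) ((P'.asIdeal.under A : Ideal A) : Set A) := by
    intro P'
    rw [Set.disjoint_left]
    intro a ha har
    exact ha (hpq (hr0p P' har))
  have hprime : ∀ P' : PrimeSpectrum (Localization.AtPrime p),
      (Ideal.map (algebraMap A (Localization.AtPrime q)) (P'.asIdeal.under A)).IsPrime := fun P' =>
    IsLocalization.isPrime_of_isPrime_disjoint q.primeCompl _ _ (hr0prime P') (hdisjq P')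
  have hsupp : ∀ P' : PrimeSpectrum (Localization.AtPrime p),
      P' ∈ Module.support (Localization.AtPrime p) (LocalizedModule p.primeCompl M) →
      (⟨_, hprime P'⟩ : PrimeSpectrum (Localization.AtPrime q)) ∈
        Module.support (Localization.AtPrime q) (LocalizedModule q.primeCompl M) := by
    intro P' hP'
    rw [Module.mem_support_iff'] at hP' ⊢
    obtain ⟨x, hx⟩ := hP'
    revert hx
    refine LocalizedModule.induction_on (fun m s => ?_) x
    intro hx
    have hA : ∀ a : A, a • m = 0 → a ∈ P'.asIdeal.under A := by
      intro a ham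
      by_contra har
      apply hx (algebraMap A (Localization.AtPrime p) a) har
      rw [← Localization.mk_one_eq_algebraMap, LocalizedModule.mk_smul_mk, ham,
        LocalizedModule.zero_mk]
    refine ⟨LocalizedModule.mk m 1, ?_⟩
    intro b hb hby
    apply hb
    obtain ⟨a, t, rfl⟩ := IsLocalization.exists_mk'_eq q.primeCompl b
    rw [← Localization.mk_eq_mk'_apply, LocalizedModule.mk_smul_mk,
      ← LocalizedModule.zero_mk (1 : q.primeCompl), LocalizedModule.mk_eq] at hby
    obtain ⟨u, hu⟩ := hby
    have hu' : ((u : A) * a) • m = 0 := by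
      have h0 : u • (1 : q.primeCompl) • a • m = 0 := by rw [hu, smul_zero, smul_zero]
      rw [one_smul] at h0
      rw [mul_smul]
      exact h0
    have hmem := hA _ hu'
    show IsLocalization.mk' (Localization.AtPrime q) a t ∈
      Ideal.map (algebraMap A (Localization.AtPrime q)) (P'.asIdeal.under A)
    rcases (hr0prime P').mem_or_mem hmem with h1 | h1
    · exact absurd (hpq (hr0p P' h1)) u.2
    · rw [IsLocalization.mk'_mem_map_algebraMap_iff q.primeCompl]
      exact ⟨1, Submonoid.one_mem _, by rwa [one_mul]⟩
  obtain ⟨φ, hφdef⟩ : ∃ φ : ↥(Module.support (Localization.AtPrime p)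
      (LocalizedModule p.primeCompl M)) →
      ↥(Module.support (Localization.AtPrime q) (LocalizedModule q.primeCompl M)),
      ∀ P', ((φ P').1).asIdeal =
        Ideal.map (algebraMap A (Localization.AtPrime q)) (P'.1.asIdeal.under A) :=
    ⟨fun P' => ⟨⟨_, hprime P'.1⟩, hsupp P'.1 P'.2⟩, fun P' => rfl⟩
  have hφ : StrictMono φ := by
    apply strictMono_of_le_iff_le
    intro x y
    show x.1.asIdeal ≤ y.1.asIdeal ↔ (φ x).1.asIdeal ≤ (φ y).1.asIdeal
    rw [hφdef x, hφdef y]
    constructor
    · intro h
      exact Ideal.map_mono (Ideal.comap_mono h)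
    · intro h
      have e1 := IsLocalization.under_map_of_isPrime_disjoint q.primeCompl
        (Localization.AtPrime q) (hr0prime x.1) (hdisjq x.1)
      have e2 := IsLocalization.under_map_of_isPrime_disjoint q.primeCompl
        (Localization.AtPrime q) (hr0prime y.1) (hdisjq y.1)
      have h1 : x.1.asIdeal.under A ≤ y.1.asIdeal.under A :=
        calc x.1.asIdeal.under A = _ := e1.symm
          _ ≤ _ := Ideal.comap_mono h
          _ = y.1.asIdeal.under A := e2
      calc x.1.asIdeal = _ :=
            (IsLocalization.map_under p.primeCompl (Localization.AtPrime p) x.1.asIdeal).symm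
        _ ≤ _ := Ideal.map_mono h1
        _ = y.1.asIdeal :=
            IsLocalization.map_under p.primeCompl (Localization.AtPrime p) y.1.asIdeal
  exact Order.krullDim_le_of_strictMono φ hφ

end Groth.Agent.S4729
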