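import Groth.Statements.S4821
import Mathlib

set_option autoImplicit false
universe u
open Cons9

namespace Groth.Agent.S4821

/-- Let A be an integral domain with fraction field K, and (P_i) a finite family of polynomials in
A[T_1, …, T_m], generating an ideal 𝔞; for a point s of Spec A write 𝔞_s for the ideal of κ(s)[T_1,
…, T_m] generated by the images of the P_i. If the zero locus of 𝔞_η in affine m-space over K = κ(η)
is empty, that is if 𝔞_η is the unit ideal, then there is an open neighbourhood D(f) (f ≠ 0) of the
generic point such that 𝔞_s is the unit ideal (its zero locus is empty) for every s in D(f). -/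
theorem result {A : Type u} [CommRing A] [IsDomain A] {m : ℕ}
    (P : Finset (MvPolynomial (Fin m) A))
    (hη : Ideal.span ((MvPolynomial.map (algebraMap A (FractionRing A))) '' (P : Set (MvPolynomial (Fin m) A))) = ⊤) :
    ∃ f : A, f ≠ 0 ∧ ∀ p : PrimeSpectrum A, f ∉ p.asIdeal →
      Ideal.span ((MvPolynomial.map (algebraMap A p.asIdeal.ResidueField)) '' (P : Set (MvPolynomial (Fin m) A))) = ⊤ := by
  classical
  letI : Algebra (MvPolynomial (Fin m) A) (MvPolynomial (Fin m) (FractionRing A)) :=
    MvPolynomial.algebraMvPolynomial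
  haveI hloc : IsLocalization ((nonZeroDivisors A).map (MvPolynomial.C (σ := Fin m)))
      (MvPolynomial (Fin m) (FractionRing A)) :=
    MvPolynomial.isLocalization (nonZeroDivisors A) (FractionRing A)
  set I : Ideal (MvPolynomial (Fin m) A) := Ideal.span (P : Set (MvPolynomial (Fin m) A)) with hI
  have hmap : I.map (algebraMap (MvPolynomial (Fin m) A) (MvPolynomial (Fin m) (FractionRing A))) = ⊤ := by
    rw [hI, Ideal.map_span]
    exact hη
  have hnd : ¬ Disjoint (((nonZeroDivisors A).map (MvPolynomial.C (σ := Fin m)) :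
      Submonoid (MvPolynomial (Fin m) A)) : Set (MvPolynomial (Fin m) A)) (I : Set _) := by
    intro hd
    exact (IsLocalization.map_algebraMap_ne_top_iff_disjoint
      ((nonZeroDivisors A).map (MvPolynomial.C (σ := Fin m)))
      (MvPolynomial (Fin m) (FractionRing A)) I).2 hd hmap
  rw [Set.not_disjoint_iff] at hnd
  obtain ⟨x, hx1, hx2⟩ := hnd
  obtain ⟨f, hf, rfl⟩ := hx1
  refine ⟨f, nonZeroDivisors.ne_zero hf, ?_⟩
  intro p hp
  have h1 : Ideal.span ((MvPolynomial.map (algebraMap A p.asIdeal.ResidueField)) ''
      (P : Set (MvPolynomial (Fin m) A))) =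
      I.map (MvPolynomial.map (algebraMap A p.asIdeal.ResidueField)) := by
    rw [hI, Ideal.map_span]
  rw [h1, Ideal.eq_top_iff_one]
  have h2 : (MvPolynomial.map (algebraMap A p.asIdeal.ResidueField)) (MvPolynomial.C f) ∈
      I.map (MvPolynomial.map (algebraMap A p.asIdeal.ResidueField)) :=
    Ideal.mem_map_of_mem _ hx2
  rw [MvPolynomial.map_C] at h2
  have hne : algebraMap A p.asIdeal.ResidueField f ≠ 0 := by
    intro h0
    apply hp
    have := (Ideal.algebraMap_residueField_eq_zero (I := p.asIdeal)).1 h0
    exact this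
  have h3 : (1 : MvPolynomial (Fin m) p.asIdeal.ResidueField) =
      MvPolynomial.C (algebraMap A p.asIdeal.ResidueField f)⁻¹ *
        MvPolynomial.C (algebraMap A p.asIdeal.ResidueField f) := by
    rw [← MvPolynomial.C_mul, inv_mul_cancel₀ hne, MvPolynomial.C_1]
  rw [h3]
  exact Ideal.mul_mem_left _ _ h2

end Groth.Agent.S4821
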