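import Groth.Statements.S4834
import Groth.Statements.S4834
import Mathlib

set_option autoImplicit false
open CategoryTheory CategoryTheory.Limits
universe u
open Lim8

namespace Groth.Agent.S4834

/-- Let A be a commutative ring, M an A-module of finite type and (N_λ) an inductive system of A-modules
indexed by a nonempty directed preordered set. Then the canonical map colim_λ Hom_A(M, N_λ) →
Hom_A(M, colim_λ N_λ), sending a compatible system of homomorphisms to its inductive limit, is
injective. This is the finite type case, in the form its proof gives. -/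
theorem result {A : Type u} [CommRing A] (M : ModuleCat.{u} A)
    [Module.Finite A M] {J : Type u} [Preorder J] [IsDirected J (· ≤ ·)] [Nonempty J]
    (N : J ⥤ ModuleCat.{u} A) :
    Function.Injective (colimit.post N (coyoneda.obj (Opposite.op M))) := by
  classical
  intro x y hxy
  obtain ⟨i, f0, rfl⟩ := Types.jointly_surjective' x
  obtain ⟨j, g0, rfl⟩ := Types.jointly_surjective' y
  obtain ⟨f, hf0⟩ : ∃ f : M ⟶ N.obj i, f = f0 := ⟨f0, rfl⟩
  obtain ⟨g, hg0⟩ : ∃ g : M ⟶ N.obj j, g = g0 := ⟨g0, rfl⟩
  subst hf0 hg0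
  have hpost : ∀ (l : J) (φ : M ⟶ N.obj l),
      colimit.post N (coyoneda.obj (Opposite.op M))
        (colimit.ι (N ⋙ coyoneda.obj (Opposite.op M)) l φ) = φ ≫ colimit.ι N l := by
    intro l φ
    have h1 := ConcreteCategory.congr_hom (colimit.ι_post N (coyoneda.obj (Opposite.op M)) l) φ
    exact h1
  rw [hpost, hpost] at hxy
  have hpt : ∀ m : M, colimit.ι N i (f m) = colimit.ι N j (g m) := by
    intro m
    have h1 := congrArg (fun φ => φ.hom m) hxy
    simpa using h1
  have hex : ∀ m : M, ∃ (k : J) (a : i ⟶ k) (b : j ⟶ k), N.map a (f m) = N.map b (g m) :=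
    fun m => Concrete.colimit_exists_of_rep_eq N (f m) (g m) (hpt m)
  have hfin : ∀ s : Finset M, ∃ (K : J) (a : i ⟶ K) (b : j ⟶ K),
      ∀ m ∈ s, N.map a (f m) = N.map b (g m) := by
    intro s
    induction s using Finset.induction_on with
    | empty =>
      exact ⟨IsFiltered.max i j, IsFiltered.leftToMax i j, IsFiltered.rightToMax i j, by simp⟩
    | insert m s _ ih =>
      obtain ⟨K, a, b, hK⟩ := ih
      obtain ⟨k, a', b', hk⟩ := hex m
      refine ⟨IsFiltered.max K k, a ≫ IsFiltered.leftToMax K k, b ≫ IsFiltered.leftToMax K k, ?_⟩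
      intro m' hm'
      rcases Finset.mem_insert.mp hm' with rfl | hm'
      · have e1 : a ≫ IsFiltered.leftToMax K k = a' ≫ IsFiltered.rightToMax K k :=
          Subsingleton.elim _ _
        have e2 : b ≫ IsFiltered.leftToMax K k = b' ≫ IsFiltered.rightToMax K k :=
          Subsingleton.elim _ _
        rw [e1, e2, N.map_comp, N.map_comp]
        simp only [ModuleCat.hom_comp, LinearMap.comp_apply]
        rw [hk]
      · rw [N.map_comp, N.map_comp]
        simp only [ModuleCat.hom_comp, LinearMap.comp_apply]
        rw [hK m' hm']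
  obtain ⟨s, hs⟩ := (Module.Finite.fg_top (R := A) (M := M))
  obtain ⟨K, a, b, hK⟩ := hfin s
  have hcomp : f ≫ N.map a = g ≫ N.map b := by
    apply ModuleCat.hom_ext
    apply LinearMap.ext_on hs
    intro m hm
    simpa using hK m hm
  exact (Types.FilteredColimit.colimit_eq_iff (F := N ⋙ coyoneda.obj (Opposite.op M))).mpr
    ⟨K, a, b, hcomp⟩

end Groth.Agent.S4834
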