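import Groth.Statements.S4835
import Groth.Statements.S4835
import Mathlib

set_option autoImplicit false
open CategoryTheory CategoryTheory.Limits
universe u
open Lim8

namespace Groth.Agent.S4835

/-- Let A be a commutative ring, M an A-module of finite presentation and (N_λ) an inductive system of
A-modules indexed by a nonempty directed preordered set. Then the canonical map colim_λ Hom_A(M,
N_λ) → Hom_A(M, colim_λ N_λ), sending a compatible system of homomorphisms to its inductive limit,
is bijective. This is the form established in the source's proof (finite presentation case). -/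
theorem result {A : Type u} [CommRing A] (M : ModuleCat.{u} A)
    [Module.FinitePresentation A M] {J : Type u} [Preorder J] [IsDirected J (· ≤ ·)] [Nonempty J]
    (N : J ⥤ ModuleCat.{u} A) :
    Function.Bijective (colimit.post N (coyoneda.obj (Opposite.op M))) := by
  classical
  have hpost : ∀ (l : J) (φ : M ⟶ N.obj l),
      colimit.post N (coyoneda.obj (Opposite.op M))
        (colimit.ι (N ⋙ coyoneda.obj (Opposite.op M)) l φ) = φ ≫ colimit.ι N l := by
    intro l φ
    have h1 := ConcreteCategory.congr_hom (colimit.ι_post N (coyoneda.obj (Opposite.op M)) l) φ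
    exact h1
  constructor
  · -- injectivity
    intro x y hxy
    obtain ⟨i, f0, rfl⟩ := Types.jointly_surjective' x
    obtain ⟨j, g0, rfl⟩ := Types.jointly_surjective' y
    obtain ⟨f, hf0⟩ : ∃ f : M ⟶ N.obj i, f = f0 := ⟨f0, rfl⟩
    obtain ⟨g, hg0⟩ : ∃ g : M ⟶ N.obj j, g = g0 := ⟨g0, rfl⟩
    subst hf0 hg0
    rw [hpost, hpost] at hxy
    have hpt : ∀ m : M, colimit.ι N i (f m) = colimit.ι N j (g m) := by
      intro m
      have h1 := congrArg (fun φ => φ.hom m) hxy
      simpa using h1
    have hex : ∀ m : M, ∃ (k : J) (a : i ⟶ k) (b : j ⟶ k), N.map a (f m) = N.map b (g m) :=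
      fun m => Concrete.colimit_exists_of_rep_eq N (f m) (g m) (hpt m)
    have hfin : ∀ s : Finset M, ∃ (K : J) (a : i ⟶ K) (b : j ⟶ K),
        ∀ m ∈ s, N.map a (f m) = N.map b (g m) := by
      intro s
      induction s using Finset.induction_on with
      | empty =>
        exact ⟨IsFiltered.max i j, IsFiltered.leftToMax i j, IsFiltered.rightToMax i j, by simp⟩
      | insert m s _ ih =>
        obtain ⟨K, a, b, hK⟩ := ih
        obtain ⟨k, a', b', hk⟩ := hex m
        refine ⟨IsFiltered.max K k, a ≫ IsFiltered.leftToMax K k, b ≫ IsFiltered.leftToMax K k, ?_⟩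
        intro m' hm'
        rcases Finset.mem_insert.mp hm' with rfl | hm'
        · have e1 : a ≫ IsFiltered.leftToMax K k = a' ≫ IsFiltered.rightToMax K k :=
            Subsingleton.elim _ _
          have e2 : b ≫ IsFiltered.leftToMax K k = b' ≫ IsFiltered.rightToMax K k :=
            Subsingleton.elim _ _
          rw [e1, e2, N.map_comp, N.map_comp]
          simp only [ModuleCat.hom_comp, LinearMap.comp_apply]
          rw [hk]
        · rw [N.map_comp, N.map_comp]
          simp only [ModuleCat.hom_comp, LinearMap.comp_apply]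
          rw [hK m' hm']
    obtain ⟨s, hs⟩ := (Module.Finite.fg_top (R := A) (M := M))
    obtain ⟨K, a, b, hK⟩ := hfin s
    have hcomp : f ≫ N.map a = g ≫ N.map b := by
      apply ModuleCat.hom_ext
      apply LinearMap.ext_on hs
      intro m hm
      simpa using hK m hm
    exact (Types.FilteredColimit.colimit_eq_iff (F := N ⋙ coyoneda.obj (Opposite.op M))).mpr
      ⟨K, a, b, hcomp⟩
  · -- surjectivity
    intro φ0
    obtain ⟨φ, hφ0⟩ : ∃ φ : M ⟶ colimit N, φ = φ0 := ⟨φ0, rfl⟩
    subst hφ0
    obtain ⟨n, m, π, g, hπ, hex⟩ := Module.FinitePresentation.exists_fin' A M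
    -- lift the images of the basis vectors
    have hrep : ∀ l : Fin n, ∃ (k : J) (z : N.obj k),
        colimit.ι N k z = φ (π (Pi.single l 1)) :=
      fun l => Concrete.colimit_exists_rep N (φ (π (Pi.single l 1)))
    choose k z hz using hrep
    obtain ⟨K0, hK0⟩ := Finset.exists_le (Finset.univ.image k)
    have hkK0 : ∀ l, k l ≤ K0 := fun l => hK0 _ (Finset.mem_image_of_mem _ (Finset.mem_univ l))
    let w : Fin n → N.obj K0 := fun l => N.map (homOfLE (hkK0 l)) (z l)
    have hw : ∀ l, colimit.ι N K0 (w l) = φ (π (Pi.single l 1)) := by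
      intro l
      rw [← hz l]
      exact colimit.w_apply N (homOfLE (hkK0 l)) (z l)
    let f0 : (Fin n → A) →ₗ[A] N.obj K0 := (Pi.basisFun A (Fin n)).constr A w
    have hf0 : ∀ x : Fin n → A, colimit.ι N K0 (f0 x) = φ (π x) := by
      intro x
      have h1 : (colimit.ι N K0).hom ∘ₗ f0 = φ.hom ∘ₗ π := by
        apply (Pi.basisFun A (Fin n)).ext
        intro l
        show (colimit.ι N K0).hom (f0 ((Pi.basisFun A (Fin n)) l)) =
          φ.hom (π ((Pi.basisFun A (Fin n)) l))
        rw [show f0 ((Pi.basisFun A (Fin n)) l) = w l from Module.Basis.constr_basis _ _ _ _,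
          Pi.basisFun_apply]
        exact hw l
      exact congrArg (fun ψ => ψ x) h1
    -- kill the relations
    have hrel : ∀ s : Fin m, ∃ (K' : J) (i : K0 ⟶ K'),
        (N.map i).hom (f0 (g (Pi.single s 1))) = 0 := by
      intro s
      apply Concrete.colimit_rep_eq_zero (F := N) (j := K0)
      rw [hf0, hex.apply_apply_eq_zero, map_zero]
    choose K' i' hK' using hrel
    obtain ⟨K, hK⟩ := Finset.exists_le (insert K0 (Finset.univ.image K'))
    have hK0K : K0 ≤ K := hK _ (Finset.mem_insert_self _ _)
    have hK'K : ∀ s, K' s ≤ K := fun s =>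
      hK _ (Finset.mem_insert_of_mem (Finset.mem_image_of_mem _ (Finset.mem_univ s)))
    let f1 : (Fin n → A) →ₗ[A] N.obj K := (N.map (homOfLE hK0K)).hom ∘ₗ f0
    have hf1g : f1 ∘ₗ g = 0 := by
      apply (Pi.basisFun A (Fin m)).ext
      intro s
      simp only [LinearMap.comp_apply, Pi.basisFun_apply, LinearMap.zero_apply, f1]
      have e1 : homOfLE hK0K = i' s ≫ homOfLE (hK'K s) := Subsingleton.elim _ _
      rw [e1, N.map_comp]
      simp only [ModuleCat.hom_comp, LinearMap.comp_apply]
      rw [hK' s, map_zero]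
    have hker : LinearMap.ker π ≤ LinearMap.ker f1 := by
      intro x hx
      obtain ⟨y, rfl⟩ := (hex x).mp hx
      exact congrArg (fun ψ => ψ y) hf1g
    let e := LinearMap.quotKerEquivOfSurjective π hπ
    let f : M →ₗ[A] N.obj K := (Submodule.liftQ (LinearMap.ker π) f1 hker) ∘ₗ e.symm.toLinearMap
    have hfπ : ∀ x, f (π x) = f1 x := by
      intro x
      have h1 : e.symm (π x) = Submodule.Quotient.mk x := by
        rw [LinearEquiv.symm_apply_eq]
        rfl
      simp only [f, LinearMap.comp_apply, LinearEquiv.coe_coe, h1, Submodule.liftQ_apply]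
    refine ⟨colimit.ι (N ⋙ coyoneda.obj (Opposite.op M)) K (ModuleCat.ofHom f), ?_⟩
    rw [hpost]
    apply ModuleCat.hom_ext
    apply LinearMap.ext
    intro y
    obtain ⟨x, rfl⟩ := hπ y
    simp only [ModuleCat.hom_comp, LinearMap.comp_apply, ModuleCat.hom_ofHom]
    rw [hfπ, ← hf0 x]
    exact colimit.w_apply N (homOfLE hK0K) (f0 x)

end Groth.Agent.S4835
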