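import Groth.Statements.S4859
import Mathlib

set_option autoImplicit false
universe u
open EGA43

namespace Groth.Agent.S4859

/-- Conditions a), a′), b) (quasi-homeomorphisms): for a continuous map f : X₀ → X the following are
equivalent: taking preimages is a bijection from the open subsets of X onto the open subsets of X₀;
taking preimages is a bijection from the closed subsets of X onto the closed subsets of X₀; the
topology of X₀ is induced from X through f and the image f(X₀) is very dense in X, in the sense that
two open subsets of X with the same trace on f(X₀) coincide. -/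
theorem result {X₀ X : Type u} [TopologicalSpace X₀] [TopologicalSpace X]
    (f : X₀ → X) (hf : Continuous f) :
    [Function.Bijective (fun U : TopologicalSpace.Opens X =>
        (⟨f ⁻¹' (U : Set X), U.isOpen.preimage hf⟩ : TopologicalSpace.Opens X₀)),
      Function.Bijective (fun F : TopologicalSpace.Closeds X =>
        (⟨f ⁻¹' (F : Set X), F.isClosed.preimage hf⟩ : TopologicalSpace.Closeds X₀)),
      Topology.IsInducing f ∧
        ∀ U V : Set X, IsOpen U → IsOpen V → U ∩ Set.range f = V ∩ Set.range f → U = V].TFAE := by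
  have hpre : ∀ U V : Set X, f ⁻¹' U = f ⁻¹' V ↔ U ∩ Set.range f = V ∩ Set.range f := by
    intro U V
    constructor
    · intro h
      ext y
      simp only [Set.mem_inter_iff, Set.mem_range]
      constructor
      · rintro ⟨hy, x, rfl⟩
        exact ⟨(Set.ext_iff.mp h x).mp hy, x, rfl⟩
      · rintro ⟨hy, x, rfl⟩
        exact ⟨(Set.ext_iff.mp h x).mpr hy, x, rfl⟩
    · intro h
      ext x
      have := Set.ext_iff.mp h (f x)
      simp only [Set.mem_inter_iff, Set.mem_range, exists_apply_eq_apply, and_true] at this
      exact this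
  tfae_have 1 → 3 := by
    rintro ⟨hinj, hsurj⟩
    refine ⟨?_, ?_⟩
    · rw [Topology.isInducing_iff]
      ext s
      rw [isOpen_induced_iff]
      constructor
      · intro hs
        obtain ⟨U, hU⟩ := hsurj ⟨s, hs⟩
        exact ⟨U, U.isOpen, congrArg (fun W : TopologicalSpace.Opens X₀ => (W : Set X₀)) hU⟩
      · rintro ⟨t, ht, rfl⟩
        exact ht.preimage hf
    · intro U V hU hV hUV
      have := @hinj ⟨U, hU⟩ ⟨V, hV⟩ (by
        apply TopologicalSpace.Opens.ext
        exact (hpre U V).mpr hUV)
      exact congrArg (fun W : TopologicalSpace.Opens X => (W : Set X)) this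
  tfae_have 3 → 1 := by
    rintro ⟨hind, hd⟩
    constructor
    · intro U V hUV
      apply TopologicalSpace.Opens.ext
      apply hd _ _ U.isOpen V.isOpen
      rw [← hpre]
      exact congrArg (fun W : TopologicalSpace.Opens X₀ => (W : Set X₀)) hUV
    · rintro ⟨s, hs⟩
      rw [hind.isOpen_iff] at hs
      obtain ⟨t, ht, rfl⟩ := hs
      exact ⟨⟨t, ht⟩, rfl⟩
  tfae_have 1 → 2 := by
    rintro ⟨hinj, hsurj⟩
    constructor
    · intro F F' hFF'
      have h1 := congrArg (fun W : TopologicalSpace.Closeds X₀ => (W : Set X₀)) hFF'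
      simp only [TopologicalSpace.Closeds.coe_mk] at h1
      have := @hinj ⟨(F : Set X)ᶜ, F.isClosed.isOpen_compl⟩ ⟨(F' : Set X)ᶜ, F'.isClosed.isOpen_compl⟩ (by
        apply TopologicalSpace.Opens.ext
        simp only [TopologicalSpace.Opens.coe_mk, Set.preimage_compl, h1])
      have h2 := congrArg (fun W : TopologicalSpace.Opens X => (W : Set X)) this
      simp only [TopologicalSpace.Opens.coe_mk, compl_inj_iff] at h2
      exact TopologicalSpace.Closeds.ext h2
    · rintro ⟨s, hs⟩
      obtain ⟨U, hU⟩ := hsurj ⟨sᶜ, hs.isOpen_compl⟩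
      have h1 := congrArg (fun W : TopologicalSpace.Opens X₀ => (W : Set X₀)) hU
      simp only [TopologicalSpace.Opens.coe_mk] at h1
      refine ⟨⟨(U : Set X)ᶜ, U.isOpen.isClosed_compl⟩, ?_⟩
      apply TopologicalSpace.Closeds.ext
      simp only [TopologicalSpace.Closeds.coe_mk, Set.preimage_compl, h1, compl_compl]
  tfae_have 2 → 1 := by
    rintro ⟨hinj, hsurj⟩
    constructor
    · intro U V hUV
      have h1 := congrArg (fun W : TopologicalSpace.Opens X₀ => (W : Set X₀)) hUV
      simp only [TopologicalSpace.Opens.coe_mk] at h1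
      have := @hinj ⟨(U : Set X)ᶜ, U.isOpen.isClosed_compl⟩ ⟨(V : Set X)ᶜ, V.isOpen.isClosed_compl⟩ (by
        apply TopologicalSpace.Closeds.ext
        simp only [TopologicalSpace.Closeds.coe_mk, Set.preimage_compl, h1])
      have h2 := congrArg (fun W : TopologicalSpace.Closeds X => (W : Set X)) this
      simp only [TopologicalSpace.Closeds.coe_mk, compl_inj_iff] at h2
      exact TopologicalSpace.Opens.ext h2
    · rintro ⟨s, hs⟩
      obtain ⟨F, hF⟩ := hsurj ⟨sᶜ, hs.isClosed_compl⟩
      have h1 := congrArg (fun W : TopologicalSpace.Closeds X₀ => (W : Set X₀)) hF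
      simp only [TopologicalSpace.Closeds.coe_mk] at h1
      refine ⟨⟨(F : Set X)ᶜ, F.isClosed.isOpen_compl⟩, ?_⟩
      apply TopologicalSpace.Opens.ext
      simp only [TopologicalSpace.Opens.coe_mk, Set.preimage_compl, h1, compl_compl]
  tfae_finish

end Groth.Agent.S4859
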