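import Groth.Statements.S4860
import Mathlib
import Groth.Agent.Lib.helper2.AwayField

set_option autoImplicit false
universe u
open EGA43

namespace Groth.Agent.S4860

/-- For an integral domain B the following are equivalent: a) the localization B_f is a field for some
nonzero f; b) the fraction field of B is a finitely generated B-algebra; c) there is a field
containing B (an injective algebra map from B) which is a finitely generated B-algebra; d) the
generic point of Spec B is open. -/
theorem result (B : Type u) [CommRing B] [IsDomain B] :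
    [∃ f : B, f ≠ 0 ∧ IsField (Localization.Away f),
      Algebra.FiniteType B (FractionRing B),
      ∃ (K : Type u) (_ : Field K) (_ : Algebra B K), Function.Injective (algebraMap B K) ∧ Algebra.FiniteType B K,
      IsOpen ({⟨⊥, Ideal.bot_prime⟩} : Set (PrimeSpectrum B))].TFAE := by
  tfae_have 1 → 2 := by
    rintro ⟨f, hf, hF⟩
    let _ := hF.toField
    have hinj := Groth.Agent.H2.H2_away_injective f hf
    have : FaithfulSMul B (Localization.Away f) :=
      (faithfulSMul_iff_algebraMap_injective _ _).mpr hinj
    have : IsFractionRing B (Localization.Away f) := IsFractionRing.of_field B _ (fun z => by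
      obtain ⟨a, ⟨_, n, rfl⟩, rfl⟩ := IsLocalization.exists_mk'_eq (Submonoid.powers f) z
      refine ⟨a, f ^ n, ?_⟩
      have hne : algebraMap B (Localization.Away f) (f ^ n) ≠ 0 := by
        intro h0
        exact pow_ne_zero n hf (hinj (by rw [h0, map_zero]))
      rw [eq_div_iff hne]
      exact IsLocalization.mk'_spec _ _ _)
    have hft : Algebra.FiniteType B (Localization.Away f) :=
      IsLocalization.finiteType_of_monoid_fg (Submonoid.powers f) _
    exact hft.equiv (FractionRing.algEquiv B (Localization.Away f)).symm
  tfae_have 2 → 3 := by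
    intro h
    exact ⟨FractionRing B, inferInstance, inferInstance, IsFractionRing.injective B _, h⟩
  tfae_have 3 → 1 := by
    rintro ⟨K, _, _, hinj, hft⟩
    exact Groth.Agent.H2.H2_exists_away_isField_of_finiteType_field B K hinj hft
  tfae_have 1 → 4 := by
    rintro ⟨f, hf, hF⟩
    have : ({⟨⊥, Ideal.bot_prime⟩} : Set (PrimeSpectrum B)) =
        (PrimeSpectrum.basicOpen f : Set (PrimeSpectrum B)) := by
      ext q
      simp only [Set.mem_singleton_iff, SetLike.mem_coe, PrimeSpectrum.mem_basicOpen]
      constructor
      · rintro rfl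
        exact hf
      · intro hfq
        by_contra hne
        have hq0 : q.asIdeal ≠ ⊥ := fun h => hne (PrimeSpectrum.ext h)
        exact hfq (Groth.Agent.H2.H2_forall_mem_of_isField_away f hf hF q.asIdeal q.isPrime hq0)
    rw [this]
    exact (PrimeSpectrum.basicOpen f).2
  tfae_have 4 → 1 := by
    intro h
    obtain ⟨_, ⟨_, ⟨f, rfl⟩, rfl⟩, hpf, hfU⟩ :=
      PrimeSpectrum.isBasis_basic_opens.exists_subset_of_mem_open
        (Set.mem_singleton (⟨⊥, Ideal.bot_prime⟩ : PrimeSpectrum B)) h
    have hf : f ≠ 0 := hpf
    refine ⟨f, hf, Groth.Agent.H2.H2_isField_away_of_forall_mem f hf ?_⟩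
    intro Q hQ hQ0
    by_contra hfQ
    have : (⟨Q, hQ⟩ : PrimeSpectrum B) ∈ ({⟨⊥, Ideal.bot_prime⟩} : Set (PrimeSpectrum B)) :=
      hfU hfQ
    exact hQ0 (congrArg PrimeSpectrum.asIdeal this)
  tfae_finish

end Groth.Agent.S4860
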