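import Groth.Statements.S4861
import Mathlib
import Groth.Agent.Lib.helper2.ArtinTate

set_option autoImplicit false
universe u
open EGA43

namespace Groth.Agent.S4861

/-- For a Noetherian integral domain B the following are equivalent (and hence equivalent to: the
fraction field of B is a finitely generated B-algebra; the generic point of Spec B is open): a) the
localization B_f is a field for some nonzero f; e) Spec B is finite; f) B is semi-local (finitely
many maximal ideals) of Krull dimension at most 1. -/
theorem result (B : Type u) [CommRing B] [IsDomain B]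
    [IsNoetherianRing B] :
    [∃ f : B, f ≠ 0 ∧ IsField (Localization.Away f),
      Finite (PrimeSpectrum B),
      Finite (MaximalSpectrum B) ∧ ringKrullDim B ≤ 1].TFAE := by
  classical
  have hpow : ∀ f : B, f ≠ 0 → Submonoid.powers f ≤ nonZeroDivisors B := by
    intro f hf
    exact Submonoid.powers_le.mpr (mem_nonZeroDivisors_of_ne_zero hf)
  -- a common construction: product of chosen nonzero elements
  have hchoose : ∀ P : Ideal B, P ≠ ⊥ → ∃ b ∈ P, b ≠ 0 := fun P hP =>
    Submodule.exists_mem_ne_zero_of_ne_bot hP
  tfae_have 1 → 2 := by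
    rintro ⟨f, hf, hfield⟩
    have hmem : ∀ P : Ideal B, P.IsPrime → P ≠ ⊥ → f ∈ P := by
      intro P hP hP0
      by_contra hfP
      have hdisj : Disjoint (Submonoid.powers f : Set B) (P : Set B) := by
        rw [Set.disjoint_left]
        rintro x ⟨n, rfl⟩ hx
        exact hfP (hP.mem_of_pow_mem n hx)
      have hprime := IsLocalization.isPrime_of_isPrime_disjoint (Submonoid.powers f)
        (Localization.Away f) P hP hdisj
      have hunder := IsLocalization.under_map_of_isPrime_disjoint (Submonoid.powers f)
        (Localization.Away f) hP hdisj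
      letI := hfield.toField
      have hbot : Ideal.map (algebraMap B (Localization.Away f)) P = ⊥ :=
        (Ideal.eq_bot_or_top _).resolve_right hprime.ne_top
      rw [hbot, Ideal.under_def, Ideal.comap_bot_of_injective _
        (IsLocalization.injective _ (hpow f hf))] at hunder
      exact hP0 hunder.symm
    have hfin := Groth.Agent.H2.H2_finite_primes_of_forall_mem f hf hmem
    haveI : Finite {P : Ideal B | P.IsPrime} := hfin.to_subtype
    exact Finite.of_injective (fun p : PrimeSpectrum B => (⟨p.asIdeal, p.isPrime⟩ : {P : Ideal B | P.IsPrime}))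
      (fun p q h => PrimeSpectrum.ext (by simpa using congrArg Subtype.val h))
  tfae_have 2 → 3 := by
    intro hfin
    refine ⟨Finite.of_injective MaximalSpectrum.toPrimeSpectrum
      MaximalSpectrum.toPrimeSpectrum_injective, ?_⟩
    haveI := Fintype.ofFinite (PrimeSpectrum B)
    let g : PrimeSpectrum B → B := fun p =>
      if h : p.asIdeal = ⊥ then 1 else (hchoose p.asIdeal h).choose
    have hg0 : ∀ p, g p ≠ 0 := by
      intro p
      by_cases h : p.asIdeal = ⊥
      · simp [g, h]
      · simp only [g, h, dif_neg, not_false_eq_true]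
        exact (hchoose p.asIdeal h).choose_spec.2
    have hgmem : ∀ p : PrimeSpectrum B, p.asIdeal ≠ ⊥ → g p ∈ p.asIdeal := by
      intro p h
      simp only [g, h, dif_neg, not_false_eq_true]
      exact (hchoose p.asIdeal h).choose_spec.1
    let f : B := ∏ p, g p
    have hf : f ≠ 0 := Finset.prod_ne_zero_iff.mpr (fun p _ => hg0 p)
    have hmem : ∀ P : Ideal B, P.IsPrime → P ≠ ⊥ → f ∈ P := by
      intro P hP hP0
      obtain ⟨c, hc⟩ := Finset.dvd_prod_of_mem g (Finset.mem_univ (⟨P, hP⟩ : PrimeSpectrum B))
      change f = _ at hc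
      rw [hc]
      exact P.mul_mem_right _ (hgmem ⟨P, hP⟩ hP0)
    rw [ringKrullDim_le_iff_height_le]
    intro P hP
    by_cases hP0 : P = ⊥
    · subst hP0
      rw [Ideal.height_bot]; simp
    · have := Groth.Agent.H2.H2_mem_minimalPrimes_span_of_forall_mem f hf hmem P hP0
      have h1 := Ideal.height_le_one_of_isPrincipal_of_mem_minimalPrimes (Ideal.span {f}) P this
      exact_mod_cast h1
  tfae_have 3 → 1 := by
    rintro ⟨hfin, hdim⟩
    haveI := Fintype.ofFinite (MaximalSpectrum B)
    let g : MaximalSpectrum B → B := fun p =>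
      if h : p.asIdeal = ⊥ then 1 else (hchoose p.asIdeal h).choose
    have hg0 : ∀ p, g p ≠ 0 := by
      intro p
      by_cases h : p.asIdeal = ⊥
      · simp [g, h]
      · simp only [g, h, dif_neg, not_false_eq_true]
        exact (hchoose p.asIdeal h).choose_spec.2
    have hgmem : ∀ p : MaximalSpectrum B, p.asIdeal ≠ ⊥ → g p ∈ p.asIdeal := by
      intro p h
      simp only [g, h, dif_neg, not_false_eq_true]
      exact (hchoose p.asIdeal h).choose_spec.1
    let f : B := ∏ p, g p
    have hf : f ≠ 0 := Finset.prod_ne_zero_iff.mpr (fun p _ => hg0 p)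
    refine ⟨f, hf, ?_⟩
    haveI : IsDomain (Localization.Away f) :=
      IsLocalization.isDomain_of_le_nonZeroDivisors _ (hpow f hf)
    by_contra hnf
    obtain ⟨p', hp'0, hp'⟩ := Ring.not_isField_iff_exists_prime.mp hnf
    obtain ⟨hPprime, hdisj⟩ := (IsLocalization.isPrime_iff_isPrime_disjoint (Submonoid.powers f)
      (Localization.Away f) p').mp hp'
    set P := p'.under B with hPdef
    have hP0 : P ≠ ⊥ := (IsLocalization.bot_lt_under_prime (Submonoid.powers f) (Localization.Away f) (hpow f hf) p' hp'0).ne'
    obtain ⟨M, hM, hPM⟩ := Ideal.exists_le_maximal P hPprime.ne_top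
    haveI := hM.isPrime
    have hPM' : P = M := by
      by_contra hne
      have hlt : P < M := lt_of_le_of_ne hPM hne
      have h1 : 1 ≤ P.height := by
        rw [Order.one_le_iff_pos, pos_iff_ne_zero, Ne, Ideal.height_eq_zero_iff_eq_bot]
        exact hP0
      have h2 : P.height + 1 ≤ M.height := Ideal.height_add_one_le_of_lt_of_isPrime hlt
      have h3 : (M.height : WithBot ℕ∞) ≤ 1 := Ideal.height_le_ringKrullDim_of_isPrime.trans hdim
      have h4 : M.height ≤ 1 := by exact_mod_cast h3
      have h5 : (2 : ℕ∞) ≤ 1 := calc (2 : ℕ∞) = 1 + 1 := by norm_num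
        _ ≤ P.height + 1 := by gcongr
        _ ≤ M.height := h2
        _ ≤ 1 := h4
      exact absurd h5 (by norm_num)
    have hM0 : M ≠ ⊥ := hPM' ▸ hP0
    have hfM : f ∈ M := by
      obtain ⟨c, hc⟩ := Finset.dvd_prod_of_mem g (Finset.mem_univ (⟨M, hM⟩ : MaximalSpectrum B))
      change f = _ at hc
      rw [hc]
      exact M.mul_mem_right _ (hgmem ⟨M, hM⟩ hM0)
    rw [← hPM'] at hfM
    exact Set.disjoint_left.mp hdisj (Submonoid.mem_powers f) hfM
  tfae_finish

end Groth.Agent.S4861
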