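import Groth.Statements.S4862
import Mathlib
import Groth.Agent.Lib.helper2.AwayField

set_option autoImplicit false
universe u
open EGA43

namespace Groth.Agent.S4862

/-- For a commutative ring A the following are equivalent: a) A is a Jacobson ring; b) for every prime
ideal p of A which is not maximal and every nonzero f of B = A/p, the localization B_f is not a
field; b′) every finitely generated A-algebra which is a field is a finite A-module. -/
theorem result (A : Type u) [CommRing A] :
    [IsJacobsonRing A,
      ∀ (p : Ideal A) [p.IsPrime], ¬ p.IsMaximal → ∀ f : A ⧸ p, f ≠ 0 → ¬ IsField (Localization.Away f),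
      ∀ (K : Type u) [Field K] [Algebra A K], Algebra.FiniteType A K → Module.Finite A K].TFAE := by
  tfae_have 1 → 3 := by
    intro hJ K _ _ hft
    exact finite_of_finite_type_of_isJacobsonRing A K
  tfae_have 3 → 2 := by
    intro H p hp hpmax f hf hF
    let _ := hF.toField
    have h1 : Algebra.FiniteType A (A ⧸ p) :=
      Algebra.FiniteType.of_surjective (Algebra.ofId A (A ⧸ p)) Ideal.Quotient.mk_surjective
    have h2 : Algebra.FiniteType (A ⧸ p) (Localization.Away f) :=
      IsLocalization.finiteType_of_monoid_fg (Submonoid.powers f) _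
    have h3 : Algebra.FiniteType A (Localization.Away f) := Algebra.FiniteType.trans h1 h2
    have h4 : Module.Finite A (Localization.Away f) := H _ h3
    have h5 : Module.Finite (A ⧸ p) (Localization.Away f) := Module.Finite.of_restrictScalars_finite A _ _
    have h6 : Algebra.IsIntegral (A ⧸ p) (Localization.Away f) := inferInstance
    have h7 : IsField (A ⧸ p) :=
      isField_of_isIntegral_of_isField (Groth.Agent.H2.H2_away_injective f hf) hF
    exact hpmax (Ideal.Quotient.maximal_of_isField p h7)
  tfae_have 2 → 1 := by
    intro H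
    by_contra hJ
    rw [isJacobsonRing_iff_prime_eq] at hJ
    push_neg at hJ
    obtain ⟨P, hP, hPj⟩ := hJ
    obtain ⟨f, hfj, hfP⟩ : ∃ f, f ∈ P.jacobson ∧ f ∉ P := by
      by_contra hcon
      push_neg at hcon
      exact hPj (le_antisymm hcon Ideal.le_jacobson)
    have hdisj : Disjoint (P : Set A) (Submonoid.powers f) := by
      rw [Set.disjoint_right]
      rintro _ ⟨n, rfl⟩ hn
      exact hfP (hP.mem_of_pow_mem n hn)
    obtain ⟨p, hp, hPp, hpdisj, hpmax⟩ :=
      Groth.Agent.H2.H2_exists_maximally_disjoint_prime P (Submonoid.powers f) hdisj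
    have hfp : f ∉ p := fun h => Set.disjoint_left.mp hpdisj h (Submonoid.mem_powers f)
    have hnotmax : ¬ p.IsMaximal := by
      intro hm
      apply hfp
      have : P.jacobson ≤ p := sInf_le ⟨hPp, hm⟩
      exact this hfj
    let mk := Ideal.Quotient.mk p
    have hmk : Function.Surjective mk := Ideal.Quotient.mk_surjective
    have hg0 : mk f ≠ 0 := fun h0 => hfp (Ideal.Quotient.eq_zero_iff_mem.mp h0)
    refine H p hnotmax (mk f) hg0 (Groth.Agent.H2.H2_isField_away_of_forall_mem (mk f) hg0 ?_)
    intro Q hQ hQ0
    have hpQ : p ≤ Q.comap mk := by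
      intro a ha
      change mk a ∈ Q
      rw [Ideal.Quotient.eq_zero_iff_mem.mpr ha]; exact zero_mem _
    have hne' : Q.comap mk ≠ p := by
      intro heq
      apply hQ0
      rw [← Ideal.map_comap_of_surjective mk hmk Q, heq]
      exact Ideal.map_quotient_self _
    have hnd := hpmax (Q.comap mk) (lt_of_le_of_ne hpQ (Ne.symm hne'))
    rw [Set.not_disjoint_iff] at hnd
    obtain ⟨_, hxQ, ⟨n, rfl⟩⟩ := hnd
    have hQprime : (Q.comap mk).IsPrime := inferInstance
    exact hQprime.mem_of_pow_mem n hxQ
  tfae_finish

end Groth.Agent.S4862
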