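import Groth.Statements.S4873
import Mathlib

set_option autoImplicit false
universe u
open CategoryTheory AlgebraicGeometry
open EGA43

namespace Groth.Agent.S4873

/-- Let (f_i : Z_i ⟶ X) be a family of morphisms. If the family is schematically dominant, i.e. a
section of O_X over an open V whose pullback to every f_i⁻¹(V) vanishes is zero, then the union of
the images f_i(Z_i) is dense in X. Conversely, if X is reduced and this union is dense, the family
is schematically dominant. -/
theorem result {X : Scheme.{u}} {ι : Type u} (Z : ι → Scheme.{u})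
    (f : ∀ i, Z i ⟶ X) :
    ((∀ (V : (X).Opens) (t : Γ(X, V)), (∀ i, (f i).app V t = 0) → t = 0) → Dense (⋃ i, Set.range (f i))) ∧
    (IsReduced X → Dense (⋃ i, Set.range (f i)) → (∀ (V : (X).Opens) (t : Γ(X, V)), (∀ i, (f i).app V t = 0) → t = 0)) := by
  constructor
  · intro h
    rw [dense_iff_closure_eq]
    by_contra hne
    let W : X.Opens := ⟨(closure (⋃ i, Set.range (f i)))ᶜ, isClosed_closure.isOpen_compl⟩
    have hW : ∀ i, (f i) ⁻¹ᵁ W = ⊥ := by
      intro i
      ext z
      simp only [Scheme.Hom.coe_preimage, Set.mem_preimage, SetLike.mem_coe,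
        TopologicalSpace.Opens.coe_bot, Set.mem_empty_iff_false, iff_false]
      intro hz
      exact hz (subset_closure (Set.mem_iUnion.mpr ⟨i, ⟨z, rfl⟩⟩))
    have h1 : (1 : Γ(X, W)) = 0 := by
      apply h W 1
      intro i
      have : Subsingleton Γ(Z i, (f i) ⁻¹ᵁ W) := by
        rw [hW i]; infer_instance
      exact Subsingleton.elim _ _
    have h2 : X.basicOpen (1 : Γ(X, W)) = W := X.basicOpen_of_isUnit isUnit_one
    rw [h1, Scheme.basicOpen_zero] at h2
    apply hne
    have : (W : Set X) = ∅ := by rw [← h2]; rfl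
    have h3 : (closure (⋃ i, Set.range (f i)))ᶜ = ∅ := this
    rwa [Set.compl_empty_iff] at h3
  · intro hred hdense V t ht
    rw [← basicOpen_eq_bot_iff]
    by_contra hne
    have hne' : (X.basicOpen t : Set X).Nonempty := by
      rw [Set.nonempty_iff_ne_empty]
      intro h0
      apply hne
      ext x
      simp only [TopologicalSpace.Opens.coe_bot, ← h0]
    obtain ⟨x, hx1, hx2⟩ := hdense.inter_open_nonempty _ (X.basicOpen t).2 hne'
    obtain ⟨i, z, rfl⟩ := Set.mem_iUnion.mp hx2
    have hz : z ∈ (f i) ⁻¹ᵁ X.basicOpen t := hx1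
    rw [Scheme.preimage_basicOpen] at hz
    have h0 : (f i).app V t = 0 := ht i
    change z ∈ (Z i).basicOpen ((f i).app V t) at hz
    rw [h0, Scheme.basicOpen_zero] at hz
    exact hz

end Groth.Agent.S4873
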