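import Groth.Statements.S4874
import Mathlib
import Groth.Agent.Lib.helper2.FlatKer

set_option autoImplicit false
universe u
open CategoryTheory AlgebraicGeometry
open EGA43

namespace Groth.Agent.S4874

/-- Let (f_i : Z_i ⟶ X) be a family of morphisms, g : X' ⟶ X a faithfully flat morphism and f'_i : Z_i
×_X X' ⟶ X' the base changes. If the family (f'_i) is schematically dominant, then so is the family
(f_i). (Schematically dominant: a section of the structure sheaf over an open whose pullback along
every member of the family vanishes is zero.) -/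
theorem result {X X' : Scheme.{u}} {ι : Type u} (Z : ι → Scheme.{u})
    (f : ∀ i, Z i ⟶ X) (g : X' ⟶ X) [Flat g] [Surjective g]
    (h : (∀ (V : (X').Opens) (t : Γ(X', V)), (∀ i, (Limits.pullback.snd (f i) g).app V t = 0) → t = 0)) :
    (∀ (V : (X).Opens) (t : Γ(X, V)), (∀ i, (f i).app V t = 0) → t = 0) := by
  intro V t ht
  apply Groth.Agent.H2.H2_app_injective_of_flat_surjective g V
  rw [map_zero]
  apply h (g ⁻¹ᵁ V) ((g.app V).hom t)
  intro i
  have e1 : (Limits.pullback.snd (f i) g).app (g ⁻¹ᵁ V) ((g.app V).hom t) =
      ((Limits.pullback.snd (f i) g ≫ g).app V).hom t := by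
    rw [Scheme.Hom.comp_app]; rfl
  have e2 := Scheme.Hom.congr_app (Limits.pullback.condition (f := f i) (g := g)).symm V
  have e3 : ((Limits.pullback.fst (f i) g ≫ f i).app V).hom t = 0 := by
    rw [Scheme.Hom.comp_app]
    change ((Limits.pullback.fst (f i) g).app _).hom (((f i).app V).hom t) = 0
    have : (CommRingCat.Hom.hom ((f i).app V)) t = 0 := ht i
    rw [this, map_zero]
  rw [e1, e2]
  change (CommRingCat.Hom.hom _) ((CommRingCat.Hom.hom ((Limits.pullback.fst (f i) g ≫ f i).app V)) t) = 0
  rw [e3]
  exact map_zero _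

end Groth.Agent.S4874
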