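import Groth.Statements.S4880
import Mathlib
import Groth.Agent.Lib.helper2.LocClosedPt

set_option autoImplicit false
universe u
open CategoryTheory AlgebraicGeometry
open EGA43

namespace Groth.Agent.S4880

/-- For a Noetherian irreducible scheme X the following are equivalent: a) the generic point of X is an
isolated point; b) the underlying set of X is finite; c) X has dimension at most 1 and finitely many
closed points. -/
theorem result (X : Scheme.{u}) [IsNoetherian X]
    [IrreducibleSpace X] :
    [IsOpen ({genericPoint X} : Set X),
      Finite X,
      topologicalKrullDim X ≤ 1 ∧ {x : X | IsClosed ({x} : Set X)}.Finite].TFAE := by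
  have hgen : closure ({genericPoint X} : Set X) = Set.univ := (genericPoint_spec X).def
  have hspec : ∀ s : X, genericPoint X ⤳ s := fun s =>
    specializes_iff_mem_closure.mpr (hgen ▸ Set.mem_univ s)
  let P : Preorder X := (specializationOrder X).toPreorder
  have hiso := @Order.krullDim_eq_of_orderIso _ X _ P (irreducibleSetEquivPoints (α := X))
  -- dimension ≤ 1 iff all non-generic points closed
  have hdim_iff : topologicalKrullDim X ≤ 1 ↔ ∀ y : X, y ≠ genericPoint X → IsClosed ({y} : Set X) := by
    rw [topologicalKrullDim, hiso, @Order.krullDim_le_one_iff _ P]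
    constructor
    · intro h y hy
      rcases h y with hmin | hmax
      · rw [← closure_subset_iff_isClosed]
        intro s hs
        have h1 : y ⤳ s := specializes_iff_mem_closure.mpr hs
        have h2 : s ⤳ y := hmin (b := s) h1
        exact (h2.antisymm h1).eq
      · exfalso
        have h2 : y ⤳ genericPoint X := hmax (b := genericPoint X) (hspec y)
        exact hy ((h2.antisymm (hspec y)).eq)
    · intro h t
      by_cases ht : t = genericPoint X
      · right
        intro s _
        change t ⤳ s
        rw [ht]; exact hspec s
      · left
        intro s hs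
        have hs' : t ⤳ s := hs
        have h1 : s ∈ closure ({t} : Set X) := hs'.mem_closure
        rw [(h t ht).closure_eq] at h1
        have h2 : s = t := h1
        rw [h2]
  tfae_have 1 → 2 := by
    intro h
    have := Groth.Agent.H2.H2_finite_closure_of_isLocallyClosed_singleton X (genericPoint X)
      h.isLocallyClosed
    rw [hgen] at this
    exact Set.finite_univ_iff.mp this
  tfae_have 2 → 1 := by
    intro h
    have hc : IsClosed (⋃ y ∈ {y : X | y ≠ genericPoint X}, closure ({y} : Set X)) :=
      (Set.toFinite _).isClosed_biUnion fun y _ => isClosed_closure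
    have heq : ({genericPoint X} : Set X) =
        (⋃ y ∈ {y : X | y ≠ genericPoint X}, closure ({y} : Set X))ᶜ := by
      ext w
      simp only [Set.mem_singleton_iff, Set.mem_compl_iff, Set.mem_iUnion, Set.mem_setOf_eq,
        not_exists]
      constructor
      · rintro rfl y hy hmem
        have h1 : y ⤳ genericPoint X := specializes_iff_mem_closure.mpr hmem
        exact hy ((h1.antisymm (hspec y)).eq)
      · intro hw
        by_contra hne
        exact hw w hne (subset_closure rfl)
    rw [heq]
    exact hc.isOpen_compl
  tfae_have 1 → 3 := by
    intro h
    have hfin : Finite X := tfae_1_to_2 h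
    refine ⟨hdim_iff.mpr fun y hy => ?_, Set.toFinite _⟩
    exact Groth.Agent.H2.H2_isClosed_singleton_of_mem_closure_of_isLocallyClosed X (genericPoint X)
      h.isLocallyClosed y (hgen ▸ Set.mem_univ y) hy
  tfae_have 3 → 1 := by
    rintro ⟨hdim, hfin⟩
    have hcl := hdim_iff.mp hdim
    have hc : IsClosed ({genericPoint X}ᶜ : Set X) := by
      have hsub : ({genericPoint X}ᶜ : Set X) ⊆ {x : X | IsClosed ({x} : Set X)} :=
        fun y hy => hcl y hy
      have : ({genericPoint X}ᶜ : Set X) = ⋃ y ∈ ({genericPoint X}ᶜ : Set X), {y} := by
        ext w; simp
      rw [this]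
      exact (hfin.subset hsub).isClosed_biUnion fun y hy => hcl y hy
    simpa using hc.isOpen_compl
  tfae_finish

end Groth.Agent.S4880
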