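import Groth.Statements.S4882
import Mathlib

set_option autoImplicit false
universe u
open EGA43

namespace Groth.Agent.S4882

/-- Let X be a Jacobson space and Z a locally quasi-constructible subset of X, i.e. every point of X has
an open neighbourhood U such that U ∩ Z is a finite union of locally closed subsets of X. Then the
subspace Z is a Jacobson space, and a point of Z is closed in Z if and only if it is closed in X. -/
theorem result {X : Type u} [TopologicalSpace X] [JacobsonSpace X]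
    (Z : Set X)
    (hZ : ∀ x : X, ∃ U : Set X, IsOpen U ∧ x ∈ U ∧
      ∃ T : Set (Set X), T.Finite ∧ (∀ t ∈ T, IsLocallyClosed t) ∧ U ∩ Z = ⋃₀ T) :
    JacobsonSpace ↥Z ∧ ∀ z : ↥Z, IsClosed ({z} : Set ↥Z) ↔ IsClosed ({(z : X)} : Set X) := by
  -- helper: each point of Z lies in a locally closed subset of X contained in Z
  have piece : ∀ z ∈ Z, ∃ t : Set X, IsLocallyClosed t ∧ z ∈ t ∧ t ⊆ Z := by
    intro z hz
    obtain ⟨U, hU, hzU, T, -, hT, hUT⟩ := hZ z
    have : z ∈ ⋃₀ T := hUT ▸ ⟨hzU, hz⟩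
    obtain ⟨t, htT, hzt⟩ := this
    exact ⟨t, hT t htT, hzt,
      fun w hw => (hUT ▸ Set.mem_sUnion.mpr ⟨t, htT, hw⟩ : w ∈ U ∩ Z).2⟩
  have hclosed : ∀ z : ↥Z, IsClosed ({(z : X)} : Set X) → IsClosed ({z} : Set ↥Z) := by
    intro z hz
    have := hz.preimage (continuous_subtype_val (p := fun x => x ∈ Z))
    convert this using 1
    ext w
    simp [Subtype.ext_iff]
  constructor
  · rw [jacobsonSpace_iff_locallyClosed]
    intro S hS hSlc
    obtain ⟨S', hS', rfl⟩ := Topology.IsInducing.subtypeVal.isLocallyClosed_iff.mp hSlc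
    obtain ⟨⟨s, hsZ⟩, hsS⟩ := hS
    obtain ⟨t, ht, hst, htZ⟩ := piece s hsZ
    have hne : (t ∩ S').Nonempty := ⟨s, hst, hsS⟩
    obtain ⟨x, ⟨hxt, hxS'⟩, hxcl⟩ := nonempty_inter_closedPoints hne (ht.inter hS')
    exact ⟨⟨x, htZ hxt⟩, hxS', hclosed ⟨x, htZ hxt⟩ hxcl⟩
  · intro z
    refine ⟨fun hz => ?_, hclosed z⟩
    obtain ⟨C, hC, hCz⟩ := isClosed_induced_iff.mp hz
    obtain ⟨t, ht, hzt, htZ⟩ := piece z.1 z.2
    have hzC : z.1 ∈ C := by
      have : z ∈ Subtype.val ⁻¹' C := hCz ▸ Set.mem_singleton z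
      exact this
    have heq : t ∩ C = {z.1} := by
      apply subset_antisymm
      · rintro w ⟨hwt, hwC⟩
        have : (⟨w, htZ hwt⟩ : ↥Z) ∈ Subtype.val ⁻¹' C := hwC
        rw [hCz] at this
        exact congrArg Subtype.val this
      · rintro _ rfl
        exact ⟨hzt, hzC⟩
    apply isClosed_singleton_of_isLocallyClosed_singleton
    rw [← heq]
    exact ht.inter hC.isLocallyClosed

end Groth.Agent.S4882
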