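import Groth.Statements.S4883
import Mathlib
import Groth.Agent.Lib.helper2.LocClosedPt

set_option autoImplicit false
universe u
open CategoryTheory AlgebraicGeometry
open EGA43

namespace Groth.Agent.S4883

/-- Let X be a Noetherian scheme. Then the set of points x of X whose closure is finite is very dense in
X: every nonempty locally closed subset of X contains a point with finite closure. -/
theorem result (X : Scheme.{u}) [IsNoetherian X]
    (Z : Set X) (hZ : IsLocallyClosed Z) (hne : Z.Nonempty) :
    ∃ x ∈ Z, (closure ({x} : Set X)).Finite := by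
  obtain ⟨U, C, hU, hC, rfl⟩ := hZ
  obtain ⟨z, hzU, hzC⟩ := hne
  obtain ⟨x₁, hx₁U, hspec, hlc⟩ :=
    Groth.Agent.H2.H2_exists_specializes_isLocallyClosed_singleton X z U hU hzU
  refine ⟨x₁, ⟨hx₁U, ?_⟩, Groth.Agent.H2.H2_finite_closure_of_isLocallyClosed_singleton X x₁ hlc⟩
  exact hC.closure_subset_iff.mpr (Set.singleton_subset_iff.mpr hzC) hspec.mem_closure

end Groth.Agent.S4883
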