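import Groth.Statements.S4890
import Mathlib
import Groth.Agent.Lib.helper2.QuasiHomeo

set_option autoImplicit false
universe u
open EGA43

namespace Groth.Agent.S4890

/-- Let f : X → Y be a quasi-homeomorphism (U ↦ f⁻¹(U) is a bijection on open subsets) and Y' a locally
quasi-constructible subset of Y, i.e. every point of Y has an open neighbourhood whose trace on Y'
is a finite union of locally closed subsets; put X' = f⁻¹(Y'). Then Y' is quasi-compact if and only
if X' is, and Y' is a Noetherian space if and only if X' is. -/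
theorem result {X Y : Type u} [TopologicalSpace X]
    [TopologicalSpace Y] (f : X → Y) (hf : Continuous f)
    (hq : Function.Bijective (fun U : TopologicalSpace.Opens Y =>
      (⟨f ⁻¹' (U : Set Y), U.isOpen.preimage hf⟩ : TopologicalSpace.Opens X)))
    (Y' : Set Y)
    (hY' : ∀ y : Y, ∃ U : Set Y, IsOpen U ∧ y ∈ U ∧
      ∃ T : Set (Set Y), T.Finite ∧ (∀ t ∈ T, IsLocallyClosed t) ∧ U ∩ Y' = ⋃₀ T) :
    (IsCompact Y' ↔ IsCompact (f ⁻¹' Y')) ∧
      (TopologicalSpace.NoetherianSpace ↥Y' ↔ TopologicalSpace.NoetherianSpace ↥(f ⁻¹' Y')) := by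
  have h : Groth.Agent.H2.H2QH f := Groth.Agent.H2.H2QH.of_bijective f hf hq
  have hL : Groth.Agent.H2.H2LQC Y' := hY'
  have noeth : ∀ {α : Type u} [TopologicalSpace α] (Z : Set α),
      TopologicalSpace.NoetherianSpace ↥Z ↔ ∀ U : Set α, IsOpen U → IsCompact (Z ∩ U) := by
    intro α _ Z
    rw [TopologicalSpace.noetherianSpace_iff_opens]
    constructor
    · intro H U hU
      have := H ⟨Subtype.val ⁻¹' U, hU.preimage continuous_subtype_val⟩
      rw [Subtype.isCompact_iff] at this
      simpa [Subtype.image_preimage_coe] using this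
    · intro H s
      obtain ⟨U, hU, hs⟩ := isOpen_induced_iff.mp s.2
      rw [Subtype.isCompact_iff]
      have := H U hU
      rw [← TopologicalSpace.Opens.carrier_eq_coe, ← hs, Subtype.image_preimage_coe]
      exact this
  constructor
  · have := h.isCompact_iff hL isOpen_univ
    simpa using this
  · rw [noeth Y', noeth (f ⁻¹' Y')]
    constructor
    · intro H V hV
      obtain ⟨U, hU, rfl⟩ := h.surj V hV
      rw [← Set.preimage_inter]
      exact (h.isCompact_iff hL hU).mp (H U hU)
    · intro H U hU
      apply (h.isCompact_iff hL hU).mpr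
      rw [Set.preimage_inter]
      exact H _ (hU.preimage hf)

end Groth.Agent.S4890
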