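import Groth.Statements.S4893
import Mathlib
import Groth.Agent.Lib.helper2.QuasiHomeo

set_option autoImplicit false
universe u
open EGA43

namespace Groth.Agent.S4893

/-- Let f : X → Y be a quasi-homeomorphism (continuous, with U ↦ f⁻¹(U) a bijection from the open
subsets of Y onto the open subsets of X) and Y' a locally quasi-constructible subset of Y. Then the
restriction f⁻¹(Y') → Y' of f is a quasi-homeomorphism. -/
theorem result {X Y : Type u} [TopologicalSpace X]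
    [TopologicalSpace Y] (f : X → Y) (hf : Continuous f)
    (hq : ((∀ U₁ U₂ : Set Y, IsOpen U₁ → IsOpen U₂ → (f) ⁻¹' U₁ = (f) ⁻¹' U₂ → U₁ = U₂) ∧ (∀ V : Set X, IsOpen V → ∃ U : Set Y, IsOpen U ∧ (f) ⁻¹' U = V)))
    (Y' : Set Y) (hY' : (∀ y : Y, ∃ U : Set Y, IsOpen U ∧ y ∈ U ∧ ∃ T : Set (Set Y), T.Finite ∧ (∀ t ∈ T, IsLocallyClosed t) ∧ U ∩ Y' = ⋃₀ T)) :
    ((∀ U₁ U₂ : Set ↥Y', IsOpen U₁ → IsOpen U₂ → (Y'.restrictPreimage f) ⁻¹' U₁ = (Y'.restrictPreimage f) ⁻¹' U₂ → U₁ = U₂) ∧ (∀ V : Set ↥(f ⁻¹' Y'), IsOpen V → ∃ U : Set ↥Y', IsOpen U ∧ (Y'.restrictPreimage f) ⁻¹' U = V)) := by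
  have h : Groth.Agent.H2.H2QH f := ⟨hf, hq.1, hq.2⟩
  have hL : Groth.Agent.H2.H2LQC Y' := hY'
  constructor
  · intro U₁' U₂' h₁ h₂ e
    obtain ⟨U₁, hU₁, rfl⟩ := isOpen_induced_iff.mp h₁
    obtain ⟨U₂, hU₂, rfl⟩ := isOpen_induced_iff.mp h₂
    have key : ∀ (A B : Set Y), IsOpen A → IsOpen B →
        (Y'.restrictPreimage f) ⁻¹' (Subtype.val ⁻¹' A) ⊆
          (Y'.restrictPreimage f) ⁻¹' (Subtype.val ⁻¹' B) → Y' ∩ A ⊆ B := by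
      intro A B hA hB hAB
      apply h.subset_of_lqc hL hA hB
      rintro x ⟨hx1, hx2⟩
      exact hAB (a := ⟨x, hx1⟩) hx2
    have h12 := key U₁ U₂ hU₁ hU₂ e.le
    have h21 := key U₂ U₁ hU₂ hU₁ e.ge
    ext ⟨y, hy⟩
    exact ⟨fun hy1 => h12 ⟨hy, hy1⟩, fun hy2 => h21 ⟨hy, hy2⟩⟩
  · intro V' hV'
    obtain ⟨V, hV, rfl⟩ := isOpen_induced_iff.mp hV'
    obtain ⟨U, hU, rfl⟩ := h.surj V hV
    exact ⟨Subtype.val ⁻¹' U, hU.preimage continuous_subtype_val, rfl⟩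

end Groth.Agent.S4893
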