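import Groth.Statements.S4894
import Mathlib

set_option autoImplicit false
universe u
open EGA43

namespace Groth.Agent.S4894

/-- Let f : X → Y be continuous and (W_i) an open covering of Y such that every restriction f⁻¹(W_i) →
W_i is a quasi-homeomorphism (taking preimages is a bijection on open subsets). Then f is a
quasi-homeomorphism. -/
theorem result {X Y : Type u} [TopologicalSpace X]
    [TopologicalSpace Y] (f : X → Y) (hf : Continuous f) {ι : Type u} (W : ι → Set Y)
    (hWo : ∀ i, IsOpen (W i)) (hWc : ⋃ i, W i = Set.univ)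
    (h : ∀ i, ((∀ U₁ U₂ : Set ↥(W i), IsOpen U₁ → IsOpen U₂ → ((W i).restrictPreimage f) ⁻¹' U₁ = ((W i).restrictPreimage f) ⁻¹' U₂ → U₁ = U₂) ∧ (∀ V : Set ↥(f ⁻¹' W i), IsOpen V → ∃ U : Set ↥(W i), IsOpen U ∧ ((W i).restrictPreimage f) ⁻¹' U = V))) :
    ((∀ U₁ U₂ : Set Y, IsOpen U₁ → IsOpen U₂ → (f) ⁻¹' U₁ = (f) ⁻¹' U₂ → U₁ = U₂) ∧ (∀ V : Set X, IsOpen V → ∃ U : Set Y, IsOpen U ∧ (f) ⁻¹' U = V)) := by
  have hcov : ∀ y : Y, ∃ i, y ∈ W i := by
    intro y
    have : y ∈ ⋃ i, W i := by rw [hWc]; trivial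
    exact Set.mem_iUnion.mp this
  constructor
  · intro U₁ U₂ hU₁ hU₂ hU
    ext y
    obtain ⟨i, hi⟩ := hcov y
    have h1 := (h i).1 (Subtype.val ⁻¹' U₁) (Subtype.val ⁻¹' U₂)
      (hU₁.preimage continuous_subtype_val) (hU₂.preimage continuous_subtype_val) (by
        ext x
        have := Set.ext_iff.mp hU x.1
        simpa [Set.restrictPreimage] using this)
    have := Set.ext_iff.mp h1 ⟨y, hi⟩
    simpa using this
  · intro V hV
    choose U hUo hU using fun i => (h i).2 (Subtype.val ⁻¹' V) (hV.preimage continuous_subtype_val)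
    refine ⟨⋃ i, Subtype.val '' (U i), ?_, ?_⟩
    · apply isOpen_iUnion
      intro i
      exact (hWo i).isOpenMap_subtype_val _ (hUo i)
    · ext x
      simp only [Set.mem_preimage, Set.mem_iUnion, Set.mem_image, Subtype.exists, exists_and_right,
        exists_eq_right]
      constructor
      · rintro ⟨i, hi, hxi⟩
        have := Set.ext_iff.mp (hU i) ⟨x, hi⟩
        simp only [Set.mem_preimage, Set.restrictPreimage] at this
        exact this.mp hxi
      · intro hx
        obtain ⟨i, hi⟩ := hcov (f x)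
        refine ⟨i, hi, ?_⟩
        have := Set.ext_iff.mp (hU i) ⟨x, hi⟩
        simp only [Set.mem_preimage, Set.restrictPreimage] at this
        exact this.mpr hx

end Groth.Agent.S4894
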