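import Groth.Statements.S4914
import Mathlib

set_option autoImplicit false
open CategoryTheory AlgebraicGeometry
universe u v w
open EGA43

namespace Groth.Agent.S4914

/-- Let ψ : X → Y be a continuous map, x a point of X, and (Y_i) a locally finite covering of Y by
closed subsets. If for every index i with ψ x ∈ Y_i the restriction ψ⁻¹(Y_i) → Y_i of ψ is open at
x, then ψ is open at x. -/
theorem result {α : Type u} {β : Type v} {ι : Type w} [TopologicalSpace α]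
    [TopologicalSpace β] (ψ : α → β) (hψ : Continuous ψ) (x : α) (Y : ι → Set β) (hY : LocallyFinite Y)
    (hcl : ∀ i, IsClosed (Y i)) (hcov : ⋃ i, Y i = Set.univ)
    (h : ∀ i, ∀ hi : ψ x ∈ Y i, EGA43.IsOpenAt ((Y i).restrictPreimage ψ) ⟨x, hi⟩) :
    EGA43.IsOpenAt ψ x := by
  classical
  intro U hU
  obtain ⟨V, hV, hfin⟩ := hY (ψ x)
  have key : ∀ i, ∃ N ∈ nhds (ψ x), N ∩ Y i ⊆ ψ '' U := by
    intro i
    by_cases hi : ψ x ∈ Y i
    · have h0 : (Subtype.val ⁻¹' U : Set ↥(ψ ⁻¹' Y i)) ∈ nhds (⟨x, hi⟩ : ↥(ψ ⁻¹' Y i)) :=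
        continuous_subtype_val.continuousAt (x := (⟨x, hi⟩ : ↥(ψ ⁻¹' Y i))) hU
      have h1 := h i hi _ h0
      rw [mem_nhds_subtype] at h1
      obtain ⟨N, hN, hsub⟩ := h1
      refine ⟨N, hN, ?_⟩
      rintro z ⟨hzN, hzY⟩
      obtain ⟨u, hu, huz⟩ := hsub (show (⟨z, hzY⟩ : ↥(Y i)) ∈ Subtype.val ⁻¹' N from hzN)
      exact ⟨u.1, hu, congrArg Subtype.val huz⟩
    · exact ⟨(Y i)ᶜ, (hcl i).isOpen_compl.mem_nhds hi, by
        rintro z ⟨h1, h2⟩; exact absurd h2 h1⟩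
  choose N hN hNsub using key
  have hmem : V ∩ ⋂ i ∈ hfin.toFinset, N i ∈ nhds (ψ x) :=
    Filter.inter_mem hV ((Filter.biInter_finset_mem hfin.toFinset).2 fun i _ => hN i)
  refine Filter.mem_of_superset hmem ?_
  rintro z ⟨hzV, hzN⟩
  have hz : z ∈ ⋃ i, Y i := by rw [hcov]; trivial
  obtain ⟨i, hzi⟩ := Set.mem_iUnion.1 hz
  have hiF : i ∈ hfin.toFinset := hfin.mem_toFinset.2 ⟨z, hzi, hzV⟩
  exact hNsub i ⟨Set.mem_iInter₂.1 hzN i hiF, hzi⟩

end Groth.Agent.S4914
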