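import Groth.Statements.S4925
import Mathlib
import Groth.Agent.Lib.helper4.UnivOpen

set_option autoImplicit false
open CategoryTheory AlgebraicGeometry
universe u v w
open EGA43

namespace Groth.Agent.S4925

/-- Let f : X ⟶ Y and g : Y ⟶ Z be morphisms of schemes and x a point of X. If f is universally open at
x and g is universally open at f x, then f ≫ g is universally open at x. -/
theorem result {X Y Z : Scheme.{u}} (f : X ⟶ Y) (g : Y ⟶ Z) (x : X)
    (hf : EGA43.IsUnivOpenAt f x) (hg : EGA43.IsUnivOpenAt g (f.base x)) :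
    EGA43.IsUnivOpenAt (f ≫ g) x := by
  intro Z' k z hz
  let f' : Limits.pullback (f ≫ g) k ⟶ Limits.pullback g k :=
    Limits.pullback.lift (Limits.pullback.fst (f ≫ g) k ≫ f) (Limits.pullback.snd (f ≫ g) k)
      (by rw [Category.assoc]; exact Limits.pullback.condition)
  have hf'1 : f' ≫ Limits.pullback.fst g k = Limits.pullback.fst (f ≫ g) k ≫ f :=
    Limits.pullback.lift_fst _ _ _
  have hf'2 : f' ≫ Limits.pullback.snd g k = Limits.pullback.snd (f ≫ g) k :=
    Limits.pullback.lift_snd _ _ _
  have hbig : IsPullback (Limits.pullback.fst (f ≫ g) k) (f' ≫ Limits.pullback.snd g k)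
      (f ≫ g) k := by
    rw [hf'2]; exact IsPullback.of_hasPullback _ _
  have hsq : IsPullback (Limits.pullback.fst (f ≫ g) k) f' f (Limits.pullback.fst g k) :=
    IsPullback.of_bot hbig hf'1.symm (IsPullback.of_hasPullback g k)
  have h1 : EGA43.IsOpenAt f'.base z :=
    Groth.Agent.H4.H4_univOpenAt_isPullback hf _ _ _ hsq z hz
  have h2 : EGA43.IsOpenAt (Limits.pullback.snd g k).base (f'.base z) := by
    apply hg
    have h5 : (f' ≫ Limits.pullback.fst g k).base z =
        (Limits.pullback.fst (f ≫ g) k ≫ f).base z := by rw [hf'1]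
    have h6 : (Limits.pullback.fst (f ≫ g) k ≫ f).base z = f.base x := by
      rw [← hz]; rfl
    rw [← h6, ← h5]; rfl
  have h3 := Groth.Agent.H4.H4_isOpenAt_comp _ _ z h1 h2
  have h4 : (Limits.pullback.snd (f ≫ g) k).base = (Limits.pullback.snd g k).base ∘ f'.base := by
    rw [← hf'2]; rfl
  rw [h4]; exact h3

end Groth.Agent.S4925
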