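import Groth.Statements.S4926
import Mathlib
import Groth.Agent.Lib.helper4.UnivOpen

set_option autoImplicit false
open CategoryTheory AlgebraicGeometry
universe u v w
open EGA43

namespace Groth.Agent.S4926

/-- Let f : X ⟶ Y and g : Y ⟶ Z be morphisms of schemes and x a point of X. If f ≫ g is universally open
at x, then g is universally open at the point f x. -/
theorem result {X Y Z : Scheme.{u}} (f : X ⟶ Y) (g : Y ⟶ Z) (x : X)
    (h : EGA43.IsUnivOpenAt (f ≫ g) x) : EGA43.IsUnivOpenAt g (f.base x) := by
  intro Z' k y' hy'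
  have hP : IsPullback (Limits.pullback.fst f (Limits.pullback.fst g k))
      (Limits.pullback.snd f (Limits.pullback.fst g k) ≫ Limits.pullback.snd g k) (f ≫ g) k :=
    (IsPullback.of_hasPullback f (Limits.pullback.fst g k)).paste_vert (IsPullback.of_hasPullback g k)
  obtain ⟨x', hx'1, hx'2⟩ := AlgebraicGeometry.Scheme.Pullback.exists_preimage_pullback
    (f := f) (g := Limits.pullback.fst g k) x y' hy'.symm
  have h1 := Groth.Agent.H4.H4_univOpenAt_isPullback h _ _ _ hP x' hx'1
  have h2 : (Limits.pullback.snd f (Limits.pullback.fst g k) ≫ Limits.pullback.snd g k).base =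
      (Limits.pullback.snd g k).base ∘ (Limits.pullback.snd f (Limits.pullback.fst g k)).base := rfl
  rw [h2] at h1
  have h3 := Groth.Agent.H4.H4_isOpenAt_of_comp _
    (Limits.pullback.snd f (Limits.pullback.fst g k)).continuous _ x' h1
  rwa [hx'2] at h3

end Groth.Agent.S4926
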