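import Groth.Statements.S4929
import Mathlib
import Groth.Agent.Lib.helper4.UnivOpen2
import Groth.Agent.S4914

set_option autoImplicit false
open CategoryTheory AlgebraicGeometry
universe u v w
open EGA43

namespace Groth.Agent.S4929

open CategoryTheory.Limits in
/-- Let f : X ⟶ Y be a morphism of schemes, x a point of X, and (Y_i ⟶ Y) a finite family of closed
immersions whose images cover Y. If for every i the base change X ×_Y Y_i ⟶ Y_i is universally open
at every point lying over x, then f is universally open at x. -/
theorem result {X Y : Scheme.{u}} (f : X ⟶ Y) (x : X) {ι : Type w}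
    [Finite ι] (T : ι → Scheme.{u}) (g : ∀ i, T i ⟶ Y) [∀ i, IsClosedImmersion (g i)]
    (hcov : ⋃ i, Set.range (g i).base = Set.univ)
    (h : ∀ i, ∀ x' : ↥(pullback f (g i)), (pullback.fst f (g i)).base x' = x →
      EGA43.IsUnivOpenAt (pullback.snd f (g i)) x') :
    EGA43.IsUnivOpenAt f x := by
  intro Z' k z hz
  have hcl : ∀ i, IsClosed (Set.range (Limits.pullback.snd (g i) k).base) := fun i => by
    haveI : IsClosedImmersion (Limits.pullback.snd (g i) k) := inferInstance
    exact (Limits.pullback.snd (g i) k).isClosedEmbedding.isClosed_range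
  have hrange : ∀ i, Set.range (Limits.pullback.snd (g i) k).base =
      k.base ⁻¹' Set.range (g i).base := fun i =>
    AlgebraicGeometry.Scheme.Pullback.range_snd (g i) k
  have hcov' : ⋃ i, Set.range (Limits.pullback.snd (g i) k).base = Set.univ := by
    simp_rw [hrange]
    rw [← Set.preimage_iUnion, hcov, Set.preimage_univ]
  refine Groth.Agent.S4914.result (Limits.pullback.snd f k).base
    (Limits.pullback.snd f k).continuous z
    (fun i => Set.range (Limits.pullback.snd (g i) k).base) (locallyFinite_of_finite _)
    hcl hcov' ?_
  intro i hi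
  obtain ⟨b, hb⟩ := hi
  obtain ⟨w, hw1, hw2⟩ := AlgebraicGeometry.Scheme.Pullback.exists_preimage_pullback
    (f := Limits.pullback.snd f k) (g := Limits.pullback.snd (g i) k) z b hb.symm
  have hcube := Groth.Agent.H4.H4_univOpenAt_cube f (g i) k x (h i) w (by rw [hw1]; exact hz)
  haveI : IsClosedImmersion (Limits.pullback.snd (g i) k) := inferInstance
  have key := Groth.Agent.H4.H4_isOpenAt_restrictPreimage_of_square
    (Limits.pullback.snd f k).base (Set.range (Limits.pullback.snd (g i) k).base)
    (Limits.pullback.fst (Limits.pullback.snd f k) (Limits.pullback.snd (g i) k)).base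
    (Limits.pullback.snd (g i) k).base
    (Limits.pullback.snd (Limits.pullback.snd f k) (Limits.pullback.snd (g i) k)).base
    (Limits.pullback.fst (Limits.pullback.snd f k) (Limits.pullback.snd (g i) k)).continuous
    (Limits.pullback.snd (g i) k).isClosedEmbedding.isEmbedding rfl
    (fun p => by
      have := Limits.pullback.condition (f := Limits.pullback.snd f k)
        (g := Limits.pullback.snd (g i) k)
      have h2 := congrArg (fun φ => φ.base p) this
      exact h2.symm) w hcube (by rw [hw1]; exact ⟨b, hb⟩)
  convert key using 2
  exact hw1.symm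

end Groth.Agent.S4929
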