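import Groth.Statements.S4941
import Mathlib

set_option autoImplicit false
open CategoryTheory AlgebraicGeometry
universe u v w
open EGA43

namespace Groth.Agent.S4941

open CategoryTheory.Limits in
/-- Let v : Y₁ ⟶ Y be a surjective morphism of schemes whose underlying map is closed, f : X ⟶ Y a
morphism and x a point of X. If the base change f₁ : X ×_Y Y₁ ⟶ Y₁ is open at every point of X ×_Y
Y₁ lying over x, then f is open at x. -/
theorem result {X Y Y₁ : Scheme.{u}} (v : Y₁ ⟶ Y)
    (hv : IsClosedMap v.base) [Surjective v] (f : X ⟶ Y) (x : X)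
    (h : ∀ x₁ : ↥(pullback f v), (pullback.fst f v).base x₁ = x → EGA43.IsOpenAt (pullback.snd f v).base x₁) :
    EGA43.IsOpenAt f.base x := by
  intro U hU
  obtain ⟨U₀, hU₀U, hU₀o, hxU₀⟩ := mem_nhds_iff.1 hU
  have hcond : ∀ w : ↥(pullback f v), f.base ((pullback.fst f v).base w) =
      v.base ((pullback.snd f v).base w) := by
    intro w
    have := congrArg (fun g : pullback f v ⟶ Y => g.base w) (pullback.condition (f := f) (g := v))
    simpa using this
  let A : Set Y₁ := (pullback.snd f v).base '' ((pullback.fst f v).base ⁻¹' U₀)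
  have hA : A = v.base ⁻¹' (f.base '' U₀) := by
    ext a
    constructor
    · rintro ⟨w, hw, rfl⟩
      exact ⟨(pullback.fst f v).base w, hw, hcond w⟩
    · rintro ⟨u, hu, hua⟩
      obtain ⟨w, hw1, hw2⟩ := AlgebraicGeometry.Scheme.Pullback.exists_preimage_pullback
        (f := f) (g := v) u a hua
      exact ⟨w, by show (pullback.fst f v).base w ∈ U₀; rw [hw1]; exact hu, hw2⟩
  have hnhds : ∀ y₁ : Y₁, v.base y₁ = f.base x → A ∈ nhds y₁ := by
    intro y₁ hy₁
    obtain ⟨x₁, hx₁1, hx₁2⟩ := AlgebraicGeometry.Scheme.Pullback.exists_preimage_pullback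
      (f := f) (g := v) x y₁ hy₁.symm
    have h1 := h x₁ hx₁1 ((pullback.fst f v).base ⁻¹' U₀)
      (((hU₀o.preimage (pullback.fst f v).continuous)).mem_nhds
        (by show (pullback.fst f v).base x₁ ∈ U₀; rw [hx₁1]; exact hxU₀))
    rw [hx₁2] at h1
    exact h1
  have hCcl : IsClosed (v.base '' (interior A)ᶜ) := hv _ isOpen_interior.isClosed_compl
  have hyN : f.base x ∈ (v.base '' (interior A)ᶜ)ᶜ := by
    rintro ⟨y₁, hy₁, hy₁x⟩
    exact hy₁ (mem_interior_iff_mem_nhds.2 (hnhds y₁ hy₁x))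
  refine Filter.mem_of_superset (hCcl.isOpen_compl.mem_nhds hyN) ?_
  intro z hz
  obtain ⟨z₁, rfl⟩ := v.surjective z
  have hz₁ : z₁ ∈ interior A := by
    by_contra hcon
    exact hz ⟨z₁, hcon, rfl⟩
  have hz₁A : z₁ ∈ A := interior_subset hz₁
  rw [hA] at hz₁A
  exact Set.image_mono hU₀U hz₁A

end Groth.Agent.S4941
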