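import Groth.Statements.S4942
import Mathlib
import Groth.Agent.Lib.helper4.UnivOpen
import Groth.Agent.S4941

set_option autoImplicit false
open CategoryTheory AlgebraicGeometry
universe u v w
open EGA43

namespace Groth.Agent.S4942

open CategoryTheory.Limits in
/-- Let v : Y₁ ⟶ Y be a universally closed surjective morphism of schemes, f : X ⟶ Y a morphism and x a
point of X. If the base change f₁ : X ×_Y Y₁ ⟶ Y₁ is universally open at every point of X ×_Y Y₁
lying over x, then f is universally open at x. -/
theorem result {X Y Y₁ : Scheme.{u}} (v : Y₁ ⟶ Y)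
    [UniversallyClosed v] [Surjective v] (f : X ⟶ Y) (x : X)
    (h : ∀ x₁ : ↥(pullback f v), (pullback.fst f v).base x₁ = x → EGA43.IsUnivOpenAt (pullback.snd f v) x₁) :
    EGA43.IsUnivOpenAt f x := by
  intro Z' k z hz
  haveI : Surjective (Limits.pullback.snd v k) := inferInstance
  haveI : UniversallyClosed (Limits.pullback.snd v k) := inferInstance
  have hcl : IsClosedMap (Limits.pullback.snd v k).base :=
    (Limits.pullback.snd v k).isClosedMap
  refine Groth.Agent.S4941.result (Limits.pullback.snd v k) hcl (Limits.pullback.snd f k) z ?_
  intro w hw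
  -- the comparison map `m : Q ⟶ X ×_Y Y₁`
  have hcond : (Limits.pullback.fst (Limits.pullback.snd f k) (Limits.pullback.snd v k) ≫
      Limits.pullback.fst f k) ≫ f =
      (Limits.pullback.snd (Limits.pullback.snd f k) (Limits.pullback.snd v k) ≫
      Limits.pullback.fst v k) ≫ v := by
    rw [Category.assoc, Category.assoc, Limits.pullback.condition, Limits.pullback.condition,
      ← Category.assoc, ← Category.assoc, Limits.pullback.condition]
  let m : Limits.pullback (Limits.pullback.snd f k) (Limits.pullback.snd v k) ⟶
      Limits.pullback f v :=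
    Limits.pullback.lift _ _ hcond
  have hm1 : m ≫ Limits.pullback.fst f v =
      Limits.pullback.fst (Limits.pullback.snd f k) (Limits.pullback.snd v k) ≫
      Limits.pullback.fst f k := Limits.pullback.lift_fst _ _ _
  have hm2 : m ≫ Limits.pullback.snd f v =
      Limits.pullback.snd (Limits.pullback.snd f k) (Limits.pullback.snd v k) ≫
      Limits.pullback.fst v k := Limits.pullback.lift_snd _ _ _
  -- step 1
  have s1 := (IsPullback.of_hasPullback (Limits.pullback.snd f k)
    (Limits.pullback.snd v k)).paste_vert (IsPullback.of_hasPullback v k).flip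
  rw [← Limits.pullback.condition (f := f) (g := k), ← hm2] at s1
  -- step 2
  have s2 := IsPullback.of_bot s1 hm1.symm (IsPullback.of_hasPullback f v)
  -- step 3
  have s3 := s2.paste_horiz (IsPullback.of_hasPullback f k).flip
  rw [Limits.pullback.condition (f := Limits.pullback.snd f k) (g := Limits.pullback.snd v k),
    Limits.pullback.condition (f := f) (g := v)] at s3
  -- step 4
  have s4 := IsPullback.of_right s3 hm2.symm (IsPullback.of_hasPullback v k).flip
  have hx₁ : (Limits.pullback.fst f v).base (m.base w) = x := by
    have h5 : (m ≫ Limits.pullback.fst f v).base w =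
        (Limits.pullback.fst (Limits.pullback.snd f k) (Limits.pullback.snd v k) ≫
        Limits.pullback.fst f k).base w := by rw [hm1]
    have h6 : (Limits.pullback.fst (Limits.pullback.snd f k) (Limits.pullback.snd v k) ≫
        Limits.pullback.fst f k).base w = x := by
      rw [← hz, ← hw]; rfl
    rw [← h6, ← h5]; rfl
  exact Groth.Agent.H4.H4_univOpenAt_isPullback (h _ hx₁) _ _ _ s4.flip w rfl

end Groth.Agent.S4942
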