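import Groth.Statements.S4951
import Mathlib
import Groth.Agent.Lib.helper2.GenPoints

set_option autoImplicit false
universe u
open EGA43

namespace Groth.Agent.S4951

/-- Let X be a locally Noetherian topological space in which every irreducible closed subset has a
unique generic point (X quasi-sober and T₀), and Z a closed nowhere dense subset of X such that for
every point x of Z the set of generizations of x distinct from x is connected (possibly empty). If X
is connected, then X − Z is connected. (Uniqueness of generic points, automatic for the underlying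
space of a scheme, is needed: in the four-point space {u, v, z₁, z₂} whose open sets are ∅, {u},
{v}, {u, v} and the whole space, the closed nowhere dense set Z = {z₁, z₂} satisfies the hypothesis,
since z₂ is a generization of z₁ and conversely, yet X − Z = {u, v} is not connected.) -/
theorem result {X : Type u} [TopologicalSpace X]
    [QuasiSober X] [T0Space X] (hloc : ∀ x : X, ∃ U ∈ nhds x, TopologicalSpace.NoetherianSpace ↥U) [ConnectedSpace X]
    (Z : Set X) (hZ : IsClosed Z) (hZn : IsNowhereDense Z)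
    (hgen : ∀ x ∈ Z, IsPreconnected ({x' : X | x' ⤳ x} \ {x})) :
    IsConnected Zᶜ := by
  have hint : interior Z = ∅ := by
    have := hZn
    rw [IsNowhereDense, hZ.closure_eq] at this
    exact this
  have hdense : Dense Zᶜ := interior_eq_empty_iff_dense_compl.mp hint
  refine ⟨hdense.nonempty, ?_⟩
  intro u v hu hv huv hnu hnv
  by_contra hempty
  rw [Set.not_nonempty_iff_eq_empty] at hempty
  let U₁ := Zᶜ ∩ u
  let U₂ := Zᶜ ∩ v
  have hU₁ : IsOpen U₁ := hZ.isOpen_compl.inter hu
  have hU₂ : IsOpen U₂ := hZ.isOpen_compl.inter hv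
  have hdisj : Disjoint U₁ U₂ := by
    rw [Set.disjoint_iff]
    rintro z ⟨⟨hz, hzu⟩, ⟨-, hzv⟩⟩
    have : z ∈ Zᶜ ∩ (u ∩ v) := ⟨hz, hzu, hzv⟩
    rw [hempty] at this
    exact this
  have hunion : U₁ ∪ U₂ = Zᶜ := by
    ext z
    constructor
    · rintro (h | h) <;> exact h.1
    · intro hz
      rcases huv hz with h | h
      · exact Or.inl ⟨hz, h⟩
      · exact Or.inr ⟨hz, h⟩
  have hcl : closure U₁ ∪ closure U₂ = Set.univ := by
    rw [← closure_union, hunion, hdense.closure_eq]
  -- U₁ is disjoint from closure U₂ and vice versa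
  have h12 : ∀ z ∈ U₁, z ∉ closure U₂ := fun z hz hzc =>
    (hdisj.symm.closure_left hU₁).le_bot ⟨hzc, hz⟩
  have h21 : ∀ z ∈ U₂, z ∉ closure U₁ := fun z hz hzc =>
    (hdisj.closure_left hU₂).le_bot ⟨hzc, hz⟩
  obtain ⟨w, -, hw1, hw2⟩ := isPreconnected_closed_iff.mp isPreconnected_univ
    (closure U₁) (closure U₂) isClosed_closure isClosed_closure (by rw [hcl])
    (by simpa using hnu.mono (fun z hz => subset_closure hz))
    (by simpa using hnv.mono (fun z hz => subset_closure hz))
  let W := closure U₁ ∩ closure U₂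
  have hWcl : IsClosed W := isClosed_closure.inter isClosed_closure
  obtain ⟨x, hxW, -, hxmax⟩ := Groth.Agent.H2.H2_exists_maximal_point W hWcl w ⟨hw1, hw2⟩
  have hxZ : x ∈ Z := by
    by_contra hxZ
    have : x ∈ U₁ ∪ U₂ := hunion ▸ hxZ
    rcases this with h | h
    · exact h12 x h hxW.2
    · exact h21 x h hxW.1
  obtain ⟨y₁, hy₁U, hy₁x⟩ :=
    Groth.Agent.H2.H2_exists_specializes_of_mem_closure U₁ hU₁ x (hloc x) hxW.1
  obtain ⟨y₂, hy₂U, hy₂x⟩ :=
    Groth.Agent.H2.H2_exists_specializes_of_mem_closure U₂ hU₂ x (hloc x) hxW.2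
  have hy₁ne : y₁ ≠ x := fun h => hy₁U.1 (h ▸ hxZ)
  have hy₂ne : y₂ ≠ x := fun h => hy₂U.1 (h ▸ hxZ)
  have hG := hgen x hxZ
  have hcover : ({x' : X | x' ⤳ x} \ {x}) ⊆ (closure U₂)ᶜ ∪ (closure U₁)ᶜ := by
    rintro g ⟨hgx, hgne⟩
    by_contra hcon
    rw [Set.mem_union, not_or, Set.mem_compl_iff, Set.mem_compl_iff, not_not, not_not] at hcon
    exact hgne (hxmax g ⟨hcon.2, hcon.1⟩ hgx)
  obtain ⟨g, -, hg1, hg2⟩ := hG (closure U₂)ᶜ (closure U₁)ᶜ isClosed_closure.isOpen_compl
    isClosed_closure.isOpen_compl hcover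
    ⟨y₁, ⟨hy₁x, hy₁ne⟩, h12 y₁ hy₁U⟩ ⟨y₂, ⟨hy₂x, hy₂ne⟩, h21 y₂ hy₂U⟩
  have : g ∈ closure U₁ ∪ closure U₂ := hcl ▸ Set.mem_univ g
  rcases this with h | h
  · exact hg2 h
  · exact hg1 h

end Groth.Agent.S4951
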