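import Groth.Statements.S4959
import Mathlib

set_option autoImplicit false
open CategoryTheory AlgebraicGeometry
universe u v w
open EGA43

namespace Groth.Agent.S4959

open CategoryTheory.Limits in
/-- Let f : X ⟶ Y be a morphism of schemes and g : Y' ⟶ Y a surjective morphism which is either proper,
or flat and quasi-compact. If the base change f' : X ×_Y Y' ⟶ Y' is universally submersive (all of
its base changes are topological quotient maps), then f is universally submersive. -/
theorem result {X Y Y' : Scheme.{u}} (f : X ⟶ Y) (g : Y' ⟶ Y) [Surjective g]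
    (hg : IsProper g ∨ (Flat g ∧ QuasiCompact g))
    (h : MorphismProperty.universally (topologically @Topology.IsQuotientMap) (pullback.snd f g)) :
    MorphismProperty.universally (topologically @Topology.IsQuotientMap) f := by
  intro W Z i₁ i₂ f' hW
  -- Z' = Z ×_Y Y'
  have hgZ : Topology.IsQuotientMap (Limits.pullback.fst i₂ g).base := by
    haveI : Surjective (Limits.pullback.fst i₂ g) := inferInstance
    rcases hg with hp | ⟨hfl, hqc⟩
    · haveI := hp
      haveI : IsProper (Limits.pullback.fst i₂ g) := inferInstance
      exact (Limits.pullback.fst i₂ g).isClosedMap.isQuotientMap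
        (Limits.pullback.fst i₂ g).continuous (Limits.pullback.fst i₂ g).surjective
    · haveI := hfl
      haveI := hqc
      haveI : Flat (Limits.pullback.fst i₂ g) := inferInstance
      haveI : QuasiCompact (Limits.pullback.fst i₂ g) := inferInstance
      exact Flat.isQuotientMap_of_surjective _
  have hcond : (Limits.pullback.fst f' (Limits.pullback.fst i₂ g) ≫ i₁) ≫ f =
      (Limits.pullback.snd f' (Limits.pullback.fst i₂ g) ≫ Limits.pullback.snd i₂ g) ≫ g := by
    rw [Category.assoc, Category.assoc, ← Limits.pullback.condition, ← hW.w,
      ← Category.assoc, ← Category.assoc, Limits.pullback.condition]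
  let m : Limits.pullback f' (Limits.pullback.fst i₂ g) ⟶ Limits.pullback f g :=
    Limits.pullback.lift _ _ hcond
  have hm1 : m ≫ Limits.pullback.fst f g =
      Limits.pullback.fst f' (Limits.pullback.fst i₂ g) ≫ i₁ := Limits.pullback.lift_fst _ _ _
  have hm2 : m ≫ Limits.pullback.snd f g =
      Limits.pullback.snd f' (Limits.pullback.fst i₂ g) ≫ Limits.pullback.snd i₂ g :=
    Limits.pullback.lift_snd _ _ _
  have s0 := (IsPullback.of_hasPullback f' (Limits.pullback.fst i₂ g)).flip.paste_vert hW
  rw [Limits.pullback.condition (f := i₂) (g := g), ← hm1] at s0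
  have s1 := IsPullback.of_bot s0 hm2.symm (IsPullback.of_hasPullback f g).flip
  have hq1 : Topology.IsQuotientMap
      (Limits.pullback.snd f' (Limits.pullback.fst i₂ g)).base := h _ _ _ s1
  have hq2 := hgZ.comp hq1
  have heq : (Limits.pullback.fst i₂ g).base ∘
      (Limits.pullback.snd f' (Limits.pullback.fst i₂ g)).base =
      f'.base ∘ (Limits.pullback.fst f' (Limits.pullback.fst i₂ g)).base := by
    have : Limits.pullback.snd f' (Limits.pullback.fst i₂ g) ≫ Limits.pullback.fst i₂ g =
        Limits.pullback.fst f' (Limits.pullback.fst i₂ g) ≫ f' := Limits.pullback.condition.symm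
    have h2 := congrArg (fun φ => (φ.base : _ → _)) this
    exact h2
  rw [heq] at hq2
  exact Topology.IsQuotientMap.of_comp
    (Limits.pullback.fst f' (Limits.pullback.fst i₂ g)).continuous f'.continuous hq2

end Groth.Agent.S4959
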