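import Groth.Statements.S4989
import Mathlib
import Groth.Agent.Lib.helper4.SmoothStalk

set_option autoImplicit false
universe u
open CategoryTheory CategoryTheory.Limits AlgebraicGeometry TopologicalSpace
open Unram17

namespace Groth.Agent.S4989

/-- Let f : X ⟶ Y be locally of finite presentation and smooth at a point x with image y. Then the local
ring of X at x is reduced if and only if the local ring of Y at y is reduced, and it is an
integrally closed domain if and only if the local ring of Y at y is one. (The published statement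
also covers geometrically unibranch local rings; this row states only the reduced and the integrally
closed cases.) -/
theorem result {X Y : Scheme.{u}} (f : X ⟶ Y)
    [LocallyOfFinitePresentation f] (x : ↥X) (hx : x ∈ f.smoothLocus) :
    (IsReduced ↑(X.presheaf.stalk x) ↔ IsReduced ↑(Y.presheaf.stalk (f.base x))) ∧
    ((IsDomain ↑(X.presheaf.stalk x) ∧ IsIntegrallyClosed ↑(X.presheaf.stalk x)) ↔
      (IsDomain ↑(Y.presheaf.stalk (f.base x)) ∧ IsIntegrallyClosed ↑(Y.presheaf.stalk (f.base x)))) := by
  obtain ⟨A, B, _, _, _, _, q, _, ⟨e1⟩, ⟨e2⟩⟩ := Groth.Agent.H4.H4_smooth_stalk_data f x hx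
  have keyR := Groth.Agent.H4.H4_isReduced_localization_iff_of_smooth A B q
  have keyN := Groth.Agent.H4.H4_normal_localization_iff_of_smooth A B q
  refine ⟨⟨fun h => ?_, fun h => ?_⟩, ⟨fun h => ?_, fun h => ?_⟩⟩
  · haveI := h
    haveI : _root_.IsReduced (Localization.AtPrime q) :=
      isReduced_of_injective e1.symm.toRingHom e1.symm.injective
    haveI := keyR.mpr inferInstance
    exact isReduced_of_injective e2.toRingHom e2.injective
  · haveI := h
    haveI : _root_.IsReduced (Localization.AtPrime (q.comap (algebraMap A B))) :=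
      isReduced_of_injective e2.symm.toRingHom e2.symm.injective
    haveI := keyR.mp inferInstance
    exact isReduced_of_injective e1.toRingHom e1.injective
  · obtain ⟨h1, h2⟩ := h
    have h3 : IsDomain (Localization.AtPrime q) ∧ IsIntegrallyClosed (Localization.AtPrime q) :=
      ⟨e1.symm.toMulEquiv.isDomain _, IsIntegrallyClosed.of_equiv e1⟩
    obtain ⟨h4, h5⟩ := keyN.mp h3
    exact ⟨e2.toMulEquiv.isDomain _, IsIntegrallyClosed.of_equiv e2.symm⟩
  · obtain ⟨h1, h2⟩ := h
    have h3 : IsDomain (Localization.AtPrime (q.comap (algebraMap A B))) ∧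
        IsIntegrallyClosed (Localization.AtPrime (q.comap (algebraMap A B))) :=
      ⟨e2.symm.toMulEquiv.isDomain _, IsIntegrallyClosed.of_equiv e2⟩
    obtain ⟨h4, h5⟩ := keyN.mpr h3
    exact ⟨e1.toMulEquiv.isDomain _, IsIntegrallyClosed.of_equiv e1.symm⟩

end Groth.Agent.S4989
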