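import Groth.Statements.S4998
import Groth.Statements.S4998
import Mathlib

set_option autoImplicit false
universe u
open Unram17

namespace Groth.Agent.S4998

/-- Let A be an algebra of finite type over a field k. Then A is formally unramified over k if and only
if A is finite over k and every element of A has separable minimal polynomial over k (equivalently,
A is a finite product of finite separable extensions of k). -/
theorem result (k A : Type u) [Field k] [CommRing A]
    [Algebra k A] [Algebra.FiniteType k A] :
    Algebra.FormallyUnramified k A ↔ Module.Finite k A ∧ Algebra.IsSeparable k A := by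
  classical
  constructor
  · intro hunr
    haveI : Module.Finite k A := Algebra.FormallyUnramified.finite_of_free k A
    refine ⟨inferInstance, ?_⟩
    haveI : Algebra.FormallyEtale k A := Algebra.FormallyEtale.of_formallyUnramified_of_field k A
    obtain ⟨I, hI, Ai, hfield, halg, e, hsep⟩ :=
      (Algebra.FormallyEtale.iff_exists_algEquiv_prod k A).mp inferInstance
    haveI : Fintype I := Fintype.ofFinite I
    haveI : Module.Finite k (∀ i, Ai i) := Module.Finite.equiv e.toLinearEquiv
    have hprod : Algebra.IsSeparable k (∀ i, Ai i) := by
      refine ⟨fun x => ?_⟩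
      have hint : ∀ i, IsIntegral k (x i) := fun i =>
        (Algebra.IsSeparable.isSeparable k (x i)).isIntegral
      have hsepi : ∀ i, (minpoly k (x i)).Separable := fun i =>
        Algebra.IsSeparable.isSeparable k (x i)
      let S : Finset (Polynomial k) := Finset.univ.image (fun i => minpoly k (x i))
      let P : Polynomial k := ∏ q ∈ S, q
      have hPsep : P.Separable := by
        apply Polynomial.separable_prod'
        · intro q hq q' hq' hne
          obtain ⟨i, _, rfl⟩ := Finset.mem_image.mp hq
          obtain ⟨j, _, rfl⟩ := Finset.mem_image.mp hq'
          have hirr_i := minpoly.irreducible (hint i)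
          have hirr_j := minpoly.irreducible (hint j)
          rw [hirr_i.coprime_iff_not_dvd]
          intro hdvd
          apply hne
          exact Polynomial.eq_of_monic_of_associated (minpoly.monic (hint i))
            (minpoly.monic (hint j)) (hirr_i.associated_of_dvd hirr_j hdvd)
        · intro q hq
          obtain ⟨i, _, rfl⟩ := Finset.mem_image.mp hq
          exact hsepi i
      have hPx : Polynomial.aeval x P = 0 := by
        funext i
        have h1 : Polynomial.aeval x P i = Polynomial.aeval (x i) P := by
          have h2 := Polynomial.aeval_algHom_apply (Pi.evalAlgHom k Ai i) x P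
          simpa using h2.symm
        rw [h1]
        have hdvd : minpoly k (x i) ∣ P :=
          Finset.dvd_prod_of_mem _ (Finset.mem_image_of_mem _ (Finset.mem_univ i))
        obtain ⟨c, hc⟩ := hdvd
        rw [hc, map_mul, minpoly.aeval, zero_mul]
        rfl
      exact hPsep.of_dvd (minpoly.dvd k x hPx)
    exact AlgEquiv.Algebra.isSeparable e.symm
  · rintro ⟨hfin, hsep⟩
    haveI : IsArtinianRing A := IsArtinianRing.of_finite k A
    haveI : IsReduced A := by
      refine ⟨fun x hx => ?_⟩
      obtain ⟨n, hn⟩ := hx
      have hq : minpoly k x ∣ Polynomial.X ^ n := minpoly.dvd k x (by simp [hn])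
      have hsq : Squarefree (minpoly k x) :=
        (Algebra.IsSeparable.isSeparable k x : (minpoly k x).Separable).squarefree
      by_cases hn0 : n = 0
      · subst hn0
        have h1 : (1 : A) = 0 := by simpa using hn
        calc x = x * 1 := (mul_one x).symm
          _ = 0 := by rw [h1, mul_zero]
      have hq' : minpoly k x ∣ Polynomial.X := (hsq.dvd_pow_iff_dvd hn0).mp hq
      obtain ⟨c, hc⟩ := hq'
      have h2 := congrArg (Polynomial.aeval x) hc
      simpa [minpoly.aeval] using h2
    have hpi : Algebra.FormallyUnramified k (∀ m : MaximalSpectrum A, A ⧸ m.asIdeal) := by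
      rw [Algebra.FormallyUnramified.pi_iff]
      intro m
      letI : Field (A ⧸ m.asIdeal) := Ideal.Quotient.field m.asIdeal
      haveI : Algebra.IsSeparable k (A ⧸ m.asIdeal) := by
        refine ⟨fun y => ?_⟩
        obtain ⟨x, rfl⟩ := Ideal.Quotient.mk_surjective y
        have hx : (minpoly k x).Separable := Algebra.IsSeparable.isSeparable k x
        have hdvd : minpoly k (Ideal.Quotient.mk m.asIdeal x) ∣ minpoly k x := by
          apply minpoly.dvd
          have h1 : Polynomial.aeval (Ideal.Quotient.mk m.asIdeal x) (minpoly k x) =
              Ideal.Quotient.mk m.asIdeal (Polynomial.aeval x (minpoly k x)) := by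
            have h2 := Polynomial.aeval_algHom_apply (Ideal.Quotient.mkₐ k m.asIdeal) x (minpoly k x)
            simpa using h2
          rw [h1, minpoly.aeval, map_zero]
        exact hx.of_dvd hdvd
      exact Algebra.FormallyUnramified.of_isSeparable k (A ⧸ m.asIdeal)
    exact Algebra.FormallyUnramified.of_equiv ((IsArtinianRing.equivPi A).restrictScalars k).symm

end Groth.Agent.S4998
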