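import Groth.Statements.S5006
import Mathlib

set_option autoImplicit false
universe u
open Nrm16

namespace Groth.Agent.S5006

/-- Let A be a commutative ring, I a finitely generated ideal and p a prime ideal containing I. Then
some basic open neighbourhood of p in Spec A is contained in the closed set V(I) (so that V(I) ⟶
Spec A is a local homeomorphism onto an open set near p) if and only if there is an integer n > 0
with I^n A_p = I^(n+1) A_p in the local ring at p. Affine form. -/
theorem result (A : Type u) [CommRing A] (I : Ideal A) (hI : I.FG)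
    (p : Ideal A) [p.IsPrime] (hp : I ≤ p) :
    (∃ f : A, f ∉ p ∧ ∀ q : Ideal A, q.IsPrime → f ∉ q → I ≤ q) ↔
      ∃ n : ℕ, 0 < n ∧
        (I ^ n).map (algebraMap A (Localization.AtPrime p)) =
          (I ^ (n + 1)).map (algebraMap A (Localization.AtPrime p)) := by
  classical
  set S := Localization.AtPrime p with hS
  constructor
  · rintro ⟨f, hfp, hf⟩
    -- work in A_f
    set Af := Localization.Away f
    let J : Ideal Af := I.map (algebraMap A Af)
    have hJfg : J.FG := hI.map _
    have hJnil : J ≤ nilradical Af := by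
      rw [nilradical_eq_sInf]
      refine le_sInf ?_
      intro Q hQ
      have hQ' : Ideal.IsPrime Q := hQ
      rw [Ideal.map_le_iff_le_comap]
      apply hf _ (Ideal.comap_isPrime _ _)
      intro hfQ
      have : IsUnit (algebraMap A Af f) := IsLocalization.Away.algebraMap_isUnit f
      exact hQ'.ne_top (Ideal.eq_top_of_isUnit_mem _ hfQ this)
    obtain ⟨n, hn⟩ := (Ideal.FG.isNilpotent_iff_le_nilradical hJfg).mpr hJnil
    have hn1 : J ^ (n + 1) = ⊥ := by rw [pow_succ, hn]; simp
    have hn2 : J ^ (n + 2) = ⊥ := by rw [pow_succ, hn1]; simp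
    have hzero : ∀ m : ℕ, J ^ m = ⊥ → (I ^ m).map (algebraMap A S) = ⊥ := by
      intro m hm
      rw [eq_bot_iff, Ideal.map_le_iff_le_comap]
      intro x hx
      have hx' : algebraMap A Af x ∈ J ^ m := by
        rw [← Ideal.map_pow]; exact Ideal.mem_map_of_mem _ hx
      rw [hm, Ideal.mem_bot, IsLocalization.map_eq_zero_iff (Submonoid.powers f)] at hx'
      obtain ⟨⟨_, k, rfl⟩, hk⟩ := hx'
      rw [Ideal.mem_comap, Ideal.mem_bot, IsLocalization.map_eq_zero_iff p.primeCompl]
      exact ⟨⟨f ^ k, fun h => hfp (Ideal.IsPrime.mem_of_pow_mem inferInstance k h)⟩, hk⟩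
    exact ⟨n + 1, Nat.succ_pos n, by rw [hzero _ hn1, hzero (n + 1 + 1) hn2]⟩
  · rintro ⟨n, hn0, hn⟩
    let J : Ideal S := I.map (algebraMap A S)
    have hJm : J ≤ Ideal.jacobson (⊥ : Ideal S) := by
      refine le_trans ?_ (IsLocalRing.maximalIdeal_le_jacobson (⊥ : Ideal S))
      rw [Ideal.map_le_iff_le_comap]
      have := IsLocalization.AtPrime.under_maximalIdeal S p
      rw [Ideal.under_def] at this
      rw [this]
      exact hp
    have hJn : J ^ n = ⊥ := by
      have hfg : (J ^ n).FG := (hI.map _).pow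
      refine Submodule.eq_bot_of_le_smul_of_le_jacobson_bot J (J ^ n) hfg ?_ hJm
      rw [smul_eq_mul, ← pow_succ']
      have h1 : J ^ n = (I ^ n).map (algebraMap A S) := (Ideal.map_pow _ _ _).symm
      have h2 : J ^ (n + 1) = (I ^ (n + 1)).map (algebraMap A S) := (Ideal.map_pow _ _ _).symm
      rw [h1, h2]
      exact hn.le
    obtain ⟨gs, hgs⟩ := (hI.pow : (I ^ n).FG)
    have hkill : ∀ g ∈ gs, ∃ s : A, s ∉ p ∧ s * g = 0 := by
      intro g hg
      have hg' : g ∈ I ^ n := hgs ▸ Ideal.subset_span hg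
      have : algebraMap A S g ∈ J ^ n := by
        rw [← Ideal.map_pow]; exact Ideal.mem_map_of_mem _ hg'
      rw [hJn, Ideal.mem_bot, IsLocalization.map_eq_zero_iff p.primeCompl] at this
      obtain ⟨⟨s, hs⟩, hsg⟩ := this
      exact ⟨s, hs, hsg⟩
    choose! s hs using hkill
    refine ⟨∏ g ∈ gs, s g, ?_, ?_⟩
    · intro hmem
      obtain ⟨g, hg, hgp⟩ := (Ideal.IsPrime.prod_mem_iff).mp hmem
      exact (hs g hg).1 hgp
    · intro q hq hfq x hx
      have hxn : x ^ n ∈ I ^ n := Ideal.pow_mem_pow hx n
      have hfx : (∏ g ∈ gs, s g) * x ^ n = 0 := by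
        rw [← hgs] at hxn
        refine Submodule.span_induction (p := fun y _ => (∏ g ∈ gs, s g) * y = 0) ?_ ?_ ?_ ?_ hxn
        · intro g hg
          obtain ⟨c, hc⟩ := Finset.dvd_prod_of_mem s hg
          rw [hc, mul_comm (s g) c, mul_assoc, (hs g hg).2, mul_zero]
        · simp
        · intro y z _ _ hy hz; rw [mul_add, hy, hz, add_zero]
        · intro a y _ hy; rw [smul_eq_mul, mul_left_comm, hy, mul_zero]
      have : (∏ g ∈ gs, s g) * x ^ n ∈ q := by rw [hfx]; exact q.zero_mem
      rcases hq.mem_or_mem this with h | h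
      · exact absurd h hfq
      · exact hq.mem_of_pow_mem n h

end Groth.Agent.S5006
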