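import Groth.Statements.S5010
import Mathlib
import Groth.Agent.Lib.helper6.PP16Frac

set_option autoImplicit false
universe u
open PP16 Groth.Agent.Lib.helper6
set_option linter.style.haveILetI false

namespace Groth.Agent.S5010

/-- Let k be a field and K the field of fractions of the polynomial ring k[T_1, ..., T_r]. For every n,
the K-algebra map from the polynomial ring K[U_1, ..., U_r] to the ring of principal parts of order
n of K over k (a K-algebra through the first factor) that sends U_i to d^n(T_i) − T_i · 1 is
surjective, and its kernel is the (n+1)-st power of the ideal generated by the U_i. -/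
theorem result (k : Type u) [Field k] (r n : ℕ) :
    Function.Surjective
        (MvPolynomial.aeval (R := FractionRing (MvPolynomial (Fin r) k))
          (S₁ := PP16.P n k (FractionRing (MvPolynomial (Fin r) k)))
          (fun i : Fin r =>
            PP16.dn n k (FractionRing (MvPolynomial (Fin r) k))
                (algebraMap (MvPolynomial (Fin r) k) (FractionRing (MvPolynomial (Fin r) k)) (MvPolynomial.X i)) -
              algebraMap (FractionRing (MvPolynomial (Fin r) k)) (PP16.P n k (FractionRing (MvPolynomial (Fin r) k)))
                (algebraMap (MvPolynomial (Fin r) k) (FractionRing (MvPolynomial (Fin r) k)) (MvPolynomial.X i)))) ∧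
      RingHom.ker
          (MvPolynomial.aeval (R := FractionRing (MvPolynomial (Fin r) k))
            (S₁ := PP16.P n k (FractionRing (MvPolynomial (Fin r) k)))
            (fun i : Fin r =>
              PP16.dn n k (FractionRing (MvPolynomial (Fin r) k))
                  (algebraMap (MvPolynomial (Fin r) k) (FractionRing (MvPolynomial (Fin r) k)) (MvPolynomial.X i)) -
                algebraMap (FractionRing (MvPolynomial (Fin r) k)) (PP16.P n k (FractionRing (MvPolynomial (Fin r) k)))
                  (algebraMap (MvPolynomial (Fin r) k) (FractionRing (MvPolynomial (Fin r) k)) (MvPolynomial.X i)))).toRingHom =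
        (Ideal.span (Set.range (MvPolynomial.X : Fin r → MvPolynomial (Fin r) (FractionRing (MvPolynomial (Fin r) k))))) ^ (n + 1) := by
  classical
  let Pk := MvPolynomial (Fin r) k
  let K := FractionRing Pk
  haveI : Algebra.FormallySmooth Pk K :=
    Algebra.FormallySmooth.of_isLocalization (Rₘ := K) (nonZeroDivisors Pk)
  haveI : Algebra.FormallySmooth k K := Algebra.FormallySmooth.comp k Pk K
  let z : Fin r → K := fun i => algebraMap Pk K (MvPolynomial.X i)
  let b : Module.Basis (Fin r) K (KaehlerDifferential k K) :=
    (KaehlerDifferential.mvPolynomialBasis k (Fin r)).ofIsLocalizedModule K (nonZeroDivisors Pk)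
      (KaehlerDifferential.map k k Pk K)
  have hb : ∀ i, b i = KaehlerDifferential.D k K (z i) := by
    intro i
    show ((KaehlerDifferential.mvPolynomialBasis k (Fin r)).ofIsLocalizedModule K
      (nonZeroDivisors Pk) (KaehlerDifferential.map k k Pk K)) i = _
    rw [Module.Basis.ofIsLocalizedModule_apply, KaehlerDifferential.mvPolynomialBasis_apply,
      KaehlerDifferential.map_D]
  have hz : Submodule.span K (Set.range fun i => KaehlerDifferential.D k K (z i)) = ⊤ := by
    have : (fun i => KaehlerDifferential.D k K (z i)) = b := by
      funext i; exact (hb i).symm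
    rw [this]
    exact b.span_eq
  obtain ⟨Dp, ⟨hD1, hD2⟩, -⟩ := Groth.Agent.S2808.result k K r z ⟨b, hb⟩
  have hB : PP16.IsDiffSmooth k K :=
    (H6_isDiffSmooth_of_Dp k K z hz Dp (fun p => ⟨_, hD1 p⟩) hD2).1
  obtain ⟨bs, hbs⟩ := H6_exists_basis_P k K z hB b hb n
  exact H6_evP_surjective_ker k K n z bs hbs

end Groth.Agent.S5010
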