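import Groth.Statements.S5044
import Mathlib
import Groth.Agent.Lib.helper4.IndEtaleNoeth
import Groth.Agent.Lib.helper4.HensAss

set_option autoImplicit false
universe u
open Hensel

namespace Groth.Agent.S5044

/-- Let R be a Noetherian local ring with strict henselization S. A prime ideal P of S is an associated
prime of S if and only if its inverse image in R is an associated prime of R. -/
theorem result (R S : Type u) [CommRing R] [IsLocalRing R] [IsNoetherianRing R]
    [CommRing S] [IsLocalRing S] [Algebra R S] [IsLocalHom (algebraMap R S)] [Hensel.IsStrictHenselization R S]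
    (P : Ideal S) [P.IsPrime] :
    P ∈ associatedPrimes S S ↔ P.comap (algebraMap R S) ∈ associatedPrimes R R := by
  have hind := Groth.Agent.H4.H4_strictHenselization_isIndEtale R S
  haveI := Groth.Agent.H4.H4_weaklyEtale_of_isIndEtale R S hind
  haveI : Module.Flat R S := Algebra.WeaklyEtale.flat
  haveI : IsNoetherianRing S :=
    (Groth.Agent.H4.H4_strictHenselization_isNoetherianRing_iff R S).mp inferInstance
  exact Groth.Agent.H4.H4_mem_associatedPrimes_iff_of_flat_incomparable R S
    (fun Q P _ _ hle hc => Groth.Agent.H4.H4_indEtale_eq_of_le_of_comap_eq R S hind Q P hle hc) P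

end Groth.Agent.S5044
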