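import Groth.Statements.S5050
import Mathlib

set_option autoImplicit false
universe u v
open CInt

namespace Groth.Agent.S5050

/-- Let A be a Noetherian ring, N a finitely generated A-module, E and F submodules of N and Q an ideal
of A. For every natural number k there is h > 0 with E ⊓ (F ⊔ Q^h N) ≤ (E ⊓ F) ⊔ Q^k N. -/
theorem result {A : Type u} [CommRing A] [IsNoetherianRing A] {N : Type v} [AddCommGroup N]
    [Module A N] [Module.Finite A N] (E F : Submodule A N) (Q : Ideal A) (k : ℕ) :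
    ∃ h : ℕ, 0 < h ∧ E ⊓ (F ⊔ Q ^ h • (⊤ : Submodule A N)) ≤ (E ⊓ F) ⊔ Q ^ k • (⊤ : Submodule A N) := by
  obtain ⟨c, hc⟩ := Ideal.exists_pow_inf_eq_pow_smul Q (E.map F.mkQ)
  refine ⟨k + c + 1, by omega, ?_⟩
  rintro x ⟨hxE, hxF⟩
  have h1 : F.mkQ x ∈ Q ^ (k + c + 1) • (⊤ : Submodule A (N ⧸ F)) := by
    obtain ⟨f, hf, q, hq, rfl⟩ := Submodule.mem_sup.mp hxF
    have hf0 : F.mkQ f = 0 := by simpa using hf
    rw [map_add, hf0, zero_add]
    have := Submodule.mem_map_of_mem (f := F.mkQ) hq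
    rw [Submodule.map_smul''] at this
    exact Submodule.smul_mono le_rfl le_top this
  have h2 : F.mkQ x ∈ E.map F.mkQ := Submodule.mem_map_of_mem hxE
  have h3 := hc (k + c + 1) (by omega)
  have h4 : F.mkQ x ∈ Q ^ (k + c + 1 - c) • (Q ^ c • ⊤ ⊓ E.map F.mkQ) := by
    rw [← h3]; exact ⟨h1, h2⟩
  have h5 : F.mkQ x ∈ Q ^ k • E.map F.mkQ :=
    Submodule.smul_mono (Ideal.pow_le_pow_right (by omega)) inf_le_right h4
  rw [← Submodule.map_smul''] at h5
  obtain ⟨e, he, hex⟩ := h5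
  have heE : e ∈ E := Submodule.smul_le_right he
  have heQ : e ∈ Q ^ k • (⊤ : Submodule A N) := Submodule.smul_mono le_rfl le_top he
  have hxe : x - e ∈ F := by
    have : F.mkQ (x - e) = 0 := by rw [map_sub, hex, sub_self]
    rwa [Submodule.mkQ_apply, Submodule.Quotient.mk_eq_zero] at this
  have : x = (x - e) + e := by abel
  rw [this]
  exact Submodule.add_mem_sup ⟨E.sub_mem hxE heE, hxe⟩ heQ

end Groth.Agent.S5050
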