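import Groth.Statements.S5073
import Mathlib

set_option autoImplicit false
universe u
open EGA418

namespace Groth.Agent.S5073

/-- Let A be a Noetherian local ring, p a prime ideal and x an element of A. Then there is an element x'
of A whose image in A_p equals that of x and which belongs to no minimal prime ideal of A not
contained in p. -/
theorem result (A : Type u) [CommRing A] [IsNoetherianRing A] [IsLocalRing A]
    (p : Ideal A) [p.IsPrime] (x : A) :
    ∃ x' : A, algebraMap A (Localization.AtPrime p) x' = algebraMap A (Localization.AtPrime p) x ∧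
      ∀ q ∈ minimalPrimes A, ¬ q ≤ p → x' ∉ q := by
  classical
  set Ap := Localization.AtPrime p
  -- Step 1: elements of the kernel outside each bad minimal prime
  have hI : ∀ q ∈ minimalPrimes A, ¬ q ≤ p → ∃ u, u ∉ q ∧ algebraMap A Ap u = 0 := by
    intro q hq hqp
    haveI : q.IsPrime := hq.1.1
    obtain ⟨t, htq, htp⟩ := SetLike.not_le_iff_exists.mp hqp
    have hrad := IsLocalization.AtPrime.radical_map_of_mem_minimalPrimes
      (A := Localization.AtPrime q) q (⊥ : Ideal A) (by simpa [minimalPrimes] using hq)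
    have htm : algebraMap A (Localization.AtPrime q) t ∈
        (Ideal.map (algebraMap A (Localization.AtPrime q)) (⊥ : Ideal A)).radical := by
      rw [hrad]; exact Ideal.mem_map_of_mem _ htq
    rw [Ideal.map_bot] at htm
    obtain ⟨n, hn⟩ := htm
    rw [Ideal.mem_bot, ← map_pow, IsLocalization.map_eq_zero_iff q.primeCompl] at hn
    obtain ⟨⟨u, hu⟩, hut⟩ := hn
    refine ⟨u, hu, ?_⟩
    rw [IsLocalization.map_eq_zero_iff p.primeCompl]
    refine ⟨⟨t ^ n, ?_⟩, ?_⟩
    · exact fun h => htp (Ideal.IsPrime.mem_of_pow_mem inferInstance n h)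
    · simpa [mul_comm] using hut
  -- Step 2: finite set of bad minimal primes
  have hfin : (minimalPrimes A).Finite := minimalPrimes.finite_of_isNoetherianRing A
  let S : Finset (Ideal A) := hfin.toFinset.filter (fun q => ¬ q ≤ p)
  have hS : ∀ q, q ∈ S ↔ q ∈ minimalPrimes A ∧ ¬ q ≤ p := by
    intro q; simp [S]
  let S1 := S.filter (fun q => x ∈ q)
  let S2 := S.filter (fun q => x ∉ q)
  let I : Ideal A := RingHom.ker (algebraMap A Ap)
  let K : Ideal A := I ⊓ S2.inf id
  have hK : ¬ ((K : Set A) ⊆ ⋃ q ∈ (↑S1 : Set (Ideal A)), (id q : Ideal A)) := by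
    intro hsub
    rw [Ideal.subset_union_prime (f := id) ⊥ ⊥ (fun q hq _ _ => by
      have := (hS q).mp (Finset.mem_filter.mp hq).1
      exact this.1.1.1)] at hsub
    obtain ⟨q₀, hq₀, hKq₀⟩ := hsub
    have hq₀S := (hS q₀).mp (Finset.mem_filter.mp hq₀).1
    have hxq₀ : x ∈ q₀ := (Finset.mem_filter.mp hq₀).2
    haveI : q₀.IsPrime := hq₀S.1.1.1
    have hq₀p : q₀.IsPrime := hq₀S.1.1.1
    change K ≤ q₀ at hKq₀
    rcases (Ideal.IsPrime.inf_le hq₀p).mp hKq₀ with h | h
    · obtain ⟨u, hu, hu0⟩ := hI q₀ hq₀S.1 hq₀S.2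
      exact hu (h (by simpa [I] using hu0))
    · obtain ⟨q, hq, hqq₀⟩ := (Ideal.IsPrime.inf_le' hq₀p).mp h
      have hqS := (hS q).mp (Finset.mem_filter.mp hq).1
      have hxq : x ∉ q := (Finset.mem_filter.mp hq).2
      have : q₀ ≤ q := hq₀S.1.2 ⟨hqS.1.1.1, bot_le⟩ hqq₀
      exact hxq (this hxq₀)
  obtain ⟨y, hyK, hy⟩ := Set.not_subset.mp hK
  simp only [Set.mem_iUnion, not_exists] at hy
  refine ⟨x + y, ?_, ?_⟩
  · have : algebraMap A Ap y = 0 := by
      have := hyK.1
      simpa [I] using this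
    rw [map_add, this, add_zero]
  · intro q hq hqp hx'
    have hqS : q ∈ S := (hS q).mpr ⟨hq, hqp⟩
    by_cases hxq : x ∈ q
    · have hq1 : q ∈ S1 := Finset.mem_filter.mpr ⟨hqS, hxq⟩
      apply hy q (by simpa using hq1)
      have : y = (x + y) - x := by ring
      rw [this]
      exact q.sub_mem hx' hxq
    · have hq2 : q ∈ S2 := Finset.mem_filter.mpr ⟨hqS, hxq⟩
      have hyq : y ∈ q := by
        have h1 : S2.inf id ≤ q := Finset.inf_le (f := id) hq2
        exact h1 hyK.2
      apply hxq
      have : x = (x + y) - y := by ring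
      rw [this]
      exact q.sub_mem hx' hyq

end Groth.Agent.S5073
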