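import Groth.Statements.S5081
import Mathlib

set_option autoImplicit false
universe u
open Unram

namespace Groth.Agent.S5081

/-- Let B be a finite A-algebra generated by a single element u and F a polynomial with coefficients in
A such that F(u) = 0. Then the ideal generated by F'(u) is contained in the annihilator of the
module of differentials of B over A, and equals it when the kernel of the surjection A[T] → B
sending T to u is generated by F. -/
theorem result (A B : Type u) [CommRing A] [CommRing B] [Algebra A B]
    [Module.Finite A B] (u : B) (hu : Algebra.adjoin A ({u} : Set B) = ⊤) (F : Polynomial A) (hF : Polynomial.aeval u F = 0) :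
    Ideal.span {Polynomial.aeval u (Polynomial.derivative F)} ≤ Module.annihilator B (KaehlerDifferential A B) ∧
      (RingHom.ker (Polynomial.aeval u : Polynomial A →ₐ[A] B) = Ideal.span {F} →
        Module.annihilator B (KaehlerDifferential A B) = Ideal.span {Polynomial.aeval u (Polynomial.derivative F)}) := by
  classical
  have hsurj : Function.Surjective (Polynomial.aeval u : Polynomial A →ₐ[A] B) := by
    rw [← AlgHom.range_eq_top, ← Algebra.adjoin_singleton_eq_range_aeval, hu]
  have hann : ∀ c : B, c • KaehlerDifferential.D A B u = 0 →
      c ∈ Module.annihilator B (KaehlerDifferential A B) := by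
    intro c hc
    rw [Module.mem_annihilator]
    intro ω
    have hω : ω ∈ Submodule.span B (Set.range (KaehlerDifferential.D A B)) := by
      rw [KaehlerDifferential.span_range_derivation]
      trivial
    induction hω using Submodule.span_induction with
    | mem ω h =>
      obtain ⟨b, rfl⟩ := h
      obtain ⟨p, rfl⟩ := hsurj b
      rw [Derivation.map_aeval, smul_comm, hc, smul_zero]
    | zero => rw [smul_zero]
    | add x y _ _ ihx ihy => rw [smul_add, ihx, ihy, add_zero]
    | smul b ω _ ih => rw [smul_comm, ih, smul_zero]
  have part1 : Ideal.span {Polynomial.aeval u (Polynomial.derivative F)} ≤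
      Module.annihilator B (KaehlerDifferential A B) := by
    rw [Ideal.span_le, Set.singleton_subset_iff]
    apply hann
    rw [← Derivation.map_aeval, hF, map_zero]
  refine ⟨part1, fun hker => le_antisymm ?_ part1⟩
  intro c hc
  have hcu : c • KaehlerDifferential.D A B u = 0 := Module.mem_annihilator.mp hc _
  let K : Ideal B := Ideal.span {Polynomial.aeval u (Polynomial.derivative F)}
  -- the linear map on polynomials
  let L0 : Polynomial A →ₗ[A] B ⧸ K :=
    (Ideal.Quotient.mkₐ A K).toLinearMap ∘ₗ (Polynomial.aeval u : Polynomial A →ₐ[A] B).toLinearMap ∘ₗ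
      (Polynomial.derivative : Polynomial A →ₗ[A] Polynomial A)
  have hL0 : ∀ p, L0 p = Ideal.Quotient.mk K (Polynomial.aeval u (Polynomial.derivative p)) :=
    fun p => rfl
  have hW : ∀ p q : Polynomial A, Polynomial.aeval u p = Polynomial.aeval u q → L0 p = L0 q := by
    intro p q hpq
    have h1 : p - q ∈ RingHom.ker (Polynomial.aeval u : Polynomial A →ₐ[A] B) := by
      rw [RingHom.mem_ker, map_sub, hpq, sub_self]
    rw [hker, Ideal.mem_span_singleton] at h1
    obtain ⟨g, hg⟩ := h1
    have h2 : p = q + F * g := by rw [← hg]; ring
    rw [hL0, hL0, h2, Polynomial.derivative_add, Polynomial.derivative_mul, map_add, map_add,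
      map_add, map_mul, map_mul, hF, zero_mul, add_zero, add_eq_left,
      Ideal.Quotient.eq_zero_iff_mem]
    exact Ideal.mul_mem_right _ _ (Ideal.subset_span rfl)
  let σ : B → Polynomial A := Function.surjInv hsurj
  have hσ : ∀ b, Polynomial.aeval u (σ b) = b := Function.surjInv_eq hsurj
  let L : B →ₗ[A] B ⧸ K :=
    { toFun := fun b => L0 (σ b)
      map_add' := fun b1 b2 => by
        rw [← map_add]
        apply hW
        rw [map_add, hσ, hσ, hσ]
      map_smul' := fun a b => by
        rw [RingHom.id_apply, ← map_smul]
        apply hW
        rw [map_smul, hσ, hσ] }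
  have hL : ∀ p, L (Polynomial.aeval u p) = L0 p := by
    intro p
    apply hW
    rw [hσ]
  have hsm : ∀ (b : B) (x : B ⧸ K), b • x = Ideal.Quotient.mk K b * x := by
    intro b x
    rw [Algebra.smul_def]
    rfl
  let d' : Derivation A B (B ⧸ K) := Derivation.mk' L (by
    intro b1 b2
    obtain ⟨p1, rfl⟩ := hsurj b1
    obtain ⟨p2, rfl⟩ := hsurj b2
    rw [← map_mul, hL, hL, hL, hL0, hL0, hL0, Polynomial.derivative_mul, map_add, map_mul, map_mul,
      map_add, map_mul, map_mul, hsm, hsm]
    ring)
  have hd'u : d' u = 1 := by
    show L u = 1
    have : u = Polynomial.aeval u (Polynomial.X : Polynomial A) := by simp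
    rw [this, hL, hL0]
    simp
  have h3 := congrArg d'.liftKaehlerDifferential hcu
  rw [map_smul, map_zero, Derivation.liftKaehlerDifferential_comp_D, hd'u, hsm, mul_one,
    Ideal.Quotient.eq_zero_iff_mem] at h3
  exact h3

end Groth.Agent.S5081
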