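import Groth.Statements.S5118
import Mathlib
import Groth.Agent.Lib.helper4.UnramAdjoinRoot

set_option autoImplicit false
universe u
open SGA1t

namespace Groth.Agent.S5118

open Polynomial in
/-- The etaleness criterion for the Kummer group scheme: Let A be a commutative ring and n ≥ 1. The
group scheme μ_n over Spec A is the spectrum of A[t]/(t^n − 1), a free A-module of rank n; it is
etale over A if and only if n is a unit of A (equivalently, n is prime to the characteristic of the
residue field at every point of Spec A). -/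
theorem result (A : Type u) [CommRing A] (n : ℕ) (hn : 1 ≤ n) :
    Algebra.Etale A (AdjoinRoot ((X : A[X]) ^ n - 1)) ↔ IsUnit ((n : ℕ) : A) := by
  have hder : derivative ((X : A[X]) ^ n - 1) = C ((n : ℕ) : A) * X ^ (n - 1) := by
    rw [derivative_sub, derivative_one, sub_zero, derivative_X_pow]
  have hmonic : ((X : A[X]) ^ n - 1).Monic := by
    apply Polynomial.monic_X_pow_sub
    exact lt_of_le_of_lt degree_one_le (by exact_mod_cast hn)
  have hroot : (AdjoinRoot.mk ((X : A[X]) ^ n - 1) X) ^ n = 1 := by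
    rw [← map_pow, ← map_one (AdjoinRoot.mk ((X : A[X]) ^ n - 1)), AdjoinRoot.mk_eq_mk]
  have hXunit : IsUnit (AdjoinRoot.mk ((X : A[X]) ^ n - 1) X) := by
    apply IsUnit.of_mul_eq_one ((AdjoinRoot.mk ((X : A[X]) ^ n - 1) X) ^ (n - 1))
    rw [← pow_succ', Nat.sub_add_cancel hn, hroot]
  constructor
  · intro hE
    have h1 := Groth.Agent.H4.H4_isUnit_derivative_of_formallyUnramified ((X : A[X]) ^ n - 1)
    rw [hder, map_mul] at h1
    have h2 : IsUnit (AdjoinRoot.mk ((X : A[X]) ^ n - 1) (C ((n : ℕ) : A))) :=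
      isUnit_of_mul_isUnit_left h1
    let ρ : AdjoinRoot ((X : A[X]) ^ n - 1) →ₐ[A] A :=
      AdjoinRoot.liftAlgHom _ (Algebra.ofId A A) 1 (by simp)
    have h3 := h2.map ρ
    have h4 : ρ (AdjoinRoot.mk ((X : A[X]) ^ n - 1) (C ((n : ℕ) : A))) = ((n : ℕ) : A) := by
      simp [ρ]
    rwa [h4] at h3
  · intro hu
    apply Groth.Agent.H4.H4_etale_adjoinRoot _ hmonic
    rw [hder, map_mul, map_pow]
    exact (hu.map ((AdjoinRoot.mk ((X : A[X]) ^ n - 1)).comp C)).mul (hXunit.pow _)

end Groth.Agent.S5118
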