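import Groth.Statements.S5119
import Groth.Statements.S5119
import Mathlib

set_option autoImplicit false
universe u
open scoped LaurentPolynomial
open SGA1t

namespace Groth.Agent.S5119

/-- The computation behind the exactness of the Kummer sequence 0 → μ_n → G_m → G_m → 0, i.e. faithful
flatness of the n-th power map u_n of G_m: Let A be a commutative ring and n ≥ 1, and let u_n be the
ring endomorphism of A[t, t⁻¹] with u_n(t) = t^n (on monomials, t^k ↦ t^{nk}). Then A[t, t⁻¹] is
free of rank n over itself via u_n, with basis 1, t, …, t^{n−1}: every Laurent polynomial q can be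
written in exactly one way as Σ_{i<n} u_n(c_i) t^i. -/
theorem result (A : Type u) [CommRing A] (n : ℕ) (hn : 1 ≤ n) (q : A[T;T⁻¹]) :
    ∃! c : Fin n → A[T;T⁻¹],
      q = ∑ i : Fin n, (AddMonoidAlgebra.mapDomainRingHom A (AddMonoidHom.mulLeft (n : ℤ)) : A[T;T⁻¹] →+* A[T;T⁻¹]) (c i) *
        LaurentPolynomial.T (i : ℤ) := by
  classical
  have hn0 : (n : ℤ) ≠ 0 := by exact_mod_cast (by omega : n ≠ 0)
  have hinj : Function.Injective (fun k : ℤ => (n : ℤ) * k) := fun a b h => mul_left_cancel₀ hn0 h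
  set u : A[T;T⁻¹] →+* A[T;T⁻¹] :=
    AddMonoidAlgebra.mapDomainRingHom A (AddMonoidHom.mulLeft (n : ℤ)) with hu
  have hcoef : ∀ (c : A[T;T⁻¹]) (i : Fin n) (j : Fin n) (k : ℤ),
      (u c * LaurentPolynomial.T (i : ℤ)).coeff (n * k + j) = if i = j then c.coeff k else 0 := by
    intro c i j k
    rw [LaurentPolynomial.T, AddMonoidAlgebra.coeff_mul_single_apply, mul_one]
    change (Finsupp.mapDomain (fun k : ℤ => (n : ℤ) * k) c.coeff) (n * k + j + -((i : ℕ) : ℤ)) = _
    split_ifs with h
    · subst h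
      rw [show (n : ℤ) * k + ((i : ℕ) : ℤ) + -((i : ℕ) : ℤ) = (fun k : ℤ => (n : ℤ) * k) k by simp]
      exact Finsupp.mapDomain_apply hinj _ _
    · apply Finsupp.mapDomain_notin_range
      rintro ⟨k', hk'⟩
      apply h
      have h1 : (n : ℤ) ∣ ((j : ℕ) : ℤ) - ((i : ℕ) : ℤ) := ⟨k' - k, by simp only at hk'; linarith⟩
      have h2 : |((j : ℕ) : ℤ) - ((i : ℕ) : ℤ)| < (n : ℤ) := by
        have := i.2; have := j.2
        rw [abs_lt]; constructor <;> omega
      have h3 := Int.eq_zero_of_abs_lt_dvd h1 h2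
      ext
      omega
  have hΦ : ∀ (c : Fin n → A[T;T⁻¹]) (j : Fin n) (k : ℤ),
      (∑ i : Fin n, u (c i) * LaurentPolynomial.T (i : ℤ)).coeff (n * k + j) = (c j).coeff k := by
    intro c j k
    rw [AddMonoidAlgebra.coeff_sum, Finsupp.finset_sum_apply]
    simp only [hcoef]
    simp
  have hinj2 : ∀ j : Fin n, Function.Injective (fun k : ℤ => (n : ℤ) * k + ((j : ℕ) : ℤ)) := by
    intro j a b h
    simp only [add_left_inj] at h
    exact mul_left_cancel₀ hn0 h
  refine ⟨fun j => AddMonoidAlgebra.comapDomain _ (hinj2 j) q, ?_, ?_⟩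
  · apply LaurentPolynomial.ext
    intro m
    have hm : m = n * (m / n) + ((⟨(m % n).toNat, by
        have := Int.emod_lt_of_pos m (by omega : (0 : ℤ) < n)
        have := Int.emod_nonneg m hn0
        omega⟩ : Fin n) : ℕ) := by
      have := Int.emod_nonneg m hn0
      simp only
      rw [Int.toNat_of_nonneg this]
      exact (Int.mul_ediv_add_emod m n).symm
    rw [hm, hΦ, AddMonoidAlgebra.coeff_comapDomain, Finsupp.comapDomain_apply]
  · intro c' hc'
    funext j
    apply LaurentPolynomial.ext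
    intro k
    rw [← hΦ c' j k, ← hc', AddMonoidAlgebra.coeff_comapDomain, Finsupp.comapDomain_apply]

end Groth.Agent.S5119
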