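import Groth.Statements.S5120
import Groth.Statements.S5120
import Mathlib

set_option autoImplicit false
universe u
open SGA1t

namespace Groth.Agent.S5120

open Polynomial in
/-- The computation behind the exactness of the Artin-Schreier sequence 0 → Z/p → G_a → G_a → 0 in
characteristic p, i.e. faithful flatness of ℘ = id − F: Let p be a prime and A a ring of
characteristic p. Then A[t] is free of rank p over itself via the endomorphism t ↦ t − t^p, with
basis 1, t, …, t^{p−1}: every polynomial q can be written in exactly one way as Σ_{i<p} c_i(t − t^p)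
t^i. -/
theorem result (p : ℕ) [Fact p.Prime] (A : Type u) [CommRing A] [CharP A p]
    (q : A[X]) :
    ∃! c : Fin p → A[X], q = ∑ i : Fin p, aeval (X - X ^ p : A[X]) (c i) * X ^ (i : ℕ) := by
  classical
  have hpp : p.Prime := Fact.out
  have hp : 2 ≤ p := hpp.two_le
  haveI : Nontrivial A := CharP.nontrivial_of_char_ne_one (R := A) (v := p) (by omega)
  let f : A[X][X] := X ^ p + (C (X : A[X]) - X)
  have hdeg : (C (X : A[X]) - X : A[X][X]).degree < (p : WithBot ℕ) := by
    refine lt_of_le_of_lt (Polynomial.degree_sub_le _ _) ?_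
    refine max_lt ?_ ?_
    · exact lt_of_le_of_lt Polynomial.degree_C_le (by exact_mod_cast (by omega : 0 < p))
    · rw [Polynomial.degree_X]; exact_mod_cast (by omega : 1 < p)
  have hmonic : f.Monic := Polynomial.monic_X_pow_add hdeg
  have hnat : f.natDegree = p := by
    have h1 : f.degree = (p : WithBot ℕ) := by
      have : (C (X : A[X]) - X : A[X][X]).degree < ((X : A[X][X]) ^ p).degree := by
        rw [Polynomial.degree_X_pow]; exact hdeg
      rw [show f = X ^ p + (C (X : A[X]) - X) from rfl,
        Polynomial.degree_add_eq_left_of_degree_lt this, Polynomial.degree_X_pow]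
    exact Polynomial.natDegree_eq_of_degree_eq_some h1
  let E := AdjoinRoot f
  let pb : PowerBasis A[X] E := AdjoinRoot.powerBasis' hmonic
  have hdim : pb.dim = p := hnat
  let bs : Module.Basis (Fin p) A[X] E := pb.basis.reindex (finCongr hdim)
  have hbs : ∀ j : Fin p, bs j = (AdjoinRoot.root f) ^ (j : ℕ) := by
    intro j
    simp [bs, pb, PowerBasis.coe_basis]
  let i : A[X] →+* A[X] := (aeval (X - X ^ p : A[X]) : A[X] →ₐ[A] A[X]).toRingHom
  have hi : ∀ b, i b = aeval (X - X ^ p : A[X]) b := fun b => rfl
  have hev : f.eval₂ i (X : A[X]) = 0 := by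
    simp [f, hi, Polynomial.eval₂_add, Polynomial.eval₂_sub]
  let Φ : E →+* A[X] := AdjoinRoot.lift i X hev
  let ψ : A[X] →+* E := Polynomial.eval₂RingHom ((AdjoinRoot.of f).comp C) (AdjoinRoot.root f)
  have hroot : (AdjoinRoot.root f) ^ p + (AdjoinRoot.of f X - AdjoinRoot.root f) = 0 := by
    have := AdjoinRoot.eval₂_root f
    simpa [f, Polynomial.eval₂_add, Polynomial.eval₂_sub] using this
  have h1 : ∀ q : A[X], Φ (ψ q) = q := by
    intro q
    have : (Φ.comp ψ) = RingHom.id _ := by
      apply Polynomial.ringHom_ext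
      · intro a
        simp only [RingHom.comp_apply, ψ, Polynomial.coe_eval₂RingHom, Polynomial.eval₂_C,
          RingHom.id_apply]
        show AdjoinRoot.lift i X hev (AdjoinRoot.of f (C a)) = C a
        rw [AdjoinRoot.lift_of hev, hi, aeval_C]
        rfl
      · simp only [RingHom.comp_apply, ψ, Polynomial.coe_eval₂RingHom, Polynomial.eval₂_X,
          RingHom.id_apply]
        exact AdjoinRoot.lift_root hev
    exact congrArg (fun g => g q) this
  have h2 : ∀ b : A[X], ψ (i b) = AdjoinRoot.of f b := by
    intro b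
    have : (ψ.comp i) = AdjoinRoot.of f := by
      apply Polynomial.ringHom_ext
      · intro a
        simp [ψ, hi]
      · simp only [RingHom.comp_apply, hi, aeval_X, map_sub, map_pow]
        simp only [ψ, Polynomial.coe_eval₂RingHom, Polynomial.eval₂_X]
        linear_combination (-1 : E) * hroot
    exact congrArg (fun g => g b) this
  have hψX : ψ X = AdjoinRoot.root f := by simp [ψ]
  have hΦ : ∀ (b : A[X]) (k : ℕ), Φ (b • (AdjoinRoot.root f) ^ k) = i b * X ^ k := by
    intro b k
    rw [Algebra.smul_def, map_mul, map_pow]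
    show AdjoinRoot.lift i X hev (AdjoinRoot.of f b) * (AdjoinRoot.lift i X hev (AdjoinRoot.root f)) ^ k = _
    rw [AdjoinRoot.lift_of hev, AdjoinRoot.lift_root hev]
  refine ⟨fun j => bs.repr (ψ q) j, ?_, ?_⟩
  · have := bs.sum_repr (ψ q)
    have h3 := congrArg Φ this
    rw [h1, map_sum] at h3
    refine h3.symm.trans (Finset.sum_congr rfl fun j _ => ?_)
    rw [hbs, hΦ, hi]
  · intro c hc
    have h3 := congrArg ψ hc
    rw [map_sum] at h3
    have h4 : ψ q = ∑ j : Fin p, c j • bs j := by
      rw [h3]
      refine Finset.sum_congr rfl fun j _ => ?_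
      rw [map_mul, map_pow, ← hi, h2, hψX, hbs, Algebra.smul_def]
      rfl
    funext j
    rw [h4, bs.repr_sum_self]

end Groth.Agent.S5120
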