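import Groth.Statements.S5132
import Mathlib

set_option autoImplicit false
open CategoryTheory AlgebraicGeometry
universe u
open SGA1

namespace Groth.Agent.S5132

/-- Quasi-compactness of a morphism descends along a surjective and quasi-compact base change; flatness
of the base change is not needed for this property. -/
theorem result :
    MorphismProperty.DescendsAlong @QuasiCompact (@Surjective ⊓ @QuasiCompact : MorphismProperty Scheme.{u}) := by
  constructor
  intro A X Y Z fst snd f g hpb hf hfst
  obtain ⟨hfs, hfq⟩ := hf
  have hsnd : Surjective snd := MorphismProperty.of_isPullback (P := @Surjective) hpb hfs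
  have hcomm : ∀ z : ↑A, f (fst z) = g (snd z) := by
    intro z
    have := congrArg (fun h : A ⟶ Z => h z) hpb.w
    simpa using this
  constructor
  intro U hU hUc
  have h1 : IsCompact (f ⁻¹' U) := hfq.isCompact_preimage U hU hUc
  have h1o : IsOpen (f ⁻¹' U) := hU.preimage f.continuous
  have h2 : IsCompact (fst ⁻¹' (f ⁻¹' U)) := hfst.isCompact_preimage _ h1o h1
  have h3 : g ⁻¹' U = snd '' (fst ⁻¹' (f ⁻¹' U)) := by
    ext x
    constructor
    · intro hx
      obtain ⟨z, rfl⟩ := hsnd.surj x
      refine ⟨z, ?_, rfl⟩
      simp only [Set.mem_preimage] at hx ⊢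
      rwa [hcomm]
    · rintro ⟨z, hz, rfl⟩
      simp only [Set.mem_preimage] at hz ⊢
      rwa [← hcomm]
  rw [h3]
  exact h2.image snd.continuous

end Groth.Agent.S5132
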