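import Groth.Statements.S5140
import Groth.Agent.Lib.helper1.FibCatEquiv

set_option autoImplicit false
open CategoryTheory
universe u v u₂ v₂
open FibCat

namespace Groth.Agent.S5140

/-- If the structure functor of 𝒳 is transportable (isomorphisms of C lift to isomorphisms of 𝒳 with any
prescribed source over their source), then a functor 𝒳 ⟶ 𝒴 over C whose underlying functor is an
equivalence of categories is an equivalence over C. -/
theorem result {C : Type u} [Category.{v} C]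
    {𝒳 𝒴 : BasedCategory.{v₂, u₂} C}
    (h𝒳 : ∀ ⦃T S : C⦄ (α : T ≅ S) (ξ : 𝒳.obj), 𝒳.p.obj ξ = T →
      ∃ (ξ' : 𝒳.obj) (e : ξ ≅ ξ'), 𝒳.p.IsHomLift α.hom e.hom)
    (F : 𝒳 ⥤ᵇ 𝒴) [F.toFunctor.IsEquivalence] : FibCat.IsEquivOver F := by
  rw [Groth.Agent.H1.FC.H1_isEquivOver_iff]
  refine ⟨⟨inferInstance, inferInstance⟩, ?_⟩
  intro η
  -- essential surjectivity of the underlying functor
  let ξ₀ := F.toFunctor.objPreimage η
  let e₀ : F.toFunctor.obj ξ₀ ≅ η := F.toFunctor.objObjPreimageIso η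
  -- the isomorphism of the base under e₀
  let α : 𝒳.p.obj ξ₀ ≅ 𝒴.p.obj η :=
    (eqToIso (F.w_obj ξ₀).symm) ≪≫ 𝒴.p.mapIso e₀
  obtain ⟨ξ', e, he⟩ := h𝒳 α ξ₀ rfl
  refine ⟨ξ', F.toFunctor.mapIso e.symm ≪≫ e₀, ?_⟩
  have h1 : 𝒴.p.IsHomLift α.hom (F.toFunctor.map e.hom) := inferInstance
  have h2 : 𝒴.p.IsHomLift α.inv (F.toFunctor.map e.inv) := by
    have : 𝒴.p.IsHomLift α.hom (F.toFunctor.mapIso e).hom := h1
    exact IsHomLift.inv_lift_inv 𝒴.p α (F.toFunctor.mapIso e)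
  have h3 : 𝒴.p.IsHomLift α.hom e₀.hom := by
    apply IsHomLift.of_fac 𝒴.p α.hom e₀.hom (F.w_obj ξ₀) rfl
    simp [α]
  have h4 : 𝒴.p.IsHomLift (α.inv ≫ α.hom) (F.toFunctor.map e.inv ≫ e₀.hom) := inferInstance
  simpa using h4

end Groth.Agent.S5140
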