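import Groth.Statements.S5148
import Groth.Agent.Lib.helper1.GalTop

set_option autoImplicit false
universe u v w
open CategoryTheory PreGaloisCategory
open Pi1

namespace Groth.Agent.S5148

open CategoryTheory.Limits in
/-- For an exact functor H : C ⥤ C' of Galois categories with compatible fibre functors, the induced
homomorphism u of fundamental groups and a connected object X' of C' with a point a' of its fibre
and stabilizer U': the kernel of u lies in U' if and only if some connected subobject of some H(X)
maps to X'. -/
theorem result {C C' : Type u} [Category.{v} C] [Category.{v} C']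
    [GaloisCategory C] [GaloisCategory C'] (H : C ⥤ C') [PreservesFiniteLimits H] [PreservesFiniteColimits H]
    (F' : C' ⥤ FintypeCat.{w}) [FiberFunctor F'] [FiberFunctor (H ⋙ F')] (X' : C') [IsConnected X']
    (a' : F'.obj X') :
    (Pi1X.autWhisker H F').ker ≤ MulAction.stabilizer (Aut F') a' ↔
      ∃ (X : C) (Y' : C') (i : Y' ⟶ H.obj X) (q : Y' ⟶ X'), Mono i ∧ IsConnected Y' := by
  constructor
  · intro h
    obtain ⟨X, Y', i, q, y, hm, hc, _⟩ :=
      Groth.Agent.H1.GalTop.exists_connected_sub_of_ker_le H F' a' h
    exact ⟨X, Y', i, q, hm, hc⟩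
  · rintro ⟨X, Y', i, q, hm, hc⟩ σ hσ
    rw [MulAction.mem_stabilizer_iff]
    haveI : Nonempty (F'.obj Y') := nonempty_fiber_of_isConnected F' Y'
    obtain ⟨y, rfl⟩ := surjective_of_nonempty_fiber_of_isConnected F' q a'
    rw [mulAction_naturality, Groth.Agent.H1.GalTop.ker_smul_eq_of_mono H F' i σ hσ y]

end Groth.Agent.S5148
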