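import Groth.Statements.S5149
import Groth.Agent.Lib.helper1.GalTop
import Groth.Agent.Lib.helper1.GalOS

set_option autoImplicit false
universe u v w
open CategoryTheory PreGaloisCategory
open Pi1

namespace Groth.Agent.S5149

open CategoryTheory.Limits in
/-- For exact functors H : C ⥤ C', H' : C' ⥤ C'' of Galois categories with compatible fibre functors and
induced homomorphisms u' and u of fundamental groups, the kernel of u is contained in the image of
u' if and only if every pointed connected object (X', a') of C' for which H'(X') has a section from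
the final object through a' admits a morphism from a connected subobject of some H(X). (The
published statement writes this inclusion as Ker u ⊇ Im u', which is the condition that u ∘ u' be
trivial; this row states Ker u ⊆ Im u', which is what the published argument establishes.) -/
theorem result {C C' C'' : Type u} [Category.{v} C] [Category.{v} C'] [Category.{v} C'']
    [GaloisCategory C] [GaloisCategory C'] [GaloisCategory C'']
    (H : C ⥤ C') [PreservesFiniteLimits H] [PreservesFiniteColimits H]
    (H' : C' ⥤ C'') [PreservesFiniteLimits H'] [PreservesFiniteColimits H']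
    (F'' : C'' ⥤ FintypeCat.{w}) [FiberFunctor F''] [FiberFunctor (H' ⋙ F'')] [FiberFunctor (H ⋙ (H' ⋙ F''))] :
    (Pi1X.autWhisker H (H' ⋙ F'')).ker ≤ (Pi1X.autWhisker H' F'').range ↔
      ∀ (X' : C') (a' : (H' ⋙ F'').obj X'), IsConnected X' →
        (∃ s : ⊤_ C'' ⟶ H'.obj X', ∀ t : F''.obj (⊤_ C''), F''.map s t = a') →
          ∃ (X : C) (Y' : C') (i : Y' ⟶ H.obj X) (q : Y' ⟶ X'), Mono i ∧ IsConnected Y' := by
  constructor
  · intro h X' a' hX' hs
    obtain ⟨s, hs⟩ := hs
    have hR : (Pi1X.autWhisker H' F'').range ≤ MulAction.stabilizer (Aut (H' ⋙ F'')) a' := by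
      rw [Groth.Agent.H1.GalFun.range_le_stabilizer_iff]
      intro σ
      exact Groth.Agent.H1.GalFun.fixed_of_section F'' (show F''.obj (H'.obj X') from a') s hs σ
    obtain ⟨X, Y', i, q, y, hm, hc, _⟩ :=
      Groth.Agent.H1.GalTop.exists_connected_sub_of_ker_le H (H' ⋙ F'') a' (le_trans h hR)
    exact ⟨X, Y', i, q, hm, hc⟩
  · intro h σ hσ
    by_contra hcon
    have hcl : IsClosed (((Pi1X.autWhisker H' F'').range : Subgroup (Aut (H' ⋙ F''))) :
        Set (Aut (H' ⋙ F''))) :=
      Groth.Agent.H1.GalTop.isClosed_range_autWhisker H' F''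
    obtain ⟨X', a', hX', hR, hnot⟩ :=
      Groth.Agent.H1.GalOS.exists_connected_stabilizer_separating (H' ⋙ F'')
        (Pi1X.autWhisker H' F'').range hcl σ hcon
    have hfix : ∀ τ : Aut F'', (τ • (show F''.obj (H'.obj X') from a') : F''.obj (H'.obj X')) = a' :=
      (Groth.Agent.H1.GalFun.range_le_stabilizer_iff H' F'' X' a').1 hR
    obtain ⟨s, hs⟩ := Groth.Agent.H1.GalFun.exists_section_of_fixed F''
      (show F''.obj (H'.obj X') from a') hfix
    obtain ⟨X, Y', i, q, hm, hc⟩ := h X' a' hX' ⟨s, hs⟩
    exact hnot (Groth.Agent.H1.GalTop.ker_le_stabilizer_of_connected_sub H (H' ⋙ F'') a' i q hσ)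

end Groth.Agent.S5149
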