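import Groth.Statements.S5157
import Groth.Statements.S5157
import Mathlib

set_option autoImplicit false
universe u
open Matlis

namespace Groth.Agent.S5157

/-- Let A be a Noetherian local ring, a an ideal with A/a local (i.e. a ≠ A) and E an injective hull of
the residue field of A. Then the annihilator of a in E, E[a] = {e | a e = 0}, is an injective hull
of the residue field of A/a over A/a. -/
theorem result (A : Type u) [CommRing A] [IsLocalRing A] [IsNoetherianRing A] (a : Ideal A) [IsLocalRing (A ⧸ a)] (E : Type u) [AddCommGroup E] [Module A E] (f : IsLocalRing.ResidueField A →ₗ[A] E) (hf : InjHull.IsInjectiveHull f) : ∃ g : IsLocalRing.ResidueField (A ⧸ a) →ₗ[A ⧸ a] (LocCoh.torsionBy a E), InjHull.IsInjectiveHull g := by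
  classical
  set m := IsLocalRing.maximalIdeal A with hm
  haveI := hf.isInjective
  let T : Submodule A E := LocCoh.torsionBy a E
  have memT : ∀ y : E, y ∈ T ↔ ∀ r ∈ a, r • y = 0 := by
    intro y
    change y ∈ Submodule.torsionBySet A E (a : Set A) ↔ _
    rw [Submodule.mem_torsionBySet_iff]
    exact ⟨fun h r hr => h ⟨r, hr⟩, fun h r => h r.1 r.2⟩
  have ha_ne : a ≠ ⊤ := Ideal.Quotient.nontrivial_iff.1 inferInstance
  have ha_le : a ≤ m := IsLocalRing.le_maximalIdeal ha_ne
  set e₀ : E := f 1 with he₀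
  have he₀m : ∀ r ∈ m, r • e₀ = 0 := by
    intro r hr
    rw [he₀, ← map_smul, Algebra.smul_def, IsLocalRing.ResidueField.algebraMap_eq,
      (IsLocalRing.residue_eq_zero_iff r).2 hr, zero_mul, map_zero]
  have he₀ne : e₀ ≠ 0 := by
    intro h
    have := hf.injective (h.trans (map_zero f).symm)
    exact one_ne_zero this
  have he₀T : e₀ ∈ T := (memT _).2 fun r hr => he₀m r (ha_le hr)
  let e₀T : T := ⟨e₀, he₀T⟩
  have hsm : ∀ (r : A) (y : T), (Ideal.Quotient.mk a r) • y = r • y := fun r y => rfl
  let ψ : (A ⧸ a) →ₗ[A ⧸ a] T := LinearMap.toSpanSingleton (A ⧸ a) T e₀T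
  have hmem_max : ∀ r : A, Ideal.Quotient.mk a r ∈ IsLocalRing.maximalIdeal (A ⧸ a) ↔ r ∈ m := by
    intro r
    rw [IsLocalRing.mem_maximalIdeal, IsLocalRing.mem_maximalIdeal, mem_nonunits_iff, mem_nonunits_iff,
      not_iff_not]
    constructor
    · intro h
      by_contra hr
      have hr' : r ∈ m := hr
      -- mk r is a unit but r ∈ m: then 1 ∈ a + m = m
      obtain ⟨u, hu⟩ := h.exists_right_inv
      obtain ⟨s, rfl⟩ := Ideal.Quotient.mk_surjective u
      rw [← map_mul, ← map_one (Ideal.Quotient.mk a), Ideal.Quotient.eq] at hu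
      have h1 : r * s - 1 ∈ m := ha_le hu
      have h2 : r * s ∈ m := m.mul_mem_right s hr'
      have h3 : (1 : A) ∈ m := by
        have := m.sub_mem h2 h1
        simpa using this
      exact (Ideal.ne_top_iff_one m).1 (IsLocalRing.maximalIdeal.isMaximal A).ne_top h3
    · intro h
      exact h.map (Ideal.Quotient.mk a)
  have hker : IsLocalRing.maximalIdeal (A ⧸ a) ≤ LinearMap.ker ψ := by
    intro x hx
    obtain ⟨r, rfl⟩ := Ideal.Quotient.mk_surjective x
    rw [LinearMap.mem_ker, LinearMap.toSpanSingleton_apply, hsm]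
    apply Subtype.ext
    rw [Submodule.coe_smul, Submodule.coe_zero]
    exact he₀m r ((hmem_max r).1 hx)
  let g : IsLocalRing.ResidueField (A ⧸ a) →ₗ[A ⧸ a] T :=
    Submodule.liftQ (IsLocalRing.maximalIdeal (A ⧸ a)) ψ hker
  have hg_mk : ∀ r : A, g (Submodule.Quotient.mk (Ideal.Quotient.mk a r)) = r • e₀T := by
    intro r
    change Submodule.liftQ _ ψ hker (Submodule.Quotient.mk _) = _
    rw [Submodule.liftQ_apply, LinearMap.toSpanSingleton_apply, hsm]
  have hsurj : ∀ x : IsLocalRing.ResidueField (A ⧸ a), ∃ r : A,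
      x = Submodule.Quotient.mk (Ideal.Quotient.mk a r) := by
    intro x
    obtain ⟨y, rfl⟩ := Submodule.Quotient.mk_surjective _ x
    obtain ⟨r, rfl⟩ := Ideal.Quotient.mk_surjective y
    exact ⟨r, rfl⟩
  refine ⟨g, ⟨⟨?_, ?_⟩, ?_⟩⟩
  · -- injective
    rw [injective_iff_map_eq_zero]
    intro x hx
    obtain ⟨r, rfl⟩ := hsurj x
    rw [hg_mk] at hx
    suffices hr' : r ∈ m from
      (Submodule.Quotient.mk_eq_zero (p := IsLocalRing.maximalIdeal (A ⧸ a))).2 ((hmem_max r).2 hr')
    by_contra hr
    have hu : IsUnit r := by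
      by_contra h
      exact hr h
    have h0 : r • e₀ = 0 := by
      have := congrArg Subtype.val hx
      simpa using this
    have : e₀ = 0 := by
      have := congrArg (fun z => (↑hu.unit⁻¹ : A) • z) h0
      simpa [smul_smul] using this
    exact he₀ne this
  · -- essential
    intro N hN
    obtain ⟨y, hyN, hy0⟩ := Submodule.exists_mem_ne_zero_of_ne_bot hN
    have hyE : (y : E) ≠ 0 := fun h => hy0 (Subtype.ext h)
    have hne : Submodule.span A {(y : E)} ≠ ⊥ := by
      rw [Ne, Submodule.span_singleton_eq_bot]; exact hyE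
    have hess := hf.essential _ hne
    obtain ⟨z, hz, hz0⟩ := Submodule.exists_mem_ne_zero_of_ne_bot hess
    obtain ⟨hz1, hz2⟩ := Submodule.mem_inf.1 hz
    obtain ⟨s, rfl⟩ := Submodule.mem_span_singleton.1 hz1
    obtain ⟨k, hk⟩ := hz2
    obtain ⟨t, rfl⟩ := IsLocalRing.residue_surjective k
    have hk' : t • e₀ = s • (y : E) := by
      rw [← hk, he₀, ← map_smul, Algebra.smul_def, IsLocalRing.ResidueField.algebraMap_eq, mul_one]
    intro hbot
    have hmem : s • y ∈ N ⊓ LinearMap.range g := by
      refine ⟨?_, ?_⟩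
      · rw [← hsm]; exact N.smul_mem _ hyN
      · refine ⟨Submodule.Quotient.mk (Ideal.Quotient.mk a t), ?_⟩
        rw [hg_mk]
        apply Subtype.ext
        rw [Submodule.coe_smul, Submodule.coe_smul]
        exact hk'
    rw [hbot, Submodule.mem_bot] at hmem
    apply hz0
    have := congrArg Subtype.val hmem
    simpa using this
  · -- injective module over A ⧸ a (Baer)
    apply Module.Baer.injective
    intro J φ
    -- pull back to A
    let J' : Ideal A := Ideal.comap (Ideal.Quotient.mk a) J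
    let φ' : J' →ₗ[A] E :=
      { toFun := fun r => ((φ ⟨Ideal.Quotient.mk a r.1, r.2⟩ : T) : E)
        map_add' := by
          intro r s
          have : (⟨Ideal.Quotient.mk a (r + s : J').1, (r + s).2⟩ : J) =
            ⟨Ideal.Quotient.mk a r.1, r.2⟩ + ⟨Ideal.Quotient.mk a s.1, s.2⟩ := by
            apply Subtype.ext; simp
          rw [this, map_add, Submodule.coe_add]
        map_smul' := by
          intro c r
          have : (⟨Ideal.Quotient.mk a (c • r : J').1, (c • r).2⟩ : J) =
            (Ideal.Quotient.mk a c) • ⟨Ideal.Quotient.mk a r.1, r.2⟩ := by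
            apply Subtype.ext; simp
          rw [this, map_smul, hsm, Submodule.coe_smul, RingHom.id_apply] }
    obtain ⟨h, hh⟩ := (Module.Baer.of_injective (inferInstance : Module.Injective A E)) J' φ'
    set e₁ : E := h 1 with he₁
    have hJ'a : a ≤ J' := by
      intro r hr
      change Ideal.Quotient.mk a r ∈ J
      rw [Ideal.Quotient.eq_zero_iff_mem.2 hr]; exact J.zero_mem
    have hre₁ : ∀ r (hr : r ∈ J'), r • e₁ = ((φ ⟨Ideal.Quotient.mk a r, hr⟩ : T) : E) := by
      intro r hr
      rw [he₁, ← map_smul, smul_eq_mul, mul_one, hh r hr]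
      rfl
    have he₁T : e₁ ∈ T := by
      rw [memT]
      intro r hr
      rw [hre₁ r (hJ'a hr)]
      have : (⟨Ideal.Quotient.mk a r, hJ'a hr⟩ : J) = 0 := by
        apply Subtype.ext
        simpa using Ideal.Quotient.eq_zero_iff_mem.2 hr
      rw [this, map_zero, Submodule.coe_zero]
    refine ⟨LinearMap.toSpanSingleton (A ⧸ a) T ⟨e₁, he₁T⟩, ?_⟩
    intro x hx
    obtain ⟨r, rfl⟩ := Ideal.Quotient.mk_surjective x
    rw [LinearMap.toSpanSingleton_apply, hsm]
    apply Subtype.ext
    rw [Submodule.coe_smul]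
    exact hre₁ r hx

end Groth.Agent.S5157
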