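import Groth.Statements.S5158
import Groth.Statements.S5158
import Groth.Agent.Lib.helper9.H9_ComplTorsion

set_option autoImplicit false
universe u
open scoped TensorProduct
open Matlis

namespace Groth.Agent.S5158

/-- Let A be a Noetherian local ring, Â its m-adic completion and I an m-power torsion A-module (a union
of submodules of finite length). Then x ↦ 1 ⊗ x is a bijection I → Â ⊗_A I. -/
theorem result (A : Type u) [CommRing A] [IsLocalRing A] [IsNoetherianRing A] (I : Type u) [AddCommGroup I] [Module A I] (hI : LocCoh.IsPowerTorsion (IsLocalRing.maximalIdeal A) I) : Function.Bijective (TensorProduct.mk A (AdicCompletion (IsLocalRing.maximalIdeal A) A) I 1) := by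
  have hI' : ∀ y : I, ∃ n : ℕ, ∀ a ∈ IsLocalRing.maximalIdeal A ^ n, a • y = 0 := hI
  exact ⟨Groth.Agent.H9.ComplTorsion.mk_one_injective _ hI',
    Groth.Agent.H9.ComplTorsion.mk_one_surjective _ hI'
      (IsNoetherian.noetherian (IsLocalRing.maximalIdeal A))⟩

end Groth.Agent.S5158
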