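import Groth.Statements.S5163
import Groth.Statements.S5163
import Mathlib

set_option autoImplicit false
universe u
open LocCoh

namespace Groth.Agent.S5163

/-- For modules over a Noetherian ring. Let P be a finite A-module and H any A-module with Supp H ⊆ Supp
P. If Hom_A(P, H) = 0 then H = 0. (The published lemma is stated over an arbitrary prescheme; its
proof uses that a nonzero module has an associated prime, so the ring is taken Noetherian here.) -/
theorem result (A : Type u) [CommRing A] [IsNoetherianRing A] (P H : Type u) [AddCommGroup P] [Module A P] [Module.Finite A P] [AddCommGroup H] [Module A H] (hsupp : Module.support A H ⊆ Module.support A P) (hhom : Subsingleton (P →ₗ[A] H)) : Subsingleton H := by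
  classical
  by_contra hH
  rw [not_subsingleton_iff_nontrivial] at hH
  obtain ⟨p, hp⟩ := associatedPrimes.nonempty A H
  obtain ⟨hpp, ι, hι⟩ := (isAssociatedPrime_iff_exists_injective_linearMap p H).1 hp
  haveI := hpp
  let 𝔭 : PrimeSpectrum A := ⟨p, hpp⟩
  -- `p` is in the support of `H`, hence of `P`
  have h1 : 𝔭 ∈ Module.support A (A ⧸ p) := by
    rw [Module.mem_support_iff_of_finite, Ideal.annihilator_quotient]
  have h2 : 𝔭 ∈ Module.support A P := hsupp (Module.support_subset_of_injective ι hι h1)
  rw [Module.mem_support_iff_nontrivial_residueField_tensorProduct] at h2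
  -- a pure tensor `1 ⊗ x₀ ≠ 0`
  obtain ⟨x₀, hx₀⟩ : ∃ x₀ : P, TensorProduct.tmul A (1 : p.ResidueField) x₀ ≠ 0 := by
    by_contra hcon
    push Not at hcon
    have : ∀ t : TensorProduct A p.ResidueField P, t = 0 := by
      intro t
      induction t using TensorProduct.induction_on with
      | zero => rfl
      | tmul c x =>
        have : TensorProduct.tmul A c x = c • TensorProduct.tmul A (1 : p.ResidueField) x := by
          rw [TensorProduct.smul_tmul', smul_eq_mul, mul_one]
        rw [this, hcon x, smul_zero]
      | add a b ha hb => rw [ha, hb, add_zero]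
    obtain ⟨a, b, hab⟩ := h2
    exact hab ((this a).trans (this b).symm)
  obtain ⟨lam, hlam⟩ := Module.Projective.exists_dual_ne_zero p.ResidueField hx₀
  -- the `A`-linear map `P → κ(p)`
  let g : P →ₗ[A] p.ResidueField :=
    (lam.restrictScalars A) ∘ₗ (TensorProduct.mk A p.ResidueField P 1)
  have hg0 : g x₀ ≠ 0 := hlam
  -- clear denominators
  obtain ⟨s, hs⟩ := (Module.finite_def.1 (inferInstance : Module.Finite A P))
  obtain ⟨b, hb⟩ := IsLocalization.exist_integer_multiples_of_finset
    (nonZeroDivisors (A ⧸ p)) (s.image g)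
  obtain ⟨b', hb'⟩ := Ideal.Quotient.mk_surjective (b : A ⧸ p)
  let ι' : (A ⧸ p) →ₗ[A] p.ResidueField :=
    (IsScalarTower.toAlgHom A (A ⧸ p) p.ResidueField).toLinearMap
  have hι' : Function.Injective ι' := Ideal.injective_algebraMap_quotient_residueField p
  have hsm : ∀ z : p.ResidueField, b' • z = (b : A ⧸ p) • z := by
    intro z
    rw [← hb']
    rw [Algebra.smul_def, Algebra.smul_def, IsScalarTower.algebraMap_apply A (A ⧸ p) p.ResidueField]
    rfl
  have hrange : ∀ x : P, b' • g x ∈ LinearMap.range ι' := by
    intro x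
    have hx : x ∈ Submodule.span A (s : Set P) := by rw [hs]; trivial
    refine Submodule.span_induction (p := fun x _ => b' • g x ∈ LinearMap.range ι') ?_ ?_ ?_ ?_ hx
    · intro y hy
      obtain ⟨a, ha⟩ := hb (g y) (Finset.mem_image_of_mem g hy)
      refine ⟨a, ?_⟩
      rw [hsm]
      exact ha
    · rw [map_zero, smul_zero]; exact zero_mem _
    · intro u v _ _ hu hv
      rw [map_add, smul_add]; exact add_mem hu hv
    · intro c u _ hu
      rw [map_smul, smul_comm]; exact Submodule.smul_mem _ c hu
  let g' : P →ₗ[A] (A ⧸ p) :=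
    (LinearEquiv.ofInjective ι' hι').symm.toLinearMap ∘ₗ
      (LinearMap.codRestrict (LinearMap.range ι') (b' • g) hrange)
  have hg' : ∀ x, ι' (g' x) = b' • g x := by
    intro x
    have := (LinearEquiv.ofInjective ι' hι').apply_symm_apply
      ((LinearMap.codRestrict (LinearMap.range ι') (b' • g) hrange) x)
    exact congrArg Subtype.val this
  have hg'0 : g' x₀ ≠ 0 := by
    intro h
    have h3 := hg' x₀
    rw [h, map_zero, hsm, Algebra.smul_def] at h3
    have hb0 : algebraMap (A ⧸ p) p.ResidueField (b : A ⧸ p) ≠ 0 :=
      IsFractionRing.to_map_ne_zero_of_mem_nonZeroDivisors b.2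
    exact (mul_ne_zero hb0 hg0) h3.symm
  have hne : (ι ∘ₗ g') x₀ ≠ 0 := by
    intro h
    apply hg'0
    rw [LinearMap.comp_apply, ← map_zero ι] at h
    exact hι h
  exact hne (by rw [Subsingleton.elim (ι ∘ₗ g') 0, LinearMap.zero_apply])

end Groth.Agent.S5163
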