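import Groth.Statements.S5166
import Groth.Statements.S5166
import Groth.Agent.Lib.helper9.H9_DimOne

set_option autoImplicit false
universe u
open LocCoh

namespace Groth.Agent.S5166

/-- In its local form at a point y ∈ Y (A = O_{X,y}). Let A be a Noetherian local ring and I ≠ A an
ideal contained in no minimal prime of A. Then some prime p ⊉ I has dim A/p = 1. -/
theorem result (A : Type u) [CommRing A] [IsLocalRing A] [IsNoetherianRing A] (I : Ideal A) (hI : I ≠ ⊤) (hdense : ∀ q ∈ minimalPrimes A, ¬ I ≤ q) : ∃ p : PrimeSpectrum A, ¬ I ≤ p.asIdeal ∧ ringKrullDim (A ⧸ p.asIdeal) = 1 := by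
  classical
  obtain ⟨⟨q0, hq0⟩⟩ : Nonempty (minimalPrimes A) :=
    Ideal.nonempty_minimalPrimes (I := (⊥ : Ideal A)) bot_ne_top
  let S : Set (Ideal A) := {q | q.IsPrime ∧ ¬ I ≤ q}
  have hS : S.Nonempty := ⟨q0, hq0.1.1, hdense q0 hq0⟩
  obtain ⟨p', hpS', hpmax'⟩ := (set_has_maximal_iff_noetherian (R := A) (M := A)).mpr inferInstance S hS
  obtain ⟨p, hpS, hpmax⟩ : ∃ p : Ideal A, p ∈ S ∧ ∀ J ∈ S, ¬ p < J := ⟨p', hpS', hpmax'⟩
  haveI hpp : p.IsPrime := hpS.1
  haveI : IsDomain (A ⧸ p) := Ideal.Quotient.isDomain p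
  refine ⟨⟨p, hpp⟩, hpS.2, ?_⟩
  show ringKrullDim (A ⧸ p) = 1
  obtain ⟨a, haI, hap⟩ := SetLike.not_le_iff_exists.mp hpS.2
  haveI : Nontrivial (A ⧸ p) := Ideal.Quotient.nontrivial_iff.mpr hpp.ne_top
  haveI : IsLocalHom (Ideal.Quotient.mk p) :=
    IsLocalHom.of_surjective (Ideal.Quotient.mk p) Ideal.Quotient.mk_surjective
  haveI : IsLocalRing (A ⧸ p) :=
    IsLocalRing.of_surjective' (Ideal.Quotient.mk p) Ideal.Quotient.mk_surjective
  have ha0 : Ideal.Quotient.mk p a ≠ 0 := fun h0 => hap (Ideal.Quotient.eq_zero_iff_mem.mp h0)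
  have ham : Ideal.Quotient.mk p a ∈ IsLocalRing.maximalIdeal (A ⧸ p) := by
    rw [IsLocalRing.mem_maximalIdeal, mem_nonunits_iff]
    intro hu
    have : IsUnit a := IsUnit.of_map (Ideal.Quotient.mk p) a hu
    exact (IsLocalRing.mem_maximalIdeal a).mp (IsLocalRing.le_maximalIdeal hI haI) this
  have hmem : ∀ P : Ideal (A ⧸ p), P.IsPrime → P ≠ ⊥ → Ideal.Quotient.mk p a ∈ P := by
    intro P hP hP0
    have hcomap_prime : (P.comap (Ideal.Quotient.mk p)).IsPrime := Ideal.comap_isPrime _ P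
    have hle : p ≤ P.comap (Ideal.Quotient.mk p) := by
      intro x hx
      rw [Ideal.mem_comap, Ideal.Quotient.eq_zero_iff_mem.mpr hx]
      exact P.zero_mem
    have hne : p ≠ P.comap (Ideal.Quotient.mk p) := by
      intro heq
      apply hP0
      rw [← Ideal.map_comap_of_surjective (Ideal.Quotient.mk p) Ideal.Quotient.mk_surjective P,
        ← heq, Ideal.map_quotient_self]
    have hlt : p < P.comap (Ideal.Quotient.mk p) := lt_of_le_of_ne hle hne
    have hnotS : P.comap (Ideal.Quotient.mk p) ∉ S := fun hin => hpmax _ hin hlt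
    have hIle : I ≤ P.comap (Ideal.Quotient.mk p) := by
      by_contra hcon
      exact hnotS ⟨hcomap_prime, hcon⟩
    exact hIle haI
  have hall := Groth.Agent.H9_DimOne.eq_maximalIdeal_of_forall_mem _ ha0 ham hmem
  rw [ringKrullDim_eq_one_iff_of_isLocalRing_isDomain]
  refine ⟨?_, ?_⟩
  · rw [IsLocalRing.isField_iff_maximalIdeal_eq]
    intro hbot
    rw [hbot, Ideal.mem_bot] at ham
    exact ha0 ham
  · intro x hx
    rw [Ideal.radical_eq_sInf]
    refine le_sInf (fun J ⟨hJ1, hJ2⟩ => ?_)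
    have hJ0 : J ≠ ⊥ := by
      intro h0
      have : x ∈ J := hJ1 (Ideal.mem_span_singleton_self x)
      rw [h0, Ideal.mem_bot] at this
      exact hx this
    exact le_of_eq (hall J hJ2 hJ0).symm

end Groth.Agent.S5166
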