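import Groth.Statements.S5212
import Mathlib

set_option autoImplicit false
universe u
open GrpQ

namespace Groth.Agent.S5212

/-- For `A'` finite and free as an `A`-module, a prime `p` of `A` and `a ∈ A'`, the element `a` belongs
to some prime of `A'` lying over `p` if and only if its norm belongs to `p`. (The published
statement allows `A'` projective of constant rank over `A`; this row takes `A'` free, where the norm
is the determinant of multiplication.) -/
theorem result {A A' : Type u} [CommRing A] [CommRing A'] [Algebra A A']
    [Module.Free A A'] [Module.Finite A A'] (p : Ideal A) [p.IsPrime] (a : A') :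
    (∃ q : Ideal A', q.IsPrime ∧ q.LiesOver p ∧ a ∈ q) ↔ Algebra.norm A a ∈ p := by
  classical
  constructor
  · -- Cayley–Hamilton direction
    rintro ⟨q, hq, hqp, haq⟩
    set f := Algebra.lmul A A' a with hf
    have hCH : Polynomial.aeval f f.charpoly = 0 := LinearMap.aeval_self_charpoly f
    have h1 : Polynomial.aeval a f.charpoly = 0 := by
      have h2 : Polynomial.aeval f f.charpoly = Algebra.lmul A A' (Polynomial.aeval a f.charpoly) := by
        rw [hf, Polynomial.aeval_algHom_apply]
      rw [h2] at hCH
      have := congrArg (fun g : A' →ₗ[A] A' => g 1) hCH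
      simpa using this
    rw [← Polynomial.divX_mul_X_add f.charpoly] at h1
    simp only [map_add, map_mul, Polynomial.aeval_X, Polynomial.aeval_C] at h1
    have h3 : algebraMap A A' (f.charpoly.coeff 0) ∈ q := by
      have : algebraMap A A' (f.charpoly.coeff 0) = -(Polynomial.aeval a f.charpoly.divX * a) :=
        eq_neg_of_add_eq_zero_right h1
      rw [this]
      exact q.neg_mem (q.mul_mem_left _ haq)
    have h4 : f.charpoly.coeff 0 ∈ p := by
      rw [hqp.over]
      exact h3
    rw [Algebra.norm_apply, LinearMap.det_eq_sign_charpoly_coeff]
    exact p.mul_mem_left _ h4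
  · intro hN
    -- pass to the fibre
    set κ := p.ResidueField with hκ
    set c : TensorProduct A κ A' := TensorProduct.tmul A (1 : κ) a with hc
    set T : TensorProduct A κ A' →ₗ[κ] TensorProduct A κ A' :=
      (Algebra.lmul A A' a).baseChange κ with hT
    have hdet : LinearMap.det T = 0 := by
      rw [hT, LinearMap.det_baseChange]
      have : LinearMap.det (Algebra.lmul A A' a) = Algebra.norm A a := rfl
      rw [this]
      exact Ideal.algebraMap_residueField_eq_zero.mpr hN
    have hTmul : ∀ y, T y = c * y := by
      intro y
      induction y using TensorProduct.induction_on with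
      | zero => simp
      | tmul k x =>
        rw [hT, LinearMap.baseChange_tmul, hc, Algebra.TensorProduct.tmul_mul_tmul, one_mul]
        rfl
      | add x y hx hy => rw [map_add, hx, hy, mul_add]
    have hcnu : ¬ IsUnit c := by
      intro hcu
      have hTu : IsUnit T := by
        obtain ⟨d, hd⟩ := hcu.exists_right_inv
        refine (Module.End.isUnit_iff T).mpr ⟨?_, ?_⟩
        · intro y z hyz
          rw [hTmul, hTmul] at hyz
          have := congrArg (fun w => d * w) hyz
          simp only [← mul_assoc, mul_comm d c, hd, one_mul] at this
          exact this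
        · intro y
          refine ⟨d * y, ?_⟩
          rw [hTmul, ← mul_assoc, hd, one_mul]
      have := (LinearMap.isUnit_iff_isUnit_det T).mp hTu
      rw [hdet] at this
      exact not_isUnit_zero this
    obtain ⟨Q, hQ, hcQ⟩ := exists_max_ideal_of_mem_nonunits hcnu
    haveI := hQ.isPrime
    refine ⟨Q.comap (Algebra.TensorProduct.includeRight : A' →ₐ[A] TensorProduct A κ A').toRingHom,
      Ideal.comap_isPrime _ _, ⟨?_⟩, ?_⟩
    · -- lies over p
      rw [Ideal.under_def, Ideal.comap_comap]
      have e1 : ((Algebra.TensorProduct.includeRight : A' →ₐ[A] TensorProduct A κ A').toRingHom).comp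
          (algebraMap A A') = (algebraMap κ (TensorProduct A κ A')).comp (algebraMap A κ) := by
        ext x
        simp [Algebra.TensorProduct.algebraMap_apply, Algebra.algebraMap_eq_smul_one,
          TensorProduct.smul_tmul]
      rw [e1, ← Ideal.comap_comap]
      have e2 : Q.comap (algebraMap κ (TensorProduct A κ A')) = ⊥ := by
        rcases Ideal.eq_bot_or_top (Q.comap (algebraMap κ (TensorProduct A κ A'))) with h | h
        · exact h
        · exfalso
          have : (1 : κ) ∈ Q.comap (algebraMap κ (TensorProduct A κ A')) := by rw [h]; trivial
          rw [Ideal.mem_comap, map_one] at this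
          exact hQ.ne_top ((Ideal.eq_top_iff_one Q).mpr this)
      rw [e2]
      exact (Ideal.ker_algebraMap_residueField (I := p)).symm
    · exact hcQ

end Groth.Agent.S5212
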