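import Groth.Statements.S5215
import Mathlib
import Groth.Agent.Lib.helper2.DescCat

set_option autoImplicit false
open CategoryTheory CategoryTheory.Limits
universe w v₁ u₁
open DescCat

namespace Groth.Agent.S5215

/-- In a category with pullbacks: for a universally effective equivalence relation `p₁, p₂ : R ⇉ X` with
quotient map `π : X ⟶ X/R` and a morphism `g` out of the quotient, `g` is a monomorphism if and only
if `R` is the kernel pair of `π ≫ g`. -/
theorem result {C : Type u₁} [Category.{v₁} C] [HasPullbacks C]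
    {R X Z : C} {p₁ p₂ : R ⟶ X} (e : UniversallyEffectiveEquivalenceRelation p₁ p₂)
    (f : X ⟶ Z) (g : e.B ⟶ Z) (hg : e.π ≫ g = f) :
    Mono g ↔ IsKernelPair f p₁ p₂ := by
  subst hg
  constructor
  · intro hm
    exact e.isKernelPair.comp_of_mono
  · intro hk
    constructor
    intro T a b hab
    obtain ⟨T', c, α, β, hc, hα, hβ⟩ := Groth.Agent.H2.H2_exists_cover_pair e.π
      (Groth.Agent.H2.H2_UEE_le_universally_epi _ e.universally_effectiveEpi_π) a b
    have hαβ : α ≫ e.π ≫ g = β ≫ e.π ≫ g := by
      rw [← Category.assoc, hα, ← Category.assoc β, hβ, Category.assoc, Category.assoc, hab]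
    have hr1' : hk.lift α β hαβ ≫ p₁ = α := hk.lift_fst _ _ _
    have hr2' : hk.lift α β hαβ ≫ p₂ = β := hk.lift_snd _ _ _
    have h3 : α ≫ e.π = β ≫ e.π := by
      calc α ≫ e.π = (hk.lift α β hαβ ≫ p₁) ≫ e.π := by rw [hr1']
        _ = (hk.lift α β hαβ ≫ p₂) ≫ e.π := by
          rw [Category.assoc, Category.assoc, e.isKernelPair.w]
        _ = β ≫ e.π := by rw [hr2']
    rw [hα, hβ] at h3
    exact (cancel_epi c).mp h3

end Groth.Agent.S5215
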