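import Groth.Statements.S5216
import Mathlib
import Groth.Agent.Lib.helper1.SheafEqRel

set_option autoImplicit false
open CategoryTheory CategoryTheory.Limits
universe w v₁ u₁
open ShfCat

open Groth.Agent.H1.ShEq in
theorem H1_psh_univEff (C : Type u₁) [Category.{v₁} C]
    {R X : Cᵒᵖ ⥤ Type w} (p₁ p₂ : R ⟶ X) (E : EquivalenceRelation p₁ p₂) :
    IsUniversallyEffectiveEquivalenceRelation p₁ p₂ := by
  have hjm : ∀ U : Cᵒᵖ, JointlyMono₂ (p₁.app U) (p₂.app U) := fun U =>
    jointlyMono_map ((evaluation Cᵒᵖ (Type w)).obj U) p₁ p₂ E.toJointlyMono₂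
  have heq : ∀ U : Cᵒᵖ, Equivalence (TypeCat.Rel.ofPair (p₁.app U) (p₂.app U)) := fun U =>
    TypeCat.equivalence_of_equivalenceRelation (eqMap E ((evaluation Cᵒᵖ (Type w)).obj U) (hjm U))
  have hk : IsPullback p₁ p₂ (coequalizer.π p₁ p₂) (coequalizer.π p₁ p₂) := by
    refine IsPullback.of_forall_isPullback_app fun U => ?_
    rw [Types.isPullback_iff]
    have hw : p₁.app U ≫ (coequalizer.π p₁ p₂).app U =
        p₂.app U ≫ (coequalizer.π p₁ p₂).app U := by
      rw [← NatTrans.comp_app, ← NatTrans.comp_app, coequalizer.condition]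
    refine ⟨hw, ?_, ?_⟩
    · rintro x y ⟨h₁, h₂⟩
      have := (hjm U).right_cancellation (Y := PUnit.{w+1}) (↾fun _ => x) (↾fun _ => y)
        (by ext; exact h₁) (by ext; exact h₂)
      exact ConcreteCategory.congr_hom this PUnit.unit
    · intro x x' hx
      have hcol : IsColimit (Cofork.ofπ ((coequalizer.π p₁ p₂).app U) hw) :=
        isColimitCoforkMapOfIsColimit ((evaluation Cᵒᵖ (Type w)).obj U)
          (coequalizer.condition p₁ p₂) (coequalizerIsCoequalizer p₁ p₂)
      exact rel_of_isColimit hw hcol (heq U) hx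
  have hp : IsPushout p₁ p₂ (coequalizer.π p₁ p₂) (coequalizer.π p₁ p₂) :=
    isPushout_of_isColimit_cofork (coequalizer.condition p₁ p₂) (coequalizerIsCoequalizer p₁ p₂)
      E.r E.reflexivity₁ E.reflexivity₂
  refine ⟨⟨{ toEquivalenceRelation := E
             B := coequalizer p₁ p₂
             π := coequalizer.π p₁ p₂
             isKernelPair := hk
             isPushout := hp
             universally_effectiveEpi_π := ?_ }⟩⟩
  intro X' Y' i₁ i₂ f' hsq
  have hepi : ∀ U : Cᵒᵖ, Function.Surjective ((coequalizer.π p₁ p₂).app U) := fun U => by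
    rw [← epi_iff_surjective]
    infer_instance
  have : Epi f' := by
    rw [NatTrans.epi_iff_epi_app]
    intro U
    rw [epi_iff_surjective]
    intro s
    obtain ⟨x, hx⟩ := hepi U (i₂.app U s)
    have hsqU : IsPullback (f'.app U) (i₁.app U) (i₂.app U) ((coequalizer.π p₁ p₂).app U) :=
      hsq.map ((evaluation Cᵒᵖ (Type w)).obj U)
    obtain ⟨x', hx'1, hx'2⟩ := Types.exists_of_isPullback hsqU _ _ hx.symm
    exact ⟨x', hx'1⟩
  have := IsRegularEpiCategory.regularEpiOfEpi f'
  exact (isRegularEpi_iff_effectiveEpi f').1 this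

namespace Groth.Agent.S5216

/-- The case of the chaotic topology, i.e. for presheaves of sets on an arbitrary category: every
equivalence relation is universally effective (its quotient exists, the relation is the kernel pair
of the quotient map, and that map is a universal effective epimorphism). -/
theorem result (C : Type u₁) [Category.{v₁} C]
    {R X : Cᵒᵖ ⥤ Type w} (p₁ p₂ : R ⟶ X) [IsEquivalenceRelation p₁ p₂] :
    IsUniversallyEffectiveEquivalenceRelation p₁ p₂ := by
  obtain ⟨E⟩ := IsEquivalenceRelation.nonempty_equivalenceRelation (p₁ := p₁) (p₂ := p₂)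
  exact H1_psh_univEff C p₁ p₂ E

end Groth.Agent.S5216
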