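import Groth.Statements.S5222
import Mathlib

set_option autoImplicit false
open CategoryTheory CategoryTheory.Limits MonoidalCategory
universe v₁ u₁
open DescCat

namespace Groth.Agent.S5222

open MonObj CartesianMonoidalCategory SemiCartesianMonoidalCategory in
/-- In a cartesian monoidal category with pullbacks: for a homomorphism `f : G ⟶ G'` of group objects
with kernel `K = G ×_{G'} e`, the pair `G × K ⇉ G` given by the projection and by multiplication is
the kernel pair of `f`. -/
theorem result {C : Type u₁} [Category.{v₁} C]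
    [CartesianMonoidalCategory C] [HasPullbacks C]
    {G G' : C} [GrpObj G] [GrpObj G'] (f : G ⟶ G') [IsMonHom f] :
    IsKernelPair f (fst G (pullback f η[G']))
      ((G ◁ pullback.fst f η[G']) ≫ μ[G]) := by
  classical
  have hkf : pullback.fst f η[G'] ≫ f = (1 : pullback f η[G'] ⟶ G') := by
    rw [pullback.condition, Hom.one_def]
    congr 1
    exact toUnit_unique _ _
  have hs : ∀ {T : C} (φ : T ⟶ G ⊗ pullback f η[G']),
      φ ≫ ((G ◁ pullback.fst f η[G']) ≫ μ[G]) =
        (φ ≫ fst G (pullback f η[G'])) * (φ ≫ snd G (pullback f η[G']) ≫ pullback.fst f η[G']) := by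
    intro T φ
    rw [Hom.mul_def]
    rw [← Category.assoc]
    congr 1
    apply CartesianMonoidalCategory.hom_ext
    · simp
    · simp
  apply IsPullback.mk'
  · have := hs (𝟙 (G ⊗ pullback f η[G']))
    rw [Category.id_comp] at this
    rw [this, MonObj.mul_comp]
    simp only [Category.id_comp, Category.assoc, hkf, MonObj.comp_one]
    exact (_root_.mul_one _).symm
  · intro T φ φ' h1 h2
    rw [hs, hs, h1] at h2
    have h3 := mul_left_cancel h2
    rw [← Category.assoc, ← Category.assoc] at h3
    have h4 := (cancel_mono (pullback.fst f η[G'])).mp h3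
    exact CartesianMonoidalCategory.hom_ext _ _ h1 h4
  · intro T a b hab
    have hc : (a⁻¹ * b) ≫ f = toUnit T ≫ η[G'] := by
      rw [MonObj.mul_comp, GrpObj.inv_comp, hab, inv_mul_cancel, Hom.one_def]
    refine ⟨lift a (pullback.lift (a⁻¹ * b) (toUnit T) hc), ?_, ?_⟩
    · simp
    · rw [hs]
      simp only [lift_fst, lift_snd_assoc, pullback.lift_fst]
      rw [mul_inv_cancel_left]

end Groth.Agent.S5222
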