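import Groth.Statements.S5229
import Mathlib

set_option autoImplicit false
open CategoryTheory CategoryTheory.Limits
universe v₁ u₁
open DescCat

namespace Groth.Agent.S5229

/-- For universal effective epimorphisms, in a category with pullbacks and binary products: for two
universally effective equivalence relations `R ⇉ X` and `R' ⇉ X'` with quotient maps `π` and `π'`,
the product relation `R × R' ⇉ X × X'` is the kernel pair of `π × π'`. (Together with the fact that
a product of two universal effective epimorphisms is again one, this says that `(X × X')/(R × R')`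
is `(X/R) × (X'/R')`; only the kernel-pair assertion is stated here.) -/
theorem result {C : Type u₁} [Category.{v₁} C]
    [HasPullbacks C] [HasBinaryProducts C]
    {R X R' X' : C} {p₁ p₂ : R ⟶ X} {p₁' p₂' : R' ⟶ X'}
    (e : UniversallyEffectiveEquivalenceRelation p₁ p₂)
    (e' : UniversallyEffectiveEquivalenceRelation p₁' p₂') :
    IsKernelPair (prod.map e.π e'.π) (prod.map p₁ p₁') (prod.map p₂ p₂') := by
  have hk := e.isKernelPair
  have hk' := e'.isKernelPair
  apply IsPullback.mk'
  · rw [prod.map_map, prod.map_map, hk.w, hk'.w]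
  · intro T φ φ' h1 h2
    have a1 : (φ ≫ prod.fst) ≫ p₁ = (φ' ≫ prod.fst) ≫ p₁ := by
      have := congrArg (fun m => m ≫ prod.fst) h1
      simpa using this
    have a2 : (φ ≫ prod.fst) ≫ p₂ = (φ' ≫ prod.fst) ≫ p₂ := by
      have := congrArg (fun m => m ≫ prod.fst) h2
      simpa using this
    have b1 : (φ ≫ prod.snd) ≫ p₁' = (φ' ≫ prod.snd) ≫ p₁' := by
      have := congrArg (fun m => m ≫ prod.snd) h1
      simpa using this
    have b2 : (φ ≫ prod.snd) ≫ p₂' = (φ' ≫ prod.snd) ≫ p₂' := by
      have := congrArg (fun m => m ≫ prod.snd) h2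
      simpa using this
    apply prod.hom_ext
    · exact hk.hom_ext a1 a2
    · exact hk'.hom_ext b1 b2
  · intro T a b hab
    have c1 : (a ≫ prod.fst) ≫ e.π = (b ≫ prod.fst) ≫ e.π := by
      have := congrArg (fun m => m ≫ prod.fst) hab
      simpa using this
    have c2 : (a ≫ prod.snd) ≫ e'.π = (b ≫ prod.snd) ≫ e'.π := by
      have := congrArg (fun m => m ≫ prod.snd) hab
      simpa using this
    refine ⟨prod.lift (hk.lift _ _ c1) (hk'.lift _ _ c2), ?_, ?_⟩
    · apply prod.hom_ext
      · simp only [Category.assoc, prod.map_fst, prod.lift_fst_assoc, IsKernelPair.lift_fst]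
      · simp only [Category.assoc, prod.map_snd, prod.lift_snd_assoc, IsKernelPair.lift_fst]
    · apply prod.hom_ext
      · simp only [Category.assoc, prod.map_fst, prod.lift_fst_assoc, IsKernelPair.lift_snd]
      · simp only [Category.assoc, prod.map_snd, prod.lift_snd_assoc, IsKernelPair.lift_snd]

end Groth.Agent.S5229
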