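import Groth.Statements.S5231

set_option autoImplicit false
open CategoryTheory
universe w v₁ u₁
open ShfCat

namespace Groth.Agent.S5231


open CategoryTheory CategoryTheory.Limits Opposite


variable {C : Type u₁} [Category.{v₁} C] (J : GrothendieckTopology C)

lemma overPullback_app {H F : Sheaf J (Type w)} (a : H ⟶ F) (T : C) :
    ((J.overPullback (Type w) T).map a).hom.app (op (Over.mk (𝟙 T))) = a.hom.app (op T) := rfl

theorem key {H F : Sheaf J (Type w)} (a b : H ⟶ F)
    (h : ∀ S : C, ∃ R : Sieve S, R ∈ J S ∧ ∀ ⦃T : C⦄ (g : T ⟶ S), R g →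
      (J.overPullback (Type w) T).map a = (J.overPullback (Type w) T).map b) : a = b := by
  have hT : ∀ (S : C) (s : H.obj.obj (op S)), a.hom.app (op S) s = b.hom.app (op S) s := by
    intro S s
    obtain ⟨R, hR, hT⟩ := h S
    have hsep := ((isSheaf_iff_isSheaf_of_type J F.obj).1 F.property).isSeparated
    refine (hsep R hR).ext ?_
    intro T g hg
    have e : a.hom.app (op T) = b.hom.app (op T) :=
      congrArg (fun φ => φ.hom.app (op (Over.mk (𝟙 T)))) (hT g hg)
    have na := congrArg (fun ψ => ψ s) (a.hom.naturality g.op)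
    have nb := congrArg (fun ψ => ψ s) (b.hom.naturality g.op)
    simp only [] at na nb
    exact na.symm.trans ((congrArg (fun ψ => ψ (H.obj.map g.op s)) e).trans nb)
  apply Sheaf.hom_ext
  ext ⟨S⟩ s
  exact hT S s


theorem main {F G : Sheaf J (Type w)} (f : F ⟶ G) :
    ((∀ S : C, ∃ R : Sieve S, R ∈ J S ∧ ∀ ⦃T : C⦄ (g : T ⟶ S), R g →
        Mono ((J.overPullback (Type w) T).map f)) → Mono f) ∧
    ((∀ S : C, ∃ R : Sieve S, R ∈ J S ∧ ∀ ⦃T : C⦄ (g : T ⟶ S), R g →
        Epi ((J.overPullback (Type w) T).map f)) → Epi f) := by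
  constructor
  · intro h
    refine ⟨fun {H} a b hab => key J a b (fun S => ?_)⟩
    obtain ⟨R, hR, hT⟩ := h S
    refine ⟨R, hR, fun T g hg => ?_⟩
    have := hT g hg
    rw [← cancel_mono ((J.overPullback (Type w) T).map f), ← Functor.map_comp, ← Functor.map_comp,
      hab]
  · intro h
    refine ⟨fun {H} a b hab => key J a b (fun S => ?_)⟩
    obtain ⟨R, hR, hT⟩ := h S
    refine ⟨R, hR, fun T g hg => ?_⟩
    have := hT g hg
    rw [← cancel_epi ((J.overPullback (Type w) T).map f), ← Functor.map_comp, ← Functor.map_comp,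
      hab]

/-- (iii) ⇒ (i): a morphism `f` of sheaves of sets on a site is a monomorphism (resp. an epimorphism) as
soon as, for every object `S`, the morphisms `T ⟶ S` over which the restriction of `f` to the
induced site `C/T` is a monomorphism (resp. an epimorphism) form a covering sieve. No sheafification
is assumed. (The published statement also treats isomorphisms in the same way; that case is left out
here.) -/
theorem result {C : Type u₁} [Category.{v₁} C]
    (J : GrothendieckTopology C) {F G : Sheaf J (Type w)} (f : F ⟶ G) :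
    ((∀ S : C, ∃ R : Sieve S, R ∈ J S ∧ ∀ ⦃T : C⦄ (g : T ⟶ S), R g →
        Mono ((J.overPullback (Type w) T).map f)) → Mono f) ∧
    ((∀ S : C, ∃ R : Sieve S, R ∈ J S ∧ ∀ ⦃T : C⦄ (g : T ⟶ S), R g →
        Epi ((J.overPullback (Type w) T).map f)) → Epi f) := by
  exact main J f

end Groth.Agent.S5231
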