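import Groth.Statements.S5270
import Groth.Statements.S5270
import Groth.Agent.Lib.helper9.H9_RigidDesc

set_option autoImplicit false
universe u
open TensorProduct SGA3b
open SGA3b

namespace Groth.Agent.S5270

/-- Injectivity of the map to formal homomorphisms. Let A be a Noetherian ring, separated and complete
for the I-adic topology, H = Spec B an isotrivial A-group of multiplicative type and G = Spec C an
affine A-group. If two homomorphisms H ⟶ G, given by bialgebra maps φ, ψ : C → B, have the same
reduction modulo I^(n+1) for every n ≥ 0, then φ = ψ. (Affine group schemes over an affine base are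
taken in Hopf-algebra form; base change is the tensor product; a homomorphism of groups Spec A ⟶
Spec C is a bialgebra map C → A.) -/
theorem result (A : Type u) [CommRing A] [IsNoetherianRing A] (I : Ideal A) [IsAdicComplete I A]
    (B : Type u) [CommRing B] [HopfAlgebra A B] (hH : IsIsotrivial A B)
    (C : Type u) [CommRing C] [HopfAlgebra A C] (φ ψ : C →ₐc[A] B)
    (h : ∀ (n : ℕ) (c : C), (1 : A ⧸ I ^ (n + 1)) ⊗ₜ[A] (φ c) = (1 : A ⧸ I ^ (n + 1)) ⊗ₜ[A] (ψ c)) :
    φ = ψ := by
  classical
  obtain ⟨A', _, _, het, hfin, hff, M, _, ⟨e⟩⟩ := hH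
  haveI := hfin
  haveI := hff
  -- generic: linear maps preserve `J • ⊤`
  have map_mem' : ∀ {X Y : Type u} [AddCommGroup X] [Module A X] [AddCommGroup Y] [Module A Y]
      (J : Ideal A) (g : X →ₗ[A] Y) (x : X), x ∈ J • (⊤ : Submodule A X) →
      g x ∈ J • (⊤ : Submodule A Y) := by
    intro X Y _ _ _ _ J g x hx
    refine Submodule.smul_induction_on hx (fun r hr a _ => ?_) (fun x y hx hy => ?_)
    · rw [map_smul]
      exact Submodule.smul_mem_smul hr Submodule.mem_top
    · rw [map_add]
      exact Submodule.add_mem _ hx hy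
  apply BialgHom.ext
  intro c
  rw [← sub_eq_zero]
  have hx : ∀ n : ℕ, φ c - ψ c ∈ (I ^ (n + 1)) • (⊤ : Submodule A B) := fun n =>
    H9_RigidDesc.mem_smul_top_of_tmul_eq (I ^ (n + 1)) _ _ (h n c)
  apply H9_RigidDesc.eq_zero_of_fflat (R := A) A'
  apply e.injective
  rw [map_zero]
  apply MonoidAlgebra.coeff_injective
  ext m
  rw [MonoidAlgebra.coeff_zero, Finsupp.zero_apply]
  -- the A-linear map `x ↦ coeff (e (1 ⊗ x)) m`
  let g : B →ₗ[A] A' :=
    { toFun := fun x => (e ((1 : A') ⊗ₜ[A] x)).coeff m
      map_add' := fun x y => by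
        rw [TensorProduct.tmul_add, map_add, MonoidAlgebra.coeff_add, Finsupp.add_apply]
      map_smul' := fun r x => by
        have h1 : (1 : A') ⊗ₜ[A] (r • x) = (algebraMap A A' r) • ((1 : A') ⊗ₜ[A] x) := by
          rw [TensorProduct.tmul_smul, algebraMap_smul]
        rw [RingHom.id_apply, h1, map_smul, MonoidAlgebra.coeff_smul, Finsupp.smul_apply,
          smul_eq_mul, Algebra.smul_def] }
  show g (φ c - ψ c) = 0
  have hmem : g (φ c - ψ c) ∈ (⨅ i : ℕ, I ^ i • ⊤ : Submodule A A') := by
    rw [Submodule.mem_iInf]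
    intro i
    cases i with
    | zero => rw [pow_zero, Ideal.one_eq_top, Submodule.top_smul]; trivial
    | succ n => exact map_mem' _ g _ (hx n)
  rw [Ideal.iInf_pow_smul_eq_bot_of_le_jacobson I (IsAdicComplete.le_jacobson_bot I)] at hmem
  exact hmem

end Groth.Agent.S5270
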