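import Groth.Statements.S5343
import Mathlib

set_option autoImplicit false
universe u
open CategoryTheory CategoryTheory.Limits MonoidalCategory CartesianMonoidalCategory MonObj GrpObj AlgebraicGeometry
open SGA3

namespace Groth.Agent.S5343

/-- Let R be a commutative ring and B a commutative R-algebra which is projective as an R-module. Then
the image of Spec B → Spec R is an open and closed subset of Spec R. (The published statement
concerns a quasi-coherent algebra on any scheme which is a direct summand of a free module; this row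
is the affine case.) -/
theorem result (R B : Type u) [CommRing R] [CommRing B] [Algebra R B] [Module.Projective R B] :
    IsClopen (Set.range (PrimeSpectrum.comap (algebraMap R B))) := by
  classical
  obtain ⟨s, hs⟩ := (Module.projective_def' (R := R) (P := B)).1 inferInstance
  set a : B →₀ R := s 1 with ha
  -- 1 = Σ a j • j
  have hone : ∀ b : B, b = ∑ j ∈ a.support, a j • (b * j) := by
    intro b
    have h1 : (1 : B) = ∑ j ∈ a.support, a j • j := by
      have := LinearMap.congr_fun hs 1
      simp only [LinearMap.comp_apply, LinearMap.id_apply] at this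
      rw [Finsupp.linearCombination_apply, Finsupp.sum] at this
      exact this.symm
    calc b = b * 1 := (mul_one b).symm
      _ = b * ∑ j ∈ a.support, a j • j := by rw [← h1]
      _ = ∑ j ∈ a.support, a j • (b * j) := by
          rw [Finset.mul_sum]
          exact Finset.sum_congr rfl fun j _ => by rw [mul_smul_comm]
  set τ : Ideal R := Ideal.span (Set.range a) with hτ
  have haτ : ∀ j, a j ∈ τ := fun j => Ideal.subset_span ⟨j, rfl⟩
  have hfg : τ.FG := Submodule.fg_span (Finsupp.finite_range a)
  -- φ_k b = s b k ∈ τ
  have hφ : ∀ (k b : B), s b k ∈ τ := by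
    intro k b
    have h2 : s b k = ∑ j ∈ a.support, a j * s (b * j) k := by
      conv_lhs => rw [hone b]
      rw [map_sum, Finsupp.finset_sum_apply]
      exact Finset.sum_congr rfl fun j _ => by rw [map_smul, Finsupp.smul_apply, smul_eq_mul]
    rw [h2]
    exact τ.sum_mem fun j _ => τ.mul_mem_right _ (haτ j)
  have hidem : IsIdempotentElem τ := by
    apply le_antisymm Ideal.mul_le_right
    rw [hτ, Ideal.span_le]
    rintro _ ⟨k, rfl⟩
    have h2 : a k = ∑ j ∈ a.support, a j * s j k := by
      have := hone 1
      have h3 : s 1 k = ∑ j ∈ a.support, a j * s (1 * j) k := by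
        conv_lhs => rw [this]
        rw [map_sum, Finsupp.finset_sum_apply]
        exact Finset.sum_congr rfl fun j _ => by rw [map_smul, Finsupp.smul_apply, smul_eq_mul]
      simpa using h3
    show a k ∈ τ * τ
    rw [h2]
    exact (τ * τ).sum_mem fun j _ => Ideal.mul_mem_mul (haτ j) (hφ k j)
  obtain ⟨e, he, hτe⟩ := (Ideal.isIdempotentElem_iff_of_fg τ hfg).1 hidem
  rw [PrimeSpectrum.isClopen_iff]
  refine ⟨e, he, ?_⟩
  ext p
  rw [PrimeSpectrum.mem_range_comap_iff]
  have hpe : p ∈ (PrimeSpectrum.basicOpen e : Set (PrimeSpectrum R)) ↔ ¬ τ ≤ p.asIdeal := by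
    rw [hτe]
    show e ∉ p.asIdeal ↔ _
    rw [Ideal.submodule_span_eq, Ideal.span_singleton_le_iff_mem]
  rw [hpe]
  constructor
  · intro h hle
    have h1 : (1 : B) ∈ p.asIdeal.map (algebraMap R B) := by
      rw [hone 1]
      refine Ideal.sum_mem _ fun j _ => ?_
      rw [Algebra.smul_def]
      exact Ideal.mul_mem_right _ _ (Ideal.mem_map_of_mem _ (hle (haτ j)))
    have h2 : p.asIdeal.map (algebraMap R B) = ⊤ := (Ideal.eq_top_iff_one _).2 h1
    rw [h2, Ideal.comap_top] at h
    exact p.2.ne_top h.symm
  · intro h
    have hk : ∃ k, a k ∉ p.asIdeal := by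
      by_contra hcon
      push Not at hcon
      apply h
      rw [hτ, Ideal.span_le]
      rintro _ ⟨k, rfl⟩
      exact hcon k
    obtain ⟨k, hk⟩ := hk
    apply le_antisymm _ Ideal.le_comap_map
    intro r hr
    rw [Ideal.mem_comap] at hr
    have key : ∀ x ∈ (p.asIdeal • ⊤ : Submodule R B), s x k ∈ p.asIdeal := by
      intro x hx
      refine Submodule.smul_induction_on hx ?_ ?_
      · intro r hr b _
        rw [map_smul, Finsupp.smul_apply, smul_eq_mul]
        exact Ideal.mul_mem_right _ _ hr
      · intro x y hx hy
        rw [map_add, Finsupp.add_apply]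
        exact Ideal.add_mem _ hx hy
    have hr' : algebraMap R B r ∈ (p.asIdeal • ⊤ : Submodule R B) := by
      rw [Ideal.smul_top_eq_map]
      exact hr
    have h3 := key _ hr'
    rw [Algebra.algebraMap_eq_smul_one, map_smul, Finsupp.smul_apply, smul_eq_mul] at h3
    exact (p.2.mem_or_mem h3).resolve_right hk

end Groth.Agent.S5343
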