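import Groth.Statements.S5375
import Groth.Statements.S5375
import Groth.Agent.Lib.helper9.H9_Linear
import Groth.Agent.Lib.helper9.H9_Antipode

set_option autoImplicit false
universe u
open CategoryTheory CategoryTheory.Limits MonoidalCategory CartesianMonoidalCategory MonObj GrpObj AlgebraicGeometry
open SGA3

namespace Groth.Agent.S5375

/-- Let A be a commutative Hopf algebra over a field k (an affine k-group, not necessarily of finite
type) and x an element of A. Then there is a subalgebra B of A of finite type over k containing x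
which is a sub-Hopf-algebra: the comultiplication sends B into B ⊗ B and the antipode preserves B. -/
theorem result (k : Type u) [Field k] (A : Type u) [CommRing A] [HopfAlgebra k A] (x : A) :
    ∃ B : Subalgebra k A, x ∈ B ∧ B.FG ∧ SGA3.IsHopfSubalgebra k A B := by
  classical
  obtain ⟨W, hWfin, hWsub, -, hsW⟩ := H9_SubLat.exists_finite_subcomod (k := k) (C := A) (V := A)
    ({x} : Finset A) ⊤ H9_SubLat.isSubcomod_top (fun x _ => Submodule.mem_top)
  haveI := hWfin
  let n := Module.finrank k W
  let b : Module.Basis (Fin n) k W := Module.finBasis k W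
  let w : Fin n → A := fun j => (b j : A)
  have hw : LinearIndependent k w := by
    have := b.linearIndependent
    exact this.map' W.subtype (Submodule.ker_subtype W)
  have hex : ∀ j, ∃ c : Fin n → A, HopfRep.Comod.coact (k := k) (A := A) (w j) =
      ∑ i, w i ⊗ₜ[k] c i := by
    intro j
    obtain ⟨y, hy⟩ := hWsub (w j) (b j).2
    obtain ⟨c, hc⟩ := TensorProduct.eq_repr_basis_left b y
    refine ⟨fun i => c i, ?_⟩
    rw [← hy, ← hc, Finsupp.sum_fintype _ _ (fun i => TensorProduct.tmul_zero _ _), map_sum]
    rfl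
  choose a' ha' using hex
  let a : Fin n → Fin n → A := fun i j => a' j i
  have hcoact : ∀ j, HopfRep.Comod.coact (k := k) (A := A) (w j) = ∑ i, w i ⊗ₜ[k] a i j := ha'
  have hΔ := H9_HilbertGen.comul_a w hw a hcoact
  have hε := H9_HilbertGen.counit_a w hw a hcoact
  let S : A →ₐ[k] A := HopfAlgebra.antipodeAlgHom k A
  have hS : ∀ y, S y = HopfAlgebra.antipode k y := fun y => rfl
  let gen : Set A := (Set.range fun p : Fin n × Fin n => a p.1 p.2) ∪
    (Set.range fun p : Fin n × Fin n => S (a p.1 p.2))
  let B : Subalgebra k A := Algebra.adjoin k gen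
  have haB : ∀ i j, a i j ∈ B := fun i j =>
    Algebra.subset_adjoin (Or.inl ⟨(i, j), rfl⟩)
  have hSaB : ∀ i j, S (a i j) ∈ B := fun i j =>
    Algebra.subset_adjoin (Or.inr ⟨(i, j), rfl⟩)
  have hwB : ∀ j, w j ∈ B := by
    intro j
    have h1 : Coalgebra.comul (R := k) (w j) = ∑ i, w i ⊗ₜ[k] a i j := hcoact j
    have h2 := Coalgebra.rTensor_counit_comul (R := k) (w j)
    rw [h1, map_sum] at h2
    simp only [LinearMap.rTensor_tmul] at h2
    have h3 := congrArg (TensorProduct.lid k A) h2
    rw [map_sum] at h3
    simp only [TensorProduct.lid_tmul, one_smul] at h3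
    rw [← h3]
    apply Subalgebra.sum_mem
    intro i _
    apply Subalgebra.smul_mem
    exact haB i j
  have hWB : W ≤ Subalgebra.toSubmodule B := by
    have hWspan : W = Submodule.span k (Set.range w) := by
      have h1 := b.span_eq
      have h2 := congrArg (Submodule.map W.subtype) h1
      rw [Submodule.map_span, Submodule.map_subtype_top, ← Set.range_comp] at h2
      exact h2.symm
    rw [hWspan]
    apply Submodule.span_le.2
    rintro _ ⟨j, rfl⟩
    exact hwB j
  refine ⟨B, ?_, ?_, ?_, ?_⟩
  · exact hWB (hsW (by simp))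
  · refine ⟨(Finset.univ.image fun p : Fin n × Fin n => a p.1 p.2) ∪
      (Finset.univ.image fun p : Fin n × Fin n => S (a p.1 p.2)), ?_⟩
    congr 1
    ext y
    simp [gen]
  · -- comultiplication
    let T : Subalgebra k (TensorProduct k A A) := (Algebra.TensorProduct.map B.val B.val).range
    have hT : ∀ y, y ∈ T ↔ y ∈ LinearMap.range
        (TensorProduct.map B.val.toLinearMap B.val.toLinearMap) := by
      intro y
      constructor
      · rintro ⟨z, rfl⟩
        exact ⟨z, rfl⟩
      · rintro ⟨z, rfl⟩
        exact ⟨z, rfl⟩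
    have htm : ∀ p q : A, p ∈ B → q ∈ B → p ⊗ₜ[k] q ∈ T := by
      intro p q hp hq
      exact ⟨(⟨p, hp⟩ : B) ⊗ₜ[k] (⟨q, hq⟩ : B), rfl⟩
    have hle : B ≤ T.comap (Bialgebra.comulAlgHom k A) := by
      apply Algebra.adjoin_le
      rintro y (⟨p, rfl⟩ | ⟨p, rfl⟩)
      · show Coalgebra.comul (R := k) (a p.1 p.2) ∈ T
        rw [hΔ]
        exact Subalgebra.sum_mem _ fun i _ => htm _ _ (haB _ _) (haB _ _)
      · show Coalgebra.comul (R := k) (HopfAlgebra.antipode k (a p.1 p.2)) ∈ T
        rw [H9_Antipode.comul_antipode, hΔ]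
        simp only [map_sum, TensorProduct.comm_tmul, TensorProduct.map_tmul]
        exact Subalgebra.sum_mem _ fun i _ => htm _ _ (hSaB _ _) (hSaB _ _)
    intro y hy
    exact (hT _).1 (hle hy)
  · -- antipode
    have hle : B ≤ B.comap S := by
      apply Algebra.adjoin_le
      rintro y (⟨p, rfl⟩ | ⟨p, rfl⟩)
      · exact hSaB _ _
      · show S (S (a p.1 p.2)) ∈ B
        rw [hS, hS, H9_Antipode.antipode_antipode]
        exact haB _ _
    intro y hy
    exact hle hy

end Groth.Agent.S5375
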