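import Groth.Statements.S5376
import Groth.Statements.S5376
import Mathlib
import Groth.Agent.Lib.helper9.H9_ComodFix
import Groth.Agent.Lib.helper9.H9_ComodConv
import Groth.Agent.Lib.helper9.H9_Points

set_option autoImplicit false
universe u
open CategoryTheory CategoryTheory.Limits MonoidalCategory CartesianMonoidalCategory MonObj GrpObj AlgebraicGeometry
open SGA3

namespace Groth.Agent.S5376

/-- Let k be an algebraically closed field, A a finitely generated commutative Hopf algebra over k which
is reduced (a reduced affine algebraic k-group G), V a finite-dimensional A-comodule and v a vector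
of V. Let E be the k-subspace of V spanned by the vectors g·v for g running over the k-points of G
(algebra maps A → k). Then E is a subcomodule of V containing v, and it is the smallest one. -/
theorem result (k : Type u) [Field k] [IsAlgClosed k] (A : Type u) [CommRing A] [HopfAlgebra k A]
    [Algebra.FiniteType k A] [IsReduced A] (V : Type u) [AddCommGroup V] [Module k V] [HopfRep.Comod k A V]
    [Module.Finite k V] (v : V) :
    letI E : Submodule k V := Submodule.span k (Set.range fun g : A →ₐ[k] k => HopfRep.Comod.act k A V g v)
    HopfRep.IsSubcomod (k := k) (A := A) E ∧ v ∈ E ∧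
      ∀ W : Submodule k V, HopfRep.IsSubcomod (k := k) (A := A) W → v ∈ W → E ≤ W := by
  classical
  set E : Submodule k V := Submodule.span k
    (Set.range fun g : A →ₐ[k] k => HopfRep.Comod.act k A V g v) with hE
  have hact : ∀ g : A →ₐ[k] k, HopfRep.Comod.act k A V g v = H9_ComodMod.T (C := A) V g.toLinearMap v :=
    fun g => rfl
  have hgen : ∀ g : A →ₐ[k] k, H9_ComodMod.T (C := A) V g.toLinearMap v ∈ E := by
    intro g
    rw [← hact]
    exact Submodule.subset_span ⟨g, rfl⟩
  -- every T φ v lies in E
  have hall : ∀ φ : Module.Dual k A, H9_ComodMod.T (C := A) V φ v ∈ E := by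
    intro φ
    by_contra hne
    obtain ⟨ψ, hψ1, hψ2⟩ := Submodule.exists_dual_map_eq_bot_of_notMem hne inferInstance
    -- the element a = (ψ ⊗ id)(ρ v)
    let a : A := TensorProduct.lid k A (ψ.rTensor A (HopfRep.Comod.coact (k := k) (A := A) v))
    have ha : ∀ χ : Module.Dual k A, χ a = ψ (H9_ComodMod.T (C := A) V χ v) := by
      intro χ
      show χ (TensorProduct.lid k A (ψ.rTensor A (HopfRep.Comod.coact (k := k) (A := A) v))) =
        ψ (TensorProduct.rid k V (χ.lTensor V (HopfRep.Comod.coact (k := k) (A := A) v)))
      generalize HopfRep.Comod.coact (k := k) (A := A) v = x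
      induction x using TensorProduct.induction_on with
      | zero => simp
      | tmul m b => simp [mul_comm]
      | add x y hx hy => simp only [map_add, hx, hy]
    have ha0 : a = 0 := by
      apply H9_Points.eq_zero_of_forall_algHom (k := k)
      intro g
      have h1 := ha g.toLinearMap
      have h2 : ψ (H9_ComodMod.T (C := A) V g.toLinearMap v) = 0 := by
        have h3 : ψ (H9_ComodMod.T (C := A) V g.toLinearMap v) ∈ E.map ψ :=
          Submodule.mem_map_of_mem (hgen g)
        rw [hψ2] at h3
        exact (Submodule.mem_bot k).1 h3
      rw [h2] at h1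
      exact h1
    apply hψ1
    rw [← ha, ha0, map_zero]
  refine ⟨?_, ?_, ?_⟩
  · rw [H9_ComodMod.isSubcomod_iff_T]
    intro f w hw
    induction hw using Submodule.span_induction with
    | mem x hx =>
      obtain ⟨g, rfl⟩ := hx
      show H9_ComodMod.T (C := A) V f (HopfRep.Comod.act k A V g v) ∈ E
      rw [hact, H9_ComodMod.T_T]
      exact hall _
    | zero => rw [map_zero]; exact Submodule.zero_mem _
    | add x y _ _ hx hy => rw [map_add]; exact Submodule.add_mem _ hx hy
    | smul c x _ hx => rw [map_smul]; exact Submodule.smul_mem _ c hx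
  · have h1 := hall (Coalgebra.counit (R := k) (A := A))
    rwa [H9_ComodMod.T_counit] at h1
  · intro W hW hvW
    apply Submodule.span_le.2
    rintro _ ⟨g, rfl⟩
    show HopfRep.Comod.act k A V g v ∈ W
    rw [hact]
    exact H9_ComodMod.T_mem_of_isSubcomod W hW _ v hvW

end Groth.Agent.S5376
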