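import Groth.Statements.S5423
import Mathlib
import Groth.Agent.S7987
import Groth.Agent.Lib.helper9.H9_Kolchin
import Groth.Agent.Lib.helper9.H9_Points
import Groth.Agent.Lib.helper9.H9_ComodConv
import Groth.Agent.Lib.helper9.H9_ComodFix
import Groth.Agent.Lib.helper9.H9_Slice

set_option autoImplicit false
universe u
open TensorProduct
open SGA3t2b

namespace Groth.Agent.S5423

/-- Let k be an algebraically closed field and A a reduced finitely generated commutative Hopf algebra
over k (a smooth affine algebraic k-group G). Then G is unipotent (every non-zero finite-dimensional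
representation has a non-zero fixed vector) if and only if every element of G(k) is unipotent, i.e.
every k-point g : A → k acts on every finite-dimensional comodule V by an endomorphism g_V with g_V
− 1 nilpotent. -/
theorem result (k : Type u) [Field k] [IsAlgClosed k] (A : Type u) [CommRing A] [HopfAlgebra k A] [Algebra.FiniteType k A]
    [IsReduced A] :
    HopfRep.IsUnipotent k A ↔
      ∀ (g : A →ₐ[k] k) (V : Type u) [AddCommGroup V] [Module k V] [HopfRep.Comod k A V],
        Module.Finite k V → IsNilpotent (HopfRep.Comod.act k A V g - LinearMap.id) := by
  classical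
  constructor
  · intro hU g V _ _ _ hfin
    haveI := hfin
    exact Groth.Agent.S7987.result k A hU g V
  · intro h V _ _ _ hfin hnt
    haveI := hfin
    haveI := hnt
    -- the monoid of operators given by rational points
    have hact : ∀ g : A →ₐ[k] k, HopfRep.Comod.act k A V g = H9_ComodMod.T (C := A) V g.toLinearMap :=
      fun g => rfl
    let S : Submonoid (Module.End k V) :=
      { carrier := {f | ∃ g : A →ₐ[k] k, f = HopfRep.Comod.act k A V g}
        one_mem' := by
          refine ⟨Bialgebra.counitAlgHom k A, ?_⟩
          ext v
          rw [hact]
          exact (H9_ComodMod.T_counit (C := A) v).symm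
        mul_mem' := by
          rintro _ _ ⟨g, rfl⟩ ⟨g', rfl⟩
          refine ⟨(Algebra.TensorProduct.lmul' k).comp
            ((Algebra.TensorProduct.map g g').comp (Bialgebra.comulAlgHom k A)), ?_⟩
          ext v
          rw [Module.End.mul_apply, hact, hact, hact, H9_ComodMod.T_T]
          have hc : H9_ComodMod.conv g.toLinearMap g'.toLinearMap =
              ((Algebra.TensorProduct.lmul' k).comp
                ((Algebra.TensorProduct.map g g').comp (Bialgebra.comulAlgHom k A))).toLinearMap := by
            ext c
            rw [H9_ComodMod.conv_apply]
            show TensorProduct.lid k k (TensorProduct.map g.toLinearMap g'.toLinearMap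
              (Coalgebra.comul c)) = Algebra.TensorProduct.lmul' k
                (Algebra.TensorProduct.map g g' (Coalgebra.comul c))
            generalize (Coalgebra.comul (R := k) c : A ⊗[k] A) = x
            induction x using TensorProduct.induction_on with
            | zero => simp
            | tmul a b => simp
            | add x y hx hy => simp only [map_add, hx, hy]
          rw [hc] }
    let ρ : Representation k S V := S.subtype
    have hρ : ∀ s : S, IsNilpotent (ρ s - 1) := by
      rintro ⟨_, g, rfl⟩
      exact h g V hfin
    obtain ⟨v, hv0, hv⟩ := H9_Kolchin.kolchin k S V ρ hρ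
    have hv' : ∀ g : A →ₐ[k] k, H9_ComodMod.T (C := A) V g.toLinearMap v = v := fun g =>
      hv ⟨_, g, rfl⟩
    intro hbot
    apply hv0
    have hmem : v ∈ HopfRep.fixedPts k A V := by
      show HopfRep.Comod.coact (k := k) (A := A) v = v ⊗ₜ[k] (1 : A)
      rw [← sub_eq_zero]
      apply H9_Slice.eq_zero_of_forall_lslice
      intro ψ
      apply H9_Points.eq_zero_of_forall_algHom (k := k)
      intro g
      have h1 := H9_Slice.apply_contr ψ g.toLinearMap
        (HopfRep.Comod.coact (k := k) (A := A) v - v ⊗ₜ[k] (1 : A))
      rw [AlgHom.toLinearMap_apply] at h1
      rw [← h1, map_sub, ← H9_ComodMod.T_eq_contr, hv', H9_TensorDual.contr_tmul,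
        AlgHom.toLinearMap_apply, map_one, one_smul, sub_self, map_zero]
    rw [hbot] at hmem
    exact (Submodule.mem_bot k).1 hmem

end Groth.Agent.S5423
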