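import Groth.Statements.S5445
import Mathlib
import Groth.Agent.Lib.helper3.RootTrans

set_option autoImplicit false
open RootD

namespace Groth.Agent.S5445

/-- A system of positive roots of a root datum contains exactly one system of simple roots (simple
systems in the sense of conditions on roots only: linearly independent, every root a non-negative or
non-positive integer combination). -/
theorem result {ι M N : Type*} [AddCommGroup M] [AddCommGroup N]
    (P : RootPairing ι ℤ M N) [Finite ι] (S : Set ι) (hS : RootD.IsPosSys P S) :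
    ∃! Δ : Set ι, RootD.IsSimpleSys P Δ ∧ Δ ⊆ S := by
  open Groth.Agent.H3RootD in
  obtain ⟨Δ, hΔ, hpos⟩ := exists_simpleSys_of_isPosSys hS
  refine ⟨Δ, ⟨hΔ, hpos ▸ simple_subset_posOf Δ⟩, ?_⟩
  rintro Δ' ⟨hΔ', hsub⟩
  refine simple_eq_of_posOf_eq hΔ' hΔ ?_
  rw [hpos]
  exact posOf_eq_of_subset hΔ' hS hsub

end Groth.Agent.S5445
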