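import Groth.Statements.S5447
import Mathlib
import Groth.Agent.Lib.helper3.RootUniq

set_option autoImplicit false
open RootD

namespace Groth.Agent.S5447

/-- If every root can be written in exactly one way as an integer combination of the roots indexed by Δ
with coefficients all of the same sign, then these roots are linearly independent (so Δ is a system
of simple roots) and indivisible. -/
theorem result {ι M N : Type*} [AddCommGroup M] [AddCommGroup N]
    (P : RootPairing ι ℤ M N) [Finite ι] (Δ : Set ι)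
    (h : ∀ k : ι, ∃! c : ι →₀ ℤ, (↑c.support ⊆ Δ ∧ ((∀ j, 0 ≤ c j) ∨ (∀ j, c j ≤ 0)) ∧
      Finsupp.linearCombination ℤ P.root c = P.root k)) :
    RootD.IsSimpleSys P Δ ∧ ∀ i ∈ Δ, RootD.IsIndiv P i := by
  open Groth.Agent.H3RootD in
  classical
  have hP2 : ∀ k, k ∈ RootD.posOf P Δ ∨ P.reflectionPerm k k ∈ RootD.posOf P Δ := by
    intro k
    obtain ⟨c, ⟨hc, hsign, hsum⟩, -⟩ := h k
    rcases hsign with hs | hs
    · left
      change P.root k ∈ RootD.natSpan P Δ
      rw [← hsum]
      exact finsupp_mem_natSpan P Δ c hc hs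
    · right
      change P.root _ ∈ RootD.natSpan P Δ
      rw [neg_root, ← hsum, ← map_neg]
      refine finsupp_mem_natSpan P Δ (-c) (Submodule.neg_mem _ hc) (fun d => ?_)
      have := hs d
      simp only [Finsupp.coe_neg, Pi.neg_apply]
      omega
  have hP1 : ∀ k ∈ RootD.posOf P Δ, P.reflectionPerm k k ∉ RootD.posOf P Δ := by
    intro k hk hk'
    obtain ⟨c, hc, hpos, hsum⟩ := natSpan_exists_finsupp P Δ _ hk
    obtain ⟨c', hc', hpos', hsum'⟩ := natSpan_exists_finsupp P Δ _ hk'
    rw [neg_root] at hsum'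
    have huniq := (h k).unique ⟨hc, Or.inl hpos, hsum⟩
      ⟨Submodule.neg_mem _ hc', Or.inr (fun j => by
        have := hpos' j
        simp only [Finsupp.coe_neg, Pi.neg_apply]
        omega), by rw [map_neg, hsum', neg_neg]⟩
    have hc0 : c = 0 := by
      ext d
      have h1 := hpos d
      have h2 := hpos' d
      have h3 := DFunLike.congr_fun huniq d
      simp only [Finsupp.coe_neg, Pi.neg_apply, Finsupp.coe_zero, Pi.zero_apply] at h3 ⊢
      omega
    rw [hc0, map_zero] at hsum
    exact P.ne_zero k hsum.symm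
  have hcl : RootD.IsClosedSub P (RootD.posOf P Δ) := by
    intro i j k hi hj hk
    change P.root k ∈ RootD.natSpan P Δ
    rw [hk]
    exact add_mem hi hj
  have hSpos : RootD.IsPosSys P (RootD.posOf P Δ) :=
    (Groth.Agent.S5456.result P (RootD.posOf P Δ)).mpr ⟨hP1, hP2, hcl⟩
  obtain ⟨Δ1, hΔ1, hpos1⟩ := exists_simpleSys_of_isPosSys hSpos
  have hΔS : Δ ⊆ RootD.posOf P Δ := simple_subset_posOf Δ
  have h1 : Δ1 ⊆ Δ := by
    intro e he
    have hepos : e ∈ RootD.posOf P Δ := hpos1 ▸ simple_subset_posOf Δ1 he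
    obtain ⟨s, hs, hsum⟩ := natSpan_exists_multiset P Δ _ hepos
    by_cases hes : e ∈ s
    · exact hs e hes
    exfalso
    have hne : ∀ l ∈ s.toFinset, (id l : ι) ≠ e := by
      intro l hl hle
      exact hes (hle ▸ Multiset.mem_toFinset.mp hl)
    have hk' : (1 : ℕ) • P.root e = ∑ l ∈ s.toFinset, s.count l • P.root (id l) := by
      rw [one_smul, ← hsum, Finset.sum_multiset_map_count]
      rfl
    obtain ⟨a, ha, -, -, ⟨k', hk''⟩⟩ := exists_pairing_pos_sub_mem P s.toFinset id
      (fun l => s.count l) e hne 1 one_pos hk'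
    have has : a ∈ s := Multiset.mem_toFinset.mp ha
    have hsum' : ((s.erase a).map P.root).sum = P.root k' := by
      have := Multiset.sum_map_erase (f := P.root) has
      rw [hk'', ← hsum, ← this]
      simp
    have hk'S : k' ∈ RootD.posOf P Δ :=
      closed_multiset_sum_mem P _ hcl _ (s.erase a) rfl
        (fun b hb => hΔS (hs b (Multiset.mem_of_mem_erase hb))) k' hsum'
    rw [← hpos1] at hk'S
    have haS : a ∈ RootD.posOf P Δ1 := hpos1 ▸ hΔS (hs a has)
    have hepos1 : e ∈ RootD.posOf P Δ1 := simple_subset_posOf Δ1 he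
    exact (Groth.Agent.S5450.result P Δ1 hΔ1 e hepos1).mp he
      ⟨k', a, hk'S, haS, by rw [hk'']; simp⟩
  have h2 : Δ ⊆ Δ1 := by
    intro d hd
    have hdpos : d ∈ RootD.posOf P Δ1 := hpos1 ▸ hΔS hd
    have huniq := (h d).unique
      ⟨Finsupp.supported_mono h1 (coeff_mem hΔ1 d), Or.inl ((mem_posOf_iff hΔ1 d).mp hdpos),
        coeff_sum hΔ1 d⟩
      ⟨Finsupp.single_mem_supported ℤ 1 hd, Or.inl (fun j => by
        rw [Finsupp.single_apply]; split_ifs <;> norm_num), by simp⟩
    have : coeff P Δ1 d d ≠ 0 := by rw [huniq]; simp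
    exact coeff_mem hΔ1 d (Finsupp.mem_support_iff.mpr this)
  have heq : Δ = Δ1 := Set.Subset.antisymm h2 h1
  rw [heq]
  exact ⟨hΔ1, fun i hi => simple_indiv hΔ1 hi⟩

end Groth.Agent.S5447
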