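import Groth.Statements.S5448
import Mathlib
import Groth.Agent.Lib.helper3.RootD

set_option autoImplicit false
open RootD

namespace Groth.Agent.S5448

/-- The elements of a system of simple roots (root-only sense) are indivisible, i.e. none of them is
twice a root. -/
theorem result {ι M N : Type*} [AddCommGroup M] [AddCommGroup N]
    (P : RootPairing ι ℤ M N) [Finite ι] (Δ : Set ι) (hΔ : RootD.IsSimpleSys P Δ)
    (i : ι) (hi : i ∈ Δ) : RootD.IsIndiv P i := by
  classical
  intro j hj
  obtain ⟨c, hc, hsign, hsum⟩ := Groth.Agent.H3RootD.exists_coeff P Δ hΔ j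
  have h1 : Finsupp.linearCombination ℤ P.root ((2 : ℤ) • c) =
      Finsupp.linearCombination ℤ P.root (Finsupp.single i 1) := by
    rw [map_smul, hsum, hj]; simp
  have h2 := Groth.Agent.H3RootD.coeff_unique P Δ hΔ.linInd _ _
    (Submodule.smul_mem _ _ hc) (Finsupp.single_mem_supported ℤ 1 hi) h1
  have h3 := DFunLike.congr_fun h2 i
  rw [Finsupp.smul_apply, Finsupp.single_eq_same, smul_eq_mul] at h3
  omega

end Groth.Agent.S5448
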