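import Groth.Statements.S5449
import Mathlib
import Groth.Agent.Lib.helper3.RootD

set_option autoImplicit false
open RootD

namespace Groth.Agent.S5449

/-- For a system of simple roots Δ, the roots that are non-negative integer combinations of Δ form a
system of positive roots; and a system of positive roots S contains Δ if and only if S is that set. -/
theorem result {ι M N : Type*} [AddCommGroup M] [AddCommGroup N]
    (P : RootPairing ι ℤ M N) [Finite ι] (Δ : Set ι) (hΔ : RootD.IsSimpleSys P Δ)
    (S : Set ι) (hS : RootD.IsPosSys P S) :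
    RootD.IsPosSys P (RootD.posOf P Δ) ∧ (Δ ⊆ S ↔ S = RootD.posOf P Δ) := by
  classical
  have hneg := Groth.Agent.H3RootD.neg_root P
  have hcover : ∀ k : ι, k ∈ RootD.posOf P Δ ∨ P.reflectionPerm k k ∈ RootD.posOf P Δ := by
    intro k
    rcases hΔ.mem_or_neg_mem k with h | h
    · exact Or.inl h
    · right
      change P.root (P.reflectionPerm k k) ∈ RootD.natSpan P Δ
      rw [hneg]; exact h
  have hmono : ∀ {A B : Set ι}, A ⊆ B → RootD.natSpan P A ≤ RootD.natSpan P B := by
    intro A B hAB
    exact AddSubmonoid.closure_mono (Set.image_mono hAB)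
  have hposle : RootD.natSpan P (RootD.posOf P Δ) ≤ RootD.natSpan P Δ := by
    apply AddSubmonoid.closure_le.mpr
    rintro x ⟨k, hk, rfl⟩
    exact hk
  have hPos : RootD.IsPosSys P (RootD.posOf P Δ) := by
    refine ⟨?_, hcover, ?_⟩
    · intro k hk hk'
      have hk'' : -P.root k ∈ RootD.natSpan P Δ := by rw [← hneg]; exact hk'
      obtain ⟨c, hc, hpos, hsum⟩ := Groth.Agent.H3RootD.natSpan_exists_finsupp P Δ _ hk
      obtain ⟨c', hc', hpos', hsum'⟩ := Groth.Agent.H3RootD.natSpan_exists_finsupp P Δ _ hk''
      have h1 : Finsupp.linearCombination ℤ P.root c' = Finsupp.linearCombination ℤ P.root (-c) := by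
        rw [hsum', map_neg, hsum]
      have h2 := Groth.Agent.H3RootD.coeff_unique P Δ hΔ.linInd _ _ hc' (Submodule.neg_mem _ hc) h1
      have hc0 : c = 0 := by
        ext d
        have h3 := hpos' d
        rw [h2, Finsupp.neg_apply] at h3
        have h4 := hpos d
        simp only [Finsupp.coe_zero, Pi.zero_apply]
        omega
      rw [hc0, map_zero] at hsum
      exact P.ne_zero k hsum.symm
    · intro k n hn hk
      have hk' := hposle hk
      obtain ⟨c, hc, hpos, hsum⟩ := Groth.Agent.H3RootD.natSpan_exists_finsupp P Δ _ hk'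
      obtain ⟨ck, hck, hsign, hsumk⟩ := Groth.Agent.H3RootD.exists_coeff P Δ hΔ k
      have h1 : Finsupp.linearCombination ℤ P.root c =
          Finsupp.linearCombination ℤ P.root ((n : ℤ) • ck) := by
        rw [hsum, map_smul, hsumk, natCast_zsmul]
      have h2 := Groth.Agent.H3RootD.coeff_unique P Δ hΔ.linInd _ _ hc (Submodule.smul_mem _ _ hck) h1
      have hckpos : ∀ d, 0 ≤ ck d := by
        intro d
        have h3 := hpos d
        rw [h2, Finsupp.smul_apply, smul_eq_mul] at h3
        have hn' : (0 : ℤ) < n := by exact_mod_cast hn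
        by_contra hlt
        rw [not_le] at hlt
        have := mul_neg_of_pos_of_neg hn' hlt
        omega
      change P.root k ∈ RootD.natSpan P Δ
      rw [← hsumk]
      exact Groth.Agent.H3RootD.finsupp_mem_natSpan P Δ ck hck hckpos
  refine ⟨hPos, ?_, ?_⟩
  · intro hΔS
    apply Set.Subset.antisymm
    · intro k hk
      rcases hcover k with h | h
      · exact h
      · exfalso
        have hmem : P.reflectionPerm k k ∈ S := by
          apply hS.sat 1 one_pos
          rw [one_smul]
          exact hmono hΔS h
        exact hS.disjoint hk hmem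
    · intro k hk
      apply hS.sat 1 one_pos
      rw [one_smul]
      exact hmono hΔS hk
  · intro hS'
    rw [hS']
    intro d hd
    exact AddSubmonoid.subset_closure ⟨d, hd, rfl⟩

end Groth.Agent.S5449
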