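import Groth.Statements.S5452
import Mathlib
import Groth.Agent.Lib.helper3.RootAut

set_option autoImplicit false
open RootPairing
open scoped Pointwise
open RootD

namespace Groth.Agent.S5452

/-- The Weyl group of a root datum acts faithfully on the set of roots. -/
theorem result {ι M N : Type*} [AddCommGroup M] [AddCommGroup N]
    (P : RootPairing ι ℤ M N) [Finite ι] :
    Function.Injective P.weylGroupToPerm := by
  open Groth.Agent.H3RootD RootPairing in
  rintro ⟨u, hu⟩ ⟨v, hv⟩ h
  apply Subtype.ext
  change u = v
  apply aut_eq_of_index_eq P u v
  · intro i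
    exact DFunLike.congr_fun h i
  · intro m
    refine ⟨1, one_pos, ?_⟩
    rw [one_smul]
    have : u • m - v • m = (u • m - m) - (v • m - m) := by abel
    rw [this]
    exact Submodule.sub_mem _ (weyl_smul_sub_mem_span P u hu m) (weyl_smul_sub_mem_span P v hv m)

end Groth.Agent.S5452
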