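import Groth.Statements.S5454
import Mathlib
import Groth.Agent.Lib.helper3.RootTrans

set_option autoImplicit false
open RootPairing
open scoped Pointwise
open RootD

namespace Groth.Agent.S5454

/-- The Weyl group acts transitively on the set of systems of positive roots. -/
theorem result {ι M N : Type*} [AddCommGroup M] [AddCommGroup N]
    (P : RootPairing ι ℤ M N) [Finite ι] (S S' : Set ι) (hS : RootD.IsPosSys P S)
    (hS' : RootD.IsPosSys P S') :
    ∃ g : P.Aut, g ∈ P.weylGroup ∧ (fun i : ι => g • i) '' S = S' := by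
  open Groth.Agent.H3RootD in
  obtain ⟨Δ, hΔ, hpos⟩ := exists_simpleSys_of_isPosSys hS
  obtain ⟨g, hgW, hg⟩ := exists_weyl_posOf_subset S' hS'.cover (isClosedSub_of_isPosSys hS') _ Δ hΔ rfl
  refine ⟨g, hgW, ?_⟩
  rw [← hpos]
  refine eq_of_subset_of_P1_P2 hg ?_ hS'.disjoint
  rw [← posOf_image]
  exact pos_or_neg (simpleSys_image g hΔ)

end Groth.Agent.S5454
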