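import Groth.Statements.S5457
import Mathlib

set_option autoImplicit false
open RootD

namespace Groth.Agent.S5457

/-- Given a translation-invariant partial order (pulled back along an additive map to an ordered abelian
group) for which every root is > 0 or < 0, the roots > 0 form a system of positive roots. -/
theorem result {ι M N : Type*} [AddCommGroup M] [AddCommGroup N]
    (P : RootPairing ι ℤ M N) [Finite ι] {G : Type*} [AddCommGroup G] [PartialOrder G]
    [IsOrderedAddMonoid G] (φ : M →+ G) (hφ : ∀ i : ι, 0 < φ (P.root i) ∨ φ (P.root i) < 0) :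
    RootD.IsPosSys P {i : ι | 0 < φ (P.root i)} := by
  have hneg : ∀ i : ι, P.root (P.reflectionPerm i i) = -P.root i := by
    intro i
    rw [P.root_reflectionPerm, P.reflection_apply_self]
  have hspan : ∀ x ∈ RootD.natSpan P {i : ι | 0 < φ (P.root i)}, 0 ≤ φ x := by
    intro x hx
    refine AddSubmonoid.closure_induction (motive := fun y _ => 0 ≤ φ y) ?_ ?_ ?_ hx
    · rintro y ⟨i, hi, rfl⟩
      exact le_of_lt hi
    · rw [map_zero]
    · intro a b _ _ ha hb
      rw [map_add]
      exact add_nonneg ha hb
  refine ⟨?_, ?_, ?_⟩
  · intro i hi hi'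
    have h1 : 0 < φ (P.root i) := hi
    have h2 : 0 < φ (P.root (P.reflectionPerm i i)) := hi'
    rw [hneg, map_neg, neg_pos] at h2
    exact lt_asymm h1 h2
  · intro i
    rcases hφ i with h | h
    · exact Or.inl h
    · right
      change 0 < φ (P.root (P.reflectionPerm i i))
      rw [hneg, map_neg, neg_pos]
      exact h
  · intro k n hn hk
    rcases hφ k with h | h
    · exact h
    · exfalso
      have h1 := hspan _ hk
      rw [map_nsmul] at h1
      have h2 : n • φ (P.root k) < 0 := by
        have := nsmul_lt_nsmul_right (ne_of_gt hn) h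
        simpa using this
      exact not_lt_of_ge h1 h2

end Groth.Agent.S5457
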