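import Groth.Statements.S5461
import Mathlib
import Groth.Agent.Lib.helper3.RootSat3

set_option autoImplicit false
open RootD

namespace Groth.Agent.S5461

/-- If R' is the trace of a vector subspace on the roots, every system of simple roots Δ' of the root
datum with roots R' is contained in a system of simple roots Δ of the whole datum, and R' is the set
of roots in the span of Δ'. -/
theorem result {ι M N : Type*} [AddCommGroup M] [AddCommGroup N]
    (P : RootPairing ι ℤ M N) [Finite ι] (R' : Set ι)
    (hsat : ∀ k : ι, (∃ n : ℕ, 0 < n ∧ n • P.root k ∈ Submodule.span ℤ (P.root '' R')) → k ∈ R')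
    (Δ' : Set ι) (hΔ'R : Δ' ⊆ R') (hli : LinearIndepOn ℤ P.root Δ')
    (hgen : ∀ k ∈ R', P.root k ∈ RootD.natSpan P Δ' ∨ -P.root k ∈ RootD.natSpan P Δ') :
    ∃ Δ : Set ι, RootD.IsSimpleSys P Δ ∧ Δ' ⊆ Δ ∧ R' = RootD.inSpan P Δ' := by
  open Groth.Agent.H3RootD RootPairing in
  obtain ⟨Δ, hΔ, hsub⟩ := sat_extend P R' hsat Δ' hΔ'R hli hgen
  refine ⟨Δ, hΔ, hsub, ?_⟩
  ext k
  constructor
  · intro hk
    have hle : ∀ x ∈ RootD.natSpan P Δ', x ∈ Submodule.span ℤ (P.root '' Δ') := by
      intro x hx
      induction hx using AddSubmonoid.closure_induction with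
      | mem y hy => exact Submodule.subset_span hy
      | zero => exact Submodule.zero_mem _
      | add y z _ _ hy hz => exact Submodule.add_mem _ hy hz
    rcases hgen k hk with h | h
    · exact hle _ h
    · have := hle _ h
      rw [Submodule.neg_mem_iff] at this
      exact this
  · intro hk
    apply hsat k
    refine ⟨1, one_pos, ?_⟩
    rw [one_smul]
    exact Submodule.span_mono (Set.image_mono hΔ'R) hk

end Groth.Agent.S5461
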