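import Groth.Statements.S5462
import Mathlib
import Groth.Agent.Lib.helper3.RootCoeff

set_option autoImplicit false
open RootPairing
open scoped Pointwise
open RootD

namespace Groth.Agent.S5462

/-- For Δ' contained in a system of simple roots Δ, the subgroup of the Weyl group generated by the
reflections in Δ' preserves the set of positive roots not lying in the span of Δ'. -/
theorem result {ι M N : Type*} [AddCommGroup M] [AddCommGroup N]
    (P : RootPairing ι ℤ M N) [Finite ι] (Δ Δ' : Set ι) (hΔ : RootD.IsSimpleSys P Δ) (hsub : Δ' ⊆ Δ)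
    (g : P.Aut) (hg : g ∈ Subgroup.closure ((fun i : ι => Equiv.reflection P i) '' Δ'))
    (k : ι) (hk : k ∈ RootD.posOf P Δ) (hk' : k ∉ RootD.inSpan P Δ') :
    g • k ∈ RootD.posOf P Δ ∧ g • k ∉ RootD.inSpan P Δ' := by
  open Groth.Agent.H3RootD in
  have key : ∀ i ∈ Δ', ∀ k, (k ∈ RootD.posOf P Δ ∧ k ∉ RootD.inSpan P Δ') →
      (P.reflectionPerm i k ∈ RootD.posOf P Δ ∧ P.reflectionPerm i k ∉ RootD.inSpan P Δ') := by
    rintro i hi k ⟨hk, hk'⟩
    rw [mem_inSpan_iff hΔ hsub] at hk'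
    push Not at hk'
    obtain ⟨d, hd, hne⟩ := hk'
    have hdi : d ≠ i := fun h => hd (h ▸ hi)
    have hpos : 0 < coeff P Δ k d := lt_of_le_of_ne ((mem_posOf_iff hΔ k).mp hk d) (Ne.symm hne)
    have heq := coeff_reflection_simple hΔ (hsub hi) k d hdi
    refine ⟨mem_posOf_of_coeff_pos hΔ _ d (heq ▸ hpos), ?_⟩
    rw [mem_inSpan_iff hΔ hsub]
    push Not
    exact ⟨d, hd, heq ▸ hne⟩
  revert k
  induction hg using Subgroup.closure_induction'' with
  | mem x hx =>
    obtain ⟨i, hi, rfl⟩ := hx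
    intro k hk hk'
    exact key i hi k ⟨hk, hk'⟩
  | inv_mem x hx =>
    obtain ⟨i, hi, rfl⟩ := hx
    intro k hk hk'
    rw [RootPairing.Equiv.reflection_inv]
    exact key i hi k ⟨hk, hk'⟩
  | one => intro k hk hk'; exact ⟨hk, hk'⟩
  | mul x y _ _ hx hy =>
    intro k hk hk'
    rw [mul_smul]
    obtain ⟨h1, h2⟩ := hy k hk hk'
    exact hx _ h1 h2


end Groth.Agent.S5462
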