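import Groth.Statements.S5465
import Mathlib
import Groth.Agent.Lib.helper3.RootExt

set_option autoImplicit false
open RootD

namespace Groth.Agent.S5465

/-- A map from the roots to an abelian group that is odd and additive on pairs of roots whose sum is a
root extends uniquely to a homomorphism on the lattice generated by the roots. -/
theorem result {ι M N : Type*} [AddCommGroup M] [AddCommGroup N]
    (P : RootPairing ι ℤ M N) [Finite ι] {G : Type*} [AddCommGroup G] (f : ι → G)
    (hneg : ∀ i : ι, f (P.reflectionPerm i i) = -f i)
    (hadd : ∀ i j k : ι, P.root k = P.root i + P.root j → f k = f i + f j) :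
    ∃! φ : Submodule.span ℤ (Set.range P.root) →+ G,
      ∀ i : ι, φ ⟨P.root i, Submodule.subset_span (Set.mem_range_self i)⟩ = f i := by
  open Groth.Agent.H3RootD in
  obtain ⟨φ, hφ⟩ := exists_addHom_of_additive f hneg hadd
  refine ⟨φ, hφ, fun ψ hψ => ?_⟩
  exact addHom_ext_span ψ φ (fun i => (hψ i).trans (hφ i).symm)

end Groth.Agent.S5465
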