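import Groth.Statements.S5466
import Mathlib
import Groth.Agent.Lib.helper3.RootD

set_option autoImplicit false
open RootD

namespace Groth.Agent.S5466

/-- The reflection in a simple root β maps every positive root not proportional to β to a positive root. -/
theorem result {ι M N : Type*} [AddCommGroup M] [AddCommGroup N]
    (P : RootPairing ι ℤ M N) [Finite ι] (Δ : Set ι) (hΔ : RootD.IsSimpleSys P Δ)
    (k i : ι) (hk : k ∈ RootD.posOf P Δ) (hi : i ∈ Δ)
    (hli : LinearIndependent ℤ ![P.root k, P.root i]) :
    P.reflectionPerm i k ∈ RootD.posOf P Δ := by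
  classical
  obtain ⟨c, hc, hpos, hsum⟩ := Groth.Agent.H3RootD.natSpan_exists_finsupp P Δ _ hk
  obtain ⟨c', hc', hsign, hsum'⟩ := Groth.Agent.H3RootD.exists_coeff P Δ hΔ (P.reflectionPerm i k)
  have hrefl : P.root (P.reflectionPerm i k) = P.root k - P.pairing k i • P.root i := by
    rw [P.root_reflectionPerm, P.reflection_apply_root]
  have h1 : Finsupp.linearCombination ℤ P.root c' =
      Finsupp.linearCombination ℤ P.root (c - P.pairing k i • Finsupp.single i 1) := by
    rw [hsum', hrefl, map_sub, map_smul, hsum]; simp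
  have h2 := Groth.Agent.H3RootD.coeff_unique P Δ hΔ.linInd _ _ hc'
    (Submodule.sub_mem _ hc (Submodule.smul_mem _ _ (Finsupp.single_mem_supported ℤ 1 hi))) h1
  -- some d ≠ i with c d > 0
  have hex : ∃ d, d ≠ i ∧ 0 < c d := by
    by_contra hcon
    push Not at hcon
    have hc0 : ∀ d, d ≠ i → c d = 0 := fun d hd => le_antisymm (hcon d hd) (hpos d)
    have hceq : c = Finsupp.single i (c i) := by
      ext d
      by_cases hd : d = i
      · subst hd; simp
      · rw [hc0 d hd, Finsupp.single_apply, if_neg (Ne.symm hd)]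
    have hk' : P.root k = c i • P.root i := by
      rw [← hsum, hceq]; simp
    have := LinearIndependent.pair_iff.mp hli 1 (-(c i)) (by rw [hk']; simp)
    exact one_ne_zero this.1
  obtain ⟨d, hdi, hd⟩ := hex
  have hc'd : c' d = c d := by
    rw [h2, Finsupp.sub_apply, Finsupp.smul_apply, Finsupp.single_apply, if_neg (Ne.symm hdi)]
    simp
  have hpos' : ∀ e, 0 ≤ c' e := by
    rcases hsign with h | h
    · exact h
    · exfalso
      have := h d
      rw [hc'd] at this
      omega
  change P.root (P.reflectionPerm i k) ∈ RootD.natSpan P Δ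
  rw [← hsum']
  exact Groth.Agent.H3RootD.finsupp_mem_natSpan P Δ c' hc' hpos'

end Groth.Agent.S5466
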