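import Groth.Statements.S5468
import Mathlib
import Groth.Agent.Lib.helper3.RootRefl

set_option autoImplicit false
open RootD

namespace Groth.Agent.S5468

/-- Two roots whose reflections are distinct and commute are orthogonal. -/
theorem result {ι M N : Type*} [AddCommGroup M] [AddCommGroup N]
    (P : RootPairing ι ℤ M N) [Finite ι] (i j : ι)
    (hne : P.reflection i ≠ P.reflection j) (hc : Commute (P.reflection i) (P.reflection j)) :
    P.IsOrthogonal i j := by
  open Groth.Agent.H3RootD RootPairing in
  have : IsAddTorsionFree M := tfM P
  set p := P.pairing i j with hp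
  set q := P.pairing j i with hq
  have h1 : P.reflection i (P.reflection j (P.root i)) = P.reflection j (P.reflection i (P.root i)) := by
    have := congrArg (fun g => g (P.root i)) hc.eq
    simpa using this
  have h2 : (p * q) • P.root i = (2 * p) • P.root j := by
    simp only [P.reflection_apply_root, map_sub, map_smul, P.pairing_same] at h1
    have : (p * q) • P.root i - (2 * p) • P.root j = 0 := by
      rw [← sub_eq_zero] at h1
      rw [← h1]
      simp only [← hp, ← hq]
      module
    exact sub_eq_zero.mp this
  by_cases hp0 : p = 0
  · exact ⟨hp0, (pairing_zero_symm P i j).mp hp0⟩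
  exfalso
  have h3 : q • P.root i = (2 : ℤ) • P.root j := by
    have : p • (q • P.root i) = p • ((2 : ℤ) • P.root j) := by
      rw [smul_smul, smul_smul, mul_comm p 2]; exact h2
    exact smul_right_injective M hp0 this
  have h4 : p * q = 4 := by
    have := congrArg (fun x => P.toLinearMap x (P.coroot j)) h3
    simp only [map_smul, LinearMap.smul_apply, P.root_coroot_eq_pairing, P.pairing_same,
      smul_eq_mul] at this
    rw [← hp] at this
    linarith
  have hqdvd : q ∣ 4 := ⟨p, by rw [← h4, mul_comm]⟩
  have hle : q ≤ 4 := Int.le_of_dvd (by norm_num) hqdvd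
  have hge : -4 ≤ q := by
    have : -q ∣ 4 := (neg_dvd).mpr hqdvd
    have := Int.le_of_dvd (by norm_num) this
    linarith
  have two_inj : ∀ x y : M, (2 : ℤ) • x = (2 : ℤ) • y → x = y :=
    fun x y h => smul_right_injective M (two_ne_zero (α := ℤ)) h
  apply hne
  interval_cases q
  · -- q = -4
    have : P.root j = (2 : ℤ) • P.root (P.reflectionPerm i i) := by
      apply two_inj
      rw [← h3, neg_root]; module
    rw [refl_two j _ this, refl_neg]
  · omega
  · -- q = -2
    have : j = P.reflectionPerm i i := by
      apply P.root.injective
      apply two_inj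
      rw [← h3, neg_root]; module
    rw [this, refl_neg]
  · -- q = -1
    have : P.root (P.reflectionPerm i i) = (2 : ℤ) • P.root j := by
      rw [← h3, neg_root]; module
    rw [← refl_neg i, refl_two _ j this]
  · omega
  · -- q = 1
    have : P.root i = (2 : ℤ) • P.root j := by
      rw [← h3]; module
    rw [refl_two i j this]
  · -- q = 2
    have : i = j := P.root.injective (two_inj _ _ h3)
    rw [this]
  · omega
  · -- q = 4
    have : P.root j = (2 : ℤ) • P.root i := by
      apply two_inj
      rw [← h3]; module
    rw [refl_two j i this]

end Groth.Agent.S5468
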