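import Groth.Statements.S5470
import Mathlib
import Groth.Agent.Lib.helper3.RootConj

set_option autoImplicit false
open RootPairing
open scoped Pointwise
open RootD

namespace Groth.Agent.S5470

/-- In an irreducible root datum the Weyl group acts transitively on the roots of any given length. -/
theorem result {ι M N : Type*} [AddCommGroup M] [AddCommGroup N]
    (P : RootPairing ι ℤ M N) [Finite ι] [Fintype ι] [Nonempty ι]
    (hirr : ∀ R' : Set ι, RootD.IsClosedSub P R' → RootD.IsSymmSub P R' → RootD.IsClosedSub P R'ᶜ →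
      RootD.IsSymmSub P R'ᶜ → R' = ∅ ∨ R' = Set.univ)
    (i j : ι) (hl : P.RootForm (P.root i) (P.root i) = P.RootForm (P.root j) (P.root j)) :
    ∃ g : P.Aut, g ∈ P.weylGroup ∧ g • i = j := by
  open Groth.Agent.H3RootD in
  set R'' : Set ι := {k | ∀ w : P.Aut, w ∈ P.weylGroup → P.IsOrthogonal (w • i) k} with hR''
  have horth : ∀ b ∈ R'', ∀ a ∉ R'', P.IsOrthogonal b a := by
    intro b hb a ha
    simp only [hR'', Set.mem_ofPred_eq, not_forall] at ha
    obtain ⟨w, hw, hwa⟩ := ha
    have h1 := (hb (Equiv.reflection P a * w) (mul_mem (P.reflection_mem_weylGroup a) hw)).1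
    rw [mul_smul, simple_reflection_smul_eq, pairing_reflectionPerm_left, (hb w hw).1, zero_sub,
      neg_eq_zero] at h1
    have hne : P.pairing (w • i) a ≠ 0 := fun h0 => hwa ⟨h0, (pairing_zero_symm P _ _).mp h0⟩
    have h2 : P.pairing a b = 0 := (mul_eq_zero.mp h1).resolve_left hne
    exact ⟨(pairing_zero_symm P a b).mp h2, h2⟩
  obtain ⟨k1, k2, k3, k4⟩ := (closedSymm_iff_orth (P := P) R'').mpr horth
  have hi : i ∉ R'' := by
    intro h
    have := (h 1 (one_mem _)).1
    rw [one_smul, P.pairing_same] at this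
    omega
  rcases hirr R'' k1 k2 k3 k4 with h | h
  · have hj : j ∉ R'' := by rw [h]; exact Set.notMem_empty j
    simp only [hR'', Set.mem_ofPred_eq, not_forall] at hj
    obtain ⟨w, hw, hwj⟩ := hj
    obtain ⟨g, hg, hgj⟩ := conj_of_length_eq (w • i) j hwj ((rootForm_weyl_smul w hw i).trans hl)
    exact ⟨g * w, mul_mem hg hw, by rw [mul_smul, hgj]⟩
  · exact absurd (h ▸ Set.mem_univ i) hi

end Groth.Agent.S5470
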