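import Groth.Statements.S5471
import Mathlib
import Groth.Agent.Lib.helper3.RootLen

set_option autoImplicit false
open RootPairing
open scoped Pointwise
open RootD

namespace Groth.Agent.S5471

/-- In a reduced irreducible root datum the ratios of squared root lengths to the minimal one form one
of the sets {1}, {1, 2}, {1, 3}. -/
theorem result {ι M N : Type*} [AddCommGroup M] [AddCommGroup N]
    (P : RootPairing ι ℤ M N) [Finite ι] [Fintype ι] [Nonempty ι] [P.IsReduced]
    (hirr : ∀ R' : Set ι, RootD.IsClosedSub P R' → RootD.IsSymmSub P R' → RootD.IsClosedSub P R'ᶜ →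
      RootD.IsSymmSub P R'ᶜ → R' = ∅ ∨ R' = Set.univ)
    (i₀ : ι) (hmin : ∀ i : ι, P.RootForm (P.root i₀) (P.root i₀) ≤ P.RootForm (P.root i) (P.root i)) :
    (∀ i : ι, P.RootForm (P.root i) (P.root i) = P.RootForm (P.root i₀) (P.root i₀) ∨
        P.RootForm (P.root i) (P.root i) = 2 * P.RootForm (P.root i₀) (P.root i₀) ∨
        P.RootForm (P.root i) (P.root i) = 3 * P.RootForm (P.root i₀) (P.root i₀)) ∧
      ¬ ((∃ i : ι, P.RootForm (P.root i) (P.root i) = 2 * P.RootForm (P.root i₀) (P.root i₀)) ∧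
          ∃ j : ι, P.RootForm (P.root j) (P.root j) = 3 * P.RootForm (P.root i₀) (P.root i₀)) := by
  open Groth.Agent.H3RootD in
  have h0 : 0 < P.RootForm (P.root i₀) (P.root i₀) := rootForm_pos i₀
  constructor
  · intro i
    obtain ⟨w, hw, hwi⟩ := exists_weyl_not_orth hirr i₀ i
    obtain ⟨hset, heq⟩ := length_ratio_red (w • i₀) i hwi
    rw [rootForm_weyl_smul w hw] at heq
    have hle := hmin i
    simp only [Set.mem_insert_iff, Set.mem_singleton_iff, Prod.mk.injEq] at hset
    rcases hset with h | h | h | h | h | h | h | h | h | h | h | h <;>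
      (rw [h.1, h.2] at heq; omega)
  · rintro ⟨⟨i, hi⟩, ⟨j, hj⟩⟩
    obtain ⟨w, hw, hwi⟩ := exists_weyl_not_orth hirr i j
    obtain ⟨hset, heq⟩ := length_ratio_red (w • i) j hwi
    rw [rootForm_weyl_smul w hw, hi, hj] at heq
    simp only [Set.mem_insert_iff, Set.mem_singleton_iff, Prod.mk.injEq] at hset
    rcases hset with h | h | h | h | h | h | h | h | h | h | h | h <;>
      (rw [h.1, h.2] at heq; omega)

end Groth.Agent.S5471
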