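import Groth.Statements.S5472
import Mathlib
import Groth.Agent.Lib.helper3.RootDih3

set_option autoImplicit false
open RootPairing
open scoped Pointwise
open RootD

namespace Groth.Agent.S5472

/-- Let Δ be a system of simple roots (root-only sense), γ a positive root and α, β simple roots with
(γ, α^v) > 0 and (γ, β^v) ≥ 0 (equivalently: the order of s_α(γ) along Δ is smaller than that of γ,
and the order of s_β(γ) is at most that of γ). Then for every w in the group generated by s_α and
s_β the order of w(γ) along Δ is at most that of γ, and strictly smaller unless w ∈ {1, s_β}. The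
order is the sum of the coefficients along Δ; the conclusion is stated for the coefficient vector c
of γ - w(γ) along Δ: its coefficient sum is ≥ 0, and > 0 unless w = 1 or w = s_β. -/
theorem result {ι M N : Type*} [AddCommGroup M] [AddCommGroup N]
    (P : RootPairing ι ℤ M N) [Finite ι] (Δ : Set ι) (hΔ : RootD.IsSimpleSys P Δ)
    (k i j : ι) (hk : k ∈ RootD.posOf P Δ) (hi : i ∈ Δ) (hj : j ∈ Δ)
    (hα : 0 < P.pairing k i) (hβ : 0 ≤ P.pairing k j)
    (g : P.Aut) (hg : g ∈ Subgroup.closure {Equiv.reflection P i, Equiv.reflection P j})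
    (c : ι →₀ ℤ) (hc : ↑c.support ⊆ Δ)
    (hck : Finsupp.linearCombination ℤ P.root c = P.root k - P.root (g • k)) :
    0 ≤ c.sum (fun _ a => a) ∧ (g ≠ 1 → g ≠ Equiv.reflection P j → 0 < c.sum (fun _ a => a)) := by
  open Groth.Agent.H3RootD RootPairing in
  obtain ⟨h1, h2⟩ := dihedral_ht hΔ k i j hi hj hα hβ g hg
  have hceq : c = coeff P Δ k - coeff P Δ (g • k) := by
    refine coeff_unique P Δ hΔ.linInd _ _ hc
      (Submodule.sub_mem _ (coeff_mem hΔ k) (coeff_mem hΔ (g • k))) ?_
    rw [hck, map_sub, coeff_sum hΔ, coeff_sum hΔ]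
  have hsum : c.sum (fun _ a => a) = ht P Δ k - ht P Δ (g • k) := by
    rw [hceq, Finsupp.sum_sub_index (fun _ _ _ => rfl)]
    rfl
  rw [hsum]
  exact ⟨by linarith, fun hg1 hgj => by have := h2 hg1 hgj; linarith⟩

end Groth.Agent.S5472
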