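import Groth.Statements.S5475
import Mathlib
import Groth.Agent.Lib.helper3.RootMisc

set_option autoImplicit false
open RootD

namespace Groth.Agent.S5475

/-- In an adjoint root datum every indivisible root is an indivisible element of the weight lattice. -/
theorem result {ι M N : Type*} [AddCommGroup M] [AddCommGroup N]
    (P : RootPairing ι ℤ M N) [Finite ι] (had : Submodule.span ℤ (Set.range P.root) = ⊤)
    (i : ι) (hind : RootD.IsIndiv P i) (m : M) (n : ℤ) (h : n • m = P.root i) : n = 1 ∨ n = -1 := by
  open Groth.Agent.H3RootD in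
  classical
  obtain ⟨Δ, hΔ⟩ := exists_simpleSys (P := P)
  obtain ⟨g, -, d, hd, hgd⟩ := indiv_conj_simple hΔ i hind
  have h1 : n • (g⁻¹ • m) = P.root d := by
    rw [smul_comm, h, aut_smul_root, ← hgd, inv_smul_smul]
  have hmem : g⁻¹ • m ∈ Submodule.span ℤ (P.root '' Δ) := by
    rw [span_simple_eq hΔ, had]; exact Submodule.mem_top
  obtain ⟨c, hc, hcm⟩ := (Finsupp.mem_span_image_iff_linearCombination ℤ).mp hmem
  have h2 : n • c = Finsupp.single d 1 := by
    refine coeff_unique P Δ hΔ.linInd _ _ (Submodule.smul_mem _ _ hc)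
      (Finsupp.single_mem_supported ℤ 1 hd) ?_
    rw [map_smul, hcm, h1]; simp
  have h3 := DFunLike.congr_fun h2 d
  simp only [Finsupp.coe_smul, Pi.smul_apply, smul_eq_mul, Finsupp.single_eq_same] at h3
  exact Int.eq_one_or_neg_one_of_mul_eq_one h3

end Groth.Agent.S5475
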