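import Groth.Statements.S5478
import Mathlib
import Groth.Agent.Lib.helper3.RootAut

set_option autoImplicit false
open RootPairing
open scoped Pointwise
open RootD

namespace Groth.Agent.S5478

/-- The group of automorphisms of a root datum that act trivially on the radical is finite. -/
theorem result {ι M N : Type*} [AddCommGroup M] [AddCommGroup N]
    (P : RootPairing ι ℤ M N) [Finite ι] :
    Set.Finite {u : P.Aut | ∀ m : M, ∃ n : ℕ, 0 < n ∧ n • (u • m - m) ∈ Submodule.span ℤ (Set.range P.root)} := by
  open Groth.Agent.H3RootD RootPairing in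
  refine Set.Finite.of_injOn (f := fun u : P.Aut => Equiv.indexHom P u) (t := Set.univ)
    (fun _ _ => Set.mem_univ _) ?_ Set.finite_univ
  intro u hu v hv h
  apply aut_eq_of_index_eq P u v
  · intro i
    exact DFunLike.congr_fun h i
  · intro m
    obtain ⟨n1, hn1, h1⟩ := hu m
    obtain ⟨n2, hn2, h2⟩ := hv m
    refine ⟨n1 * n2, Nat.mul_pos hn1 hn2, ?_⟩
    have : (n1 * n2) • (u • m - v • m) = n2 • (n1 • (u • m - m)) - n1 • (n2 • (v • m - m)) := by
      rw [smul_smul, smul_smul, mul_comm n2 n1, ← smul_sub]
      congr 1; abel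
    rw [this]
    exact Submodule.sub_mem _ (Submodule.smul_of_tower_mem _ _ h1) (Submodule.smul_of_tower_mem _ _ h2)

end Groth.Agent.S5478
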