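import Groth.Statements.S5479
import Mathlib
import Groth.Agent.Lib.helper3.RootSimpTrans

set_option autoImplicit false
open RootPairing
open scoped Pointwise
open RootD

namespace Groth.Agent.S5479

/-- Aut(R) is the semidirect product of the Weyl group by the stabiliser E_Δ of a system of simple
roots: every automorphism is uniquely w · e with w ∈ W and e(Δ) = Δ. -/
theorem result {ι M N : Type*} [AddCommGroup M] [AddCommGroup N]
    (P : RootPairing ι ℤ M N) [Finite ι] (Δ : Set ι) (hΔ : RootD.IsSimpleSys P Δ) (u : P.Aut) :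
    ∃! w : P.weylGroup, (fun i : ι => ((w : P.Aut)⁻¹ * u) • i) '' Δ = Δ := by
  open Groth.Agent.H3RootD in
  obtain ⟨g, hgW, hg⟩ := exists_weyl_image_simple_eq Δ _ hΔ (simpleSys_image u hΔ)
  have himg : ∀ (a b : P.Aut) (A : Set ι), (fun i : ι => (a * b) • i) '' A =
      (fun i => a • i) '' ((fun i => b • i) '' A) := by
    intro a b A
    rw [Set.image_image]
    simp only [mul_smul]
  refine ⟨⟨g, hgW⟩, ?_, ?_⟩
  · change (fun i : ι => (g⁻¹ * u) • i) '' Δ = Δ
    rw [himg, ← hg, image_inv_image]
  · rintro ⟨w, hw⟩ hwΔ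
    change (fun i : ι => (w⁻¹ * u) • i) '' Δ = Δ at hwΔ
    apply Subtype.ext
    change w = g
    have h1 : (fun i : ι => (g⁻¹ * w) • i) '' Δ = Δ := by
      have h2 : (fun i : ι => w • i) '' Δ = (fun i : ι => u • i) '' Δ := by
        have := congrArg (fun A => (fun i : ι => w • i) '' A) hwΔ
        simp only [himg] at this
        have h3 := image_inv_image w⁻¹ ((fun i => u • i) '' Δ)
        rw [inv_inv] at h3
        rw [h3] at this
        exact this.symm
      rw [himg, h2, ← hg, image_inv_image]
    have := weyl_eq_one_of_image_eq hΔ (g⁻¹ * w) (mul_mem (inv_mem hgW) hw) h1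
    exact (inv_mul_eq_one.mp this).symm

end Groth.Agent.S5479
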