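import Groth.Statements.S5480
import Mathlib
import Groth.Agent.Lib.helper3.RootPM
import Groth.Agent.S5452

set_option autoImplicit false
open RootD

namespace Groth.Agent.S5480

/-- For a p-morphism of reduced root data with root bijection u and radicial exponents q: (a) for all
roots α, β one has q(s_α(β)) = q(β) and u(s_α(β)) = s_{u(α)}(u(β)); (b) the exponents are invariant
under the Weyl group, q(w(α)) = q(α); (c) there is an isomorphism ū from the Weyl group of the first
datum to that of the second with ū(s_α) = s_{u(α)} and u(w(α)) = ū(w)(u(α)) for every Weyl group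
element w and every root α. -/
theorem result {ι M N ι' M' N' : Type*} [AddCommGroup M] [AddCommGroup N] [AddCommGroup M'] [AddCommGroup N']
    (P : RootPairing ι ℤ M N) (P' : RootPairing ι' ℤ M' N') [Finite ι] [Finite ι'] [P.IsReduced] [P'.IsReduced]
    (p : ℕ) (hp : 0 < p) (f : M' →ₗ[ℤ] M) (g : N →ₗ[ℤ] N')
    (hfg : ∀ (m' : M') (n : N), P.toLinearMap (f m') n = P'.toLinearMap m' (g n))
    (u : ι ≃ ι') (q : ι → ℕ) (hq : ∀ i, ∃ e : ℕ, q i = p ^ e)
    (hroot : ∀ i : ι, f (P'.root (u i)) = (q i : ℤ) • P.root i)
    (hcoroot : ∀ i : ι, g (P.coroot i) = (q i : ℤ) • P'.coroot (u i)) :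
    (∀ i j : ι, q (P.reflectionPerm i j) = q j ∧ u (P.reflectionPerm i j) = P'.reflectionPerm (u i) (u j)) ∧
      (∀ w ∈ P.weylGroup, ∀ i : ι, q (w • i) = q i) ∧
      ∃ ubar : P.weylGroup ≃* P'.weylGroup,
        (∀ i : ι, ubar (RootPairing.weylGroup.ofIdx P i) = RootPairing.weylGroup.ofIdx P' (u i)) ∧
        ∀ (w : P.weylGroup) (i : ι), u ((w : P.Aut) • i) = ((ubar w : P'.weylGroup) : P'.Aut) • u i := by
  open Groth.Agent.H3RootD RootPairing in
  classical
  have hq0 : ∀ i, 0 < q i := by
    intro i
    obtain ⟨e, he⟩ := hq i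
    rw [he]; positivity
  have hpair : ∀ a b : ι, (q b : ℤ) * P'.pairing (u a) (u b) = (q a : ℤ) * P.pairing a b := by
    intro a b
    have h1 := hfg (P'.root (u a)) (P.coroot b)
    rw [hroot, hcoroot, map_smul, map_smul, LinearMap.smul_apply, P.root_coroot_eq_pairing,
      P'.root_coroot_eq_pairing, smul_eq_mul, smul_eq_mul] at h1
    exact h1.symm
  have hA : ∀ i j : ι, q (P.reflectionPerm i j) = q j ∧
      u (P.reflectionPerm i j) = P'.reflectionPerm (u i) (u j) := by
    intro i j
    obtain ⟨m, hm⟩ := u.surjective (P'.reflectionPerm (u i) (u j))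
    have h1 : f (P'.root (u m)) = (q j : ℤ) • P.root (P.reflectionPerm i j) := by
      rw [hm, P'.root_reflectionPerm, P'.reflection_apply_root, map_sub, map_smul, hroot, hroot,
        P.root_reflectionPerm, P.reflection_apply_root, smul_sub, smul_smul, smul_smul,
        mul_comm (P'.pairing (u j) (u i)), hpair j i]
    rw [hroot] at h1
    have hmk : m = P.reflectionPerm i j := by
      refine eq_of_nsmul_eq_nsmul (P := P) _ _ (q m) (q j) (hq0 _) (hq0 _) ?_
      rw [← natCast_zsmul, ← natCast_zsmul]; exact h1
    subst hmk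
    refine ⟨?_, hm⟩
    have : Module.IsReflexive ℤ M := .of_isPerfPair P.toLinearMap
    have := smul_left_injective ℤ (P.ne_zero (P.reflectionPerm i j)) h1
    exact_mod_cast this
  refine ⟨hA, ?_, ?_⟩
  · intro w hw
    induction hw using weylGroup.induction with
    | mem a => intro i; exact (hA a i).1
    | one => intro i; rw [one_smul]
    | mul x y _ _ hx hy => intro i; rw [mul_smul, hx, hy]
  · set φ : P.weylGroup →* Equiv.Perm ι' :=
      (u.permCongrHom.toMonoidHom).comp P.weylGroupToPerm with hφ
    have hφinj : Function.Injective φ :=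
      u.permCongrHom.injective.comp (Groth.Agent.S5452.result P)
    have hφ'inj : Function.Injective P'.weylGroupToPerm := Groth.Agent.S5452.result P'
    have hconj : ∀ i, u.permCongrHom (P.reflectionPerm i) = P'.reflectionPerm (u i) := by
      intro i
      ext x
      obtain ⟨j, rfl⟩ := u.surjective x
      simp [Equiv.permCongrHom, (hA i j).2]
    have hrange : φ.range = P'.weylGroupToPerm.range := by
      rw [hφ, MonoidHom.range_comp, P.range_weylGroupToPerm, P'.range_weylGroupToPerm,
        MonoidHom.map_closure]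
      congr 1
      ext σ
      constructor
      · rintro ⟨_, ⟨i, rfl⟩, rfl⟩
        exact ⟨u i, (hconj i).symm⟩
      · rintro ⟨i', rfl⟩
        obtain ⟨i, rfl⟩ := u.surjective i'
        exact ⟨_, ⟨i, rfl⟩, hconj i⟩
    let ubar : P.weylGroup ≃* P'.weylGroup :=
      (MonoidHom.ofInjective hφinj).trans ((MulEquiv.subgroupCongr hrange).trans
        (MonoidHom.ofInjective hφ'inj).symm)
    have hub : ∀ w, P'.weylGroupToPerm (ubar w) = φ w := by
      intro w
      change P'.weylGroupToPerm ((MonoidHom.ofInjective hφ'inj).symm _) = _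
      rw [MonoidHom.apply_ofInjective_symm]
      rfl
    refine ⟨ubar, ?_, ?_⟩
    · intro i
      apply hφ'inj
      rw [hub]
      change u.permCongrHom (P.reflectionPerm i) = P'.reflectionPerm (u i)
      exact hconj i
    · intro w i
      have := DFunLike.congr_fun (hub w) (u i)
      change ((ubar w : P'.weylGroup) : P'.Aut) • u i = u ((w : P.Aut) • u.symm (u i)) at this
      rw [this, Equiv.symm_apply_apply]

end Groth.Agent.S5480
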