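import Groth.Statements.S5481
import Mathlib
import Groth.Agent.Lib.helper3.RootPM

set_option autoImplicit false
open RootD

namespace Groth.Agent.S5481

/-- The root bijection u of a p-morphism of reduced root data carries systems of simple roots onto
systems of simple roots and systems of positive roots onto systems of positive roots, bijectively. -/
theorem result {ι M N ι' M' N' : Type*} [AddCommGroup M] [AddCommGroup N] [AddCommGroup M'] [AddCommGroup N']
    (P : RootPairing ι ℤ M N) (P' : RootPairing ι' ℤ M' N') [Finite ι] [Finite ι'] [P.IsReduced] [P'.IsReduced]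
    (p : ℕ) (hp : 0 < p) (f : M' →ₗ[ℤ] M) (g : N →ₗ[ℤ] N')
    (hfg : ∀ (m' : M') (n : N), P.toLinearMap (f m') n = P'.toLinearMap m' (g n))
    (u : ι ≃ ι') (q : ι → ℕ) (hq : ∀ i, ∃ e : ℕ, q i = p ^ e)
    (hroot : ∀ i : ι, f (P'.root (u i)) = (q i : ℤ) • P.root i)
    (hcoroot : ∀ i : ι, g (P.coroot i) = (q i : ℤ) • P'.coroot (u i)) (Δ : Set ι) :
    (RootD.IsSimpleSys P Δ ↔ RootD.IsSimpleSys P' (u '' Δ)) ∧
      (RootD.IsPosSys P Δ ↔ RootD.IsPosSys P' (u '' Δ)) := by
  open Groth.Agent.H3RootD in
  classical
  have : Fintype ι := Fintype.ofFinite ι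
  have hq0 : ∀ i, 0 < q i := by
    intro i
    obtain ⟨e, he⟩ := hq i
    rw [he]; positivity
  set Q : ℕ := ∏ i, q i with hQ
  set r : ι → ℕ := fun i => Q / q i with hr_def
  have hr : ∀ i, r i * q i = Q := fun i =>
    Nat.div_mul_cancel (Finset.dvd_prod_of_mem q (Finset.mem_univ i))
  have hQpos : 0 < Q := Finset.prod_pos (fun i _ => hq0 i)
  have hrpos : ∀ i, 0 < r i := by
    intro i
    by_contra h0
    have : r i = 0 := by omega
    have := hr i
    rw [‹r i = 0›, zero_mul] at this
    omega
  have hinj := pm_inj (P := P) (P' := P') (f := f) (g := g) (u := u) (q := q) hfg hq0 hcoroot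
  have hspan' : ∀ i', P'.root i' ∈ Submodule.span ℤ (Set.range P'.root) :=
    fun i' => Submodule.subset_span ⟨i', rfl⟩
  have hfroot : ∀ i (n : ℕ), f (n • P'.root (u i)) = (n * q i) • P.root i := by
    intro i n
    rw [map_nsmul, hroot, natCast_zsmul, smul_smul]
  -- u commutes with negation
  have hneg : ∀ i, u (P.reflectionPerm i i) = P'.reflectionPerm (u i) (u i) := by
    intro i
    refine eq_of_nsmul_eq_nsmul (P := P') _ _ (q i) (q (P.reflectionPerm i i)) (hq0 _) (hq0 _) ?_
    refine hinj _ _ (Submodule.smul_of_tower_mem _ _ (hspan' _))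
      (Submodule.smul_of_tower_mem _ _ (hspan' _)) ?_
    rw [hfroot, neg_root P' (u i), smul_neg, map_neg, hfroot, neg_root, smul_neg, mul_comm]
  have hmem_image : ∀ (A : Set ι) (a : ι), u a ∈ u '' A ↔ a ∈ A :=
    fun A a => u.injective.mem_set_image
  have hlift := pm_lift_natSpan (P := P) (P' := P') (f := f) (u := u) (q := q) hroot Q r hr
  have hmap := pm_map_natSpan (P := P) (P' := P') (f := f) (u := u) (q := q) hroot
  constructor
  · constructor
    · intro hΔ
      refine isSimpleSys_of_cone (P := P') (u '' Δ) (fun i _ => indiv_of_reduced i) ?_ ?_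
      · refine (linearIndepOn_equiv u).mp ?_
        refine LinearIndepOn.of_comp f ?_
        have : (f ∘ (P'.root ∘ u)) = fun i => (q i : ℤ) • P.root i := by
          ext i; simp [hroot]
        rw [this]
        exact linearIndepOn_smul P.root Δ (fun i => (q i : ℤ))
          (fun i => by exact_mod_cast (hq0 i).ne') hΔ.linInd
      · intro k'
        obtain ⟨k, rfl⟩ := u.surjective k'
        refine ⟨r k, hrpos k, ?_⟩
        rcases hΔ.mem_or_neg_mem k with h | h
        · left
          obtain ⟨y, hy, hfy⟩ := hlift Δ _ h
          have : r k • P'.root (u k) = y := by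
            refine hinj _ _ (Submodule.smul_of_tower_mem _ _ (hspan' _)) (natSpan_le_span _ _ hy) ?_
            rw [hfroot, hr, hfy]
          rw [this]; exact hy
        · right
          obtain ⟨y, hy, hfy⟩ := hlift Δ _ h
          have : r k • (-P'.root (u k)) = y := by
            refine hinj _ _ (Submodule.smul_of_tower_mem _ _ (Submodule.neg_mem _ (hspan' _)))
              (natSpan_le_span _ _ hy) ?_
            rw [smul_neg, map_neg, hfroot, hr, hfy, smul_neg]
          rw [this]; exact hy
    · intro hΔ'
      refine isSimpleSys_of_cone (P := P) Δ (fun i _ => indiv_of_reduced i) ?_ ?_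
      · have h1 : LinearIndepOn ℤ (P'.root ∘ u) Δ := (linearIndepOn_equiv u).mpr hΔ'.linInd
        have h2 := linearIndepOn_smul (P'.root ∘ u) Δ (fun i => (r i : ℤ))
          (fun i => by exact_mod_cast (hrpos i).ne') h1
        have h3 := h2.map_injOn f (by
          intro x hx y hy hxy
          have hle : Submodule.span ℤ ((fun i => (r i : ℤ) • (P'.root ∘ u) i) '' Δ) ≤
              Submodule.span ℤ (Set.range P'.root) := by
            rw [Submodule.span_le]
            rintro _ ⟨i, -, rfl⟩
            exact Submodule.smul_mem _ _ (hspan' _)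
          exact hinj x y (hle hx) (hle hy) hxy)
        have h4 : (f ∘ fun i => (r i : ℤ) • (P'.root ∘ u) i) =
            ((Q : ℤ) • (LinearMap.id : M →ₗ[ℤ] M)) ∘ P.root := by
          ext i
          simp only [Function.comp_apply, map_smul, hroot, LinearMap.smul_apply, LinearMap.id_apply,
            smul_smul]
          congr 1
          exact_mod_cast hr i
        rw [h4] at h3
        exact LinearIndepOn.of_comp _ h3
      · intro k
        refine ⟨q k, hq0 k, ?_⟩
        rcases hΔ'.mem_or_neg_mem (u k) with h | h
        · left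
          have := hmap Δ _ h
          rwa [hroot, natCast_zsmul] at this
        · right
          have := hmap Δ _ h
          rwa [map_neg, hroot, natCast_zsmul, ← smul_neg] at this
  · constructor
    · intro hS
      refine ⟨?_, ?_, ?_⟩
      · rintro _ ⟨i, hi, rfl⟩ h
        rw [← hneg, hmem_image] at h
        exact hS.disjoint hi h
      · intro i'
        obtain ⟨i, rfl⟩ := u.surjective i'
        rcases hS.cover i with h | h
        · exact Or.inl ⟨i, h, rfl⟩
        · right
          rw [← hneg]
          exact ⟨_, h, rfl⟩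
      · intro k' n hn hk
        obtain ⟨k, rfl⟩ := u.surjective k'
        have := hmap Δ _ hk
        rw [hfroot] at this
        exact ⟨k, hS.sat (n * q k) (Nat.mul_pos hn (hq0 k)) this, rfl⟩
    · intro hS'
      refine ⟨?_, ?_, ?_⟩
      · intro i hi h
        refine hS'.disjoint ⟨i, hi, rfl⟩ ?_
        rw [← hneg]
        exact ⟨_, h, rfl⟩
      · intro i
        rcases hS'.cover (u i) with h | h
        · exact Or.inl ((hmem_image Δ i).mp h)
        · right
          rw [← hneg] at h
          exact (hmem_image Δ _).mp h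
      · intro k n hn hk
        obtain ⟨y, hy, hfy⟩ := hlift Δ _ hk
        have : (n * r k) • P'.root (u k) = y := by
          refine hinj _ _ (Submodule.smul_of_tower_mem _ _ (hspan' _)) (natSpan_le_span _ _ hy) ?_
          rw [hfroot, hfy, mul_assoc, hr, mul_comm, mul_smul]
        have hmem : (n * r k) • P'.root (u k) ∈ RootD.natSpan P' (u '' Δ) := this ▸ hy
        exact (hmem_image Δ k).mp (hS'.sat (n * r k) (Nat.mul_pos hn (hrpos k)) hmem)

end Groth.Agent.S5481
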