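import Groth.Statements.S5482
import Mathlib
import Groth.Agent.Lib.helper3.RootClosed

set_option autoImplicit false
open RootD

namespace Groth.Agent.S5482

/-- If the roots are partitioned into two closed symmetric subsets R', R'', then with Δ' = Δ ∩ R', Δ'' =
Δ ∩ R'' for a system of simple roots Δ one has R' = R_{Δ'}, R'' = R_{Δ''}, and Δ' is orthogonal to
Δ''. -/
theorem result {ι M N : Type*} [AddCommGroup M] [AddCommGroup N]
    (P : RootPairing ι ℤ M N) [Finite ι] (Δ : Set ι) (hΔ : RootD.IsSimpleSys P Δ) (R' : Set ι)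
    (hc : RootD.IsClosedSub P R') (hs : RootD.IsSymmSub P R') (hc' : RootD.IsClosedSub P R'ᶜ)
    (hs' : RootD.IsSymmSub P R'ᶜ) :
    R' = RootD.inSpan P (Δ ∩ R') ∧ R'ᶜ = RootD.inSpan P (Δ \ R') ∧
      ∀ i ∈ Δ ∩ R', ∀ j ∈ Δ \ R', P.IsOrthogonal i j := by
  open Groth.Agent.H3RootD in
  have horth : ∀ i ∈ Δ ∩ R', ∀ j ∈ Δ \ R', P.IsOrthogonal i j := by
    rintro i ⟨hi, hiR⟩ j ⟨hj, hjR⟩
    have hij : i ≠ j := fun h => hjR (h ▸ hiR)
    have hle := simple_pairing_nonpos hΔ hi hj hij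
    have h0 : P.pairing i j = 0 := by
      by_contra hne
      have hlt : P.pairing i j < 0 := lt_of_le_of_ne hle hne
      obtain ⟨m, hm⟩ := P.root_add_root_mem_of_pairingIn_neg (i := i) (j := j)
        (by rw [pairingIn_int]; exact hlt) (simple_root_ne_neg hΔ hi hj)
      by_cases hmR : m ∈ R'
      · refine hjR (hc hmR (hs hiR) ?_)
        rw [neg_root, hm]; abel
      · have hjR' : j ∈ R'ᶜ := hjR
        have := hc' (show m ∈ R'ᶜ from hmR) (hs' hjR') (k := i) (by rw [neg_root, hm]; abel)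
        exact this hiR
    exact ⟨h0, (pairing_zero_symm P i j).mp h0⟩
  have hdiff : Δ \ (Δ ∩ R') = Δ \ R' := by
    ext x; simp only [Set.mem_sdiff, Set.mem_inter_iff]; tauto
  have hsub1 : RootD.inSpan P (Δ ∩ R') ⊆ R' :=
    inSpan_subset_of_closed hΔ _ Set.inter_subset_left R' hc hs Set.inter_subset_right
  have hsub2 : RootD.inSpan P (Δ \ R') ⊆ R'ᶜ :=
    inSpan_subset_of_closed hΔ _ Set.sdiff_subset R'ᶜ hc' hs' (fun x hx => hx.2)
  have hpart : ∀ k, k ∈ RootD.inSpan P (Δ ∩ R') ∨ k ∈ RootD.inSpan P (Δ \ R') := by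
    intro k
    have := (orth_partition hΔ (Δ ∩ R') Set.inter_subset_left (by rw [hdiff]; exact horth) k).1
    rwa [hdiff] at this
  refine ⟨?_, ?_, horth⟩
  · apply Set.Subset.antisymm _ hsub1
    intro k hk
    rcases hpart k with h | h
    · exact h
    · exact absurd hk (hsub2 h)
  · apply Set.Subset.antisymm _ hsub2
    intro k hk
    rcases hpart k with h | h
    · exact absurd (hsub1 h) hk
    · exact h


end Groth.Agent.S5482
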