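import Groth.Statements.S5483
import Mathlib
import Groth.Agent.Lib.helper3.RootOrth

set_option autoImplicit false
open RootD

namespace Groth.Agent.S5483

/-- If a system of simple roots Δ is the disjoint union of two mutually orthogonal subsets Δ', Δ'', then
R_{Δ'} and R_{Δ''} partition the set of roots. -/
theorem result {ι M N : Type*} [AddCommGroup M] [AddCommGroup N]
    (P : RootPairing ι ℤ M N) [Finite ι] (Δ Δ' : Set ι) (hΔ : RootD.IsSimpleSys P Δ)
    (hsub : Δ' ⊆ Δ) (horth : ∀ i ∈ Δ', ∀ j ∈ Δ \ Δ', P.IsOrthogonal i j) (k : ι) :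
    (k ∈ RootD.inSpan P Δ' ∨ k ∈ RootD.inSpan P (Δ \ Δ')) ∧
      ¬ (k ∈ RootD.inSpan P Δ' ∧ k ∈ RootD.inSpan P (Δ \ Δ')) := by
  open Groth.Agent.H3RootD in
  have hsub' : Δ \ Δ' ⊆ Δ := Set.sdiff_subset
  constructor
  · have hpos : ∀ k, k ∈ RootD.posOf P Δ →
        (k ∈ RootD.inSpan P Δ' ∨ k ∈ RootD.inSpan P (Δ \ Δ')) := by
      intro k hk
      refine pos_induction hΔ (p := fun k => k ∈ RootD.inSpan P Δ' ∨ k ∈ RootD.inSpan P (Δ \ Δ'))
        ?_ ?_ k hk
      · intro d hd
        by_cases hd' : d ∈ Δ'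
        · exact Or.inl (simple_mem_inSpan _ hd')
        · exact Or.inr (simple_mem_inSpan _ ⟨hd, hd'⟩)
      · intro k k' l hk hl hk'pos hp hsum _ hc
        rcases hp with hp | hp
        · by_cases hl' : l ∈ Δ'
          · left
            change P.root k ∈ Submodule.span ℤ (P.root '' Δ')
            rw [hsum]
            exact Submodule.add_mem _ hp (simple_mem_inSpan _ hl')
          · exfalso
            exact orth_step_false hΔ Δ' hsub k k' l hl hl'
              (fun d hd => (horth d hd l ⟨hl, hl'⟩).1) hp hk'pos hc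
        · by_cases hl' : l ∈ Δ'
          · exfalso
            exact orth_step_false hΔ (Δ \ Δ') hsub' k k' l hl (fun h => h.2 hl')
              (fun d hd => (horth l hl' d hd).2) hp hk'pos hc
          · right
            change P.root k ∈ Submodule.span ℤ (P.root '' (Δ \ Δ'))
            rw [hsum]
            exact Submodule.add_mem _ hp (simple_mem_inSpan _ ⟨hl, hl'⟩)
    rcases pos_or_neg hΔ k with h | h
    · exact hpos k h
    · rcases hpos _ h with h' | h'
      · exact Or.inl (inSpan_neg _ _ h')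
      · exact Or.inr (inSpan_neg _ _ h')
  · rintro ⟨h1, h2⟩
    rw [mem_inSpan_iff hΔ hsub] at h1
    rw [mem_inSpan_iff hΔ hsub'] at h2
    apply coeff_ne_zero hΔ k
    ext d
    by_cases hd : d ∈ Δ'
    · exact h2 d (fun h => h.2 hd)
    · exact h1 d hd


end Groth.Agent.S5483
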