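import Groth.Statements.S5484
import Mathlib
import Groth.Agent.Lib.helper3.RootDet

set_option autoImplicit false
open RootD

namespace Groth.Agent.S5484

open Classical in
/-- Every principal minor of the Cartan matrix (a_{α,β} = (α^v, β), α, β simple) is strictly positive. -/
theorem result {ι M N : Type*} [AddCommGroup M] [AddCommGroup N]
    (P : RootPairing ι ℤ M N) [Finite ι] (Δ : Finset ι) (hΔ : RootD.IsSimpleSys P (↑Δ : Set ι))
    (Δ' : Finset ι) (hsub : Δ' ⊆ Δ) :
    0 < Matrix.det (Matrix.of fun (a b : ↥Δ') => P.pairing (b : ι) (a : ι)) := by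
  open Groth.Agent.H3RootD RootPairing in
  classical
  have : Fintype ι := Fintype.ofFinite ι
  have hsymm : ∀ x y : M, P.RootForm x y = P.RootForm y x := fun x y => by
    simpa using P.rootForm_symmetric.eq x y
  set C : Matrix ↥Δ' ↥Δ' ℤ := Matrix.of fun (a b : ↥Δ') => P.pairing (b : ι) (a : ι) with hC
  set G : Matrix ↥Δ' ↥Δ' ℤ := Matrix.of fun (a b : ↥Δ') => 2 * P.RootForm (P.root b) (P.root a) with hG
  set D : ↥Δ' → ℤ := fun a => P.RootForm (P.root a) (P.root a) with hD
  have hDC : Matrix.diagonal D * C = G := by
    ext a b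
    rw [Matrix.diagonal_mul]
    simp only [hC, hG, hD, Matrix.of_apply]
    rw [two_mul_rootForm, mul_comm]
  have hGpos : G.PosDef := by
    refine Matrix.PosDef.of_dotProduct_mulVec_pos ?_ ?_
    · ext a b
      simp only [hG, Matrix.conjTranspose_apply, Matrix.of_apply, star_trivial]
      rw [hsymm]
    · intro x hx
      set v : M := ∑ a, x a • P.root (a : ι) with hv
      have hli : LinearIndependent ℤ (fun a : ↥Δ' => P.root (a : ι)) :=
        (hΔ.linInd.mono (Finset.coe_subset.mpr hsub))
      have hvne : v ≠ 0 := by
        intro h0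
        apply hx
        have := (Fintype.linearIndependent_iff.mp hli) x h0
        exact funext this
      have hvmem : v ∈ Submodule.span ℤ (Set.range P.root) :=
        Submodule.sum_mem _ (fun a _ => Submodule.smul_mem _ _ (Submodule.subset_span ⟨_, rfl⟩))
      have hpos := P.rootForm_pos_of_ne_zero hvmem hvne
      have hexp : dotProduct (star x) (Matrix.mulVec G x) = 2 * P.RootForm v v := by
        simp only [hG, hv, dotProduct, Matrix.mulVec, Matrix.of_apply, star_trivial, map_sum, map_smul,
          LinearMap.sum_apply, LinearMap.smul_apply, smul_eq_mul, Finset.mul_sum, Pi.star_apply]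
        rw [Finset.sum_comm]
        refine Finset.sum_congr rfl (fun a _ => Finset.sum_congr rfl (fun b _ => ?_))
        rw [hsymm (P.root a) (P.root b)]
        ring
      rw [hexp]
      positivity
  have hGR : (G.map (Int.cast : ℤ → ℝ)).PosSemidef := by
    set U : Matrix ι ↥Δ' ℝ := Matrix.of fun (c : ι) (a : ↥Δ') => ((P.pairing (a : ι) c : ℤ) : ℝ) with hU
    have : G.map (Int.cast : ℤ → ℝ) = (2 : ℝ) • (U.conjTranspose * U) := by
      ext a b
      simp only [hG, hU, Matrix.map_apply, Matrix.of_apply, Matrix.smul_apply, Matrix.mul_apply,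
        Matrix.conjTranspose_apply, star_trivial, smul_eq_mul, P.rootForm_apply_apply,
        P.root_coroot'_eq_pairing]
      push_cast
      congr 1
      refine Finset.sum_congr rfl (fun c _ => ?_)
      ring
    rw [this]
    exact (Matrix.posSemidef_conjTranspose_mul_self U).smul (by norm_num)
  have hdetG := int_det_pos_of_posDef G hGpos hGR
  rw [← hDC, Matrix.det_mul, Matrix.det_diagonal] at hdetG
  have hDpos : 0 < ∏ a, D a := Finset.prod_pos (fun a _ => rootForm_pos _)
  exact (mul_pos_iff_of_pos_left hDpos).mp hdetG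

end Groth.Agent.S5484
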