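import Groth.Statements.S5488
import Mathlib
import Groth.Agent.Lib.helper3.RootWeyl

set_option autoImplicit false
open RootPairing
open scoped Pointwise
open RootD

namespace Groth.Agent.S5488

/-- The reduced datum of indivisible roots has the same Weyl group: the reflections in indivisible roots
generate W. -/
theorem result {ι M N : Type*} [AddCommGroup M] [AddCommGroup N]
    (P : RootPairing ι ℤ M N) [Finite ι] :
    Subgroup.closure ((fun i : ι => Equiv.reflection P i) '' {i : ι | RootD.IsIndiv P i}) = P.weylGroup := by
  open Groth.Agent.H3RootD in
  apply le_antisymm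
  · exact Subgroup.closure_mono (Set.image_subset_range _ _)
  · unfold RootPairing.weylGroup
    rw [Subgroup.closure_le]
    rintro _ ⟨k, rfl⟩
    by_cases hk : RootD.IsIndiv P k
    · exact Subgroup.subset_closure ⟨k, hk, rfl⟩
    · obtain ⟨j, hj, hkj⟩ := exists_indiv_half k hk
      rw [reflection_eq_of_two_smul k j hkj]
      exact Subgroup.subset_closure ⟨j, hj, rfl⟩

end Groth.Agent.S5488
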