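import Groth.Statements.S5492
import Mathlib
import Groth.Agent.Lib.helper3.RootD

set_option autoImplicit false
open RootD

namespace Groth.Agent.S5492

/-- Off-diagonal entries of the Cartan matrix of a system of simple roots are non-positive: (α^v, β) ≤ 0
for distinct simple roots α, β. -/
theorem result {ι M N : Type*} [AddCommGroup M] [AddCommGroup N]
    (P : RootPairing ι ℤ M N) [Finite ι] (Δ : Set ι) (hΔ : RootD.IsSimpleSys P Δ) (i j : ι)
    (hi : i ∈ Δ) (hj : j ∈ Δ) (hij : i ≠ j) : P.pairing j i ≤ 0 := by
  classical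
  by_contra hcon
  rw [not_le] at hcon
  have hpair : P.pairingIn ℤ j i = P.pairing j i := by
    have := P.algebraMap_pairingIn ℤ j i
    simpa using this
  obtain ⟨k, hk⟩ := P.root_sub_root_mem_of_pairingIn_pos (i := j) (j := i)
    (by rw [hpair]; exact hcon) (Ne.symm hij)
  obtain ⟨c, hc, hsign, hsum⟩ := Groth.Agent.H3RootD.exists_coeff P Δ hΔ k
  have h1 : Finsupp.linearCombination ℤ P.root c =
      Finsupp.linearCombination ℤ P.root (Finsupp.single j 1 - Finsupp.single i 1) := by
    rw [hsum, hk, map_sub]; simp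
  have h2 := Groth.Agent.H3RootD.coeff_unique P Δ hΔ.linInd _ _ hc
    (Submodule.sub_mem _ (Finsupp.single_mem_supported ℤ 1 hj)
      (Finsupp.single_mem_supported ℤ 1 hi)) h1
  have hci : c i = -1 := by
    rw [h2, Finsupp.sub_apply, Finsupp.single_eq_of_ne hij, Finsupp.single_eq_same]
    norm_num
  have hcj : c j = 1 := by
    rw [h2, Finsupp.sub_apply, Finsupp.single_eq_of_ne (Ne.symm hij), Finsupp.single_eq_same]
    norm_num
  rcases hsign with h | h
  · have := h i; omega
  · have := h j; omega

end Groth.Agent.S5492
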