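import Groth.Statements.S5494
import Mathlib
import Groth.Agent.Lib.helper3.RootClosed

set_option autoImplicit false
open RootD

namespace Groth.Agent.S5494

/-- If a system of simple roots has no partition into two non-empty orthogonal subsets, then any two
roots are linked by a chain of roots with consecutive members non-orthogonal. -/
theorem result {ι M N : Type*} [AddCommGroup M] [AddCommGroup N]
    (P : RootPairing ι ℤ M N) [Finite ι] (Δ : Set ι) (hΔ : RootD.IsSimpleSys P Δ)
    (hconn : ∀ Δ' : Set ι, Δ' ⊆ Δ → (∀ i ∈ Δ', ∀ j ∈ Δ \ Δ', P.IsOrthogonal i j) → Δ' = ∅ ∨ Δ' = Δ)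
    (i j : ι) : Relation.ReflTransGen (fun a b : ι => ¬ P.IsOrthogonal a b) i j := by
  open Groth.Agent.H3RootD in
  have hS : ∀ {a b : ι}, Relation.ReflTransGen (fun a b : ι => ¬ P.IsOrthogonal a b) a b →
      Relation.ReflTransGen (fun a b : ι => ¬ P.IsOrthogonal a b) b a := by
    intro a b h
    induction h with
    | refl => exact Relation.ReflTransGen.refl
    | tail _ hbc ih => exact Relation.ReflTransGen.head (fun h' => hbc h'.symm) ih
  -- every root is linked to a simple root
  have h1 : ∀ k, ∃ d ∈ Δ, Relation.ReflTransGen (fun a b : ι => ¬ P.IsOrthogonal a b) k d := by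
    have hpos : ∀ k, k ∈ RootD.posOf P Δ →
        ∃ d ∈ Δ, Relation.ReflTransGen (fun a b : ι => ¬ P.IsOrthogonal a b) k d := by
      intro k hk
      by_cases hkΔ : k ∈ Δ
      · exact ⟨k, hkΔ, Relation.ReflTransGen.refl⟩
      · obtain ⟨l, hl, k', hpair, -⟩ := pos_decomp hΔ k hk hkΔ
        refine ⟨l, hl, Relation.ReflTransGen.single ?_⟩
        intro h
        have := h.2
        omega
    intro k
    rcases pos_or_neg hΔ k with h | h
    · exact hpos k h
    · obtain ⟨d, hd, hkd⟩ := hpos _ h
      refine ⟨d, hd, Relation.ReflTransGen.head ?_ hkd⟩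
      intro h'
      have := h'.2
      rw [P.pairing_reflectionPerm_self_left, P.pairing_same] at this
      omega
  -- all simple roots are linked
  have h2 : ∀ d ∈ Δ, ∀ e ∈ Δ, Relation.ReflTransGen (fun a b : ι => ¬ P.IsOrthogonal a b) d e := by
    intro d hd e he
    have horth : ∀ x ∈ ({x ∈ Δ | Relation.ReflTransGen (fun a b : ι => ¬ P.IsOrthogonal a b) d x} : Set ι),
        ∀ y ∈ Δ \ ({x ∈ Δ | Relation.ReflTransGen (fun a b : ι => ¬ P.IsOrthogonal a b) d x} : Set ι),
        P.IsOrthogonal x y := by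
      rintro x ⟨hx, hdx⟩ y ⟨hy, hy'⟩
      by_contra hxy
      exact hy' ⟨hy, hdx.tail hxy⟩
    rcases hconn {x ∈ Δ | Relation.ReflTransGen (fun a b : ι => ¬ P.IsOrthogonal a b) d x}
      (fun x hx => hx.1) horth with h | h
    · exfalso
      have : d ∈ ({x ∈ Δ | Relation.ReflTransGen (fun a b : ι => ¬ P.IsOrthogonal a b) d x} : Set ι) :=
        ⟨hd, Relation.ReflTransGen.refl⟩
      rw [h] at this
      exact this
    · have : e ∈ ({x ∈ Δ | Relation.ReflTransGen (fun a b : ι => ¬ P.IsOrthogonal a b) d x} : Set ι) := by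
        rw [h]; exact he
      exact this.2
  obtain ⟨d, hd, hid⟩ := h1 i
  obtain ⟨e, he, hje⟩ := h1 j
  exact (hid.trans (h2 d hd e he)).trans (hS hje)


end Groth.Agent.S5494
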