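import Groth.Statements.S5497
import Mathlib

set_option autoImplicit false
open RootD

namespace Groth.Agent.S5497

/-- For a partition of the roots into two closed symmetric subsets, whenever α, β, α + β are roots they
lie in the same part. -/
theorem result {ι M N : Type*} [AddCommGroup M] [AddCommGroup N]
    (P : RootPairing ι ℤ M N) [Finite ι] (R' : Set ι) (hc : RootD.IsClosedSub P R')
    (hs : RootD.IsSymmSub P R') (hc' : RootD.IsClosedSub P R'ᶜ) (hs' : RootD.IsSymmSub P R'ᶜ)
    (i j k : ι) (h : P.root k = P.root i + P.root j) :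
    (i ∈ R' ∧ j ∈ R' ∧ k ∈ R') ∨ (i ∉ R' ∧ j ∉ R' ∧ k ∉ R') := by
  have hneg : ∀ i : ι, P.root (P.reflectionPerm i i) = -P.root i := by
    intro i
    rw [P.root_reflectionPerm, P.reflection_apply_self]
  by_cases hi : i ∈ R'
  · by_cases hj : j ∈ R'
    · exact Or.inl ⟨hi, hj, hc hi hj h⟩
    · exfalso
      by_cases hk : k ∈ R'
      · apply hj
        refine hc hk (hs hi) ?_
        rw [hneg, h]; abel
      · have hi' : i ∈ R'ᶜ := by
          refine hc' (i := k) (j := P.reflectionPerm j j) hk (hs' hj) ?_
          rw [hneg, h]; abel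
        exact hi' hi
  · by_cases hj : j ∈ R'
    · exfalso
      by_cases hk : k ∈ R'
      · apply hi
        refine hc hk (hs hj) ?_
        rw [hneg, h]; abel
      · have hj' : j ∈ R'ᶜ := by
          refine hc' (i := k) (j := P.reflectionPerm i i) hk (hs' hi) ?_
          rw [hneg, h]; abel
        exact hj' hj
    · exact Or.inr ⟨hi, hj, hc' (i := i) (j := j) hi hj h⟩

end Groth.Agent.S5497
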