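import Groth.Statements.S5498
import Mathlib
import Groth.Agent.Lib.helper3.RootIrr

set_option autoImplicit false
open RootD

namespace Groth.Agent.S5498

/-- If R is irreducible then so is the dual datum R^v, and long(α)·long(α^v) (equivalently ℓ(α) ℓ(α^v))
is constant on the roots. -/
theorem result {ι M N : Type*} [AddCommGroup M] [AddCommGroup N]
    (P : RootPairing ι ℤ M N) [Finite ι] [Fintype ι] [Nonempty ι]
    (hirr : ∀ R' : Set ι, RootD.IsClosedSub P R' → RootD.IsSymmSub P R' → RootD.IsClosedSub P R'ᶜ →
      RootD.IsSymmSub P R'ᶜ → R' = ∅ ∨ R' = Set.univ) :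
    (∀ R' : Set ι, RootD.IsClosedSub P.flip R' → RootD.IsSymmSub P.flip R' → RootD.IsClosedSub P.flip R'ᶜ →
      RootD.IsSymmSub P.flip R'ᶜ → R' = ∅ ∨ R' = Set.univ) ∧
    ∀ i j : ι, P.RootForm (P.root i) (P.root i) * P.CorootForm (P.coroot i) (P.coroot i) =
      P.RootForm (P.root j) (P.root j) * P.CorootForm (P.coroot j) (P.coroot j) := by
  open Groth.Agent.H3RootD in
  constructor
  · intro R' h1 h2 h3 h4
    have horth := (closedSymm_iff_orth (P := P.flip) R').mp ⟨h1, h2, h3, h4⟩
    have horth' : ∀ i ∈ R', ∀ j ∉ R', P.IsOrthogonal i j := fun i hi j hj =>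
      ⟨(horth i hi j hj).2, (horth i hi j hj).1⟩
    obtain ⟨k1, k2, k3, k4⟩ := (closedSymm_iff_orth (P := P) R').mpr horth'
    exact hirr R' k1 k2 k3 k4
  · intro i j
    set F : ι → ℤ := fun k => P.RootForm (P.root k) (P.root k) * P.CorootForm (P.coroot k) (P.coroot k)
      with hF
    have key : ∀ a b : ι, ¬ P.IsOrthogonal a b → F a = F b := by
      intro a b hab
      have h1 := P.toInvariantForm.pairing_mul_eq_pairing_mul_swap a b
      have h2 := P.flip.toInvariantForm.pairing_mul_eq_pairing_mul_swap a b
      simp only [RootPairing.toInvariantForm_form, RootPairing.flip_root, RootPairing.pairing_flip] at h1 h2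
      have hne : P.pairing a b ≠ 0 ∧ P.pairing b a ≠ 0 := by
        have := pairing_zero_symm P a b
        constructor
        · intro h0; exact hab ⟨h0, this.mp h0⟩
        · intro h0; exact hab ⟨this.mpr h0, h0⟩
      have h2' : P.pairing a b * P.CorootForm (P.coroot a) (P.coroot a) =
          P.pairing b a * P.CorootForm (P.coroot b) (P.coroot b) := h2
      have key : (P.pairing a b * P.pairing b a) * F a = (P.pairing a b * P.pairing b a) * F b := by
        simp only [hF]
        linear_combination (P.pairing a b * P.CorootForm (P.coroot a) (P.coroot a)) * h1 +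
          (P.pairing a b * (P.RootForm (P.root b)) (P.root b)) * h2'
      exact mul_left_cancel₀ (mul_ne_zero hne.1 hne.2) key
    obtain ⟨k1, k2, k3, k4⟩ := (closedSymm_iff_orth (P := P) {k | F k = F i}).mpr (by
      intro a ha b hb
      by_contra hab
      exact hb ((key a b hab).symm.trans ha))
    rcases hirr _ k1 k2 k3 k4 with h | h
    · have : i ∈ ({k | F k = F i} : Set ι) := rfl
      rw [h] at this
      exact absurd this (Set.notMem_empty i)
    · have : j ∈ ({k | F k = F i} : Set ι) := by rw [h]; exact Set.mem_univ j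
      exact this.symm

end Groth.Agent.S5498
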