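import Groth.Statements.S5499
import Mathlib
import Groth.Agent.Lib.helper3.RootLong

set_option autoImplicit false
open RootD

namespace Groth.Agent.S5499

/-- For an irreducible datum, where long(α) = ℓ(α)/ℓ(α₀) with ℓ(α₀) minimal: there is a unique
homomorphism u : Γ_0(R) → M^v with u(α) = long(α) α^v for every root α. -/
theorem result {ι M N : Type*} [AddCommGroup M] [AddCommGroup N]
    (P : RootPairing ι ℤ M N) [Finite ι] [Fintype ι]
    (hirr : ∀ R' : Set ι, RootD.IsClosedSub P R' → RootD.IsSymmSub P R' → RootD.IsClosedSub P R'ᶜ →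
      RootD.IsSymmSub P R'ᶜ → R' = ∅ ∨ R' = Set.univ)
    (i₀ : ι) (hmin : ∀ i : ι, P.RootForm (P.root i₀) (P.root i₀) ≤ P.RootForm (P.root i) (P.root i)) :
    ∃! u : Submodule.span ℤ (Set.range P.root) →+ N, ∀ i : ι,
      u ⟨P.root i, Submodule.subset_span (Set.mem_range_self i)⟩ =
        (P.RootForm (P.root i) (P.root i) / P.RootForm (P.root i₀) (P.root i₀)) • P.coroot i := by
  open Groth.Agent.H3RootD in
  have : IsAddTorsionFree N := tfN P
  have h0 : 0 < P.RootForm (P.root i₀) (P.root i₀) := rootForm_pos i₀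
  have hdvd := min_length_dvd hirr i₀ hmin
  have hmul : ∀ i, P.RootForm (P.root i₀) (P.root i₀) *
      (P.RootForm (P.root i) (P.root i) / P.RootForm (P.root i₀) (P.root i₀)) =
      P.RootForm (P.root i) (P.root i) := fun i => Int.mul_ediv_cancel' (hdvd i)
  have hf : ∀ i, P.RootForm (P.root i₀) (P.root i₀) •
      ((P.RootForm (P.root i) (P.root i) / P.RootForm (P.root i₀) (P.root i₀)) • P.coroot i) =
      2 • P.Polarization (P.root i) := by
    intro i
    rw [smul_smul, hmul, P.rootForm_self_smul_coroot]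
  obtain ⟨φ, hφ⟩ := exists_addHom_of_additive (P := P)
    (fun i => (P.RootForm (P.root i) (P.root i) / P.RootForm (P.root i₀) (P.root i₀)) • P.coroot i)
    (fun i => by
      rw [rootForm_neg, coroot_neg, smul_neg])
    (fun i j k hk => by
      apply smul_right_injective N h0.ne'
      simp only [smul_add]
      rw [hf, hf, hf, hk, map_add, smul_add])
  refine ⟨φ, hφ, fun ψ hψ => ?_⟩
  exact addHom_ext_span ψ φ (fun i => (hψ i).trans (hφ i).symm)

end Groth.Agent.S5499
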