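import Groth.Statements.S5500
import Mathlib
import Groth.Agent.Lib.helper3.RootLong

set_option autoImplicit false
open RootD

namespace Groth.Agent.S5500

/-- For a p-morphism between irreducible reduced root data there is a rational constant k with k ·
long(u(α)) = q(α)² · long(α) for every root α; stated as the proportionality q(α)² ℓ(α) ℓ'(u β) =
q(β)² ℓ(β) ℓ'(u α) of the canonical quadratic forms. -/
theorem result {ι M N ι' M' N' : Type*} [AddCommGroup M] [AddCommGroup N] [AddCommGroup M'] [AddCommGroup N']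
    (P : RootPairing ι ℤ M N) (P' : RootPairing ι' ℤ M' N') [Finite ι] [Finite ι'] [Fintype ι] [Fintype ι'] [P.IsReduced] [P'.IsReduced]
    (hirr : ∀ R₁ : Set ι, RootD.IsClosedSub P R₁ → RootD.IsSymmSub P R₁ → RootD.IsClosedSub P R₁ᶜ →
      RootD.IsSymmSub P R₁ᶜ → R₁ = ∅ ∨ R₁ = Set.univ)
    (hirr' : ∀ R₁ : Set ι', RootD.IsClosedSub P' R₁ → RootD.IsSymmSub P' R₁ → RootD.IsClosedSub P' R₁ᶜ →
      RootD.IsSymmSub P' R₁ᶜ → R₁ = ∅ ∨ R₁ = Set.univ)
    (p : ℕ) (hp : 0 < p) (f : M' →ₗ[ℤ] M) (g : N →ₗ[ℤ] N')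
    (hfg : ∀ (m' : M') (n : N), P.toLinearMap (f m') n = P'.toLinearMap m' (g n))
    (u : ι ≃ ι') (q : ι → ℕ) (hq : ∀ i, ∃ e : ℕ, q i = p ^ e)
    (hroot : ∀ i : ι, f (P'.root (u i)) = (q i : ℤ) • P.root i)
    (hcoroot : ∀ i : ι, g (P.coroot i) = (q i : ℤ) • P'.coroot (u i)) (i j : ι) :
    ((q i : ℤ) ^ 2 * P.RootForm (P.root i) (P.root i)) * P'.RootForm (P'.root (u j)) (P'.root (u j)) =
      ((q j : ℤ) ^ 2 * P.RootForm (P.root j) (P.root j)) * P'.RootForm (P'.root (u i)) (P'.root (u i)) := by
  open Groth.Agent.H3RootD in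
  have hpair : ∀ a b : ι, (q b : ℤ) * P'.pairing (u a) (u b) = (q a : ℤ) * P.pairing a b := by
    intro a b
    have h1 := hfg (P'.root (u a)) (P.coroot b)
    rw [hroot, hcoroot, map_smul, map_smul, LinearMap.smul_apply, P.root_coroot_eq_pairing,
      P'.root_coroot_eq_pairing, smul_eq_mul, smul_eq_mul] at h1
    exact h1.symm
  set A : ι → ℤ := fun x => (q x : ℤ) ^ 2 * P.RootForm (P.root x) (P.root x) with hA
  set B : ι → ℤ := fun x => P'.RootForm (P'.root (u x)) (P'.root (u x)) with hB
  have hBpos : ∀ x, 0 < B x := fun x => rootForm_pos (P := P') (u x)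
  change A i * B j = A j * B i
  have key : ∀ a b : ι, ¬ P.IsOrthogonal a b → A a * B b = A b * B a := by
    intro a b hab
    have hne : P.pairing a b ≠ 0 ∧ P.pairing b a ≠ 0 := by
      have := pairing_zero_symm P a b
      constructor
      · intro h0; exact hab ⟨h0, this.mp h0⟩
      · intro h0; exact hab ⟨this.mpr h0, h0⟩
    have h1 := P.toInvariantForm.pairing_mul_eq_pairing_mul_swap a b
    have h2 := P'.toInvariantForm.pairing_mul_eq_pairing_mul_swap (u a) (u b)
    simp only [RootPairing.toInvariantForm_form] at h1 h2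
    have h3 := hpair a b
    have h4 := hpair b a
    have hqa : (q a : ℤ) ≠ 0 := by
      obtain ⟨e, he⟩ := hq a
      rw [he]; positivity
    have hqb : (q b : ℤ) ≠ 0 := by
      obtain ⟨e, he⟩ := hq b
      rw [he]; positivity
    have h5 : ((q a : ℤ) * (q b : ℤ) * (P.pairing a b * P.pairing b a)) * (A a * B b) =
        ((q a : ℤ) * (q b : ℤ) * (P.pairing a b * P.pairing b a)) * (A b * B a) := by
      simp only [hA, hB]
      have e1 : (q a : ℤ) * P.pairing a b = (q b : ℤ) * P'.pairing (u a) (u b) := h3.symm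
      have e2 : (q b : ℤ) * P.pairing b a = (q a : ℤ) * P'.pairing (u b) (u a) := h4.symm
      calc (q a : ℤ) * (q b : ℤ) * (P.pairing a b * P.pairing b a) *
            ((q a : ℤ) ^ 2 * P.RootForm (P.root a) (P.root a) * P'.RootForm (P'.root (u b)) (P'.root (u b)))
          = ((q a : ℤ) * P.pairing a b) * (q a : ℤ) ^ 2 * (q b : ℤ) *
              (P.pairing b a * P.RootForm (P.root a) (P.root a)) *
              P'.RootForm (P'.root (u b)) (P'.root (u b)) := by ring
        _ = ((q b : ℤ) * P'.pairing (u a) (u b)) * (q a : ℤ) ^ 2 * (q b : ℤ) *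
              (P.pairing a b * P.RootForm (P.root b) (P.root b)) *
              P'.RootForm (P'.root (u b)) (P'.root (u b)) := by rw [e1, h1]
        _ = (q a : ℤ) ^ 2 * (q b : ℤ) ^ 2 * P.pairing a b * P.RootForm (P.root b) (P.root b) *
              (P'.pairing (u a) (u b) * P'.RootForm (P'.root (u b)) (P'.root (u b))) := by ring
        _ = (q a : ℤ) ^ 2 * (q b : ℤ) ^ 2 * P.pairing a b * P.RootForm (P.root b) (P.root b) *
              (P'.pairing (u b) (u a) * P'.RootForm (P'.root (u a)) (P'.root (u a))) := by rw [h2]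
        _ = (q a : ℤ) * (q b : ℤ) ^ 2 * P.pairing a b * P.RootForm (P.root b) (P.root b) *
              (((q a : ℤ) * P'.pairing (u b) (u a)) * P'.RootForm (P'.root (u a)) (P'.root (u a))) := by ring
        _ = (q a : ℤ) * (q b : ℤ) ^ 2 * P.pairing a b * P.RootForm (P.root b) (P.root b) *
              (((q b : ℤ) * P.pairing b a) * P'.RootForm (P'.root (u a)) (P'.root (u a))) := by rw [e2]
        _ = _ := by ring
    exact mul_left_cancel₀ (mul_ne_zero (mul_ne_zero hqa hqb) (mul_ne_zero hne.1 hne.2)) h5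
  obtain ⟨k1, k2, k3, k4⟩ := (closedSymm_iff_orth (P := P) {k | A i * B k = A k * B i}).mpr (by
    intro a ha b hb
    by_contra hab
    apply hb
    have h1 : A i * B a = A a * B i := ha
    have h2 := key a b hab
    have : B a * (A i * B b) = B a * (A b * B i) := by
      calc B a * (A i * B b) = (A i * B a) * B b := by ring
        _ = (A a * B b) * B i := by rw [h1]; ring
        _ = (A b * B a) * B i := by rw [h2]
        _ = _ := by ring
    exact mul_left_cancel₀ (hBpos a).ne' this)
  rcases hirr _ k1 k2 k3 k4 with h | h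
  · have : i ∈ ({k | A i * B k = A k * B i} : Set ι) := rfl
    rw [h] at this
    exact absurd this (Set.notMem_empty i)
  · have : j ∈ ({k | A i * B k = A k * B i} : Set ι) := by rw [h]; exact Set.mem_univ j
    exact this

end Groth.Agent.S5500
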