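import Groth.Statements.S5502
import Mathlib
import Groth.Agent.Lib.helper3.RootDual3

set_option autoImplicit false
open RootD

namespace Groth.Agent.S5502

/-- If β = Σ_{α ∈ Δ} a_α α along a system of simple roots Δ, then ℓ(β) divides 2 a_α ℓ(α), and 2ℓ(β)
divides it when α^v is indivisible (ℓ the canonical quadratic form). -/
theorem result {ι M N : Type*} [AddCommGroup M] [AddCommGroup N]
    (P : RootPairing ι ℤ M N) [Finite ι] [Fintype ι] (Δ : Set ι) (hΔ : RootD.IsSimpleSys P Δ)
    (k : ι) (c : ι →₀ ℤ) (hc : ↑c.support ⊆ Δ) (hck : Finsupp.linearCombination ℤ P.root c = P.root k)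
    (i : ι) (hi : i ∈ Δ) :
    P.RootForm (P.root k) (P.root k) ∣ 2 * c i * P.RootForm (P.root i) (P.root i) ∧
      (RootD.IsIndiv P.flip i → 2 * P.RootForm (P.root k) (P.root k) ∣ 2 * c i * P.RootForm (P.root i) (P.root i)) := by
  open Groth.Agent.H3RootD RootPairing in
  obtain ⟨φ, ε, h1, h2, h3, h4⟩ := exists_half_data P
  have hd := dvd_coeff_aux P Δ hΔ φ ε h1 h2 h3 h4 k c hc hck i hi
  constructor
  · rcases h1 i with h | h
    · rw [h, mul_one] at hd
      have : 2 * c i * P.RootForm (P.root i) (P.root i) =
          2 * (c i * P.RootForm (P.root i) (P.root i)) := by ring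
      rw [this]
      exact Dvd.dvd.mul_left hd 2
    · rw [h] at hd
      have : 2 * c i * P.RootForm (P.root i) (P.root i) =
          c i * P.RootForm (P.root i) (P.root i) * 2 := by ring
      rw [this]
      exact hd
  · intro hind
    rw [(h3 i hind).1, mul_one] at hd
    have : 2 * c i * P.RootForm (P.root i) (P.root i) =
        2 * (c i * P.RootForm (P.root i) (P.root i)) := by ring
    rw [this]
    exact mul_dvd_mul_left 2 hd

end Groth.Agent.S5502
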