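import Groth.Statements.S5503
import Mathlib
import Groth.Agent.Lib.helper3.RootD

set_option autoImplicit false
open RootPairing
open scoped Pointwise
open RootD

namespace Groth.Agent.S5503

/-- For an automorphism u of a root datum and a root α, u s_α u⁻¹ = s_{u(α)}; hence W(R) is a normal
subgroup of Aut(R). -/
theorem result {ι M N : Type*} [AddCommGroup M] [AddCommGroup N]
    (P : RootPairing ι ℤ M N) [Finite ι] (u : P.Aut) (i : ι) :
    u * Equiv.reflection P i * u⁻¹ = Equiv.reflection P (u • i) := by
  apply RootPairing.Equiv.weightHom_injective P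
  ext x
  have h2 : ∀ (g : P.Aut) (y : M), RootPairing.Equiv.weightHom P g y = g • y := fun g y => rfl
  rw [h2, h2, mul_smul, mul_smul, RootPairing.Equiv.reflection_smul, RootPairing.Equiv.reflection_smul,
    P.reflection_apply, P.reflection_apply, smul_sub, smul_inv_smul, smul_comm u,
    Groth.Agent.H3RootD.aut_smul_root]
  congr 2
  change P.toLinearMap (u⁻¹ • x) (P.coroot i) = P.toLinearMap x (P.coroot (u • i))
  rw [← Groth.Agent.H3RootD.aut_pairing P u (u⁻¹ • x) i, smul_inv_smul]

end Groth.Agent.S5503
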