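import Groth.Statements.S5505
import Mathlib
import Groth.Agent.S5497

set_option autoImplicit false
open RootD

namespace Groth.Agent.S5505

/-- A subset of roots which, together with its complement, is closed and symmetric contains with any
root every root not orthogonal to it; so it is a union of irreducible components. -/
theorem result {ι M N : Type*} [AddCommGroup M] [AddCommGroup N]
    (P : RootPairing ι ℤ M N) [Finite ι] (R' : Set ι) (hc : RootD.IsClosedSub P R')
    (hs : RootD.IsSymmSub P R') (hc' : RootD.IsClosedSub P R'ᶜ) (hs' : RootD.IsSymmSub P R'ᶜ)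
    (i j : ι) (hi : i ∈ R') (hij : ¬ P.IsOrthogonal i j) : j ∈ R' := by
  by_contra hj
  have : Module.IsReflexive ℤ M := .of_isPerfPair P.toLinearMap
  have : Module.IsReflexive ℤ N := .of_isPerfPair P.flip.toLinearMap
  have hneg : ∀ i : ι, P.root (P.reflectionPerm i i) = -P.root i := by
    intro i
    rw [P.root_reflectionPerm, P.reflection_apply_self]
  have key := Groth.Agent.S5497.result P R' hc hs hc' hs'
  have hpair : P.pairingIn ℤ i j = P.pairing i j := by
    have := P.algebraMap_pairingIn ℤ i j
    simpa using this
  have hne : i ≠ j := fun h => hj (h ▸ hi)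
  have hp0 : P.pairing i j ≠ 0 := by
    intro h0
    apply hij
    exact ⟨h0, (P.pairing_eq_zero_iff (i := i) (j := j)).mp h0⟩
  rcases lt_or_gt_of_ne hp0 with hlt | hgt
  · have hne' : P.root i ≠ -P.root j := by
      intro h
      rw [← hneg j] at h
      have := P.root.injective h
      have hmem : P.reflectionPerm j j ∈ R'ᶜ := hs' hj
      exact hmem (this ▸ hi)
    obtain ⟨k, hk⟩ := P.root_add_root_mem_of_pairingIn_neg (i := i) (j := j) (by rw [hpair]; exact hlt) hne'
    rcases key i j k hk with ⟨-, h2, -⟩ | ⟨h1, -, -⟩
    · exact hj h2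
    · exact h1 hi
  · obtain ⟨k, hk⟩ := P.root_sub_root_mem_of_pairingIn_pos (i := i) (j := j) (by rw [hpair]; exact hgt) hne
    have hk' : P.root i = P.root k + P.root j := by rw [hk]; abel
    rcases key k j i hk' with ⟨-, h2, -⟩ | ⟨-, -, h3⟩
    · exact hj h2
    · exact h3 hi

end Groth.Agent.S5505
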