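import Groth.Statements.S5506
import Mathlib

set_option autoImplicit false
open RootD

namespace Groth.Agent.S5506

/-- The class of a root under 'joined by a chain of pairwise non-orthogonal roots' is closed and
symmetric, and so is its complement; these classes are the irreducible components. -/
theorem result {ι M N : Type*} [AddCommGroup M] [AddCommGroup N]
    (P : RootPairing ι ℤ M N) [Finite ι] (i : ι) :
    RootD.IsClosedSub P {j : ι | Relation.ReflTransGen (fun a b : ι => ¬ P.IsOrthogonal a b) i j} ∧
      RootD.IsSymmSub P {j : ι | Relation.ReflTransGen (fun a b : ι => ¬ P.IsOrthogonal a b) i j} ∧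
      RootD.IsClosedSub P {j : ι | Relation.ReflTransGen (fun a b : ι => ¬ P.IsOrthogonal a b) i j}ᶜ ∧
      RootD.IsSymmSub P {j : ι | Relation.ReflTransGen (fun a b : ι => ¬ P.IsOrthogonal a b) i j}ᶜ := by
  set r : ι → ι → Prop := fun a b : ι => ¬ P.IsOrthogonal a b with hr
  have hsymm : ∀ a b, r a b → r b a := fun a b h h' => h h'.symm
  have hnegr : ∀ a : ι, r a (P.reflectionPerm a a) := by
    intro a h
    have h1 := h.1
    rw [P.pairing_reflectionPerm_self_right, P.pairing_same] at h1
    norm_num at h1
  have hadd : ∀ a b k : ι, P.root k = P.root a + P.root b → r k a ∨ r k b := by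
    intro a b k h
    by_contra hcon
    rw [not_or] at hcon
    obtain ⟨h1, h2⟩ := hcon
    have h1' : P.IsOrthogonal k a := not_not.mp h1
    have h2' : P.IsOrthogonal k b := not_not.mp h2
    have h3 := RootPairing.pairing_eq_add_of_root_eq_add (l := k) h
    rw [P.pairing_same, h1'.2, h2'.2] at h3
    norm_num at h3
  have hback : ∀ a b : ι, Relation.ReflTransGen r i b → r b a → Relation.ReflTransGen r i a :=
    fun a b h1 h2 => Relation.ReflTransGen.tail h1 h2
  refine ⟨?_, ?_, ?_, ?_⟩
  · intro a b k ha hb h
    rcases hadd a b k h with h1 | h1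
    · exact hback k a ha (hsymm _ _ h1)
    · exact hback k b hb (hsymm _ _ h1)
  · intro a ha
    exact hback _ a ha (hnegr a)
  · intro a b k ha hb h hk
    rcases hadd a b k h with h1 | h1
    · exact ha (hback a k hk h1)
    · exact hb (hback b k hk h1)
  · intro a ha ha'
    exact ha (hback a _ ha' (hsymm _ _ (hnegr a)))

end Groth.Agent.S5506
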