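import Groth.Statements.S5507
import Mathlib
import Groth.Agent.Lib.helper3.RootGram

set_option autoImplicit false
open RootD

namespace Groth.Agent.S5507

/-- For a system of simple roots Δ there are positive integers m_α (the lengths) such that the matrix
(m_α a_{α,β}) with a_{α,β} = (α^v, β) is symmetric and positive definite. -/
theorem result {ι M N : Type*} [AddCommGroup M] [AddCommGroup N]
    (P : RootPairing ι ℤ M N) [Finite ι] (Δ : Finset ι) (hΔ : RootD.IsSimpleSys P (↑Δ : Set ι)) :
    ∃ m : ↥Δ → ℤ, (∀ a, 0 < m a) ∧
      (Matrix.of fun (a b : ↥Δ) => m a * P.pairing (b : ι) (a : ι)).IsSymm ∧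
      (Matrix.of fun (a b : ↥Δ) => m a * P.pairing (b : ι) (a : ι)).PosDef := by
  open Groth.Agent.H3RootD RootPairing in
  classical
  have : Fintype ι := Fintype.ofFinite ι
  have hentry : ∀ a b : ↥Δ, P.RootForm (P.root a) (P.root a) * P.pairing (b : ι) (a : ι) =
      2 * P.RootForm (P.root b) (P.root a) := by
    intro a b
    rw [two_mul_rootForm, mul_comm]
  have hsymm : ∀ x y : M, P.RootForm x y = P.RootForm y x := fun x y => by
    simpa using P.rootForm_symmetric.eq x y
  have hmat : (Matrix.of fun (a b : ↥Δ) => P.RootForm (P.root a) (P.root a) * P.pairing (b : ι) (a : ι)) =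
      Matrix.of fun (a b : ↥Δ) => 2 * P.RootForm (P.root b) (P.root a) := by
    ext a b
    exact hentry a b
  refine ⟨fun a => P.RootForm (P.root a) (P.root a), fun a => rootForm_pos _, ?_, ?_⟩
  · rw [hmat]
    ext a b
    simp only [Matrix.transpose_apply, Matrix.of_apply]
    rw [hsymm]
  · rw [hmat]
    refine Matrix.PosDef.of_dotProduct_mulVec_pos ?_ ?_
    · ext a b
      simp only [Matrix.conjTranspose_apply, Matrix.of_apply, star_trivial]
      rw [hsymm]
    · intro x hx
      set v : M := ∑ a, x a • P.root (a : ι) with hv
      have hli : LinearIndependent ℤ (fun a : ↥Δ => P.root (a : ι)) := hΔ.linInd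
      have hvne : v ≠ 0 := by
        intro h0
        apply hx
        have := (Fintype.linearIndependent_iff.mp hli) x h0
        exact funext this
      have hvmem : v ∈ Submodule.span ℤ (Set.range P.root) :=
        Submodule.sum_mem _ (fun a _ => Submodule.smul_mem _ _ (Submodule.subset_span ⟨_, rfl⟩))
      have hpos := P.rootForm_pos_of_ne_zero hvmem hvne
      have hexp : dotProduct (star x) (Matrix.mulVec
          (Matrix.of fun (a b : ↥Δ) => 2 * P.RootForm (P.root b) (P.root a)) x) =
          2 * P.RootForm v v := by
        simp only [hv, dotProduct, Matrix.mulVec, Matrix.of_apply, star_trivial, map_sum, map_smul,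
          LinearMap.sum_apply, LinearMap.smul_apply, smul_eq_mul, Finset.mul_sum, Pi.star_apply]
        rw [Finset.sum_comm]
        refine Finset.sum_congr rfl (fun a _ => Finset.sum_congr rfl (fun b _ => ?_))
        rw [hsymm (P.root a) (P.root b)]
        ring
      rw [hexp]
      positivity

end Groth.Agent.S5507
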