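import Groth.Statements.S5586
import Groth.Agent.Lib.helper1.ToposFin9

set_option autoImplicit false
open CategoryTheory CategoryTheory.Limits Opposite
universe u
open ToposFin

namespace Groth.Agent.S5586

/-- Quasi-separated and coherent cases: for an algebraic topos of sheaves of sets on a small site: let f
: X -> Y be a morphism and (Y_i -> Y) a jointly epimorphic family. If the Y_i are quasi-separated
(resp. coherent), then f is quasi-separated (resp. coherent) if and only if every X x_Y Y_i is a
quasi-separated (resp. coherent) object. -/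
theorem result {C : Type u} [SmallCategory C]
    {J : GrothendieckTopology C} (hE : ToposFin.IsAlgebraic J) {X Y : ToposFin.Sh J} (f : X ⟶ Y)
    {ι : Type u} (Yi : ι → ToposFin.Sh J) (g : ∀ i, Yi i ⟶ Y)
    (hg : ∀ (Z : ToposFin.Sh J) (a b : Y ⟶ Z), (∀ i, g i ≫ a = g i ≫ b) → a = b) :
    ((∀ i, ToposFin.IsQS (Yi i)) → (ToposFin.IsQSHom f ↔ ∀ i, ToposFin.IsQS (pullback f (g i)))) ∧
    ((∀ i, ToposFin.IsCoherent (Yi i)) →
      (ToposFin.IsCohHom f ↔ ∀ i, ToposFin.IsCoherent (pullback f (g i)))) := by
  have hg' : Groth.Agent.H1.TF.JE g := fun Z a b hab => hg Z a b hab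
  have hQ := Groth.Agent.H1.TF.H1_hasQCGenerators_of_isAlgebraic hE
  constructor
  · intro hY
    constructor
    · intro hf i
      exact Groth.Agent.H1.TF.H1_isQS_pullback_of_isQSHom f (g i) hf (hY i)
    · intro h
      refine Groth.Agent.H1.TF.H1_isQSHom_of_local_target hQ f Yi g hg' ?_
      intro i
      exact Groth.Agent.H1.TF.H1_isQSHom_of_isQS_of_isAlgebraic hE _ (h i)
  · intro hY
    constructor
    · intro hf i
      refine Groth.Agent.H1.TF.H1_isCoherent_of_isCohHom (pullback.snd f (g i)) ?_ (hY i)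
      exact ⟨Groth.Agent.H1.TF.H1_isQCHom_of_isPullback (IsPullback.of_hasPullback f (g i)) hf.1,
        Groth.Agent.H1.TF.H1_isQSHom_of_isPullback (IsPullback.of_hasPullback f (g i)) hf.2⟩
    · intro h
      constructor
      · refine Groth.Agent.H1.TF.H1_isQCHom_of_local_target hQ f Yi g hg' ?_
        intro i
        exact Groth.Agent.H1.TF.H1_isQCHom_of_isQC_of_isQS _ (h i).1 (hY i).2
      · refine Groth.Agent.H1.TF.H1_isQSHom_of_local_target hQ f Yi g hg' ?_
        intro i
        exact Groth.Agent.H1.TF.H1_isQSHom_of_isQS_of_isAlgebraic hE _ (h i).2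

end Groth.Agent.S5586
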