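import Groth.Statements.S5615
import Groth.Statements.S5615
import Mathlib

set_option autoImplicit false
universe v u
open CategoryTheory CategoryTheory.Limits
open KZero

namespace Groth.Agent.S5615

/-- Let A be an abelian category and S a dense set of objects, meaning that every set of objects which
contains S and which contains the third term of a short exact sequence as soon as it contains the
other two is all of A. Then K₀(A) is generated by the classes of the objects of S. -/
theorem result {A : Type u} [Category.{v} A] [Abelian A] (S : Set A)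
    (hdense : ∀ T : Set A, S ⊆ T →
      (∀ X : ShortComplex A, X.ShortExact →
        (X.X₁ ∈ T → X.X₂ ∈ T → X.X₃ ∈ T) ∧ (X.X₁ ∈ T → X.X₃ ∈ T → X.X₂ ∈ T) ∧
          (X.X₂ ∈ T → X.X₃ ∈ T → X.X₁ ∈ T)) → T = Set.univ) :
    AddSubgroup.closure (KZero.cl '' S) = (⊤ : AddSubgroup (KZero.K0 A)) := by
  classical
  set H : AddSubgroup (KZero.K0 A) := AddSubgroup.closure (KZero.cl '' S) with hH
  -- relation in K0
  have hrel : ∀ X : ShortComplex A, X.ShortExact →
      (KZero.cl X.X₂ : KZero.K0 A) = KZero.cl X.X₁ + KZero.cl X.X₃ := by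
    intro X hX
    have hmem : FreeAbelianGroup.of X.X₂ - FreeAbelianGroup.of X.X₁ - FreeAbelianGroup.of X.X₃ ∈
        KZero.relAb A := AddSubgroup.subset_closure ⟨X, hX, rfl⟩
    have := (QuotientAddGroup.eq_zero_iff _).mpr hmem
    rw [QuotientAddGroup.mk_sub, QuotientAddGroup.mk_sub] at this
    have h2 : (KZero.cl X.X₂ : KZero.K0 A) - KZero.cl X.X₁ - KZero.cl X.X₃ = 0 := this
    rw [sub_sub, sub_eq_zero] at h2
    exact h2
  let T : Set A := {X | (KZero.cl X : KZero.K0 A) ∈ H}
  have hT : T = Set.univ := by
    apply hdense T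
    · intro X hX
      exact AddSubgroup.subset_closure ⟨X, hX, rfl⟩
    · intro X hX
      have h := hrel X hX
      refine ⟨fun h1 h2 => ?_, fun h1 h3 => ?_, fun h2 h3 => ?_⟩
      · show (KZero.cl X.X₃ : KZero.K0 A) ∈ H
        have : (KZero.cl X.X₃ : KZero.K0 A) = KZero.cl X.X₂ - KZero.cl X.X₁ := by
          rw [h]; abel
        rw [this]
        exact H.sub_mem h2 h1
      · show (KZero.cl X.X₂ : KZero.K0 A) ∈ H
        rw [h]
        exact H.add_mem h1 h3
      · show (KZero.cl X.X₁ : KZero.K0 A) ∈ H
        have : (KZero.cl X.X₁ : KZero.K0 A) = KZero.cl X.X₂ - KZero.cl X.X₃ := by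
          rw [h]; abel
        rw [this]
        exact H.sub_mem h2 h3
  rw [eq_top_iff]
  intro x _
  obtain ⟨y, rfl⟩ := QuotientAddGroup.mk_surjective x
  induction y using FreeAbelianGroup.induction_on with
  | zero => exact H.zero_mem
  | of X =>
    have : X ∈ T := by rw [hT]; trivial
    exact this
  | neg X ih =>
    rw [QuotientAddGroup.mk_neg]
    exact H.neg_mem (ih trivial)
  | add x y hx hy =>
    rw [QuotientAddGroup.mk_add]
    exact H.add_mem (hx trivial) (hy trivial)

end Groth.Agent.S5615
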