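import Groth.Statements.S5616
import Groth.Agent.Lib.helper2.ExtEfface

set_option autoImplicit false
universe w w' v v' u u'
open CategoryTheory CategoryTheory.Limits
open CohDer

namespace Groth.Agent.S5616

open Abelian in
lemma map_zero' {A : Type u} [Category.{v} A] [Abelian A] [HasExt.{w} A]
    {B : Type u'} [Category.{v'} B] [Abelian B] [HasExt.{w'} B]
    (φ : A ⥤ B) [φ.Additive] [PreservesFiniteLimits φ] [PreservesFiniteColimits φ]
    {L M : A} {n : ℕ} : Ext.mapExactFunctor φ (0 : Ext.{w} L M n) = 0 :=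
  Ext.mapExactFunctor_zero φ _ _ _

open Abelian in
/-- (ii) ⟹ (i) -/
lemma bij_of_efface {A : Type u} [Category.{v} A] [Abelian A] [HasExt.{w} A]
    {B : Type u'} [Category.{v'} B] [Abelian B] [HasExt.{w'} B]
    (φ : A ⥤ B) [φ.Additive] [PreservesFiniteLimits φ] [PreservesFiniteColimits φ] (M : A)
    (h0 : ∀ L : A, Function.Bijective (fun f : L ⟶ M => φ.map f))
    (he : ∀ (L : A) (n : ℕ), 1 ≤ n → ∀ x : Ext.{w'} (φ.obj L) (φ.obj M) n,
          ∃ (L' : A) (p : L' ⟶ L), Epi p ∧ (Ext.mk₀ (φ.map p)).comp x (zero_add n) = 0)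
    (n : ℕ) : ∀ L : A, Function.Bijective (φ.mapExtAddHom L M n) := by
  induction n with
  | zero =>
    intro L
    rw [Functor.mapExtAddHom_coe, Ext.mapExactFunctor₀]
    exact Ext.homEquiv₀.symm.bijective.comp ((h0 L).comp Ext.homEquiv₀.bijective)
  | succ n ih =>
    intro L
    constructor
    · rw [injective_iff_map_eq_zero]
      intro y hy
      rw [Functor.mapExtAddHom_apply] at hy
      obtain ⟨P, π, hπ, h⟩ := Groth.Agent.H2.H2_ext_efface y
      let S := ShortComplex.mk (kernel.ι π) π (kernel.condition π)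
      have hS : S.ShortExact := { exact := ShortComplex.exact_kernel π }
      obtain ⟨z, rfl⟩ := Ext.contravariant_sequence_exact₃ hS M y h (add_comm 1 n)
      have hS' := hS.map_of_exact φ
      rw [Ext.mapExactFunctor_comp, Ext.mapExactFunctor_extClass] at hy
      obtain ⟨w, hw⟩ := Ext.contravariant_sequence_exact₁ hS' (φ.obj M) (z.mapExactFunctor φ)
        (add_comm 1 n) hy
      obtain ⟨w', rfl⟩ := (ih P).2 w
      rw [Functor.mapExtAddHom_apply] at hw
      have hz : (Ext.mk₀ S.f).comp w' (zero_add n) = z := by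
        apply (ih _).1
        rw [Functor.mapExtAddHom_apply, Functor.mapExtAddHom_apply, Ext.mapExactFunctor_comp,
          Ext.mapExactFunctor_mk₀]
        exact hw
      rw [← hz]
      exact hS.extClass_comp_assoc w'
    · intro x
      obtain ⟨L', p, hp, h⟩ := he L (n + 1) (by omega) x
      let S := ShortComplex.mk (kernel.ι p) p (kernel.condition p)
      have hS : S.ShortExact := { exact := ShortComplex.exact_kernel p }
      have hS' := hS.map_of_exact φ
      obtain ⟨z, rfl⟩ := Ext.contravariant_sequence_exact₃ hS' (φ.obj M) x h (add_comm 1 n)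
      obtain ⟨z', rfl⟩ := (ih S.X₁).2 z
      refine ⟨hS.extClass.comp z' (add_comm 1 n), ?_⟩
      rw [Functor.mapExtAddHom_apply, Functor.mapExtAddHom_apply, Ext.mapExactFunctor_comp,
        Ext.mapExactFunctor_extClass]
      rfl


/-- Let φ : A ⥤ B be an exact functor of abelian categories and M an object of A. The following are
equivalent: (i) for every L in A and every n, the map Ext^n_A(L, M) → Ext^n_B(φ L, φ M) induced by φ
is bijective; (ii) for every L the map Hom_A(L, M) → Hom_B(φ L, φ M) is bijective, and for every L,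
every n ≥ 1 and every x ∈ Ext^n_B(φ L, φ M) there is an epimorphism L' ⟶ L of A such that x
precomposed with its image under φ vanishes. -/
theorem result
    {A : Type u} [Category.{v} A] [Abelian A] [HasExt.{w} A]
    {B : Type u'} [Category.{v'} B] [Abelian B] [HasExt.{w'} B]
    (φ : A ⥤ B) [φ.Additive] [PreservesFiniteLimits φ] [PreservesFiniteColimits φ] (M : A) :
    (∀ (L : A) (n : ℕ), Function.Bijective (fun f : Abelian.Ext.{w} L M n => Abelian.Ext.mapExactFunctor φ f)) ↔
      ((∀ L : A, Function.Bijective (fun f : L ⟶ M => φ.map f)) ∧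
        ∀ (L : A) (n : ℕ), 1 ≤ n → ∀ x : Abelian.Ext.{w'} (φ.obj L) (φ.obj M) n,
          ∃ (L' : A) (p : L' ⟶ L), Epi p ∧ (Abelian.Ext.mk₀ (φ.map p)).comp x (zero_add n) = 0) := by
  constructor
  · intro h
    refine ⟨fun L => ?_, fun L n hn x => ?_⟩
    · have h1 := h L 0
      have h2 : (fun f : Abelian.Ext.{w} L M 0 => Abelian.Ext.mapExactFunctor φ f) =
          Abelian.Ext.homEquiv₀.symm ∘ (fun f : L ⟶ M => φ.map f) ∘ Abelian.Ext.homEquiv₀ :=
        Abelian.Ext.mapExactFunctor₀ φ L M
      rw [h2] at h1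
      have h3 := (Function.Bijective.of_comp_iff' Abelian.Ext.homEquiv₀.symm.bijective _).1 h1
      exact (Function.Bijective.of_comp_iff _ Abelian.Ext.homEquiv₀.bijective).1 h3
    · obtain ⟨k, rfl⟩ : ∃ k, n = k + 1 := ⟨n - 1, by omega⟩
      obtain ⟨y, rfl⟩ := (h L (k + 1)).2 x
      obtain ⟨P, π, hπ, hy⟩ := Groth.Agent.H2.H2_ext_efface y
      refine ⟨P, π, hπ, ?_⟩
      show (Abelian.Ext.mk₀ (φ.map π)).comp (Abelian.Ext.mapExactFunctor φ y) _ = 0
      rw [← Abelian.Ext.mapExactFunctor_mk₀, ← Abelian.Ext.mapExactFunctor_comp, hy]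
      exact map_zero' φ
  · rintro ⟨h0, he⟩ L n
    exact bij_of_efface φ M h0 he n L


end Groth.Agent.S5616
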