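import Groth.Statements.S5752
import Mathlib

set_option autoImplicit false
universe u
open EGA41

namespace Groth.Agent.S5752

/-- Let A be a Noetherian local ring with maximal ideal m and M a finitely generated A-module. Then M
has depth 0 if and only if m is an associated prime of M, i.e. if and only if M contains a copy of
the residue field. (For M = 0 the depth is ⊤ and there are no associated primes.) -/
theorem result (A : Type u) [CommRing A] [IsLocalRing A]
    [IsNoetherianRing A] (M : Type u) [AddCommGroup M] [Module A M] [Module.Finite A M] :
    LocCoh.depth A M = 0 ↔ IsLocalRing.maximalIdeal A ∈ associatedPrimes A M := by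
  classical
  unfold LocCoh.depth LocCoh.idealDepth
  by_cases htriv : Subsingleton M
  · have h1 : IsLocalRing.maximalIdeal A • (⊤ : Submodule A M) = ⊤ := Subsingleton.elim _ _
    rw [if_pos h1, associatedPrimes.eq_empty_of_subsingleton]
    simp
  · rw [not_subsingleton_iff_nontrivial] at htriv
    have h1 : IsLocalRing.maximalIdeal A • (⊤ : Submodule A M) ≠ ⊤ := by
      intro h
      have := Submodule.eq_bot_of_le_smul_of_le_jacobson_bot (IsLocalRing.maximalIdeal A)
        (⊤ : Submodule A M) Module.Finite.fg_top (le_of_eq h.symm)
        (IsLocalRing.maximalIdeal_le_jacobson ⊥)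
      exact top_ne_bot this
    rw [if_neg h1]
    have hzd := biUnion_associatedPrimes_eq_zero_divisors A M
    constructor
    · intro h
      have h0 : ∀ rs : List A, (RingTheory.Sequence.IsWeaklyRegular M rs ∧
          ∀ r ∈ rs, r ∈ IsLocalRing.maximalIdeal A) → rs.length = 0 := by
        intro rs hrs
        have hle : ((rs.length : ℕ∞)) ≤ ⨆ (rs : List A) (_ : RingTheory.Sequence.IsWeaklyRegular M rs ∧
            ∀ r ∈ rs, r ∈ IsLocalRing.maximalIdeal A), (rs.length : ℕ∞) :=
          le_iSup₂ (f := fun (rs : List A) (_ : RingTheory.Sequence.IsWeaklyRegular M rs ∧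
            ∀ r ∈ rs, r ∈ IsLocalRing.maximalIdeal A) => (rs.length : ℕ∞)) rs hrs
        rw [h] at hle
        have : (rs.length : ℕ∞) = 0 := le_antisymm hle bot_le
        exact_mod_cast this
      have hsub : ((IsLocalRing.maximalIdeal A : Ideal A) : Set A) ⊆
          ⋃ p ∈ ((associatedPrimes.finite A M).toFinset : Set (Ideal A)), ((id p : Ideal A) : Set A) := by
        intro r hr
        have : r ∈ ⋃ p ∈ associatedPrimes A M, (p : Set A) := by
          rw [hzd]
          by_contra hcon
          have hreg : IsSMulRegular M r := by
            rw [isSMulRegular_iff_right_eq_zero_of_smul]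
            intro x hx
            by_contra hx0
            exact hcon ⟨x, hx0, hx⟩
          have := h0 [r] ⟨(RingTheory.Sequence.isWeaklyRegular_singleton_iff M r).mpr hreg,
            by simpa using hr⟩
          simp at this
        simpa using this
      rw [Ideal.subset_union_prime (⊥ : Ideal A) ⊥] at hsub
      · obtain ⟨p, hp, hmp⟩ := hsub
        have hp' : p ∈ associatedPrimes A M := by simpa using hp
        have hpp : p.IsPrime := IsAssociatedPrime.isPrime hp'
        have : p = IsLocalRing.maximalIdeal A :=
          le_antisymm (IsLocalRing.le_maximalIdeal hpp.ne_top) hmp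
        rw [← this]; exact hp'
      · intro p hp _ _
        have hp' : p ∈ associatedPrimes A M := by simpa using hp
        exact IsAssociatedPrime.isPrime hp'
    · intro hm
      rw [← bot_eq_zero, iSup_eq_bot]
      intro rs
      rw [iSup_eq_bot]
      rintro ⟨hreg, hmem⟩
      cases rs with
      | nil => simp
      | cons r rs =>
        exfalso
        have hr : IsSMulRegular M r := ((RingTheory.Sequence.isWeaklyRegular_cons_iff M r rs).mp hreg).1
        have hrm : r ∈ IsLocalRing.maximalIdeal A := hmem r (List.mem_cons_self ..)
        have : r ∈ ⋃ p ∈ associatedPrimes A M, (p : Set A) :=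
          Set.mem_biUnion hm hrm
        rw [hzd] at this
        obtain ⟨x, hx0, hx⟩ := this
        exact hx0 ((isSMulRegular_iff_right_eq_zero_of_smul.mp hr) x hx)

end Groth.Agent.S5752
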