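import Groth.Statements.S5754
import Mathlib

set_option autoImplicit false
universe u
open EGA41

namespace Groth.Agent.S5754

/-- Let A be a Noetherian ring, M a finitely generated A-module and t an element of A which is
M-regular. For every associated prime p of M, every prime ideal minimal among those containing p +
tA is an associated prime of M/tM. -/
theorem result (A : Type u) [CommRing A]
    [IsNoetherianRing A] (M : Type u) [AddCommGroup M] [Module A M] [Module.Finite A M] (t : A)
    (ht : IsSMulRegular M t) (p : Ideal A) (hp : p ∈ associatedPrimes A M) (q : Ideal A)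
    (hq : q ∈ (p ⊔ Ideal.span {t}).minimalPrimes) : q ∈ associatedPrimes A (QuotSMulTop t M) := by
  classical
  rw [AssociatedPrimes.mem_iff, isAssociatedPrime_iff] at hp
  obtain ⟨hpp, x, hx⟩ := hp
  have hpx : ∀ a : A, a ∈ p ↔ a • x = 0 := by
    intro a
    rw [hx, Submodule.mem_colon_singleton, Submodule.mem_bot]
  have hqp : q.IsPrime := hq.1.1
  let N : Submodule A M := Submodule.torsionBySet A M (p : Set A)
  have hNmem : ∀ y : M, y ∈ N ↔ ∀ a ∈ p, a • y = 0 := by
    intro y
    rw [Submodule.mem_torsionBySet_iff]
    exact ⟨fun h a ha => h ⟨a, ha⟩, fun h a => h a a.2⟩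
  have hxN : x ∈ N := by
    rw [hNmem]
    intro a ha
    exact (hpx a).1 ha
  have : Module.Finite A ↥N := Module.Finite.of_fg (IsNoetherian.noetherian N)
  let ι : QuotSMulTop t ↥N →ₗ[A] QuotSMulTop t M := QuotSMulTop.map t N.subtype
  have hι : Function.Injective ι := by
    rw [← LinearMap.ker_eq_bot, eq_bot_iff]
    intro z hz
    obtain ⟨y, rfl⟩ := Submodule.Quotient.mk_surjective _ z
    rw [LinearMap.mem_ker] at hz
    change (Submodule.Quotient.mk (N.subtype y) : QuotSMulTop t M) = 0 at hz
    rw [Submodule.Quotient.mk_eq_zero, Submodule.mem_smul_pointwise_iff_exists] at hz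
    obtain ⟨m, _, hm⟩ := hz
    have hmN : m ∈ N := by
      rw [hNmem]
      intro a ha
      apply ht
      change t • a • m = t • 0
      rw [smul_zero, smul_comm, hm]
      exact (hNmem _).1 y.2 a ha
    rw [Submodule.mem_bot, Submodule.Quotient.mk_eq_zero, Submodule.mem_smul_pointwise_iff_exists]
    exact ⟨⟨m, hmN⟩, Submodule.mem_top, Subtype.ext hm⟩
  apply associatedPrimes.subset_of_injective hι
  apply Module.associatedPrimes.minimalPrimes_annihilator_subset_associatedPrimes
  have hsupp : (⟨q, hqp⟩ : PrimeSpectrum A) ∈ Module.support A (QuotSMulTop t ↥N) := by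
    rw [Module.support_quotSMulTop]
    refine ⟨?_, ?_⟩
    · rw [Module.mem_support_iff_of_finite]
      intro a ha
      have hpq : p ≤ q := le_sup_left.trans hq.1.2
      apply hpq
      rw [hpx]
      have := Module.mem_annihilator.1 ha ⟨x, hxN⟩
      exact congrArg Subtype.val this
    · rw [PrimeSpectrum.mem_zeroLocus, Set.singleton_subset_iff]
      exact hq.1.2 (Ideal.mem_sup_right (Ideal.mem_span_singleton_self t))
  have hann : p ⊔ Ideal.span {t} ≤ Module.annihilator A (QuotSMulTop t ↥N) := by
    rw [sup_le_iff]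
    constructor
    · intro a ha
      rw [Module.mem_annihilator]
      intro z
      obtain ⟨y, rfl⟩ := Submodule.Quotient.mk_surjective _ z
      rw [← Submodule.Quotient.mk_smul]
      have : a • y = 0 := Subtype.ext ((hNmem _).1 y.2 a ha)
      rw [this, Submodule.Quotient.mk_zero]
    · rw [Ideal.span_singleton_le_iff_mem, Module.mem_annihilator]
      intro z
      obtain ⟨y, rfl⟩ := Submodule.Quotient.mk_surjective _ z
      rw [← Submodule.Quotient.mk_smul, Submodule.Quotient.mk_eq_zero]
      exact Submodule.smul_mem_pointwise_smul y t ⊤ Submodule.mem_top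
  refine ⟨⟨hqp, ?_⟩, ?_⟩
  · exact (Module.mem_support_iff_of_finite).1 hsupp
  · rintro q' ⟨hq'p, hq'ann⟩ hq'q
    exact hq.2 ⟨hq'p, hann.trans hq'ann⟩ hq'q

end Groth.Agent.S5754
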