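import Groth.Statements.S5755
import Mathlib
import Groth.Agent.S5752

set_option autoImplicit false
universe u
open EGA41

namespace Groth.Agent.S5755

/-- A reduced Noetherian local ring A has depth 0 if and only if A is a field. -/
theorem result (A : Type u) [CommRing A] [IsLocalRing A]
    [IsNoetherianRing A] [IsReduced A] : LocCoh.depth A A = 0 ↔ IsField A := by
  rw [Groth.Agent.S5752.result A A, AssociatedPrimes.mem_iff, isAssociatedPrime_iff]
  constructor
  · rintro ⟨_, x, hx⟩
    have hmem : ∀ r, r ∈ IsLocalRing.maximalIdeal A ↔ r * x = 0 := by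
      intro r; rw [hx, Submodule.mem_colon_singleton]; simp
    have hx0 : x ≠ 0 := by
      rintro rfl
      have : (1 : A) ∈ IsLocalRing.maximalIdeal A := (hmem 1).mpr (by simp)
      exact (Ideal.ne_top_iff_one _).mp (IsLocalRing.maximalIdeal.isMaximal A).ne_top this
    have hxu : IsUnit x := by
      by_contra h
      have : x ∈ IsLocalRing.maximalIdeal A := (IsLocalRing.mem_maximalIdeal x).mpr h
      have h2 := (hmem x).mp this
      exact hx0 (IsReduced.eq_zero x ⟨2, by rw [pow_two]; exact h2⟩)
    have hm : IsLocalRing.maximalIdeal A = ⊥ := by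
      ext r
      rw [hmem r, Ideal.mem_bot]
      exact hxu.mul_left_eq_zero
    exact IsLocalRing.isField_iff_maximalIdeal_eq.mpr hm
  · intro hF
    have hm := IsLocalRing.isField_iff_maximalIdeal_eq.mp hF
    refine ⟨inferInstance, 1, ?_⟩
    ext r
    rw [hm, Submodule.mem_colon_singleton]
    simp

end Groth.Agent.S5755
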