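import Groth.Statements.S5766
import Mathlib
import Groth.Agent.S5763

set_option autoImplicit false
universe u
open EGA41

namespace Groth.Agent.S5766

/-- Let A be a Noetherian ring, ρ : A → B a ring homomorphism and M a B-module which is finitely
generated as an A-module via ρ. Then the dimension of M as an A-module equals its dimension as a
B-module. -/
theorem result (A B : Type u) [CommRing A] [CommRing B] [IsNoetherianRing A]
    [Algebra A B] (M : Type u) [AddCommGroup M] [Module B M] [Module A M] [IsScalarTower A B M]
    [Module.Finite A M] : Module.supportDim A M = Module.supportDim B M := by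
  have hfinB : Module.Finite B M := Module.Finite.of_restrictScalars_finite A B M
  rw [Module.supportDim_eq_ringKrullDim_quotient_annihilator,
    Module.supportDim_eq_ringKrullDim_quotient_annihilator (R := B)]
  have hcomap : Module.annihilator A M = (Module.annihilator B M).comap (algebraMap A B) := by
    ext a
    simp only [Module.mem_annihilator, Ideal.mem_comap, algebraMap_smul]
  let φ : A ⧸ Module.annihilator A M →+* B ⧸ Module.annihilator B M :=
    Ideal.quotientMap (Module.annihilator B M) (algebraMap A B) hcomap.le
  have hφinj : Function.Injective φ := Ideal.quotientMap_injective' hcomap.ge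
  let _ : Algebra (A ⧸ Module.annihilator A M) (B ⧸ Module.annihilator B M) := φ.toAlgebra
  have htower : IsScalarTower A (A ⧸ Module.annihilator A M) (B ⧸ Module.annihilator B M) :=
    IsScalarTower.of_algebraMap_eq (fun x => rfl)
  have hsmc : SMulCommClass B A M := IsScalarTower.to_smulCommClass'
  let ℓ : B →ₐ[A] Module.End A M := Algebra.lsmul A A M
  have hint : Algebra.IsIntegral (A ⧸ Module.annihilator A M) (B ⧸ Module.annihilator B M) := by
    refine ⟨fun x => ?_⟩
    obtain ⟨b, rfl⟩ := Ideal.Quotient.mk_surjective x
    apply IsIntegral.tower_top (R := A)
    obtain ⟨p, hp, hp0⟩ := (Module.End.isIntegral (R := A) (M := M)).isIntegral (ℓ b)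
    refine ⟨p, hp, ?_⟩
    have h1 : Polynomial.aeval b p ∈ Module.annihilator B M := by
      rw [Module.mem_annihilator]
      intro m
      have h2 : ℓ (Polynomial.aeval b p) = 0 := by
        rw [← Polynomial.aeval_algHom_apply]
        exact hp0
      have := LinearMap.congr_fun h2 m
      simpa [ℓ] using this
    have h3 : Polynomial.aeval (Ideal.Quotient.mk (Module.annihilator B M) b) p
        = Ideal.Quotient.mk (Module.annihilator B M) (Polynomial.aeval b p) := by
      have := Polynomial.aeval_algHom_apply (Ideal.Quotient.mkₐ A (Module.annihilator B M)) b p
      simpa using this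
    change Polynomial.aeval (Ideal.Quotient.mk (Module.annihilator B M) b) p = 0
    rw [h3, Ideal.Quotient.eq_zero_iff_mem]
    exact h1
  exact ((Groth.Agent.S5763.result (A ⧸ Module.annihilator A M) (B ⧸ Module.annihilator B M)).2
    hφinj).symm

end Groth.Agent.S5766
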