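import Groth.Statements.S5772
import Mathlib

set_option autoImplicit false
universe u
open scoped Pointwise
open EGA41

namespace Groth.Agent.S5772

/-- Let A be a Noetherian ring, M a finitely generated A-module and f an element of A. Then f is
M-regular (multiplication by f on M is injective) if and only if f is M-quasi-regular, i.e. the
canonical surjection (M/fM)[T] → gr(M) for the (f)-adic filtration is bijective, which amounts to:
for every k ≥ 0 and x ∈ M, f^k x ∈ f^(k+1) M implies x ∈ fM. -/
theorem result (A : Type u) [CommRing A] [IsNoetherianRing A] (M : Type u)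
    [AddCommGroup M] [Module A M] [Module.Finite A M] (f : A) :
    IsSMulRegular M f ↔
      ∀ (k : ℕ) (x : M), f ^ k • x ∈ f ^ (k + 1) • (⊤ : Submodule A M) → x ∈ f • (⊤ : Submodule A M) := by
  constructor
  · intro hreg k x hx
    obtain ⟨y, -, hy⟩ := hx
    have hy' : f ^ (k + 1) • y = f ^ k • x := hy
    have h1 : f ^ k • (f • y) = f ^ k • x := by
      rw [← hy', pow_succ, mul_smul]
    have h2 : f • y = x := (hreg.pow k) h1
    exact ⟨y, Submodule.mem_top, h2⟩
  · intro hcond
    have key : ∀ z : M, f • z = 0 → z = 0 := by
      intro z hz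
      have hmem : ∀ k : ℕ, ∃ y : M, z = f ^ k • y := by
        intro k
        induction k with
        | zero => exact ⟨z, by simp⟩
        | succ k ih =>
          obtain ⟨y, hy⟩ := ih
          have h1 : f ^ (k + 1) • y ∈ f ^ (k + 1 + 1) • (⊤ : Submodule A M) := by
            have : f ^ (k + 1) • y = 0 := by
              rw [pow_succ', mul_smul, ← hy, hz]
            rw [this]
            exact Submodule.zero_mem _
          obtain ⟨y', -, hy'⟩ := hcond (k + 1) y h1
          refine ⟨y', ?_⟩
          have hy'' : f • y' = y := hy'
          rw [hy, ← hy'', pow_succ, mul_smul]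
      have hz' : z ∈ (⨅ k : ℕ, (Ideal.span {f}) ^ k • (⊤ : Submodule A M)) := by
        rw [Submodule.mem_iInf]
        intro k
        obtain ⟨y, hy⟩ := hmem k
        rw [Ideal.span_singleton_pow, Submodule.ideal_span_singleton_smul]
        exact ⟨y, Submodule.mem_top, hy.symm⟩
      rw [Ideal.mem_iInf_smul_pow_eq_bot_iff] at hz'
      obtain ⟨⟨r, hr⟩, hrz⟩ := hz'
      obtain ⟨a, rfl⟩ := Ideal.mem_span_singleton'.mp hr
      have : (a * f) • z = z := hrz
      rw [← this, mul_smul, hz, smul_zero]
    intro x y hxy
    have : f • (x - y) = 0 := by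
      rw [smul_sub]
      exact sub_eq_zero.mpr hxy
    exact sub_eq_zero.mp (key _ this)

end Groth.Agent.S5772
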