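import Groth.Statements.S5780
import Mathlib

set_option autoImplicit false
universe u
open EGA41

namespace Groth.Agent.S5780

/-- Let A be a Noetherian local ring with maximal ideal m. If every element of m which is not in m² is a
zero divisor in A, then there is a nonzero c in A with c m = 0, i.e. m is an associated prime of A. -/
theorem result (A : Type u) [CommRing A]
    [IsLocalRing A] [IsNoetherianRing A]
    (h : ∀ a ∈ IsLocalRing.maximalIdeal A, a ∉ IsLocalRing.maximalIdeal A ^ 2 → ¬ IsSMulRegular A a) :
    IsLocalRing.maximalIdeal A ∈ associatedPrimes A A := by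
  classical
  by_contra hm
  have hzd := biUnion_associatedPrimes_eq_zero_divisors A A
  -- m ⊆ m² ∪ ⋃ Ass
  let s : Finset (Ideal A) := insert (IsLocalRing.maximalIdeal A ^ 2) (associatedPrimes.finite A A).toFinset
  have hsub : ((IsLocalRing.maximalIdeal A : Ideal A) : Set A) ⊆
      ⋃ p ∈ (s : Set (Ideal A)), ((id p : Ideal A) : Set A) := by
    intro r hr
    by_cases hr2 : r ∈ IsLocalRing.maximalIdeal A ^ 2
    · exact Set.mem_biUnion (show IsLocalRing.maximalIdeal A ^ 2 ∈ (s : Set (Ideal A)) by simp [s]) hr2
    · have hnr := h r hr hr2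
      have : r ∈ ⋃ p ∈ associatedPrimes A A, (p : Set A) := by
        rw [hzd]
        by_contra hcon
        apply hnr
        rw [isSMulRegular_iff_right_eq_zero_of_smul]
        intro x hx
        by_contra hx0
        exact hcon ⟨x, hx0, hx⟩
      obtain ⟨p, hp, hrp⟩ := Set.mem_iUnion₂.mp this
      exact Set.mem_biUnion (show p ∈ (s : Set (Ideal A)) by simp [s, hp]) hrp
  rw [Ideal.subset_union_prime (IsLocalRing.maximalIdeal A ^ 2) (IsLocalRing.maximalIdeal A ^ 2)] at hsub
  · obtain ⟨p, hp, hmp⟩ := hsub
    simp only [s, Finset.mem_insert, Set.Finite.mem_toFinset] at hp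
    rcases hp with rfl | hp
    · -- m ≤ m²: Nakayama gives m = ⊥
      have hm0 : IsLocalRing.maximalIdeal A = ⊥ := by
        have hfg : (IsLocalRing.maximalIdeal A).FG := (isNoetherianRing_iff_ideal_fg A).mp ‹_› _
        refine Submodule.eq_bot_of_le_smul_of_le_jacobson_bot (IsLocalRing.maximalIdeal A)
          (IsLocalRing.maximalIdeal A) hfg ?_ (IsLocalRing.maximalIdeal_le_jacobson ⊥)
        rw [smul_eq_mul, ← pow_two]
        exact hmp
      apply hm
      rw [AssociatedPrimes.mem_iff, isAssociatedPrime_iff]
      refine ⟨inferInstance, 1, ?_⟩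
      ext r
      rw [hm0, Submodule.mem_colon_singleton]
      simp
    · have hpp : p.IsPrime := IsAssociatedPrime.isPrime hp
      have : p = IsLocalRing.maximalIdeal A :=
        le_antisymm (IsLocalRing.le_maximalIdeal hpp.ne_top) hmp
      exact hm (this ▸ hp)
  · intro p hp hne _
    simp only [s, Finset.mem_insert, Set.Finite.mem_toFinset] at hp
    rcases hp with rfl | hp
    · exact absurd rfl hne
    · exact IsAssociatedPrime.isPrime hp

end Groth.Agent.S5780
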