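import Groth.Statements.S5801
import Mathlib

set_option autoImplicit false
universe u
open scoped Pointwise
open EGA41

namespace Groth.Agent.S5801

/-- Let A be a ring, M an A-module and f ∈ A, and consider the canonical surjection (M/fM)[T] → gr(M)
for the (f)-adic filtration, whose injectivity says: for all k ≥ 0 and x ∈ M, f^k x ∈ f^(k+1) M
implies x ∈ fM. If f is M-regular this map is bijective; conversely, if it is bijective and M is
separated for the (f)-adic topology (the intersection of the f^k M is zero), then f is M-regular. -/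
theorem result (A : Type u) [CommRing A] (M : Type u)
    [AddCommGroup M] [Module A M] (f : A) :
    (IsSMulRegular M f →
        ∀ (k : ℕ) (x : M), f ^ k • x ∈ f ^ (k + 1) • (⊤ : Submodule A M) → x ∈ f • (⊤ : Submodule A M)) ∧
      ((⨅ k : ℕ, f ^ k • (⊤ : Submodule A M)) = ⊥ →
        (∀ (k : ℕ) (x : M), f ^ k • x ∈ f ^ (k + 1) • (⊤ : Submodule A M) → x ∈ f • (⊤ : Submodule A M)) →
          IsSMulRegular M f) := by
  constructor
  · intro hreg k x hx
    obtain ⟨y, -, hy⟩ := hx
    have hy' : f ^ (k + 1) • y = f ^ k • x := hy
    have h1 : f ^ k • (f • y) = f ^ k • x := by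
      rw [← hy', pow_succ, mul_smul]
    have h2 : f • y = x := (hreg.pow k) h1
    exact ⟨y, Submodule.mem_top, h2⟩
  · intro hsep hcond
    have key : ∀ z : M, f • z = 0 → z = 0 := by
      intro z hz
      have hmem : ∀ k : ℕ, ∃ y : M, z = f ^ k • y := by
        intro k
        induction k with
        | zero => exact ⟨z, by simp⟩
        | succ k ih =>
          obtain ⟨y, hy⟩ := ih
          have h1 : f ^ (k + 1) • y ∈ f ^ (k + 1 + 1) • (⊤ : Submodule A M) := by
            have : f ^ (k + 1) • y = 0 := by
              rw [pow_succ', mul_smul, ← hy, hz]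
            rw [this]
            exact Submodule.zero_mem _
          obtain ⟨y', -, hy'⟩ := hcond (k + 1) y h1
          refine ⟨y', ?_⟩
          have hy'' : f • y' = y := hy'
          rw [hy, ← hy'', pow_succ, mul_smul]
      have hz' : z ∈ (⨅ k : ℕ, f ^ k • (⊤ : Submodule A M)) := by
        rw [Submodule.mem_iInf]
        intro k
        obtain ⟨y, hy⟩ := hmem k
        exact ⟨y, Submodule.mem_top, hy.symm⟩
      rw [hsep] at hz'
      exact hz'
    intro x y hxy
    have : f • (x - y) = 0 := by
      rw [smul_sub]
      exact sub_eq_zero.mpr hxy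
    exact sub_eq_zero.mp (key _ this)

end Groth.Agent.S5801
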