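import Groth.Statements.S5809
import Groth.Statements.S5809
import Mathlib
import Groth.Agent.Lib.helper9.H9_TorShift

set_option autoImplicit false
universe u
open CategoryTheory
open EGA41

namespace Groth.Agent.S5809

/-- Let A be a Noetherian local ring with residue field k, M a finitely generated A-module and n ≥ 0.
For M to have projective dimension at most n it is necessary that Tor^A_i(M, k) = 0 for all i > n,
and it suffices that Tor^A_(n+1)(M, k) = 0. (Tor is written here as the left derived functors of k ⊗
- evaluated at M, i.e. computed from a projective resolution of M.) -/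
theorem result (A : Type u) [CommRing A] [IsLocalRing A]
    [IsNoetherianRing A] (M : Type u) [AddCommGroup M] [Module A M] [Module.Finite A M] (n : ℕ) :
    (HasProjectiveDimensionLT (ModuleCat.of A M) (n + 1) →
        ∀ i : ℕ, n < i → Limits.IsZero (((Tor (ModuleCat.{u} A) i).obj
          (ModuleCat.of A (IsLocalRing.ResidueField A))).obj (ModuleCat.of A M))) ∧
      (Limits.IsZero (((Tor (ModuleCat.{u} A) (n + 1)).obj
          (ModuleCat.of A (IsLocalRing.ResidueField A))).obj (ModuleCat.of A M)) →
        HasProjectiveDimensionLT (ModuleCat.of A M) (n + 1)) := by
  constructor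
  · intro hpd i hi
    haveI : HasProjectiveDimensionLE (ModuleCat.of A M) n := hpd
    exact Groth.Agent.H9TorPd.tor_pd (ModuleCat.of A (IsLocalRing.ResidueField A))
      (ModuleCat.of A M) n i hi
  · intro h
    exact Groth.Agent.H9TorShift.pd_of_tor_residue A n M h

end Groth.Agent.S5809
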