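import Groth.Statements.S5810
import Mathlib
import Groth.Agent.Lib.helper9.H9_DepthFlat
import Groth.Agent.Lib.helper9.H9_ComplNoeth

set_option autoImplicit false
universe u
open EGA41

namespace Groth.Agent.S5810

/-- Let A be a Noetherian local ring with maximal ideal m and M a finitely generated A-module; write Â
and M̂ for the m-adic completions. Then prof_A(M) = prof_Â(M̂). -/
theorem result (A : Type u) [CommRing A] [IsLocalRing A] [IsNoetherianRing A] (M : Type u)
    [AddCommGroup M] [Module A M] [Module.Finite A M] :
    LocCoh.depth (AdicCompletion (IsLocalRing.maximalIdeal A) A) (AdicCompletion (IsLocalRing.maximalIdeal A) M) =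
      LocCoh.depth A M := by
  haveI : IsNoetherianRing (AdicCompletion (IsLocalRing.maximalIdeal A) A) :=
    Groth.Agent.H9.ComplNoeth.isNoetherianRing_adicCompletion A (IsLocalRing.maximalIdeal A)
  haveI : IsLocalHom (algebraMap A (AdicCompletion (IsLocalRing.maximalIdeal A) A)) :=
    inferInstance
  haveI : Module.FaithfullyFlat A (AdicCompletion (IsLocalRing.maximalIdeal A) A) :=
    Module.FaithfullyFlat.of_flat_of_isLocalHom
  have h1 := H9DepthFlat.eq_of_faithfullyFlat A (AdicCompletion (IsLocalRing.maximalIdeal A) A)
    (IsLocalRing.maximalIdeal A) M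
  have h2 := H9DepthFinite.depth_congr
    ((IsLocalRing.maximalIdeal A).map
      (algebraMap A (AdicCompletion (IsLocalRing.maximalIdeal A) A)))
    (AdicCompletion.ofTensorProductEquivOfFiniteNoetherian (IsLocalRing.maximalIdeal A) M)
  unfold LocCoh.depth
  rw [AdicCompletion.maximalIdeal_eq_map, ← h2, h1]

end Groth.Agent.S5810
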