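import Groth.Statements.S5813
import Groth.Statements.S5813
import Groth.Agent.Lib.helper9.H9_ExalPi
attribute [local instance] Exal.opModule Exal.isCentralScalar_opModule

set_option autoImplicit false
universe u
open EGA41

namespace Groth.Agent.S5813

/-- Injectivity, commutative form. Let J be an ideal of the commutative ring B, C = B ⧸ J, M a C-module.
Two B-extensions of C by M whose induced linear maps J/J² → M (obtained from the restriction to J of
the structure map B → E) coincide are equivalent. -/
theorem result {B : Type u} [CommRing B] (J : Ideal B)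
    {M : Type u} [AddCommGroup M] [Module (B ⧸ J) M] [Module B M] [IsScalarTower B (B ⧸ J) M]
    (X Y : Exal.Ext B (B ⧸ J) M) (h : X.conormalMap J = Y.conormalMap J) :
    Nonempty (X.Equiv Y) := by
  classical
  have hker : RingHom.ker (Groth.Agent.H9_ExalPi.piHom J X) =
      RingHom.ker (Groth.Agent.H9_ExalPi.piHom J Y) := by
    ext t
    rw [RingHom.mem_ker, RingHom.mem_ker, Groth.Agent.H9_ExalPi.mem_ker_piHom_iff,
      Groth.Agent.H9_ExalPi.mem_ker_piHom_iff, h]
  let e : X.E ≃+* Y.E :=
    (RingHom.quotientKerEquivOfSurjective (Groth.Agent.H9_ExalPi.piHom_surjective J X)).symm.trans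
      ((Ideal.quotEquivOfEq hker).trans
        (RingHom.quotientKerEquivOfSurjective (Groth.Agent.H9_ExalPi.piHom_surjective J Y)))
  have he : ∀ t, e (Groth.Agent.H9_ExalPi.piHom J X t) = Groth.Agent.H9_ExalPi.piHom J Y t := by
    intro t
    show (RingHom.quotientKerEquivOfSurjective (Groth.Agent.H9_ExalPi.piHom_surjective J Y))
      ((Ideal.quotEquivOfEq hker)
        ((RingHom.quotientKerEquivOfSurjective (Groth.Agent.H9_ExalPi.piHom_surjective J X)).symm
          (Groth.Agent.H9_ExalPi.piHom J X t))) = _
    rw [RingHom.quotientKerEquivOfSurjective_symm_apply, Ideal.quotEquivOfEq_mk,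
      RingHom.quotientKerEquivOfSurjective_apply_mk]
  have hcomm : ∀ b : B, e (algebraMap B X.E b) = algebraMap B Y.E b := by
    intro b
    rw [← Groth.Agent.H9_ExalPi.piHom_inl J X, he, Groth.Agent.H9_ExalPi.piHom_inl]
  refine ⟨{ toAlgEquiv := AlgEquiv.ofRingEquiv (f := e) hcomm, proj_apply := ?_, apply_incl := ?_ }⟩
  · intro x
    obtain ⟨t, rfl⟩ := Groth.Agent.H9_ExalPi.piHom_surjective J X x
    show Y.proj (e (Groth.Agent.H9_ExalPi.piHom J X t)) = _
    rw [he, Groth.Agent.H9_ExalPi.proj_piHom, Groth.Agent.H9_ExalPi.proj_piHom]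
  · intro z
    show e (X.incl z) = Y.incl z
    rw [← Groth.Agent.H9_ExalPi.piHom_inr J X, he, Groth.Agent.H9_ExalPi.piHom_inr]

end Groth.Agent.S5813
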