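import Groth.Statements.S5815
import Groth.Statements.S5815
import Mathlib

set_option autoImplicit false
universe u
open EGA41

namespace Groth.Agent.S5815

/-- Discrete case. A commutative A-algebra B is formally smooth if and only if every A-extension of B by
a B-module L is trivial (has an A-algebra section). A and B are taken in one universe and L ranges
over that universe. (The published statement is for topological rings, with direct-limit classes of
extensions; this row is its discrete case.) -/
theorem result (A B : Type u) [CommRing A] [CommRing B] [Algebra A B] :
    Algebra.FormallySmooth A B ↔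
      ∀ (L : Type u) [AddCommGroup L] [Module B L] (X : Exal.Ext A B L), X.IsTrivial := by
  classical
  constructor
  · intro hfs L _ _ X
    have hsurj := X.isExtension.proj_surjective
    have hnil : IsNilpotent (RingHom.ker (X.proj : X.E →+* B)) := by
      refine ⟨2, ?_⟩
      rw [Ideal.zero_eq_bot, eq_bot_iff, pow_two, Ideal.mul_le]
      intro x hx y hy
      obtain ⟨z, rfl⟩ := (X.isExtension.exact y).mp hy
      rw [X.isExtension.mul_incl]
      have hx0 : X.proj x = 0 := hx
      rw [hx0, zero_smul, map_zero]
      exact Ideal.zero_mem _
    refine ⟨Algebra.FormallySmooth.liftOfSurjective (AlgHom.id A B) X.proj hsurj hnil, fun b => ?_⟩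
    exact Algebra.FormallySmooth.liftOfSurjective_apply _ _ _ _ b
  · intro h
    rw [Algebra.FormallySmooth.iff_comp_surjective]
    intro C _ _ I hI g
    -- the module structure on I over C ⧸ I, then over B through g
    have hT : Module.IsTorsionBySet C (↥I) (I : Set C) := by
      intro x a
      apply Subtype.ext
      have : (a : C) * (x : C) ∈ I ^ 2 := by
        rw [pow_two]; exact Ideal.mul_mem_mul a.2 x.2
      rw [hI] at this
      simpa using this
    letI modQ : Module (C ⧸ I) (↥I) := hT.module
    letI modB : Module B (↥I) := Module.compHom (↥I) (g : B →+* C ⧸ I)
    have hsmul : ∀ (b : B) (c : C) (z : ↥I), g b = Ideal.Quotient.mk I c →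
        ((b • z : ↥I) : C) = c * (z : C) := by
      intro b c z hbc
      show (((g b) • z : ↥I) : C) = c * (z : C)
      rw [hbc]
      rfl
    -- the fibre product
    let E : Subalgebra A (B × C) :=
      AlgHom.equalizer (g.comp (AlgHom.fst A B C)) ((Ideal.Quotient.mkₐ A I).comp (AlgHom.snd A B C))
    have hE : ∀ x : B × C, x ∈ E ↔ g x.1 = Ideal.Quotient.mk I x.2 := fun x => Iff.rfl
    let X : Exal.Ext A B (↥I) :=
      { E := E
        proj := (AlgHom.fst A B C).comp E.val
        incl :=
          { toFun := fun z => ⟨(0, (z : C)), by
              rw [hE]
              show g 0 = Ideal.Quotient.mk I (z : C)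
              rw [map_zero, eq_comm, Ideal.Quotient.eq_zero_iff_mem]
              exact z.2⟩
            map_zero' := by
              apply Subtype.ext
              rfl
            map_add' := fun z z' => by
              apply Subtype.ext
              apply Prod.ext
              · show (0 : B) = 0 + 0
                rw [add_zero]
              · rfl }
        isExtension :=
          { proj_surjective := fun b => by
              obtain ⟨c, hc⟩ := Ideal.Quotient.mk_surjective (g b)
              exact ⟨⟨(b, c), (hE _).mpr hc.symm⟩, rfl⟩
            incl_injective := fun z z' hzz => by
              have := congrArg (fun e : E => (e : B × C).2) hzz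
              exact Subtype.ext this
            exact := fun x => by
              obtain ⟨⟨b, c⟩, hx⟩ := x
              have hx' : g b = Ideal.Quotient.mk I c := (hE _).mp hx
              constructor
              · intro hb
                have hb0 : b = 0 := hb
                subst hb0
                rw [map_zero, eq_comm, Ideal.Quotient.eq_zero_iff_mem] at hx'
                exact ⟨⟨c, hx'⟩, rfl⟩
              · rintro ⟨z, hz⟩
                have := congrArg (fun e : E => (e : B × C).1) hz
                exact this.symm
            mul_incl := fun x z => by
              obtain ⟨⟨b, c⟩, hx⟩ := x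
              have hx' : g b = Ideal.Quotient.mk I c := (hE _).mp hx
              apply Subtype.ext
              apply Prod.ext
              · show b * 0 = 0
                rw [mul_zero]
              · show c * (z : C) = ((b • z : ↥I) : C)
                rw [hsmul b c z hx'] } }
    obtain ⟨s, hs⟩ := h (↥I) X
    refine ⟨(AlgHom.snd A B C).comp (E.val.comp s), ?_⟩
    ext b
    have h1 : g ((s b : E) : B × C).1 = Ideal.Quotient.mk I ((s b : E) : B × C).2 :=
      (hE _).mp (s b).2
    have h2 : ((s b : E) : B × C).1 = b := hs b
    rw [h2] at h1
    exact h1.symm

end Groth.Agent.S5815
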