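import Groth.Statements.S5819
import Groth.Statements.S5819
import Mathlib

set_option autoImplicit false
universe u v
open EGA41

namespace Groth.Agent.S5819

/-- Commutative rings, exactness at Exalcom_A(C, L) on underlying pointed sets. For ring maps A → B → C
and a C-module L, an A-extension Y of C by L pulls back to a trivial A-extension of B if and only if
Y is equivalent to some B-extension of C by L viewed as an A-extension. -/
theorem result {A : Type u} {B C L : Type v} [CommRing A]
    [CommRing B] [CommRing C] [Algebra A B] [Algebra B C] [Algebra A C] [IsScalarTower A B C]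
    [AddCommGroup L] [Module C L] [Module B L] [IsScalarTower B C L]
    (Y : Exal.Ext A C L) :
    (Y.pullback B).IsTrivial ↔
      ∃ X : Exal.Ext B C L, Nonempty ((X.restrictBase A).Equiv Y) := by
  classical
  constructor
  · rintro ⟨s, hs⟩
    -- membership in the fibre product
    have hmem : ∀ x : Y.fiberProd B, Y.proj (x : Y.E × B).1 = algebraMap B C (x : Y.E × B).2 :=
      fun x => x.2
    let s' : B →ₐ[A] Y.fiberProd B := s
    have hs2 : ∀ b : B, ((s' b : Y.fiberProd B) : Y.E × B).2 = b := fun b => hs b
    let φ : B →+* Y.E :=
      (RingHom.fst Y.E B).comp ((Y.fiberProd B).val.toRingHom.comp s'.toRingHom)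
    have hφ : ∀ b, φ b = ((s' b : Y.fiberProd B) : Y.E × B).1 := fun b => rfl
    letI algB : Algebra B Y.E := φ.toAlgebra
    let X : Exal.Ext B C L :=
      { E := Y.E
        proj :=
          { toRingHom := Y.proj.toRingHom
            commutes' := fun b => by
              show Y.proj (φ b) = algebraMap B C b
              rw [hφ, hmem, hs2] }
        incl := Y.incl
        isExtension :=
          { proj_surjective := Y.isExtension.proj_surjective
            incl_injective := Y.isExtension.incl_injective
            exact := Y.isExtension.exact
            mul_incl := Y.isExtension.mul_incl } }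
    refine ⟨X, ⟨?_⟩⟩
    let e : (X.restrictBase A).E ≃+* Y.E := RingEquiv.refl Y.E
    have hcomm : ∀ a : A, e (algebraMap A (X.restrictBase A).E a) = algebraMap A Y.E a := by
      intro a
      show φ (algebraMap A B a) = algebraMap A Y.E a
      rw [hφ]
      have h2 : s' (algebraMap A B a) = algebraMap A (Y.fiberProd B) a := s'.commutes a
      rw [h2]
      rfl
    exact
      { toAlgEquiv := AlgEquiv.ofRingEquiv (f := e) hcomm
        proj_apply := by
          intro x
          rfl
        apply_incl := by
          intro z
          rfl }
  · rintro ⟨X, ⟨e⟩⟩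
    let g : B →ₐ[A] (X.restrictBase A).E :=
      { toRingHom := (algebraMap B X.E : B →+* (X.restrictBase A).E)
        commutes' := fun a => rfl }
    let f : B →ₐ[A] Y.E := (e.toAlgEquiv : (X.restrictBase A).E →ₐ[A] Y.E).comp g
    have hf : ∀ b : B, Y.proj (f b) = algebraMap B C b := by
      intro b
      show Y.proj (e.toAlgEquiv (g b)) = _
      rw [e.proj_apply]
      show X.proj (algebraMap B X.E b) = _
      rw [AlgHom.commutes]
    let s : B →ₐ[A] Y.fiberProd B :=
      (AlgHom.prod f (AlgHom.id A B)).codRestrict (Y.fiberProd B) (fun b => by
        show Y.proj (f b) = algebraMap B C b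
        exact hf b)
    exact ⟨s, fun b => rfl⟩

end Groth.Agent.S5819
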