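import Groth.Statements.S5825
import Groth.Statements.S5825
import Mathlib

set_option autoImplicit false
universe u v w
open EGA41

namespace Groth.Agent.S5825

/-- Let A be a topological ring, M, N topological A-modules with the topologies deduced from that of A,
and u : M → N a continuous linear map with dense image (a formal epimorphism). Then u is a formal
bimorphism (dense image and inducing) if and only if, for every open ideal J of A, the induced map
M/JM → N/JN is bijective (injectivity and surjectivity are written out elementwise). -/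
theorem result {A : Type u} {M : Type v} {N : Type w} [CommRing A]
    [TopologicalSpace A] [AddCommGroup M] [Module A M] [TopologicalSpace M] [AddCommGroup N] [Module A N]
    [TopologicalSpace N] (hM : TopMod.IsDeduced A M) (hN : TopMod.IsDeduced A N) (u : M →L[A] N)
    (hu : DenseRange u) :
    IsDenseInducing u ↔
      ∀ J : Ideal A, IsOpen (J : Set A) →
        (∀ x : M, u x ∈ (J • ⊤ : Submodule A N) → x ∈ (J • ⊤ : Submodule A M)) ∧
          ∀ y : N, ∃ x : M, y - u x ∈ (J • ⊤ : Submodule A N) := by
  classical
  haveI : IsTopologicalAddGroup M := hM.1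
  haveI : IsTopologicalAddGroup N := hN.1
  -- u maps J M into J N
  have hfwd : ∀ (J : Ideal A) (x : M), x ∈ (J • ⊤ : Submodule A M) → u x ∈ (J • ⊤ : Submodule A N) := by
    intro J x hx
    refine Submodule.smul_induction_on hx ?_ ?_
    · intro j hj m _
      rw [map_smul]
      exact Submodule.smul_mem_smul hj Submodule.mem_top
    · intro a b ha hb
      rw [map_add]
      exact Submodule.add_mem _ ha hb
  -- density gives approximation modulo J N
  have happrox : ∀ (J : Ideal A), IsOpen (J : Set A) → ∀ y : N, ∃ x : M, y - u x ∈ (J • ⊤ : Submodule A N) := by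
    intro J hJ y
    have hmem : ((J • ⊤ : Submodule A N) : Set N) ∈ nhds (0 : N) := hN.2.mem_of_mem hJ
    have hcont : Filter.Tendsto (fun z : N => y - z) (nhds y) (nhds (0 : N)) := by
      have : Continuous (fun z : N => y - z) := continuous_const.sub continuous_id
      have h := this.tendsto y
      simpa using h
    have hnb : {z : N | y - z ∈ (J • ⊤ : Submodule A N)} ∈ nhds y := hcont hmem
    have hcl : y ∈ closure (Set.range u) := hu y
    obtain ⟨z, hz1, hz2⟩ := mem_closure_iff_nhds.mp hcl _ hnb
    obtain ⟨x, rfl⟩ := hz2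
    exact ⟨x, hz1⟩
  constructor
  · intro hdi J hJ
    refine ⟨?_, happrox J hJ⟩
    intro x hx
    -- J M is a nbhd of 0 in M
    have hmemM : ((J • ⊤ : Submodule A M) : Set M) ∈ nhds (0 : M) := hM.2.mem_of_mem hJ
    have hind := hdi.toIsInducing
    rw [IsTopologicalAddGroup.isInducing_iff_nhds_zero] at hind
    rw [hind, Filter.mem_comap] at hmemM
    obtain ⟨V, hV, hVsub⟩ := hmemM
    obtain ⟨J₁, hJ₁, hJ₁V⟩ := hN.2.mem_iff.mp hV
    -- approximate u x
    have key : ∀ y ∈ (J • ⊤ : Submodule A N), ∃ m ∈ (J • ⊤ : Submodule A M),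
        y - u m ∈ (J₁ • ⊤ : Submodule A N) := by
      intro y hy
      refine Submodule.smul_induction_on hy ?_ ?_
      · intro j hj n _
        obtain ⟨m₀, hm₀⟩ := happrox J₁ hJ₁ n
        refine ⟨j • m₀, Submodule.smul_mem_smul hj Submodule.mem_top, ?_⟩
        rw [map_smul, ← smul_sub]
        exact Submodule.smul_mem _ j hm₀
      · intro a b ⟨ma, hma, ha⟩ ⟨mb, hmb, hb⟩
        refine ⟨ma + mb, Submodule.add_mem _ hma hmb, ?_⟩
        have : a + b - u (ma + mb) = (a - u ma) + (b - u mb) := by rw [map_add]; abel
        rw [this]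
        exact Submodule.add_mem _ ha hb
    obtain ⟨m, hm, hxm⟩ := key (u x) hx
    have h1 : x - m ∈ (J • ⊤ : Submodule A M) := by
      apply hVsub
      show u (x - m) ∈ V
      rw [map_sub]
      exact hJ₁V hxm
    have : x = (x - m) + m := by abel
    rw [this]
    exact Submodule.add_mem _ h1 hm
  · intro h
    refine ⟨?_, hu⟩
    rw [IsTopologicalAddGroup.isInducing_iff_nhds_zero]
    have hb2 := hN.2.comap u
    refine hM.2.ext hb2 ?_ ?_
    · intro J hJ
      refine ⟨J, hJ, ?_⟩
      intro x hx
      exact (h J hJ).1 x hx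
    · intro J hJ
      refine ⟨J, hJ, ?_⟩
      intro x hx
      exact hfwd J x hx

end Groth.Agent.S5825
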