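import Groth.Statements.S5826
import Groth.Statements.S5826
import Mathlib

set_option autoImplicit false
universe u v w
open EGA41

namespace Groth.Agent.S5826

/-- Let A be a topological ring, M, N topological A-modules with the topologies deduced from that of A,
u : M → N a continuous linear map. Then u is formally left invertible if and only if, for every open
ideal J of A, the induced map M/JM → N/JN is left invertible, i.e. some linear map N → M/JM composes
with u to the projection M → M/JM. -/
theorem result {A : Type u} {M : Type v} {N : Type w}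
    [CommRing A] [TopologicalSpace A] [AddCommGroup M] [Module A M] [TopologicalSpace M] [AddCommGroup N]
    [Module A N] [TopologicalSpace N] (hM : TopMod.IsDeduced A M) (hN : TopMod.IsDeduced A N)
    (u : M →L[A] N) :
    TopMod.IsFormallyLeftInvertible u ↔
      ∀ J : Ideal A, IsOpen (J : Set A) →
        ∃ w : N →ₗ[A] M ⧸ (J • ⊤ : Submodule A M), ∀ x : M, w (u x) = Submodule.Quotient.mk x := by
  classical
  haveI : IsTopologicalAddGroup M := hM.1
  haveI : IsTopologicalAddGroup N := hN.1
  constructor
  · intro h J hJ
    letI : TopologicalSpace (M ⧸ (J • ⊤ : Submodule A M)) := ⊥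
    haveI : DiscreteTopology (M ⧸ (J • ⊤ : Submodule A M)) := ⟨rfl⟩
    have hcont : Continuous (J • ⊤ : Submodule A M).mkQ := by
      apply continuous_of_continuousAt_zero (J • ⊤ : Submodule A M).mkQ.toAddMonoidHom
      rw [ContinuousAt]
      simp only [LinearMap.toAddMonoidHom_coe, map_zero]
      rw [nhds_discrete (M ⧸ (J • ⊤ : Submodule A M)), Filter.tendsto_pure]
      have hmem : ((J • ⊤ : Submodule A M) : Set M) ∈ nhds (0 : M) := hM.2.mem_of_mem hJ
      filter_upwards [hmem] with x hx
      exact (Submodule.Quotient.mk_eq_zero _).mpr hx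
    obtain ⟨w, hw⟩ := h (M ⧸ (J • ⊤ : Submodule A M)) ⟨(J • ⊤ : Submodule A M).mkQ, hcont⟩
    exact ⟨w.toLinearMap, fun x => hw x⟩
  · intro h E _ _ _ _ v
    have hker : ((LinearMap.ker v.toLinearMap : Submodule A M) : Set M) ∈ nhds (0 : M) := by
      have : (v ⁻¹' {0} : Set M) ∈ nhds (0 : M) :=
        (isOpen_discrete ({0} : Set E)).preimage v.continuous |>.mem_nhds (by simp)
      exact this
    obtain ⟨J, hJ, hJle⟩ := hM.2.mem_iff.mp hker
    obtain ⟨w', hw'⟩ := h J hJ
    have hle : (J • ⊤ : Submodule A M) ≤ LinearMap.ker v.toLinearMap := hJle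
    let w : N →ₗ[A] E := ((J • ⊤ : Submodule A M).liftQ v.toLinearMap hle).comp w'
    have hwcont : Continuous w := by
      apply continuous_of_continuousAt_zero w.toAddMonoidHom
      rw [ContinuousAt]
      simp only [LinearMap.toAddMonoidHom_coe, map_zero]
      rw [nhds_discrete E, Filter.tendsto_pure]
      have hmem : ((J • ⊤ : Submodule A N) : Set N) ∈ nhds (0 : N) := hN.2.mem_of_mem hJ
      filter_upwards [hmem] with y hy
      have hy0 : w' y = 0 := by
        refine Submodule.smul_induction_on hy ?_ ?_
        · intro j hj n _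
          rw [map_smul]
          obtain ⟨m, hm⟩ := Submodule.Quotient.mk_surjective _ (w' n)
          rw [← hm, ← Submodule.Quotient.mk_smul, Submodule.Quotient.mk_eq_zero]
          exact Submodule.smul_mem_smul hj Submodule.mem_top
        · intro a b ha hb
          rw [map_add, ha, hb, add_zero]
      show ((J • ⊤ : Submodule A M).liftQ v.toLinearMap hle) (w' y) = 0
      rw [hy0, map_zero]
    refine ⟨⟨w, hwcont⟩, fun x => ?_⟩
    show ((J • ⊤ : Submodule A M).liftQ v.toLinearMap hle) (w' (u x)) = v x
    rw [hw' x]
    rfl

end Groth.Agent.S5826
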