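import Groth.Statements.S5828
import Mathlib

set_option autoImplicit false
universe u v
open EGA41

namespace Groth.Agent.S5828

/-- Commutative case. For an A-extension X of C by a C-module L, with middle ring E, projection p and
inclusion i, the A-derivations D : C → L and the self-equivalences of X correspond under D ↦ (x ↦ x
+ i (D (p x))): every derivation defines a self-equivalence with this formula, and every
self-equivalence is of this form for exactly one derivation. (Bijection of sets; the published
statement also records compatibility with the group laws.) -/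
theorem result {A : Type u} {C L : Type v} [CommRing A] [CommRing C] [Algebra A C]
    [AddCommGroup L] [Module C L] [Module A L] [IsScalarTower A C L] (X : Exal.Ext A C L) :
    (∀ D : Derivation A C L, ∃ e : X.Equiv X, ∀ x : X.E, e.toAlgEquiv x = x + X.incl (D (X.proj x))) ∧
      ∀ e : X.Equiv X, ∃! D : Derivation A C L, ∀ x : X.E, e.toAlgEquiv x = x + X.incl (D (X.proj x)) := by
  classical
  have hext := X.isExtension
  have hpi : ∀ z : L, X.proj (X.incl z) = 0 := fun z => (hext.exact _).mpr ⟨z, rfl⟩
  have hii : ∀ z z' : L, X.incl z * X.incl z' = 0 := by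
    intro z z'
    rw [hext.mul_incl, hpi, zero_smul, map_zero]
  have hsmul : ∀ (a : A) (z : L), a • X.incl z = X.incl (a • z) := by
    intro a z
    rw [Algebra.smul_def, hext.mul_incl, AlgHom.commutes, algebraMap_smul]
  have mk : ∀ D : Derivation A C L, ∃ φ : X.E →ₐ[A] X.E,
      ∀ x, φ x = x + X.incl (D (X.proj x)) := by
    intro D
    refine ⟨AlgHom.ofLinearMap
      { toFun := fun x => x + X.incl (D (X.proj x))
        map_add' := fun x y => by
          simp only [map_add]
          abel
        map_smul' := fun a x => by
          simp only [RingHom.id_apply, map_smul, Derivation.map_smul, smul_add, hsmul] } ?_ ?_, fun x => rfl⟩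
    · show (1 : X.E) + X.incl (D (X.proj 1)) = 1
      rw [map_one, Derivation.map_one_eq_zero, map_zero, add_zero]
    · intro x y
      show x * y + X.incl (D (X.proj (x * y))) =
        (x + X.incl (D (X.proj x))) * (y + X.incl (D (X.proj y)))
      rw [map_mul, Derivation.leibniz, map_add, add_mul, mul_add, mul_add, hii, add_zero,
        hext.mul_incl, mul_comm (X.incl _) y, hext.mul_incl]
      abel
  have pφ : ∀ (D : Derivation A C L) (x : X.E),
      X.proj (x + X.incl (D (X.proj x))) = X.proj x := by
    intro D x
    rw [map_add, hpi, add_zero]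
  constructor
  · intro D
    obtain ⟨φ, hφ⟩ := mk D
    obtain ⟨ψ, hψ⟩ := mk (-D)
    have h1 : φ.comp ψ = AlgHom.id A X.E := by
      ext x
      rw [AlgHom.comp_apply, hφ, hψ, pφ, AlgHom.id_apply, Derivation.neg_apply, map_neg]
      abel
    have h2 : ψ.comp φ = AlgHom.id A X.E := by
      ext x
      rw [AlgHom.comp_apply, hψ, hφ, pφ, AlgHom.id_apply, Derivation.neg_apply, map_neg]
      abel
    refine ⟨⟨AlgEquiv.ofAlgHom φ ψ h1 h2, ?_, ?_⟩, ?_⟩
    · intro x
      show X.proj (φ x) = X.proj x
      rw [hφ, pφ]
    · intro z
      show φ (X.incl z) = X.incl z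
      rw [hφ, hpi, map_zero, map_zero, add_zero]
    · intro x
      exact hφ x
  · intro e
    have hker : ∀ x : X.E, ∃ z : L, X.incl z = e.toAlgEquiv x - x := by
      intro x
      have : X.proj (e.toAlgEquiv x - x) = 0 := by rw [map_sub, e.proj_apply, sub_self]
      exact (hext.exact _).mp this
    choose δ hδ using hker
    have hsurj := hext.proj_surjective
    choose σ hσ using hsurj
    have hinj := hext.incl_injective
    have he : ∀ x, e.toAlgEquiv x = x + X.incl (δ x) := fun x => by rw [hδ]; abel
    have hδi : ∀ z : L, δ (X.incl z) = 0 := by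
      intro z
      apply hinj
      rw [hδ, e.apply_incl, sub_self, map_zero]
    have hδadd : ∀ x y, δ (x + y) = δ x + δ y := by
      intro x y
      apply hinj
      rw [map_add, hδ, hδ, hδ, map_add]
      abel
    have hδsmul : ∀ (a : A) x, δ (a • x) = a • δ x := by
      intro a x
      apply hinj
      rw [hδ, ← hsmul, hδ, map_smul, smul_sub]
    have hδmul : ∀ x y, δ (x * y) = X.proj x • δ y + X.proj y • δ x := by
      intro x y
      apply hinj
      rw [hδ (x * y), map_mul, he x, he y, map_add, ← hext.mul_incl, ← hext.mul_incl]
      have hab := hii (δ x) (δ y)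
      linear_combination hab
    have hδp : ∀ x y, X.proj x = X.proj y → δ x = δ y := by
      intro x y hxy
      have h0 : X.proj (x - y) = 0 := by rw [map_sub, hxy, sub_self]
      obtain ⟨w, hw⟩ := (hext.exact _).mp h0
      have hx : x = y + X.incl w := by rw [hw]; abel
      rw [hx, hδadd, hδi, add_zero]
    have hkey : ∀ x, X.incl (δ (σ (X.proj x))) = e.toAlgEquiv x - x := by
      intro x
      rw [hδp (σ (X.proj x)) x (hσ _), hδ]
    let Dl : C →ₗ[A] L :=
      { toFun := fun c => δ (σ c)
        map_add' := fun c c' => by
          rw [← hδadd]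
          exact hδp _ _ (by rw [hσ, map_add, hσ, hσ])
        map_smul' := fun a c => by
          simp only [RingHom.id_apply]
          rw [← hδsmul]
          exact hδp _ _ (by rw [hσ, map_smul, hσ]) }
    let D : Derivation A C L :=
      { toLinearMap := Dl
        map_one_eq_zero' := by
          show δ (σ 1) = 0
          rw [hδp (σ 1) 1 (by rw [hσ, map_one])]
          apply hinj
          rw [hδ, map_one, sub_self, map_zero]
        leibniz' := fun c c' => by
          show δ (σ (c * c')) = c • δ (σ c') + c' • δ (σ c)
          rw [hδp (σ (c * c')) (σ c * σ c') (by rw [hσ, map_mul, hσ, hσ]), hδmul, hσ, hσ] }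
    refine ⟨D, fun x => ?_, fun D' hD' => ?_⟩
    · show e.toAlgEquiv x = x + X.incl (δ (σ (X.proj x)))
      rw [hkey]
      abel
    · ext c
      apply hinj
      show X.incl (D' c) = X.incl (δ (σ c))
      have h1 := hD' (σ c)
      rw [hσ] at h1
      rw [hδ, h1]
      abel

end Groth.Agent.S5828
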