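import Groth.Statements.S5830
import Groth.Statements.S5830
import Groth.Agent.Lib.helper9.H9_TwistExt

set_option autoImplicit false
universe u v
open EGA41

namespace Groth.Agent.S5830

/-- Discrete case. If B is a formally smooth A-algebra then, for every B-module L, every A-bilinear
symmetric Hochschild 2-cocycle f : B × B → L (f(xy, z) + z f(x, y) = x f(y, z) + f(x, yz)) is a
Hochschild 2-coboundary: f(x, y) = x g(y) − g(xy) + y g(x) for some A-linear g : B → L. (The
published statement is for topological algebras and open ideals; this row is its discrete case.) -/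
theorem result {A : Type u} {B : Type v} [CommRing A] [CommRing B]
    [Algebra A B] [Algebra.FormallySmooth A B] {L : Type v} [AddCommGroup L] [Module B L] [Module A L]
    [IsScalarTower A B L] (f : B →ₗ[A] B →ₗ[A] L) (hsymm : ∀ x y : B, f x y = f y x)
    (hcoc : ∀ x y z : B, f (x * y) z + z • f x y = x • f y z + f x (y * z)) :
    ∃ g : B →ₗ[A] L, ∀ x y : B, f x y = x • g y - g (x * y) + y • g x := by
  classical
  let c : Groth.Agent.H9_TwistExt.Coc A B L := ⟨f, hsymm, hcoc⟩
  let X : Exal.Ext A B L := Groth.Agent.H9_TwistExt.ext c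
  -- X is trivial, by formal smoothness
  have hsurj := X.isExtension.proj_surjective
  have hnil : IsNilpotent (RingHom.ker (X.proj : X.E →+* B)) := by
    refine ⟨2, ?_⟩
    rw [Ideal.zero_eq_bot, eq_bot_iff, pow_two, Ideal.mul_le]
    intro x hx y hy
    obtain ⟨z, rfl⟩ := (X.isExtension.exact y).mp hy
    rw [X.isExtension.mul_incl]
    have hx0 : X.proj x = 0 := hx
    rw [hx0, zero_smul, map_zero]
    exact Ideal.zero_mem _
  let s : B →ₐ[A] Groth.Agent.H9_TwistExt.Tw c :=
    Algebra.FormallySmooth.liftOfSurjective (AlgHom.id A B) X.proj hsurj hnil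
  have hs : ∀ b, (s b).1 = b := fun b =>
    Algebra.FormallySmooth.liftOfSurjective_apply (AlgHom.id A B) X.proj hsurj hnil b
  let sndₗ : Groth.Agent.H9_TwistExt.Tw c →ₗ[A] L := LinearMap.snd A B L
  let g : B →ₗ[A] L := - (sndₗ.comp s.toLinearMap)
  have hgapp : ∀ b, g b = - (s b).2 := fun b => rfl
  refine ⟨g, fun x y => ?_⟩
  have h1 : (s (x * y)).2 = (s x * s y).2 := by rw [map_mul]
  rw [Groth.Agent.H9_TwistExt.snd_mul, hs, hs] at h1
  rw [hgapp, hgapp, hgapp, smul_neg, smul_neg, h1]
  show f x y = _
  have : c.f x y = f x y := rfl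
  rw [this]
  abel

end Groth.Agent.S5830
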