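import Groth.Statements.S5831
import Groth.Statements.S5831
import Groth.Agent.S5815

set_option autoImplicit false
universe u
open EGA41

namespace Groth.Agent.S5831

/-- Discrete case. Let B be an A-algebra which is a projective A-module (A and B in one universe). If
for every B-module L in that universe every A-bilinear symmetric Hochschild 2-cocycle B × B → L is a
coboundary, then B is formally smooth over A. (The published statement assumes B formally projective
as a topological A-module; for discrete rings this is projectivity.) -/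
theorem result {A B : Type u} [CommRing A]
    [CommRing B] [Algebra A B] [Module.Projective A B]
    (h : ∀ (L : Type u) [AddCommGroup L] [Module B L] [Module A L] [IsScalarTower A B L]
      (f : B →ₗ[A] B →ₗ[A] L), (∀ x y : B, f x y = f y x) →
        (∀ x y z : B, f (x * y) z + z • f x y = x • f y z + f x (y * z)) →
          ∃ g : B →ₗ[A] L, ∀ x y : B, f x y = x • g y - g (x * y) + y • g x) :
    Algebra.FormallySmooth A B := by
  classical
  rw [Groth.Agent.S5815.result A B]
  intro L _ _ X
  -- A-module structure on L through B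
  letI : Module A L := Module.compHom L (algebraMap A B)
  haveI : IsScalarTower A B L := ⟨fun a b z => by
    show (a • b) • z = (algebraMap A B a) • (b • z)
    rw [Algebra.smul_def, mul_smul]⟩
  -- an A-linear section of the projection
  obtain ⟨σ, hσ⟩ := Module.projective_lifting_property X.proj.toLinearMap LinearMap.id
    X.isExtension.proj_surjective
  have hpσ : ∀ b, X.proj (σ b) = b := fun b => LinearMap.congr_fun hσ b
  have hdef : ∀ x y : B, X.proj (σ x * σ y - σ (x * y)) = 0 := by
    intro x y; rw [map_sub, map_mul, hpσ, hpσ, hpσ, sub_self]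
  let f0 : B → B → L := fun x y => X.kerLift _ (hdef x y)
  have hf0 : ∀ x y, X.incl (f0 x y) = σ x * σ y - σ (x * y) := fun x y => X.incl_kerLift _ _
  have hincl_smul : ∀ (b : B) (z : L) (e : X.E), X.proj e = b → X.incl (b • z) = e * X.incl z := by
    intro b z e he; rw [X.isExtension.mul_incl, he]
  have hincl_asmul : ∀ (a : A) (z : L), X.incl (a • z) = a • X.incl z := by
    intro a z
    show X.incl ((algebraMap A B a) • z) = _
    rw [hincl_smul _ z (algebraMap A X.E a) (X.proj.commutes a), Algebra.smul_def]
  have hii : ∀ z z' : L, X.incl z * X.incl z' = 0 := by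
    intro z z'
    rw [X.isExtension.mul_incl, (X.isExtension.exact _).mpr ⟨z, rfl⟩, zero_smul, map_zero]
  let f : B →ₗ[A] B →ₗ[A] L := LinearMap.mk₂ A f0
    (fun x x' y => by
      apply X.isExtension.incl_injective
      rw [map_add, hf0, hf0, hf0, map_add, add_mul, add_mul, map_add]
      ring)
    (fun a x y => by
      apply X.isExtension.incl_injective
      rw [hincl_asmul, hf0, hf0, map_smul, smul_mul_assoc, smul_mul_assoc, map_smul, smul_sub])
    (fun x y y' => by
      apply X.isExtension.incl_injective
      rw [map_add, hf0, hf0, hf0, map_add, mul_add, mul_add, map_add]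
      ring)
    (fun a x y => by
      apply X.isExtension.incl_injective
      rw [hincl_asmul, hf0, hf0, map_smul, mul_smul_comm, mul_smul_comm, map_smul, smul_sub])
  have hfapp : ∀ x y, f x y = f0 x y := fun x y => rfl
  have hsymm : ∀ x y : B, f x y = f y x := by
    intro x y
    apply X.isExtension.incl_injective
    rw [hfapp, hfapp, hf0, hf0, mul_comm (σ x), mul_comm x]
  have hcoc : ∀ x y z : B, f (x * y) z + z • f x y = x • f y z + f x (y * z) := by
    intro x y z
    apply X.isExtension.incl_injective
    rw [map_add, map_add, hfapp, hfapp, hfapp, hfapp, hincl_smul z _ (σ z) (hpσ z),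
      hincl_smul x _ (σ x) (hpσ x), hf0, hf0, hf0, hf0, mul_assoc x y z]
    ring
  obtain ⟨g, hg⟩ := h L f hsymm hcoc
  -- the multiplicative section
  let inclₗ : L →ₗ[A] X.E :=
    { toFun := X.incl
      map_add' := map_add _
      map_smul' := hincl_asmul }
  let sl : B →ₗ[A] X.E := σ - inclₗ.comp g
  have hsl : ∀ b, sl b = σ b - X.incl (g b) := fun b => rfl
  have hmul : ∀ x y, sl (x * y) = sl x * sl y := by
    intro x y
    have h1 : σ x * σ y = σ (x * y) + X.incl (f x y) := by
      rw [hfapp, hf0]; ring
    have h2 : X.incl (f x y) = σ x * X.incl (g y) - X.incl (g (x * y)) + σ y * X.incl (g x) := by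
      rw [hg x y, map_add, map_sub, hincl_smul x _ (σ x) (hpσ x), hincl_smul y _ (σ y) (hpσ y)]
    rw [hsl, hsl, hsl]
    have h3 := hii (g x) (g y)
    calc σ (x * y) - X.incl (g (x * y))
        = (σ (x * y) + X.incl (f x y)) - σ x * X.incl (g y) - σ y * X.incl (g x) := by
          rw [h2]; ring
      _ = σ x * σ y - σ x * X.incl (g y) - σ y * X.incl (g x) + X.incl (g x) * X.incl (g y) := by
          rw [← h1, h3, add_zero]
      _ = (σ x - X.incl (g x)) * (σ y - X.incl (g y)) := by ring
  have hproj : ∀ b, X.proj (sl b) = b := by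
    intro b
    rw [hsl, map_sub, hpσ, (X.isExtension.exact _).mpr ⟨g b, rfl⟩, sub_zero]
  have hone : sl 1 = 1 := by
    have he : sl 1 * sl 1 = sl 1 := by rw [← hmul, mul_one]
    have hp : X.proj (sl 1 - 1) = 0 := by rw [map_sub, hproj, map_one, sub_self]
    obtain ⟨z, hz⟩ := (X.isExtension.exact _).mp hp
    have hsq : (sl 1 - 1) * (sl 1 - 1) = 0 := by rw [← hz]; exact hii z z
    have : (sl 1 - 1) * (sl 1 - 1) = 1 - sl 1 := by
      calc (sl 1 - 1) * (sl 1 - 1) = sl 1 * sl 1 - sl 1 - sl 1 + 1 := by ring
        _ = 1 - sl 1 := by rw [he]; ring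
    rw [this] at hsq
    exact (sub_eq_zero.mp hsq).symm
  exact ⟨AlgHom.ofLinearMap sl hone hmul, hproj⟩

end Groth.Agent.S5831
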