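import Groth.Statements.S5832
import Groth.Statements.S5832
import Groth.Agent.Lib.helper9.H9_ExalSplit
attribute [local instance] Exal.opModule Exal.isCentralScalar_opModule

set_option autoImplicit false
universe u u' v
open EGA41

namespace Groth.Agent.S5832

/-- Surjectivity at the end of the sequence. For ring maps Λ → A → B → C and a C-module L, every
Λ-trivial A-extension of B by L is equivalent to the inverse image along B → C of a Λ-trivial
A-extension of C by L. (Exactness at the other places is that of the six-term derivation-extension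
sequence restricted to Λ-trivial classes.) -/
theorem result {Λ : Type u} {A : Type u'} {B C L : Type v}
    [CommRing Λ] [CommRing A] [CommRing B] [CommRing C] [Algebra Λ A] [Algebra Λ B] [Algebra Λ C]
    [Algebra A B] [Algebra B C] [Algebra A C] [IsScalarTower Λ A B] [IsScalarTower Λ A C] [IsScalarTower A B C]
    [AddCommGroup L] [Module C L] [Module B L] [IsScalarTower B C L]
    (Y : Exal.Ext A B L) (hY : Y.IsTrivialOver Λ) :
    ∃ X : Exal.Ext A C L, X.IsTrivialOver Λ ∧ Nonempty ((X.pullback B).Equiv Y) := by
  classical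
  obtain ⟨sΛ, hsΛ⟩ := hY
  let s : B →+* Y.E :=
    { toFun := fun b => sΛ b
      map_one' := map_one sΛ
      map_mul' := map_mul sΛ
      map_zero' := map_zero sΛ
      map_add' := map_add sΛ }
  have hs : ∀ b, Y.proj (s b) = b := fun b => hsΛ b
  have hscomm : ∀ l : Λ, s (algebraMap Λ B l) = algebraMap A Y.E (algebraMap Λ A l) :=
    fun l => sΛ.commutes l
  let e : TrivSqZeroExt B L ≃+* Y.E := Groth.Agent.H9_ExalSplit.equiv Y s hs
  let ρ : Y.E →+* TrivSqZeroExt C L :=
    (Groth.Agent.H9_ExalSplit.mu : TrivSqZeroExt B L →+* TrivSqZeroExt C L).comp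
      (e.symm : Y.E →+* TrivSqZeroExt B L)
  have hρ : ∀ y, ρ y = Groth.Agent.H9_ExalSplit.mu (e.symm y) := fun y => rfl
  have hρfst : ∀ y, (ρ y).fst = algebraMap B C (Y.proj y) := by
    intro y
    rw [hρ, Groth.Agent.H9_ExalSplit.fst_mu, Groth.Agent.H9_ExalSplit.fst_equiv_symm]
  have hρincl : ∀ z, ρ (Y.incl z) = TrivSqZeroExt.inr z := by
    intro z
    rw [hρ, Groth.Agent.H9_ExalSplit.equiv_symm_incl, Groth.Agent.H9_ExalSplit.mu_apply,
      TrivSqZeroExt.fst_inr, TrivSqZeroExt.snd_inr, map_zero, TrivSqZeroExt.inl_zero, zero_add]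
  have hρs : ∀ b, ρ (s b) = TrivSqZeroExt.inl (algebraMap B C b) := by
    intro b
    rw [hρ, Groth.Agent.H9_ExalSplit.equiv_symm_s, Groth.Agent.H9_ExalSplit.mu_apply,
      TrivSqZeroExt.fst_inl, TrivSqZeroExt.snd_inl, TrivSqZeroExt.inr_zero, add_zero]
  letI algX : Algebra A (TrivSqZeroExt C L) := (ρ.comp (algebraMap A Y.E)).toAlgebra
  have halgX : ∀ a : A, algebraMap A (TrivSqZeroExt C L) a = ρ (algebraMap A Y.E a) := fun a => rfl
  let X : Exal.Ext A C L :=
    { E := TrivSqZeroExt C L
      proj :=
        { toFun := fun x => TrivSqZeroExt.fst x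
          map_one' := TrivSqZeroExt.fst_one
          map_mul' := TrivSqZeroExt.fst_mul
          map_zero' := TrivSqZeroExt.fst_zero
          map_add' := TrivSqZeroExt.fst_add
          commutes' := fun a => by
            show (algebraMap A (TrivSqZeroExt C L) a).fst = algebraMap A C a
            rw [halgX, hρfst, AlgHom.commutes, ← IsScalarTower.algebraMap_apply] }
      incl := (TrivSqZeroExt.inrHom C L).toAddMonoidHom
      isExtension :=
        { proj_surjective := fun c => ⟨TrivSqZeroExt.inl c, rfl⟩
          incl_injective := TrivSqZeroExt.inr_injective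
          exact := fun x => by
            constructor
            · intro hx
              exact ⟨TrivSqZeroExt.snd x, TrivSqZeroExt.ext hx.symm rfl⟩
            · rintro ⟨z, rfl⟩
              rfl
          mul_incl := fun x z => by
            refine TrivSqZeroExt.ext ?_ ?_
            · change TrivSqZeroExt.fst x * 0 = 0
              exact mul_zero _
            · change TrivSqZeroExt.fst x • z + MulOpposite.op (0 : C) • TrivSqZeroExt.snd x =
                TrivSqZeroExt.fst x • z
              rw [MulOpposite.op_zero, zero_smul, add_zero] } }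
  have hXproj : ∀ t : TrivSqZeroExt C L, X.proj t = t.fst := fun t => rfl
  have hXincl : ∀ z : L, X.incl z = (TrivSqZeroExt.inr z : TrivSqZeroExt C L) := fun z => rfl
  refine ⟨X, ?_, ⟨?_⟩⟩
  · -- Λ-trivial
    refine ⟨{ toRingHom := (TrivSqZeroExt.inlHom C L : C →+* X.RestrictCarrier Λ),
              commutes' := ?_ }, fun c => rfl⟩
    intro l
    show (TrivSqZeroExt.inl (algebraMap Λ C l) : TrivSqZeroExt C L) =
      algebraMap A (TrivSqZeroExt C L) (algebraMap Λ A l)
    rw [halgX, ← hscomm, hρs, IsScalarTower.algebraMap_apply Λ A C,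
      IsScalarTower.algebraMap_apply A B C, ← IsScalarTower.algebraMap_apply Λ A B]
  · -- the equivalence
    let ρₐ : Y.E →ₐ[A] X.E := { toRingHom := ρ, commutes' := fun a => rfl }
    let φ : Y.E →ₐ[A] (X.pullback B).E :=
      (AlgHom.prod ρₐ Y.proj).codRestrict (X.fiberProd B) (fun y => by
        show X.proj (ρ y) = algebraMap B C (Y.proj y)
        rw [hXproj, hρfst])
    have hφ1 : ∀ y, ((show X.fiberProd B from φ y) : X.E × B).1 = ρ y := fun y => rfl
    have hφ2 : ∀ y, ((show X.fiberProd B from φ y) : X.E × B).2 = Y.proj y := fun y => rfl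
    have hinj : Function.Injective φ := by
      rw [injective_iff_map_eq_zero]
      intro y hy
      have h1 : ρ y = 0 := by rw [← hφ1, hy]; rfl
      have h2 : Y.proj y = 0 := by rw [← hφ2, hy]; rfl
      obtain ⟨z, rfl⟩ := (Y.isExtension.exact y).mp h2
      rw [hρincl] at h1
      have hz : z = 0 := by
        apply TrivSqZeroExt.inr_injective (R := C)
        rw [h1, TrivSqZeroExt.inr_zero]
      rw [hz, map_zero]
    have hsurj : Function.Surjective φ := by
      rintro ⟨⟨t, b⟩, hx⟩
      have hx' : t.fst = algebraMap B C b := hx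
      refine ⟨s b + Y.incl t.snd, ?_⟩
      apply Subtype.ext
      apply Prod.ext
      · show ρ (s b + Y.incl t.snd) = t
        rw [map_add, hρs, hρincl, ← hx', TrivSqZeroExt.inl_fst_add_inr_snd_eq]
      · show Y.proj (s b + Y.incl t.snd) = b
        rw [map_add, hs, (Y.isExtension.exact _).mpr ⟨t.snd, rfl⟩, add_zero]
    let ε : Y.E ≃ₐ[A] (X.pullback B).E := AlgEquiv.ofBijective φ ⟨hinj, hsurj⟩
    have hε : ∀ y, ε y = φ y := fun y => rfl
    exact
      { toAlgEquiv := ε.symm
        proj_apply := by
          intro x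
          obtain ⟨y, rfl⟩ := hsurj x
          rw [← hε, AlgEquiv.symm_apply_apply]
          rfl
        apply_incl := by
          intro z
          have h1 : (X.pullback B).incl z = ε (Y.incl z) := by
            apply Subtype.ext
            apply Prod.ext
            · show X.incl z = ρ (Y.incl z)
              rw [hρincl, hXincl]
            · show (0 : B) = Y.proj (Y.incl z)
              rw [(Y.isExtension.exact _).mpr ⟨z, rfl⟩]
          rw [h1, AlgEquiv.symm_apply_apply] }

end Groth.Agent.S5832
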