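import Groth.Statements.S6019
import Mathlib

set_option autoImplicit false
open CategoryTheory
universe v₁ v₂ u₁ u₂
open FibCat FibCat.Cleavage

namespace Groth.Agent.S6019

/-- A pre-fibred category admits a normalised cleavage: if every base morphism `R ⟶ p(a)` has a
cartesian morphism over it with target `a`, then one cartesian lift can be chosen for every base
morphism at every object over its target in such a way that the chosen lift of each identity `𝟙 S`
at each object `a` over `S` is the identity of `a` (identities are transport morphisms). -/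
theorem result (𝒮 : Type u₁) (𝒳 : Type u₂) [Category.{v₁} 𝒮] [Category.{v₂} 𝒳]
    (p : 𝒳 ⥤ 𝒮) [p.IsPreFibered] : ∃ K : FibCat.Cleavage p, K.IsNormalised := by
  classical
  have key : ∀ {R S : 𝒮} {a : 𝒳} (ha : p.obj a = S) (f : R ⟶ S),
      ∃ (bφ : Σ b : 𝒳, (b ⟶ a)), p.IsCartesian f bφ.2 ∧
        (∀ (e : R = S), f = eqToHom e → ∃ h : bφ.1 = a, bφ.2 = eqToHom h) := by
    intro R S a ha f
    by_cases hf : ∃ e : R = S, f = eqToHom e
    · obtain ⟨e, rfl⟩ := hf
      subst e
      refine ⟨⟨a, 𝟙 a⟩, ?_, ?_⟩
      · have : p.IsHomLift (eqToHom (rfl : R = R)) (𝟙 a) := by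
          rw [eqToHom_refl]; exact IsHomLift.id ha
        have : p.IsStronglyCartesian (eqToHom (rfl : R = R)) (𝟙 a) := inferInstance
        infer_instance
      · intro e _
        exact ⟨rfl, rfl⟩
    · refine ⟨⟨CategoryTheory.Functor.IsPreFibered.pullbackObj ha f, CategoryTheory.Functor.IsPreFibered.pullbackMap ha f⟩, inferInstance, ?_⟩
      intro e he
      exact absurd ⟨e, he⟩ hf
  choose bφ h1 h2 using @key
  let K : FibCat.Cleavage p :=
    { obj := fun {R S a} ha f => (bφ ha f).1
      lift := fun {R S a} ha f => (bφ ha f).2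
      isCartesian := fun {R S a} ha f => h1 ha f }
  refine ⟨K, ?_⟩
  intro S a ha
  exact h2 ha (𝟙 S) rfl rfl

end Groth.Agent.S6019
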