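import Groth.Statements.S6023
import Groth.Agent.Lib.GSS.FlasqueHZ

set_option autoImplicit false
universe u
open CategoryTheory CategoryTheory.Limits TopologicalSpace
open LocCohZ

namespace Groth.Agent.S6023

/-- Let F be a flasque abelian sheaf on a topological space X. Then H^i_Z(V, F) = 0 for every locally
closed subset Z = V − W (W ⊆ V opens of X) and every i > 0, and ℋ^i_Z(F) = 0 for every closed subset
Z = X − U and every i > 0. (The sheaf assertion is stated for closed Z only.) -/
theorem result {X : TopCat.{u}} (F : CohTop.Ab X) [TopCat.Sheaf.IsFlasque F] :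
    (∀ (W V : Opens X) (h : W ≤ V) (i : ℕ), 0 < i → Subsingleton (LocCohZ.HZ F i h)) ∧
      ∀ (U : Opens X) (i : ℕ), 0 < i → IsZero ((LocCohZ.HZsh U i).obj F) := by
  constructor
  · intro W V h i hi
    obtain ⟨j, rfl⟩ := Nat.exists_eq_succ_of_ne_zero (Nat.pos_iff_ne_zero.1 hi)
    have key : ∀ x : LocCohZ.HZ F (j + 1) h, x = 0 := fun x =>
      Groth.Agent.GSS.ext_cokernel_freeMap_eq_zero F h (LocCohZ.zqSeq_shortExact h) j x
    exact ⟨fun x y => (key x).trans (key y).symm⟩
  · intro U i hi
    obtain ⟨j, rfl⟩ := Nat.exists_eq_succ_of_ne_zero (Nat.pos_iff_ne_zero.1 hi)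
    cases j with
    | zero =>
      have e1 := (Groth.Agent.GSS.HZshOneIso U).app F
      have hepi := Groth.Agent.GSS.unit_epi_of_isFlasque U F
      have e2 := asIso (cokernelComparison (Groth.Agent.GSS.adjU U).unit
        ((evaluation (CohTop.Ab X) (CohTop.Ab X)).obj F))
      have hz : IsZero (cokernel ((Groth.Agent.GSS.adjU U).unit.app F)) := isZero_cokernel_of_epi _
      exact IsZero.of_iso hz (e1 ≪≫ e2.symm)
    | succ n =>
      have e1 := (Groth.Agent.GSS.HZshSuccIso U n).app F
      have e2 := (CohTop.Rpush (CohCx.incl U) (n + 1)).mapIso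
        ((Groth.Agent.CohTopBasics.pullIsoRestr U).app F)
      have hz := Groth.Agent.CohTopBasics.Rpush_isZero_of_isFlasque (CohCx.incl U)
        ((CohTop.restrFunctor U).obj F) n
      exact IsZero.of_iso hz (e1 ≪≫ e2)

end Groth.Agent.S6023
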