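import Groth.Statements.S6024
import Groth.Agent.Lib.GSS.FlasqueHZ

set_option autoImplicit false
universe u
open CategoryTheory CategoryTheory.Limits TopologicalSpace
open LocCohZ

namespace Groth.Agent.S6024

/-- Consider a topological space X carrying a sheaf of abelian groups F, and assume that H^1_Z(X, F)
vanishes for each closed subset Z of X (writing Z = X − U with U open). Under this assumption, F is
flasque. -/
theorem result {X : TopCat.{u}} (F : CohTop.Ab X)
    (h : ∀ U : Opens X, Subsingleton (LocCohZ.HZc F 1 U)) : TopCat.Sheaf.IsFlasque F := by
  exact Groth.Agent.GSS.isFlasque_of_ext_one_subsingleton F h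
    (fun U => LocCohZ.zqSeq_shortExact (le_top : U ≤ ⊤))

end Groth.Agent.S6024
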