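import Groth.Statements.S6026
import Groth.Agent.Lib.ExtNatAdj
import Groth.Agent.Lib.CohTopRestr
import Groth.Agent.Lib.CohTopRestrInj
import Groth.Agent.Lib.GSS.DerComp

set_option autoImplicit false
universe u
open CategoryTheory CategoryTheory.Limits TopologicalSpace Opposite
open LocCohZ

namespace Groth.Agent.S6026

variable {X : TopCat.{u}} {W V : Opens X} (h : W ≤ V)

/-- maps out of `ℤ_V/ℤ_W` are the sections over `V` vanishing on `W`. -/
noncomputable def zqHomEquiv (G : CohTop.Ab X) : (LocCohZ.zq h ⟶ G) ≃+ LocCohZ.sectZ G h :=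
  Abelian.Ext.addEquiv₀.symm.trans (LocCohZ.sect0Equiv G h)

lemma zqHomEquiv_val (G : CohTop.Ab X) (b : LocCohZ.zq h ⟶ G) :
    (zqHomEquiv h G b).1 = CohFree.evalGen (Opens.grothendieckTopology X) V G
      (cokernel.π (CohCx.freeSheafMap (Opens.grothendieckTopology X) (homOfLE h)) ≫ b) := by
  show CohFree.evalGen (Opens.grothendieckTopology X) V G
      (cokernel.π _ ≫ Abelian.Ext.addEquiv₀ (Abelian.Ext.addEquiv₀.symm b)) = _
  rw [AddEquiv.apply_symm_apply]

lemma zqHomEquiv_comp {G G' : CohTop.Ab X} (b : LocCohZ.zq h ⟶ G) (φ : G ⟶ G') :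
    (zqHomEquiv h G' (b ≫ φ)).1 = (φ.hom.app (op V)).hom (zqHomEquiv h G b).1 := by
  rw [zqHomEquiv_val, zqHomEquiv_val, ← Category.assoc]
  rfl

/-- the open `W` seen in the subspace `V`. -/
abbrev W' : Opens (TopCat.of V) := (Opens.map (CohCx.incl V)).obj W

omit h in
lemma iTop : V.isOpenEmbedding.isOpenMap.functor.obj ⊤ = V := V.isOpenEmbedding_obj_top

include h in
lemma iW : V.isOpenEmbedding.isOpenMap.functor.obj (W' (W := W) (V := V)) = W := by
  ext x
  constructor
  · rintro ⟨y, hy, rfl⟩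
    exact hy
  · intro hx
    exact ⟨⟨x, h hx⟩, hx, rfl⟩

lemma restr_res_eq (G : CohTop.Ab X) (s : G.obj.obj (op V)) :
    ((CohTop.restr G V).obj.map (homOfLE (le_top : W' (W := W) (V := V) ≤ ⊤)).op).hom
        ((Groth.Agent.CohTopBasics.secRestrIso V G).hom s) =
      (G.obj.map (eqToHom (iW h)).op).hom ((G.obj.map (homOfLE h).op).hom s) := by
  have : G.obj.map (eqToHom (iTop (V := V))).op ≫
      G.obj.map (V.isOpenEmbedding.isOpenMap.functor.map
        (homOfLE (le_top : W' (W := W) (V := V) ≤ ⊤))).op =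
      G.obj.map (homOfLE h).op ≫ G.obj.map (eqToHom (iW h)).op := by
    rw [← G.obj.map_comp, ← G.obj.map_comp]
    rfl
  exact ConcreteCategory.congr_hom this s


open Groth.Agent.CohTopBasics in
/-- sections over `V` vanishing on `W` are the global sections of the restriction vanishing on `W'`. -/
noncomputable def sectZRestrEquiv (G : CohTop.Ab X) :
    LocCohZ.sectZ G h ≃+
      LocCohZ.sectZ (CohTop.restr G V) (le_top : W' (W := W) (V := V) ≤ ⊤) where
  toFun s := ⟨(secRestrIso V G).hom s.1, by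
    rw [AddMonoidHom.mem_ker, restr_res_eq h, AddMonoidHom.mem_ker.1 s.2, map_zero]
    rfl⟩
  invFun t := ⟨(secRestrIso V G).inv t.1, by
    rw [AddMonoidHom.mem_ker]
    have h1 := restr_res_eq h G ((secRestrIso V G).inv t.1)
    rw [Iso.inv_hom_id_apply, AddMonoidHom.mem_ker.1 t.2] at h1
    have hinj : Function.Injective (G.obj.map (eqToHom (iW h)).op).hom :=
      (ConcreteCategory.bijective_of_isIso (G.obj.map (eqToHom (iW h)).op)).1
    exact hinj (by rw [← h1, map_zero]; rfl)⟩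
  left_inv s := Subtype.ext (Iso.hom_inv_id_apply _ _)
  right_inv t := Subtype.ext (Iso.inv_hom_id_apply _ _)
  map_add' s t := Subtype.ext (map_add _ _ _)

/-- `Hom(ℤ_V/ℤ_W, G) ≃ Hom(ℤ_V/ℤ_{W'}, G|_V)`. -/
noncomputable def eG (G : CohTop.Ab X) :
    (LocCohZ.zq h ⟶ G) ≃+
      (LocCohZ.zq (le_top : W' (W := W) (V := V) ≤ ⊤) ⟶ CohTop.restr G V) :=
  (zqHomEquiv h G).trans ((sectZRestrEquiv h G).trans
    (zqHomEquiv (le_top : W' (W := W) (V := V) ≤ ⊤) (CohTop.restr G V)).symm)

lemma eG_comp {G G' : CohTop.Ab X} (b : LocCohZ.zq h ⟶ G) (φ : G ⟶ G') :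
    eG h G' (b ≫ φ) = eG h G b ≫ (CohTop.restrFunctor V).map φ := by
  apply (zqHomEquiv (le_top : W' (W := W) (V := V) ≤ ⊤) (CohTop.restr G' V)).injective
  apply Subtype.ext
  rw [zqHomEquiv_comp]
  simp only [eG, AddEquiv.trans_apply, AddEquiv.apply_symm_apply]
  show (Groth.Agent.CohTopBasics.secRestrIso V G').hom (zqHomEquiv h G' (b ≫ φ)).1 =
    (((CohTop.restrFunctor V).map φ).hom.app (op ⊤)).hom
      ((Groth.Agent.CohTopBasics.secRestrIso V G).hom (zqHomEquiv h G b).1)
  rw [zqHomEquiv_comp]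
  have hn := φ.hom.naturality (eqToIso V.isOpenEmbedding_obj_top).op.hom
  exact (ConcreteCategory.congr_hom hn _).symm


/-- Let X be a topological space, W ⊆ V opens of X and Z = V − W. For every i there is an isomorphism
H^i_Z(X, F) ≅ H^i_Z(V, F|_V), natural in the abelian sheaf F on X, between cohomology with supports
in Z computed on X and computed on the open subspace V. (Existence of a natural family of
isomorphisms; the published statement has the canonical maps of cohomological functors.) -/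
theorem result {X : TopCat.{u}} {W V : Opens X} (h : W ≤ V) (i : ℕ) :
    ∃ e : ∀ F : CohTop.Ab X,
        LocCohZ.HZ F i h ≃+ LocCohZ.HZc (CohTop.restr F V) i ((Opens.map (CohCx.incl V)).obj W),
      ∀ (F G : CohTop.Ab X) (φ : F ⟶ G) (x : LocCohZ.HZ F i h),
        e G (LocCohZ.map φ i h x) =
          LocCohZ.map ((CohTop.restrFunctor V).map φ) i
            (le_top : (Opens.map (CohCx.incl V)).obj W ≤ ⊤) (e F x) := by
  let E := CohTop.restrFunctor V
  have hinj : ∀ I : CohTop.Ab X, Injective I → Injective (E.obj I) :=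
    fun I hI => Groth.Agent.CohTopBasics.restr_injective V I
  let Rs : ∀ F : CohTop.Ab X, InjectiveResolution F := fun F => InjectiveResolution.of F
  let Rs' : ∀ F : CohTop.Ab X, InjectiveResolution (E.obj F) :=
    fun F => Groth.Agent.FLES.mapRes E hinj (Rs F)
  let ee : ∀ (F : CohTop.Ab X) (n : ℕ), (LocCohZ.zq h ⟶ (Rs F).cocomplex.X n) ≃+
      (LocCohZ.zq (le_top : W' (W := W) (V := V) ≤ ⊤) ⟶ (Rs' F).cocomplex.X n) :=
    fun F n => eG h ((Rs F).cocomplex.X n)
  have hee : ∀ (F : CohTop.Ab X) (n : ℕ) (g : LocCohZ.zq h ⟶ (Rs F).cocomplex.X n),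
      ee F (n + 1) (g ≫ (Rs F).cocomplex.d n (n + 1)) =
        ee F n g ≫ (Rs' F).cocomplex.d n (n + 1) :=
    fun F n g => eG_comp h g _
  refine ⟨fun F => Groth.Agent.ExtRes.extAddEquiv (Rs F) (Rs' F) (ee F) (hee F) i, ?_⟩
  intro F G φ x
  let ψ0 := InjectiveResolution.desc φ (Rs G) (Rs F)
  have c0 : (Rs F).ι.f 0 ≫ ψ0.f 0 = φ ≫ (Rs G).ι.f 0 :=
    InjectiveResolution.desc_commutes_zero φ _ _
  let ψ : InjectiveResolution.Hom (Rs F) (Rs G) φ := ⟨ψ0, by
    rw [CochainComplex.single₀_map_f_zero]; exact c0⟩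
  let ψ' : InjectiveResolution.Hom (Rs' F) (Rs' G) (E.map φ) :=
    ⟨(E.mapHomologicalComplex (ComplexShape.up ℕ)).map ψ0, by
      rw [CochainComplex.single₀_map_f_zero, Groth.Agent.FLES.mapRes_ι_f_zero,
        Groth.Agent.FLES.mapRes_ι_f_zero, Functor.mapHomologicalComplex_map_f]
      exact (E.map_comp _ _).symm.trans ((congrArg (fun t => E.map t) c0).trans (E.map_comp _ _))⟩
  exact Groth.Agent.ExtRes.extAddEquiv_natural (Rs F) (Rs' F) (ee F) (hee F) (Rs G) (Rs' G)
    (ee G) (hee G) ψ ψ' (fun n g => eG_comp h g (ψ0.f n)) i x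

end Groth.Agent.S6026
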