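import Groth.Statements.S6027
import Groth.Agent.Lib.GSS.SectSupp
import Groth.Agent.Lib.GSS.DerNatIso
import Groth.Agent.Lib.CohSiteBasics
import Groth.Agent.Lib.ExtNat

set_option autoImplicit false
universe u
open CategoryTheory CategoryTheory.Limits TopologicalSpace
open LocCohZ

namespace Groth.Agent.S6027

open Groth.Agent.CohSiteBasics in
/-- sections over `U` as maps out of the free sheaf: additive version. -/
noncomputable def secAddEquiv {C : Type u} [SmallCategory C] {J : GrothendieckTopology C} (U : C)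
    (F : Sheaf J AddCommGrpCat.{u}) : (freeSheaf J U ⟶ F) ≃+ F.obj.obj (Opposite.op U) :=
  { secEquiv U F with
    map_add' := fun a b => by
      have h := fun (c : freeSheaf J U ⟶ F) => secEquiv_comp U (𝟙 _) c
      simp only [Category.id_comp] at h
      show secEquiv U F (a + b) = secEquiv U F a + secEquiv U F b
      rw [h a, h b, h (a + b)]
      rfl }

/-- The case of a closed subset. Let X be a topological space and Z a closed subset with open complement
U. For every q the q-th right derived functor of F ↦ Γ_Z(X, F) is isomorphic to the functor F ↦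
Ext^q(ℤ_{Z,X}, F), where ℤ_{Z,X} = ℤ_X/ℤ_U. (Existence of an isomorphism of functors for each q;
compatibility with connecting maps is not asserted.) -/
theorem result {X : TopCat.{u}} (U : Opens X) (q : ℕ) :
    Nonempty (LocCohZ.RHZ U q ≅ ToposFin.HZFunctor (LocCohZ.openSh U) q) := by
  let T := LocCohZ.sectSuppF U
  let P : CohTop.Ab X := Groth.Agent.CohSiteBasics.freeSheaf (Opens.grothendieckTopology X) ⊤
  let S : CohTop.Ab X ⥤ AddCommGrpCat.{u} := preadditiveCoyoneda.obj (Opposite.op P)
  let S' : CohTop.Ab X ⥤ AddCommGrpCat.{u} :=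
    sheafToPresheaf (Opens.grothendieckTopology X) AddCommGrpCat.{u} ⋙
      (evaluation (Opens X)ᵒᵖ AddCommGrpCat.{u}).obj (Opposite.op ⊤)
  let Z : CohTop.Ab X ⥤ AddCommGrpCat.{u} :=
    preadditiveCoyoneda.obj (Opposite.op (LocCohZ.zq (le_top : U ≤ ⊤)))
  let α : Z ≅ T ⋙ S := NatIso.ofComponents
    (fun G => (Groth.Agent.GSS.zqSectSuppEquiv U G).toAddCommGrpIso)
    (fun {G G'} φ => by
      ext b
      exact Groth.Agent.GSS.zqSectSuppEquiv_comp U b φ)
  let β : S ≅ S' := NatIso.ofComponents
    (fun G => (secAddEquiv ⊤ G).toAddCommGrpIso)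
    (fun {G G'} φ => by
      ext b
      exact Groth.Agent.CohSiteBasics.secEquiv_comp ⊤ b φ)
  let γ : LocCohZ.gammaZF U ≅ Z :=
    (Functor.isoWhiskerLeft T β.symm : T ⋙ S' ≅ T ⋙ S) ≪≫ α.symm
  refine ⟨Groth.Agent.GSS.rightDerivedNatIso γ q ≪≫
    Groth.Agent.ExtRes.derNatIsoExt (LocCohZ.zq (le_top : U ≤ ⊤)) q ≪≫
    (Abelian.extFunctor.{u} q).mapIso (LocCohZ.zqIsoQuotZ U).op.symm⟩

end Groth.Agent.S6027
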