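import Groth.Statements.S6028
import Mathlib

set_option autoImplicit false
universe v u
open CategoryTheory CategoryTheory.Limits TopologicalSpace
open LocCohZ

namespace Groth.Agent.S6028

section General
open CategoryTheory.Abelian.Pseudoelement Pseudoelement
variable {𝒜 : Type u} [Category.{v} 𝒜] [Abelian 𝒜]


/-- third isomorphism theorem: `0 → B/A → C/A → C/B → 0`. -/
lemma third_iso {A B C : 𝒜} (a : A ⟶ B) (b : B ⟶ C) (c : A ⟶ C) (u : A ⟶ A) (v : C ⟶ C)
    [Mono b] (hc : a ≫ b = c) (hu : u = 𝟙 A) (hv : v = 𝟙 C)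
    (c1 : a ≫ b = u ≫ c) (c2 : c ≫ v = a ≫ b) :
    ∃ w : cokernel.map a c u b c1 ≫ cokernel.map c b a v c2 = 0,
      (ShortComplex.mk _ _ w).ShortExact := by
  subst hc hu hv
  have w : cokernel.map a (a ≫ b) (𝟙 A) b c1 ≫ cokernel.map (a ≫ b) b a (𝟙 C) c2 = 0 := by
    apply (cancel_epi (cokernel.π a)).1
    simp
  refine ⟨w, ?_⟩
  have hepi : Epi (cokernel.map (a ≫ b) b a (𝟙 C) c2) := by
    have : cokernel.π (a ≫ b) ≫ cokernel.map (a ≫ b) b a (𝟙 C) c2 = cokernel.π b := by simp
    exact epi_of_epi_fac this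
  have hA : (ShortComplex.mk (a ≫ b) (cokernel.π (a ≫ b)) (cokernel.condition _)).Exact :=
    ShortComplex.exact_of_g_is_cokernel _ (cokernelIsCokernel _)
  have hB : (ShortComplex.mk b (cokernel.π b) (cokernel.condition _)).Exact :=
    ShortComplex.exact_of_g_is_cokernel _ (cokernelIsCokernel _)
  have hmono : Mono (cokernel.map a (a ≫ b) (𝟙 A) b c1) := by
    apply mono_of_zero_of_map_zero
    intro x hx
    obtain ⟨y, rfl⟩ := pseudo_surjective_of_epi (cokernel.π a) x
    rw [← Abelian.Pseudoelement.comp_apply, cokernel.π_desc, Abelian.Pseudoelement.comp_apply] at hx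
    obtain ⟨z, hz⟩ := pseudo_exact_of_exact hA (b y) hx
    dsimp at hz
    rw [Abelian.Pseudoelement.comp_apply] at hz
    have := pseudo_injective_of_mono b hz
    rw [← this, ← Abelian.Pseudoelement.comp_apply, cokernel.condition, Abelian.Pseudoelement.zero_apply]
  refine ShortComplex.ShortExact.mk' ?_ hmono hepi
  apply exact_of_pseudo_exact
  intro y hy
  · dsimp at hy ⊢
    obtain ⟨t, rfl⟩ := pseudo_surjective_of_epi (cokernel.π (a ≫ b)) y
    rw [← Abelian.Pseudoelement.comp_apply, cokernel.π_desc, Category.id_comp] at hy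
    obtain ⟨s, hs⟩ := pseudo_exact_of_exact hB t hy
    dsimp at hs
    refine ⟨cokernel.π a s, ?_⟩
    rw [← Abelian.Pseudoelement.comp_apply, cokernel.π_desc, Abelian.Pseudoelement.comp_apply, hs]

end General


/-- Let X be a topological space and W ⊆ V ⊆ T opens of X; put Z = T − W, Z' = T − V and Z'' = V − W, so
that Z' is closed in Z with complement Z''. Then 0 → ℤ_{Z'',X} → ℤ_{Z,X} → ℤ_{Z',X} → 0 is a short
exact sequence of abelian sheaves on X, where ℤ_{Z,X} = ℤ_T/ℤ_W and the maps are the induced ones. -/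
theorem result {X : TopCat.{u}} {W V T : Opens X} (hWV : W ≤ V) (hVT : V ≤ T) :
    ∃ w : LocCohZ.zqMap (hWV.trans hVT) hWV le_rfl hVT ≫ LocCohZ.zqMap hVT (hWV.trans hVT) hWV le_rfl = 0,
      (ShortComplex.mk _ _ w).ShortExact := by
  have : Mono (CohCx.freeSheafMap (Opens.grothendieckTopology X) (homOfLE hVT)) :=
    (LocCohZ.zqSeq_shortExact hVT).mono_f
  unfold LocCohZ.zqMap
  exact third_iso (CohCx.freeSheafMap (Opens.grothendieckTopology X) (homOfLE hWV))
    (CohCx.freeSheafMap (Opens.grothendieckTopology X) (homOfLE hVT))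
    (CohCx.freeSheafMap (Opens.grothendieckTopology X) (homOfLE (hWV.trans hVT)))
    (CohCx.freeSheafMap (Opens.grothendieckTopology X) (homOfLE (le_refl W)))
    (CohCx.freeSheafMap (Opens.grothendieckTopology X) (homOfLE (le_refl T)))
    (by rw [← CohFree.freeSheafMap_comp]; rfl) (CohFree.freeSheafMap_id _ _)
    (CohFree.freeSheafMap_id _ _) _ _

end Groth.Agent.S6028
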