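import Groth.Statements.S6029
import Groth.Agent.Lib.GSS.SectSuppFlasque
import Groth.Agent.Lib.GSS.Grothendieck
import Groth.Agent.Lib.GSS.ExtDer
import Groth.Agent.Lib.CohTopAcyclic

set_option autoImplicit false
universe u
open CategoryTheory CategoryTheory.Limits TopologicalSpace
open LocCohZ

namespace Groth.Agent.S6029

/-- For a closed subset Z = X − U of a topological space X and an abelian sheaf F on X: there is an E₂
spectral sequence of abelian groups with E₂^{p,q} ≅ H^p(X, ℋ^q_Z(F)) for p, q ≥ 0 (and 0 otherwise),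
bounded, abutting with finite filtrations to H^n_Z(X, F) (n ≥ 0; 0 for n < 0). (Existence only: the
E₂ identifications and the abutment isomorphisms are some isomorphisms, not the canonical maps of a
construction, so edge maps and low-degree exact sequences are not part of this statement.) -/
theorem result {X : TopCat.{u}} (F : CohTop.Ab X) (U : Opens X) :
    ∃ (E : E₂CohomologicalSpectralSequence AddCommGrpCat.{u})
      (a : SpSeq.Abutment E (fun n : ℤ =>
        if 0 ≤ n then AddCommGrpCat.of (LocCohZ.HZc F n.toNat U) else AddCommGrpCat.of PUnit.{u + 1})),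
      (∀ n : ℤ, a.IsFinite n) ∧ SpSeq.IsBounded E ∧
      ∀ p q : ℤ, Nonempty ((E.page 2 le_rfl).X (p, q) ≅
        (if 0 ≤ p ∧ 0 ≤ q then AddCommGrpCat.of (CohTop.HU ((LocCohZ.HZsh U q.toNat).obj F) p.toNat ⊤)
          else AddCommGrpCat.of PUnit.{u + 1})) := by
  let T := LocCohZ.sectSuppF U
  let P : CohTop.Ab X := Groth.Agent.CohSiteBasics.freeSheaf (Opens.grothendieckTopology X) ⊤
  let S : CohTop.Ab X ⥤ AddCommGrpCat.{u} := preadditiveCoyoneda.obj (Opposite.op P)
  let Z : CohTop.Ab X ⥤ AddCommGrpCat.{u} :=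
    preadditiveCoyoneda.obj (Opposite.op (LocCohZ.zq (le_top : U ≤ ⊤)))
  have hSder : ∀ (p : ℕ) (G : CohTop.Ab X),
      Nonempty ((S.rightDerived p).obj G ≅ AddCommGrpCat.of (CohTop.HU G p ⊤)) := fun p G =>
    Groth.Agent.GSS.nonempty_rightDerived_iso_ext S P
      (fun F => AddEquiv.refl _) (fun a φ => rfl) p G
  let α : Z ≅ T ⋙ S := NatIso.ofComponents
    (fun G => (Groth.Agent.GSS.zqSectSuppEquiv U G).toAddCommGrpIso)
    (fun {G G'} φ => by
      ext b
      exact Groth.Agent.GSS.zqSectSuppEquiv_comp U b φ)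
  have : PreservesFiniteLimits (T ⋙ S) := preservesFiniteLimits_of_natIso α
  have hTSder : ∀ (n : ℕ) (G : CohTop.Ab X),
      Nonempty (((T ⋙ S).rightDerived n).obj G ≅
        AddCommGrpCat.of (LocCohZ.HZc G n U)) := fun n G =>
    Groth.Agent.GSS.nonempty_rightDerived_iso_ext (T ⋙ S)
      (LocCohZ.zq (le_top : U ≤ ⊤))
      (fun F => Groth.Agent.GSS.zqSectSuppEquiv U F)
      (fun a φ => Groth.Agent.GSS.zqSectSuppEquiv_comp U a φ) n G
  have hT : ∀ Q : CohTop.Ab X, Injective Q → ∀ q : ℕ, 0 < q →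
      IsZero ((S.rightDerived q).obj (T.obj Q)) := by
    intro Q hQ q hq
    obtain ⟨q, rfl⟩ := Nat.exists_eq_succ_of_ne_zero (Nat.pos_iff_ne_zero.1 hq)
    have h1 : TopCat.Sheaf.IsFlasque Q := Groth.Agent.CohTopBasics.isFlasque_of_injective Q
    have h2 : TopCat.Sheaf.IsFlasque (T.obj Q) := Groth.Agent.GSS.sectSuppF_isFlasque U Q
    obtain ⟨e⟩ := hSder (q + 1) (T.obj Q)
    refine IsZero.of_iso ?_ e
    have : Subsingleton (CohTop.HU (T.obj Q) (q + 1) ⊤) :=
      ⟨fun x y => (Groth.Agent.CohTopBasics.ext_freeSheaf_eq_zero_of_isFlasque ⊤ q (T.obj Q) x).trans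
        (Groth.Agent.CohTopBasics.ext_freeSheaf_eq_zero_of_isFlasque ⊤ q (T.obj Q) y).symm⟩
    exact AddCommGrpCat.isZero_of_subsingleton _
  have hP : IsZero (AddCommGrpCat.of PUnit.{u + 1}) := AddCommGrpCat.isZero_of_subsingleton _
  refine Groth.Agent.GSS.grothendieck T S hT F _ (fun n => ?_) (fun n hn => ?_) _ (fun p q => ?_) (fun p q h => ?_)
  · simp only [Int.natCast_nonneg, if_true, Int.toNat_natCast]
    obtain ⟨e⟩ := hTSder n F
    exact ⟨e.symm⟩
  · rw [if_neg (by omega)]
    exact hP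
  · simp only [Int.natCast_nonneg, and_self, if_true, Int.toNat_natCast]
    obtain ⟨e⟩ := hSder p ((LocCohZ.HZsh U q).obj F)
    exact ⟨e.symm⟩
  · rw [if_neg (by omega)]
    exact hP

end Groth.Agent.S6029
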