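import Groth.Statements.S6037
import Groth.Agent.Lib.GSS.ZqHom
import Groth.Agent.Lib.CohTopAcyclic

set_option autoImplicit false
universe u
open CategoryTheory CategoryTheory.Limits TopologicalSpace
open LocCohZ

namespace Groth.Agent.S6037

/-- Let f : X → Y be a continuous map of topological spaces, Y' a closed subset of Y with open
complement V, X' = f⁻¹(Y') and F an abelian sheaf on X. There is an E₂ spectral sequence of abelian
groups with E₂^{p,q} ≅ H^p_{Y'}(Y, R^q f_* F) for p, q ≥ 0 (0 otherwise), bounded, abutting with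
finite filtrations to H^n_{X'}(X, F). (The published statement is for a morphism of ringed spaces
and records module structures over the global sections of O_Y; here only abelian groups. Existence
only: the E₂ identifications and abutment isomorphisms are some isomorphisms, not the canonical
ones.) -/
theorem result {X Y : TopCat.{u}} (f : X ⟶ Y)
    (V : Opens Y) (F : CohTop.Ab X) :
    ∃ (E : E₂CohomologicalSpectralSequence AddCommGrpCat.{u})
      (a : SpSeq.Abutment E (fun n : ℤ =>
        if 0 ≤ n then AddCommGrpCat.of (LocCohZ.HZc F n.toNat ((Opens.map f).obj V))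
          else AddCommGrpCat.of PUnit.{u + 1})),
      (∀ n : ℤ, a.IsFinite n) ∧ SpSeq.IsBounded E ∧
      ∀ p q : ℤ, Nonempty ((E.page 2 le_rfl).X (p, q) ≅
        (if 0 ≤ p ∧ 0 ≤ q then AddCommGrpCat.of (LocCohZ.HZc ((CohTop.Rpush f q.toNat).obj F) p.toNat V)
          else AddCommGrpCat.of PUnit.{u + 1})) := by
  let T := CohTop.push f
  let S : CohTop.Ab Y ⥤ AddCommGrpCat.{u} :=
    preadditiveCoyoneda.obj (Opposite.op (LocCohZ.zq (le_top : V ≤ ⊤)))
  have hSder : ∀ (p : ℕ) (G : CohTop.Ab Y),
      Nonempty ((S.rightDerived p).obj G ≅ AddCommGrpCat.of (LocCohZ.HZc G p V)) := fun p G =>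
    Groth.Agent.GSS.nonempty_rightDerived_iso_ext S (LocCohZ.zq (le_top : V ≤ ⊤))
      (fun F => AddEquiv.refl _) (fun a φ => rfl) p G
  have hTSder : ∀ (n : ℕ) (G : CohTop.Ab X),
      Nonempty (((T ⋙ S).rightDerived n).obj G ≅
        AddCommGrpCat.of (LocCohZ.HZc G n ((Opens.map f).obj V))) := fun n G =>
    Groth.Agent.GSS.nonempty_rightDerived_iso_ext (T ⋙ S)
      (LocCohZ.zq (le_top : (Opens.map f).obj V ≤ ⊤))
      (fun F => Groth.Agent.GSS.zqPushEquiv f V F)
      (fun a φ => Groth.Agent.GSS.zqPushEquiv_comp f V a φ) n G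
  have hT : ∀ Q : CohTop.Ab X, Injective Q → ∀ q : ℕ, 0 < q →
      IsZero ((S.rightDerived q).obj (T.obj Q)) := by
    intro Q hQ q hq
    obtain ⟨q, rfl⟩ := Nat.exists_eq_succ_of_ne_zero (Nat.pos_iff_ne_zero.1 hq)
    have := Groth.Agent.CohTopBasics.push_injective f Q
    exact Functor.isZero_rightDerived_obj_injective_succ _ _ _
  have hP : IsZero (AddCommGrpCat.of PUnit.{u + 1}) := AddCommGrpCat.isZero_of_subsingleton _
  refine Groth.Agent.GSS.grothendieck T S hT F _ (fun n => ?_) (fun n hn => ?_) _ (fun p q => ?_) (fun p q h => ?_)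
  · simp only [Int.natCast_nonneg, if_true, Int.toNat_natCast]
    obtain ⟨e⟩ := hTSder n F
    exact ⟨e.symm⟩
  · rw [if_neg (by omega)]
    exact hP
  · simp only [Int.natCast_nonneg, and_self, if_true, Int.toNat_natCast]
    obtain ⟨e⟩ := hSder p ((CohTop.Rpush f q).obj F)
    exact ⟨e.symm⟩
  · rw [if_neg (by omega)]
    exact hP

end Groth.Agent.S6037
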