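import Groth.Statements.S6120
import Mathlib

set_option autoImplicit false
open CategoryTheory CategoryTheory.Limits Opposite
universe w v₁ v₂ u₁ u₂
open SGA4

namespace Groth.Agent.S6120

/-- Let `I` be a category with a family of objects `i α` (`α : A`) such that every binary product `i α ⨯
i β` exists in `I` and every object of `I` admits a morphism to some `i α`. Let `F : Iᵒᵖ ⥤ C` be a
functor, and assume that `C` has equalizers and that the products `∏ F (i α)` and `∏ F (i α ⨯ i β)`
exist in `C`. Then the limit of `F` exists, the canonical map `lim F ⟶ ∏ F (i α)` is a monomorphism,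
and a map `t : T ⟶ ∏ F (i α)` factors through `lim F` exactly when its composites with the two maps
`∏ F (i α) ⇉ ∏ F (i α ⨯ i β)` induced by the two projections agree: `lim F` is the equalizer of that
pair. (The published statement assumes that `C` has all limits of the size of `A`; only equalizers
and the two products named are assumed here, which is what the equalizer construction uses.) -/
theorem result
    {I : Type u₁} [Category.{v₁} I] {C : Type u₂} [Category.{v₂} C] {A : Type w} (i : A → I)
    [∀ α β, HasBinaryProduct (i α) (i β)]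
    (hcov : ∀ j : I, ∃ α, Nonempty (j ⟶ i α))
    (F : Iᵒᵖ ⥤ C) [HasEqualizers C]
    [HasProduct (fun α => F.obj (op (i α)))]
    [HasProduct (fun p : A × A => F.obj (op (i p.1 ⨯ i p.2)))] :
    HasLimit F ∧ ∀ [HasLimit F],
      Mono (Pi.lift (fun α => limit.π F (op (i α)))) ∧
      ∀ (T : C) (t : T ⟶ ∏ᶜ (fun α => F.obj (op (i α)))),
        (∃ s : T ⟶ limit F, s ≫ Pi.lift (fun α => limit.π F (op (i α))) = t) ↔
        t ≫ Pi.lift (fun p : A × A =>
            Pi.π (fun α => F.obj (op (i α))) p.1 ≫ F.map (prod.fst : i p.1 ⨯ i p.2 ⟶ i p.1).op) =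
        t ≫ Pi.lift (fun p : A × A =>
            Pi.π (fun α => F.obj (op (i α))) p.2 ≫ F.map (prod.snd : i p.1 ⨯ i p.2 ⟶ i p.2).op) := by
  classical
  -- abbreviations
  let d0 : (∏ᶜ (fun α => F.obj (op (i α)))) ⟶ ∏ᶜ (fun p : A × A => F.obj (op (i p.1 ⨯ i p.2))) :=
    Pi.lift (fun p : A × A =>
      Pi.π (fun α => F.obj (op (i α))) p.1 ≫ F.map (prod.fst : i p.1 ⨯ i p.2 ⟶ i p.1).op)
  let d1 : (∏ᶜ (fun α => F.obj (op (i α)))) ⟶ ∏ᶜ (fun p : A × A => F.obj (op (i p.1 ⨯ i p.2))) :=
    Pi.lift (fun p : A × A =>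
      Pi.π (fun α => F.obj (op (i α))) p.2 ≫ F.map (prod.snd : i p.1 ⨯ i p.2 ⟶ i p.2).op)
  -- independence of choice
  have indep : ∀ (T : C) (t : T ⟶ ∏ᶜ (fun α => F.obj (op (i α)))), t ≫ d0 = t ≫ d1 →
      ∀ (j : I) (α β : A) (u : j ⟶ i α) (v : j ⟶ i β),
        t ≫ Pi.π (fun α => F.obj (op (i α))) α ≫ F.map u.op =
        t ≫ Pi.π (fun α => F.obj (op (i α))) β ≫ F.map v.op := by
    intro T t ht j α β u v
    have h1 := congrArg (fun m => m ≫ Pi.π (fun p : A × A => F.obj (op (i p.1 ⨯ i p.2))) (α, β)
      ≫ F.map (prod.lift u v).op) ht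
    simp only [d0, d1, Category.assoc, Pi.lift_π_assoc] at h1
    rw [← F.map_comp, ← F.map_comp, ← op_comp, ← op_comp, prod.lift_fst, prod.lift_snd] at h1
    exact h1
  choose αof uof using hcov
  let u' : ∀ j : I, j ⟶ i (αof j) := fun j => (uof j).some
  -- cone from t
  let mkCone : ∀ (T : C) (t : T ⟶ ∏ᶜ (fun α => F.obj (op (i α)))), t ≫ d0 = t ≫ d1 → Cone F :=
    fun T t ht =>
    { pt := T
      π :=
        { app := fun j => t ≫ Pi.π (fun α => F.obj (op (i α))) (αof j.unop) ≫ F.map (u' j.unop).op
          naturality := by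
            intro j j' g
            simp only [Functor.const_obj_obj, Functor.const_obj_map, Category.id_comp,
              Category.assoc]
            rw [← F.map_comp]
            have := indep T t ht j'.unop (αof j'.unop) (αof j.unop) (u' j'.unop)
              (g.unop ≫ u' j.unop)
            rw [this]
            rfl } }
  have mkCone_app : ∀ (T : C) (t : T ⟶ ∏ᶜ (fun α => F.obj (op (i α)))) (ht : t ≫ d0 = t ≫ d1)
      (α : A), (mkCone T t ht).π.app (op (i α)) = t ≫ Pi.π (fun α => F.obj (op (i α))) α := by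
    intro T t ht α
    have := indep T t ht (i α) (αof (i α)) α (u' (i α)) (𝟙 _)
    simp only [op_id, CategoryTheory.Functor.map_id, Category.comp_id] at this
    exact this
  have hlim : HasLimit F := by
    have hι : equalizer.ι d0 d1 ≫ d0 = equalizer.ι d0 d1 ≫ d1 := equalizer.condition d0 d1
    refine ⟨⟨⟨mkCone _ (equalizer.ι d0 d1) hι, ?_⟩⟩⟩
    refine
      { lift := fun s => equalizer.lift (Pi.lift (fun α => s.π.app (op (i α)))) ?_
        fac := ?_
        uniq := ?_ }
    · apply Pi.hom_ext
      intro p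
      simp only [d0, d1, Category.assoc, Pi.lift_π, Pi.lift_π_assoc]
      rw [s.w, s.w]
    · intro s j
      simp only [mkCone]
      rw [equalizer.lift_ι_assoc, Pi.lift_π_assoc, s.w]
    · intro s m hm
      apply equalizer.hom_ext
      rw [equalizer.lift_ι]
      apply Pi.hom_ext
      intro α
      rw [Pi.lift_π, Category.assoc, ← mkCone_app _ (equalizer.ι d0 d1) hι α]
      exact hm (op (i α))
  refine ⟨hlim, ?_⟩
  intro _
  have hw : ∀ j : Iᵒᵖ, limit.π F j =
      limit.π F (op (i (αof j.unop))) ≫ F.map (u' j.unop).op := by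
    intro j
    exact (limit.w F (u' j.unop).op).symm
  refine ⟨⟨fun a b hab => ?_⟩, ?_⟩
  · apply limit.hom_ext
    intro j
    rw [hw j]
    have := congrArg (fun m => m ≫ Pi.π (fun α => F.obj (op (i α))) (αof j.unop)) hab
    simp only [Category.assoc, Pi.lift_π] at this
    rw [← Category.assoc, this, Category.assoc]
  · intro T t
    constructor
    · rintro ⟨s, rfl⟩
      apply Pi.hom_ext
      intro p
      simp only [Category.assoc, Pi.lift_π, Pi.lift_π_assoc]
      rw [limit.w, limit.w]
    · intro ht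
      refine ⟨limit.lift F (mkCone T t ht), ?_⟩
      apply Pi.hom_ext
      intro α
      rw [Category.assoc, Pi.lift_π, limit.lift_π]
      exact mkCone_app T t ht α

end Groth.Agent.S6120
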