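import Groth.Statements.S6121
import Mathlib

set_option autoImplicit false
open CategoryTheory
universe v₁ v₂ u₁ u₂
open SGA4

namespace Groth.Agent.S6121

/-- For a fibered functor `p : E ⥤ B` (every morphism of `B` has a cartesian lift with prescribed
codomain, and cartesian morphisms compose), `p` reflects isomorphisms if and only if every fibre
category of `p` (objects over `b`, morphisms lying over the identity of `b`) is a groupoid. -/
theorem result
    {B : Type u₁} [Category.{v₁} B] {E : Type u₂} [Category.{v₂} E] (p : E ⥤ B) [p.IsFibered] :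
    p.ReflectsIsomorphisms ↔ ∀ b : B, IsGroupoid (p.Fiber b) := by
  constructor
  · intro hrefl b
    refine ⟨fun {x y} φ => ?_⟩
    have h1 := CategoryTheory.IsHomLift.fac' p (𝟙 b) (Functor.Fiber.fiberInclusion.map φ)
    haveI hpi : IsIso (p.map (Functor.Fiber.fiberInclusion.map φ)) := by
      rw [h1]; infer_instance
    haveI hi : IsIso (Functor.Fiber.fiberInclusion.map φ) :=
      isIso_of_reflects_iso (Functor.Fiber.fiberInclusion.map φ) p
    have hinv : p.IsHomLift (𝟙 b) (@inv _ _ _ _ (Functor.Fiber.fiberInclusion.map φ) hi) :=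
      @CategoryTheory.IsHomLift.lift_id_inv_isIso _ _ _ _ p b _ _ (Functor.Fiber.fiberInclusion.map φ) hi _
    let ψ : y ⟶ x := ⟨@inv _ _ _ _ (Functor.Fiber.fiberInclusion.map φ) hi, hinv⟩
    have hψ : Functor.Fiber.fiberInclusion.map ψ = @inv _ _ _ _ (Functor.Fiber.fiberInclusion.map φ) hi := rfl
    refine ⟨ψ, ?_, ?_⟩
    · apply Functor.Fiber.hom_ext
      rw [CategoryTheory.Functor.map_comp, CategoryTheory.Functor.map_id, hψ]
      exact @IsIso.hom_inv_id _ _ _ _ (Functor.Fiber.fiberInclusion.map φ) hi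
    · apply Functor.Fiber.hom_ext
      rw [CategoryTheory.Functor.map_comp, CategoryTheory.Functor.map_id, hψ]
      exact @IsIso.inv_hom_id _ _ _ _ (Functor.Fiber.fiberInclusion.map φ) hi
  · intro h
    refine ⟨fun {a b'} φ hφ => ?_⟩
    obtain ⟨c, ψ, hψ⟩ := Functor.IsPreFibered.exists_isCartesian' (p := p) (p.map φ)
    let χ := Functor.IsCartesian.map p (p.map φ) ψ φ
    have hc : p.obj c = p.obj a := CategoryTheory.IsHomLift.domain_eq p (p.map φ) ψ
    let x : p.Fiber (p.obj a) := ⟨a, rfl⟩
    let y : p.Fiber (p.obj a) := ⟨c, hc⟩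
    let m : x ⟶ y := ⟨χ, inferInstance⟩
    haveI := h (p.obj a)
    haveI hm : IsIso m := inferInstance
    haveI hχ : IsIso χ := by
      have : IsIso (Functor.Fiber.fiberInclusion.map m) := inferInstance
      exact this
    haveI hψ' : IsIso ψ := Functor.IsStronglyCartesian.isIso_of_base_isIso p (p.map φ) ψ
    have e1 : χ ≫ ψ = φ := Functor.IsCartesian.fac p (p.map φ) ψ φ
    rw [← e1]
    infer_instance

end Groth.Agent.S6121
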