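import Groth.Statements.S6122
import Mathlib

set_option autoImplicit false
open CategoryTheory
universe v₁ v₂ u₁ u₂
open SGA4

namespace Groth.Agent.S6122

/-- For a fibered functor `p : E ⥤ B` (every morphism of `B` has a cartesian lift with prescribed
codomain, and cartesian morphisms compose), `p` is faithful if and only if every fibre category of
`p` (objects over `b`, morphisms lying over the identity of `b`) has at most one morphism between
any two objects. -/
theorem result
    {B : Type u₁} [Category.{v₁} B] {E : Type u₂} [Category.{v₂} E] (p : E ⥤ B) [p.IsFibered] :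
    p.Faithful ↔ ∀ (b : B) (x y : p.Fiber b), Subsingleton (x ⟶ y) := by
  constructor
  · intro hfaith b x y
    refine ⟨fun φ ψ => ?_⟩
    apply Functor.Fiber.hom_ext
    apply p.map_injective
    have h1 := CategoryTheory.IsHomLift.fac' p (𝟙 b) (Functor.Fiber.fiberInclusion.map φ)
    have h2 := CategoryTheory.IsHomLift.fac' p (𝟙 b) (Functor.Fiber.fiberInclusion.map ψ)
    rw [h1, h2]
  · intro h
    refine ⟨fun {a b'} φ φ' hφ => ?_⟩
    obtain ⟨c, ψ, hψ⟩ := Functor.IsPreFibered.exists_isCartesian' (p := p) (p.map φ)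
    haveI : p.IsHomLift (p.map φ) φ' := by rw [hφ]; infer_instance
    let χ := Functor.IsCartesian.map p (p.map φ) ψ φ
    let χ' := Functor.IsCartesian.map p (p.map φ) ψ φ'
    have hc : p.obj c = p.obj a := CategoryTheory.IsHomLift.domain_eq p (p.map φ) ψ
    let x : p.Fiber (p.obj a) := ⟨a, rfl⟩
    let y : p.Fiber (p.obj a) := ⟨c, hc⟩
    let m : x ⟶ y := ⟨χ, inferInstance⟩
    let m' : x ⟶ y := ⟨χ', inferInstance⟩
    have hm : m = m' := (h (p.obj a) x y).elim m m'
    have hχ : χ = χ' := congrArg Subtype.val hm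
    have e1 : χ ≫ ψ = φ := Functor.IsCartesian.fac p (p.map φ) ψ φ
    have e2 : χ' ≫ ψ = φ' := Functor.IsCartesian.fac p (p.map φ) ψ φ'
    rw [← e1, ← e2, hχ]

end Groth.Agent.S6122
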