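import Groth.Statements.S6124
import Mathlib

set_option autoImplicit false
open CategoryTheory CategoryTheory.Limits Opposite
universe w v₁ v₂ u₁ u₂
open SGA4

namespace Groth.Agent.S6124

/-- Let `E` have pullbacks, let `P` be a detecting family of objects of `E` (a morphism `f` is
invertible as soon as every map out of an object of `P` factors uniquely through `f`), and let `φ i
: E ⥤ E' i` be functors preserving pullbacks. Then the `φ i` jointly reflect isomorphisms if and
only if, for every `X` with `P X` and every subobject `X'` of `X` other than `⊤`, some `φ i` takes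
the inclusion `X' ⟶ X` to a morphism that is not invertible. -/
theorem result
    {E : Type u₁} [Category.{v₁} E] [HasPullbacks E] (P : ObjectProperty E) (hP : P.IsDetecting)
    {κ : Type w} {E' : κ → Type u₂} [∀ k, Category.{v₂} (E' k)] (φ : ∀ k, E ⥤ E' k)
    [∀ k, PreservesLimitsOfShape WalkingCospan (φ k)] :
    (∀ ⦃X Y : E⦄ (f : X ⟶ Y), (∀ k, IsIso ((φ k).map f)) → IsIso f) ↔
      ∀ (X : E), P X → ∀ (X' : Subobject X), X' ≠ ⊤ → ∃ k, ¬ IsIso ((φ k).map X'.arrow) := by
  constructor
  · intro h X hX X' hX'
    by_contra hcon
    push_neg at hcon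
    have := h X'.arrow hcon
    exact hX' ((Subobject.isIso_arrow_iff_eq_top X').1 this)
  · intro h
    -- Step 1: monomorphisms
    have step1 : ∀ ⦃X Y : E⦄ (f : X ⟶ Y), Mono f → (∀ k, IsIso ((φ k).map f)) → IsIso f := by
      intro X Y f hf hiso
      apply hP
      intro G hG g
      have hpb : IsPullback (pullback.fst g f) (pullback.snd g f) g f := IsPullback.of_hasPullback g f
      haveI : Mono (pullback.fst g f) := inferInstance
      have htop : Subobject.mk (pullback.fst g f) = ⊤ := by
        by_contra hne
        obtain ⟨k, hk⟩ := h G hG _ hne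
        apply hk
        haveI := hiso k
        have h1 : IsIso ((φ k).map (pullback.fst g f)) := (hpb.map (φ k)).isIso_fst_of_isIso
        have h2 : (Subobject.mk (pullback.fst g f)).arrow =
            (Subobject.underlyingIso (pullback.fst g f)).hom ≫ pullback.fst g f := by simp
        rw [h2, Functor.map_comp]
        infer_instance
      haveI : IsIso (pullback.fst g f) := (Subobject.isIso_iff_mk_eq_top _).2 htop
      refine ⟨inv (pullback.fst g f) ≫ pullback.snd g f, ?_, ?_⟩
      · simp only [Category.assoc]
        rw [← pullback.condition, IsIso.inv_hom_id_assoc]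
      · intro y hy
        rw [← cancel_mono f, hy]
        simp only [Category.assoc]
        rw [← pullback.condition, IsIso.inv_hom_id_assoc]
    intro X Y f hiso
    -- the diagonal
    let δ : X ⟶ pullback f f := pullback.lift (𝟙 X) (𝟙 X) rfl
    have hδ1 : δ ≫ pullback.fst f f = 𝟙 X := pullback.lift_fst _ _ _
    have hδ2 : δ ≫ pullback.snd f f = 𝟙 X := pullback.lift_snd _ _ _
    haveI : Mono δ := mono_of_mono_fac hδ1
    have hδiso : IsIso δ := by
      apply step1 δ inferInstance
      intro k
      haveI := hiso k
      have hpb : IsPullback (pullback.fst f f) (pullback.snd f f) f f := IsPullback.of_hasPullback f f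
      haveI h1 : IsIso ((φ k).map (pullback.fst f f)) := (hpb.map (φ k)).isIso_fst_of_isIso
      have h2 : (φ k).map δ ≫ (φ k).map (pullback.fst f f) = 𝟙 _ := by
        rw [← Functor.map_comp, hδ1, CategoryTheory.Functor.map_id]
      have h3 : (φ k).map δ = inv ((φ k).map (pullback.fst f f)) := by
        rw [← cancel_mono ((φ k).map (pullback.fst f f)), h2, IsIso.inv_hom_id]
      rw [h3]
      infer_instance
    have hfs : pullback.fst f f = pullback.snd f f := by
      rw [← cancel_epi δ, hδ1, hδ2]
    haveI : Mono f := ⟨fun a b hab => by
      calc a = pullback.lift a b hab ≫ pullback.fst f f := (pullback.lift_fst a b hab).symm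
        _ = pullback.lift a b hab ≫ pullback.snd f f := by rw [hfs]
        _ = b := pullback.lift_snd a b hab⟩
    exact step1 f inferInstance hiso

end Groth.Agent.S6124
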