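import Groth.Statements.S6126
import Mathlib

set_option autoImplicit false
open CategoryTheory CategoryTheory.Limits
universe v₁ u₁
open SGA4

open CategoryTheory CategoryTheory.Limits in
theorem H1_6126 {E : Type u₁} [Category.{v₁} E] {ι : Type v₁} (G : ι → E)
    (hG : (ObjectProperty.ofObj G).IsSeparating)
    [EnoughInjectives E] [∀ t, HasBinaryCoproduct (G t) (G t)]
    (hfac : ∀ (t : ι) (X : E) (f : G t ⨿ G t ⟶ X),
      ∃ (Y : E) (e : G t ⨿ G t ⟶ Y) (m : Y ⟶ X), EffectiveEpi e ∧ Mono m ∧ e ≫ m = f) :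
    ∃ (κ : Type v₁) (H : κ → E),
      (∀ k, Injective (H k)) ∧ (ObjectProperty.ofObj H).IsCoseparating := by
  classical
  -- congruences tested on generators
  let Cong : ι → Type v₁ := fun t => Set (Σ s : ι, (G s ⟶ G t ⨿ G t) × (G s ⟶ G t ⨿ G t))
  let cong : ∀ (t : ι) {Y : E} (_ : G t ⨿ G t ⟶ Y), Cong t :=
    fun t Y e => {x | x.2.1 ≫ e = x.2.2 ≫ e}
  let κ : Type v₁ := Σ t : ι, Cong t
  -- comparison of two effective epis with the same congruence
  have cmp : ∀ (t : ι) {Y Y' : E} (e : G t ⨿ G t ⟶ Y) (e' : G t ⨿ G t ⟶ Y'),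
      EffectiveEpi e → cong t e = cong t e' →
      ∀ {T : E} (a b : T ⟶ G t ⨿ G t), a ≫ e = b ≫ e → a ≫ e' = b ≫ e' := by
    intro t Y Y' e e' _ hc T a b hab
    apply hG
    rintro _ ⟨s⟩ l
    have hmem : (⟨s, (l ≫ a, l ≫ b)⟩ : Σ s : ι, (G s ⟶ G t ⨿ G t) × (G s ⟶ G t ⨿ G t)) ∈
        cong t e := by
      change (l ≫ a) ≫ e = (l ≫ b) ≫ e
      rw [Category.assoc, Category.assoc, hab]
    rw [hc] at hmem
    have hmem' : (l ≫ a) ≫ e' = (l ≫ b) ≫ e' := hmem
    rw [Category.assoc, Category.assoc] at hmem'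
    exact hmem'
  have key : ∀ k : κ, ∃ I : E, Injective I ∧
      ∀ (Y : E) (e : G k.1 ⨿ G k.1 ⟶ Y), EffectiveEpi e → cong k.1 e = k.2 →
        ∃ j : Y ⟶ I, Mono j := by
    rintro ⟨t, c⟩
    by_cases hex : ∃ (Y₀ : E) (e₀ : G t ⨿ G t ⟶ Y₀), EffectiveEpi e₀ ∧ cong t e₀ = c
    · obtain ⟨Y₀, e₀, he₀, hc₀⟩ := hex
      refine ⟨Injective.under Y₀, inferInstance, ?_⟩
      intro Y e he hc
      have hcc : cong t e = cong t e₀ := hc.trans hc₀.symm
      let d : Y ⟶ Y₀ := EffectiveEpi.desc e e₀ (fun a b hab => cmp t e e₀ he hcc a b hab)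
      let d' : Y₀ ⟶ Y := EffectiveEpi.desc e₀ e (fun a b hab => cmp t e₀ e he₀ hcc.symm a b hab)
      have h1 : e ≫ d = e₀ := EffectiveEpi.fac _ _ _
      have h2 : e₀ ≫ d' = e := EffectiveEpi.fac _ _ _
      have h3 : d ≫ d' = 𝟙 Y := by
        rw [← cancel_epi e, ← Category.assoc, h1, h2, Category.comp_id]
      haveI : IsSplitMono d := ⟨⟨⟨d', h3⟩⟩⟩
      exact ⟨d ≫ Injective.ι Y₀, inferInstance⟩
    · refine ⟨Injective.under (G t), inferInstance, ?_⟩
      intro Y e he hc
      exact (hex ⟨Y, e, he, hc⟩).elim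
  choose H hHinj hH using key
  refine ⟨κ, H, hHinj, ?_⟩
  intro X Z f g hfg
  apply hG
  rintro _ ⟨t⟩ h
  obtain ⟨Y, e, m, he, hm, hem⟩ := hfac t Z (coprod.desc (h ≫ f) (h ≫ g))
  obtain ⟨j, hj⟩ := hH ⟨t, cong t e⟩ Y e he rfl
  haveI := hHinj ⟨t, cong t e⟩
  let ψ : Z ⟶ H ⟨t, cong t e⟩ := Injective.factorThru j m
  have hψ : m ≫ ψ = j := Injective.comp_factorThru j m
  have h0 := hfg (H ⟨t, cong t e⟩) (ObjectProperty.ofObj_apply H ⟨t, cong t e⟩) ψ
  have h1 : coprod.inl ≫ e ≫ j = coprod.inr ≫ e ≫ j := by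
    rw [← hψ, ← Category.assoc e, hem, ← Category.assoc, ← Category.assoc, coprod.inl_desc,
      coprod.inr_desc, Category.assoc, Category.assoc, h0]
  have h2 : (coprod.inl : G t ⟶ G t ⨿ G t) ≫ e = coprod.inr ≫ e := by
    rw [← cancel_mono j, Category.assoc, Category.assoc, h1]
  have h3 := congrArg (· ≫ m) h2
  simp only [Category.assoc, hem, coprod.inl_desc, coprod.inr_desc] at h3
  exact h3

namespace Groth.Agent.S6126

/-- Let `E` be a category with `v₁`-small hom-sets admitting a separating family of objects `G t`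
indexed by a `v₁`-small type, in which every object admits a monomorphism into an injective object.
Assume that each coproduct `G t ⨿ G t` exists and that every morphism out of `G t ⨿ G t` factors as
an effective epimorphism followed by a monomorphism. Then `E` admits a coseparating family of
injective objects indexed by a `v₁`-small type. (The published statement moreover bounds the size of
this family in terms of the hom-sets `Hom (G t', G t ⨿ G t)`; only existence is stated here. The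
published statement speaks of generating and cogenerating families; its proof uses and produces
joint faithfulness of maps out of, resp. into, the family, which is the sense taken here.) -/
theorem result
    {E : Type u₁} [Category.{v₁} E] {ι : Type v₁} (G : ι → E)
    (hG : (ObjectProperty.ofObj G).IsSeparating)
    [EnoughInjectives E] [∀ t, HasBinaryCoproduct (G t) (G t)]
    (hfac : ∀ (t : ι) (X : E) (f : G t ⨿ G t ⟶ X),
      ∃ (Y : E) (e : G t ⨿ G t ⟶ Y) (m : Y ⟶ X), EffectiveEpi e ∧ Mono m ∧ e ≫ m = f) :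
    ∃ (κ : Type v₁) (H : κ → E),
      (∀ k, Injective (H k)) ∧ (ObjectProperty.ofObj H).IsCoseparating := by
  exact H1_6126 G hG hfac

end Groth.Agent.S6126
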