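import Groth.Statements.S6128
import Mathlib

set_option autoImplicit false
open CategoryTheory
universe u
open SGA4

namespace Groth.Agent.S6128


open CategoryTheory CategoryTheory.Limits Opposite


theorem main
    {C : Type u} [SmallCategory C] {C' : Type u} [SmallCategory C']
    (J : GrothendieckTopology C) (J' : GrothendieckTopology C') (u : C ⥤ C')
    (h : ∀ G : Sheaf J (Type u), Presheaf.IsSheaf J' ((u.op.ran).obj G.obj)) :
    u.IsCocontinuous J J' := by
  constructor
  intro Y R hR
  -- the morphism of presheaves
  let ι : u.op ⋙ R.functor ⟶ u.op ⋙ yoneda.obj (u.obj Y) :=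
    Functor.whiskerLeft u.op R.functorInclusion
  have hW : J.W ι := by
    intro G hG
    have hsh := h ⟨G, hG⟩
    have hY : Presieve.YonedaSheafCondition ((u.op.ran).obj G) R :=
      Presieve.isSheafFor_iff_yonedaSheafCondition.1
        (((isSheaf_iff_isSheaf_of_type _ _).1 hsh) R hR)
    let adj := u.op.ranAdjunction (Type u)
    constructor
    · intro a b hab
      dsimp only at hab
      apply (adj.homEquiv _ _).injective
      have h1 := (hY (R.functorInclusion ≫ adj.homEquiv _ _ a)).unique
        (y₁ := adj.homEquiv _ _ a) (y₂ := adj.homEquiv _ _ b) rfl ?_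
      · exact h1
      · have e1 := adj.homEquiv_naturality_left R.functorInclusion a
        have e2 := adj.homEquiv_naturality_left R.functorInclusion b
        dsimp at e1 e2
        rw [← e1, ← e2]
        congr 1
        exact hab.symm
    · intro a
      obtain ⟨g, hg, -⟩ := hY (adj.homEquiv _ _ a)
      refine ⟨(adj.homEquiv _ _).symm g, ?_⟩
      dsimp only
      apply (adj.homEquiv _ _).injective
      have e1 := adj.homEquiv_naturality_left R.functorInclusion ((adj.homEquiv _ _).symm g)
      dsimp at e1
      erw [e1]
      simp [hg]
  have hs := hW.isLocallySurjective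
  have := Presheaf.imageSieve_mem J ι (𝟙 (u.obj Y) : (u.op ⋙ yoneda.obj (u.obj Y)).obj (Opposite.op Y))
  refine J.superset_covering ?_ this
  intro Z g hg
  obtain ⟨t, ht⟩ := hg
  show R (u.map g)
  have : (t.1 : u.obj Z ⟶ u.obj Y) = u.map g := by
    have := ht
    simpa [ι] using this
  rw [← this]
  exact t.2

/-- Let `u : C ⥤ C'` be a functor between small sites. If the right Kan extension along `u` of the
underlying presheaf of every sheaf of sets on `C` is a sheaf on `C'`, then `u` is cocontinuous: for
every object `Y` of `C` and every covering sieve `R` of `u Y`, the sieve of morphisms `g : Z ⟶ Y`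
with `u g ∈ R` covers `Y`. -/
theorem result
    {C : Type u} [SmallCategory C] {C' : Type u} [SmallCategory C']
    (J : GrothendieckTopology C) (J' : GrothendieckTopology C') (u : C ⥤ C')
    (h : ∀ G : Sheaf J (Type u), Presheaf.IsSheaf J' ((u.op.ran).obj G.obj)) :
    u.IsCocontinuous J J' := by
  exact main J J' u h

end Groth.Agent.S6128
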