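import Groth.Statements.S6131
import Mathlib

set_option autoImplicit false
open CategoryTheory CategoryTheory.Limits
universe u
open SGA4

namespace Groth.Agent.S6131

/-- For a small site `(C, J)` and an object `X` of `C`, the sheaf associated to the presheaf represented
by `X` is an initial object of the category of sheaves of sets if and only if the empty sieve covers
`X`. -/
theorem result
    {C : Type u} [SmallCategory C] (J : GrothendieckTopology C) (X : C) :
    Nonempty (IsInitial ((presheafToSheaf J (Type u)).obj (yoneda.obj X))) ↔ (⊥ : Sieve X) ∈ J X := by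
  let e : ∀ F : Sheaf J (Type u),
      ((presheafToSheaf J (Type u)).obj (yoneda.obj X) ⟶ F) ≃ F.obj.obj (Opposite.op X) :=
    fun F => ((sheafificationAdjunction J (Type u)).homEquiv (yoneda.obj X) F).trans yonedaEquiv
  constructor
  · rintro ⟨hinit⟩
    let Ω : Sheaf J (Type u) := ⟨(Functor.closedSieves J).toFunctor,
      (isSheaf_iff_isSheaf_of_type _ _).mpr (classifier_isSheaf J)⟩
    have hsub : Subsingleton (Ω.obj.obj (Opposite.op X)) := by
      haveI : Subsingleton ((presheafToSheaf J (Type u)).obj (yoneda.obj X) ⟶ Ω) :=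
        ⟨fun a b => hinit.hom_ext a b⟩
      exact (e Ω).symm.subsingleton
    have htop : J.IsClosed (⊤ : Sieve X) := fun Y f _ => trivial
    let a : Ω.obj.obj (Opposite.op X) := ⟨J.close (⊥ : Sieve X), J.close_isClosed ⊥⟩
    let b : Ω.obj.obj (Opposite.op X) := ⟨(⊤ : Sieve X), htop⟩
    have hab : J.close (⊥ : Sieve X) = (⊤ : Sieve X) :=
      congrArg (fun t : {S : Sieve X | J.IsClosed S} => (t : Sieve X)) (Subsingleton.elim a b)
    exact (J.close_eq_top_iff_mem ⊥).mp hab
  · intro h
    have huniq : ∀ F : Sheaf J (Type u),
        Unique ((presheafToSheaf J (Type u)).obj (yoneda.obj X) ⟶ F) := by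
      intro F
      have hT : IsTerminal (F.obj.obj (Opposite.op X)) := Sheaf.isTerminalOfBotCover F X h
      haveI : Unique (F.obj.obj (Opposite.op X)) :=
        (Types.isTerminalEquivUnique _).toFun hT
      exact (e F).unique
    exact ⟨@IsInitial.ofUnique _ _ _ huniq⟩

end Groth.Agent.S6131
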