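import Groth.Statements.S6137
import Mathlib

set_option autoImplicit false
open CategoryTheory CategoryTheory.Limits
universe v u
open SGA4

namespace Groth.Agent.S6137


open CategoryTheory CategoryTheory.Limits Opposite

open Opposite

variable {C : Type u} [Category.{v} C]

lemma fwd1 (F : C ⥤ Type v) [F.IsCorepresentable] : IsIndObject (unopUnop C ⋙ F) := by
  let h := F.corepresentableBy
  let e : yoneda.obj (op F.coreprX) ≅ unopUnop C ⋙ F :=
    NatIso.ofComponents (fun Z => Equiv.toIso
      { toFun := fun f => h.homEquiv f.unop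
        invFun := fun y => (h.homEquiv.symm y).op
        left_inv := fun f => by simp
        right_inv := fun y => by simp })
      (by
        intro Z Z' g
        ext f
        dsimp
        erw [h.homEquiv_comp]
        rfl)
  exact IsIndObject.map e.hom (isIndObject_yoneda _)

lemma fwd2 (F : C ⥤ Type v) [F.IsCorepresentable] : PreservesLimitsOfSize.{v, v} F :=
  preservesLimits_of_natIso F.coreprW

lemma bwd [HasLimitsOfSize.{v, v} C] (F : C ⥤ Type v) (h1 : IsIndObject (unopUnop C ⋙ F))
    [PreservesLimitsOfSize.{v, v} F] : F.IsCorepresentable := by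
  obtain ⟨⟨P⟩⟩ := h1
  haveI : HasLimitsOfSize.{v, v} F.Elements := ⟨fun I _ => inferInstance⟩
  let ξ : ∀ i : P.I, F.obj (P.F.obj i).unop := fun i =>
    (P.ι.app i).app (op (P.F.obj i)) (𝟙 _)
  let B : P.I → F.Elements := fun i => ⟨(P.F.obj i).unop, ξ i⟩
  have hB : ∀ A : F.Elements, ∃ i, Nonempty (B i ⟶ A) := by
    rintro ⟨Y, y⟩
    have hc := isColimitOfPreserves ((evaluation _ _).obj (op (op Y))) P.isColimit
    obtain ⟨i, g, hg⟩ := Types.jointly_surjective_of_isColimit hc y
    refine ⟨i, ⟨⟨g.unop, ?_⟩⟩⟩
    let σ : yoneda.obj (P.F.obj i) ⟶ unopUnop C ⋙ F := P.ι.app i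
    have h1 := NatTrans.naturality_apply σ g.op
    have nat := h1 (𝟙 (P.F.obj i))
    dsimp at nat hg ⊢
    simp at nat
    rw [← hg]
    exact nat.symm
  obtain ⟨T, hT⟩ := has_weakly_initial_of_weakly_initial_set_and_hasProducts hB
  haveI := hasInitial_of_weakly_initial_and_hasWideEqualizers hT
  exact Functor.Elements.isCorepresentable_of_hasInitial F

theorem main
    [HasLimitsOfSize.{v, v} C] (F : C ⥤ Type v) :
    F.IsCorepresentable ↔
      IsIndObject (unopUnop C ⋙ F) ∧ PreservesLimitsOfSize.{v, v} F := by
  constructor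
  · intro h
    exact ⟨fwd1 F, fwd2 F⟩
  · rintro ⟨h1, h2⟩
    exact bwd F h1

/-- Let `C` be a category with `v`-small hom-sets admitting all `v`-small limits, and `F : C ⥤ Type v` a
functor. Then `F` is corepresentable if and only if it is pro-representable (viewed as a presheaf on
`Cᵒᵖ` it is an ind-object, i.e. a small filtered colimit of corepresentable functors) and preserves
all `v`-small limits. -/
theorem result
    {C : Type u} [Category.{v} C] [HasLimitsOfSize.{v, v} C] (F : C ⥤ Type v) :
    F.IsCorepresentable ↔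
      IsIndObject (unopUnop C ⋙ F) ∧ PreservesLimitsOfSize.{v, v} F := by
  exact main F

end Groth.Agent.S6137
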