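import Groth.Statements.S6138
import Mathlib.CategoryTheory.Limits.Types.Equalizers
import Mathlib.CategoryTheory.Limits.Preserves.Shapes.Equalizers
import Mathlib.CategoryTheory.Limits.Shapes.RegularMono

set_option autoImplicit false
open CategoryTheory CategoryTheory.Limits Opposite
universe v u
open SGA4

namespace Groth.Agent.S6138

/-- Let `C` have coequalizers and pullbacks, let `F` be a presheaf of sets on `C` taking coequalizers of
`C` to equalizers, and let `u ∈ F(X)`, viewed as a morphism `h_X ⟶ F`. Then this morphism is a
monomorphism (the map `v ↦ F(v)(u)` is injective on `Hom(Y, X)` for every `Y`) if and only if `u` is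
minimal: whenever `u = F(p)(u')` for an effective epimorphism `p : X ⟶ X'` and some `u' ∈ F(X')`,
`p` is an isomorphism. (Coequalizers are used for one implication and pullbacks for the other; both
are assumed here.) -/
theorem result
    {C : Type u} [Category.{v} C] [HasCoequalizers C] [HasPullbacks C]
    (F : Cᵒᵖ ⥤ Type v) [PreservesLimitsOfShape WalkingParallelPair F]
    {X : C} (u : F.obj (op X)) :
    (∀ (Y : C) (v v' : Y ⟶ X), F.map v.op u = F.map v'.op u → v = v') ↔
      ∀ (X' : C) (p : X ⟶ X') (u' : F.obj (op X')),
        EffectiveEpi p → F.map p.op u' = u → IsIso p := by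
  constructor
  · intro hinj X' p u' hp hu
    have hc := isColimitCoforkOfEffectiveEpi p _ (pullback.isLimit p p)
    have h12 : pullback.fst p p = pullback.snd p p := by
      apply hinj
      rw [← hu, ← Functor.map_comp_apply, ← Functor.map_comp_apply, ← op_comp,
        ← op_comp, pullback.condition]
    let s : Cofork (pullback.fst p p) (pullback.snd p p) := Cofork.ofπ (𝟙 X) (by rw [h12])
    have hq : p ≫ hc.desc s = 𝟙 X := hc.fac s WalkingParallelPair.one
    have : Epi p := inferInstance
    refine ⟨hc.desc s, hq, ?_⟩
    rw [← cancel_epi p, ← Category.assoc, hq, Category.id_comp, Category.comp_id]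
  · intro hmin Y v v' h
    let p := coequalizer.π v v'
    have hcond : p.op ≫ v.op = p.op ≫ v'.op := by
      rw [← op_comp, ← op_comp, coequalizer.condition]
    have hlim : IsLimit (Fork.ofι (f := v.op) (g := v'.op) p.op hcond) :=
      Fork.IsLimit.mk _
        (fun s => (coequalizer.desc s.ι.unop (by
          have := s.condition
          exact Quiver.Hom.op_inj (by simpa using this))).op)
        (fun s => by
          apply Quiver.Hom.unop_inj
          simp [p])
        (fun s m hm => by
          apply Quiver.Hom.unop_inj
          apply coequalizer.hom_ext
          have := congrArg Quiver.Hom.unop hm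
          simpa [p] using this)
    have hlim' := isLimitForkMapOfIsLimit F hcond hlim
    obtain ⟨u', hu', -⟩ := Types.unique_of_type_equalizer _ _ hlim' u h
    have hiso : IsIso p := hmin _ p u' inferInstance hu'
    rw [← cancel_mono p]
    exact coequalizer.condition v v'

end Groth.Agent.S6138
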