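import Groth.Statements.S6139
import Mathlib

set_option autoImplicit false
open CategoryTheory CategoryTheory.Limits
universe v u
open SGA4

namespace Groth.Agent.S6139

/-- For an object `X` of a category `C`, the empty sieve on `X` is covering for the canonical topology
of `C` (the finest topology for which every representable presheaf is a sheaf) if and only if `X` is
a strict initial object: `X` is initial and every morphism with target `X` is an isomorphism. (The
source phrases the first condition as: for some topology coarser than the canonical one the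
associated sheaf of `h_X` is initial; that sheaf is initial exactly when the empty sieve covers `X`,
and coverage by the empty sieve passes to the finer canonical topology.) -/
theorem result
    {C : Type u} [Category.{v} C] (X : C) :
    (⊥ : Sieve X) ∈ Sheaf.canonicalTopology C X ↔
      (Nonempty (IsInitial X) ∧ ∀ (Y : C) (f : Y ⟶ X), IsIso f) := by
  constructor
  · intro h
    have hinit : ∀ (Y : C) (f : Y ⟶ X), Nonempty (IsInitial Y) := by
      intro Y f
      have hmem : ∀ Z : C, Presieve.IsSheafFor (yoneda.obj Z) ((⊥ : Sieve Y) : Presieve Y) := by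
        intro Z
        have h1 := Sheaf.isSheaf_yoneda_obj Z _ ((Sheaf.canonicalTopology C).pullback_stable f h)
        rwa [Sieve.pullback_bot] at h1
      have huniq : ∀ Z : C, ∃! t : Y ⟶ Z, True := by
        intro Z
        let x : Presieve.FamilyOfElements (yoneda.obj Z) ((⊥ : Sieve Y) : Presieve Y) :=
          fun W g hg => False.elim hg
        have hx : x.Compatible := fun W₁ W₂ V g₁ g₂ f₁ f₂ h₁ => False.elim h₁
        obtain ⟨t, -, ht⟩ := hmem Z x hx
        exact ⟨t, trivial, fun t' _ => ht t' (fun W g hg => False.elim hg)⟩
      refine ⟨IsInitial.ofUniqueHom (fun Z => (huniq Z).choose) (fun Z m => ?_)⟩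
      exact (huniq Z).unique trivial trivial
    obtain ⟨hX⟩ := hinit X (𝟙 X)
    refine ⟨⟨hX⟩, fun Y f => ?_⟩
    obtain ⟨hY⟩ := hinit Y f
    have : f = (hY.uniqueUpToIso hX).hom := hY.hom_ext _ _
    rw [this]
    infer_instance
  · rintro ⟨⟨hX⟩, hiso⟩
    apply Sheaf.mem_finestTopology_of_forall_isSheafFor
    rintro P ⟨Z, rfl⟩ Y f
    rw [Sieve.pullback_bot]
    haveI := hiso Y f
    have hY : IsInitial Y := IsInitial.ofIso hX (asIso f).symm
    intro x hx
    refine ⟨hY.to Z, fun W g hg => False.elim hg, fun t' _ => hY.hom_ext _ _⟩

end Groth.Agent.S6139
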