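import Groth.Statements.S6153
import Groth.Agent.Lib.ModSiteFree

set_option autoImplicit false
universe u
open CategoryTheory
open ModSite

namespace Groth.Agent.S6153


open CategoryTheory CategoryTheory.Limits Opposite

open ModSite
open ModSite Groth.Agent.ModSiteFree

/-- Yoneda-style: a natural bijection of hom-sets out of `A` and `B` gives an iso. -/
lemma iso_of_natural_bij {E : Type*} [Category E] {A B : E}
    (e : ∀ M : E, (A ⟶ M) ≃ (B ⟶ M))
    (hnat : ∀ {M N : E} (g : A ⟶ M) (φ : M ⟶ N), e N (g ≫ φ) = e M g ≫ φ) :
    Nonempty (A ≅ B) := by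
  refine ⟨⟨(e B).symm (𝟙 B), e A (𝟙 A), ?_, ?_⟩⟩
  · apply (e A).injective
    rw [hnat, Equiv.apply_symm_apply, Category.id_comp]
  · rw [← hnat, Category.id_comp, Equiv.apply_symm_apply]

variable {C D : Type u} [SmallCategory C] [SmallCategory D] {J : GrothendieckTopology C}
    {K : GrothendieckTopology D} {O_C : Sheaf J CommRingCat.{u}} {O_D : Sheaf K CommRingCat.{u}}

/-- sections of the direct image -/
noncomputable def pushSec (f : ModSite.RMor O_C O_D) (X : D) (M : Mod O_C) :
    (f.push.obj M).val.obj (op X) ≃ M.val.obj (op (f.fn.obj X)) := Equiv.refl _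

lemma pushSec_map (f : ModSite.RMor O_C O_D) (X : D) {M N : Mod O_C} (φ : M ⟶ N)
    (x : (f.push.obj M).val.obj (op X)) :
    pushSec f X N ((f.push.map φ).val.app (op X) x) = φ.val.app (op (f.fn.obj X)) (pushSec f X M x) :=
  rfl

theorem main (f : ModSite.RMor O_C O_D) (X : D) :
    Nonempty (f.pull.obj (ModSite.freeOn O_D X) ≅ ModSite.freeOn O_C (f.fn.obj X)) := by
  refine iso_of_natural_bij
    (fun M => ((f.adj.homEquiv _ M).trans (ev O_D X (f.push.obj M))).trans
      ((pushSec f X M).trans (ev O_C (f.fn.obj X) M).symm)) ?_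
  intro M N g φ
  apply (ev O_C (f.fn.obj X) N).injective
  rw [ev_comp]
  simp only [Equiv.trans_apply, Equiv.apply_symm_apply]
  rw [Adjunction.homEquiv_naturality_right, ev_comp, pushSec_map]

/-- Morphisms of ringed sites between small sites with commutative structure sheaves: for a morphism of
ringed sites f : (C, O_C) -> (D, O_D) given by a functor u : D -> C and every object X of D, the
inverse image f^*(A'_X) of the free O_D-module on X is isomorphic to the free O_C-module A_{u(X)} on
u(X). Existence of an isomorphism of modules only (the source's isomorphism is the canonical one). -/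
theorem result {C D : Type u} [SmallCategory C] [SmallCategory D] {J : GrothendieckTopology C}
    {K : GrothendieckTopology D} {O_C : Sheaf J CommRingCat.{u}} {O_D : Sheaf K CommRingCat.{u}}
    (f : ModSite.RMor O_C O_D) (X : D) :
    Nonempty (f.pull.obj (ModSite.freeOn O_D X) ≅ ModSite.freeOn O_C (f.fn.obj X)) := by
  exact main f X

end Groth.Agent.S6153
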