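import Groth.Statements.S6160
import Mathlib

set_option autoImplicit false
universe u
open CategoryTheory
open ModSite

namespace Groth.Agent.S6160


open CategoryTheory CategoryTheory.Limits Opposite


variable {C : Type u} [SmallCategory C] {J : GrothendieckTopology C}

lemma comp_eq {A B : Sheaf J RingCat.{u}} (φ : A ⟶ B) :
    SheafOfModules.restrictScalars.{u} φ ⋙ SheafOfModules.toSheaf.{u} A = SheafOfModules.toSheaf.{u} B := rfl

/-- `toSheaf` preserves small colimits. -/
theorem toSheaf_preservesColimit (R : Sheaf J RingCat.{u}) {K : Type u} [SmallCategory K]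
    (F : K ⥤ SheafOfModules.{u} R) : PreservesColimit F (SheafOfModules.toSheaf.{u} R) := by
  let L := PresheafOfModules.sheafification.{u} (𝟙 R.obj)
  let e : F ≅ (F ⋙ SheafOfModules.forget R) ⋙ L :=
    Functor.isoWhiskerLeft F
      (asIso (PresheafOfModules.sheafificationAdjunction (𝟙 R.obj)).counit).symm
  let c0 := colimit.cocone (F ⋙ SheafOfModules.forget R)
  have hc0 : IsColimit c0 := colimit.isColimit _
  let c1 := L.mapCocone c0
  have hc1 : IsColimit c1 := isColimitOfPreserves L hc0
  let c : Cocone F := (Cocone.precompose e.hom).obj c1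
  have hc : IsColimit c := (IsColimit.precomposeHomEquiv e c1).symm hc1
  refine preservesColimit_of_preserves_colimit_cocone hc ?_
  -- L ⋙ toSheaf preserves colimits
  haveI : PreservesColimitsOfSize.{u, u} (L ⋙ SheafOfModules.toSheaf.{u} R) :=
    inferInstanceAs (PreservesColimitsOfSize.{u, u}
      (PresheafOfModules.toPresheaf R.obj ⋙ presheafToSheaf J AddCommGrpCat.{u}))
  have h2 : IsColimit ((L ⋙ SheafOfModules.toSheaf.{u} R).mapCocone c0) :=
    isColimitOfPreserves _ hc0
  let e' : F ⋙ SheafOfModules.toSheaf.{u} R ≅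
      (F ⋙ SheafOfModules.forget R) ⋙ (L ⋙ SheafOfModules.toSheaf.{u} R) :=
    Functor.isoWhiskerRight e (SheafOfModules.toSheaf.{u} R)
  have h3 : IsColimit ((Cocone.precompose e'.hom).obj
      ((L ⋙ SheafOfModules.toSheaf.{u} R).mapCocone c0)) :=
    (IsColimit.precomposeHomEquiv e' _).symm h2
  refine IsColimit.ofIsoColimit h3 (Cocone.ext (Iso.refl _) ?_)
  intro k
  simp only [Iso.refl_hom, Category.comp_id]
  rfl

theorem main {A B : Sheaf J RingCat.{u}} (φ : A ⟶ B) :
    PreservesLimitsOfSize.{u, u} (SheafOfModules.restrictScalars.{u} φ) ∧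
    PreservesColimitsOfSize.{u, u} (SheafOfModules.restrictScalars.{u} φ) ∧
    (SheafOfModules.restrictScalars.{u} φ).ReflectsIsomorphisms := by
  refine ⟨⟨fun {K} _ => ⟨fun {F} => ?_⟩⟩, ⟨fun {K} _ => ⟨fun {F} => ?_⟩⟩, ?_⟩
  · -- limits, via underlying presheaves
    let UA := SheafOfModules.forget.{u} A ⋙ PresheafOfModules.toPresheaf A.obj
    let UB := SheafOfModules.forget.{u} B ⋙ PresheafOfModules.toPresheaf B.obj
    have hcomp : SheafOfModules.restrictScalars.{u} φ ⋙ UA = UB := rfl
    haveI : PreservesLimitsOfSize.{u, u} UA := inferInstance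
    haveI : PreservesLimitsOfSize.{u, u} UB := inferInstance
    haveI : UA.ReflectsIsomorphisms :=
      inferInstanceAs ((SheafOfModules.toSheaf.{u} A ⋙ sheafToPresheaf J AddCommGrpCat.{u}).ReflectsIsomorphisms)
    haveI : PreservesLimit F (SheafOfModules.restrictScalars.{u} φ ⋙ UA) := by
      rw [hcomp]; infer_instance
    haveI : ReflectsLimit (F ⋙ SheafOfModules.restrictScalars.{u} φ) UA :=
      reflectsLimit_of_reflectsIsomorphisms _ _
    exact preservesLimit_of_reflects_of_preserves (SheafOfModules.restrictScalars.{u} φ) UA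
  · haveI := toSheaf_preservesColimit B F
    haveI := toSheaf_preservesColimit A (F ⋙ SheafOfModules.restrictScalars.{u} φ)
    haveI : PreservesColimit F (SheafOfModules.restrictScalars.{u} φ ⋙ SheafOfModules.toSheaf.{u} A) := by
      rw [comp_eq]; infer_instance
    haveI : ReflectsColimit (F ⋙ SheafOfModules.restrictScalars.{u} φ) (SheafOfModules.toSheaf.{u} A) :=
      reflectsColimit_of_reflectsIsomorphisms _ _
    exact preservesColimit_of_reflects_of_preserves (SheafOfModules.restrictScalars.{u} φ)
      (SheafOfModules.toSheaf.{u} A)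
  · haveI : (SheafOfModules.restrictScalars.{u} φ ⋙ SheafOfModules.toSheaf.{u} A).ReflectsIsomorphisms := by
      rw [comp_eq]; infer_instance
    exact reflectsIsomorphisms_of_comp (SheafOfModules.restrictScalars.{u} φ) (SheafOfModules.toSheaf.{u} A)

open CategoryTheory.Limits in
/-- Ringed topos of sheaves on a small site; u : A -> B a morphism of sheaves of rings: the
restriction-of-scalars functor from B-Modules to A-Modules commutes with all u-small limits and
colimits and is conservative. -/
theorem result {C : Type u} [SmallCategory C]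
    {J : GrothendieckTopology C} {A B : Sheaf J RingCat.{u}} (φ : A ⟶ B) :
    PreservesLimitsOfSize.{u, u} (SheafOfModules.restrictScalars.{u} φ) ∧
    PreservesColimitsOfSize.{u, u} (SheafOfModules.restrictScalars.{u} φ) ∧
    (SheafOfModules.restrictScalars.{u} φ).ReflectsIsomorphisms := by
  exact main φ

end Groth.Agent.S6160
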