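import Groth.Statements.S6162
import Groth.Agent.Lib.GSS.Grothendieck
import Groth.Agent.Lib.GSS.ExtDer
import Groth.Agent.Lib.PushInjTot
import Groth.Agent.Lib.CohCxAcyclic
import Groth.Agent.Lib.RpushSheafify

set_option autoImplicit false
universe u
open CategoryTheory
open CohSite

namespace Groth.Agent.S6162

open CategoryTheory.Limits in
/-- Existence form of the Leray spectral sequence; abelian sheaves on small sites: let u : D -> C be a
continuous functor between small sites whose pullback on sheaves of sets is exact (a morphism of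
topoi), u_* M = M o u the direct image and R^q u_* its right derived functors. For an abelian sheaf
M on C and an object V of D there is an E_2 spectral sequence of abelian groups, bounded, with
E_2^{p,q} isomorphic to H^p(V, R^q u_* M) for p, q >= 0 and zero otherwise, together with abutment
data whose filtrations are finite on H^n(u(V), M) (n >= 0; zero for n < 0). The E_2 identifications
and the abutment isomorphisms are asserted to exist only; they are not pinned to the canonical maps
of the construction, so edge maps and low-degree exact sequences are not part of this statement. -/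
theorem result {C D : Type u} [SmallCategory C] [SmallCategory D]
    (J : GrothendieckTopology C) (K : GrothendieckTopology D) (u : D ⥤ C) [u.IsContinuous K J]
    [PreservesFiniteLimits (u.sheafPullback (Type u) K J)] (M : Sheaf J AddCommGrpCat.{u}) (V : D) :
    ∃ (E : E₂CohomologicalSpectralSequence AddCommGrpCat.{u})
      (a : SpSeq.Abutment E (fun n : ℤ =>
        if 0 ≤ n then AddCommGrpCat.of (CohSite.HU M n.toNat (u.obj V)) else AddCommGrpCat.of PUnit.{u + 1})),
      (∀ n, a.IsFinite n) ∧ SpSeq.IsBounded E ∧
      ∀ p q : ℤ, Nonempty ((E.page 2 le_rfl).X (p, q) ≅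
        (if 0 ≤ p ∧ 0 ≤ q then AddCommGrpCat.of (CohSite.HU ((CohSite.Rpush J K u q.toNat).obj M) p.toNat V)
         else AddCommGrpCat.of PUnit.{u + 1})) := by
  let T := CohSite.push J K u
  let S : Sheaf K AddCommGrpCat.{u} ⥤ AddCommGrpCat.{u} :=
    sheafToPresheaf K AddCommGrpCat.{u} ⋙ (evaluation Dᵒᵖ AddCommGrpCat.{u}).obj (Opposite.op V)
  have hSder : ∀ (n : ℕ) (G : Sheaf K AddCommGrpCat.{u}),
      Nonempty ((S.rightDerived n).obj G ≅ AddCommGrpCat.of (CohSite.HU G n V)) := fun n G =>
    Groth.Agent.GSS.nonempty_rightDerived_iso_ext S (Groth.Agent.CohSiteBasics.freeSheaf K V)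
      (fun F => Groth.Agent.CohSiteBasics.secAddEquiv V F)
      (fun a φ => Groth.Agent.CohSiteBasics.secEquiv_comp V a φ) n G
  have hTSder : ∀ (n : ℕ) (G : Sheaf J AddCommGrpCat.{u}),
      Nonempty (((T ⋙ S).rightDerived n).obj G ≅ AddCommGrpCat.of (CohSite.HU G n (u.obj V))) := fun n G =>
    Groth.Agent.GSS.nonempty_rightDerived_iso_ext (T ⋙ S) (Groth.Agent.CohSiteBasics.freeSheaf J (u.obj V))
      (fun F => Groth.Agent.CohSiteBasics.secAddEquiv (u.obj V) F)
      (fun a φ => Groth.Agent.CohSiteBasics.secEquiv_comp (u.obj V) a φ) n G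
  have hT : ∀ Q : Sheaf J AddCommGrpCat.{u}, Injective Q → ∀ q : ℕ, 0 < q →
      IsZero ((S.rightDerived q).obj (T.obj Q)) := by
    intro Q hQ q hq
    obtain ⟨q, rfl⟩ := Nat.exists_eq_succ_of_ne_zero (Nat.pos_iff_ne_zero.1 hq)
    obtain ⟨e⟩ := hSder (q + 1) (T.obj Q)
    refine IsZero.of_iso ?_ e
    have := Groth.Agent.CohCxBasics.HU_subsingleton_of_isTotallyAcyclic K _
      (Groth.Agent.PushInjTot.push_injective_isTotallyAcyclic J K u Q) V q
    exact AddCommGrpCat.isZero_of_subsingleton _
  have hP : IsZero (AddCommGrpCat.of PUnit.{u + 1}) := AddCommGrpCat.isZero_of_subsingleton _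
  refine Groth.Agent.GSS.grothendieck T S hT M _ (fun n => ?_) (fun n hn => ?_) _ (fun p q => ?_) (fun p q h => ?_)
  · simp only [Int.natCast_nonneg, if_true, Int.toNat_natCast]
    obtain ⟨e⟩ := hTSder n M
    exact ⟨e.symm⟩
  · rw [if_neg (by omega)]
    exact hP
  · simp only [Int.natCast_nonneg, and_self, if_true, Int.toNat_natCast]
    obtain ⟨e⟩ := hSder p ((CohSite.Rpush J K u q).obj M)
    exact ⟨e.symm⟩
  · rw [if_neg (by omega)]
    exact hP

end Groth.Agent.S6162
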