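import Groth.Statements.S6163
import Groth.Agent.Lib.GSS.Grothendieck
import Groth.Agent.Lib.GSS.DerNatIso
import Groth.Agent.Lib.PushInjTot
import Groth.Agent.Lib.CohCxAcyclic

set_option autoImplicit false
universe u
open CategoryTheory
open scoped ZeroObject
open CohSite

namespace Groth.Agent.S6163

open CategoryTheory.Limits in
/-- Existence form (abelian sheaves; the two morphisms of topoi are given by continuous functors u : D
-> C and w : B -> D between small sites with exact pullback on sheaves of sets; the composite
morphism is given by w followed by u, whose continuity is recorded by a binder that always holds):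
for an abelian sheaf M on C there is a bounded E_2 spectral sequence of abelian sheaves on B with
E_2^{p,q} isomorphic to R^p w_*(R^q u_* M) for p, q >= 0 and zero otherwise, with abutment data
whose filtrations are finite on R^n (u w)_* M (n >= 0; zero for n < 0). The E_2 identifications and
abutment isomorphisms are asserted to exist only, not pinned to the canonical maps. -/
theorem result {C D B : Type u} [SmallCategory C] [SmallCategory D]
    [SmallCategory B] (J : GrothendieckTopology C) (K : GrothendieckTopology D) (L : GrothendieckTopology B)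
    (u : D ⥤ C) [u.IsContinuous K J] [PreservesFiniteLimits (u.sheafPullback (Type u) K J)]
    (w : B ⥤ D) [w.IsContinuous L K] [PreservesFiniteLimits (w.sheafPullback (Type u) L K)]
    [(w ⋙ u).IsContinuous L J] (M : Sheaf J AddCommGrpCat.{u}) :
    ∃ (E : E₂CohomologicalSpectralSequence (Sheaf L AddCommGrpCat.{u}))
      (a : SpSeq.Abutment E (fun n : ℤ =>
        if 0 ≤ n then (CohSite.Rpush J L (w ⋙ u) n.toNat).obj M else 0)),
      (∀ n, a.IsFinite n) ∧ SpSeq.IsBounded E ∧
      ∀ p q : ℤ, Nonempty ((E.page 2 le_rfl).X (p, q) ≅
        (if 0 ≤ p ∧ 0 ≤ q then (CohSite.Rpush K L w p.toNat).obj ((CohSite.Rpush J K u q.toNat).obj M) else 0)) := by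
  let T := CohSite.push J K u
  let S := CohSite.push K L w
  let α : T ⋙ S ≅ CohSite.push J L (w ⋙ u) := Iso.refl _
  have hT : ∀ Q : Sheaf J AddCommGrpCat.{u}, Injective Q → ∀ q : ℕ, 0 < q →
      IsZero ((S.rightDerived q).obj (T.obj Q)) := by
    intro Q hQ q hq
    obtain ⟨q, rfl⟩ := Nat.exists_eq_succ_of_ne_zero (Nat.pos_iff_ne_zero.1 hq)
    exact Groth.Agent.CohCxBasics.Rpush_isZero_of_isTotallyAcyclic K L w _
      (Groth.Agent.PushInjTot.push_injective_isTotallyAcyclic J K u Q) q
  refine Groth.Agent.GSS.grothendieck T S hT M _ (fun n => ?_) (fun n hn => ?_) _ (fun p q => ?_) (fun p q h => ?_)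
  · simp only [Int.natCast_nonneg, if_true, Int.toNat_natCast]
    exact ⟨((Groth.Agent.GSS.rightDerivedNatIso α n).app M).symm⟩
  · rw [if_neg (by omega)]
    exact isZero_zero _
  · simp only [Int.natCast_nonneg, and_self, if_true, Int.toNat_natCast]
    exact ⟨Iso.refl _⟩
  · rw [if_neg (by omega)]
    exact isZero_zero _

end Groth.Agent.S6163
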