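import Groth.Statements.S6164
import Groth.Agent.Lib.GSS.PshSS
import Groth.Agent.Lib.CechPsh

set_option autoImplicit false
universe u
open CategoryTheory
open CohSite

namespace Groth.Agent.S6164

open CategoryTheory.Limits in
/-- Existence form of the spectral sequence of a covering; abelian sheaves on a small site with fibre
products: for a covering family (U_i -> X) and an abelian sheaf M there is a bounded E_2 spectral
sequence of abelian groups with E_2^{p,q} isomorphic to the Cech cohomology group H^p((U_i -> X),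
H^q(M)) of the family with coefficients in the presheaf V |-> H^q(V, M), for p, q >= 0 and zero
otherwise, with abutment data whose filtrations are finite on H^n(X, M) (n >= 0; zero for n < 0).
The E_2 identifications and abutment isomorphisms are asserted to exist only, not pinned to the
canonical maps, so edge maps are not part of this statement. -/
theorem result {C : Type u} [SmallCategory C] [HasPullbacks C]
    (J : GrothendieckTopology C) (M : Sheaf J AddCommGrpCat.{u}) {X : C} {ι : Type u} (Y : ι → Over X)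
    (hY : Sieve.ofArrows (fun i => (Y i).left) (fun i => (Y i).hom) ∈ J X) :
    ∃ (E : E₂CohomologicalSpectralSequence AddCommGrpCat.{u})
      (a : SpSeq.Abutment E (fun n : ℤ =>
        if 0 ≤ n then AddCommGrpCat.of (CohSite.HU M n.toNat X) else AddCommGrpCat.of PUnit.{u + 1})),
      (∀ n, a.IsFinite n) ∧ SpSeq.IsBounded E ∧
      ∀ p q : ℤ, Nonempty ((E.page 2 le_rfl).X (p, q) ≅
        (if 0 ≤ p ∧ 0 ≤ q then CohCx.cechH (M.cohomologyPresheaf q.toNat) Y p.toNat
         else AddCommGrpCat.of PUnit.{u + 1})) := by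
  let R : Sieve X := Sieve.ofArrows (fun i => (Y i).left) (fun i => (Y i).hom)
  let T := Groth.Agent.PshExt.Ψ J
  let S := Groth.Agent.GSS.homFree (C := C) R.functor
  have hTSder : ∀ (n : ℕ) (G : Sheaf J AddCommGrpCat.{u}),
      Nonempty (((T ⋙ S).rightDerived n).obj G ≅ AddCommGrpCat.of (CohSite.HU G n X)) := fun n G =>
    Groth.Agent.GSS.nonempty_rightDerived_iso_ext (T ⋙ S) (Groth.Agent.CohSiteBasics.freeSheaf J X)
      (fun F => AddEquiv.ofBijective (Groth.Agent.PshExt.eHom R F) (Groth.Agent.PshExt.eHom_bijective R hY F))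
      (fun a φ => Groth.Agent.PshExt.eHom_comp R a φ) n G
  have hT : ∀ Q : Sheaf J AddCommGrpCat.{u}, Injective Q → ∀ q : ℕ, 0 < q →
      IsZero ((S.rightDerived q).obj (T.obj Q)) := fun Q hQ q hq =>
    Groth.Agent.GSS.isZero_homFree_Ψ_injective J R.functor Q q hq
  have hP : IsZero (AddCommGrpCat.of PUnit.{u + 1}) := AddCommGrpCat.isZero_of_subsingleton _
  refine Groth.Agent.GSS.grothendieck T S hT M _ (fun n => ?_) (fun n hn => ?_) _ (fun p q => ?_) (fun p q h => ?_)
  · simp only [Int.natCast_nonneg, if_true, Int.toNat_natCast]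
    obtain ⟨e⟩ := hTSder n M
    exact ⟨e.symm⟩
  · rw [if_neg (by omega)]
    exact hP
  · simp only [Int.natCast_nonneg, and_self, if_true, Int.toNat_natCast]
    obtain ⟨e1⟩ := Groth.Agent.GSS.nonempty_Ψ_rightDerived_iso J M q
    obtain ⟨e2⟩ := Groth.Agent.GSS.nonempty_homFree_rightDerived_iso (C := C) R.functor
      ⟨M.cohomologyPresheaf q, Presheaf.isSheaf_bot _⟩ p
    obtain ⟨e3⟩ := Groth.Agent.CechPsh.nonempty_cech_equiv_ext (Y := Y)
      (F := ⟨M.cohomologyPresheaf q, Presheaf.isSheaf_bot _⟩) p
    have e3' : (CohCx.cechH (M.cohomologyPresheaf q) Y p : AddCommGrpCat.{u}) ≃+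
        Abelian.Ext (Groth.Agent.PshExt.freeBot R.functor)
          (⟨M.cohomologyPresheaf q, Presheaf.isSheaf_bot _⟩ :
            Sheaf (⊥ : GrothendieckTopology C) AddCommGrpCat.{u}) p := e3
    exact ⟨(AddEquiv.toAddCommGrpIso e3') ≪≫ e2.symm ≪≫ ((S.rightDerived p).mapIso e1).symm⟩
  · rw [if_neg (by omega)]
    exact hP

end Groth.Agent.S6164
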