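import Groth.Statements.S6172
import Mathlib

set_option autoImplicit false
universe u
open CategoryTheory
open SGA4

namespace Groth.Agent.S6172

open CategoryTheory.Limits MonoidalCategory in
/-- Topos E of sheaves of sets on a small site, localised at an object Z: with j_Z : E/Z -> E the
localisation morphism, j_Z^* X = Z x X over Z, and j_{Z*} its right adjoint (taken as an instance
hypothesis, which holds in any topos), j_{Z*} j_Z^* Y is isomorphic to the internal hom Hom(Z, Y)
for every object Y. Existence of an isomorphism only (the source's is canonical). -/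
theorem result {C : Type u} [SmallCategory C] (J : GrothendieckTopology C)
    (Z Y : Sheaf J (Type u)) [(Over.star Z).IsLeftAdjoint] :
    Nonempty (((Over.star Z).rightAdjoint).obj ((Over.star Z).obj Y) ≅ (ihom Z).obj Y) := by
  classical
  let R := (Over.star Z).rightAdjoint
  have adj0 : Over.star Z ⊣ R := Adjunction.ofIsLeftAdjoint (Over.star Z)
  have adj1 : Over.star Z ⋙ Over.forget Z ⊣ Over.star Z ⋙ R := adj0.comp (Over.forgetAdjStar Z)
  have adj2 : MonoidalCategory.tensorLeft Z ⊣ ihom Z := ihom.adjunction Z
  let i : ∀ Y : Sheaf J (Type u), (Z ⨯ Y) ≅ Z ⊗ Y := fun Y =>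
    (Limits.limit.isLimit (Limits.pair Z Y)).conePointUniqueUpToIso
        (CartesianMonoidalCategory.tensorProductIsBinaryProduct Z Y)
  have h1 : ∀ Y, (i Y).hom ≫ SemiCartesianMonoidalCategory.fst Z Y = Limits.prod.fst := fun Y =>
    Limits.IsLimit.conePointUniqueUpToIso_hom_comp _ _ (Discrete.mk Limits.WalkingPair.left)
  have h2 : ∀ Y, (i Y).hom ≫ SemiCartesianMonoidalCategory.snd Z Y = Limits.prod.snd := fun Y =>
    Limits.IsLimit.conePointUniqueUpToIso_hom_comp _ _ (Discrete.mk Limits.WalkingPair.right)
  let e : Over.star Z ⋙ Over.forget Z ≅ MonoidalCategory.tensorLeft Z :=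
    NatIso.ofComponents (fun Y => i Y)
      (by
        intro Y Y' f
        change Limits.prod.map (𝟙 Z) f ≫ (i Y').hom = (i Y).hom ≫ (Z ◁ f)
        apply CartesianMonoidalCategory.hom_ext
        · rw [Category.assoc, Category.assoc, h1]
          erw [CartesianMonoidalCategory.whiskerLeft_fst]
          rw [h1, Limits.prod.map_fst, Category.comp_id]
        · rw [Category.assoc, Category.assoc, h2]
          erw [CartesianMonoidalCategory.whiskerLeft_snd]
          rw [← Category.assoc, h2, Limits.prod.map_snd])
  exact ⟨(Adjunction.rightAdjointUniq adj1 (adj2.ofNatIsoLeft e.symm)).app Y⟩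

end Groth.Agent.S6172
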