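import Groth.Statements.S6264
import Mathlib

set_option autoImplicit false
universe u
open CAlg

namespace Groth.Agent.S6264

/-- Let R → S be a ring map with the going-up property and p a prime of R such that exactly one prime q
of S lies over p. Then the localization S_p of S at the image of R - p is a localization of S at q,
i.e. S_p = S_q. -/
theorem result {R S : Type u} [CommRing R] [CommRing S] [Algebra R S] [Algebra.HasGoingUp R S] (p : Ideal R) [p.IsPrime] (q : Ideal S) [q.IsPrime] [q.LiesOver p] (huniq : ∀ q' : Ideal S, q'.IsPrime → q'.under R = p → q' = q) : IsLocalization.AtPrime (Localization (Algebra.algebraMapSubmonoid S p.primeCompl)) q := by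
  show IsLocalization q.primeCompl (Localization (Algebra.algebraMapSubmonoid S p.primeCompl))
  apply IsLocalization.of_le (Algebra.algebraMapSubmonoid S p.primeCompl) q.primeCompl
  · rintro _ ⟨r, hr, rfl⟩ hmem
    apply hr
    have h1 : r ∈ q.under R := hmem
    rwa [← Ideal.over_def q p] at h1
  · intro t ht
    by_contra hnu
    obtain ⟨m, hm, htm⟩ := exists_max_ideal_of_mem_nonunits hnu
    haveI := hm.isPrime
    let q' : Ideal S := m.comap (algebraMap S (Localization (Algebra.algebraMapSubmonoid S p.primeCompl)))
    haveI : q'.IsPrime := Ideal.comap_isPrime _ _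
    have hle : q'.under R ≤ p := by
      intro r hr
      by_contra hrp
      have h1 : algebraMap R S r ∈ Algebra.algebraMapSubmonoid S p.primeCompl := ⟨r, hrp, rfl⟩
      have h2 : IsUnit (algebraMap S (Localization (Algebra.algebraMapSubmonoid S p.primeCompl))
          (algebraMap R S r)) := IsLocalization.map_units _ ⟨_, h1⟩
      have h3 : algebraMap S (Localization (Algebra.algebraMapSubmonoid S p.primeCompl))
          (algebraMap R S r) ∈ m := hr
      exact hm.ne_top (Ideal.eq_top_of_isUnit_mem _ h3 h2)
    haveI : q'.LiesOver (q'.under R) := ⟨rfl⟩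
    haveI : (q'.under R).IsPrime := Ideal.comap_isPrime _ _
    obtain ⟨Q, hQ, hQp, hQo⟩ := Ideal.exists_ideal_ge_liesOver_of_le (p := q'.under R) (q := p) q' hle
    have hQq : Q = q := huniq Q hQp (hQo.over.symm)
    apply ht
    rw [← hQq]
    exact hQ htm

end Groth.Agent.S6264
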