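import Groth.Statements.S6265
import Mathlib

set_option autoImplicit false
universe u
open CAlg

namespace Groth.Agent.S6265

/-- Let R → S be a ring map with the going-down property such that over every prime of R lies at most
one prime of S, and let p be a prime of R and q a prime of S above it. Then the localization S_p of
S at the image of R - p is a localization of S at q, i.e. S_p = S_q. -/
theorem result {R S : Type u} [CommRing R] [CommRing S] [Algebra R S] [Algebra.HasGoingDown R S] (hinj : ∀ q₁ q₂ : Ideal S, q₁.IsPrime → q₂.IsPrime → q₁.under R = q₂.under R → q₁ = q₂) (p : Ideal R) [p.IsPrime] (q : Ideal S) [q.IsPrime] [q.LiesOver p] : IsLocalization.AtPrime (Localization (Algebra.algebraMapSubmonoid S p.primeCompl)) q := by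
  show IsLocalization q.primeCompl (Localization (Algebra.algebraMapSubmonoid S p.primeCompl))
  apply IsLocalization.of_le (Algebra.algebraMapSubmonoid S p.primeCompl) q.primeCompl
  · rintro _ ⟨r, hr, rfl⟩ hmem
    apply hr
    have h1 : r ∈ q.under R := hmem
    rwa [← Ideal.over_def q p] at h1
  · intro t ht
    by_contra hnu
    obtain ⟨m, hm, htm⟩ := exists_max_ideal_of_mem_nonunits hnu
    haveI := hm.isPrime
    let q' : Ideal S := m.comap (algebraMap S (Localization (Algebra.algebraMapSubmonoid S p.primeCompl)))
    haveI : q'.IsPrime := Ideal.comap_isPrime _ _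
    have hle : q'.under R ≤ p := by
      intro r hr
      by_contra hrp
      have h1 : algebraMap R S r ∈ Algebra.algebraMapSubmonoid S p.primeCompl := ⟨r, hrp, rfl⟩
      have h2 : IsUnit (algebraMap S (Localization (Algebra.algebraMapSubmonoid S p.primeCompl))
          (algebraMap R S r)) := IsLocalization.map_units _ ⟨_, h1⟩
      have h3 : algebraMap S (Localization (Algebra.algebraMapSubmonoid S p.primeCompl))
          (algebraMap R S r) ∈ m := hr
      exact hm.ne_top (Ideal.eq_top_of_isUnit_mem _ h3 h2)
    haveI : (q'.under R).IsPrime := Ideal.comap_isPrime _ _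
    obtain ⟨Q, hQ, hQp, hQo⟩ := Ideal.exists_ideal_le_liesOver_of_le (p := q'.under R) (q := p) q hle
    have hQq : Q = q' := hinj Q q' hQp inferInstance (hQo.over.symm)
    apply ht
    apply hQ
    rw [hQq]
    exact htm

end Groth.Agent.S6265
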