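import Groth.Statements.S6267
import Mathlib

set_option autoImplicit false
universe u
open CAlg

namespace Groth.Agent.S6267

/-- Let R be a ring and f : M → M' a map of R-modules with M' flat. Then f is universally injective
exactly when, for each finitely generated ideal I of R, the induced map M ⊗ R/I → M' ⊗ R/I (that is,
M/IM → M'/IM') is injective. -/
theorem result {R : Type u} [CommRing R] {M M' : Type u} [AddCommGroup M] [Module R M] [AddCommGroup M'] [Module R M'] [Module.Flat R M'] (f : M →ₗ[R] M') : CAlgX.UniversallyInjective R f ↔ ∀ I : Ideal R, I.FG → Function.Injective (f.rTensor (R ⧸ I)) := by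
  constructor
  · intro h I _
    exact h (R ⧸ I)
  · intro h
    have hf0 : Function.Injective f := by
      rw [injective_iff_map_eq_zero]
      intro m hm
      have h1 : (TensorProduct.tmul R m (1 : R ⧸ (⊥ : Ideal R))) = 0 := by
        apply h ⊥ Submodule.fg_bot
        rw [LinearMap.rTensor_tmul, hm, TensorProduct.zero_tmul, map_zero]
      have he : (Submodule.quotEquivOfEqBot (⊥ : Ideal R) rfl) (1 : R ⧸ (⊥ : Ideal R)) = 1 :=
        Submodule.quotEquivOfEqBot_apply_mk ⊥ rfl 1
      have h2 := congrArg (fun z => TensorProduct.rid R M
        (LinearMap.lTensor M (Submodule.quotEquivOfEqBot (⊥ : Ideal R) rfl).toLinearMap z)) h1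
      simp only [LinearMap.lTensor_tmul, LinearEquiv.coe_coe, TensorProduct.rid_tmul, he, one_smul,
        map_zero] at h2
      exact h2
    have hexact : Function.Exact f (LinearMap.range f).mkQ := LinearMap.exact_map_mkQ_range f
    have hπ : Function.Surjective (LinearMap.range f).mkQ := Submodule.mkQ_surjective _
    have hπf : (LinearMap.range f).mkQ ∘ₗ f = 0 := by
      apply LinearMap.ext
      intro m
      exact hexact.apply_apply_eq_zero m
    haveI : Module.Flat R (M' ⧸ LinearMap.range f) := by
      rw [Module.Flat.iff_lTensor_injective]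
      intro I hI
      rw [injective_iff_map_eq_zero]
      intro z hz
      obtain ⟨z', rfl⟩ := LinearMap.rTensor_surjective I hπ z
      have hy : ((LinearMap.range f).mkQ.rTensor R) ((I.subtype.lTensor M') z') = 0 := by
        rw [← LinearMap.comp_apply, LinearMap.rTensor_comp_lTensor,
          ← LinearMap.lTensor_comp_rTensor, LinearMap.comp_apply, hz]
      obtain ⟨x, hx⟩ := (rTensor_exact R hexact hπ _).mp hy
      have hx2 : (f.rTensor (R ⧸ I)) ((I.mkQ.lTensor M) x) = 0 := by
        rw [← LinearMap.comp_apply, LinearMap.rTensor_comp_lTensor,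
          ← LinearMap.lTensor_comp_rTensor, LinearMap.comp_apply, hx, ← LinearMap.comp_apply,
          ← LinearMap.lTensor_comp]
        have h0 : I.mkQ ∘ₗ I.subtype = 0 := by
          apply LinearMap.ext
          intro a
          exact (LinearMap.exact_subtype_mkQ I).apply_apply_eq_zero a
        rw [h0, LinearMap.lTensor_zero, LinearMap.zero_apply]
      have hx3 : (I.mkQ.lTensor M) x = 0 := (injective_iff_map_eq_zero _).mp (h I hI) _ hx2
      obtain ⟨w, hw⟩ := (lTensor_exact M (LinearMap.exact_subtype_mkQ I)
        (Submodule.mkQ_surjective I) _).mp hx3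
      have hz' : (f.rTensor I) w = z' := by
        apply Module.Flat.lTensor_preserves_injective_linearMap (M := M') I.subtype
          (Submodule.subtype_injective I)
        rw [← hx, ← hw, ← LinearMap.comp_apply, ← LinearMap.comp_apply,
          LinearMap.lTensor_comp_rTensor, LinearMap.rTensor_comp_lTensor]
      rw [← hz', ← LinearMap.comp_apply, ← LinearMap.rTensor_comp, hπf, LinearMap.rTensor_zero,
        LinearMap.zero_apply]
    intro Q _ _
    rw [← LinearMap.lTensor_inj_iff_rTensor_inj]
    exact LinearMap.lTensor_injective_of_exact_of_flat (LinearMap.range f).mkQ hπ f hf0 hexact Q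

end Groth.Agent.S6267
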