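import Groth.Statements.S6269
import Mathlib

set_option autoImplicit false
universe u
open CAlg

namespace Groth.Agent.S6269

/-- Let 0 → M₁ → M₂ → M₃ → 0 be a universally exact sequence of R-modules (a short exact sequence whose
first map is universally injective) with M₂ flat. Then M₁ and M₃ are flat. -/
theorem result {R : Type u} [CommRing R] {M₁ M₂ M₃ : Type u} [AddCommGroup M₁] [Module R M₁] [AddCommGroup M₂] [Module R M₂] [AddCommGroup M₃] [Module R M₃] (f : M₁ →ₗ[R] M₂) (g : M₂ →ₗ[R] M₃) (hexact : Function.Exact f g) (hg : Function.Surjective g) (hf : CAlgX.UniversallyInjective R f) [Module.Flat R M₂] : Module.Flat R M₁ ∧ Module.Flat R M₃ := by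
  classical
  constructor
  · rw [Module.Flat.iff_lTensor_preserves_injective_linearMap]
    intro N N' _ _ _ _ L hL
    have hcomm : (f.rTensor N') ∘ₗ (L.lTensor M₁) = (L.lTensor M₂) ∘ₗ (f.rTensor N) := by
      rw [LinearMap.rTensor_comp_lTensor, LinearMap.lTensor_comp_rTensor]
    have hinj : Function.Injective ((L.lTensor M₂) ∘ₗ (f.rTensor N)) := by
      rw [LinearMap.coe_comp]
      exact (Module.Flat.lTensor_preserves_injective_linearMap L hL).comp (hf N)
    rw [← hcomm, LinearMap.coe_comp] at hinj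
    exact Function.Injective.of_comp hinj
  · rw [Module.Flat.iff_lTensor_injective']
    intro I
    rw [injective_iff_map_eq_zero]
    intro x hx
    obtain ⟨y, rfl⟩ := LinearMap.rTensor_surjective I hg x
    have hc1 : (g.rTensor R) ∘ₗ (I.subtype.lTensor M₂) =
        (I.subtype.lTensor M₃) ∘ₗ (g.rTensor I) := by
      rw [LinearMap.rTensor_comp_lTensor, LinearMap.lTensor_comp_rTensor]
    have h1 : (g.rTensor R) ((I.subtype.lTensor M₂) y) = 0 := by
      calc (g.rTensor R) ((I.subtype.lTensor M₂) y)
          = ((g.rTensor R) ∘ₗ (I.subtype.lTensor M₂)) y := rfl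
        _ = ((I.subtype.lTensor M₃) ∘ₗ (g.rTensor I)) y := by rw [hc1]
        _ = 0 := hx
    obtain ⟨z, hz⟩ := (rTensor_exact R hexact hg _).mp h1
    have h2 : (I.mkQ.lTensor M₁) z = 0 := by
      apply hf (R ⧸ I)
      rw [map_zero]
      calc (f.rTensor (R ⧸ I)) ((I.mkQ.lTensor M₁) z)
          = ((f.rTensor (R ⧸ I)) ∘ₗ (I.mkQ.lTensor M₁)) z := rfl
        _ = ((I.mkQ.lTensor M₂) ∘ₗ (f.rTensor R)) z := by
            rw [LinearMap.rTensor_comp_lTensor, LinearMap.lTensor_comp_rTensor]
        _ = (I.mkQ.lTensor M₂) ((I.subtype.lTensor M₂) y) := by rw [LinearMap.comp_apply, hz]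
        _ = ((I.mkQ.lTensor M₂) ∘ₗ (I.subtype.lTensor M₂)) y := rfl
        _ = 0 := by
            rw [← LinearMap.lTensor_comp, (LinearMap.exact_subtype_mkQ I).linearMap_comp_eq_zero,
              LinearMap.lTensor_zero, LinearMap.zero_apply]
    obtain ⟨w, hw⟩ := (lTensor_exact M₁ (LinearMap.exact_subtype_mkQ I)
      (Submodule.mkQ_surjective I) z).mp h2
    have h3 : (f.rTensor I) w = y := by
      apply Module.Flat.lTensor_preserves_injective_linearMap (M := M₂) I.subtype
        I.injective_subtype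
      calc (I.subtype.lTensor M₂) ((f.rTensor I) w)
          = ((I.subtype.lTensor M₂) ∘ₗ (f.rTensor I)) w := rfl
        _ = ((f.rTensor R) ∘ₗ (I.subtype.lTensor M₁)) w := by
            rw [LinearMap.rTensor_comp_lTensor, LinearMap.lTensor_comp_rTensor]
        _ = (f.rTensor R) z := by rw [LinearMap.comp_apply, hw]
        _ = (I.subtype.lTensor M₂) y := hz
    rw [← h3]
    calc (g.rTensor I) ((f.rTensor I) w) = ((g.rTensor I) ∘ₗ (f.rTensor I)) w := rfl
      _ = 0 := by
          rw [← LinearMap.rTensor_comp, hexact.linearMap_comp_eq_zero, LinearMap.rTensor_zero,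
            LinearMap.zero_apply]

end Groth.Agent.S6269
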