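import Groth.Statements.S6273
import Mathlib

set_option autoImplicit false
universe u
open CAlg

namespace Groth.Agent.S6273

/-- Let R be a ring, S ⊆ R a multiplicative subset and A = S⁻¹R. If the image of Spec(A) → Spec(R) is
closed, then the localization map R → A is surjective; in particular A is isomorphic to R/I for the
ideal I = ker(R → A). -/
theorem result {R : Type u} [CommRing R] (S : Submonoid R) (A : Type u) [CommRing A] [Algebra R A] [IsLocalization S A] (hcl : IsClosed (Set.range (PrimeSpectrum.comap (algebraMap R A)))) : Function.Surjective (algebraMap R A) := by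
  let I : Ideal R := RingHom.ker (algebraMap R A)
  have hrange : Set.range (PrimeSpectrum.comap (algebraMap R A)) = PrimeSpectrum.zeroLocus (I : Set R) := by
    rw [← PrimeSpectrum.closure_range_comap, hcl.closure_eq]
  have hunit : ∀ s ∈ S, ∃ t : R, algebraMap R A s * algebraMap R A t = 1 := by
    intro s hs
    have htop : Ideal.span {s} ⊔ I = ⊤ := by
      by_contra hne
      obtain ⟨m, hm, hle⟩ := Ideal.exists_le_maximal _ hne
      have hmem : (⟨m, hm.isPrime⟩ : PrimeSpectrum R) ∈ PrimeSpectrum.zeroLocus (I : Set R) := by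
        rw [PrimeSpectrum.mem_zeroLocus]
        exact (le_sup_right.trans hle : I ≤ m)
      rw [← hrange] at hmem
      obtain ⟨q, hq⟩ := hmem
      have hsm : s ∈ m := hle (Ideal.mem_sup_left (Ideal.mem_span_singleton_self s))
      have hsq : algebraMap R A s ∈ q.asIdeal := by
        have : s ∈ (PrimeSpectrum.comap (algebraMap R A) q).asIdeal := by rw [hq]; exact hsm
        exact this
      exact q.2.ne_top (Ideal.eq_top_of_isUnit_mem _ hsq (IsLocalization.map_units A ⟨s, hs⟩))
    have h1 : (1 : R) ∈ Ideal.span {s} ⊔ I := by rw [htop]; trivial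
    obtain ⟨a, ha, i, hi, hai⟩ := Submodule.mem_sup.mp h1
    obtain ⟨t, rfl⟩ := Ideal.mem_span_singleton'.mp ha
    refine ⟨t, ?_⟩
    have hi0 : algebraMap R A i = 0 := hi
    rw [← map_mul, ← map_one (algebraMap R A), ← hai, map_add, hi0, add_zero, mul_comm]
  intro a
  obtain ⟨⟨r, s⟩, hrs⟩ := IsLocalization.surj S a
  obtain ⟨t, ht⟩ := hunit s s.2
  refine ⟨r * t, ?_⟩
  have hrs' : a * algebraMap R A s = algebraMap R A r := hrs
  rw [map_mul, ← hrs', mul_assoc, ht, mul_one]

end Groth.Agent.S6273
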