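import Groth.Statements.S6275
import Mathlib

set_option autoImplicit false
universe u
open CAlg

namespace Groth.Agent.S6275

/-- Let R be a Noetherian ring and p ⊆ R a prime. Then there is f ∈ R, f ∉ p, such that R_f → R_p is
injective; equivalently every x ∈ R mapping to zero in R_p maps to zero in R_f. (The cases of a
domain and of a reduced ring with finitely many minimal primes are not included here.) -/
theorem result {R : Type u} [CommRing R] [IsNoetherianRing R] (p : Ideal R) [p.IsPrime] : ∃ f : R, f ∉ p ∧ ∀ x : R, algebraMap R (Localization.AtPrime p) x = 0 → algebraMap R (Localization.Away f) x = 0 := by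
  classical
  let K : Ideal R := RingHom.ker (algebraMap R (Localization.AtPrime p))
  obtain ⟨T, hT⟩ : K.FG := IsNoetherian.noetherian K
  have hker : ∀ x ∈ K, ∃ s : R, s ∉ p ∧ s * x = 0 := by
    intro x hx
    have hx' : algebraMap R (Localization.AtPrime p) x = 0 := hx
    rw [IsLocalization.map_eq_zero_iff p.primeCompl] at hx'
    obtain ⟨m, hm⟩ := hx'
    exact ⟨m, m.2, hm⟩
  have hT' : ∀ x ∈ T, x ∈ K := fun x hx => hT ▸ Submodule.subset_span hx
  choose! sf hsf1 hsf2 using hker
  let f : R := ∏ x ∈ T, sf x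
  have hfp : f ∉ p := by
    intro hf
    rw [Ideal.IsPrime.prod_mem_iff] at hf
    obtain ⟨x, hxT, hx⟩ := hf
    exact hsf1 x (hT' x hxT) hx
  refine ⟨f, hfp, fun x hx => ?_⟩
  have hxK : x ∈ K := hx
  have hfx : f * x = 0 := by
    rw [← hT] at hxK
    refine Submodule.span_induction (p := fun y _ => f * y = 0) ?_ ?_ ?_ ?_ hxK
    · intro y hy
      have hdvd : sf y ∣ f := Finset.dvd_prod_of_mem sf hy
      obtain ⟨c, hc⟩ := hdvd
      rw [hc, mul_comm (sf y) c, mul_assoc, hsf2 y (hT' y hy), mul_zero]
    · exact mul_zero f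
    · intro a b _ _ ha hb
      rw [mul_add, ha, hb, add_zero]
    · intro a b _ hb
      rw [smul_eq_mul, mul_left_comm, hb, mul_zero]
  rw [IsLocalization.map_eq_zero_iff (Submonoid.powers f)]
  exact ⟨⟨f, Submonoid.mem_powers f⟩, hfx⟩

end Groth.Agent.S6275
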