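import Groth.Statements.S6278
import Mathlib
import Groth.Agent.Lib.helper5.NormalProd

set_option autoImplicit false
universe u
open CAlg

namespace Groth.Agent.S6278

/-- A normal ring R (all localizations at primes are integrally closed domains) is integrally closed in
its total ring of fractions. -/
theorem result (R : Type u) [CommRing R] (hR : EGA4.IsNormalRing R) : IsIntegrallyClosedIn R (FractionRing R) := by
  classical
  rw [isIntegrallyClosedIn_iff]
  refine ⟨IsLocalization.injective (FractionRing R) (le_refl (nonZeroDivisors R)), ?_⟩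
  intro z hz
  obtain ⟨a, s, rfl⟩ := IsLocalization.exists_mk'_eq (nonZeroDivisors R) z
  obtain ⟨p, hpm, hp⟩ := hz
  have h1 : Polynomial.aeval (algebraMap R (FractionRing R) a) (Polynomial.scaleRoots p s) = 0 :=
    scaleRoots_aeval_eq_zero_of_aeval_mk'_eq_zero (by rw [Polynomial.aeval_def]; exact hp)
  have h2 : (Polynomial.scaleRoots p (s : R)).eval a = 0 := by
    apply IsLocalization.injective (FractionRing R) (le_refl (nonZeroDivisors R))
    rw [map_zero, ← h1, Polynomial.aeval_def, Polynomial.eval₂_at_apply]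
  let D : Ideal R :=
    { carrier := {r | ∃ b, r * a = (s : R) * b}
      zero_mem' := ⟨0, by simp⟩
      add_mem' := by
        rintro x y ⟨b, hb⟩ ⟨c, hc⟩
        exact ⟨b + c, by rw [add_mul, hb, hc, mul_add]⟩
      smul_mem' := by
        rintro c x ⟨b, hb⟩
        exact ⟨c * b, by rw [smul_eq_mul, mul_assoc, hb]; ring⟩ }
  have hD : ∀ r, r ∈ D ↔ ∃ b, r * a = (s : R) * b := fun r => Iff.rfl
  suffices h1D : (1 : R) ∈ D by
    obtain ⟨b, hb⟩ := (hD 1).mp h1D
    refine ⟨b, ?_⟩
    rw [IsLocalization.eq_mk'_iff_mul_eq, ← map_mul]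
    congr 1
    rw [mul_comm, ← hb, one_mul]
  by_contra hne
  have hDne : D ≠ ⊤ := fun h => hne (h ▸ Submodule.mem_top)
  obtain ⟨m, hm, hDm⟩ := Ideal.exists_le_maximal D hDne
  haveI := hm.isPrime
  obtain ⟨hdom, hic⟩ := hR m
  have hs_ne : algebraMap R (Localization.AtPrime m) s ≠ 0 := by
    intro h0
    obtain ⟨t, ht⟩ := (IsLocalization.map_eq_zero_iff m.primeCompl (Localization.AtPrime m)
      (s : R)).mp h0
    have ht0 : (t : R) = 0 := (mul_right_mem_nonZeroDivisors_eq_zero_iff s.2).mp ht
    exact t.2 (ht0 ▸ m.zero_mem)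
  have hroot : (Polynomial.scaleRoots (p.map (algebraMap R (Localization.AtPrime m)))
      (algebraMap R (Localization.AtPrime m) s)).eval
      (algebraMap R (Localization.AtPrime m) a) = 0 := by
    have hlc : (algebraMap R (Localization.AtPrime m)) p.leadingCoeff ≠ 0 := by
      rw [hpm.leadingCoeff, map_one]; exact one_ne_zero
    rw [← Polynomial.map_scaleRoots p (s : R) (algebraMap R (Localization.AtPrime m)) hlc,
      Polynomial.eval_map, Polynomial.eval₂_at_apply, h2, map_zero]
  obtain ⟨w, hw⟩ := H5NP.H5_dvd_of_scaleRoots (algebraMap R (Localization.AtPrime m) a)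
    (algebraMap R (Localization.AtPrime m) s) (p.map (algebraMap R (Localization.AtPrime m)))
    hs_ne (hpm.map _) hroot
  obtain ⟨b, t, rfl⟩ := IsLocalization.exists_mk'_eq m.primeCompl w
  have h3 : algebraMap R (Localization.AtPrime m) (t * a) =
      algebraMap R (Localization.AtPrime m) (s * b) := by
    rw [map_mul, map_mul, hw, ← IsLocalization.mk'_spec (Localization.AtPrime m) b t]
    ring
  obtain ⟨c, hc⟩ := (IsLocalization.eq_iff_exists m.primeCompl (Localization.AtPrime m)).mp h3
  have hmem : (c : R) * t ∈ D := ⟨c * b, by rw [mul_assoc, hc]; ring⟩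
  exact (m.primeCompl.mul_mem c.2 t.2) (hDm hmem)

end Groth.Agent.S6278
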