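import Groth.Statements.S6279
import Mathlib

set_option autoImplicit false
universe u
open CAlg

namespace Groth.Agent.S6279

/-- A finite product of normal rings is normal (a ring is normal when every localization at a prime is
an integrally closed domain). -/
theorem result {ι : Type u} [Finite ι] (A : ι → Type u) [∀ i, CommRing (A i)] (hA : ∀ i, EGA4.IsNormalRing (A i)) : EGA4.IsNormalRing (∀ i, A i) := by
  classical
  intro p hp
  obtain ⟨⟨i, q⟩, hq⟩ := (PrimeSpectrum.sigmaToPi_bijective A).2 ⟨p, hp⟩
  have hpq : p = Ideal.comap (Pi.evalRingHom A i) q.asIdeal := by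
    have := congrArg PrimeSpectrum.asIdeal hq
    rw [PrimeSpectrum.sigmaToPi_apply] at this
    exact this.symm
  haveI := q.isPrime
  obtain ⟨hdom, hic⟩ := hA i q.asIdeal
  letI alg : Algebra (∀ i, A i) (Localization.AtPrime q.asIdeal) :=
    ((algebraMap (A i) (Localization.AtPrime q.asIdeal)).comp (Pi.evalRingHom A i)).toAlgebra
  have halg : ∀ a : (∀ i, A i), algebraMap (∀ i, A i) (Localization.AtPrime q.asIdeal) a
      = algebraMap (A i) _ (a i) := fun a => rfl
  have hmem : ∀ a : (∀ i, A i), a ∈ p ↔ a i ∈ q.asIdeal := by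
    intro a; rw [hpq]; rfl
  have hsingle : ∀ t : A i, t ∉ q.asIdeal → (Pi.single i t : ∀ i, A i) ∈ p.primeCompl := by
    intro t ht hmem'
    apply ht
    have := (hmem _).1 hmem'
    simpa using this
  haveI : IsLocalization.AtPrime (Localization.AtPrime q.asIdeal) p := by
    refine (isLocalization_iff _ _).2 ⟨?_, ?_, ?_⟩
    · rintro ⟨s, hs⟩
      rw [halg]
      exact IsLocalization.map_units (M := q.asIdeal.primeCompl) _
        ⟨s i, fun h => hs ((hmem s).2 h)⟩
    · intro z
      obtain ⟨⟨a, t⟩, h⟩ := IsLocalization.surj q.asIdeal.primeCompl z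
      refine ⟨⟨Pi.single i a, ⟨Pi.single i t.1, hsingle _ t.2⟩⟩, ?_⟩
      simp only [halg, Pi.single_eq_same]
      exact h
    · intro a b hab
      rw [halg, halg] at hab
      obtain ⟨t, ht⟩ := IsLocalization.exists_of_eq (M := q.asIdeal.primeCompl) hab
      refine ⟨⟨Pi.single i t.1, hsingle _ t.2⟩, ?_⟩
      funext j
      by_cases hj : j = i
      · subst hj; simpa using ht
      · simp [Pi.single_eq_of_ne hj]
  let e : Localization.AtPrime p ≃ₐ[∀ i, A i] Localization.AtPrime q.asIdeal :=
    IsLocalization.algEquiv p.primeCompl _ _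
  refine ⟨e.toRingEquiv.toMulEquiv.isDomain (Localization.AtPrime q.asIdeal), ?_⟩
  exact IsIntegrallyClosed.of_equiv e.symm.toRingEquiv

end Groth.Agent.S6279
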