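import Groth.Statements.S6281
import Mathlib

set_option autoImplicit false
universe u
open CAlg

namespace Groth.Agent.S6281

/-- For an R-algebra S and an S-module M, flatness of S over R follows once M is both flat over R and
faithfully flat over S. -/
theorem result {R S : Type u} [CommRing R] [CommRing S] [Algebra R S] (M : Type u) [AddCommGroup M] [Module S M] [Module R M] [IsScalarTower R S M] [Module.Flat R M] [Module.FaithfullyFlat S M] : Module.Flat R S := by
  rw [Module.Flat.iff_lTensor_preserves_injective_linearMap]
  intro N N' _ _ _ _ f hf
  let g : TensorProduct R S N →ₗ[S] TensorProduct R S N' :=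
    TensorProduct.AlgebraTensorModule.lTensor S S f
  have hg : ∀ x, g x = f.lTensor S x := fun x => rfl
  suffices hinj : Function.Injective g by
    intro x y hxy
    exact hinj (by rw [hg, hg, hxy])
  rw [← Module.FaithfullyFlat.lTensor_injective_iff_injective S M g]
  have key := TensorProduct.AlgebraTensorModule.lTensor_comp_cancelBaseChange
    (R := R) (A := S) (B := S) (M := M) f
  have h1 : Function.Injective (TensorProduct.AlgebraTensorModule.lTensor S M f) := by
    have := Module.Flat.lTensor_preserves_injective_linearMap (M := M) f hf
    intro x y hxy
    exact this hxy
  have h2 : Function.Injective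
      ((TensorProduct.AlgebraTensorModule.cancelBaseChange R S S M N').toLinearMap ∘ₗ
        TensorProduct.AlgebraTensorModule.lTensor S M
          (TensorProduct.AlgebraTensorModule.lTensor S S f)) := by
    rw [← key]
    exact h1.comp (TensorProduct.AlgebraTensorModule.cancelBaseChange R S S M N).injective
  intro x y hxy
  apply h2
  simp only [LinearMap.coe_comp, LinearEquiv.coe_coe, Function.comp_apply]
  congr 1

end Groth.Agent.S6281
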