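import Groth.Statements.S6282
import Mathlib

set_option autoImplicit false
universe u
open scoped TensorProduct
open CAlg

namespace Groth.Agent.S6282

/-- Let S → S' be a homomorphism of R-algebras, M an S-module, and M' = S' ⊗_S M with its induced
R-module structure. (1) When S' is flat over S, R-flatness of M passes to M'. (2) When S' is
faithfully flat over S, M is R-flat exactly when M' is. -/
theorem result {R S S' : Type u} [CommRing R] [CommRing S] [CommRing S'] [Algebra R S] [Algebra R S'] [Algebra S S'] [IsScalarTower R S S'] (M : Type u) [AddCommGroup M] [Module S M] [Module R M] [IsScalarTower R S M] : ([Module.Flat S S'] → Module.Flat R M → Module.Flat R (S' ⊗[S] M)) ∧ ([Module.FaithfullyFlat S S'] → (Module.Flat R M ↔ Module.Flat R (S' ⊗[S] M))) := by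
  have comm : ∀ (N N' : Type u) [AddCommGroup N] [AddCommGroup N'] [Module R N] [Module R N']
      (f : N →ₗ[R] N') (x : (S' ⊗[S] M) ⊗[R] N),
      TensorProduct.AlgebraTensorModule.assoc R S S S' M N' (f.lTensor (S' ⊗[S] M) x) =
        (TensorProduct.AlgebraTensorModule.lTensor S M f).lTensor S'
          (TensorProduct.AlgebraTensorModule.assoc R S S S' M N x) := by
    intro N N' _ _ _ _ f x
    induction x using TensorProduct.induction_on with
    | zero => simp
    | add x y hx hy => simp only [map_add, hx, hy]
    | tmul y n =>
      induction y using TensorProduct.induction_on with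
      | zero => simp
      | add y z hy hz => simp only [TensorProduct.add_tmul, map_add, hy, hz]
      | tmul s m => simp
  have equivInj : ∀ (N N' : Type u) [AddCommGroup N] [AddCommGroup N'] [Module R N] [Module R N']
      (f : N →ₗ[R] N'),
      Function.Injective (f.lTensor (S' ⊗[S] M)) ↔
        Function.Injective ((TensorProduct.AlgebraTensorModule.lTensor S M f).lTensor S') := by
    intro N N' _ _ _ _ f
    constructor
    · intro h x y hxy
      obtain ⟨x', rfl⟩ := (TensorProduct.AlgebraTensorModule.assoc R S S S' M N).surjective x
      obtain ⟨y', rfl⟩ := (TensorProduct.AlgebraTensorModule.assoc R S S S' M N).surjective y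
      rw [← comm, ← comm] at hxy
      rw [h ((TensorProduct.AlgebraTensorModule.assoc R S S S' M N').injective hxy)]
    · intro h x y hxy
      apply (TensorProduct.AlgebraTensorModule.assoc R S S S' M N).injective
      apply h
      rw [← comm, ← comm, hxy]
  have part1 : ∀ [Module.Flat S S'], Module.Flat R M → Module.Flat R (S' ⊗[S] M) := by
    intro _ hM
    rw [Module.Flat.iff_lTensor_preserves_injective_linearMap]
    intro N N' _ _ _ _ f hf
    rw [equivInj]
    apply Module.Flat.lTensor_preserves_injective_linearMap (M := S')
    have := Module.Flat.lTensor_preserves_injective_linearMap (M := M) f hf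
    intro x y hxy
    exact this hxy
  refine ⟨part1, ?_⟩
  intro _
  refine ⟨fun hM => part1 hM, fun hM' => ?_⟩
  rw [Module.Flat.iff_lTensor_preserves_injective_linearMap]
  intro N N' _ _ _ _ f hf
  have h1 := Module.Flat.lTensor_preserves_injective_linearMap (M := S' ⊗[S] M) f hf
  rw [equivInj] at h1
  have h2 := (Module.FaithfullyFlat.lTensor_injective_iff_injective S S'
    (TensorProduct.AlgebraTensorModule.lTensor S M f)).mp h1
  intro x y hxy
  exact h2 hxy

end Groth.Agent.S6282
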