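import Groth.Statements.S6289
import Mathlib

set_option autoImplicit false
universe u
open CAlg

namespace Groth.Agent.S6289

/-- Let A' be a valuation ring with residue field K and A ⊆ K a valuation ring with fraction field K.
Then the subring C of A' consisting of the elements whose residue class lies in A is a valuation
ring. -/
theorem result (A' : Type u) [CommRing A'] [IsDomain A'] [ValuationRing A'] (A : ValuationSubring (IsLocalRing.ResidueField A')) : ValuationRing (A.toSubring.comap (IsLocalRing.residue A')) := by
  have key : ∀ a b : (A.toSubring.comap (IsLocalRing.residue A')), ∀ c : A',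
      (a : A') * c = b → ∃ c' : (A.toSubring.comap (IsLocalRing.residue A')),
        a * c' = b ∨ b * c' = a := by
    intro a b c h
    by_cases hc : c ∈ A.toSubring.comap (IsLocalRing.residue A')
    · exact ⟨⟨c, hc⟩, Or.inl (Subtype.ext h)⟩
    · have hc' : IsLocalRing.residue A' c ∉ A := hc
      have hne : IsLocalRing.residue A' c ≠ 0 := fun h0 => hc' (h0 ▸ A.zero_mem)
      have hu : IsUnit c := by
        by_contra hnu
        exact hne ((IsLocalRing.residue_eq_zero_iff c).mpr hnu)
      obtain ⟨u, rfl⟩ := hu
      have hinv : (↑u⁻¹ : A') ∈ A.toSubring.comap (IsLocalRing.residue A') := by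
        show IsLocalRing.residue A' ↑u⁻¹ ∈ A
        rcases A.mem_or_inv_mem (IsLocalRing.residue A' u) with h1 | h1
        · exact (hc' h1).elim
        · have h2 : IsLocalRing.residue A' ↑u⁻¹ = (IsLocalRing.residue A' u)⁻¹ := by
            symm
            apply inv_eq_of_mul_eq_one_right
            rw [← map_mul]
            simp
          rwa [h2]
      refine ⟨⟨↑u⁻¹, hinv⟩, Or.inr (Subtype.ext ?_)⟩
      simp [← h, mul_assoc]
  have hpre : PreValuationRing (A.toSubring.comap (IsLocalRing.residue A')) := by
    refine ⟨fun a b => ?_⟩
    obtain ⟨c, hc | hc⟩ := ValuationRing.cond (a : A') (b : A')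
    · exact key a b c hc
    · obtain ⟨c', h1 | h1⟩ := key b a c hc
      · exact ⟨c', Or.inr h1⟩
      · exact ⟨c', Or.inl h1⟩
  exact { toPreValuationRing := hpre }

end Groth.Agent.S6289
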