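import Groth.Statements.S6290
import Mathlib

set_option autoImplicit false
universe u
open CAlg

namespace Groth.Agent.S6290

/-- Let R be a Noetherian ring, I ⊆ R an ideal, M a finite R-module and N = ⋂ₙ IⁿM. Then for every prime
p ⊇ I there is f ∈ R, f ∉ p, with N_f = 0, i.e. every element of N is annihilated by some power of
f. -/
theorem result {R : Type u} [CommRing R] [IsNoetherianRing R] (I : Ideal R) (M : Type u) [AddCommGroup M] [Module R M] [Module.Finite R M] (p : Ideal R) [p.IsPrime] (hIp : I ≤ p) : ∃ f : R, f ∉ p ∧ ∀ x ∈ (⨅ n : ℕ, I ^ n • (⊤ : Submodule R M)), ∃ k : ℕ, f ^ k • x = 0 := by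
  classical
  let N : Submodule R M := ⨅ n : ℕ, I ^ n • (⊤ : Submodule R M)
  have : IsNoetherian R M := isNoetherian_of_isNoetherianRing_of_finite R M
  obtain ⟨T, hT⟩ : N.FG := IsNoetherian.noetherian N
  have hker : ∀ x ∈ N, ∃ r : R, r ∈ I ∧ r • x = x := by
    intro x hx
    obtain ⟨⟨r, hr⟩, hrx⟩ := (Ideal.mem_iInf_smul_pow_eq_bot_iff I x).mp hx
    exact ⟨r, hr, hrx⟩
  have hT' : ∀ x ∈ T, x ∈ N := fun x hx => hT ▸ Submodule.subset_span hx
  choose! rf hrf1 hrf2 using hker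
  let f : R := ∏ x ∈ T, (1 - rf x)
  have hfp : f ∉ p := by
    intro hf
    rw [Ideal.IsPrime.prod_mem_iff] at hf
    obtain ⟨x, hxT, hx⟩ := hf
    have h1 : rf x ∈ p := hIp (hrf1 x (hT' x hxT))
    have : (1 : R) ∈ p := by
      have := p.add_mem hx h1
      simpa using this
    exact (Ideal.ne_top_iff_one p).mp (Ideal.IsPrime.ne_top inferInstance) this
  refine ⟨f, hfp, fun x hx => ⟨1, ?_⟩⟩
  have hxN : x ∈ N := hx
  rw [pow_one]
  rw [← hT] at hxN
  refine Submodule.span_induction (p := fun y _ => f • y = 0) ?_ ?_ ?_ ?_ hxN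
  · intro y hy
    have hdvd : (1 - rf y) ∣ f := Finset.dvd_prod_of_mem (fun x => 1 - rf x) hy
    obtain ⟨c, hc⟩ := hdvd
    rw [hc, mul_comm, mul_smul, sub_smul, one_smul, hrf2 y (hT' y hy), sub_self, smul_zero]
  · exact smul_zero f
  · intro a b _ _ ha hb
    rw [smul_add, ha, hb, add_zero]
  · intro a b _ hb
    rw [smul_comm, hb, smul_zero]

end Groth.Agent.S6290
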