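import Groth.Statements.S6298
import Mathlib

set_option autoImplicit false
universe u
open CAlg

namespace Groth.Agent.S6298

/-- Let R be a ring, x ∈ R, I ⊆ R an ideal and p₁, …, p_r prime ideals such that for each i the coset x
+ I is not contained in p_i. Then there is y ∈ I with x + y ∉ p_i for all i. -/
theorem result {R : Type u} [CommRing R] (x : R) (I : Ideal R) {r : ℕ} (p : Fin r → Ideal R) [∀ i, (p i).IsPrime] (h : ∀ i, ∃ y ∈ I, x + y ∉ p i) : ∃ y ∈ I, ∀ i, x + y ∉ p i := by
  classical
  have key : ∀ s : Finset (Fin r), ∃ y ∈ I, ∀ i ∈ s, x + y ∉ p i := by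
    intro s
    induction s using Finset.induction_on with
    | empty => exact ⟨0, I.zero_mem, by simp⟩
    | insert j s hj ih =>
      obtain ⟨y, hyI, hy⟩ := ih
      by_cases hq : x + y ∈ p j
      swap
      · exact ⟨y, hyI, fun i hi => by
          rcases Finset.mem_insert.mp hi with rfl | hi
          · exact hq
          · exact hy i hi⟩
      obtain ⟨y0, hy0I, hy0⟩ := h j
      have hb : ∃ b ∈ I, b ∉ p j := by
        refine ⟨y0 - y, I.sub_mem hy0I hyI, fun hmem => hy0 ?_⟩
        have : x + y0 = (x + y) + (y0 - y) := by ring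
        rw [this]; exact (p j).add_mem hq hmem
      obtain ⟨b, hbI, hb⟩ := hb
      have ha : ∀ i : Fin r, ∃ a : R, (¬ p i ≤ p j → a ∈ p i) ∧ a ∉ p j := by
        intro i
        by_cases hle : p i ≤ p j
        · exact ⟨1, fun h => absurd hle h,
            (Ideal.ne_top_iff_one (p j)).mp (Ideal.IsPrime.ne_top inferInstance)⟩
        · obtain ⟨a, hai, haj⟩ := Set.not_subset.mp hle
          exact ⟨a, fun _ => hai, haj⟩
      choose a ha1 ha2 using ha
      let z := b * ∏ i ∈ s, a i
      have hzI : z ∈ I := I.mul_mem_right _ hbI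
      have hzq : z ∉ p j := by
        intro hz
        rcases (Ideal.IsPrime.mem_or_mem inferInstance hz) with h1 | h1
        · exact hb h1
        · rw [Ideal.IsPrime.prod_mem_iff] at h1
          obtain ⟨i, _, hi⟩ := h1
          exact ha2 i hi
      refine ⟨y + z, I.add_mem hyI hzI, fun i hi => ?_⟩
      have hsum : x + (y + z) = (x + y) + z := by ring
      rw [hsum]
      have hnotq : (x + y) + z ∉ p j := fun hmem => hzq (by
        have := (p j).sub_mem hmem hq
        simpa using this)
      rcases Finset.mem_insert.mp hi with rfl | hi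
      · exact hnotq
      · by_cases hle : p i ≤ p j
        · exact fun hmem => hnotq (hle hmem)
        · intro hmem
          apply hy i hi
          have hzi : z ∈ p i := by
            apply Ideal.mul_mem_left
            exact Ideal.mem_of_dvd (p i) (Finset.dvd_prod_of_mem a hi) (ha1 i hle)
          have := (p i).sub_mem hmem hzi
          simpa using this
  obtain ⟨y, hy, hy'⟩ := key Finset.univ
  exact ⟨y, hy, fun i => hy' i (Finset.mem_univ i)⟩

end Groth.Agent.S6298
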