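import Groth.Statements.S6301
import Mathlib

set_option autoImplicit false
universe u
open CAlg

namespace Groth.Agent.S6301

/-- An R-module M is flat exactly when, for every finitely presented R-module P and every surjective
R-module map N → M, the induced map Hom_R(P, N) → Hom_R(P, M) is surjective (modules P, N taken in
the same universe). -/
theorem result {R : Type u} [CommRing R] (M : Type u) [AddCommGroup M] [Module R M] : Module.Flat R M ↔ ∀ (P : Type u) [AddCommGroup P] [Module R P], Module.FinitePresentation R P → ∀ (N : Type u) [AddCommGroup N] [Module R N] (g : N →ₗ[R] M), Function.Surjective g → ∀ h : P →ₗ[R] M, ∃ h' : P →ₗ[R] N, g.comp h' = h := by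
  classical
  constructor
  · intro hM P _ _ hP N _ _ g hg h
    obtain ⟨k, h₂, h₃, h23⟩ := Module.Flat.exists_factorization_of_finitePresentation h
    obtain ⟨h₃', hh₃⟩ := Module.projective_lifting_property g h₃ hg
    exact ⟨h₃' ∘ₗ h₂, by rw [← LinearMap.comp_assoc, hh₃, h23]⟩
  · intro H
    apply Module.Flat.of_forall_exists_factorization
    intro l f x hxf
    -- the quotient module
    let K : Submodule R (Fin l →₀ R) := Submodule.span R {f}
    have hKx : K ≤ LinearMap.ker x := by
      rw [Submodule.span_le]
      intro v hv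
      rw [Set.mem_singleton_iff] at hv
      subst hv
      exact hxf
    let xbar : ((Fin l →₀ R) ⧸ K) →ₗ[R] M := K.liftQ x hKx
    have hfp : Module.FinitePresentation R ((Fin l →₀ R) ⧸ K) := by
      apply Module.finitePresentation_of_surjective K.mkQ K.mkQ_surjective
      rw [Submodule.ker_mkQ]
      exact Submodule.fg_span_singleton f
    let g : (M →₀ R) →ₗ[R] M := Finsupp.linearCombination R id
    have hg : Function.Surjective g := fun m => ⟨Finsupp.single m 1, by simp [g]⟩
    obtain ⟨h', hh'⟩ := H _ hfp (M →₀ R) g hg xbar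
    let φ : (Fin l →₀ R) →ₗ[R] (M →₀ R) := h' ∘ₗ K.mkQ
    have hφ : g ∘ₗ φ = x := by
      rw [← LinearMap.comp_assoc, hh']
      ext i
      simp [xbar]
    have hφf : φ f = 0 := by
      show h' (K.mkQ f) = 0
      have : K.mkQ f = 0 := by
        rw [Submodule.mkQ_apply]
        exact (Submodule.Quotient.mk_eq_zero K).mpr (Submodule.mem_span_singleton_self f)
      rw [this, map_zero]
    let s : Finset M := Finset.univ.biUnion fun i : Fin l => (φ (Finsupp.single i 1)).support
    have hrange : ∀ v, φ v ∈ Finsupp.supported R R (s : Set M) := by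
      intro v
      have hv : v = ∑ i, v i • Finsupp.single i (1 : R) := by
        ext j
        simp [Finsupp.single_apply]
      rw [hv, map_sum]
      refine Submodule.sum_mem _ fun i _ => ?_
      rw [map_smul]
      refine Submodule.smul_mem _ _ ?_
      rw [Finsupp.mem_supported]
      intro m hm
      exact Finset.mem_biUnion.mpr ⟨i, Finset.mem_univ i, hm⟩
    let φ' : (Fin l →₀ R) →ₗ[R] Finsupp.supported R R (s : Set M) := φ.codRestrict _ hrange
    let e1 : Finsupp.supported R R (s : Set M) ≃ₗ[R] ((s : Set M) →₀ R) :=
      Finsupp.supportedEquivFinsupp (s : Set M)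
    let e2 : ((s : Set M) →₀ R) ≃ₗ[R] (Fin (Fintype.card (s : Set M)) →₀ R) :=
      Finsupp.domLCongr (Fintype.equivFin _)
    refine ⟨Fintype.card (s : Set M), (e2.toLinearMap ∘ₗ e1.toLinearMap) ∘ₗ φ',
      g ∘ₗ (Finsupp.supported R R (s : Set M)).subtype ∘ₗ e1.symm.toLinearMap ∘ₗ e2.symm.toLinearMap, ?_, ?_⟩
    · rw [← hφ]
      ext v
      simp [φ']
    · have : φ' f = 0 := by
        apply Subtype.ext
        exact hφf
      simp [this]

end Groth.Agent.S6301
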