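import Groth.Statements.S6303
import Mathlib

set_option autoImplicit false
universe u
open CAlg

namespace Groth.Agent.S6303

/-- Let R be a ring, I, J ⊆ R ideals and M a flat R-module. Then IM ∩ JM = (I ∩ J)M. -/
theorem result {R : Type u} [CommRing R] (I J : Ideal R) (M : Type u) [AddCommGroup M] [Module R M] [Module.Flat R M] : (I • (⊤ : Submodule R M)) ⊓ (J • ⊤) = (I ⊓ J) • (⊤ : Submodule R M) := by
  apply le_antisymm
  · intro x hx
    obtain ⟨hxI, hxJ⟩ := hx
    let f : R →ₗ[R] (R ⧸ I) × (R ⧸ J) :=
      LinearMap.prod (Submodule.mkQ I) (Submodule.mkQ J)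
    have hkerf : LinearMap.ker f = I ⊓ J := by
      ext r
      have hfr : f r = (Submodule.Quotient.mk r, Submodule.Quotient.mk r) := rfl
      rw [LinearMap.mem_ker, hfr, Prod.mk_eq_zero, Submodule.Quotient.mk_eq_zero,
        Submodule.Quotient.mk_eq_zero, Submodule.mem_inf]
    have hex : Function.Exact ((LinearMap.ker f).subtype.lTensor M) (f.lTensor M) :=
      Module.Flat.lTensor_exact M (LinearMap.exact_subtype_ker_map f)
    have h1 : ∀ y ∈ I • (⊤ : Submodule R M), y ⊗ₜ[R] ((1 : R ⧸ I), (0 : R ⧸ J)) = 0 := by
      intro y hy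
      refine Submodule.smul_induction_on hy ?_ ?_
      · intro a ha m _
        rw [TensorProduct.smul_tmul]
        have : a • ((1 : R ⧸ I), (0 : R ⧸ J)) = 0 := by
          ext
          · change a • (1 : R ⧸ I) = 0
            have h5 : a • (1 : R ⧸ I) = Ideal.Quotient.mk I a := by
              rw [Algebra.smul_def, mul_one]; rfl
            rw [h5]
            exact Ideal.Quotient.eq_zero_iff_mem.mpr ha
          · simp
        rw [this, TensorProduct.tmul_zero]
      · intro a b ha hb
        rw [TensorProduct.add_tmul, ha, hb, add_zero]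
    have h2 : ∀ y ∈ J • (⊤ : Submodule R M), y ⊗ₜ[R] ((0 : R ⧸ I), (1 : R ⧸ J)) = 0 := by
      intro y hy
      refine Submodule.smul_induction_on hy ?_ ?_
      · intro a ha m _
        rw [TensorProduct.smul_tmul]
        have : a • ((0 : R ⧸ I), (1 : R ⧸ J)) = 0 := by
          ext
          · simp
          · change a • (1 : R ⧸ J) = 0
            have h5 : a • (1 : R ⧸ J) = Ideal.Quotient.mk J a := by
              rw [Algebra.smul_def, mul_one]; rfl
            rw [h5]
            exact Ideal.Quotient.eq_zero_iff_mem.mpr ha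
        rw [this, TensorProduct.tmul_zero]
      · intro a b ha hb
        rw [TensorProduct.add_tmul, ha, hb, add_zero]
    have h3 : (f.lTensor M) (x ⊗ₜ[R] (1 : R)) = 0 := by
      rw [LinearMap.lTensor_tmul]
      have : f 1 = ((1 : R ⧸ I), (0 : R ⧸ J)) + ((0 : R ⧸ I), (1 : R ⧸ J)) := by
        have hf1 : f 1 = ((1 : R ⧸ I), (1 : R ⧸ J)) := rfl
        rw [hf1, Prod.mk_add_mk, add_zero, zero_add]
      rw [this, TensorProduct.tmul_add, h1 x hxI, h2 x hxJ, add_zero]
    obtain ⟨y, hy⟩ := (hex _).mp h3
    have h4 : ∀ y : TensorProduct R M (LinearMap.ker f),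
        TensorProduct.rid R M (((LinearMap.ker f).subtype.lTensor M) y) ∈ (I ⊓ J) • (⊤ : Submodule R M) := by
      intro y
      induction y using TensorProduct.induction_on with
      | zero => simp
      | tmul m c =>
        rw [LinearMap.lTensor_tmul, TensorProduct.rid_tmul]
        apply Submodule.smul_mem_smul _ Submodule.mem_top
        rw [← hkerf]
        exact c.2
      | add a b ha hb =>
        rw [map_add, map_add]
        exact Submodule.add_mem _ ha hb
    have := h4 y
    rw [hy, TensorProduct.rid_tmul, one_smul] at this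
    exact this
  · exact le_inf (Submodule.smul_mono_left inf_le_left) (Submodule.smul_mono_left inf_le_right)

end Groth.Agent.S6303
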