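import Groth.Statements.S6304
import Mathlib

set_option autoImplicit false
universe u
open CAlg

namespace Groth.Agent.S6304

/-- In a short exact sequence 0 → M' → M → M'' → 0 of R-modules whose right-hand term M'' is flat, the
middle term M is flat when M' is, and M' is flat when M is. -/
theorem result {R : Type u} [CommRing R] {M' M M'' : Type u} [AddCommGroup M'] [Module R M'] [AddCommGroup M] [Module R M] [AddCommGroup M''] [Module R M''] (f : M' →ₗ[R] M) (g : M →ₗ[R] M'') (hf : Function.Injective f) (hexact : Function.Exact f g) (hg : Function.Surjective g) [Module.Flat R M''] : (Module.Flat R M' → Module.Flat R M) ∧ (Module.Flat R M → Module.Flat R M') := by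
  constructor
  · intro hM'
    rw [Module.Flat.iff_rTensor_preserves_injective_linearMap]
    intro N N' _ _ _ _ φ hφ
    have hfN' : Function.Injective (f.lTensor N') :=
      LinearMap.lTensor_injective_of_exact_of_flat g hg f hf hexact N'
    have hexN : Function.Exact (f.lTensor N) (g.lTensor N) := lTensor_exact N hexact hg
    have h1 : Function.Injective (φ.rTensor M') :=
      Module.Flat.rTensor_preserves_injective_linearMap φ hφ
    have h3 : Function.Injective (φ.rTensor M'') :=
      Module.Flat.rTensor_preserves_injective_linearMap φ hφ
    rw [injective_iff_map_eq_zero]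
    intro x hx
    have hgx : g.lTensor N x = 0 := by
      apply h3
      rw [map_zero, ← LinearMap.comp_apply, LinearMap.rTensor_comp_lTensor,
        ← LinearMap.lTensor_comp_rTensor, LinearMap.comp_apply, hx, map_zero]
    obtain ⟨y, rfl⟩ := (hexN x).mp hgx
    have hy : y = 0 := by
      apply h1
      apply hfN'
      rw [map_zero, map_zero, ← LinearMap.comp_apply, LinearMap.lTensor_comp_rTensor,
        ← LinearMap.rTensor_comp_lTensor, LinearMap.comp_apply, hx]
    rw [hy, map_zero]
  · intro hM
    rw [Module.Flat.iff_rTensor_preserves_injective_linearMap]
    intro N N' _ _ _ _ φ hφ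
    have hfN : Function.Injective (f.lTensor N) :=
      LinearMap.lTensor_injective_of_exact_of_flat g hg f hf hexact N
    have h2 : Function.Injective (φ.rTensor M) :=
      Module.Flat.rTensor_preserves_injective_linearMap φ hφ
    have hcomp : Function.Injective ((f.lTensor N') ∘ (φ.rTensor M')) := by
      have : (f.lTensor N') ∘ (φ.rTensor M') = (φ.rTensor M) ∘ (f.lTensor N) := by
        rw [← LinearMap.coe_comp, ← LinearMap.coe_comp, LinearMap.lTensor_comp_rTensor,
          LinearMap.rTensor_comp_lTensor]
      rw [this]
      exact h2.comp hfN
    exact Function.Injective.of_comp hcomp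

end Groth.Agent.S6304
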