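import Groth.Statements.S6306
import Mathlib

set_option autoImplicit false
universe u
open CAlg

namespace Groth.Agent.S6306

/-- Let R be a nonzero ring such that every nonzero prime ideal of R contains a non-zerodivisor. Then R
is a domain. -/
theorem result (R : Type u) [CommRing R] [Nontrivial R] (h : ∀ p : Ideal R, p.IsPrime → p ≠ ⊥ → ∃ x ∈ p, x ∈ nonZeroDivisors R) : IsDomain R := by
  have hdisj : Disjoint ((⊥ : Ideal R) : Set R) (nonZeroDivisors R : Set R) := by
    rw [Set.disjoint_left]
    intro x hx hx'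
    have hx0 : x = 0 := hx
    rw [hx0] at hx'
    exact zero_notMem_nonZeroDivisors hx'
  obtain ⟨p, hp, -, hpd⟩ := Ideal.exists_le_prime_disjoint (⊥ : Ideal R) (nonZeroDivisors R) hdisj
  have hpbot : p = ⊥ := by
    by_contra hne
    obtain ⟨x, hxp, hxS⟩ := h p hp hne
    exact Set.disjoint_left.mp hpd hxp hxS
  rw [hpbot] at hp
  exact IsDomain.of_bot_isPrime R

end Groth.Agent.S6306
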