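import Groth.Statements.S6307
import Mathlib

set_option autoImplicit false
universe u
open CAlg

namespace Groth.Agent.S6307

/-- Let R be a ring, J ⊆ R a principal ideal and I ⊆ J an ideal. Then I = J · (I : J). -/
theorem result {R : Type u} [CommRing R] (I J : Ideal R) (hJ : J.IsPrincipal) (hIJ : I ≤ J) : I = J * I.colon J := by
  obtain ⟨a, ha⟩ := hJ.principal
  apply le_antisymm
  · intro x hx
    have hxJ : x ∈ J := hIJ hx
    rw [ha] at hxJ
    obtain ⟨y, rfl⟩ := Submodule.mem_span_singleton.mp hxJ
    rw [smul_eq_mul, mul_comm y a]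
    refine Ideal.mul_mem_mul (I := J) (J := I.colon J) ?_ ?_
    · rw [ha]; exact Submodule.mem_span_singleton_self a
    · rw [Submodule.mem_colon]
      intro s hs
      rw [SetLike.mem_coe, ha] at hs
      obtain ⟨z, rfl⟩ := Submodule.mem_span_singleton.mp hs
      have : y • z • a = z * (y • a) := by simp only [smul_eq_mul]; ring
      rw [this]
      exact I.mul_mem_left z hx
  · rw [Ideal.mul_le]
    intro r hr s hs
    rw [Submodule.mem_colon] at hs
    have := hs r hr
    rwa [smul_eq_mul, mul_comm] at this

end Groth.Agent.S6307
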