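import Groth.Statements.S6311
import Groth.Statements.S6311
import Mathlib
import Groth.Agent.Lib.helper9.H9_K0Local

set_option autoImplicit false
universe u
open CategoryTheory
open CAlg

namespace Groth.Agent.S6311

/-- Let R be a local ring. Then K₀(R), the Grothendieck group of the category of finite projective
R-modules, is isomorphic to ℤ via the rank; precisely, there is an isomorphism K₀(R) ≅ ℤ of abelian
groups sending the class [R] to 1 (such an isomorphism is then unique, K₀(R) being generated by
[R]). -/
theorem result (R : Type u) [CommRing R] [IsLocalRing R] : ∃ e : KZero.K0sub (fun M : ModuleCat.{u} R => Module.Finite R M ∧ Module.Projective R M) ≃+ ℤ, e (KZero.clSub (fun M : ModuleCat.{u} R => Module.Finite R M ∧ Module.Projective R M) (ModuleCat.of R R)) = 1 := by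
  classical
  open Groth.Agent.H9K0 in
  let ℓ : Subtype (PP R) → ℤ := fun M => (Module.finrank R M.1 : ℤ)
  let ψ : FreeAbelianGroup (Subtype (PP R)) →+ ℤ := FreeAbelianGroup.lift ℓ
  have hker : KZero.relSub (PP R) ≤ ψ.ker := by
    rw [KZero.relSub, AddSubgroup.closure_le]
    rintro x ⟨S, h₁, h₂, h₃, hS, rfl⟩
    rw [SetLike.mem_coe, AddMonoidHom.mem_ker, map_sub, map_sub]
    simp only [ψ, FreeAbelianGroup.lift_apply_of, ℓ]
    haveI := h₁.1
    haveI := h₁.2
    haveI := h₃.1
    haveI := h₃.2
    haveI : Module.Free R S.X₁ := Module.free_of_flat_of_isLocalRing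
    haveI : Module.Free R S.X₃ := Module.free_of_flat_of_isLocalRing
    obtain ⟨s, hs⟩ := Module.projective_lifting_property S.g.hom LinearMap.id
      hS.moduleCat_surjective_g
    have hex : Function.Exact S.f.hom S.g.hom :=
      (CategoryTheory.ShortComplex.ShortExact.moduleCat_exact_iff_function_exact S).mp hS.exact
    let e := (hex.splitSurjectiveEquiv hS.moduleCat_injective_f ⟨s, hs⟩).1
    have : Module.finrank R S.X₂ = Module.finrank R S.X₁ + Module.finrank R S.X₃ := by
      rw [e.finrank_eq, Module.finrank_prod]
    rw [this]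
    push_cast
    ring
  let ρ : KZero.K0sub (PP R) →+ ℤ := QuotientAddGroup.lift (KZero.relSub (PP R)) ψ hker
  have hρ : ∀ (M : ModuleCat.{u} R) (h : PP R M),
      ρ (KZero.clSub (PP R) M) = (Module.finrank R M : ℤ) := by
    intro M h
    rw [clSub_of M h]
    show (QuotientAddGroup.lift (KZero.relSub (PP R)) ψ hker) _ = _
    rw [QuotientAddGroup.lift_mk]
    simp only [ψ, FreeAbelianGroup.lift_apply_of, ℓ]
  have hρR : ρ (KZero.clSub (PP R) (ModuleCat.of R R)) = 1 := by
    rw [hρ _ pp_self]
    have : Module.finrank R (ModuleCat.of R R) = 1 := Module.finrank_self R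
    rw [this]; rfl
  have hgen : ∀ x : KZero.K0sub (PP R), x = ρ x • KZero.clSub (PP R) (ModuleCat.of R R) := by
    intro x
    obtain ⟨y, rfl⟩ := QuotientAddGroup.mk_surjective x
    induction y using FreeAbelianGroup.induction_on with
    | zero => simp
    | of M =>
      obtain ⟨M, hM⟩ := M
      haveI := hM.1
      haveI := hM.2
      haveI : Module.Free R M := Module.free_of_flat_of_isLocalRing
      have e : M ≃ₗ[R] (Fin (Module.finrank R M) → R) := (Module.finBasis R M).equivFun
      have h1 : KZero.clSub (PP R) M =
          KZero.clSub (PP R) (ModuleCat.of R (Fin (Module.finrank R M) → R)) :=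
        cl_iso (X := M) e hM (pp_pi _)
      rw [← clSub_of M hM, hρ M hM, h1, cl_pi, natCast_zsmul]
    | neg M ih =>
      rw [QuotientAddGroup.mk_neg, map_neg, neg_smul, ← ih]
    | add a b ha hb =>
      rw [QuotientAddGroup.mk_add, map_add, add_smul, ← ha, ← hb]
  refine ⟨{ toFun := ρ
            invFun := fun n => n • KZero.clSub (PP R) (ModuleCat.of R R)
            left_inv := fun x => (hgen x).symm
            right_inv := fun n => by
              show ρ (n • KZero.clSub (PP R) (ModuleCat.of R R)) = n
              rw [map_zsmul, hρR, smul_eq_mul, mul_one]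
            map_add' := ρ.map_add }, hρR⟩

end Groth.Agent.S6311
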