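import Groth.Statements.S6312
import Mathlib

set_option autoImplicit false
universe u
open CAlg

namespace Groth.Agent.S6312

/-- Let R be a ring, M an R-module and S ⊆ R a multiplicative subset. Then length_{S⁻¹R}(S⁻¹M) ≤
length_R(M). -/
theorem result {R : Type u} [CommRing R] (S : Submonoid R) (M : Type u) [AddCommGroup M] [Module R M] : Module.length (Localization S) (LocalizedModule S M) ≤ Module.length R M := by
  rw [← WithBot.coe_le_coe, Module.coe_length, Module.coe_length]
  let f : Submodule (Localization S) (LocalizedModule S M) → Submodule R M :=
    fun N => (N.restrictScalars R).comap (LocalizedModule.mkLinearMap S M)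
  have hmono : Monotone f := fun N N' h x hx => h hx
  have hinj : ∀ N N', f N ≤ f N' → N ≤ N' := by
    intro N N' h x hx
    induction x using LocalizedModule.induction_on with
    | h m s =>
      have h1 : LocalizedModule.mk m 1 ∈ N := by
        have : LocalizedModule.mk m (1 : S) = (algebraMap R (Localization S) (s : R)) • LocalizedModule.mk m s := by
          rw [algebraMap_smul, LocalizedModule.smul'_mk]
          exact (LocalizedModule.mk_cancel s m).symm
        rw [this]
        exact N.smul_mem _ hx
      have h2 : m ∈ f N := h1
      have h3 : LocalizedModule.mk m 1 ∈ N' := h h2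
      have : LocalizedModule.mk m s = (Localization.mk 1 s) • LocalizedModule.mk m (1 : S) := by
        rw [LocalizedModule.mk_smul_mk, one_smul, mul_one]
      rw [this]
      exact N'.smul_mem _ h3
  apply Order.krullDim_le_of_strictMono f
  exact hmono.strictMono_of_injective
    (fun N N' h => le_antisymm (hinj _ _ h.le) (hinj _ _ h.ge))

end Groth.Agent.S6312
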