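import Groth.Statements.S6323
import Groth.Statements.S6323
import Mathlib
open scoped TensorProduct

set_option autoImplicit false
universe u
open CAlg

namespace Groth.Agent.S6323

/-- Let A → B be a ring homomorphism and S ⊆ A, S' ⊆ B multiplicative subsets with S carried into S', so
that there is an induced homomorphism S⁻¹A → (S')⁻¹B. For a linear map f : M → M' between
(S')⁻¹B-modules, f is universally injective over A (scalars restricted along A → (S')⁻¹B) precisely
when it is universally injective over S⁻¹A (scalars restricted along S⁻¹A → (S')⁻¹B). -/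
theorem result {A B : Type u} [CommRing A] [CommRing B] [Algebra A B] (S : Submonoid A) (S' : Submonoid B) (hSS' : ∀ s ∈ S, algebraMap A B s ∈ S') (As Bs : Type u) [CommRing As] [CommRing Bs] [Algebra A As] [IsLocalization S As] [Algebra B Bs] [IsLocalization S' Bs] [Algebra As Bs] [Algebra A Bs] [IsScalarTower A B Bs] [IsScalarTower A As Bs] {M M' : Type u} [AddCommGroup M] [AddCommGroup M'] [Module Bs M] [Module Bs M'] [Module As M] [Module As M'] [Module A M] [Module A M'] [IsScalarTower As Bs M] [IsScalarTower As Bs M'] [IsScalarTower A As M] [IsScalarTower A As M'] [IsScalarTower A Bs M] [IsScalarTower A Bs M'] (f : M →ₗ[Bs] M') : CAlgX.UniversallyInjective A (f.restrictScalars A) ↔ CAlgX.UniversallyInjective As (f.restrictScalars As) := by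
  classical
  constructor
  · intro hA Q _ _
    letI modA : Module A Q := Module.compHom Q (algebraMap A As)
    haveI : IsScalarTower A As Q := ⟨fun a s q => by
      show (a • s) • q = (algebraMap A As a) • (s • q)
      rw [Algebra.smul_def, mul_smul]⟩
    let eM : M ⊗[As] Q ≃ₗ[As] M ⊗[A] Q := IsLocalization.moduleTensorEquiv S As M Q
    let eM' : M' ⊗[As] Q ≃ₗ[As] M' ⊗[A] Q := IsLocalization.moduleTensorEquiv S As M' Q
    have heM : ∀ (m : M) (q : Q), eM (m ⊗ₜ[As] q) = m ⊗ₜ[A] q := fun m q => rfl
    have heM' : ∀ (m : M') (q : Q), eM' (m ⊗ₜ[As] q) = m ⊗ₜ[A] q := fun m q => rfl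
    have hnat : ∀ x : M ⊗[As] Q,
        eM' (((f.restrictScalars As).rTensor Q) x) = ((f.restrictScalars A).rTensor Q) (eM x) := by
      intro x
      induction x with
      | zero => simp
      | tmul m q =>
        rw [LinearMap.rTensor_tmul, heM, heM', LinearMap.rTensor_tmul]
        rfl
      | add x y hx hy => rw [map_add, map_add, map_add, map_add, hx, hy]
    intro x y hxy
    apply eM.injective
    apply hA Q
    rw [← hnat, ← hnat, hxy]
  · intro hAs Q _ _
    let cM : M ⊗[As] (As ⊗[A] Q) ≃ₗ[As] M ⊗[A] Q :=
      TensorProduct.AlgebraTensorModule.cancelBaseChange A As As M Q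
    let cM' : M' ⊗[As] (As ⊗[A] Q) ≃ₗ[As] M' ⊗[A] Q :=
      TensorProduct.AlgebraTensorModule.cancelBaseChange A As As M' Q
    have hnat : ∀ x : M ⊗[As] (As ⊗[A] Q),
        cM' (((f.restrictScalars As).rTensor (As ⊗[A] Q)) x) =
          ((f.restrictScalars A).rTensor Q) (cM x) := by
      intro x
      induction x with
      | zero => simp
      | tmul m y =>
        induction y with
        | zero => simp
        | tmul s q =>
          rw [LinearMap.rTensor_tmul]
          show cM' ((f m) ⊗ₜ[As] (s ⊗ₜ[A] q)) = ((f.restrictScalars A).rTensor Q) (cM (m ⊗ₜ[As] (s ⊗ₜ[A] q)))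
          rw [TensorProduct.AlgebraTensorModule.cancelBaseChange_tmul,
            TensorProduct.AlgebraTensorModule.cancelBaseChange_tmul, LinearMap.rTensor_tmul]
          show (s • f m) ⊗ₜ[A] q = (f (s • m)) ⊗ₜ[A] q
          have : f (s • m) = s • f m := by
            rw [← algebraMap_smul Bs s m, map_smul, algebraMap_smul]
          rw [this]
        | add y z hy hz =>
          rw [TensorProduct.tmul_add, map_add, map_add, map_add, map_add, hy, hz]
      | add x y hx hy => rw [map_add, map_add, map_add, map_add, hx, hy]
    intro x y hxy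
    apply cM.symm.injective
    apply hAs (As ⊗[A] Q)
    apply cM'.injective
    rw [hnat, hnat, LinearEquiv.apply_symm_apply, LinearEquiv.apply_symm_apply, hxy]

end Groth.Agent.S6323
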