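import Groth.Statements.S6326
import Groth.Statements.S6326
import Mathlib

set_option autoImplicit false
universe u
open CategoryTheory CategoryTheory.Limits
open CAlg

namespace Groth.Agent.S6326

/-- Let R be a ring and N an R-module such that whenever M is the colimit of a filtered diagram (Mᵢ) of
R-modules (indexed by a filtered category in the same universe), the comparison map colim Hom_R(N,
Mᵢ) → Hom_R(N, M) is injective. Then N is finitely generated. (The implication from finite
generation back to this injectivity also holds; only the characterizing direction is stated here.) -/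
theorem result (R : Type u) [CommRing R] (N : Type u) [AddCommGroup N] [Module R N] (h : ∀ (J : Type u) [SmallCategory J] [IsFiltered J] (F : J ⥤ ModuleCat.{u} R), Function.Injective (colimit.post F (coyoneda.obj (Opposite.op (ModuleCat.of R N))))) : Module.Finite R N := by
  classical
  let J := {N' : Submodule R N // N'.FG}
  haveI : IsDirected J (· ≤ ·) :=
    ⟨fun a b => ⟨⟨a.1 ⊔ b.1, a.2.sup b.2⟩, le_sup_left, le_sup_right⟩⟩
  haveI : Nonempty J := ⟨⟨⊥, Submodule.fg_bot⟩⟩
  let F : J ⥤ ModuleCat.{u} R :=
    { obj := fun N' => ModuleCat.of R (N ⧸ N'.1)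
      map := fun {a b} f => ModuleCat.ofHom (Submodule.factor (leOfHom f))
      map_id := by
        intro a
        apply ModuleCat.hom_ext
        apply LinearMap.ext
        intro x
        induction x using Submodule.Quotient.induction_on with
        | H x => rfl
      map_comp := by
        intro a b c f g
        apply ModuleCat.hom_ext
        apply LinearMap.ext
        intro x
        induction x using Submodule.Quotient.induction_on with
        | H x => rfl }
  have hinj := h J F
  have hpost : ∀ (l : J) (φ : ModuleCat.of R N ⟶ F.obj l),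
      colimit.post F (coyoneda.obj (Opposite.op (ModuleCat.of R N)))
        (colimit.ι (F ⋙ coyoneda.obj (Opposite.op (ModuleCat.of R N))) l φ) = φ ≫ colimit.ι F l := by
    intro l φ
    have h1 := ConcreteCategory.congr_hom
      (colimit.ι_post F (coyoneda.obj (Opposite.op (ModuleCat.of R N))) l) φ
    exact h1
  let bot : J := ⟨⊥, Submodule.fg_bot⟩
  let q : ModuleCat.of R N ⟶ F.obj bot := ModuleCat.ofHom (Submodule.mkQ ⊥)
  have hq : q ≫ colimit.ι F bot = 0 := by
    apply ModuleCat.hom_ext
    apply LinearMap.ext
    intro n
    let sn : J := ⟨Submodule.span R {n}, Submodule.fg_span_singleton n⟩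
    have hle : bot ≤ sn := (bot_le : (⊥ : Submodule R N) ≤ Submodule.span R {n})
    have h1 : colimit.ι F sn (F.map (homOfLE hle) (q n)) = colimit.ι F bot (q n) :=
      colimit.w_apply F (homOfLE hle) (q n)
    have h2 : F.map (homOfLE hle) (q n) = 0 := by
      show Submodule.factor (bot_le : (⊥ : Submodule R N) ≤ Submodule.span R {n}) (Submodule.mkQ ⊥ n) = 0
      rw [Submodule.factor_mk]
      exact (Submodule.Quotient.mk_eq_zero _).mpr (Submodule.mem_span_singleton_self n)
    show (colimit.ι F bot).hom (q.hom n) = 0
    have h3 : (colimit.ι F bot).hom (q.hom n) = colimit.ι F bot (q n) := rfl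
    rw [h3, ← h1, h2, map_zero]
  have e : colimit.ι (F ⋙ coyoneda.obj (Opposite.op (ModuleCat.of R N))) bot q =
      colimit.ι (F ⋙ coyoneda.obj (Opposite.op (ModuleCat.of R N))) bot
        (0 : ModuleCat.of R N ⟶ F.obj bot) := by
    apply hinj
    rw [hpost, hpost, hq, zero_comp]
  obtain ⟨k, a, b, hk⟩ := (Types.FilteredColimit.colimit_eq_iff
    (F := F ⋙ coyoneda.obj (Opposite.op (ModuleCat.of R N)))).mp e
  have hk' : q ≫ F.map a = 0 := by
    have h4 : q ≫ F.map a = (0 : ModuleCat.of R N ⟶ F.obj bot) ≫ F.map b := hk
    rw [h4, zero_comp]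
  have htop : k.1 = ⊤ := by
    rw [eq_top_iff]
    intro n _
    have h2 := congrArg (fun ψ => ψ.hom n) hk'
    have h3 : Submodule.mkQ k.1 n = 0 := h2
    exact (Submodule.Quotient.mk_eq_zero _).mp h3
  refine ⟨?_⟩
  rw [← htop]
  exact k.2

end Groth.Agent.S6326
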