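import Groth.Statements.S6327
import Groth.Statements.S6327
import Mathlib
import Groth.Agent.S6326

set_option autoImplicit false
universe u
open CategoryTheory CategoryTheory.Limits
open CAlg

namespace Groth.Agent.S6327

/-- Let R be a ring and N an R-module such that whenever M is the colimit of a filtered diagram (Mᵢ) of
R-modules (indexed by a filtered category in the same universe), the comparison map colim Hom_R(N,
Mᵢ) → Hom_R(N, M) is bijective. Then N is finitely presented. (The implication from finite
presentation back to this bijectivity also holds; only the characterizing direction is stated here.) -/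
theorem result (R : Type u) [CommRing R] (N : Type u) [AddCommGroup N] [Module R N] (h : ∀ (J : Type u) [SmallCategory J] [IsFiltered J] (F : J ⥤ ModuleCat.{u} R), Function.Bijective (colimit.post F (coyoneda.obj (Opposite.op (ModuleCat.of R N))))) : Module.FinitePresentation R N := by
  classical
  haveI hfin : Module.Finite R N :=
    Groth.Agent.S6326.result R N (fun J _ _ F => (h J F).injective)
  obtain ⟨n, π, hπ⟩ := Module.Finite.exists_fin' R N
  let J := {K' : Submodule R (Fin n → R) // K'.FG ∧ K' ≤ LinearMap.ker π}
  haveI : IsDirected J (· ≤ ·) :=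
    ⟨fun a b => ⟨⟨a.1 ⊔ b.1, a.2.1.sup b.2.1, sup_le a.2.2 b.2.2⟩,
      (le_sup_left : a.1 ≤ a.1 ⊔ b.1), (le_sup_right : b.1 ≤ a.1 ⊔ b.1)⟩⟩
  haveI : Nonempty J := ⟨⟨⊥, Submodule.fg_bot, bot_le⟩⟩
  let F : J ⥤ ModuleCat.{u} R :=
    { obj := fun K' => ModuleCat.of R ((Fin n → R) ⧸ K'.1)
      map := fun {a b} f => ModuleCat.ofHom (Submodule.factor (leOfHom f))
      map_id := by
        intro a
        apply ModuleCat.hom_ext
        apply LinearMap.ext
        intro x
        induction x using Submodule.Quotient.induction_on with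
        | H x => rfl
      map_comp := by
        intro a b c f g
        apply ModuleCat.hom_ext
        apply LinearMap.ext
        intro x
        induction x using Submodule.Quotient.induction_on with
        | H x => rfl }
  have hsurj := (h J F).surjective
  have hpost : ∀ (l : J) (φ : ModuleCat.of R N ⟶ F.obj l),
      colimit.post F (coyoneda.obj (Opposite.op (ModuleCat.of R N)))
        (colimit.ι (F ⋙ coyoneda.obj (Opposite.op (ModuleCat.of R N))) l φ) = φ ≫ colimit.ι F l := by
    intro l φ
    have h1 := ConcreteCategory.congr_hom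
      (colimit.ι_post F (coyoneda.obj (Opposite.op (ModuleCat.of R N))) l) φ
    exact h1
  let bot : J := ⟨⊥, Submodule.fg_bot, bot_le⟩
  -- the map R^n → colim F
  let ψ : (Fin n → R) →ₗ[R] (colimit F : ModuleCat.{u} R) :=
    (colimit.ι F bot).hom ∘ₗ Submodule.mkQ ⊥
  have hψ : ∀ (K' : J) (x : Fin n → R), ψ x = colimit.ι F K' (Submodule.mkQ K'.1 x) := by
    intro K' x
    have hle : bot ≤ K' := (bot_le : (⊥ : Submodule R (Fin n → R)) ≤ K'.1)
    have h1 : colimit.ι F K' (F.map (homOfLE hle) (Submodule.mkQ ⊥ x)) =
        colimit.ι F bot (Submodule.mkQ ⊥ x) :=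
      colimit.w_apply F (homOfLE hle) (Submodule.mkQ ⊥ x)
    show colimit.ι F bot (Submodule.mkQ ⊥ x) = _
    rw [← h1]
    rfl
  have hψker : LinearMap.ker π ≤ LinearMap.ker ψ := by
    intro x hx
    let sx : J := ⟨Submodule.span R {x}, Submodule.fg_span_singleton x,
      (Submodule.span_singleton_le_iff_mem _ _).mpr hx⟩
    rw [LinearMap.mem_ker, hψ sx x]
    have h2 : Submodule.mkQ sx.1 x = 0 :=
      (Submodule.Quotient.mk_eq_zero _).mpr (Submodule.mem_span_singleton_self x)
    rw [h2, map_zero]
  let e := LinearMap.quotKerEquivOfSurjective π hπ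
  let φl : N →ₗ[R] (colimit F : ModuleCat.{u} R) :=
    (Submodule.liftQ (LinearMap.ker π) ψ hψker) ∘ₗ e.symm.toLinearMap
  have hφπ : ∀ x, φl (π x) = ψ x := by
    intro x
    have h1 : e.symm (π x) = Submodule.Quotient.mk x := by
      rw [LinearEquiv.symm_apply_eq]
      rfl
    simp only [φl, LinearMap.comp_apply, LinearEquiv.coe_coe, h1, Submodule.liftQ_apply]
  let φ : ModuleCat.of R N ⟶ colimit F := ModuleCat.ofHom φl
  obtain ⟨y, hy⟩ := hsurj φ
  obtain ⟨K', f0, rfl⟩ := Types.jointly_surjective' y
  obtain ⟨f, hf0⟩ : ∃ f : ModuleCat.of R N ⟶ F.obj K', f = f0 := ⟨f0, rfl⟩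
  subst hf0
  rw [hpost] at hy
  -- the projection R^n/K' → N
  let p : ((Fin n → R) ⧸ K'.1) →ₗ[R] N := Submodule.liftQ K'.1 π K'.2.2
  -- p ∘ f = id
  have hpf : ∀ z : N, p (f.hom z) = z := by
    intro z
    obtain ⟨x, rfl⟩ := hπ z
    -- f (π x) and mk x have the same image in the colimit
    have h1 : colimit.ι F K' (f.hom (π x)) = colimit.ι F K' (Submodule.mkQ K'.1 x) := by
      have h2 := congrArg (fun θ => θ.hom (π x)) hy
      have h3 : colimit.ι F K' (f.hom (π x)) = φl (π x) := h2
      rw [h3, hφπ, hψ K' x]
    obtain ⟨K'', a, b, hab⟩ := Concrete.colimit_exists_of_rep_eq F _ _ h1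
    -- apply projection from K''
    have hp'' : ∀ w : (Fin n → R) ⧸ K'.1,
        Submodule.liftQ K''.1 π K''.2.2 (F.map a w) = p w := by
      intro w
      induction w using Submodule.Quotient.induction_on with
      | H w => rfl
    have h4 := congrArg (Submodule.liftQ K''.1 π K''.2.2) hab
    rw [hp''] at h4
    rw [h4]
    have e1 : F.map b = F.map a := by
      congr 1
    rw [e1, hp'']
    rfl
  -- kernel of p is finitely generated
  have hkerfg : (LinearMap.ker p).FG := by
    have hrange : LinearMap.ker p = LinearMap.range (LinearMap.id - f.hom ∘ₗ p) := by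
      ext w
      constructor
      · intro hw
        refine ⟨w, ?_⟩
        simp only [LinearMap.sub_apply, LinearMap.id_apply, LinearMap.comp_apply]
        rw [LinearMap.mem_ker.mp hw, map_zero, sub_zero]
      · rintro ⟨v, rfl⟩
        rw [LinearMap.mem_ker]
        simp only [LinearMap.sub_apply, LinearMap.id_apply, LinearMap.comp_apply, map_sub]
        rw [hpf, sub_self]
    rw [hrange]
    haveI : Module.Finite R ((Fin n → R) ⧸ K'.1) := inferInstance
    exact (Module.Finite.iff_fg).mp inferInstance
  have hpsurj : Function.Surjective p := by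
    intro z
    exact ⟨f.hom z, hpf z⟩
  haveI : Module.FinitePresentation R ((Fin n → R) ⧸ K'.1) := by
    apply Module.finitePresentation_of_surjective (Submodule.mkQ K'.1)
      (Submodule.mkQ_surjective _)
    rw [Submodule.ker_mkQ]
    exact K'.2.1
  exact Module.finitePresentation_of_surjective p hpsurj hkerfg

end Groth.Agent.S6327
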