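import Groth.Statements.S6337
import Mathlib
import Groth.Agent.Lib.helper5.MLPi

set_option autoImplicit false
universe u
open CAlg

namespace Groth.Agent.S6337

/-- A direct sum of modules is Mittag-Leffler if and only if each summand is Mittag-Leffler. -/
theorem result (R : Type u) [CommRing R] {ι : Type u} (M : ι → Type u)
    [∀ i, AddCommGroup (M i)] [∀ i, Module R (M i)] :
    CAlg.IsMittagLeffler R (DirectSum ι M) ↔ ∀ i, CAlg.IsMittagLeffler R (M i) := by
  classical
  constructor
  · intro h i
    exact H5ML.ml_of_univInj R (DirectSum.lof R ι M i)
      (H5ML.univInj_of_leftInverse _ (DirectSum.component R ι M i)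
        (LinearMap.ext fun x => DirectSum.component.lof_self R i x)) h
  · intro h κ Q _ _
    rw [injective_iff_map_eq_zero]
    intro x hx
    have key : ∀ i, (DirectSum.component R ι M i).rTensor (∀ k, Q k) x = 0 := by
      intro i
      apply h i κ Q
      rw [map_zero]
      funext k
      rw [← H5ML.square (DirectSum.component R ι M i) Q x k, hx]
      simp
    have comp : ∀ (P : Type u) [AddCommGroup P] [Module R P] (i : ι)
        (y : TensorProduct R (DirectSum ι M) P),
        DirectSum.component R ι _ i (TensorProduct.directSumLeft R R M P y) =
          (DirectSum.component R ι M i).rTensor P y := by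
      intro P _ _ i y
      induction y using TensorProduct.induction_on with
      | zero => simp
      | tmul m p =>
        rw [LinearMap.rTensor_tmul]
        exact TensorProduct.directSumLeft_tmul (R := R) (S := R) m p i
      | add a b ha hb => simp only [map_add, ha, hb]
    apply (TensorProduct.directSumLeft R R M (∀ k, Q k)).injective
    rw [map_zero]
    apply DirectSum.ext_component R
    intro i
    rw [comp, key, map_zero]

end Groth.Agent.S6337
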