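import Groth.Statements.S6341
import Mathlib
import Groth.Agent.Lib.helper5.MLBasic

set_option autoImplicit false
universe u
open CAlg

namespace Groth.Agent.S6341

/-- The colimit of a directed system of Mittag-Leffler modules with universally injective transition
maps is Mittag-Leffler. -/
theorem result (R : Type u) [CommRing R] {ι : Type u}
    [Preorder ι] [IsDirected ι (· ≤ ·)] [DecidableEq ι] (G : ι → Type u) [∀ i, AddCommGroup (G i)]
    [∀ i, Module R (G i)] (f : ∀ i j, i ≤ j → G i →ₗ[R] G j) [DirectedSystem G fun i j h => f i j h]
    (hf : ∀ i j (h : i ≤ j), CAlgX.UniversallyInjective R (f i j h))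
    (hG : ∀ i, CAlg.IsMittagLeffler R (G i)) :
    CAlg.IsMittagLeffler R (Module.DirectLimit G f) := by
  have hA : ∀ i, CAlgX.UniversallyInjective R (Module.DirectLimit.of R ι G f i) := by
    intro i Q _ _
    rw [injective_iff_map_eq_zero]
    intro z hz
    have h1 := TensorProduct.directLimitLeft_rTensor_of f Q z
    rw [hz, map_zero] at h1
    obtain ⟨j, hij, hj⟩ := Module.DirectLimit.of.zero_exact h1.symm
    exact (injective_iff_map_eq_zero _).mp (hf i j hij Q) z hj
  intro κ Q _ _
  rw [injective_iff_map_eq_zero]
  intro x hx
  rcases isEmpty_or_nonempty ι with hι | hι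
  · have hsub : ∀ y : TensorProduct R (Module.DirectLimit G f) (∀ k, Q k), y = 0 := by
      intro y
      induction y using TensorProduct.induction_on with
      | zero => rfl
      | tmul g q => rw [Subsingleton.elim g 0, TensorProduct.zero_tmul]
      | add a b ha hb => rw [ha, hb, add_zero]
    exact hsub x
  · obtain ⟨i, xi, hxi⟩ := Module.DirectLimit.exists_of
      (TensorProduct.directLimitLeft f (∀ k, Q k) x)
    have hx' : (Module.DirectLimit.of R ι G f i).rTensor (∀ k, Q k) xi = x := by
      apply (TensorProduct.directLimitLeft f (∀ k, Q k)).injective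
      rw [TensorProduct.directLimitLeft_rTensor_of, hxi]
    have h0 : TensorProduct.piRightHom R R (G i) Q xi = 0 := by
      funext k
      apply hA i (Q k)
      rw [H5ML.square (Module.DirectLimit.of R ι G f i) Q xi k, hx', hx]
      simp
    have hxi0 : xi = 0 := (injective_iff_map_eq_zero _).mp (hG i κ Q) xi h0
    rw [← hx', hxi0, map_zero]

end Groth.Agent.S6341
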