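import Groth.Statements.S6379
import Mathlib
import Groth.Agent.Lib.helper5.MLBasic

set_option autoImplicit false
universe u
open scoped TensorProduct
open CAlg

namespace Groth.Agent.S6379

/-- Let M be a flat Mittag-Leffler module over a commutative ring R, F an R-module and x ∈ F ⊗_R M. Then
among the submodules F' of F with x in the image of F' ⊗ M → F ⊗ M there is a smallest one, and it
is a finitely generated module. -/
theorem result (R : Type u) [CommRing R] (M : Type u)
    [AddCommGroup M] [Module R M] [Module.Flat R M] (hM : CAlg.IsMittagLeffler R M)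
    (F : Type u) [AddCommGroup F] [Module R F] (x : F ⊗[R] M) :
    ∃ F' : Submodule R F, F'.FG ∧ x ∈ LinearMap.range (F'.subtype.rTensor M) ∧
      ∀ F'' : Submodule R F, x ∈ LinearMap.range (F''.subtype.rTensor M) → F' ≤ F'' := by
  classical
  let S : Set (Submodule R F) := {F'' | x ∈ LinearMap.range (F''.subtype.rTensor M)}
  let F₀ : Submodule R F := ⨅ i : S, i.1
  let π : F →ₗ[R] (∀ i : S, F ⧸ i.1) := LinearMap.pi (fun i => (i.1).mkQ)
  have hexact : Function.Exact F₀.subtype π := by
    intro f
    constructor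
    · intro hf
      have hmem : f ∈ F₀ := (Submodule.mem_iInf _).mpr
        (fun i => (Submodule.Quotient.mk_eq_zero _).mp (congrFun hf i))
      exact ⟨⟨f, hmem⟩, rfl⟩
    · rintro ⟨g, rfl⟩
      funext i
      have hg : (g : F) ∈ i.1 := (Submodule.mem_iInf _).mp g.2 i
      exact (Submodule.Quotient.mk_eq_zero _).mpr hg
  have hexact' := Module.Flat.rTensor_exact M hexact
  have keyid : ∀ (z : F ⊗[R] M) (i : S),
      TensorProduct.piRightHom R R M (fun i : S => F ⧸ i.1)
        (TensorProduct.comm R _ M (π.rTensor M z)) i =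
        TensorProduct.comm R _ M ((i.1).mkQ.rTensor M z) := by
    intro z i
    induction z using TensorProduct.induction_on with
    | zero => simp
    | tmul f m =>
      rw [LinearMap.rTensor_tmul, LinearMap.rTensor_tmul, TensorProduct.comm_tmul,
        TensorProduct.comm_tmul, TensorProduct.piRightHom_tmul]
      rfl
    | add a b ha hb => simp only [map_add, Pi.add_apply, ha, hb]
  have hx0 : π.rTensor M x = 0 := by
    apply (TensorProduct.comm R _ M).injective
    apply hM S (fun i : S => F ⧸ i.1)
    rw [map_zero, map_zero]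
    funext i
    rw [keyid x i]
    have hi : x ∈ LinearMap.range ((i.1).subtype.rTensor M) := i.2
    obtain ⟨y, hy⟩ := hi
    have h0 : (i.1).mkQ ∘ₗ (i.1).subtype = 0 := by
      ext g
      exact (Submodule.Quotient.mk_eq_zero _).mpr g.2
    have e1 : (i.1).mkQ.rTensor M x = 0 := by
      rw [← hy, ← LinearMap.comp_apply, ← LinearMap.rTensor_comp, h0, LinearMap.rTensor_zero,
        LinearMap.zero_apply]
    rw [e1, map_zero]
    rfl
  obtain ⟨y, hy⟩ := (hexact' x).mp hx0
  obtain ⟨M', hfin, hsub⟩ :=
    TensorProduct.exists_finite_submodule_left_of_setFinite ({y} : Set (F₀ ⊗[R] M))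
      (Set.finite_singleton y)
  obtain ⟨w, hw⟩ := hsub (Set.mem_singleton y)
  refine ⟨M'.map F₀.subtype, ?_, ?_, ?_⟩
  · exact (Module.Finite.iff_fg.mp hfin).map _
  · let e : M' →ₗ[R] (M'.map F₀.subtype) :=
      (F₀.subtype ∘ₗ M'.subtype).codRestrict (M'.map F₀.subtype)
        (fun m => Submodule.mem_map_of_mem m.2)
    have he : (M'.map F₀.subtype).subtype ∘ₗ e = F₀.subtype ∘ₗ M'.subtype :=
      LinearMap.ext fun m => rfl
    refine ⟨e.rTensor M w, ?_⟩
    rw [← LinearMap.comp_apply, ← LinearMap.rTensor_comp, he, LinearMap.rTensor_comp,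
      LinearMap.comp_apply, hw, hy]
  · intro F'' hF''
    exact (Submodule.map_subtype_le F₀ M').trans (iInf_le (fun i : S => i.1) ⟨F'', hF''⟩)

end Groth.Agent.S6379
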