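import Groth.Statements.S6346
import Mathlib
import Groth.Agent.S6379
import Groth.Agent.Lib.helper5.MLBasic

set_option autoImplicit false
universe u
open scoped TensorProduct
open CAlg

namespace Groth.Agent.S6346

/-- Let M be a flat module over a commutative ring R. Then M is Mittag-Leffler exactly when, for each
finite free module F = R^n and each element x of F ⊗ M there is a smallest submodule F' of F such
that x lies in the image of F' ⊗ M → F ⊗ M. -/
theorem result (R : Type u) [CommRing R] (M : Type u)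
    [AddCommGroup M] [Module R M] [Module.Flat R M] :
    CAlg.IsMittagLeffler R M ↔
      ∀ (n : ℕ) (x : (Fin n → R) ⊗[R] M), ∃ F' : Submodule R (Fin n → R),
        x ∈ LinearMap.range (F'.subtype.rTensor M) ∧
        ∀ F'' : Submodule R (Fin n → R), x ∈ LinearMap.range (F''.subtype.rTensor M) → F' ≤ F'' := by
  classical
  constructor
  · intro hM n x
    obtain ⟨F', _, hx, hmin⟩ := Groth.Agent.S6379.result R M hM (Fin n → R) x
    exact ⟨F', hx, hmin⟩
  · intro hcond κ Q _ _
    rw [injective_iff_map_eq_zero]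
    intro z hz
    have keyid : ∀ (F : Type u) [AddCommGroup F] [Module R F] (φ : F →ₗ[R] (∀ k, Q k))
        (x : F ⊗[R] M) (k : κ),
        TensorProduct.piRightHom R R M Q (TensorProduct.comm R _ M (φ.rTensor M x)) k =
          TensorProduct.comm R _ M
            (((LinearMap.proj k : (∀ k, Q k) →ₗ[R] Q k) ∘ₗ φ).rTensor M x) := by
      intro F _ _ φ x k
      induction x using TensorProduct.induction_on with
      | zero => simp
      | tmul f m =>
        rw [LinearMap.rTensor_tmul, LinearMap.rTensor_tmul, TensorProduct.comm_tmul,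
          TensorProduct.comm_tmul, TensorProduct.piRightHom_tmul]
        rfl
      | add a b ha hb => simp only [map_add, Pi.add_apply, ha, hb]
    obtain ⟨N', hfin, hsub⟩ :=
      TensorProduct.exists_finite_submodule_left_of_setFinite
        ({TensorProduct.comm R M (∀ k, Q k) z} : Set ((∀ k, Q k) ⊗[R] M))
        (Set.finite_singleton _)
    obtain ⟨y', hy'⟩ := hsub (Set.mem_singleton _)
    obtain ⟨n, φ₀, hφ₀⟩ := Module.Finite.exists_fin' R N'
    obtain ⟨x, hx⟩ := LinearMap.rTensor_surjective M hφ₀ y'
    obtain ⟨φ, hφdef⟩ : ∃ φ : (Fin n → R) →ₗ[R] (∀ k, Q k), φ = N'.subtype ∘ₗ φ₀ := ⟨_, rfl⟩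
    have hφx : φ.rTensor M x = TensorProduct.comm R M (∀ k, Q k) z := by
      rw [hφdef, LinearMap.rTensor_comp, LinearMap.comp_apply, hx, hy']
    have hzeq : z = TensorProduct.comm R (∀ k, Q k) M (φ.rTensor M x) := by
      rw [hφx, TensorProduct.comm_comm]
    obtain ⟨F', hxF', hmin⟩ := hcond n x
    have hle : ∀ k, F' ≤ LinearMap.ker ((LinearMap.proj k : (∀ k, Q k) →ₗ[R] Q k) ∘ₗ φ) := by
      intro k
      apply hmin
      have hex := Module.Flat.rTensor_exact M
        (LinearMap.exact_subtype_ker_map ((LinearMap.proj k : (∀ k, Q k) →ₗ[R] Q k) ∘ₗ φ))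
      have h0 : (((LinearMap.proj k : (∀ k, Q k) →ₗ[R] Q k) ∘ₗ φ).rTensor M) x = 0 := by
        apply (TensorProduct.comm R (Q k) M).injective
        rw [← keyid _ φ x k, ← hzeq, hz, map_zero]
        rfl
      exact (hex x).mp h0
    obtain ⟨y, hy⟩ := hxF'
    have hcomp : φ ∘ₗ F'.subtype = 0 := by
      ext v k
      exact LinearMap.mem_ker.mp (hle k v.2)
    rw [hzeq, ← hy, ← LinearMap.comp_apply, ← LinearMap.rTensor_comp, hcomp,
      LinearMap.rTensor_zero, LinearMap.zero_apply, map_zero]

end Groth.Agent.S6346
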