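import Groth.Statements.S6353
import Mathlib

set_option autoImplicit false
universe u
open CAlg

namespace Groth.Agent.S6353

open PrimeSpectrum in
/-- For a commutative ring R, I ↦ V(I) is a bijection between pure ideals (R/I flat over R) and closed
subsets of Spec R stable under generalization. Stated here as: V(I) is stable under generalization
for I pure, and every closed generalization-stable subset is V(I) for some pure I (injectivity on
pure ideals being the standard fact that pure ideals with the same zero locus coincide). -/
theorem result (R : Type u) [CommRing R] :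
    (∀ I : Ideal R, I.Pure → StableUnderGeneralization (zeroLocus (I : Set R))) ∧
      ∀ Z : Set (PrimeSpectrum R), IsClosed Z → StableUnderGeneralization Z →
        ∃ I : Ideal R, I.Pure ∧ zeroLocus (I : Set R) = Z := by
  constructor
  · intro I hI x y hyx hx
    haveI := hI
    rw [PrimeSpectrum.mem_zeroLocus] at hx ⊢
    have hle : y.asIdeal ≤ x.asIdeal := (PrimeSpectrum.le_iff_specializes y x).mpr hyx
    intro a ha
    obtain ⟨b, hb, hab⟩ := Ideal.exists_eq_mul_of_pure (I := I) ha
    have h0 : a * (1 - b) = 0 := by rw [mul_sub, mul_one, ← hab, sub_self]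
    rcases y.isPrime.mem_or_mem (h0 ▸ y.asIdeal.zero_mem : a * (1 - b) ∈ y.asIdeal) with h | h
    · exact h
    · exfalso
      have h1 : 1 - b ∈ x.asIdeal := hle h
      have h2 : b ∈ x.asIdeal := hx hb
      apply x.isPrime.ne_top
      rw [Ideal.eq_top_iff_one]
      have : (1 : R) = (1 - b) + b := by ring
      rw [this]
      exact x.asIdeal.add_mem h1 h2
  · intro Z hZc hZg
    set J := PrimeSpectrum.vanishingIdeal Z with hJ
    have hVJ : PrimeSpectrum.zeroLocus (J : Set R) = Z := by
      rw [hJ, PrimeSpectrum.zeroLocus_vanishingIdeal_eq_closure, hZc.closure_eq]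
    let S : Submonoid R :=
      { carrier := {s | s - 1 ∈ J}
        one_mem' := by simp
        mul_mem' := by
          intro a b ha hb
          simp only [Set.mem_setOf_eq] at ha hb ⊢
          have : a * b - 1 = (a - 1) * b + (b - 1) := by ring
          rw [this]
          exact J.add_mem (J.mul_mem_right _ ha) hb }
    set I : Ideal R := RingHom.ker (algebraMap R (Localization S)) with hIdef
    have hmemI : ∀ x, x ∈ I ↔ ∃ s : R, s - 1 ∈ J ∧ s * x = 0 := by
      intro x
      rw [hIdef, RingHom.mem_ker, IsLocalization.map_eq_zero_iff S]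
      constructor
      · rintro ⟨m, hm⟩
        exact ⟨m.1, m.2, hm⟩
      · rintro ⟨s, hs, hsx⟩
        exact ⟨⟨s, hs⟩, hsx⟩
    have hVI : PrimeSpectrum.zeroLocus (I : Set R) = Z := by
      rw [hIdef, ← PrimeSpectrum.closure_range_comap, PrimeSpectrum.localization_comap_range _ S]
      have : {p : PrimeSpectrum R | Disjoint (S : Set R) p.asIdeal} = Z := by
        ext q
        simp only [Set.mem_setOf_eq]
        constructor
        · intro hd
          have hne : q.asIdeal ⊔ J ≠ ⊤ := by
            intro htop
            have h1 : (1 : R) ∈ q.asIdeal ⊔ J := htop ▸ Submodule.mem_top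
            obtain ⟨u, hu, a, ha, hua⟩ := Submodule.mem_sup.mp h1
            have huS : u ∈ (S : Set R) := by
              show u - 1 ∈ J
              have : u - 1 = -a := by rw [← hua]; ring
              rw [this]
              exact J.neg_mem ha
            exact Set.disjoint_left.mp hd huS hu
          obtain ⟨m, hm, hle⟩ := Ideal.exists_le_maximal _ hne
          have hmZ : (⟨m, hm.isPrime⟩ : PrimeSpectrum R) ∈ Z := by
            rw [← hVJ, PrimeSpectrum.mem_zeroLocus]
            exact fun a ha => hle (Ideal.mem_sup_right ha)
          refine hZg ?_ hmZ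
          rw [← PrimeSpectrum.le_iff_specializes]
          exact fun a ha => hle (Ideal.mem_sup_left ha)
        · intro hq
          rw [← hVJ, PrimeSpectrum.mem_zeroLocus] at hq
          rw [Set.disjoint_left]
          intro s hs hsq
          apply q.isPrime.ne_top
          rw [Ideal.eq_top_iff_one]
          have : (1 : R) = s - (s - 1) := by ring
          rw [this]
          exact q.asIdeal.sub_mem hsq (hq hs)
      rw [this, hZc.closure_eq]
    refine ⟨I, ?_, hVI⟩
    apply Ideal.Pure.of_inf_eq_mul
    intro K _
    apply le_antisymm _ Ideal.mul_le_inf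
    rintro x ⟨hxI, hxK⟩
    set A : Ideal R := LinearMap.ker (LinearMap.toSpanSingleton R R x) with hA
    have hmemA : ∀ t, t ∈ A ↔ t * x = 0 := by
      intro t
      rw [hA, LinearMap.mem_ker, LinearMap.toSpanSingleton_apply, smul_eq_mul]
    have htop : I ⊔ A = ⊤ := by
      by_contra hne
      obtain ⟨m, hm, hle⟩ := Ideal.exists_le_maximal _ hne
      have hmZ : (⟨m, hm.isPrime⟩ : PrimeSpectrum R) ∈ PrimeSpectrum.zeroLocus (J : Set R) := by
        rw [hVJ, ← hVI, PrimeSpectrum.mem_zeroLocus]
        exact fun a ha => hle (Ideal.mem_sup_left ha)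
      rw [PrimeSpectrum.mem_zeroLocus] at hmZ
      obtain ⟨s, hs, hsx⟩ := (hmemI x).mp hxI
      have h1 : s ∈ m := hle (Ideal.mem_sup_right ((hmemA s).mpr hsx))
      have h2 : s - 1 ∈ m := hmZ hs
      apply hm.ne_top
      rw [Ideal.eq_top_iff_one]
      have : (1 : R) = s - (s - 1) := by ring
      rw [this]
      exact m.sub_mem h1 h2
    have h1 : (1 : R) ∈ I ⊔ A := htop ▸ Submodule.mem_top
    obtain ⟨e, he, t, ht, het⟩ := Submodule.mem_sup.mp h1
    have hx : x = e * x := by
      have : x = (e + t) * x := by rw [het, one_mul]
      rw [add_mul, (hmemA t).mp ht, add_zero] at this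
      exact this
    rw [hx]
    exact Ideal.mul_mem_mul he hxK

end Groth.Agent.S6353
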