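import Groth.Statements.S6354
import Mathlib

set_option autoImplicit false
universe u
open CAlg

namespace Groth.Agent.S6354

open PrimeSpectrum in
/-- For an ideal I of a commutative ring R these four conditions are equivalent: (1) I is finitely
generated and pure; (2) I = (e) for some idempotent e; (3) I is pure with V(I) open in Spec R; (4)
R/I is projective as an R-module. -/
theorem result (R : Type u) [CommRing R] (I : Ideal R) :
    List.TFAE [I.Pure ∧ I.FG, ∃ e : R, IsIdempotentElem e ∧ I = Ideal.span {e},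
      I.Pure ∧ IsOpen (zeroLocus (I : Set R)), Module.Projective R (R ⧸ I)] := by
  have hprinc : ∀ e : R, IsIdempotentElem e → (Ideal.span {e}).Pure := by
    intro e he
    apply Ideal.Pure.of_isIdempotentElem ⟨{e}, by simp⟩
    rw [Ideal.isIdempotentElem_iff_of_fg _ ⟨{e}, by simp⟩]
    exact ⟨e, he, rfl⟩
  tfae_have 1 → 2 := by
    rintro ⟨hp, hfg⟩
    haveI := hp
    exact (Ideal.isIdempotentElem_iff_of_fg I hfg).mp (Ideal.isIdempotentElem_of_pure I)
  tfae_have 2 → 1 := by
    rintro ⟨e, he, rfl⟩
    exact ⟨hprinc e he, ⟨{e}, by simp⟩⟩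
  tfae_have 2 → 3 := by
    rintro ⟨e, he, rfl⟩
    refine ⟨hprinc e he, ?_⟩
    rw [PrimeSpectrum.zeroLocus_span]
    have : IsClopen (PrimeSpectrum.zeroLocus ({e} : Set R)) :=
      PrimeSpectrum.isClopen_iff_zeroLocus.mpr ⟨e, he, rfl⟩
    exact this.2
  tfae_have 3 → 2 := by
    rintro ⟨hp, ho⟩
    have hc : IsClopen (PrimeSpectrum.zeroLocus (I : Set R)) :=
      ⟨PrimeSpectrum.isClosed_zeroLocus _, ho⟩
    obtain ⟨e, he, h⟩ := PrimeSpectrum.isClopen_iff_zeroLocus.mp hc
    refine ⟨e, he, ?_⟩
    haveI := hp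
    haveI := hprinc e he
    rw [← Ideal.zeroLocus_inj_of_pure, h, PrimeSpectrum.zeroLocus_span]
  tfae_have 2 → 4 := by
    rintro ⟨e, he, rfl⟩
    let i : (R ⧸ Ideal.span {e}) →ₗ[R] R :=
      Submodule.liftQ (Ideal.span {e}) (LinearMap.mulLeft R (1 - e)) (by
        rw [Ideal.span_le]
        intro x hx
        rw [Set.mem_singleton_iff] at hx
        subst hx
        simp only [SetLike.mem_coe, LinearMap.mem_ker, LinearMap.mulLeft_apply]
        rw [sub_mul, one_mul, he.eq, sub_self])
    refine Module.Projective.of_split i (Submodule.mkQ (Ideal.span {e})) ?_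
    ext
    simp only [LinearMap.coe_comp, Function.comp_apply, Submodule.mkQ_apply, LinearMap.id_comp, i]
    erw [Submodule.liftQ_apply]
    simp only [LinearMap.mulLeft_apply, mul_one]
    rw [Submodule.Quotient.eq]
    rw [sub_sub_cancel_left]
    exact (Ideal.span {e}).neg_mem (Ideal.mem_span_singleton_self e)
  tfae_have 4 → 2 := by
    intro hproj
    obtain ⟨s, hs⟩ := Module.projective_lifting_property (Submodule.mkQ I) LinearMap.id
      (Submodule.mkQ_surjective I)
    set f := s (Submodule.Quotient.mk 1) with hf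
    have h1 : 1 - f ∈ I := by
      have := LinearMap.congr_fun hs (Submodule.Quotient.mk 1)
      simp only [LinearMap.coe_comp, Function.comp_apply, Submodule.mkQ_apply, LinearMap.id_coe, id_eq] at this
      rw [← hf] at this
      have h2 := (Submodule.Quotient.eq I).mp this
      have := I.neg_mem h2
      rwa [neg_sub] at this
    have h2 : ∀ x ∈ I, x * f = 0 := by
      intro x hx
      rw [hf, ← smul_eq_mul, ← map_smul, ← Submodule.Quotient.mk_smul, smul_eq_mul, mul_one,
        (Submodule.Quotient.mk_eq_zero I).mpr hx, map_zero]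
    have h3 : ∀ x ∈ I, x = x * (1 - f) := by
      intro x hx
      rw [mul_sub, mul_one, h2 x hx, sub_zero]
    refine ⟨1 - f, (h3 _ h1).symm, le_antisymm ?_ ?_⟩
    · intro x hx
      rw [Ideal.mem_span_singleton']
      exact ⟨x, (h3 x hx).symm⟩
    · rw [Ideal.span_le]
      intro x hx
      rw [Set.mem_singleton_iff] at hx
      subst hx
      exact h1
  tfae_finish

end Groth.Agent.S6354
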