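import Groth.Statements.S6364
import Mathlib

set_option autoImplicit false
universe u
open Fields

namespace Groth.Agent.S6364

open Matrix Polynomial in
theorem H3_charpoly_blockDiagonal {R : Type*} [CommRing R] {m o : Type*} [Fintype m] [DecidableEq m]
    [Fintype o] [DecidableEq o]
    (M : o → Matrix m m R) : (blockDiagonal M).charpoly = ∏ k, (M k).charpoly := by
  unfold Matrix.charpoly
  rw [← det_blockDiagonal]
  congr 1
  ext ⟨i, k⟩ ⟨j, k'⟩
  simp only [charmatrix_apply, blockDiagonal_apply, diagonal_apply, Prod.mk.injEq]
  by_cases hk : k = k'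
  · subst hk
    by_cases hij : i = j
    · simp [hij]
    · simp [hij]
  · simp [hk]

theorem H3_charpoly_lmul_gen {K F L : Type*} [Field K] [Field F] [Field L] [Algebra K F] [Algebra F L]
    [Algebra K L] [IsScalarTower K F L] [FiniteDimensional K L] [FiniteDimensional F L]
    (pb : PowerBasis K F) :
    (Algebra.lmul K L (algebraMap F L pb.gen)).charpoly = minpoly K pb.gen ^ Module.finrank F L := by
  classical
  let c := Module.finBasis F L
  have h1 : (Algebra.lmul K L (algebraMap F L pb.gen)).charpoly =
      (Algebra.leftMulMatrix (pb.basis.smulTower c) (algebraMap F L pb.gen)).charpoly := by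
    rw [Algebra.leftMulMatrix_apply, LinearMap.charpoly_toMatrix]
  rw [h1, Algebra.smulTower_leftMulMatrix_algebraMap, H3_charpoly_blockDiagonal,
    Finset.prod_const, charpoly_leftMulMatrix, Finset.card_univ, Fintype.card_fin]

open IntermediateField in
/-- Let L/K be a finite extension and a ∈ L with minimal polynomial P over K. Then P ^ e, with e = [L :
K(a)], is the characteristic polynomial of multiplication by a (the K-linear map x ↦ a x on L), and
e · deg P = [L : K]. -/
theorem result {K L : Type u} [Field K] [Field L] [Algebra K L] [FiniteDimensional K L]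
    (a : L) :
    (Algebra.lmul K L a).charpoly = minpoly K a ^ Module.finrank K⟮a⟯ L ∧
      Module.finrank K⟮a⟯ L * (minpoly K a).natDegree = Module.finrank K L := by
  classical
  have ha : IsIntegral K a := IsIntegral.of_finite K a
  refine ⟨?_, ?_⟩
  · have h2 : a = algebraMap K⟮a⟯ L (IntermediateField.adjoin.powerBasis ha).gen := by
      rw [IntermediateField.adjoin.powerBasis_gen, IntermediateField.AdjoinSimple.algebraMap_gen]
    have h3 := H3_charpoly_lmul_gen (K := K) (F := K⟮a⟯) (L := L) (IntermediateField.adjoin.powerBasis ha)
    rw [← h2, IntermediateField.adjoin.powerBasis_gen, IntermediateField.minpoly_gen] at h3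
    exact h3
  · rw [← IntermediateField.adjoin.finrank ha, mul_comm, Module.finrank_mul_finrank]

end Groth.Agent.S6364
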