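import Groth.Statements.S6368
import Groth.Statements.S6368
import Mathlib

set_option autoImplicit false
universe u
open scoped TensorProduct
open CAlg

namespace Groth.Agent.S6368

/-- Let R → S be faithfully flat and M an R-module. If the S-module S ⊗_R M is countably generated then
M is countably generated. -/
theorem result (R S : Type u) [CommRing R] [CommRing S] [Algebra R S]
    [Module.FaithfullyFlat R S] (M : Type u) [AddCommGroup M] [Module R M]
    (h : CAlg.IsCountablyGenerated S (S ⊗[R] M)) : CAlg.IsCountablyGenerated R M := by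
  classical
  obtain ⟨s, hs, hspan⟩ := h
  choose F hF using fun x : TensorProduct R S M => TensorProduct.exists_finset x
  let T : Set M := ⋃ x ∈ s, ((F x).image Prod.snd : Set M)
  have hT : T.Countable := by
    apply Set.Countable.biUnion hs
    intro x _
    exact Finset.countable_toSet _
  refine ⟨T, hT, ?_⟩
  set M' := Submodule.span R T with hM'
  -- the S-linear map S ⊗ M → S ⊗ (M/M')
  let g : TensorProduct R S M →ₗ[S] TensorProduct R S (M ⧸ M') :=
    TensorProduct.AlgebraTensorModule.lTensor S S M'.mkQ
  have hg : Function.Surjective g := LinearMap.lTensor_surjective S M'.mkQ_surjective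
  have hzero : g = 0 := by
    apply LinearMap.ext_on hspan
    intro x hx
    rw [LinearMap.zero_apply]
    conv_lhs => rw [hF x]
    rw [map_sum]
    apply Finset.sum_eq_zero
    intro i hi
    have hmem : i.2 ∈ M' := by
      apply Submodule.subset_span
      refine Set.mem_biUnion hx ?_
      exact Finset.mem_coe.mpr (Finset.mem_image_of_mem _ hi)
    show (i.1 ⊗ₜ[R] (M'.mkQ i.2) : TensorProduct R S (M ⧸ M')) = 0
    rw [Submodule.mkQ_apply, (Submodule.Quotient.mk_eq_zero M').mpr hmem, TensorProduct.tmul_zero]
  have hsub : Subsingleton (TensorProduct R S (M ⧸ M')) := by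
    refine ⟨fun a b => ?_⟩
    obtain ⟨a', rfl⟩ := hg a
    obtain ⟨b', rfl⟩ := hg b
    rw [hzero]; rfl
  have hsub2 : Subsingleton (M ⧸ M') :=
    (Module.FaithfullyFlat.subsingleton_tensorProduct_iff_right R S).mp hsub
  exact Submodule.Quotient.subsingleton_iff.mp hsub2

end Groth.Agent.S6368
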