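import Groth.Statements.S6371
import Mathlib

set_option autoImplicit false
universe u
open CAlg

namespace Groth.Agent.S6371

/-- A ring map R → S is an epimorphism of rings if and only if for every prime p of R the localized map
R_p → S_p is an epimorphism, where S_p is S localized at the image of R ∖ p. -/
theorem result (R S : Type u) [CommRing R] [CommRing S] [Algebra R S] :
    Algebra.IsEpi R S ↔ ∀ (p : Ideal R) [p.IsPrime],
      Algebra.IsEpi (Localization.AtPrime p) (Localization (Algebra.algebraMapSubmonoid S p.primeCompl)) := by
  constructor
  · intro h p _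
    rw [← CommRingCat.epi_iff_epi] at h ⊢
    refine ⟨fun {Z} g k e => ?_⟩
    have e' : ∀ x, g.hom (algebraMap (Localization.AtPrime p) _ x) =
        k.hom (algebraMap (Localization.AtPrime p) _ x) := fun x =>
      RingHom.congr_fun (congrArg CommRingCat.Hom.hom e) x
    have key := h.left_cancellation
      (CategoryTheory.CategoryStruct.comp (CommRingCat.ofHom (algebraMap S (Localization (Algebra.algebraMapSubmonoid S p.primeCompl)))) g)
      (CategoryTheory.CategoryStruct.comp (CommRingCat.ofHom (algebraMap S (Localization (Algebra.algebraMapSubmonoid S p.primeCompl)))) k)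
      (by
        ext r
        have := e' (algebraMap R _ r)
        simp only [CommRingCat.hom_comp, CommRingCat.hom_ofHom, RingHom.coe_comp, Function.comp_apply]
        rw [← IsScalarTower.algebraMap_apply, IsScalarTower.algebraMap_apply R S] at this
        exact this)
    ext1
    apply IsLocalization.ringHom_ext (Algebra.algebraMapSubmonoid S p.primeCompl)
    exact congrArg CommRingCat.Hom.hom key
  · intro h
    rw [Algebra.isEpi_iff_forall_one_tmul_eq]
    intro s
    by_contra hne
    let x : TensorProduct R S S := (1 : S) ⊗ₜ[R] s - s ⊗ₜ[R] (1 : S)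
    have hx : x ≠ 0 := fun h0 => hne (sub_eq_zero.mp h0)
    let I : Ideal R := LinearMap.ker (LinearMap.toSpanSingleton R (TensorProduct R S S) x)
    have hI : I ≠ ⊤ := by
      intro htop
      have : (1 : R) ∈ I := htop ▸ Submodule.mem_top
      rw [LinearMap.mem_ker, LinearMap.toSpanSingleton_apply, one_smul] at this
      exact hx this
    obtain ⟨P, hP, hIP⟩ := Ideal.exists_le_maximal I hI
    haveI := hP.isPrime
    have hep := h P
    rw [← CommRingCat.epi_iff_epi] at hep
    have hl : Algebra.algebraMapSubmonoid S P.primeCompl ≤
        (Algebra.algebraMapSubmonoid (TensorProduct R S S) P.primeCompl).comap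
          (Algebra.TensorProduct.includeLeftRingHom : S →+* TensorProduct R S S) := by
      rintro _ ⟨r, hr, rfl⟩
      refine ⟨r, hr, ?_⟩
      simp [Algebra.TensorProduct.algebraMap_apply]
    have hr : Algebra.algebraMapSubmonoid S P.primeCompl ≤
        (Algebra.algebraMapSubmonoid (TensorProduct R S S) P.primeCompl).comap
          ((Algebra.TensorProduct.includeRight (R := R) (A := S) (B := S)).toRingHom) := by
      rintro _ ⟨r, hr, rfl⟩
      refine ⟨r, hr, ?_⟩
      simp
    let φl : Localization (Algebra.algebraMapSubmonoid S P.primeCompl) →+*
        Localization (Algebra.algebraMapSubmonoid (TensorProduct R S S) P.primeCompl) :=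
      IsLocalization.map _ _ hl
    let φr : Localization (Algebra.algebraMapSubmonoid S P.primeCompl) →+*
        Localization (Algebra.algebraMapSubmonoid (TensorProduct R S S) P.primeCompl) :=
      IsLocalization.map _ _ hr
    have key := hep.left_cancellation (CommRingCat.ofHom φl) (CommRingCat.ofHom φr) (by
      ext1
      apply IsLocalization.ringHom_ext P.primeCompl
      ext r
      simp only [CommRingCat.hom_comp, CommRingCat.hom_ofHom, RingHom.coe_comp, Function.comp_apply]
      rw [← IsScalarTower.algebraMap_apply, IsScalarTower.algebraMap_apply R S]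
      simp only [φl, φr, IsLocalization.map_eq]
      congr 1
      simp [Algebra.TensorProduct.algebraMap_apply])
    have key2 := RingHom.congr_fun (congrArg CommRingCat.Hom.hom key) (algebraMap S _ s)
    simp only [CommRingCat.hom_ofHom, φl, φr, IsLocalization.map_eq] at key2
    obtain ⟨⟨_, r, hr', rfl⟩, hc⟩ := (IsLocalization.eq_iff_exists
      (Algebra.algebraMapSubmonoid (TensorProduct R S S) P.primeCompl) _).mp key2
    apply hr'
    apply hIP
    rw [LinearMap.mem_ker, LinearMap.toSpanSingleton_apply]
    simp only [x, Algebra.smul_def]
    rw [mul_sub, sub_eq_zero]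
    exact hc.symm

end Groth.Agent.S6371
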