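import Groth.Statements.S6372
import Mathlib

set_option autoImplicit false
universe u
open CAlg

namespace Groth.Agent.S6372

/-- A faithfully flat epimorphism of rings is an isomorphism: if R → S is faithfully flat and an
epimorphism in the category of rings then it is bijective. -/
theorem result (R S : Type u) [CommRing R] [CommRing S] [Algebra R S]
    [Module.FaithfullyFlat R S] [Algebra.IsEpi R S] : Function.Bijective (algebraMap R S) := by
  let f : R →ₗ[R] S := Algebra.linearMap R S
  let m : TensorProduct R S S →ₗ[R] S := TensorProduct.lift (LinearMap.mul R S)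
  have hm : Function.Bijective m :=
    ⟨Algebra.IsEpi.injective_lift_mul, fun s => ⟨s ⊗ₜ 1, by simp [m]⟩⟩
  have hcomp : m ∘ₗ f.lTensor S = (TensorProduct.rid R S).toLinearMap := by
    ext s
    simp [m, f]
  have h1 : Function.Bijective (m ∘ (f.lTensor S)) := by
    have : (m ∘ (f.lTensor S)) = (TensorProduct.rid R S) := by
      funext x
      exact congrArg (fun g : TensorProduct R S R →ₗ[R] S => g x) hcomp
    rw [this]
    exact (TensorProduct.rid R S).bijective
  have h2 : Function.Bijective (f.lTensor S) := (Function.Bijective.of_comp_iff' hm _).mp h1
  exact (Module.FaithfullyFlat.lTensor_bijective_iff_bijective R S f).mp h2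

end Groth.Agent.S6372
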