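import Groth.Statements.S6373
import Mathlib

set_option autoImplicit false
universe u
open CAlg

namespace Groth.Agent.S6373

/-- If k is a field and k → S is an epimorphism of rings, then S is the zero ring or k → S is an
isomorphism. -/
theorem result (k S : Type u) [Field k] [CommRing S] [Algebra k S] [Algebra.IsEpi k S] :
    Subsingleton S ∨ Function.Bijective (algebraMap k S) := by
  rcases subsingleton_or_nontrivial S with h | h
  · exact Or.inl h
  right
  refine ⟨(algebraMap k S).injective, fun s => ?_⟩
  by_contra hs
  have hs' : s ∉ (Submodule.span k {(1:S)}) := by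
    intro hmem
    rw [Submodule.mem_span_singleton] at hmem
    obtain ⟨a, ha⟩ := hmem
    exact hs ⟨a, by rw [Algebra.algebraMap_eq_smul_one, ha]⟩
  obtain ⟨f, hf, hf0⟩ := Submodule.exists_dual_map_eq_bot_of_notMem hs' inferInstance
  have hf1 : f 1 = 0 := by
    have : f 1 ∈ (Submodule.span k {(1:S)}).map f :=
      Submodule.mem_map_of_mem (Submodule.mem_span_singleton_self _)
    rw [hf0] at this
    simpa using this
  have key := (Algebra.isEpi_iff_forall_one_tmul_eq k S).mp inferInstance s
  have h2 := congrArg (fun t => (TensorProduct.lid k S) (TensorProduct.map f LinearMap.id t)) key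
  simp only [TensorProduct.map_tmul, LinearMap.id_coe, id_eq, TensorProduct.lid_tmul, hf1,
    zero_smul] at h2
  have h3 : f s = 0 := by
    by_contra hne
    have : (1 : S) = 0 := by
      have := congrArg (fun t => (f s)⁻¹ • t) h2
      simpa [smul_smul, inv_mul_cancel₀ hne] using this.symm
    exact one_ne_zero this
  exact hf h3

end Groth.Agent.S6373
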