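import Groth.Statements.S6374
import Mathlib
import Groth.Agent.Lib.helper2.Epi
import Groth.Agent.S6373

set_option autoImplicit false
universe u
open CAlg

namespace Groth.Agent.S6374

/-- For an epimorphism of rings R → S, the induced map Spec S → Spec R is injective and induces trivial
residue field extensions; stated in the form the proof gives: for every prime p of R the fibre ring
S ⊗_R κ(p) is either zero or κ(p) → S ⊗_R κ(p) is bijective, together with injectivity of Spec S →
Spec R. -/
theorem result (R S : Type u) [CommRing R] [CommRing S] [Algebra R S]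
    [Algebra.IsEpi R S] :
    Function.Injective (PrimeSpectrum.comap (algebraMap R S)) ∧
      ∀ (p : Ideal R) [p.IsPrime],
        Subsingleton (p.Fiber S) ∨ Function.Bijective (algebraMap p.ResidueField (p.Fiber S)) := by
  have part2 : ∀ (p : Ideal R) [p.IsPrime],
      Subsingleton (p.Fiber S) ∨ Function.Bijective (algebraMap p.ResidueField (p.Fiber S)) := by
    intro p _
    have : Algebra.IsEpi p.ResidueField (p.Fiber S) :=
      Groth.Agent.H2.H2_isEpi_baseChange R p.ResidueField S
    exact Groth.Agent.S6373.result p.ResidueField (p.Fiber S)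
  refine ⟨?_, part2⟩
  intro q₁ q₂ h
  set p := PrimeSpectrum.comap (algebraMap R S) q₁ with hp
  have hsub : Subsingleton (PrimeSpectrum (p.asIdeal.Fiber S)) := by
    rcases part2 p.asIdeal with h1 | h1
    · exact ⟨fun P Q => (P.2.ne_top (Ideal.eq_top_iff_one _ |>.mpr
        (by rw [Subsingleton.elim (1 : p.asIdeal.Fiber S) 0]; exact P.asIdeal.zero_mem))).elim⟩
    · have key : ∀ P : PrimeSpectrum (p.asIdeal.Fiber S), P.asIdeal = ⊥ := by
        intro P
        rw [eq_bot_iff]
        intro x hx
        obtain ⟨y, rfl⟩ := h1.2 x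
        by_cases hy : y = 0
        · simp [hy]
        · exfalso
          apply P.2.ne_top
          apply Ideal.eq_top_of_isUnit_mem _ hx
          exact (IsUnit.mk0 y hy).map (algebraMap _ _)
      exact ⟨fun P Q => PrimeSpectrum.ext ((key P).trans (key Q).symm)⟩
  let e := PrimeSpectrum.preimageEquivFiber R S p
  have h1 : q₁ ∈ PrimeSpectrum.comap (algebraMap R S) ⁻¹' {p} := rfl
  have h2 : q₂ ∈ PrimeSpectrum.comap (algebraMap R S) ⁻¹' {p} := h.symm
  have := e.injective (Subsingleton.elim (e ⟨q₁, h1⟩) (e ⟨q₂, h2⟩))
  exact congrArg Subtype.val this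

end Groth.Agent.S6374
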