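import Groth.Statements.S6375
import Mathlib
import Groth.Agent.Lib.helper6.EpiZigzag4

set_option autoImplicit false
universe u
open CAlg Groth.Agent.Lib.helper6
set_option linter.style.haveILetI false

namespace Groth.Agent.S6375

/-- For an infinite source ring: if R → S is an epimorphism of rings with R infinite, then |S| ≤ |R| as
cardinals. (For finite R the published statement also asserts |S| ≤ |R|, but its proof only gives
that S is countable and omits the rest, so that case is not included.) -/
theorem result (R S : Type u) [CommRing R] [CommRing S] [Algebra R S] [Algebra.IsEpi R S]
    [Infinite R] : Cardinal.mk S ≤ Cardinal.mk R := by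
  exact H6_epi_card_le R S

end Groth.Agent.S6375
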