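import Groth.Statements.S6376
import Mathlib

set_option autoImplicit false
universe u
open CAlg

namespace Groth.Agent.S6376

/-- A ring map R → S is an epimorphism if and only if for all S-modules N₁, N₂ every R-linear map N₁ →
N₂ is S-linear, i.e. restriction of scalars from S-modules to R-modules is fully faithful. -/
theorem result (R S : Type u) [CommRing R] [CommRing S] [Algebra R S] :
    Algebra.IsEpi R S ↔
      ∀ (N₁ N₂ : Type u) [AddCommGroup N₁] [Module S N₁] [Module R N₁] [IsScalarTower R S N₁]
        [AddCommGroup N₂] [Module S N₂] [Module R N₂] [IsScalarTower R S N₂] (φ : N₁ →ₗ[R] N₂),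
        ∀ (s : S) (x : N₁), φ (s • x) = s • φ x := by
  constructor
  · intro hepi N₁ N₂ _ _ _ _ _ _ _ _ φ s x
    let f : TensorProduct R S S →ₗ[R] N₂ := TensorProduct.lift
      (LinearMap.mk₂ R (fun a b => a • φ (b • x))
        (fun a a' b => by simp [add_smul])
        (fun r a b => by simp)
        (fun a b b' => by simp [add_smul])
        (fun r a b => by simp [smul_comm a r]))
    have key := congrArg f ((Algebra.isEpi_iff_forall_one_tmul_eq R S).mp hepi s)
    simpa [f] using key
  · intro h
    rw [Algebra.isEpi_iff_forall_one_tmul_eq]
    intro s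
    let φ : S →ₗ[R] TensorProduct R S S :=
      { toFun := fun b => (1 : S) ⊗ₜ[R] b
        map_add' := fun a b => TensorProduct.tmul_add _ _ _
        map_smul' := fun r b => by simp }
    have := h S (TensorProduct R S S) φ s 1
    simpa [φ, TensorProduct.smul_tmul'] using this

end Groth.Agent.S6376
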