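import Groth.Statements.S6380
import Groth.Statements.S6380
import Mathlib

set_option autoImplicit false
universe u
open scoped TensorProduct
open CAlg

namespace Groth.Agent.S6380

/-- Given a linear map f : P → M of R-modules with P finitely presented, an R-module Q and an element x
of P ⊗ Q in the kernel of f ⊗ id_Q, one can factor f as h ∘ f' through some finitely presented
module P' (with f' : P → P' and h : P' → M) so that already f' ⊗ id_Q sends x to zero. -/
theorem result (R : Type u) [CommRing R] {P M Q : Type u}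
    [AddCommGroup P] [Module R P] [Module.FinitePresentation R P] [AddCommGroup M] [Module R M]
    [AddCommGroup Q] [Module R Q] (f : P →ₗ[R] M) (x : P ⊗[R] Q) (hx : f.rTensor Q x = 0) :
    ∃ (P' : Type u) (_ : AddCommGroup P') (_ : Module R P') (_ : Module.FinitePresentation R P')
      (f' : P →ₗ[R] P') (h : P' →ₗ[R] M), f = h ∘ₗ f' ∧ f'.rTensor Q x = 0 := by
  classical
  -- write x as a finite sum
  obtain ⟨s, p, q, rfl⟩ := TensorProduct.exists_sum_tmul_eq x
  -- a finitely generated submodule of M in which the sum already vanishes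
  have hP₀ : (LinearMap.range f).FG := by
    rw [← Module.Finite.iff_fg]; infer_instance
  have ht : (LinearMap.rTensor Q (LinearMap.range f).subtype)
      (LinearMap.rTensor Q f.rangeRestrict (∑ j, p j ⊗ₜ[R] q j)) = 0 := by
    rw [← LinearMap.comp_apply, ← LinearMap.rTensor_comp, LinearMap.subtype_comp_codRestrict]
    exact hx
  obtain ⟨Q', hPQ, hQ'fg, hQ'⟩ := TensorProduct.eq_zero_of_fg_of_subtype_eq_zero hP₀ ht
  haveI : Module.Finite R Q' := Module.Finite.iff_fg.mpr hQ'fg
  obtain ⟨r, m', hm'⟩ := Module.Finite.exists_fin (R := R) (M := Q')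
  have hfQ' : ∀ x, f x ∈ Q' := fun x => hPQ ⟨x, rfl⟩
  -- the family to which the vanishing criterion is applied
  let m : Fin s ⊕ Fin r → Q' := Sum.elim (fun i => ⟨f (p i), hfQ' (p i)⟩) m'
  let n : Fin s ⊕ Fin r → Q := Sum.elim q (fun _ => 0)
  have hspan : Submodule.span R (Set.range m) = ⊤ := by
    rw [eq_top_iff, ← hm']
    apply Submodule.span_mono
    rintro _ ⟨l, rfl⟩
    exact ⟨Sum.inr l, rfl⟩
  have hsum : ∑ i, m i ⊗ₜ[R] n i = (0 : Q' ⊗[R] Q) := by
    rw [Fintype.sum_sum_type]
    simp only [m, n, Sum.elim_inl, Sum.elim_inr, TensorProduct.tmul_zero, Finset.sum_const_zero,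
      add_zero]
    rw [← hQ', map_sum, map_sum]
    rfl
  obtain ⟨k, a, y, h₁, h₂⟩ := TensorProduct.vanishesTrivially_of_sum_tmul_eq_zero R hspan hsum
  -- the new finitely presented module
  let w : Fin s ⊕ Fin r → P × (Fin r → R) :=
    Sum.elim (fun i => (p i, 0)) (fun l => (0, Pi.single l 1))
  let z : Fin k → P × (Fin r → R) := fun j => ∑ i, a i j • w i
  let K : Submodule R (P × (Fin r → R)) := Submodule.span R (Set.range z)
  let φ : P × (Fin r → R) →ₗ[R] M :=
    f.coprod (Fintype.linearCombination R (fun l => ((m' l : Q') : M)))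
  have hφw : ∀ i, φ (w i) = (m i : M) := by
    rintro (i | l)
    · simp [φ, w, m]
    · simp [φ, w, m]
  have hK : K ≤ LinearMap.ker φ := by
    rw [Submodule.span_le]
    rintro _ ⟨j, rfl⟩
    rw [SetLike.mem_coe, LinearMap.mem_ker]
    simp only [z, map_sum, map_smul, hφw]
    have := congrArg (Q'.subtype) (h₂ j)
    simpa using this
  refine ⟨(P × (Fin r → R)) ⧸ K, inferInstance, inferInstance, ?_,
    K.mkQ.comp (LinearMap.inl R P (Fin r → R)), K.liftQ φ hK, ?_, ?_⟩
  · refine Module.finitePresentation_of_surjective K.mkQ (Submodule.mkQ_surjective K) ?_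
    rw [Submodule.ker_mkQ]
    exact Submodule.fg_span (Set.finite_range z)
  · ext x
    simp [φ]
  · -- the image of x vanishes trivially
    let mt : Fin s ⊕ Fin r → (P × (Fin r → R)) ⧸ K := fun i => K.mkQ (w i)
    have hv : TensorProduct.VanishesTrivially R mt n := by
      refine ⟨k, a, y, h₁, fun j => ?_⟩
      have : ∑ i, a i j • mt i = K.mkQ (z j) := by
        simp only [mt, z, map_sum, map_smul]
      rw [this]
      simp only [Submodule.mkQ_apply, Submodule.Quotient.mk_eq_zero]
      exact Submodule.subset_span ⟨j, rfl⟩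
    have h0 := TensorProduct.sum_tmul_eq_zero_of_vanishesTrivially R hv
    rw [Fintype.sum_sum_type] at h0
    simp only [n, Sum.elim_inl, Sum.elim_inr, TensorProduct.tmul_zero, Finset.sum_const_zero,
      add_zero] at h0
    rw [map_sum]
    rw [← h0]
    rfl

end Groth.Agent.S6380
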