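import Groth.Statements.S6404
import Groth.Agent.Lib.helper1.FibCatInertia

set_option autoImplicit false
open CategoryTheory
universe v u
open FibCat


theorem H1_UL_id (C : Type*) [CategoryTheory.Category C] : Groth.Agent.H1.FC.UL (CategoryTheory.Functor.id C) := by
  refine Groth.Agent.H1.FC.H1_UL_mk ?_ ?_
  · intro η U f
    exact ⟨U, f, (Groth.Agent.H1.FC.H1_isHomLift_iff (CategoryTheory.Functor.id C) (a := U) (b := η) f f).2 rfl⟩
  · intro a b η φ ψ U f hφ hψ
    have ha : a = U := CategoryTheory.IsHomLift.domain_eq (CategoryTheory.Functor.id C) f φ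
    have hb : b = U := CategoryTheory.IsHomLift.domain_eq (CategoryTheory.Functor.id C) f ψ
    subst ha
    subst hb
    refine ⟨rfl, ?_⟩
    have h1 := CategoryTheory.IsHomLift.fac' (CategoryTheory.Functor.id C) f φ
    have h2 := CategoryTheory.IsHomLift.fac' (CategoryTheory.Functor.id C) f ψ
    simp only [CategoryTheory.Functor.id_map, CategoryTheory.eqToHom_refl, CategoryTheory.Category.comp_id,
      CategoryTheory.Category.id_comp] at h1 h2
    rw [h1, h2]
    simp

namespace Groth.Agent.S6404

/-- The inertia of a category fibred in groupoids over `C` is fibred in groupoids over `C`. -/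
theorem result {C : Type u} [Category.{v} C] {𝒳 : BasedCategory.{v, max u v} C} (h𝒳 : FibCat.IsFibGrpd 𝒳.p) :
    FibCat.IsFibGrpd (FibCat.inertia (FibCat.toSelf 𝒳)).p := by
  have h0 : FibCat.IsFibGrpd (FibCat.selfOver C).p :=
    Groth.Agent.H1.FC.H1_isFibGrpd_of_UL (H1_UL_id C)
  exact Groth.Agent.H1.FC.H1_isFibGrpd_inertia (FibCat.toSelf 𝒳) h𝒳 h0

end Groth.Agent.S6404
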