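import Groth.Statements.S6405
import Groth.Agent.Lib.helper1.FibCatCart

set_option autoImplicit false
open CategoryTheory
universe v u
open FibCat

namespace Groth.Agent.S6405

/-- (2) ⇒ (1): if `𝒳` is fibred in groupoids over `C` and the canonical functor `I_𝒳 ⟶ 𝒳` from its
inertia is an equivalence over `C`, then `𝒳` is fibred in setoids. (The published statement is an
equivalence; this row states only that the inertia condition implies that `𝒳` is fibred in setoids.) -/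
theorem result {C : Type u} [Category.{v} C] {𝒳 : BasedCategory.{v, max u v} C} (h𝒳 : FibCat.IsFibGrpd 𝒳.p)
    (h : FibCat.IsEquivOver (FibCat.inertiaToBase (FibCat.toSelf 𝒳))) : FibCat.IsFibSetoid 𝒳.p := by
  refine ⟨h𝒳, fun U => ?_⟩
  obtain ⟨hfull, hfaith, -⟩ := Groth.Agent.H1.FC.H1_isEquivOver_data _ h
  have hgrp := Groth.Agent.H1.FC.H1_isGroupoid_fiber_of_isFibGrpd h𝒳 U
  intro a b
  refine ⟨fun φ ψ => ?_⟩
  let α₀ : a ⟶ a := φ ≫ inv ψ
  have hα₀ : 𝒳.p.IsHomLift (𝟙 U) α₀.1 := α₀.2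
  let α : a.1 ≅ a.1 := Functor.Fiber.fiberInclusion.mapIso (asIso α₀)
  have hmap : (FibCat.toSelf 𝒳).toFunctor.map α.hom = 𝟙 _ := by
    change 𝒳.p.map α₀.1 = 𝟙 _
    rw [IsHomLift.fac' 𝒳.p (𝟙 U) α₀.1]
    simp
  let X : FibCat.InertiaObj (FibCat.toSelf 𝒳) := ⟨a.1, α, hmap⟩
  let Y : FibCat.InertiaObj (FibCat.toSelf 𝒳) := ⟨a.1, Iso.refl _, by simp⟩
  obtain ⟨m, hm⟩ := (FibCat.inertiaToBase (FibCat.toSelf 𝒳)).toFunctor.map_surjective (X := X) (Y := Y) (𝟙 a.1)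
  have hm' : m.hom = 𝟙 a.1 := hm
  have hc := m.comm
  rw [hm'] at hc
  have hα1 : α₀.1 = 𝟙 a.1 := by
    have hc' : α.hom ≫ 𝟙 a.1 = 𝟙 a.1 ≫ 𝟙 a.1 := hc
    rw [Category.comp_id, Category.comp_id] at hc'
    exact hc'
  have hα2 : α₀ = 𝟙 a := by
    apply Functor.Fiber.hom_ext
    rw [CategoryTheory.Functor.map_id]
    exact hα1
  have : φ = (φ ≫ inv ψ) ≫ ψ := by simp
  rw [this]
  change α₀ ≫ ψ = ψ
  rw [hα2, Category.id_comp]

end Groth.Agent.S6405
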