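import Groth.Statements.S6407
import Groth.Agent.Lib.helper1.FibCatCart

set_option autoImplicit false
open CategoryTheory
universe v u
open FibCat


theorem H1_hom_eq_of_isFibSetoid {C : Type*} [CategoryTheory.Category C] {𝒵 : Type*} [CategoryTheory.Category 𝒵]
    {p : 𝒵 ⥤ C} (h : FibCat.IsFibSetoid p) {a b : 𝒵} (ψ₁ ψ₂ : a ⟶ b) {R S : C} (f : R ⟶ S)
    [h1 : p.IsHomLift f ψ₁] [h2 : p.IsHomLift f ψ₂] : ψ₁ = ψ₂ := by
  obtain ⟨hg, ht⟩ := h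
  have hs : p.IsStronglyCartesian f ψ₂ := Groth.Agent.H1.FC.H1_isStronglyCartesian_of_isFibGrpd hg _ _
  obtain ⟨χ, ⟨hχ, hχφ⟩, -⟩ := CategoryTheory.Functor.IsStronglyCartesian.universal_property p f ψ₂
    (𝟙 R) f (by simp) ψ₁
  have ha : p.obj a = R := CategoryTheory.IsHomLift.domain_eq p f ψ₁
  let x : p.Fiber R := ⟨a, ha⟩
  let χ' : x ⟶ x := ⟨χ, hχ⟩
  have := ht R
  have hχ' : χ' = CategoryTheory.CategoryStruct.id x := Subsingleton.elim _ _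
  have hχ1 : χ = CategoryTheory.CategoryStruct.id a := congrArg Subtype.val hχ'
  rw [← hχφ, hχ1, CategoryTheory.Category.id_comp]

namespace Groth.Agent.S6407

/-- For categories `𝒳, 𝒴` fibred in setoids over `C` and functors `f, g : 𝒳 ⟶ 𝒴` over `C` that agree on
isomorphism classes of objects of each fibre category, there is a unique 2-isomorphism `f ≅ g` over
`C`. -/
theorem result {C : Type u} [Category.{v} C] {𝒳 𝒴 : BasedCategory.{v, max u v} C} (h𝒳 : FibCat.IsFibSetoid 𝒳.p) (h𝒴 : FibCat.IsFibSetoid 𝒴.p) (f g : 𝒳 ⥤ᵇ 𝒴)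
    (hfg : ∀ (U : C) (x : 𝒳.p.Fiber U), Nonempty ((FibCat.fiberFunctor f U).obj x ≅ (FibCat.fiberFunctor g U).obj x)) :
    Nonempty (Unique (f ≅ g)) := by
  have key : ∀ x : 𝒳.obj, ∃ θ : f.toFunctor.obj x ≅ g.toFunctor.obj x, 𝒴.p.IsHomLift (𝟙 (𝒳.p.obj x)) θ.hom := by
    intro x
    obtain ⟨θ⟩ := hfg (𝒳.p.obj x) ⟨x, rfl⟩
    exact ⟨Functor.Fiber.fiberInclusion.mapIso θ, θ.hom.2⟩
  choose θ hθ using key
  have hnat : ∀ {x y : 𝒳.obj} (φ : x ⟶ y), f.toFunctor.map φ ≫ (θ y).hom = (θ x).hom ≫ g.toFunctor.map φ := by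
    intro x y φ
    have := hθ x
    have := hθ y
    have l1 : 𝒴.p.IsHomLift (𝒳.p.map φ) (f.toFunctor.map φ ≫ (θ y).hom) := inferInstance
    have l2 : 𝒴.p.IsHomLift (𝒳.p.map φ) ((θ x).hom ≫ g.toFunctor.map φ) := inferInstance
    exact H1_hom_eq_of_isFibSetoid h𝒴 _ _ (𝒳.p.map φ)
  let α : f ≅ g := BasedNatIso.mkNatIso (NatIso.ofComponents θ (fun φ => hnat φ)) (fun a => hθ a)
  refine ⟨⟨⟨α⟩, ?_⟩⟩
  intro β
  apply Iso.ext
  apply BasedNatTrans.homCategory.ext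
  ext x
  have l1 : 𝒴.p.IsHomLift (𝟙 (𝒳.p.obj x)) (β.hom.toNatTrans.app x) := β.hom.isHomLift' x
  have l2 : 𝒴.p.IsHomLift (𝟙 (𝒳.p.obj x)) (α.hom.toNatTrans.app x) := α.hom.isHomLift' x
  exact H1_hom_eq_of_isFibSetoid h𝒴 _ _ (𝟙 (𝒳.p.obj x))

end Groth.Agent.S6407
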