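import Groth.Statements.S6408
import Groth.Agent.Lib.helper1.FibCatCart

set_option autoImplicit false
open CategoryTheory
universe v u
open FibCat

namespace Groth.Agent.S6408

/-- Between categories fibred in sets over `C` the only 2-morphisms over `C` are identities. -/
theorem result {C : Type u} [Category.{v} C] {𝒳 𝒴 : BasedCategory.{v, max u v} C} (h𝒳 : FibCat.IsFibSet 𝒳.p) (h𝒴 : FibCat.IsFibSet 𝒴.p) {F G : 𝒳 ⥤ᵇ 𝒴} (α : F ⟶ G) :
    ∃ h : F = G, α = eqToHom h := by
  have hUL := Groth.Agent.H1.FC.H1_UL_of_isFibSet h𝒴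
  have key : ∀ x : 𝒳.obj, ∃ e : F.toFunctor.obj x = G.toFunctor.obj x, α.toNatTrans.app x = eqToHom e := by
    intro x
    have h1 : 𝒴.p.IsHomLift (𝟙 (𝒳.p.obj x)) (α.toNatTrans.app x) := α.isHomLift' x
    have h2 : 𝒴.p.IsHomLift (𝟙 (𝒳.p.obj x)) (𝟙 (G.toFunctor.obj x)) := IsHomLift.id (G.w_obj x)
    obtain ⟨e, he⟩ := Groth.Agent.H1.FC.H1_UL_eq hUL (α.toNatTrans.app x) (𝟙 (G.toFunctor.obj x)) (𝟙 (𝒳.p.obj x))
    exact ⟨e, by simpa using he⟩
  choose e he using key
  have hfun : F.toFunctor = G.toFunctor := by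
    refine CategoryTheory.Functor.ext e ?_
    intro x y f
    have := α.toNatTrans.naturality f
    rw [he x, he y] at this
    rw [← Category.assoc, ← this]
    simp
  have hFG : F = G := by
    obtain ⟨F0, hF⟩ := F
    obtain ⟨G0, hG⟩ := G
    change F0 = G0 at hfun
    subst hfun
    rfl
  subst hFG
  refine ⟨rfl, ?_⟩
  apply BasedNatTrans.homCategory.ext
  ext x
  rw [he x]
  simp

end Groth.Agent.S6408
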