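import Groth.Statements.S6413
import Mathlib
import Groth.Agent.Lib.helper1.FibCatFp

set_option autoImplicit false
open CategoryTheory
universe v u
open FibCat


open CategoryTheory Groth.Agent.H1.FC in
/-- strongly cartesian for the composite implies strongly cartesian for `F`, when all morphisms
of the middle category are strongly cartesian. -/
theorem H1_isStronglyCartesian_of_comp' {C : Type*} [Category C] {𝒢 : Type*} [Category 𝒢]
    {ℱ : Type*} [Category ℱ] {F : ℱ ⥤ 𝒢} {G : 𝒢 ⥤ C}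
    (hG : ∀ {a b : 𝒢} (ψ : a ⟶ b), G.IsStronglyCartesian (G.map ψ) ψ) {y x : ℱ} (φ : y ⟶ x)
    [h : (F ⋙ G).IsStronglyCartesian ((F ⋙ G).map φ) φ] : F.IsStronglyCartesian (F.map φ) φ := by
  refine { toIsHomLift := inferInstance, universal_property' := ?_ }
  intro a' g φ' hφ'
  have h0 : G.IsHomLift (G.map g ≫ G.map (F.map φ)) (g ≫ F.map φ) := by
    rw [← G.map_comp]; infer_instance
  have h1 : (F ⋙ G).IsHomLift (G.map g ≫ (F ⋙ G).map φ) φ' :=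
    H1_isHomLift_comp F G (G.map g ≫ G.map (F.map φ)) (g ≫ F.map φ) φ'
  obtain ⟨χ, ⟨hχ, hχφ⟩, huniq⟩ := Functor.IsStronglyCartesian.universal_property (F ⋙ G)
    ((F ⋙ G).map φ) φ (G.map g) (G.map g ≫ (F ⋙ G).map φ) rfl φ'
  have e1 : F.map φ' = g ≫ F.map φ := by
    have := IsHomLift.fac' F (g ≫ F.map φ) φ'
    simpa using this
  have e2 : F.map χ = g := by
    have := hG (F.map φ)
    have l1 : G.IsHomLift (G.map g) (F.map χ) := (H1_isHomLift_comp_iff F G (G.map g) χ).1 hχ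
    have l2 : G.IsHomLift (G.map g) g := inferInstance
    apply Functor.IsStronglyCartesian.ext G (G.map (F.map φ)) (F.map φ) (G.map g)
    rw [← F.map_comp, hχφ, e1]
  refine ⟨χ, ⟨?_, hχφ⟩, ?_⟩
  · rw [← e2]; infer_instance
  · rintro ψ ⟨hψ, hψφ⟩
    exact huniq ψ ⟨H1_isHomLift_comp F G (G.map g) g ψ, hψφ⟩

namespace Groth.Agent.S6413

/-- For `𝒳, 𝒴` fibred in groupoids over `C` and `F : 𝒳 ⟶ 𝒴` over `C`, the projection `𝒳 ×_{F, 𝒴, id} 𝒴 ⟶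
𝒴` is a category fibred in groupoids over `𝒴`. -/
theorem result {C : Type u} [Category.{v} C] {𝒳 𝒴 : BasedCategory.{v, max u v} C} (h𝒳 : FibCat.IsFibGrpd 𝒳.p) (h𝒴 : FibCat.IsFibGrpd 𝒴.p) (F : 𝒳 ⥤ᵇ 𝒴) :
    FibCat.IsFibGrpd (FibCat.fpSnd F (BasedFunctor.id 𝒴)).toFunctor := by
  have hfp : FibCat.IsFibGrpd (FibCat.fp F (BasedFunctor.id 𝒴)).p :=
    Groth.Agent.H1.FC.H1_isFibGrpd_fp F (BasedFunctor.id 𝒴) h𝒳 h𝒴 h𝒴
  refine ⟨?_, ?_⟩
  · intro z y' ψ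
    change y' ⟶ z.obj.snd at ψ
    -- base morphism
    have hz0 : 𝒴.p.IsHomLift (𝟙 (𝒳.p.obj z.obj.fst)) z.obj.iso.hom := z.property
    have hsnd' : 𝒴.p.obj ((BasedFunctor.id 𝒴).toFunctor.obj z.obj.snd) = 𝒳.p.obj z.obj.fst :=
      IsHomLift.codomain_eq 𝒴.p (𝟙 (𝒳.p.obj z.obj.fst)) z.obj.iso.hom
    have hsnd : 𝒴.p.obj z.obj.snd = 𝒳.p.obj z.obj.fst := hsnd'
    let g : 𝒴.p.obj y' ⟶ 𝒳.p.obj z.obj.fst := 𝒴.p.map ψ ≫ eqToHom hsnd
    have hψ : 𝒴.p.IsHomLift g ψ := by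
      apply IsHomLift.of_fac 𝒴.p g ψ rfl hsnd
      simp [g]
    obtain ⟨x', φ, hφ⟩ := h𝒳.exists_lift (x := z.obj.fst) g
    have hsc : 𝒴.p.IsStronglyCartesian g ((BasedFunctor.id 𝒴).toFunctor.map ψ) :=
      Groth.Agent.H1.FC.H1_isStronglyCartesian_of_isFibGrpd h𝒴 g ψ
    obtain ⟨i', hi', hw⟩ := Groth.Agent.H1.FC.H1_fp_exists_iso F (BasedFunctor.id 𝒴) z g φ ψ (by
      intro j hj _
      have : IsIso (𝒴.p.map j) := by
        rw [IsHomLift.fac' 𝒴.p (𝟙 (𝒴.p.obj y')) j]; infer_instance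
      exact Groth.Agent.H1.FC.H1_isIso_of_isFibGrpd h𝒴 j)
    let z' : (FibCat.fp F (BasedFunctor.id 𝒴)).obj := ⟨⟨x', y', i'⟩, hi'⟩
    let m : z' ⟶ z := ObjectProperty.homMk (⟨φ, ψ, hw⟩ : z'.obj ⟶ z.obj)
    refine ⟨z', m, ?_⟩
    exact inferInstanceAs ((FibCat.fpSnd F (BasedFunctor.id 𝒴)).toFunctor.IsHomLift
      ((FibCat.fpSnd F (BasedFunctor.id 𝒴)).toFunctor.map m) m)
  · intro z' z m
    have hsc := hfp.isStronglyCartesian m
    have hw : (FibCat.fpSnd F (BasedFunctor.id 𝒴)).toFunctor ⋙ 𝒴.p = (FibCat.fp F (BasedFunctor.id 𝒴)).p :=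
      (FibCat.fpSnd F (BasedFunctor.id 𝒴)).w
    have hsc' : ((FibCat.fpSnd F (BasedFunctor.id 𝒴)).toFunctor ⋙ 𝒴.p).IsStronglyCartesian
        (((FibCat.fpSnd F (BasedFunctor.id 𝒴)).toFunctor ⋙ 𝒴.p).map m) m := by
      have key : ∀ (q : (FibCat.fp F (BasedFunctor.id 𝒴)).obj ⥤ C), q = (FibCat.fp F (BasedFunctor.id 𝒴)).p →
          q.IsStronglyCartesian (q.map m) m := by
        rintro q rfl; exact hsc
      exact key _ hw
    exact H1_isStronglyCartesian_of_comp' (fun ψ => h𝒴.isStronglyCartesian ψ) m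

end Groth.Agent.S6413
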