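import Groth.Statements.S6414
import Mathlib

set_option autoImplicit false
open CategoryTheory
universe v₁ u₁ v₂ u₂ v₃ u₃
open FibCat

namespace Groth.Agent.S6414

/-- A morphism that is strongly cartesian with respect to `F : 𝒜 ⥤ ℬ` and whose image is strongly
cartesian with respect to `G : ℬ ⥤ 𝒞` is strongly cartesian with respect to `F ⋙ G`. -/
theorem result {𝒜 : Type u₁} [Category.{v₁} 𝒜] {ℬ : Type u₂} [Category.{v₂} ℬ] {𝒞 : Type u₃} [Category.{v₃} 𝒞] (F : 𝒜 ⥤ ℬ) (G : ℬ ⥤ 𝒞) {x y : 𝒜} (φ : x ⟶ y)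
    [F.IsStronglyCartesian (F.map φ) φ] [G.IsStronglyCartesian (G.map (F.map φ)) (F.map φ)] :
    (F ⋙ G).IsStronglyCartesian ((F ⋙ G).map φ) φ := by
  refine { toIsHomLift := inferInstance, universal_property' := ?_ }
  intro a' g φ' hφ'
  -- F.map φ' lifts g ≫ G.map (F.map φ) with respect to G
  have e1 : g ≫ G.map (F.map φ) = G.map (F.map φ') :=
    IsHomLift.eq_of_isHomLift (F ⋙ G) (g ≫ (F ⋙ G).map φ) φ'
  have h1 : G.IsHomLift (g ≫ G.map (F.map φ)) (F.map φ') := by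
    rw [e1]; infer_instance
  let χ₁ : F.obj a' ⟶ F.obj x :=
    Functor.IsStronglyCartesian.map G (G.map (F.map φ)) (F.map φ) (g := g) rfl (F.map φ')
  have hχ₁ : G.IsHomLift g χ₁ := inferInstance
  have hχ₁f : χ₁ ≫ F.map φ = F.map φ' := Functor.IsStronglyCartesian.fac _ _ _ _ _
  have h2 : F.IsHomLift (χ₁ ≫ F.map φ) φ' := by
    rw [hχ₁f]; infer_instance
  let χ : a' ⟶ x := Functor.IsStronglyCartesian.map F (F.map φ) φ (g := χ₁) rfl φ'
  have hχ : F.IsHomLift χ₁ χ := inferInstance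
  have hχf : χ ≫ φ = φ' := Functor.IsStronglyCartesian.fac _ _ _ _ _
  have eχ : F.map χ = χ₁ := (IsHomLift.eq_of_isHomLift F χ₁ χ).symm
  have eg : G.map χ₁ = g := (IsHomLift.eq_of_isHomLift G g χ₁).symm
  refine ⟨χ, ⟨?_, hχf⟩, ?_⟩
  · have : (F ⋙ G).map χ = g := by rw [Functor.comp_map, eχ, eg]
    rw [← this]; infer_instance
  · rintro ψ ⟨hψ, hψf⟩
    have eψ : g = G.map (F.map ψ) := IsHomLift.eq_of_isHomLift (F ⋙ G) g ψ
    have h3 : G.IsHomLift g (F.map ψ) := by rw [eψ]; infer_instance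
    have e3 : F.map ψ = χ₁ := by
      apply Functor.IsStronglyCartesian.map_uniq
      rw [← F.map_comp, hψf]
    have h4 : F.IsHomLift χ₁ ψ := by rw [← e3]; infer_instance
    exact Functor.IsStronglyCartesian.map_uniq F (F.map φ) φ (g := χ₁) rfl φ' ψ hψf

end Groth.Agent.S6414
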