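import Groth.Statements.S6415
import Mathlib
import Groth.Agent.Lib.helper2.Fibered

set_option autoImplicit false
open CategoryTheory
universe v₁ u₁ v₂ u₂ v₃ u₃
open FibCat

namespace Groth.Agent.S6415

/-- The composite of two fibred functors is fibred. -/
theorem result {𝒜 : Type u₁} [Category.{v₁} 𝒜] {ℬ : Type u₂} [Category.{v₂} ℬ] {𝒞 : Type u₃} [Category.{v₃} 𝒞] (F : 𝒜 ⥤ ℬ) (G : ℬ ⥤ 𝒞) [F.IsFibered] [G.IsFibered] : (F ⋙ G).IsFibered := by
  apply Functor.IsFibered.of_exists_isStronglyCartesian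
  intro a R f
  obtain ⟨b, ψ, hψ⟩ := Functor.IsPreFibered.exists_isCartesian' (p := G) (a := F.obj a) f
  obtain ⟨a', φ, hφ⟩ := Functor.IsPreFibered.exists_isCartesian' (p := F) (a := a) ψ
  refine ⟨a', φ, ?_⟩
  haveI hG : G.IsStronglyCartesian f ψ := inferInstance
  haveI hF : F.IsStronglyCartesian ψ φ := inferInstance
  exact Groth.Agent.H2.H2_isStronglyCartesian_comp_functor F G f ψ φ

end Groth.Agent.S6415
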