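import Groth.Statements.S6417
import Mathlib

set_option autoImplicit false
open CategoryTheory CategoryTheory.Limits
universe v₁ u₁ v₂ u₂
open FibCat

namespace Groth.Agent.S6417

/-- For `p : 𝒮 ⥤ C`, a strongly cartesian `φ : x ⟶ y`, any `ψ : z ⟶ y`, and a strongly cartesian `a : w
⟶ z` lying over the second projection of `p x ×_{p y} p z`, the object `w` is a fibre product `x ×_y
z`: there is `b : w ⟶ x` over the first projection with `(b, a)` a pullback square. -/
theorem result {𝒮 : Type u₁} [Category.{v₁} 𝒮] {C : Type u₂} [Category.{v₂} C] (p : 𝒮 ⥤ C) {x y z w : 𝒮} (φ : x ⟶ y) (ψ : z ⟶ y)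
    [p.IsStronglyCartesian (p.map φ) φ] [HasPullback (p.map φ) (p.map ψ)] (a : w ⟶ z)
    [p.IsStronglyCartesian (pullback.snd (p.map φ) (p.map ψ)) a] :
    ∃ b : w ⟶ x, p.IsHomLift (pullback.fst (p.map φ) (p.map ψ)) b ∧ IsPullback b a φ ψ := by
  have hcond : pullback.snd (p.map φ) (p.map ψ) ≫ p.map ψ =
      pullback.fst (p.map φ) (p.map ψ) ≫ p.map φ := pullback.condition.symm
  haveI : p.IsHomLift (pullback.snd (p.map φ) (p.map ψ) ≫ p.map ψ) (a ≫ ψ) := inferInstance
  let b : w ⟶ x := Functor.IsStronglyCartesian.map p (p.map φ) φ hcond (a ≫ ψ)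
  haveI hbl : p.IsHomLift (pullback.fst (p.map φ) (p.map ψ)) b :=
    Functor.IsStronglyCartesian.map_isHomLift p (p.map φ) φ hcond (a ≫ ψ)
  have hb : b ≫ φ = a ≫ ψ := Functor.IsStronglyCartesian.fac p (p.map φ) φ hcond (a ≫ ψ)
  refine ⟨b, hbl, ⟨⟨hb⟩, ⟨?_⟩⟩⟩
  have hw : p.obj w = pullback (p.map φ) (p.map ψ) :=
    IsHomLift.domain_eq p (pullback.snd (p.map φ) (p.map ψ)) a
  refine PullbackCone.IsLimit.mk hb
    (fun s => Functor.IsStronglyCartesian.map p (pullback.snd (p.map φ) (p.map ψ)) a
      (g := pullback.lift (p.map s.fst) (p.map s.snd)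
        (by rw [← p.map_comp, ← p.map_comp, s.condition]))
      (f' := p.map s.snd) (by rw [pullback.lift_snd]) s.snd) ?_ ?_ ?_
  · intro s
    have hk : pullback.lift (p.map s.fst) (p.map s.snd)
        (by rw [← p.map_comp, ← p.map_comp, s.condition]) ≫ pullback.fst (p.map φ) (p.map ψ) =
        p.map s.fst := pullback.lift_fst _ _ _
    set l := Functor.IsStronglyCartesian.map p (pullback.snd (p.map φ) (p.map ψ)) a
      (g := pullback.lift (p.map s.fst) (p.map s.snd)
        (by rw [← p.map_comp, ← p.map_comp, s.condition]))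
      (f' := p.map s.snd) (by rw [pullback.lift_snd]) s.snd with hl
    haveI hll : p.IsHomLift (pullback.lift (p.map s.fst) (p.map s.snd)
        (by rw [← p.map_comp, ← p.map_comp, s.condition])) l :=
      Functor.IsStronglyCartesian.map_isHomLift p _ a _ s.snd
    haveI : p.IsHomLift (p.map s.fst) (l ≫ b) := by
      have := @IsHomLift.comp _ _ _ _ p _ _ _ _ _ _ _ (pullback.fst (p.map φ) (p.map ψ)) l b hll hbl
      rwa [hk] at this
    apply Functor.IsStronglyCartesian.ext p (p.map φ) φ (p.map s.fst)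
    rw [Category.assoc, hb, ← Category.assoc]
    have hla : l ≫ a = s.snd := Functor.IsStronglyCartesian.fac p _ a _ s.snd
    rw [hla, s.condition]
  · intro s
    exact Functor.IsStronglyCartesian.fac p _ a _ s.snd
  · intro s m hm1 hm2
    -- m lifts the canonical map
    let h : p.obj s.pt ⟶ pullback (p.map φ) (p.map ψ) := p.map m ≫ eqToHom hw
    haveI hmh : p.IsHomLift h m := IsHomLift.of_fac p h m rfl hw (by simp [h])
    have hk : h = pullback.lift (p.map s.fst) (p.map s.snd)
        (by rw [← p.map_comp, ← p.map_comp, s.condition]) := by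
      apply pullback.hom_ext
      · rw [pullback.lift_fst]
        haveI : p.IsHomLift (h ≫ pullback.fst (p.map φ) (p.map ψ)) (m ≫ b) := inferInstance
        rw [IsHomLift.eq_of_isHomLift p (h ≫ pullback.fst (p.map φ) (p.map ψ)) (m ≫ b), hm1]
      · rw [pullback.lift_snd]
        haveI : p.IsHomLift (h ≫ pullback.snd (p.map φ) (p.map ψ)) (m ≫ a) := inferInstance
        rw [IsHomLift.eq_of_isHomLift p (h ≫ pullback.snd (p.map φ) (p.map ψ)) (m ≫ a), hm2]
    haveI : p.IsHomLift (pullback.lift (p.map s.fst) (p.map s.snd)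
        (by rw [← p.map_comp, ← p.map_comp, s.condition])) m := hk ▸ hmh
    exact Functor.IsStronglyCartesian.map_uniq p _ a _ s.snd m hm2

end Groth.Agent.S6417
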