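import Groth.Statements.S6424
import Mathlib

set_option autoImplicit false
open CategoryTheory CategoryTheory.Limits
universe v u
open CatLim

namespace Groth.Agent.S6424

/-- (2) ⇒ (1): a category with products of pairs and equalizers has all finite nonempty limits. -/
theorem result {C : Type u} [Category.{v} C] [HasBinaryProducts C] [HasEqualizers C]
    (J : Type) [SmallCategory J] [FinCategory J] [Nonempty J] : HasLimitsOfShape J C := by
  have hfin : ∀ (n : ℕ) (g : Fin (n + 1) → C), HasProduct g := by
    intro n
    induction n with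
    | zero =>
      intro g
      haveI : Subsingleton (Fin (0 + 1)) := inferInstanceAs (Subsingleton (Fin 1))
      haveI : Nonempty (Fin (0 + 1)) := ⟨0⟩
      exact hasProduct_unique g
    | succ n ih =>
      intro g
      haveI := ih (fun i => g i.succ)
      exact HasLimit.mk ⟨_, extendFanIsLimit g (limit.isLimit _) (limit.isLimit _)⟩
  have hprod : ∀ (β : Type) [Fintype β] [Nonempty β] (g : β → C), HasProduct g := by
    intro β _ _ g
    have hpos : 0 < Fintype.card β := Fintype.card_pos
    obtain ⟨n, hn⟩ : ∃ n, Fintype.card β = n + 1 := ⟨Fintype.card β - 1, by omega⟩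
    let e : Fin (n + 1) ≃ β := (finCongr hn.symm).trans (Fintype.equivFin β).symm
    haveI := hfin n (g ∘ e)
    have : HasLimit ((Discrete.equivalence e).functor ⋙ Discrete.functor g) := by
      have iso : (Discrete.equivalence e).functor ⋙ Discrete.functor g ≅ Discrete.functor (g ∘ e) :=
        Discrete.natIso (fun _ => Iso.refl _)
      exact hasLimit_of_iso iso.symm
    exact hasLimit_of_equivalence_comp (Discrete.equivalence e)
  refine ⟨fun F => ?_⟩
  haveI : HasLimit (Discrete.functor F.obj) := hprod J F.obj
  haveI : Nonempty (Σ p : J × J, p.1 ⟶ p.2) := by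
    obtain ⟨j⟩ := ‹Nonempty J›
    exact ⟨⟨(j, j), 𝟙 j⟩⟩
  haveI : HasLimit (Discrete.functor fun f : Σ p : J × J, p.1 ⟶ p.2 => F.obj f.1.2) :=
    hprod _ _
  exact hasLimit_of_equalizer_and_product F

end Groth.Agent.S6424
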