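import Groth.Statements.S6425
import Mathlib

set_option autoImplicit false
open CategoryTheory CategoryTheory.Limits
universe v
open CatLim

namespace Groth.Agent.S6425

/-- Over an index category in which any two objects map to a common object, the comparison map `colim (M
× N) → colim M × colim N` for diagrams of sets is surjective. -/
theorem result {I : Type v} [SmallCategory I]
    (hI : ∀ x y : I, ∃ (z : I) (_ : x ⟶ z) (_ : y ⟶ z), True) (M N : I ⥤ Type v) :
    Function.Surjective (prodComparison (colim : (I ⥤ Type v) ⥤ Type v) M N) := by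
  intro t
  obtain ⟨i, a, ha⟩ := Types.jointly_surjective'
    ((prod.fst : colim.obj M ⨯ colim.obj N ⟶ colim.obj M) t)
  obtain ⟨j, b, hb⟩ := Types.jointly_surjective'
    ((prod.snd : colim.obj M ⨯ colim.obj N ⟶ colim.obj N) t)
  obtain ⟨z, f, g, -⟩ := hI i j
  let E := (evaluation I (Type v)).obj z
  haveI hiso : IsIso (prodComparison E M N) := inferInstance
  let c : (M ⨯ N).obj z := inv (prodComparison E M N)
    ((Types.binaryProductIso _ _).inv (M.map f a, N.map g b))
  have hc1 : (prod.fst : M ⨯ N ⟶ M).app z c = M.map f a := by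
    have h1 : inv (prodComparison E M N) ≫ E.map (prod.fst : M ⨯ N ⟶ M) = prod.fst := by
      rw [IsIso.inv_comp_eq, prodComparison_fst]
    have h2 := congrArg (fun k => (ConcreteCategory.hom k : _ → _)
      ((Types.binaryProductIso _ _).inv (M.map f a, N.map g b))) h1
    have h3 := congrArg (fun k => (ConcreteCategory.hom k : _ → _) (M.map f a, N.map g b))
      (Types.binaryProductIso_inv_comp_fst (M.obj z) (N.obj z))
    simp only [ConcreteCategory.comp_apply] at h2 h3
    exact h2.trans h3
  have hc2 : (prod.snd : M ⨯ N ⟶ N).app z c = N.map g b := by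
    have h1 : inv (prodComparison E M N) ≫ E.map (prod.snd : M ⨯ N ⟶ N) = prod.snd := by
      rw [IsIso.inv_comp_eq, prodComparison_snd]
    have h2 := congrArg (fun k => (ConcreteCategory.hom k : _ → _)
      ((Types.binaryProductIso _ _).inv (M.map f a, N.map g b))) h1
    have h3 := congrArg (fun k => (ConcreteCategory.hom k : _ → _) (M.map f a, N.map g b))
      (Types.binaryProductIso_inv_comp_snd (M.obj z) (N.obj z))
    simp only [ConcreteCategory.comp_apply] at h2 h3
    exact h2.trans h3
  refine ⟨colimit.ι (M ⨯ N) z c, ?_⟩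
  apply Types.limit_ext
  rintro ⟨_ | _⟩
  · change (prod.fst : colim.obj M ⨯ colim.obj N ⟶ colim.obj M) _ = (prod.fst : colim.obj M ⨯ colim.obj N ⟶ colim.obj M) t
    rw [← ha, ← ConcreteCategory.comp_apply, prodComparison_fst]
    change colimMap (prod.fst : M ⨯ N ⟶ M) (colimit.ι (M ⨯ N) z c) = _
    rw [colimit.ι_map_apply, hc1]
    exact (Types.colimit_sound f rfl).symm
  · change (prod.snd : colim.obj M ⨯ colim.obj N ⟶ colim.obj N) _ = (prod.snd : colim.obj M ⨯ colim.obj N ⟶ colim.obj N) t
    rw [← hb, ← ConcreteCategory.comp_apply, prodComparison_snd]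
    change colimMap (prod.snd : M ⨯ N ⟶ N) (colimit.ι (M ⨯ N) z c) = _
    rw [colimit.ι_map_apply, hc2]
    exact (Types.colimit_sound g rfl).symm

end Groth.Agent.S6425
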