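import Groth.Statements.S6426
import Mathlib

set_option autoImplicit false
open CategoryTheory CategoryTheory.Limits
universe v
open CatLim

namespace Groth.Agent.S6426

/-- Over a nonempty index category in which any two objects map to a common object, the set-theoretic
colimit of a diagram of abelian groups surjects onto its colimit in abelian groups. (The published
statement does not require the index category to be nonempty; this row assumes it, because for the
empty index category the colimit of sets is empty while the colimit of abelian groups is the zero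
group.) -/
theorem result {I : Type v} [SmallCategory I] [Nonempty I]
    (hI : ∀ x y : I, ∃ (z : I) (_ : x ⟶ z) (_ : y ⟶ z), True) (M : I ⥤ AddCommGrpCat.{v}) :
    Function.Surjective (colimit.post M (forget AddCommGrpCat.{v})) := by
  have hw : ∀ {i z : I} (f : i ⟶ z) (a : M.obj i),
      (colimit.ι M z).hom ((M.map f).hom a) = (colimit.ι M i).hom a := by
    intro i z f a
    have := congrArg (fun k => k.hom a) (colimit.w M f)
    simpa using this
  let H : AddSubgroup (colimit M : AddCommGrpCat.{v}) :=
    { carrier := {y | ∃ (i : I) (a : M.obj i), (colimit.ι M i).hom a = y}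
      zero_mem' := by
        obtain ⟨i⟩ := ‹Nonempty I›
        exact ⟨i, 0, map_zero _⟩
      add_mem' := by
        rintro _ _ ⟨i, a, rfl⟩ ⟨j, b, rfl⟩
        obtain ⟨z, f, g, -⟩ := hI i j
        refine ⟨z, (M.map f).hom a + (M.map g).hom b, ?_⟩
        rw [map_add, hw, hw]
      neg_mem' := by
        rintro _ ⟨i, a, rfl⟩
        exact ⟨i, -a, map_neg _ _⟩ }
  have htop : ∀ y : (colimit M : AddCommGrpCat.{v}), y ∈ H := by
    let q : colimit M ⟶ AddCommGrpCat.of ((colimit M : AddCommGrpCat.{v}) ⧸ H) :=
      AddCommGrpCat.ofHom (QuotientAddGroup.mk' H)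
    have hq : q = 0 := by
      apply colimit.hom_ext
      intro i
      ext a
      have : (colimit.ι M i).hom a ∈ H := ⟨i, a, rfl⟩
      simpa [q] using (QuotientAddGroup.eq_zero_iff _).mpr this
    intro y
    have := congrArg (fun k => k.hom y) hq
    simpa [q] using this
  intro y
  obtain ⟨i, a, rfl⟩ := htop y
  refine ⟨colimit.ι (M ⋙ forget AddCommGrpCat) i a, ?_⟩
  have := congrArg (fun k => (ConcreteCategory.hom k : _ → _) a)
    (colimit.ι_post M (forget AddCommGrpCat) i)
  rw [ConcreteCategory.comp_apply] at this
  exact this

end Groth.Agent.S6426
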