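import Groth.Statements.S6427
import Mathlib
import Groth.Agent.Lib.helper2.ColimSpan

set_option autoImplicit false
open CategoryTheory CategoryTheory.Limits
universe v
open CatLim

namespace Groth.Agent.S6427

/-- Over an index category in which every pair of morphisms with common source can be completed to a
commutative square, colimits of sets preserve injective morphisms of diagrams. -/
theorem result {I : Type v} [SmallCategory I]
    (hI : ∀ ⦃x y z : I⦄ (f : x ⟶ y) (g : x ⟶ z), ∃ (w : I) (f' : y ⟶ w) (g' : z ⟶ w), f ≫ f' = g ≫ g')
    {M N : I ⥤ Type v} (φ : M ⟶ N) (hφ : ∀ i, Function.Injective (φ.app i)) :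
    Function.Injective (colimMap φ) := by
  intro x y hxy
  obtain ⟨i, a, rfl⟩ := Types.jointly_surjective' x
  obtain ⟨j, b, rfl⟩ := Types.jointly_surjective' y
  have e1 : colimMap φ (colimit.ι M i a) = colimit.ι N i (φ.app i a) := by
    have := congrArg (fun f => f a) (congrArg (fun g => (ConcreteCategory.hom g : _ → _)) (ι_colimMap φ i))
    simpa using this
  have e2 : colimMap φ (colimit.ι M j b) = colimit.ι N j (φ.app j b) := by
    have := congrArg (fun f => f b) (congrArg (fun g => (ConcreteCategory.hom g : _ → _)) (ι_colimMap φ j))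
    simpa using this
  rw [e1, e2] at hxy
  obtain ⟨w, f, g, h⟩ := Groth.Agent.H2.H2_colimit_eq_of_span hI N hxy
  have n1 : N.map f (φ.app i a) = φ.app w (M.map f a) :=
    (FunctorToTypes.naturality φ f a).symm
  have n2 : N.map g (φ.app j b) = φ.app w (M.map g b) :=
    (FunctorToTypes.naturality φ g b).symm
  rw [n1, n2] at h
  exact Types.colimit_sound' f g (hφ w h)

end Groth.Agent.S6427
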