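import Groth.Statements.S6429
import Mathlib

set_option autoImplicit false
open CategoryTheory CategoryTheory.MonoidalCategory
universe v u
open MonCat

namespace Groth.Agent.S6429

/-- An object `X` of a monoidal category is invertible (some `X'` has `X ⊗ X' ≅ 𝟙` and `X' ⊗ X ≅ 𝟙`) if
and only if tensoring on the left by `X` is an equivalence, if and only if tensoring on the right by
`X` is an equivalence. -/
theorem result {C : Type u} [Category.{v} C] [MonoidalCategory C] (X : C) :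
    ((tensorLeft X).IsEquivalence ↔ ∃ X' : C, Nonempty (X ⊗ X' ≅ 𝟙_ C) ∧ Nonempty (X' ⊗ X ≅ 𝟙_ C)) ∧
      ((tensorRight X).IsEquivalence ↔ ∃ X' : C, Nonempty (X ⊗ X' ≅ 𝟙_ C) ∧ Nonempty (X' ⊗ X ≅ 𝟙_ C)) := by
  have mkL : ∀ (A B : C), (A ⊗ B ≅ 𝟙_ C) → (B ⊗ A ≅ 𝟙_ C) → (tensorLeft A).IsEquivalence := by
    intro A B e₁ e₂
    let η : 𝟭 C ≅ tensorLeft A ⋙ tensorLeft B :=
      (leftUnitorNatIso C).symm ≪≫ ((tensoringLeft C).mapIso e₂).symm ≪≫ tensorLeftTensor B A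
    let ε : tensorLeft B ⋙ tensorLeft A ≅ 𝟭 C :=
      (tensorLeftTensor A B).symm ≪≫ (tensoringLeft C).mapIso e₁ ≪≫ leftUnitorNatIso C
    exact (CategoryTheory.Equivalence.mk (tensorLeft A) (tensorLeft B) η ε).isEquivalence_functor
  have mkR : ∀ (A B : C), (A ⊗ B ≅ 𝟙_ C) → (B ⊗ A ≅ 𝟙_ C) → (tensorRight A).IsEquivalence := by
    intro A B e₁ e₂
    let η : 𝟭 C ≅ tensorRight A ⋙ tensorRight B :=
      (rightUnitorNatIso C).symm ≪≫ ((tensoringRight C).mapIso e₁).symm ≪≫ tensorRightTensor A B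
    let ε : tensorRight B ⋙ tensorRight A ≅ 𝟭 C :=
      (tensorRightTensor B A).symm ≪≫ (tensoringRight C).mapIso e₂ ≪≫ rightUnitorNatIso C
    exact (CategoryTheory.Equivalence.mk (tensorRight A) (tensorRight B) η ε).isEquivalence_functor
  refine ⟨⟨fun h => ?_, ?_⟩, ⟨fun h => ?_, ?_⟩⟩
  · let X' := (tensorLeft X).objPreimage (𝟙_ C)
    let e₁ : X ⊗ X' ≅ 𝟙_ C := (tensorLeft X).objObjPreimageIso (𝟙_ C)
    let i : (tensorLeft X).obj (X' ⊗ X) ≅ (tensorLeft X).obj (𝟙_ C) :=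
      (α_ X X' X).symm ≪≫ whiskerRightIso e₁ X ≪≫ (λ_ X) ≪≫ (ρ_ X).symm
    exact ⟨X', ⟨e₁⟩, ⟨(tensorLeft X).preimageIso i⟩⟩
  · rintro ⟨X', ⟨e₁⟩, ⟨e₂⟩⟩
    exact mkL X X' e₁ e₂
  · let X' := (tensorRight X).objPreimage (𝟙_ C)
    let e₂ : X' ⊗ X ≅ 𝟙_ C := (tensorRight X).objObjPreimageIso (𝟙_ C)
    let i : (tensorRight X).obj (X ⊗ X') ≅ (tensorRight X).obj (𝟙_ C) :=
      (α_ X X' X) ≪≫ whiskerLeftIso X e₂ ≪≫ (ρ_ X) ≪≫ (λ_ X).symm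
    exact ⟨X', ⟨(tensorRight X).preimageIso i⟩, ⟨e₂⟩⟩
  · rintro ⟨X', ⟨e₁⟩, ⟨e₂⟩⟩
    exact mkR X X' e₁ e₂

end Groth.Agent.S6429
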