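import Groth.Statements.S6432
import Mathlib
import Groth.Agent.Lib.helper1.FibSplitEquiv

set_option autoImplicit false
open CategoryTheory
universe v u
open FibCat

namespace Groth.Agent.S6432

/-- Every category fibred in groupoids over `C` is equivalent over `C` to the Grothendieck construction
of a strict functor `Cᵒᵖ ⥤ Cat` with groupoid values. -/
theorem result {C : Type u} [Category.{v} C] (𝒳 : BasedCategory.{v, max u v} C) (h𝒳 : FibCat.IsFibGrpd 𝒳.p) :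
    ∃ (F : Cᵒᵖ ⥤ Cat.{v, max u v}) (_ : ∀ U : Cᵒᵖ, IsGroupoid (F.obj U))
      (E : 𝒳 ⥤ᵇ BasedCategory.ofFunctor (Pseudofunctor.CoGrothendieck.forget F.toPseudofunctor')),
      FibCat.IsEquivOver E := by
  haveI : 𝒳.p.IsFibered := Groth.Agent.H1.FC.H1_isFibered_of_isFibGrpd h𝒳
  obtain ⟨hK, E, hE⟩ := Groth.Agent.H1.SplitCover.H1_exists_split 𝒳
  refine ⟨_, ?_, E, hE⟩
  intro U
  change IsGroupoid ((Groth.Agent.H1.SplitCover.covP 𝒳.p).Fiber U.unop)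
  refine ⟨fun {a b} ψ => ?_⟩
  have h1 : 𝒳.p.IsHomLift (𝟙 U.unop) ψ.1.hom := by
    have h0 : (Groth.Agent.H1.SplitCover.covP 𝒳.p).IsHomLift (𝟙 U.unop) ψ.1 := ψ.2
    exact IsHomLift.of_fac' _ _ _
      (IsHomLift.domain_eq (Groth.Agent.H1.SplitCover.covP 𝒳.p) (𝟙 U.unop) ψ.1)
      (IsHomLift.codomain_eq (Groth.Agent.H1.SplitCover.covP 𝒳.p) (𝟙 U.unop) ψ.1)
      (IsHomLift.fac' (Groth.Agent.H1.SplitCover.covP 𝒳.p) (𝟙 U.unop) ψ.1)
  have h2 : IsIso (𝒳.p.map ψ.1.hom) := by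
    rw [IsHomLift.fac' 𝒳.p (𝟙 U.unop) ψ.1.hom]
    infer_instance
  have h3 : IsIso ψ.1.hom := Groth.Agent.H1.FC.H1_isIso_of_isFibGrpd h𝒳 ψ.1.hom
  haveI : IsIso ψ.1 := by
    refine ⟨⟨InducedCategory.homMk (inv ψ.1.hom), ?_, ?_⟩⟩
    · apply InducedCategory.hom_ext
      simp
    · apply InducedCategory.hom_ext
      simp
  exact Groth.Agent.H1.FC.H1_isIso_fiber_of_isIso ψ

end Groth.Agent.S6432
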