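import Groth.Statements.S6433
import Mathlib

set_option autoImplicit false
open CategoryTheory
universe v u v' u'
open CatLoc

namespace Groth.Agent.S6433

/-- For a left multiplicative system `W` and a localization functor `L`, any finite family of morphisms
`L X_i ⟶ L Y` admits a common denominator: some `s : Y ⟶ Y'` in `W` and morphisms `f_i : X_i ⟶ Y'`
with `g_i = L(s)⁻¹ L(f_i)`. -/
theorem result {C : Type u} [Category.{v} C] {D : Type u'} [Category.{v'} D] (W : MorphismProperty C) (L : C ⥤ D) [L.IsLocalization W] [W.HasLeftCalculusOfFractions]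
    {ι : Type} [Finite ι] (X : ι → C) (Y : C) (g : ∀ i, L.obj (X i) ⟶ L.obj Y) :
    ∃ (Y' : C) (s : Y ⟶ Y') (_ : W s) (f : ∀ i, X i ⟶ Y'), ∀ i, g i ≫ L.map s = L.map (f i) := by
  have hL := Localization.inverts L W
  suffices H : ∀ (ι : Type) [Finite ι] (X : ι → C) (g : ∀ i, L.obj (X i) ⟶ L.obj Y),
      ∃ (Y' : C) (s : Y ⟶ Y') (_ : W s) (f : ∀ i, X i ⟶ Y'), ∀ i, g i ≫ L.map s = L.map (f i) from
    H ι X g
  intro ι _
  induction ι using Finite.induction_empty_option with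
  | of_equiv e ih =>
    intro X g
    obtain ⟨Y', s, hs, f, hf⟩ := ih (fun a => X (e a)) (fun a => g (e a))
    have hall : ∀ i, ∃ fi : X i ⟶ Y', g i ≫ L.map s = L.map fi := by
      intro i
      obtain ⟨a, rfl⟩ := e.surjective i
      exact ⟨f a, hf a⟩
    choose f' hf' using hall
    exact ⟨Y', s, hs, f', hf'⟩
  | h_empty =>
    intro X g
    exact ⟨Y, 𝟙 Y, W.id_mem Y, fun i => i.elim, fun i => i.elim⟩
  | h_option ih =>
    intro X g
    obtain ⟨Y₁, s₁, hs₁, f₁, hf₁⟩ := ih (fun a => X (some a)) (fun a => g (some a))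
    obtain ⟨φ, hφ⟩ := Localization.exists_leftFraction L W (g none)
    let ρ : W.RightFraction Y₁ φ.Y' := ⟨s₁, hs₁, φ.s⟩
    obtain ⟨ψ, hψ⟩ := ρ.exists_leftFraction
    have hψ' : φ.s ≫ ψ.s = s₁ ≫ ψ.f := hψ
    refine ⟨ψ.Y', φ.s ≫ ψ.s, W.comp_mem _ _ φ.hs ψ.hs,
      fun i => Option.rec (φ.f ≫ ψ.s) (fun a => f₁ a ≫ ψ.f) i, fun i => ?_⟩
    cases i with
    | none =>
      simp only [hφ, L.map_comp]
      rw [← Category.assoc, φ.map_comp_map_s L hL]
    | some a =>
      simp only [hψ', L.map_comp]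
      rw [← Category.assoc, hf₁ a]

end Groth.Agent.S6433
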