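import Groth.Statements.S6434
import Mathlib
import Groth.Agent.S6433

set_option autoImplicit false
open CategoryTheory
universe v u v' u'
open CatLoc

namespace Groth.Agent.S6434


open CategoryTheory CategoryTheory.Limits Opposite

section

variable {C : Type u} [Category.{v} C] {D : Type u'} [Category.{v'} D] (W : MorphismProperty C)
  (L : C ⥤ D) [L.IsLocalization W] [W.HasLeftCalculusOfFractions]

include W in
lemma equalize {ι : Type} [Finite ι] : ∀ (X : ι → C) (Y : C) (a b : ∀ i, X i ⟶ Y)
    (_ : ∀ i, L.map (a i) = L.map (b i)),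
    ∃ (Y' : C) (t : Y ⟶ Y') (_ : W t), ∀ i, a i ≫ t = b i ≫ t := by
  induction ι using Finite.induction_empty_option with
  | of_equiv e ih =>
    intro X Y a b h
    obtain ⟨Y', t, ht, H⟩ := ih (fun i => X (e i)) Y (fun i => a (e i)) (fun i => b (e i))
      (fun i => h (e i))
    refine ⟨Y', t, ht, fun i => ?_⟩
    have := H (e.symm i)
    rw [e.apply_symm_apply] at this
    exact this
  | h_empty =>
    intro X Y a b h
    exact ⟨Y, 𝟙 Y, W.id_mem Y, fun i => i.elim⟩
  | h_option ih =>
    intro X Y a b h
    obtain ⟨Y₁, t₁, ht₁, H₁⟩ := ih (fun i => X (some i)) Y (fun i => a (some i))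
      (fun i => b (some i)) (fun i => h (some i))
    have h2 : L.map (a none ≫ t₁) = L.map (b none ≫ t₁) := by
      rw [L.map_comp, L.map_comp, h none]
    obtain ⟨Y₂, t₂, ht₂, H₂⟩ := (MorphismProperty.map_eq_iff_postcomp L W _ _).1 h2
    refine ⟨Y₂, t₁ ≫ t₂, W.comp_mem _ _ ht₁ ht₂, fun i => ?_⟩
    cases i with
    | none => simpa using H₂
    | some i => rw [← Category.assoc, H₁ i, Category.assoc]

include W in
theorem main : PreservesFiniteColimits L := by
  constructor
  intro J _ _
  constructor
  intro F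
  constructor
  intro c hc
  have := Localization.essSurj L W
  refine ⟨IsColimit.ofExistsUnique (fun s => ?_)⟩
  let Y := L.objPreimage s.pt
  let e : L.obj Y ≅ s.pt := L.objObjPreimageIso s.pt
  have huniq : ∀ m₁ m₂ : L.obj c.pt ⟶ s.pt,
      (∀ j, L.map (c.ι.app j) ≫ m₁ = s.ι.app j) → (∀ j, L.map (c.ι.app j) ≫ m₂ = s.ι.app j) →
      m₁ = m₂ := by
    intro m₁ m₂ h₁ h₂
    let ψ : Bool → (L.obj c.pt ⟶ L.obj Y) := fun b => (if b then m₁ else m₂) ≫ e.inv
    obtain ⟨Y', s₀, hs₀, u, hu⟩ := Groth.Agent.S6433.result W L (fun _ : Bool => c.pt) Y ψ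
    have hL : ∀ j, L.map (c.ι.app j ≫ u true) = L.map (c.ι.app j ≫ u false) := by
      intro j
      rw [L.map_comp, L.map_comp, ← hu true, ← hu false]
      simp only [ψ, if_true, Bool.false_eq_true, if_false]
      rw [← Category.assoc, ← Category.assoc, ← Category.assoc, ← Category.assoc, h₁ j, h₂ j]
    obtain ⟨Y'', t, ht, H⟩ := equalize W L (fun j : J => F.obj j) Y'
      (fun j => c.ι.app j ≫ u true) (fun j => c.ι.app j ≫ u false) hL
    have h3 : u true ≫ t = u false ≫ t := by
      apply hc.hom_ext
      intro j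
      simpa using H j
    have := Localization.inverts L W t ht
    have := Localization.inverts L W s₀ hs₀
    have h4 : L.map (u true) = L.map (u false) := by
      rw [← cancel_mono (L.map t), ← L.map_comp, ← L.map_comp, h3]
    have h5 : ψ true = ψ false := by
      rw [← cancel_mono (L.map s₀), hu true, hu false, h4]
    simp only [ψ, if_true, Bool.false_eq_true, if_false] at h5
    exact (cancel_mono e.inv).1 h5
  -- existence
  let φ : ∀ j : J, L.obj (F.obj j) ⟶ L.obj Y := fun j => s.ι.app j ≫ e.inv
  obtain ⟨Y', s₀, hs₀, f, hf⟩ := Groth.Agent.S6433.result W L (fun j : J => F.obj j) Y φ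
  have hL : ∀ α : Arrow J, L.map (F.map α.hom ≫ f α.right) = L.map (f α.left) := by
    intro α
    rw [L.map_comp, ← hf, ← hf]
    simp only [φ]
    have := s.w α.hom
    dsimp at this
    rw [← this]
    simp only [Category.assoc]
  obtain ⟨Y'', t, ht, H⟩ := equalize W L (fun α : Arrow J => F.obj α.left) Y'
    (fun α => F.map α.hom ≫ f α.right) (fun α => f α.left) hL
  have hnat : ∀ {j j' : J} (a : j ⟶ j'), F.map a ≫ f j' ≫ t = f j ≫ t := by
    intro j j' a
    have := H (Arrow.mk a)
    simpa using this
  let c' : Cocone F := Cocone.mk Y''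
    { app := fun j => f j ≫ t
      naturality := fun j j' a => (by dsimp; rw [Category.comp_id]; exact hnat a) }
  let u := hc.desc c'
  have := Localization.inverts L W t ht
  have := Localization.inverts L W s₀ hs₀
  have hm : ∀ j, L.map (c.ι.app j) ≫ (L.map u ≫ inv (L.map t) ≫ inv (L.map s₀) ≫ e.hom)
      = s.ι.app j := by
    intro j
    rw [← Category.assoc, ← L.map_comp, hc.fac c' j]
    simp only [c', L.map_comp, Category.assoc, IsIso.hom_inv_id_assoc]
    rw [← hf j]
    simp [φ]
  exact ⟨L.map u ≫ inv (L.map t) ≫ inv (L.map s₀) ≫ e.hom, hm, fun m' hm' => huniq _ _ hm' hm⟩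

end

/-- The localization functor at a left multiplicative system commutes with finite colimits. -/
theorem result {C : Type u} [Category.{v} C] {D : Type u'} [Category.{v'} D] (W : MorphismProperty C) (L : C ⥤ D) [L.IsLocalization W] [W.HasLeftCalculusOfFractions] :
    Limits.PreservesFiniteColimits L := by
  exact main W L

end Groth.Agent.S6434
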