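import Groth.Statements.S6442
import Mathlib

set_option autoImplicit false
open CategoryTheory CategoryTheory.Limits Opposite
universe u
open SiteMisc

namespace Groth.Agent.S6442


variable {C : Type u} [SmallCategory C] (J : GrothendieckTopology C)

/-- sections of a sheaf over `U` as maps from the sheafified representable. -/
noncomputable def secEquiv (U : C) (F : Sheaf J (Type u)) :
    ((presheafToSheaf J (Type u)).obj (yoneda.obj U) ⟶ F) ≃ F.obj.obj (op U) :=
  ((sheafificationAdjunction J (Type u)).homEquiv _ _).trans yonedaEquiv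

lemma secEquiv_comp (U : C) {F G : Sheaf J (Type u)}
    (a : (presheafToSheaf J (Type u)).obj (yoneda.obj U) ⟶ F) (φ : F ⟶ G) :
    secEquiv J U G (a ≫ φ) = φ.hom.app (op U) (secEquiv J U F a) := by
  simp only [secEquiv, Equiv.trans_apply]
  rw [Adjunction.homEquiv_naturality_right]
  rfl


lemma secEquiv_symm_spec (U : C) (G : Sheaf J (Type u)) (s : G.obj.obj (op U)) :
    (secEquiv J U G).symm s =
      ((sheafificationAdjunction J (Type u)).homEquiv _ _).symm (yonedaEquiv.symm s) := rfl

theorem main (U : C) :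
    (∀ S : Sieve U, S ∈ J U →
      IsSplitEpi ((presheafToSheaf J (Type u)).map
        (Sigma.desc (fun i : (Σ V : C, {f : V ⟶ U // S f}) => yoneda.map i.2.1) :
          (∐ fun i : (Σ V : C, {f : V ⟶ U // S f}) => yoneda.obj i.1) ⟶ yoneda.obj U))) ↔
    ∀ (F G : Sheaf J (Type u)) (φ : F ⟶ G), Epi φ → Function.Surjective (φ.hom.app (op U)) := by
  let adj := sheafificationAdjunction J (Type u)
  constructor
  · intro hsplit F G φ hφ s
    have hls : Sheaf.IsLocallySurjective φ := (Sheaf.isLocallySurjective_iff_epi φ).2 hφ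
    let S : Sieve U := Presheaf.imageSieve φ.hom s
    have hS : S ∈ J U := Presheaf.imageSieve_mem J φ.hom s
    have hS' : ∀ i : (Σ V : C, {f : V ⟶ U // S f}),
        ∃ t : F.obj.obj (op i.1), φ.hom.app _ t = G.obj.map i.2.1.op s := fun i => i.2.2
    choose t ht using hS'
    let P : Cᵒᵖ ⥤ Type u := ∐ fun i : (Σ V : C, {f : V ⟶ U // S f}) => yoneda.obj i.1
    let m : P ⟶ yoneda.obj U := Sigma.desc (fun i => yoneda.map i.2.1)
    let τ : P ⟶ F.obj := Sigma.desc (fun i => yonedaEquiv.symm (t i))
    let ŝ : yoneda.obj U ⟶ G.obj := yonedaEquiv.symm s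
    have hτ : τ ≫ φ.hom = m ≫ ŝ := by
      apply Sigma.hom_ext
      intro i
      dsimp only [τ, m, ŝ]
      rw [Sigma.ι_desc_assoc, Sigma.ι_desc_assoc, yonedaEquiv_symm_naturality_right,
        yonedaEquiv_symm_naturality_left, ht]
    have hsp := hsplit S hS
    let σ := section_ ((presheafToSheaf J (Type u)).map m)
    have hσ : σ ≫ (presheafToSheaf J (Type u)).map m = 𝟙 _ := IsSplitEpi.id _
    let τ' : (presheafToSheaf J (Type u)).obj P ⟶ F := (adj.homEquiv P F).symm τ
    have hτ' : τ' ≫ φ = (presheafToSheaf J (Type u)).map m ≫ (secEquiv J U G).symm s := by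
      rw [secEquiv_symm_spec]
      dsimp only [τ']
      rw [← Adjunction.homEquiv_naturality_right_symm, ← Adjunction.homEquiv_naturality_left_symm]
      congr 1
    refine ⟨secEquiv J U F (σ ≫ τ'), ?_⟩
    rw [← secEquiv_comp, Category.assoc, hτ', ← Category.assoc, hσ, Category.id_comp,
      Equiv.apply_symm_apply]
  · intro hsurj S hS
    let P : Cᵒᵖ ⥤ Type u := ∐ fun i : (Σ V : C, {f : V ⟶ U // S f}) => yoneda.obj i.1
    let m : P ⟶ yoneda.obj U := Sigma.desc (fun i => yoneda.map i.2.1)
    have hm : Presheaf.IsLocallySurjective J m := by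
      refine ⟨fun {W} (g : W ⟶ U) => ?_⟩
      refine J.superset_covering ?_ (J.pullback_stable g hS)
      intro V k hk
      -- k : V ⟶ W with k ≫ g ∈ S
      let i : (Σ V : C, {f : V ⟶ U // S f}) := ⟨V, ⟨k ≫ g, hk⟩⟩
      refine ⟨(Sigma.ι (fun i : (Σ V : C, {f : V ⟶ U // S f}) => yoneda.obj i.1) i).app (op V) (𝟙 V), ?_⟩
      have h1 : Sigma.ι (fun i : (Σ V : C, {f : V ⟶ U // S f}) => yoneda.obj i.1) i ≫ m =
          yoneda.map (k ≫ g) := Sigma.ι_desc _ _
      have h2 := congrArg (fun ψ => ψ.app (op V) (𝟙 V)) h1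
      exact h2.trans (Category.id_comp (k ≫ g))
    have hL : Sheaf.IsLocallySurjective ((presheafToSheaf J (Type u)).map m) :=
      (Presheaf.isLocallySurjective_presheafToSheaf_map_iff J m).2 hm
    have hepi : Epi ((presheafToSheaf J (Type u)).map m) := inferInstance
    obtain ⟨x, hx⟩ := hsurj _ _ _ hepi (secEquiv J U _ (𝟙 _))
    refine ⟨⟨(secEquiv J U _).symm x, ?_⟩⟩
    apply (secEquiv J U _).injective
    rw [secEquiv_comp, Equiv.apply_symm_apply, hx]

/-- An object `U` of a site is weakly contractible, i.e. for every covering sieve `S` the sheafified map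
`(∐_{V → U ∈ S} h_V)^# ⟶ h_U^#` has a section, if and only if taking sections over `U` turns
epimorphisms of sheaves of sets into surjections. (Coverings are taken as covering sieves; the
coproduct is formed in presheaves and then sheafified.) -/
theorem result {C : Type u} [SmallCategory C] (J : GrothendieckTopology C) (U : C) :
    (∀ S : Sieve U, S ∈ J U →
      IsSplitEpi ((presheafToSheaf J (Type u)).map
        (Sigma.desc (fun i : (Σ V : C, {f : V ⟶ U // S f}) => yoneda.map i.2.1) :
          (∐ fun i : (Σ V : C, {f : V ⟶ U // S f}) => yoneda.obj i.1) ⟶ yoneda.obj U))) ↔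
    ∀ (F G : Sheaf J (Type u)) (φ : F ⟶ G), Epi φ → Function.Surjective (φ.hom.app (op U)) := by
  exact main J U

end Groth.Agent.S6442
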