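import Groth.Statements.S6443
import Mathlib
import Groth.Agent.Lib.helper1.FibCatYoneda

set_option autoImplicit false
open CategoryTheory
universe v u
open FibCat


open CategoryTheory Groth.Agent.H1.FC in
/-- the based functor `C/X' ⥤ C/X` of composition with `h`. -/
abbrev H1_OM {C : Type*} [Category C] {X X' : C} (h : X' ⟶ X) : FibCat.overCat X' ⥤ᵇ FibCat.overCat X :=
  ⟨Over.map h, Over.mapForget_eq h⟩

open CategoryTheory Groth.Agent.H1.FC in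
theorem H1_exists_overMap_iso {C : Type*} [Category C] {X X' : C} (H : FibCat.overCat X' ⥤ᵇ FibCat.overCat X) :
    ∃ h : X' ⟶ X, Nonempty (H ≅ H1_OM h) := by
  haveI hE := H1_evalAtId_isEquivalence_of_isFibGrpd (𝒳 := FibCat.overCat X) (H1_isFibSet_overForget X).1 X'
  have hw : (H.toFunctor.obj (oT X')).left = X' := H.w_obj (oT X')
  let h : X' ⟶ X := eqToHom hw.symm ≫ (H.toFunctor.obj (oT X')).hom
  refine ⟨h, ?_⟩
  let A := (FibCat.evalAtId (FibCat.overCat X) X').obj H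
  let B := (FibCat.evalAtId (FibCat.overCat X) X').obj (H1_OM h)
  let ψi : H.toFunctor.obj (oT X') ≅ (H1_OM h).toFunctor.obj (oT X') :=
    Over.isoMk (eqToIso hw) (by simp [h])
  let ψ₀ : H.toFunctor.obj (oT X') ⟶ (H1_OM h).toFunctor.obj (oT X') := ψi.hom
  have hψ₀ : (Over.forget X).IsHomLift (𝟙 X') ψ₀ := by
    apply IsHomLift.of_fac (Over.forget X) (𝟙 X') ψ₀ hw rfl
    simp [ψ₀, ψi]
  let ψ : A ⟶ B := ⟨ψ₀, hψ₀⟩
  haveI : IsIso ψ₀ := inferInstanceAs (IsIso ψi.hom)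
  haveI : IsIso ψ.1 := ‹IsIso ψ₀›
  haveI : IsIso ψ := H1_isIso_fiber_of_isIso ψ
  exact ⟨(FibCat.evalAtId (FibCat.overCat X) X').preimageIso (asIso ψ)⟩

open CategoryTheory Groth.Agent.H1.FC in
theorem H1_overMap_comp_eq_id {C : Type u} [Category.{v} C] {X X' : C} (h : X' ⟶ X) (h' : X ⟶ X')
    (i : BasedFunctor.comp (H1_OM h) (H1_OM h') ≅ BasedFunctor.id (FibCat.overCat X')) : h ≫ h' = 𝟙 X' := by
  let α := i.hom.toNatTrans.app (oT X')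
  have hα : (Over.forget X').IsHomLift (𝟙 X') α := i.hom.isHomLift' (oT X')
  have e1 : α.left = 𝟙 X' :=
    (H1_isHomLift_iff (Over.forget X') (a := (BasedFunctor.comp (H1_OM h) (H1_OM h')).toFunctor.obj (oT X'))
      (b := oT X') (𝟙 X') α).1 hα
  have e2 : α.left ≫ 𝟙 X' = (𝟙 X' ≫ h) ≫ h' := Over.w α
  rw [e1] at e2
  rw [Category.id_comp] at e2
  exact e2.symm.trans (Category.id_comp (𝟙 X'))

namespace Groth.Agent.S6443

/-- If a category `𝒮` fibred in groupoids over `C` is represented by `X` via `j : 𝒮 ⟶ C/X` and by `X'`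
via `j' : 𝒮 ⟶ C/X'` (equivalences over `C`), then there is an isomorphism `X' ≅ X` under which `j'`
becomes 2-isomorphic to `j` over `C`. -/
theorem result {C : Type u} [Category.{v} C] {𝒮 : BasedCategory.{v, max u v} C} (h𝒮 : FibCat.IsFibGrpd 𝒮.p)
    {X X' : C} (j : 𝒮 ⥤ᵇ FibCat.overCat X) (j' : 𝒮 ⥤ᵇ FibCat.overCat X') (hj : FibCat.IsEquivOver j) (hj' : FibCat.IsEquivOver j') :
    ∃ e : X' ≅ X, Nonempty (BasedFunctor.comp j' (⟨Over.map e.hom, Over.mapForget_eq e.hom⟩ : FibCat.overCat X' ⥤ᵇ FibCat.overCat X) ≅ j) := by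
  obtain ⟨k, ⟨ε⟩, ⟨η⟩⟩ := hj
  obtain ⟨k', ⟨ε'⟩, ⟨η'⟩⟩ := hj'
  -- the two comparison functors
  obtain ⟨h, ⟨ih⟩⟩ := H1_exists_overMap_iso (BasedFunctor.comp k' j)
  obtain ⟨h', ⟨ih'⟩⟩ := H1_exists_overMap_iso (BasedFunctor.comp k j')
  -- work in the bicategory
  revert ε η ε' η' ih ih'
  generalize hOM : (H1_OM h : FibCat.overCat X' ⥤ᵇ FibCat.overCat X) = OMh
  generalize hOM' : (H1_OM h' : FibCat.overCat X ⥤ᵇ FibCat.overCat X') = OMh'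
  intro ε η ε' η' ih ih'
  let j : 𝒮 ⟶ FibCat.overCat X := j
  let j' : 𝒮 ⟶ FibCat.overCat X' := j'
  let k : FibCat.overCat X ⟶ 𝒮 := k
  let k' : FibCat.overCat X' ⟶ 𝒮 := k'
  let OMh : FibCat.overCat X' ⟶ FibCat.overCat X := OMh
  let OMh' : FibCat.overCat X ⟶ FibCat.overCat X' := OMh'
  have ε₁ : j ≫ k ≅ 𝟙 𝒮 := ε
  have η₁ : k ≫ j ≅ 𝟙 (FibCat.overCat X) := η
  have ε₁' : j' ≫ k' ≅ 𝟙 𝒮 := ε'
  have η₁' : k' ≫ j' ≅ 𝟙 (FibCat.overCat X') := η'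
  have ih₁ : k' ≫ j ≅ OMh := ih
  have ih₁' : k ≫ j' ≅ OMh' := ih'
  have c1 : OMh ≫ OMh' ≅ 𝟙 (FibCat.overCat X') :=
    (Bicategory.whiskerRightIso ih₁.symm _) ≪≫ (Bicategory.whiskerLeftIso _ ih₁'.symm) ≪≫
      (Bicategory.associator k' j (k ≫ j')) ≪≫
      Bicategory.whiskerLeftIso k' ((Bicategory.associator j k j').symm ≪≫ Bicategory.whiskerRightIso ε₁ j' ≪≫ Bicategory.leftUnitor j') ≪≫ η₁'
  have c2 : OMh' ≫ OMh ≅ 𝟙 (FibCat.overCat X) :=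
    (Bicategory.whiskerRightIso ih₁'.symm _) ≪≫ (Bicategory.whiskerLeftIso _ ih₁.symm) ≪≫
      (Bicategory.associator k j' (k' ≫ j)) ≪≫
      Bicategory.whiskerLeftIso k ((Bicategory.associator j' k' j).symm ≪≫ Bicategory.whiskerRightIso ε₁' j ≪≫ Bicategory.leftUnitor j) ≪≫ η₁
  have e1 : h ≫ h' = 𝟙 X' := H1_overMap_comp_eq_id h h' (by rw [hOM, hOM']; exact c1)
  have e2 : h' ≫ h = 𝟙 X := H1_overMap_comp_eq_id h' h (by rw [hOM, hOM']; exact c2)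
  refine ⟨⟨h, h', e1, e2⟩, ⟨?_⟩⟩
  have c3 : j' ≫ OMh ≅ j :=
    Bicategory.whiskerLeftIso j' ih₁.symm ≪≫ (Bicategory.associator j' k' j).symm ≪≫
      Bicategory.whiskerRightIso ε₁' j ≪≫ Bicategory.leftUnitor j
  show BasedFunctor.comp j' (H1_OM h) ≅ j
  rw [hOM]
  exact c3

end Groth.Agent.S6443
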