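import Groth.Statements.S6448
import Mathlib

set_option autoImplicit false
open CategoryTheory
universe v u
open CatLim

namespace Groth.Agent.S6448

/-- In a category where spans complete to commutative squares and parallel pairs are coequalized by a
later arrow, every connected component is filtered (so the category is a disjoint union of filtered
categories). -/
theorem result {I : Type u} [Category.{v} I]
    (h1 : ∀ ⦃w x y : I⦄ (a : w ⟶ x) (b : w ⟶ y), ∃ (z : I) (c : x ⟶ z) (d : y ⟶ z), a ≫ c = b ≫ d)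
    (h2 : ∀ ⦃x y : I⦄ (a b : x ⟶ y), ∃ (z : I) (c : y ⟶ z), a ≫ c = b ≫ c)
    (j : ConnectedComponents I) : IsFiltered j.Component := by
  have stepA : ∀ x y : I, Zigzag x y → ∃ (z : I) (_ : x ⟶ z) (_ : y ⟶ z), True := by
    intro x y h
    induction h with
    | refl => exact ⟨x, 𝟙 x, 𝟙 x, trivial⟩
    | tail _ hzag ih =>
      obtain ⟨z', f, g', -⟩ := ih
      rcases hzag with ⟨⟨m⟩⟩ | ⟨⟨m⟩⟩
      · obtain ⟨z, c, d, -⟩ := h1 g' m
        exact ⟨z, f ≫ c, d, trivial⟩
      · exact ⟨z', f, m ≫ g', trivial⟩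
  have hmem : ∀ (X : j.Component) (z : I) (_ : X.obj ⟶ z), j.objectProperty z := by
    intro X z f
    have hX : Quotient.mk'' X.obj = j := X.property
    rw [← hX]
    exact Quotient.sound' (Relation.ReflTransGen.single (Or.inr ⟨f⟩))
  refine { cocone_objs := ?_, cocone_maps := ?_, nonempty := inferInstance }
  · intro X Y
    have hX : Quotient.mk'' X.obj = j := X.property
    have hY : Quotient.mk'' Y.obj = j := Y.property
    have hz : Zigzag X.obj Y.obj := Quotient.exact' (hX.trans hY.symm)
    obtain ⟨z, f, g, -⟩ := stepA _ _ hz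
    exact ⟨⟨z, hmem X z f⟩, ObjectProperty.homMk f, ObjectProperty.homMk g, trivial⟩
  · intro X Y f g
    obtain ⟨z, c, hc⟩ := h2 f.hom g.hom
    refine ⟨⟨z, hmem Y z c⟩, ObjectProperty.homMk c, ?_⟩
    apply ObjectProperty.hom_ext
    exact hc

end Groth.Agent.S6448
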