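import Groth.Statements.S6464
import Groth.Statements.S6464
import Groth.Agent.Lib.helper9.H9_Herbrand

set_option autoImplicit false
universe u v
open CycAlg

namespace Groth.Agent.S6464

/-- Let (M, N, φ, ψ) be a 2-periodic complex over a ring R with M and N of finite length. Then its
cohomology modules have finite length and e_R(M, N, φ, ψ) = length_R(M) − length_R(N). (The case M =
N, where the conclusion reads e_R(M, φ, ψ) = 0, is the special case and is not restated.) -/
theorem result {R : Type u} [CommRing R] {M N : Type v} [AddCommGroup M] [Module R M] [AddCommGroup N] [Module R N] (φ : M →ₗ[R] N) (ψ : N →ₗ[R] M) (h : CycAlg.IsPeriodic φ ψ) (hM : Module.length R M < ⊤) (hN : Module.length R N < ⊤) : CycAlg.FinCoh R φ ψ ∧ CycAlg.herbrand R φ ψ = ((Module.length R M).toNat : ℤ) - ((Module.length R N).toNat : ℤ) := by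
  obtain ⟨h1, h2⟩ := h
  have eM := Groth.Agent.H9_Herbrand.length_ker_add_range φ
  have eN := Groth.Agent.H9_Herbrand.length_ker_add_range ψ
  have e0 := Groth.Agent.H9_Herbrand.length_ker_eq φ ψ h1
  have e1 := Groth.Agent.H9_Herbrand.length_ker_eq ψ φ h2
  -- all quantities finite
  have fkφ : Module.length R (LinearMap.ker φ) < ⊤ := lt_of_le_of_lt (eM ▸ le_self_add) hM
  have frφ : Module.length R (LinearMap.range φ) < ⊤ := lt_of_le_of_lt (eM ▸ le_add_self) hM
  have fkψ : Module.length R (LinearMap.ker ψ) < ⊤ := lt_of_le_of_lt (eN ▸ le_self_add) hN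
  have frψ : Module.length R (LinearMap.range ψ) < ⊤ := lt_of_le_of_lt (eN ▸ le_add_self) hN
  have fH0 : Module.length R (CycAlg.perH φ ψ) < ⊤ := lt_of_le_of_lt (e0 ▸ le_add_self) fkφ
  have fH1 : Module.length R (CycAlg.perH ψ φ) < ⊤ := lt_of_le_of_lt (e1 ▸ le_add_self) fkψ
  refine ⟨⟨fH0, fH1⟩, ?_⟩
  unfold CycAlg.herbrand
  lift Module.length R M to ℕ using hM.ne with a ha
  lift Module.length R N to ℕ using hN.ne with b hb
  lift Module.length R (LinearMap.ker φ) to ℕ using fkφ.ne with c hc
  lift Module.length R (LinearMap.range φ) to ℕ using frφ.ne with d hd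
  lift Module.length R (LinearMap.ker ψ) to ℕ using fkψ.ne with e he
  lift Module.length R (LinearMap.range ψ) to ℕ using frψ.ne with f hf
  lift Module.length R (CycAlg.perH φ ψ) to ℕ using fH0.ne with g hg
  lift Module.length R (CycAlg.perH ψ φ) to ℕ using fH1.ne with k hk
  simp only [ENat.toNat_coe]
  norm_cast at eM eN e0 e1
  omega

end Groth.Agent.S6464
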