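import Groth.Statements.S6524
import Groth.Agent.Lib.BaerFamily
import Groth.Agent.Lib.CohSiteBasics

set_option autoImplicit false
universe u
open CategoryTheory
open CohSite

namespace Groth.Agent.S6524

open Groth.Agent.CohSiteBasics in
lemma isIso_of_lifts {C : Type u} [SmallCategory C] (J : GrothendieckTopology C)
    {A B : Sheaf J AddCommGrpCat.{u}} (p : A ⟶ B) [Mono p]
    (hp : ∀ (X : C) (f : CohCx.freeSheaf J X ⟶ B), ∃ g, g ≫ p = f) : IsIso p := by
  have hm : Mono ((sheafToPresheaf J AddCommGrpCat.{u}).map p) := inferInstance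
  have hm' : ∀ X, Mono (p.hom.app X) := fun X => by
    have := (NatTrans.mono_iff_mono_app ((sheafToPresheaf J AddCommGrpCat.{u}).map p)).1 hm X
    exact this
  have hiso : ∀ X, IsIso (p.hom.app X) := by
    intro X
    rw [ConcreteCategory.isIso_iff_bijective]
    refine ⟨(AddCommGrpCat.mono_iff_injective _).1 (hm' X), fun s => ?_⟩
    obtain ⟨g, hg⟩ := hp X.unop ((secEquiv X.unop B).symm s)
    refine ⟨secEquiv X.unop A g, ?_⟩
    have := secEquiv_comp X.unop g p
    rw [hg, Equiv.apply_symm_apply] at this
    exact this.symm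
  have : IsIso p.hom := NatIso.isIso_of_isIso_app _
  have : IsIso ((sheafToPresheaf J AddCommGrpCat.{u}).map p) := this
  exact isIso_of_reflects_iso p (sheafToPresheaf J AddCommGrpCat.{u})


/-- Let (C, J) be a small site and I an abelian sheaf. Suppose that for every object X of C, every
abelian subsheaf S of the free abelian sheaf Z_X^# on X (given as a monomorphism S → Z_X^#) and
every morphism S → I, the morphism extends to Z_X^# → I. Then I is an injective abelian sheaf. -/
theorem result {C : Type u} [SmallCategory C]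
    (J : GrothendieckTopology C) (I : Sheaf J AddCommGrpCat.{u})
    (h : ∀ (X : C) (S : Sheaf J AddCommGrpCat.{u}) (i : S ⟶ CohCx.freeSheaf J X) [Mono i] (φ : S ⟶ I),
      ∃ ψ : CohCx.freeSheaf J X ⟶ I, i ≫ ψ = φ) :
    Injective I := by
  by_cases hne : Nonempty C
  · exact Groth.Agent.Baer.injective_of_extension.{u, u} (G := fun X : C => CohCx.freeSheaf J X)
      (fun p _ hp => isIso_of_lifts J p hp) I (fun X S φ => h X _ S.arrow φ)
  · have hemp : IsEmpty C := not_nonempty_iff.1 hne
    refine ⟨fun {A B} g f _ => ?_⟩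
    have huniq : ∀ (P Q : Sheaf J AddCommGrpCat.{u}) (a b : P ⟶ Q), a = b := by
      intro P Q a b
      apply Sheaf.hom_ext
      ext X
      exact (hemp.false X.unop).elim
    exact ⟨0, huniq _ _ _ _⟩


end Groth.Agent.S6524
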