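import Groth.Statements.S6580
import Mathlib

set_option autoImplicit false
universe v u
open CategoryTheory CategoryTheory.Limits
open CohDer

namespace Groth.Agent.S6580

open CategoryTheory.Pretriangulated in
/-- Let (X, Y, Z, f, g, h) be a distinguished triangle of a pretriangulated category, and let a : X ⟶ X
and c : Z ⟶ Z be idempotents with h ≫ a⟦1⟧ = c ≫ h. Then there is an idempotent b : Y ⟶ Y such that
(a, b, c) is an endomorphism of the triangle. -/
theorem result {D : Type u} [Category.{v} D] [Preadditive D] [HasZeroObject D] [HasShift D ℤ]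
    [∀ n : ℤ, (shiftFunctor D n).Additive] [Pretriangulated D]
    (T : Triangle D) (hT : T ∈ distinguishedTriangles) (a : T.obj₁ ⟶ T.obj₁) (c : T.obj₃ ⟶ T.obj₃)
    (ha : a ≫ a = a) (hc : c ≫ c = c) (comm : T.mor₃ ≫ (shiftFunctor D (1 : ℤ)).map a = c ≫ T.mor₃) :
    ∃ b : T.obj₂ ⟶ T.obj₂, b ≫ b = b ∧ T.mor₁ ≫ b = a ≫ T.mor₁ ∧ T.mor₂ ≫ c = b ≫ T.mor₂ := by
  obtain ⟨b', hb1, hb2⟩ := complete_distinguished_triangle_morphism₂ T T hT hT a c comm
  have ring_fact : ∀ (β : End T.obj₂), (β * β - β) * (β * β - β) = 0 →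
      ((β * β + β * β + β * β) - (β * β * β + β * β * β)) *
        ((β * β + β * β + β * β) - (β * β * β + β * β * β)) =
        (β * β + β * β + β * β) - (β * β * β + β * β * β) := by
    intro β h
    have hp : (((Polynomial.X : Polynomial ℤ) * Polynomial.X + Polynomial.X * Polynomial.X +
        Polynomial.X * Polynomial.X) - (Polynomial.X * Polynomial.X * Polynomial.X +
        Polynomial.X * Polynomial.X * Polynomial.X)) *
        ((Polynomial.X * Polynomial.X + Polynomial.X * Polynomial.X +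
        Polynomial.X * Polynomial.X) - (Polynomial.X * Polynomial.X * Polynomial.X +
        Polynomial.X * Polynomial.X * Polynomial.X)) -
        ((Polynomial.X * Polynomial.X + Polynomial.X * Polynomial.X +
        Polynomial.X * Polynomial.X) - (Polynomial.X * Polynomial.X * Polynomial.X +
        Polynomial.X * Polynomial.X * Polynomial.X))
        = ((Polynomial.X * Polynomial.X + Polynomial.X * Polynomial.X + Polynomial.X * Polynomial.X +
            Polynomial.X * Polynomial.X) - (Polynomial.X + Polynomial.X + Polynomial.X + Polynomial.X) -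
            (1 + 1 + 1)) *
          ((Polynomial.X * Polynomial.X - Polynomial.X) * (Polynomial.X * Polynomial.X - Polynomial.X)) := by
      ring
    have h2 := congrArg (Polynomial.aeval β) hp
    simp only [map_sub, map_mul, map_add, map_one, Polynomial.aeval_X] at h2
    rw [h, mul_zero] at h2
    exact sub_eq_zero.mp h2
  have hn1 : T.mor₁ ≫ (b' ≫ b' - b') = 0 := by
    rw [Preadditive.comp_sub, ← Category.assoc, hb1, Category.assoc, hb1, ← Category.assoc, ha, sub_self]
  have hn2 : (b' ≫ b' - b') ≫ T.mor₂ = 0 := by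
    rw [Preadditive.sub_comp, Category.assoc, ← hb2, ← Category.assoc, ← hb2, Category.assoc, hc, sub_self]
  have hnn : (b' ≫ b' - b') ≫ (b' ≫ b' - b') = 0 := by
    obtain ⟨d, hd⟩ := Triangle.yoneda_exact₂ T hT _ hn1
    calc (b' ≫ b' - b') ≫ (b' ≫ b' - b') = (b' ≫ b' - b') ≫ (T.mor₂ ≫ d) := congrArg (_ ≫ ·) hd
      _ = ((b' ≫ b' - b') ≫ T.mor₂) ≫ d := (Category.assoc _ _ _).symm
      _ = 0 := by rw [hn2, zero_comp]
  have hid := ring_fact b' hnn
  have e1 : T.mor₁ ≫ b' ≫ b' = a ≫ T.mor₁ := by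
    rw [← Category.assoc, hb1, Category.assoc, hb1, ← Category.assoc, ha]
  have e2 : T.mor₁ ≫ b' ≫ b' ≫ b' = a ≫ T.mor₁ := by
    rw [← Category.assoc, hb1, Category.assoc, e1, ← Category.assoc, ha]
  have e3 : (b' ≫ b') ≫ T.mor₂ = T.mor₂ ≫ c := by
    rw [Category.assoc, ← hb2, ← Category.assoc, ← hb2, Category.assoc, hc]
  have e4 : (b' ≫ b' ≫ b') ≫ T.mor₂ = T.mor₂ ≫ c := by
    rw [Category.assoc, e3, ← Category.assoc, ← hb2, Category.assoc, hc]
  refine ⟨(b' ≫ b' + b' ≫ b' + b' ≫ b') - (b' ≫ b' ≫ b' + b' ≫ b' ≫ b'), hid, ?_, ?_⟩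
  · rw [Preadditive.comp_sub, Preadditive.comp_add, Preadditive.comp_add, Preadditive.comp_add, e1, e2]
    abel
  · rw [Preadditive.sub_comp, Preadditive.add_comp, Preadditive.add_comp, Preadditive.add_comp, e3, e4]
    abel

end Groth.Agent.S6580
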