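import Groth.Statements.S6585
import Mathlib

set_option autoImplicit false
universe v u
open CategoryTheory CategoryTheory.Limits
open CohDer

namespace Groth.Agent.S6585

open CategoryTheory.Pretriangulated in
/-- Let D be a triangulated category and E, K objects of D. Then Hom(E, K⟦i⟧) = 0 for all integers i if
and only if Hom(E', K) = 0 for every E' in ⟨E⟩, the smallest strictly full saturated triangulated
subcategory of D containing E (the objects obtained from E by shifts, finite direct sums, direct
summands and extensions). -/
theorem result {D : Type u} [Category.{v} D] [Preadditive D] [HasZeroObject D] [HasShift D ℤ]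
    [∀ n : ℤ, (shiftFunctor D n).Additive] [Pretriangulated D] [IsTriangulated D]
    (E K : D) :
    (∀ (i : ℤ) (f : E ⟶ (shiftFunctor D i).obj K), f = 0) ↔
      ∀ (E' : D), (ObjectProperty.singleton E).triangEnvelope E' → ∀ f : E' ⟶ K, f = 0 := by
  haveI hret : (((ObjectProperty.singleton K).shiftClosure ℤ).leftOrthogonal).IsStableUnderRetracts :=
    ⟨fun {X Y} r hY Z f hZ => by
      have h1 : f = r.i ≫ (r.r ≫ f) := by rw [← Category.assoc, r.retract, Category.id_comp]
      rw [h1, hY (r.r ≫ f) hZ, comp_zero]⟩
  constructor
  · intro h E' hE' f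
    have hle : (ObjectProperty.singleton E).triangEnvelope ≤
        ((ObjectProperty.singleton K).shiftClosure ℤ).leftOrthogonal := by
      rw [ObjectProperty.triangEnvelope_le_iff, ObjectProperty.singleton_le_iff]
      rintro Y g ⟨K', i, e, hK'⟩
      rw [ObjectProperty.singleton_iff] at hK'
      subst hK'
      have h2 := h i (g ≫ e.hom)
      rw [← cancel_mono e.hom, h2, zero_comp]
    exact hle _ hE' f ⟨K, 0, (shiftFunctorZero D ℤ).symm.app K, (ObjectProperty.singleton_iff _ _).2 rfl⟩
  · intro h i f
    have hE' : (ObjectProperty.singleton E).triangEnvelope ((shiftFunctor D (-i)).obj E) :=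
      (ObjectProperty.singleton E).triangEnvelope.le_shift (-i) _ (ObjectProperty.le_triangEnvelope _ _
        ((ObjectProperty.singleton_iff _ _).2 rfl))
    obtain ⟨ui, hui⟩ : ∃ ui : (shiftFunctor D (-i)).obj ((shiftFunctor D i).obj K) ⟶ K, IsIso ui :=
      ⟨(shiftFunctorCompIsoId D i (-i) (add_neg_cancel i)).hom.app K, inferInstance⟩
    have h2 := h _ hE' ((shiftFunctor D (-i)).map f ≫ ui)
    apply (shiftFunctor D (-i)).map_injective
    rw [Functor.map_zero, ← cancel_mono ui, h2, zero_comp]

end Groth.Agent.S6585
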