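import Groth.Statements.S6587
import Mathlib

set_option autoImplicit false
universe v u
open CategoryTheory CategoryTheory.Limits Opposite
open CohDer

namespace Groth.Agent.S6587

open CategoryTheory.Pretriangulated in
/-- Let D be a triangulated category and let X_n → Y_n → Z_n → X_n⟦1⟧ be an inverse system of
distinguished triangles of D indexed by ℕ (levelwise maps f, g, h of inverse systems, each level
distinguished). If the inverse system (Z_n) is pro-zero, then the levelwise map f : (X_n) → (Y_n) is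
a pro-isomorphism. -/
theorem result {D : Type u} [Category.{v} D] [Preadditive D] [HasZeroObject D] [HasShift D ℤ]
    [∀ n : ℤ, (shiftFunctor D n).Additive] [Pretriangulated D] [IsTriangulated D]
    (X Y Z : ARSys.PS D) (f : X ⟶ Y) (g : Y ⟶ Z) (h : Z ⟶ X ⋙ shiftFunctor D (1 : ℤ))
    (hT : ∀ n : ℕ, Triangle.mk (f.app (op n)) (g.app (op n)) (h.app (op n)) ∈ distinguishedTriangles)
    (hZ : DerCA.IsProZero Z) :
    DerCA.IsProIso f := by
  intro n
  obtain ⟨n₁, hn₁, hz₁⟩ := hZ n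
  obtain ⟨m, hm, hz₂⟩ := hZ n₁
  have trX : ARSys.tr X hm ≫ ARSys.tr X hn₁ = ARSys.tr X (hn₁.trans hm) := by
    show X.map _ ≫ X.map _ = X.map _
    rw [← X.map_comp]
    exact congrArg X.map (Subsingleton.elim _ _)
  have trY : ARSys.tr Y hm ≫ ARSys.tr Y hn₁ = ARSys.tr Y (hn₁.trans hm) := by
    show Y.map _ ≫ Y.map _ = Y.map _
    rw [← Y.map_comp]
    exact congrArg Y.map (Subsingleton.elim _ _)
  have natf1 : ARSys.tr X hm ≫ f.app (op n₁) = f.app (op m) ≫ ARSys.tr Y hm := f.naturality _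
  have natf2 : ARSys.tr X hn₁ ≫ f.app (op n) = f.app (op n₁) ≫ ARSys.tr Y hn₁ := f.naturality _
  have natg : ARSys.tr Y hm ≫ g.app (op n₁) = g.app (op m) ≫ ARSys.tr Z hm := g.naturality _
  have nath : ARSys.tr Z hn₁ ≫ h.app (op n) =
      h.app (op n₁) ≫ (shiftFunctor D (1 : ℤ)).map (ARSys.tr X hn₁) := h.naturality _
  have h1 : ARSys.tr Y hm ≫ g.app (op n₁) = 0 := by rw [natg, hz₂, comp_zero]
  obtain ⟨b₁, hb₁'⟩ : ∃ b₁ : Y.obj (op m) ⟶ X.obj (op n₁), ARSys.tr Y hm = b₁ ≫ f.app (op n₁) :=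
    Triangle.coyoneda_exact₂ _ (hT n₁) (ARSys.tr Y hm) h1
  have hδ : (f.app (op m) ≫ b₁ - ARSys.tr X hm) ≫ f.app (op n₁) = 0 := by
    rw [Preadditive.sub_comp, Category.assoc, ← hb₁', natf1, sub_self]
  have hδ1 : (shiftFunctor D (1 : ℤ)).map (f.app (op m) ≫ b₁ - ARSys.tr X hm) ≫
      (shiftFunctor D (1 : ℤ)).map (f.app (op n₁)) = 0 := by
    rw [← Functor.map_comp, hδ, Functor.map_zero]
  obtain ⟨e, he'⟩ : ∃ e : (shiftFunctor D (1 : ℤ)).obj (X.obj (op m)) ⟶ Z.obj (op n₁),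
      (shiftFunctor D (1 : ℤ)).map (f.app (op m) ≫ b₁ - ARSys.tr X hm) = e ≫ h.app (op n₁) :=
    Triangle.coyoneda_exact₁ _ (hT n₁) _ hδ1
  have hδ2 : (f.app (op m) ≫ b₁ - ARSys.tr X hm) ≫ ARSys.tr X hn₁ = 0 := by
    apply (shiftFunctor D (1 : ℤ)).map_injective
    rw [Functor.map_comp, he', Category.assoc, ← nath, hz₁, zero_comp, comp_zero, Functor.map_zero]
  refine ⟨m, hn₁.trans hm, b₁ ≫ ARSys.tr X hn₁, ?_, ?_⟩
  · have h3 : f.app (op m) ≫ b₁ = (f.app (op m) ≫ b₁ - ARSys.tr X hm) + ARSys.tr X hm := by abel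
    rw [← Category.assoc, h3, Preadditive.add_comp, hδ2, zero_add, trX]
  · rw [Category.assoc, natf2, ← Category.assoc, ← hb₁', trY]

end Groth.Agent.S6587
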