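import Groth.Statements.S6600
import Mathlib

set_option autoImplicit false
universe v u
open CategoryTheory CategoryTheory.Limits
open CohDer

namespace Groth.Agent.S6600

open CategoryTheory.Pretriangulated in
/-- Let D be a triangulated category, A ⊂ D a full subcategory invariant under all shifts, and X → Y → Z
→ X⟦1⟧ a distinguished triangle. Then Z lies in the right orthogonal A^⊥ if and only if Hom(A, X) →
Hom(A, Y) is bijective for every object A of A. -/
theorem result {D : Type u} [Category.{v} D] [Preadditive D] [HasZeroObject D] [HasShift D ℤ]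
    [∀ n : ℤ, (shiftFunctor D n).Additive] [Pretriangulated D] [IsTriangulated D]
    (P : ObjectProperty D) [P.IsStableUnderShift ℤ] (T : Triangle D) (hT : T ∈ distinguishedTriangles) :
    P.rightOrthogonal T.obj₃ ↔ ∀ A : D, P A → Function.Bijective (fun u : A ⟶ T.obj₁ => u ≫ T.mor₁) := by
  have lemA : ∀ (A : D), (∀ u : A⟦(-1 : ℤ)⟧ ⟶ T.obj₁, u ≫ T.mor₁ = 0 → u = 0) →
      ∀ w : A ⟶ T.obj₁⟦(1 : ℤ)⟧, w ≫ T.mor₁⟦(1 : ℤ)⟧' = 0 → w = 0 := by
    intro A hA w hw
    have nat := (shiftFunctorCompIsoId D (1 : ℤ) (-1) (add_neg_cancel 1)).hom.naturality T.mor₁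
    dsimp at nat
    have h1 : (w⟦(-1 : ℤ)⟧' ≫ (shiftFunctorCompIsoId D (1 : ℤ) (-1) (add_neg_cancel 1)).hom.app T.obj₁) ≫
        T.mor₁ = 0 := by
      rw [Category.assoc, ← nat, ← Category.assoc, ← Functor.map_comp, hw, Functor.map_zero, zero_comp]
    have h2 := hA _ h1
    have h3 : w⟦(-1 : ℤ)⟧' = 0 := by
      rw [← cancel_mono ((shiftFunctorCompIsoId D (1 : ℤ) (-1) (add_neg_cancel 1)).hom.app T.obj₁),
        h2, zero_comp]
    apply (shiftFunctor D (-1 : ℤ)).map_injective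
    rw [h3, Functor.map_zero]
  constructor
  · intro hZ A hA
    constructor
    · intro u₁ u₂ hu
      have h0 : (u₁ - u₂) ≫ T.mor₁ = 0 := by
        rw [Preadditive.sub_comp]; exact sub_eq_zero.mpr hu
      obtain ⟨g, hg⟩ := Triangle.coyoneda_exact₂ T.invRotate (inv_rot_of_distTriang _ hT)
        (u₁ - u₂) h0
      have hZ' : P.rightOrthogonal (T.obj₃⟦(-1 : ℤ)⟧) := P.rightOrthogonal.le_shift (-1 : ℤ) _ hZ
      have hg0 : g = 0 := hZ' g hA
      rw [hg0, zero_comp] at hg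
      exact sub_eq_zero.mp hg
    · intro v
      obtain ⟨u, hu⟩ := Triangle.coyoneda_exact₂ T hT v (hZ _ hA)
      exact ⟨u, hu.symm⟩
  · intro H A f hA
    have hA' : P (A⟦(-1 : ℤ)⟧) := P.le_shift (-1 : ℤ) _ hA
    have hinj : ∀ u : A⟦(-1 : ℤ)⟧ ⟶ T.obj₁, u ≫ T.mor₁ = 0 → u = 0 := by
      intro u hu
      apply (H _ hA').1
      simp only [hu, zero_comp]
    have h1 : f ≫ T.mor₃ = 0 := by
      apply lemA A hinj
      rw [Category.assoc, comp_distTriang_mor_zero₃₁ T hT, comp_zero]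
    obtain ⟨v, hv⟩ := Triangle.coyoneda_exact₃ T hT f h1
    obtain ⟨u, hu⟩ := (H A hA).2 v
    simp only at hu
    rw [hv, ← hu, Category.assoc, comp_distTriang_mor_zero₁₂ T hT, comp_zero]

end Groth.Agent.S6600
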