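import Groth.Statements.S6601
import Mathlib

set_option autoImplicit false
universe v u
open CategoryTheory CategoryTheory.Limits
open CohDer

namespace Groth.Agent.S6601

open CategoryTheory.Pretriangulated in
/-- Let D be a triangulated category, B ⊂ D a full subcategory invariant under all shifts, and X → Y → Z
→ X⟦1⟧ a distinguished triangle. Then X lies in the left orthogonal ^⊥B if and only if Hom(Z, B) →
Hom(Y, B) is bijective for every object B of B. -/
theorem result {D : Type u} [Category.{v} D] [Preadditive D] [HasZeroObject D] [HasShift D ℤ]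
    [∀ n : ℤ, (shiftFunctor D n).Additive] [Pretriangulated D] [IsTriangulated D]
    (P : ObjectProperty D) [P.IsStableUnderShift ℤ] (T : Triangle D) (hT : T ∈ distinguishedTriangles) :
    P.leftOrthogonal T.obj₁ ↔ ∀ B : D, P B → Function.Bijective (fun u : T.obj₃ ⟶ B => T.mor₂ ≫ u) := by
  constructor
  · intro hX B hB
    constructor
    · intro u₁ u₂ hu
      have h0 : T.mor₂ ≫ (u₁ - u₂) = 0 := by
        rw [Preadditive.comp_sub]; exact sub_eq_zero.mpr hu
      obtain ⟨g, hg⟩ := Triangle.yoneda_exact₃ T hT (u₁ - u₂) h0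
      have hX' : P.leftOrthogonal (T.obj₁⟦(1 : ℤ)⟧) := P.leftOrthogonal.le_shift (1 : ℤ) _ hX
      have hg0 : g = 0 := hX' g hB
      rw [hg0, comp_zero] at hg
      exact sub_eq_zero.mp hg
    · intro v
      obtain ⟨u, hu⟩ := Triangle.yoneda_exact₂ T hT v (hX _ hB)
      exact ⟨u, hu.symm⟩
  · intro H B f hB
    have hB' : P (B⟦(1 : ℤ)⟧) := P.le_shift (1 : ℤ) _ hB
    have h1 : T.mor₃ ≫ f⟦(1 : ℤ)⟧' = 0 := by
      apply (H _ hB').1
      simp only [comp_zero]
      rw [← Category.assoc, comp_distTriang_mor_zero₂₃ T hT, zero_comp]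
    obtain ⟨h, hh⟩ := Triangle.yoneda_exact₂ T.rotate.rotate
      (rot_of_distTriang _ (rot_of_distTriang _ hT)) (f⟦(1 : ℤ)⟧') h1
    obtain ⟨v, hv⟩ := (shiftFunctor D (1 : ℤ)).map_surjective h
    obtain ⟨u, hu⟩ := (H B hB).2 v
    simp only at hu
    apply (shiftFunctor D (1 : ℤ)).map_injective
    have hh' : f⟦(1 : ℤ)⟧' = (-T.mor₁⟦(1 : ℤ)⟧') ≫ h := hh
    have hv' : h = (T.mor₂ ≫ u)⟦(1 : ℤ)⟧' := by rw [hu]; exact hv.symm
    rw [Functor.map_zero, hh', hv']
    rw [Functor.map_comp, Preadditive.neg_comp, ← Category.assoc, ← Functor.map_comp,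
      comp_distTriang_mor_zero₁₂ T hT, Functor.map_zero, zero_comp, neg_zero]

end Groth.Agent.S6601
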