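import Groth.Statements.S6608
import Mathlib

set_option autoImplicit false
universe v u
open CategoryTheory CategoryTheory.Limits
open CohDer

namespace Groth.Agent.S6608

open CategoryTheory.Pretriangulated in
/-- Let D be a pretriangulated category and S a set of arrows of D containing the identities and
satisfying MS6 (compatibility with the triangulated structure; here together with stability under
shifts, MS5). Then every isomorphism of D lies in S. -/
theorem result {D : Type u} [Category.{v} D] [Preadditive D] [HasZeroObject D] [HasShift D ℤ]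
    [∀ n : ℤ, (shiftFunctor D n).Additive] [Pretriangulated D]
    (S : MorphismProperty D) [S.ContainsIdentities] [S.IsCompatibleWithTriangulation]
    {X Y : D} (f : X ⟶ Y) [IsIso f] : S f := by
  open ZeroObject in
  have h1 : Triangle.mk (0 : (0 : D) ⟶ X) (𝟙 X) 0 ∈ distinguishedTriangles :=
    contractible_distinguished₁ X
  open ZeroObject in
  have h2 : Triangle.mk (0 : (0 : D) ⟶ X) f (0 : Y ⟶ (shiftFunctor D (1 : ℤ)).obj 0) ∈
      distinguishedTriangles := by
    refine isomorphic_distinguished _ h1 _ ?_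
    refine Triangle.isoMk _ _ (Iso.refl (0 : D)) (Iso.refl X) (asIso f).symm ?_ ?_ ?_
    · show (0 : (0 : D) ⟶ X) ≫ 𝟙 X = 𝟙 (0 : D) ≫ (0 : (0 : D) ⟶ X)
      simp
    · show f ≫ inv f = 𝟙 X ≫ 𝟙 X
      simp
    · show (0 : Y ⟶ (shiftFunctor D (1 : ℤ)).obj 0) ≫ (shiftFunctor D (1 : ℤ)).map (𝟙 (0 : D)) =
        inv f ≫ (0 : X ⟶ (shiftFunctor D (1 : ℤ)).obj 0)
      simp
  open ZeroObject in
  obtain ⟨c, hc, hc1, -⟩ := MorphismProperty.compatible_with_triangulation (W := S) _ _ h1 h2
    (𝟙 (0 : D)) (𝟙 X) (S.id_mem _) (S.id_mem _) (by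
      show (0 : (0 : D) ⟶ X) ≫ 𝟙 X = 𝟙 (0 : D) ≫ (0 : (0 : D) ⟶ X)
      simp)
  have hc2 : 𝟙 X ≫ c = 𝟙 X ≫ f := hc1
  rw [Category.id_comp, Category.id_comp] at hc2
  have hc' : S (c : X ⟶ Y) := hc
  rw [hc2] at hc'
  exact hc'

end Groth.Agent.S6608
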