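import Groth.Statements.S6603
import Mathlib
import Groth.Agent.S6608

set_option autoImplicit false
universe v u v' u'
open CategoryTheory CategoryTheory.Limits
open CohDer

namespace Groth.Agent.S6603

open CategoryTheory.Pretriangulated in
/-- (1) ⇔ (2) ⇔ (3) ⇔ (4): let D be a pretriangulated category, S a multiplicative system compatible
with the triangulated structure, and Q : D → S⁻¹D the localization functor. For an object Z of D the
following are equivalent: (1) Q(Z) = 0; (2) 0 : Z ⟶ Z' is in S for some Z'; (3) 0 : Z' ⟶ Z is in S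
for some Z'; (4) there are an object Z' and a distinguished triangle (X, Y, Z ⊞ Z', f, g, h) with f
∈ S. (The further equivalences (5)–(7) for saturated S are not asserted.) -/
theorem result {D : Type u} [Category.{v} D] [Preadditive D] [HasZeroObject D] [HasShift D ℤ]
    [∀ n : ℤ, (shiftFunctor D n).Additive] [Pretriangulated D]
    (S : MorphismProperty D) [S.HasLeftCalculusOfFractions] [S.HasRightCalculusOfFractions]
    [S.IsCompatibleWithTriangulation]
    {E : Type u'} [Category.{v'} E] (Q : D ⥤ E) [Q.IsLocalization S] (Z : D) :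
    (IsZero (Q.obj Z) ↔ ∃ Z' : D, S (0 : Z ⟶ Z')) ∧
    (IsZero (Q.obj Z) ↔ ∃ Z' : D, S (0 : Z' ⟶ Z)) ∧
    (IsZero (Q.obj Z) ↔ ∃ (Z' X Y : D) (f : X ⟶ Y) (g : Y ⟶ Z ⊞ Z') (h : Z ⊞ Z' ⟶ (shiftFunctor D (1 : ℤ)).obj X),
      Triangle.mk f g h ∈ distinguishedTriangles ∧ S f) := by
  letI := Localization.preadditive Q S
  haveI := Localization.functor_additive Q S
  -- basic facts
  have zero_of_inv : ∀ {A B : D} (φ : A ⟶ B), φ = 0 → S φ → IsZero (Q.obj A) ∧ IsZero (Q.obj B) := by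
    intro A B φ h0 hS
    haveI : IsIso (Q.map φ) := Localization.inverts Q S _ hS
    have hq : Q.map φ = 0 := by rw [h0, Functor.map_zero]
    constructor
    · rw [IsZero.iff_id_eq_zero]
      calc 𝟙 (Q.obj A) = Q.map φ ≫ inv (Q.map φ) := (IsIso.hom_inv_id _).symm
        _ = 0 ≫ inv (Q.map φ) := congrArg (· ≫ inv (Q.map φ)) hq
        _ = 0 := zero_comp
    · rw [IsZero.iff_id_eq_zero]
      calc 𝟙 (Q.obj B) = inv (Q.map φ) ≫ Q.map φ := (IsIso.inv_hom_id _).symm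
        _ = inv (Q.map φ) ≫ 0 := congrArg (inv (Q.map φ) ≫ ·) hq
        _ = 0 := comp_zero
  have retract : ∀ (Z' : D), IsZero (Q.obj (Z ⊞ Z')) → IsZero (Q.obj Z) := by
    intro Z' hZZ
    rw [IsZero.iff_id_eq_zero]
    have h2 : 𝟙 (Q.obj Z) = Q.map biprod.inl ≫ Q.map (biprod.fst : Z ⊞ Z' ⟶ Z) := by
      rw [← Q.map_comp, biprod.inl_fst, Q.map_id]
    rw [h2, hZZ.eq_of_tgt (Q.map biprod.inl) 0, zero_comp]
  have h12 : IsZero (Q.obj Z) ↔ ∃ Z' : D, S (0 : Z ⟶ Z') := by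
    constructor
    · intro hZ
      have h0 : Q.map (𝟙 Z) = Q.map (0 : Z ⟶ Z) := hZ.eq_of_src _ _
      obtain ⟨Z'', s, hs, hs'⟩ := (MorphismProperty.map_eq_iff_postcomp Q S (𝟙 Z) 0).1 h0
      rw [Category.id_comp, zero_comp] at hs'
      subst hs'
      exact ⟨Z'', hs⟩
    · rintro ⟨Z', hs⟩
      exact (zero_of_inv _ rfl hs).1
  have h13 : IsZero (Q.obj Z) ↔ ∃ Z' : D, S (0 : Z' ⟶ Z) := by
    constructor
    · intro hZ
      have h0 : Q.map (𝟙 Z) = Q.map (0 : Z ⟶ Z) := hZ.eq_of_src _ _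
      obtain ⟨Z'', s, hs, hs'⟩ := (MorphismProperty.map_eq_iff_precomp Q S (𝟙 Z) 0).1 h0
      rw [Category.comp_id, comp_zero] at hs'
      subst hs'
      exact ⟨Z'', hs⟩
    · rintro ⟨Z', hs⟩
      exact (zero_of_inv _ rfl hs).2
  refine ⟨h12, h13, ?_⟩
  constructor
  · intro hZ
    obtain ⟨Z', hs⟩ := h13.1 hZ
    have hT := Pretriangulated.inv_rot_of_distTriang _
      (Pretriangulated.binaryBiproductTriangle_distinguished Z ((shiftFunctor D (1 : ℤ)).obj Z'))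
    obtain ⟨f, g, h, hfgh, hf⟩ : ∃ (f : (shiftFunctor D (-1 : ℤ)).obj ((shiftFunctor D (1 : ℤ)).obj Z') ⟶ Z)
        (g : Z ⟶ Z ⊞ (shiftFunctor D (1 : ℤ)).obj Z')
        (h : Z ⊞ (shiftFunctor D (1 : ℤ)).obj Z' ⟶ (shiftFunctor D (1 : ℤ)).obj
          ((shiftFunctor D (-1 : ℤ)).obj ((shiftFunctor D (1 : ℤ)).obj Z'))),
        Pretriangulated.Triangle.mk f g h = (Pretriangulated.binaryBiproductTriangle Z
          ((shiftFunctor D (1 : ℤ)).obj Z')).invRotate ∧ f = 0 := by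
      refine ⟨_, _, _, rfl, ?_⟩
      show -(shiftFunctor D (-1 : ℤ)).map (0 : (shiftFunctor D (1 : ℤ)).obj Z' ⟶ _) ≫ _ = 0
      rw [Functor.map_zero, zero_comp, neg_zero]
    rw [← hfgh] at hT
    refine ⟨(shiftFunctor D (1 : ℤ)).obj Z', _, Z, f, g, h, hT, ?_⟩
    obtain ⟨ui, huiS⟩ : ∃ ui : (shiftFunctor D (-1 : ℤ)).obj ((shiftFunctor D (1 : ℤ)).obj Z') ⟶ Z', S ui := by
      refine ⟨(shiftEquiv D (1 : ℤ)).unitIso.inv.app Z', ?_⟩
      haveI : IsIso ((shiftEquiv D (1 : ℤ)).unitIso.inv.app Z') := inferInstance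
      exact Groth.Agent.S6608.result S ((shiftEquiv D (1 : ℤ)).unitIso.inv.app Z')
    have hf' : f = ui ≫ (0 : Z' ⟶ Z) := by rw [hf, comp_zero]
    rw [hf']
    exact S.comp_mem _ _ huiS hs
  · rintro ⟨Z', X, Y, f, g, h, hT, hf⟩
    apply retract Z'
    open ZeroObject in
    have key : ∃ (c : Z ⊞ Z' ⟶ (0 : D)), S c := by
      obtain ⟨c, hc, -, -⟩ := MorphismProperty.compatible_with_triangulation (W := S) _ _ hT
        (Pretriangulated.contractible_distinguished Y) f (𝟙 Y) hf (S.id_mem _) (by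
          show f ≫ 𝟙 Y = f ≫ 𝟙 Y
          rfl)
      exact ⟨c, hc⟩
    obtain ⟨c, hc⟩ := key
    exact (zero_of_inv c ((isZero_zero D).eq_of_tgt _ _) hc).1

end Groth.Agent.S6603
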