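import Groth.Statements.S6607
import Mathlib
import Groth.Agent.Lib.helper2.ExtProd

set_option autoImplicit false
universe v u
open CategoryTheory CategoryTheory.Limits
open CohDer

namespace Groth.Agent.S6607

open CategoryTheory.Pretriangulated in
/-- Let D be a triangulated category and B a full triangulated subcategory. Let P(X) be the property:
there is a distinguished triangle A → X → B → A⟦1⟧ with B in B and A in ^⊥B. Then P satisfies
two-out-of-three in distinguished triangles, i.e. it is stable under all shifts and closed under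
extensions (a triangulated object property). -/
theorem result {D : Type u} [Category.{v} D] [Preadditive D] [HasZeroObject D] [HasShift D ℤ]
    [∀ n : ℤ, (shiftFunctor D n).Additive] [Pretriangulated D] [IsTriangulated D]
    (B : ObjectProperty D) [B.IsTriangulated] :
    ObjectProperty.IsTriangulated (fun X : D => ∃ (A Y : D) (f : A ⟶ X) (g : X ⟶ Y) (h : Y ⟶ (shiftFunctor D (1 : ℤ)).obj A),
      Triangle.mk f g h ∈ distinguishedTriangles ∧ B Y ∧ B.leftOrthogonal A) := by
  have heq : (fun X : D => ∃ (A Y : D) (f : A ⟶ X) (g : X ⟶ Y) (h : Y ⟶ (shiftFunctor D (1 : ℤ)).obj A),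
      Triangle.mk f g h ∈ distinguishedTriangles ∧ B Y ∧ B.leftOrthogonal A) =
      ObjectProperty.extensionProduct B.leftOrthogonal B := by
    funext X
    apply propext
    constructor
    · rintro ⟨A, Y, f, g, h, hT, hY, hA⟩
      exact ⟨A, Y, f, g, h, hT, hA, hY⟩
    · rintro ⟨A, Y, f, g, h, hT, hA, hY⟩
      exact ⟨A, Y, f, g, h, hT, hY, hA⟩
  rw [heq]
  exact Groth.Agent.H2.H2_extProd_isTriangulated B.leftOrthogonal B
    (fun X₁ X₂ k h1 h2 => h1 k (B.le_shift (1 : ℤ) _ h2))

end Groth.Agent.S6607
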