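import Groth.Statements.S6609
import Mathlib
import Groth.Agent.S6608

set_option autoImplicit false
universe v u
open CategoryTheory CategoryTheory.Limits
open CohDer

namespace Groth.Agent.S6609

open CategoryTheory.Pretriangulated in
/-- Let D be a pretriangulated category and S a set of arrows satisfying MS1 (identities, stable under
composition), MS5 (stable under shifts in both directions) and MS6 (compatibility with distinguished
triangles). Then MS2 holds: (LMS2) for f : X ⟶ Y and t : X ⟶ X' in S there are f' : X' ⟶ Y' and s' :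
Y ⟶ Y' in S with f ≫ s' = t ≫ f'; (RMS2) for f : X ⟶ Y and s : Y' ⟶ Y in S there are f' : X' ⟶ Y'
and t' : X' ⟶ X in S with t' ≫ f = f' ≫ s. -/
theorem result {D : Type u} [Category.{v} D] [Preadditive D] [HasZeroObject D] [HasShift D ℤ]
    [∀ n : ℤ, (shiftFunctor D n).Additive] [Pretriangulated D]
    (S : MorphismProperty D) [S.IsMultiplicative] [S.IsCompatibleWithTriangulation] :
    (∀ {X Y X' : D} (f : X ⟶ Y) (t : X ⟶ X'), S t →
      ∃ (Y' : D) (f' : X' ⟶ Y') (s' : Y ⟶ Y'), S s' ∧ f ≫ s' = t ≫ f') ∧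
    (∀ {X Y Y' : D} (f : X ⟶ Y) (s : Y' ⟶ Y), S s →
      ∃ (X' : D) (f' : X' ⟶ Y') (t' : X' ⟶ X), S t' ∧ t' ≫ f = f' ≫ s) := by
  constructor
  · intro X Y X' f t ht
    obtain ⟨Z, g, h, hT⟩ := distinguished_cocone_triangle f
    have hT' := inv_rot_of_distTriang _ hT
    obtain ⟨m, hm⟩ : ∃ (m : Z⟦(-1 : ℤ)⟧ ⟶ X), m = (Triangle.mk f g h).invRotate.mor₁ := ⟨_, rfl⟩
    obtain ⟨Y', f', h', hT₂⟩ := distinguished_cocone_triangle (m ≫ t)
    have key : ∃ c : Y ⟶ Y', S c ∧ f ≫ c = t ≫ f' := by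
      subst hm
      obtain ⟨c, hc, hc1, -⟩ := MorphismProperty.compatible_with_triangulation (W := S) _ _ hT' hT₂
        (𝟙 _) t (S.id_mem _) ht (by
          show (Triangle.mk f g h).invRotate.mor₁ ≫ t = 𝟙 _ ≫ ((Triangle.mk f g h).invRotate.mor₁ ≫ t)
          rw [Category.id_comp])
      exact ⟨c, hc, hc1⟩
    obtain ⟨c, hc, hc1⟩ := key
    exact ⟨Y', f', c, hc, hc1⟩
  · intro X Y Y' f s hs
    obtain ⟨Z, g, h, hT⟩ := distinguished_cocone_triangle f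
    have hT' := rot_of_distTriang _ hT
    obtain ⟨W, h', k, hT₂⟩ := distinguished_cocone_triangle (s ≫ g)
    have key : ∃ c : W ⟶ X⟦(1 : ℤ)⟧, S c ∧ k ≫ s⟦(1 : ℤ)⟧' = c ≫ (-f⟦(1 : ℤ)⟧') := by
      obtain ⟨c, hc, -, hc2⟩ := MorphismProperty.compatible_with_triangulation (W := S) _ _ hT₂ hT'
        s (𝟙 Z) hs (S.id_mem _) (by
          show (s ≫ g) ≫ 𝟙 Z = s ≫ g
          rw [Category.comp_id])
      exact ⟨c, hc, hc2⟩
    obtain ⟨c, hc', hc2'⟩ := key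
    obtain ⟨ui, hnat, huiS⟩ : ∃ ui : ∀ A : D, (A⟦(1 : ℤ)⟧)⟦(-1 : ℤ)⟧ ⟶ A,
        (∀ {A B : D} (φ : A ⟶ B), (φ⟦(1 : ℤ)⟧')⟦(-1 : ℤ)⟧' ≫ ui B = ui A ≫ φ) ∧ ∀ A, S (ui A) :=
      ⟨fun A => (shiftEquiv D (1 : ℤ)).unitIso.inv.app A,
       fun φ => (shiftEquiv D (1 : ℤ)).unitIso.inv.naturality φ,
       fun A => by
         haveI : IsIso ((shiftEquiv D (1 : ℤ)).unitIso.inv.app A) := inferInstance
         exact Groth.Agent.S6608.result S ((shiftEquiv D (1 : ℤ)).unitIso.inv.app A)⟩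
    refine ⟨W⟦(-1 : ℤ)⟧, -(k⟦(-1 : ℤ)⟧' ≫ ui Y'), c⟦(-1 : ℤ)⟧' ≫ ui X, ?_, ?_⟩
    · exact S.comp_mem _ _ (S.shift hc' (-1 : ℤ)) (huiS X)
    · have e1 : c ≫ f⟦(1 : ℤ)⟧' = -(k ≫ s⟦(1 : ℤ)⟧') := by
        rw [hc2', Preadditive.comp_neg, neg_neg]
      rw [Category.assoc, ← hnat f, ← Category.assoc, ← Functor.map_comp, e1, Functor.map_neg,
        Functor.map_comp, Preadditive.neg_comp, Preadditive.neg_comp, Category.assoc, Category.assoc,
        hnat s]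

end Groth.Agent.S6609
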