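import Groth.Statements.S6610
import Mathlib
import Groth.Agent.Lib.LeftRes
import Groth.Agent.S1123

set_option autoImplicit false
universe v u
open CategoryTheory CategoryTheory.Limits
open CohDer

namespace Groth.Agent.S6610


open CategoryTheory CategoryTheory.Limits Opposite

open ZeroObject

section
variable {A : Type u} [Category.{v} A] [Abelian A]

open HomologicalComplex HomologySequence ComposableArrows Abelian in
lemma quasiIso_τ₁ {S₁ S₂ : ShortComplex (CochainComplex A ℤ)} (φ : S₁ ⟶ S₂)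
    (hS₁ : S₁.ShortExact) (hS₂ : S₂.ShortExact) (h₂ : QuasiIso φ.τ₂) (h₃ : QuasiIso φ.τ₃) :
    QuasiIso φ.τ₁ := by
  rw [quasiIso_iff]
  intro j
  rw [quasiIsoAt_iff_isIso_homologyMap]
  have hr : (ComplexShape.up ℤ).Rel (j-1) j := by simp
  have hm : Mono (homologyMap φ.τ₁ j) := by
    apply mono_of_epi_of_mono_of_mono
      ((δ₀Functor ⋙ δlastFunctor).map (mapComposableArrows₅ φ hS₁ hS₂ (j-1) j hr))
    · exact (composableArrows₅_exact hS₁ (j-1) j hr).δ₀.δlast
    · exact (composableArrows₅_exact hS₂ (j-1) j hr).δ₀.δlast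
    · show Epi (homologyMap φ.τ₂ (j-1))
      infer_instance
    · show Mono (homologyMap φ.τ₃ (j-1))
      infer_instance
    · show Mono (homologyMap φ.τ₂ j)
      infer_instance
  have he : Epi (homologyMap φ.τ₁ j) := by
    apply epi_of_epi_of_epi_of_mono
      ((δ₀Functor ⋙ δ₀Functor).map (mapComposableArrows₅ φ hS₁ hS₂ (j-1) j hr))
    · exact (composableArrows₅_exact hS₁ (j-1) j hr).δ₀.δ₀
    · exact (composableArrows₅_exact hS₂ (j-1) j hr).δ₀.δ₀
    · show Epi (homologyMap φ.τ₃ (j-1))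
      infer_instance
    · show Epi (homologyMap φ.τ₂ j)
      infer_instance
    · show Mono (homologyMap φ.τ₃ j)
      infer_instance
  exact isIso_of_mono_of_epi _

/-- pullback short exact sequence -/
lemma pullback_shortExact {C : Type*} [Category C] [Abelian C] (S : ShortComplex C) (hS : S.ShortExact)
    {P : C} (α : P ⟶ S.X₃) :
    ∃ (Q : C) (i : S.X₁ ⟶ Q) (p : Q ⟶ P) (l : Q ⟶ S.X₂) (w : i ≫ p = 0),
      (ShortComplex.mk i p w).ShortExact ∧ i ≫ l = S.f ∧ p ≫ α = l ≫ S.g := by
  haveI := hS.mono_f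
  haveI := hS.epi_g
  let i : S.X₁ ⟶ pullback S.g α := pullback.lift S.f 0 (by simp)
  have w : i ≫ pullback.snd S.g α = 0 := pullback.lift_snd _ _ _
  have hi : i ≫ pullback.fst S.g α = S.f := pullback.lift_fst _ _ _
  haveI : Mono i := mono_of_mono_fac hi
  let S' : ShortComplex C := ShortComplex.mk i (pullback.snd S.g α) w
  have hker : IsLimit (KernelFork.ofι S'.f S'.zero) :=
    KernelFork.IsLimit.ofι _ _
      (fun {W} t ht => hS.exact.lift (t ≫ pullback.fst S.g α)
        (by rw [Category.assoc, pullback.condition, ← Category.assoc, ht, zero_comp]))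
      (fun {W} t ht => by
        apply pullback.hom_ext
        · rw [Category.assoc]
          show _ ≫ (i ≫ pullback.fst S.g α) = _
          rw [hi, ShortComplex.Exact.lift_f]
        · rw [Category.assoc]
          show _ ≫ (i ≫ pullback.snd S.g α) = _
          rw [w, comp_zero, ht])
      (fun {W} t ht m hm => by
        rw [← cancel_mono S.f, ShortComplex.Exact.lift_f]
        have : t ≫ pullback.fst S.g α = m ≫ (i ≫ pullback.fst S.g α) := by
          rw [← Category.assoc]; exact congrArg (· ≫ _) hm.symm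
        rw [this, hi])
  have hS' : S'.ShortExact :=
    { exact := ShortComplex.exact_of_f_is_kernel S' hker
      mono_f := by show Mono i; infer_instance
      epi_g := by show Epi (pullback.snd S.g α); infer_instance }
  exact ⟨pullback S.g α, i, pullback.snd S.g α, pullback.fst S.g α, w, hS', hi,
    pullback.condition.symm⟩

lemma projective_of_shortExact {S : ShortComplex A} (hS : S.ShortExact) (h2 : Projective S.X₂)
    (h3 : Projective S.X₃) : Projective S.X₁ := by
  haveI := hS.mono_f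
  haveI := hS.epi_g
  let s : S.X₃ ⟶ S.X₂ := Projective.factorThru (𝟙 _) S.g
  have hs : s ≫ S.g = 𝟙 _ := Projective.factorThru_comp _ _
  let r : S.X₂ ⟶ S.X₁ := hS.exact.lift (𝟙 _ - S.g ≫ s) (by
    rw [Preadditive.sub_comp, Category.id_comp, Category.assoc, hs, Category.comp_id, sub_self])
  have hr : r ≫ S.f = 𝟙 _ - S.g ≫ s := ShortComplex.Exact.lift_f _ _ _
  have hr' : S.f ≫ r = 𝟙 _ := by
    rw [← cancel_mono S.f, Category.assoc, hr, Preadditive.comp_sub, ← Category.assoc, S.zero,
      zero_comp, sub_zero, Category.id_comp, Category.comp_id]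
  exact ⟨fun {E X} t e _ => ⟨S.f ≫ Projective.factorThru (r ≫ t) e, by
    rw [Category.assoc, Projective.factorThru_comp, ← Category.assoc, hr', Category.id_comp]⟩⟩

theorem main [EnoughProjectives A] (S : ShortComplex (CochainComplex A ℤ)) (hS : S.ShortExact) (n : ℤ)
    [S.X₁.IsStrictlyLE n] [S.X₂.IsStrictlyLE n] [S.X₃.IsStrictlyLE n] :
    ∃ (T : ShortComplex (CochainComplex A ℤ)) (φ : T ⟶ S), T.ShortExact ∧
      T.X₁.IsStrictlyLE n ∧ T.X₂.IsStrictlyLE n ∧ T.X₃.IsStrictlyLE n ∧
      (∀ k : ℤ, Projective (T.X₁.X k) ∧ Projective (T.X₂.X k) ∧ Projective (T.X₃.X k)) ∧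
      QuasiIso φ.τ₁ ∧ QuasiIso φ.τ₂ ∧ QuasiIso φ.τ₃ := by
  have hP0 : ∃ Z : A, IsZero Z ∧ Projective Z := ⟨0, isZero_zero A, inferInstance⟩
  have hP : ∀ X : A, ∃ (Y : A) (π : Y ⟶ X), Projective Y ∧ Epi π :=
    fun X => ⟨Projective.over X, Projective.π X, inferInstance, inferInstance⟩
  obtain ⟨P₃, α₃, hP₃le, hP₃proj, hα₃epi, hα₃q⟩ :=
    LeftRes.exists_leftRes (fun X => Projective X) hP0 hP S.X₃ n
  obtain ⟨Q, i, p, l, w, hS', hl1, hl2⟩ := pullback_shortExact S hS α₃
  haveI : Q.IsStrictlyLE n := by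
    rw [CochainComplex.isStrictlyLE_iff]
    intro k hk
    have h := hS'.map_of_exact (HomologicalComplex.eval A (ComplexShape.up ℤ) k)
    exact h.exact.isZero_X₂ ((S.X₁.isZero_of_isStrictlyLE n k hk).eq_of_src _ _)
      ((P₃.isZero_of_isStrictlyLE n k hk).eq_of_tgt _ _)
  obtain ⟨P₂, β, hP₂le, hP₂proj, hβepi, hβq⟩ :=
    LeftRes.exists_leftRes (fun X => Projective X) hP0 hP Q n
  let S' := ShortComplex.mk i p w
  let ψ : S' ⟶ S := ⟨𝟙 _, l, α₃, by show 𝟙 _ ≫ S.f = i ≫ l; rw [Category.id_comp, hl1], hl2.symm⟩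
  have hlq : QuasiIso l := S1123.quasiIso_τ₂ ψ hS' hS (by show QuasiIso (𝟙 _); infer_instance) hα₃q
  haveI : Epi p := hS'.epi_g
  haveI : Epi β := HomologicalComplex.epi_of_epi_f _ hβepi
  let T : ShortComplex (CochainComplex A ℤ) :=
    ShortComplex.mk (kernel.ι (β ≫ p)) (β ≫ p) (kernel.condition _)
  have hT : T.ShortExact :=
    { exact := ShortComplex.exact_kernel _
      mono_f := by show Mono (kernel.ι (β ≫ p)); infer_instance
      epi_g := by show Epi (β ≫ p); infer_instance }
  haveI := hS'.mono_f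
  let γ : kernel (β ≫ p) ⟶ S.X₁ := hS'.exact.lift (kernel.ι (β ≫ p) ≫ β) (by
    show (kernel.ι (β ≫ p) ≫ β) ≫ p = 0
    rw [Category.assoc]; exact kernel.condition _)
  have hγ : γ ≫ i = kernel.ι (β ≫ p) ≫ β := by
    show _ ≫ S'.f = _
    exact hS'.exact.lift_f _ _
  let ψ' : T ⟶ S' := ⟨γ, β, 𝟙 _, hγ, by show β ≫ p = (β ≫ p) ≫ 𝟙 _; rw [Category.comp_id]⟩
  have hγq : QuasiIso γ := quasiIso_τ₁ ψ' hT hS' hβq (by show QuasiIso (𝟙 _); infer_instance)
  have hTk : ∀ k, (T.map (HomologicalComplex.eval A (ComplexShape.up ℤ) k)).ShortExact :=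
    fun k => hT.map_of_exact _
  refine ⟨T, ψ' ≫ ψ, hT, ?_, hP₂le, hP₃le, ?_, ?_, ?_, ?_⟩
  · rw [CochainComplex.isStrictlyLE_iff]
    intro k hk
    exact @IsZero.of_mono _ _ _ _ _ ((T.map (HomologicalComplex.eval A (ComplexShape.up ℤ) k)).f)
      (hTk k).mono_f (P₂.isZero_of_isStrictlyLE n k hk)
  · intro k
    exact ⟨projective_of_shortExact (hTk k) (hP₂proj k) (hP₃proj k), hP₂proj k, hP₃proj k⟩
  · show QuasiIso (γ ≫ 𝟙 _)
    infer_instance
  · show QuasiIso (β ≫ l)
    infer_instance
  · show QuasiIso (𝟙 _ ≫ α₃)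
    infer_instance

end

/-- Let A be an abelian category with enough projectives and S : 0 → A• → B• → C• → 0 a short exact
sequence of cochain complexes all vanishing above degree n. Then there are a short exact sequence T
: 0 → P₁ → P₂ → P₃ → 0 of complexes of projective objects vanishing above degree n and a morphism of
short exact sequences T ⟶ S whose three components are quasi-isomorphisms (projective resolutions).
(The published statement is phrased for bounded below complexes; projective resolutions are bounded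
above by definition and exist only for complexes with cohomology bounded above, so the statement is
given here for bounded above complexes, the case dual to the injective one.) -/
theorem result {A : Type u} [Category.{v} A] [Abelian A] [EnoughProjectives A]
    (S : ShortComplex (CochainComplex A ℤ)) (hS : S.ShortExact) (n : ℤ)
    [S.X₁.IsStrictlyLE n] [S.X₂.IsStrictlyLE n] [S.X₃.IsStrictlyLE n] :
    ∃ (T : ShortComplex (CochainComplex A ℤ)) (φ : T ⟶ S), T.ShortExact ∧
      T.X₁.IsStrictlyLE n ∧ T.X₂.IsStrictlyLE n ∧ T.X₃.IsStrictlyLE n ∧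
      (∀ k : ℤ, Projective (T.X₁.X k) ∧ Projective (T.X₂.X k) ∧ Projective (T.X₃.X k)) ∧
      QuasiIso φ.τ₁ ∧ QuasiIso φ.τ₂ ∧ QuasiIso φ.τ₃ := by
  exact main S hS n

end Groth.Agent.S6610
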