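import Groth.Statements.S6611
import Mathlib

set_option autoImplicit false
universe v u
open CategoryTheory CategoryTheory.Limits
open CohDer

namespace Groth.Agent.S6611

/-- Let A be an abelian category, α : K ⟶ L a quasi-isomorphism of cochain complexes which is injective
in every degree, I a bounded below complex of injective objects and γ : K ⟶ I a morphism. Then there
is a morphism β : L ⟶ I with α ≫ β = γ. -/
theorem result {A : Type u} [Category.{v} A] [Abelian A]
    (K L I : CochainComplex A ℤ) (α : K ⟶ L) [QuasiIso α] (hα : ∀ n : ℤ, Mono (α.f n))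
    (a : ℤ) [I.IsStrictlyGE a] (hI : ∀ n : ℤ, Injective (I.X n)) (γ : K ⟶ I) :
    ∃ β : L ⟶ I, α ≫ β = γ := by
  haveI : Mono α := HomologicalComplex.mono_of_mono_f α hα
  haveI : ∀ n : ℤ, Injective (I.X n) := hI
  haveI : ∀ n : ℤ, Mono (α.f n) := hα
  open ZeroObject in
  have sq : CommSq γ α (0 : I ⟶ (0 : CochainComplex A ℤ)) (0 : L ⟶ (0 : CochainComplex A ℤ)) := ⟨by simp⟩
  suffices sq.HasLift from ⟨sq.lift, sq.fac_left⟩
  have hsq : ∀ n : ℤ, (sq.map (HomologicalComplex.eval _ _ n)).LiftStruct := fun n =>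
    { l := (Injective.factorThru (γ.f n) (α.f n) : L.X n ⟶ I.X n)
      fac_left := Injective.comp_factorThru (γ.f n) (α.f n)
      fac_right := IsZero.eq_of_tgt
        ((HomologicalComplex.eval A (ComplexShape.up ℤ) n).map_isZero (isZero_zero _)) _ _ }
  open ZeroObject in
  have hK : IsLimit (KernelFork.ofι (𝟙 I) (show 𝟙 I ≫ (0 : I ⟶ (0 : CochainComplex A ℤ)) = 0 by simp)) :=
    KernelFork.IsLimit.ofId _ rfl
  let β : CochainComplex.HomComplex.Cocycle (cokernel α) I 1 :=
    CochainComplex.Lifting.cocycle₁ sq hsq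
      (cokernelIsCokernel α) hK (hπ := by simp)
  haveI : I.IsKInjective := CochainComplex.isKInjective_of_injective _ a
  obtain ⟨δ', hδ'⟩ : ∃ (δ' : CochainComplex.HomComplex.Cochain (cokernel α) I 0),
      CochainComplex.HomComplex.δ 0 1 δ' = β.1 := by
    refine CochainComplex.IsKInjective.eq_δ_of_cocycle β ?_ 0 (by simp)
    have h1 : (ShortComplex.mk _ _ (cokernel.condition α)).ShortExact :=
      { exact := ShortComplex.exact_cokernel α }
    exact h1.acyclic_X₃ (by dsimp; infer_instance)
  exact CochainComplex.Lifting.hasLift sq _ (cokernelIsCokernel _) hK δ' hδ'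

end Groth.Agent.S6611
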