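import Groth.Statements.S6612
import Mathlib

set_option autoImplicit false
universe v u
open CategoryTheory CategoryTheory.Limits
open CohDer

namespace Groth.Agent.S6612

/-- Let A be an additive category and 0 → A₂ → B₂ → C₂ → 0 a termwise split exact sequence of complexes.
Given a chain map b from a complex B₁ into B₂ and a chain map b' from B₂ into a complex B₃, suppose
that both composites b ≫ (B₂ → C₂) and (A₂ → B₂) ≫ b' are null-homotopic. Then b ≫ b' is homotopic
to zero. (The published statement has three termwise split sequences Aᵢ → Bᵢ → Cᵢ and asks both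
squares of each diagram to commute up to homotopy; this row keeps only the middle sequence and the
two conditions at B₂ that the argument uses, so it is more general.) -/
theorem result {V : Type u} [Category.{v} V] [Preadditive V] [HasBinaryBiproducts V]
    (S : ShortComplex (CochainComplex V ℤ))
    (σ : ∀ n : ℤ, (S.map (HomologicalComplex.eval V (ComplexShape.up ℤ) n)).Splitting)
    {B₁ B₃ : CochainComplex V ℤ} (b : B₁ ⟶ S.X₂) (b' : S.X₂ ⟶ B₃)
    (hb : Nonempty (Homotopy (b ≫ S.g) 0)) (hb' : Nonempty (Homotopy (S.f ≫ b') 0)) :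
    Nonempty (Homotopy (b ≫ b') 0) := by
  obtain ⟨H⟩ := hb
  obtain ⟨H'⟩ := hb'
  obtain ⟨r, s, f_r, s_g, id'⟩ : ∃ (r : ∀ n, S.X₂.X n ⟶ S.X₁.X n) (s : ∀ n, S.X₃.X n ⟶ S.X₂.X n),
      (∀ n, S.f.f n ≫ r n = 𝟙 _) ∧ (∀ n, s n ≫ S.g.f n = 𝟙 _) ∧
      (∀ n, r n ≫ S.f.f n + S.g.f n ≫ s n = 𝟙 _) :=
    ⟨fun n => (σ n).r, fun n => (σ n).s, fun n => (σ n).f_r, fun n => (σ n).s_g,
      fun n => (σ n).id⟩
  let k : ∀ i j, B₁.X i ⟶ S.X₂.X j := fun i j => H.hom i j ≫ s j
  have hk : ∀ i j, ¬ (ComplexShape.up ℤ).Rel j i → k i j = 0 := fun i j h => by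
    simp only [k, H.zero i j h, Limits.zero_comp]
  let N : B₁ ⟶ S.X₂ := Homotopy.nullHomotopicMap k
  have hN : N ≫ S.g = b ≫ S.g := by
    rw [Homotopy.nullHomotopicMap_comp]
    have e : (fun i j => k i j ≫ S.g.f j) = H.hom := by
      funext i j
      simp only [k, Category.assoc, s_g, Category.comp_id]
    rw [e]
    ext n
    have := H.comm n
    simp only [HomologicalComplex.zero_f_apply, add_zero] at this
    rw [this]
    rfl
  let bt : B₁ ⟶ S.X₂ := b - N
  have hbt : bt ≫ S.g = 0 := by
    simp only [bt, Preadditive.sub_comp, hN, sub_self]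
  have hbg : ∀ n, bt.f n ≫ S.g.f n = 0 := fun n => by
    have := congrArg (fun φ => φ.f n) hbt
    simpa using this
  have hrf : ∀ n, bt.f n ≫ r n ≫ S.f.f n = bt.f n := fun n => by
    have h1 : r n ≫ S.f.f n = 𝟙 _ - S.g.f n ≫ s n := by
      rw [← id' n]; abel
    rw [h1, Preadditive.comp_sub, Category.comp_id, reassoc_of% (hbg n), Limits.zero_comp, sub_zero]
  let a : B₁ ⟶ S.X₁ :=
    { f := fun n => bt.f n ≫ r n
      comm' := fun i j _ => by
        have : Mono (S.f.f j) := mono_of_mono_fac (f_r j)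
        rw [← cancel_mono (S.f.f j)]
        simp only [Category.assoc]
        rw [hrf j, ← S.f.comm i j, reassoc_of% (hrf i), bt.comm i j] }
  have hab : b = a ≫ S.f + N := by
    ext n
    have h2 : bt.f n = b.f n - N.f n := rfl
    have h3 := hrf n
    rw [h2] at h3
    simp only [HomologicalComplex.add_f_apply, HomologicalComplex.comp_f, a, Category.assoc]
    rw [h2, h3, sub_add_cancel]
  have e1 : (HomotopyCategory.quotient V (ComplexShape.up ℤ)).map (S.f ≫ b') = 0 := by
    rw [HomotopyCategory.eq_of_homotopy _ _ H', Functor.map_zero]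
  have e2 : (HomotopyCategory.quotient V (ComplexShape.up ℤ)).map N = 0 := by
    rw [HomotopyCategory.eq_of_homotopy _ _ (Homotopy.nullHomotopy k hk), Functor.map_zero]
  refine ⟨HomotopyCategory.homotopyOfEq _ _ ?_⟩
  rw [Functor.map_zero, hab, Preadditive.add_comp, Category.assoc, Functor.map_add,
    Functor.map_comp, e1, Limits.comp_zero, Functor.map_comp, e2, Limits.zero_comp, add_zero]

end Groth.Agent.S6612
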