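import Groth.Statements.S6619
import Groth.Agent.Lib.GSSU
import Groth.Agent.Lib.GSS.EpiG

set_option autoImplicit false
universe v v' u u'
open CategoryTheory CategoryTheory.Limits
open CohDer

namespace Groth.Agent.S6619

universe w
open Pretriangulated

open Groth.Agent.GSSU

section
variable {A : Type u} [Category.{v} A] [Abelian A] [EnoughInjectives A] [HasDerivedCategory.{w} A]
  {B : Type u'} [Category.{v'} B] [Abelian B] (S : A ⥤ B) [S.Additive]

lemma isZero_X₂ (T : ShortComplex A) (hT : T.ShortExact) (k : ℕ)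
    (h₁ : IsZero ((S.rightDerived k).obj T.X₁)) (h₃ : IsZero ((S.rightDerived k).obj T.X₃)) :
    IsZero ((S.rightDerived k).obj T.X₂) := by
  rw [← isZero_HH_sP_iff]
  have hex := (HH S).homologySequence_exact₂ _ (sesTriangle_distinguished T hT) ((k : ℕ) : ℤ)
  have z1 : IsZero ((HH S).obj ((sP T.X₁)⟦((k : ℕ) : ℤ)⟧)) := (isZero_HH_sP_iff S _ _).2 h₁
  have z3 : IsZero ((HH S).obj ((sP T.X₃)⟦((k : ℕ) : ℤ)⟧)) := (isZero_HH_sP_iff S _ _).2 h₃
  exact hex.isZero_of_both_zeros (z1.eq_of_src _ _) (z3.eq_of_tgt _ _)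

lemma isZero_X₁ (T : ShortComplex A) (hT : T.ShortExact) (k : ℕ)
    (h₃ : IsZero ((S.rightDerived k).obj T.X₃)) (h₂ : IsZero ((S.rightDerived (k + 1)).obj T.X₂)) :
    IsZero ((S.rightDerived (k + 1)).obj T.X₁) := by
  rw [← isZero_HH_sP_iff]
  have hex := (HH S).homologySequence_exact₁ _ (sesTriangle_distinguished T hT) ((k : ℕ) : ℤ)
    ((k + 1 : ℕ) : ℤ) (by push_cast; ring)
  have z1 : IsZero ((HH S).obj ((sP T.X₃)⟦((k : ℕ) : ℤ)⟧)) := (isZero_HH_sP_iff S _ _).2 h₃
  have z2 : IsZero ((HH S).obj ((sP T.X₂)⟦((k + 1 : ℕ) : ℤ)⟧)) := (isZero_HH_sP_iff S _ _).2 h₂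
  exact hex.isZero_of_both_zeros (z1.eq_of_src _ _) (z2.eq_of_tgt _ _)

end


section
variable {A : Type u} [Category.{v} A] [Abelian A] [EnoughInjectives A]
  {B : Type u'} [Category.{v'} B] [Abelian B] (G : A ⥤ B) [G.Additive] [PreservesFiniteLimits G]

/-- exactness of `G(X) → G(Y) → G(W)` when `G` preserves the epimorphism onto the image of `d`. -/
lemma exact_of_epi {X Y W Z : A} (d : X ⟶ Y) (d' : Y ⟶ W) (hdd : d ≫ d' = 0)
    (hex : (ShortComplex.mk d d' hdd).Exact) (i : Z ⟶ X) (hi : i ≫ d = 0) [Mono i]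
    (hexi : (ShortComplex.mk i d hi).Exact) (hepi : Epi (G.map (cokernel.π i))) :
    (ShortComplex.mk (G.map d) (G.map d') (by rw [← G.map_comp, hdd, G.map_zero])).Exact := by
  let j : cokernel i ⟶ Y := cokernel.desc i d hi
  have hj : Mono j := (ShortComplex.exact_iff_mono_cokernel_desc _).1 hexi
  have hπj : cokernel.π i ≫ j = d := cokernel.π_desc _ _ _
  have hjd' : j ≫ d' = 0 := by
    rw [← cancel_epi (cokernel.π i), ← Category.assoc, hπj, hdd, comp_zero]
  let φ : ShortComplex.mk d d' hdd ⟶ ShortComplex.mk j d' hjd' :=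
    { τ₁ := cokernel.π i
      τ₂ := 𝟙 _
      τ₃ := 𝟙 _
      comm₁₂ := by dsimp; rw [hπj, Category.comp_id]
      comm₂₃ := by dsimp; rw [Category.comp_id, Category.id_comp] }
  have : Epi φ.τ₁ := by dsimp [φ]; infer_instance
  have : IsIso φ.τ₂ := by dsimp [φ]; infer_instance
  have : Mono φ.τ₃ := by dsimp [φ]; infer_instance
  have hex' : (ShortComplex.mk j d' hjd').Exact :=
    (ShortComplex.exact_iff_of_epi_of_isIso_of_mono φ).1 hex
  have h31 := (Functor.preservesFiniteLimits_tfae G).out 3 1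
  have hG := h31.mp ‹PreservesFiniteLimits G› (ShortComplex.mk j d' hjd') ⟨hex', hj⟩
  let ψ : ShortComplex.mk (G.map d) (G.map d') (by rw [← G.map_comp, hdd, G.map_zero]) ⟶
      (ShortComplex.mk j d' hjd').map G :=
    { τ₁ := G.map (cokernel.π i)
      τ₂ := 𝟙 _
      τ₃ := 𝟙 _
      comm₁₂ := by
        show G.map (cokernel.π i) ≫ G.map j = G.map d ≫ 𝟙 _
        rw [← G.map_comp, hπj, Category.comp_id]
      comm₂₃ := by
        show 𝟙 _ ≫ G.map d' = G.map d' ≫ 𝟙 _
        rw [Category.comp_id, Category.id_comp] }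
  have : Epi ψ.τ₁ := hepi
  have : IsIso ψ.τ₂ := IsIso.id _
  have : Mono ψ.τ₃ := (inferInstance : Mono (𝟙 (G.obj W)))
  exact (ShortComplex.exact_iff_of_epi_of_isIso_of_mono ψ).2 hG.1

/-- `R¹G(X) = 0` if `G` preserves the epimorphism `I⁰ → I⁰/X`. -/
lemma isZero_R1 (X : A) (I : InjectiveResolution X) (hepi : Epi (G.map (cokernel.π (I.ι.f 0)))) :
    IsZero ((G.rightDerived 1).obj X) := by
  have hm : Mono (I.ι.f 0) := mono_of_isLimit_fork I.isLimitKernelFork
  have hex := exact_of_epi G (I.cocomplex.d 0 1) (I.cocomplex.d 1 2) (I.complex_d_comp 0)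
    (I.exact_succ 0) (I.ι.f 0) I.ι_f_zero_comp_complex_d I.exact₀ hepi
  have hE : ((G.mapHomologicalComplex _).obj I.cocomplex).ExactAt (0 + 1) := by
    rw [HomologicalComplex.exactAt_iff' _ 0 (0 + 1) (0 + 2) (by simp)
      (by simp only [CochainComplex.next]; rfl)]
    exact hex
  exact IsZero.of_iso hE.isZero_homology (I.isoRightDerivedObj G (0 + 1))

/-- case (3), degree one. -/
lemma isZero_R1_X₁ (T : ShortComplex A) (hT : T.ShortExact)
    (h₂ : IsZero ((G.rightDerived 1).obj T.X₂)) (hg : Epi (G.map T.g)) :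
    IsZero ((G.rightDerived 1).obj T.X₁) := by
  have := hT.mono_f
  have := hT.epi_g
  let R := InjectiveResolution.of T.X₁
  let ε : T.X₁ ⟶ R.cocomplex.X 0 := R.ι.f 0
  have hε : Mono ε := mono_of_isLimit_fork R.isLimitKernelFork
  let Z := cokernel ε
  let π : R.cocomplex.X 0 ⟶ Z := cokernel.π ε
  have hεπ : ε ≫ π = 0 := cokernel.condition ε
  have hexε : (ShortComplex.mk ε π hεπ).Exact := ShortComplex.exact_cokernel ε
  refine isZero_R1 G T.X₁ R ?_
  change Epi (G.map π)
  let h : T.X₂ ⟶ R.cocomplex.X 0 := Injective.factorThru ε T.f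
  have hh : T.f ≫ h = ε := Injective.comp_factorThru _ _
  let b : T.X₃ ⟶ Z := hT.exact.desc (h ≫ π) (by rw [← Category.assoc, hh, hεπ])
  have hb : T.g ≫ b = h ≫ π := hT.exact.g_desc _ _
  let m : T.X₂ ⟶ R.cocomplex.X 0 ⊞ T.X₃ := biprod.lift h T.g
  let q : R.cocomplex.X 0 ⊞ T.X₃ ⟶ Z := biprod.desc π (-b)
  have hmq : m ≫ q = 0 := by
    dsimp only [m, q]
    rw [biprod.lift_desc, Preadditive.comp_neg, hb, add_neg_cancel]
  have hm : Mono m := by
    refine Preadditive.mono_of_cancel_zero _ (fun {W} w hw => ?_)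
    have hw1 : w ≫ h = 0 := by
      have := congrArg (fun t => t ≫ biprod.fst) hw
      simpa [m] using this
    have hw2 : w ≫ T.g = 0 := by
      have := congrArg (fun t => t ≫ biprod.snd) hw
      simpa [m] using this
    have hw3 : hT.exact.lift w hw2 ≫ T.f = w := hT.exact.lift_f _ _
    have hw4 : hT.exact.lift w hw2 ≫ ε = 0 := by
      rw [← hh, ← Category.assoc, hw3, hw1]
    have hw5 : hT.exact.lift w hw2 = 0 := by
      rw [← cancel_mono ε, hw4, zero_comp]
    rw [← hw3, hw5, zero_comp]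
  have hq : Epi q := by
    have : biprod.inl ≫ q = π := biprod.inl_desc _ _
    exact epi_of_epi_fac this
  have hex : (ShortComplex.mk m q hmq).Exact := by
    rw [ShortComplex.exact_iff_exact_up_to_refinements]
    intro W y hy
    dsimp at y hy
    obtain ⟨W₁, π₁, hπ₁, x₂, hx₂⟩ := surjective_up_to_refinements_of_epi T.g (y ≫ biprod.snd)
    have hy' : (y ≫ biprod.fst) ≫ π = (y ≫ biprod.snd) ≫ b := by
      have e : q = biprod.fst ≫ π - biprod.snd ≫ b := by
        dsimp only [q]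
        ext
        · simp
        · simp
      have hy2 : y ≫ (biprod.fst ≫ π - biprod.snd ≫ b) = 0 := by rw [← e]; exact hy
      rw [Preadditive.comp_sub, sub_eq_zero] at hy2
      simpa using hy2
    let u : W₁ ⟶ R.cocomplex.X 0 := π₁ ≫ y ≫ biprod.fst - x₂ ≫ h
    have hu : u ≫ π = 0 := by
      have e1 : u ≫ π = π₁ ≫ ((y ≫ biprod.fst) ≫ π) - x₂ ≫ (h ≫ π) := by
        dsimp only [u]; simp only [Preadditive.sub_comp, Category.assoc]
      have e2 : x₂ ≫ (T.g ≫ b) = π₁ ≫ ((y ≫ biprod.snd) ≫ b) := by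
        rw [← Category.assoc, ← hx₂]; simp only [Category.assoc]
      rw [e1, hy', ← hb, e2, sub_self]
    obtain ⟨W₂, π₂, hπ₂, x₁, hx₁⟩ := hexε.exact_up_to_refinements u hu
    refine ⟨W₂, π₂ ≫ π₁, epi_comp _ _, π₂ ≫ x₂ + x₁ ≫ T.f, ?_⟩
    dsimp
    apply biprod.hom_ext
    · have hx₁' : π₂ ≫ u = x₁ ≫ ε := hx₁
      have e3 : ((π₂ ≫ x₂ + x₁ ≫ T.f) ≫ biprod.lift h T.g) ≫ biprod.fst =
          π₂ ≫ x₂ ≫ h + x₁ ≫ ε := by
        rw [Category.assoc, biprod.lift_fst, Preadditive.add_comp, Category.assoc, Category.assoc, hh]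
      rw [e3, ← hx₁']
      dsimp only [u]
      rw [Preadditive.comp_sub]
      simp
    · have e4 : ((π₂ ≫ x₂ + x₁ ≫ T.f) ≫ biprod.lift h T.g) ≫ biprod.snd = π₂ ≫ x₂ ≫ T.g := by
        rw [Category.assoc, biprod.lift_snd, Preadditive.add_comp, Category.assoc, Category.assoc,
          T.zero, comp_zero, add_zero]
      rw [e4, ← hx₂]
      simp only [Category.assoc]
  have hSE : (ShortComplex.mk m q hmq).ShortExact := ShortComplex.ShortExact.mk hex
  have hGq : Epi (G.map q) :=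
    Groth.Agent.GSS.epi_map_g_of_isZero_rightDerived_one G (ShortComplex.mk m q hmq) hSE h₂
  -- conclude
  have e : q = biprod.fst ≫ π - biprod.snd ≫ b := by
    dsimp only [q]
    ext
    · simp
    · simp
  constructor
  intro V t t' htt
  have hsub : G.map π ≫ (t - t') = 0 := by rw [Preadditive.comp_sub, htt, sub_self]
  have hb0 : G.map b ≫ (t - t') = 0 := by
    rw [← cancel_epi (G.map T.g), ← Category.assoc, ← G.map_comp, hb, G.map_comp, Category.assoc,
      hsub, comp_zero, comp_zero]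
  have hq0 : G.map q ≫ (t - t') = 0 := by
    rw [e, G.map_sub, G.map_comp, G.map_comp, Preadditive.sub_comp, Category.assoc, Category.assoc,
      hsub, hb0, comp_zero, comp_zero, sub_zero]
  have : t - t' = 0 := by rw [← cancel_epi (G.map q), hq0, comp_zero]
  exact sub_eq_zero.1 this

end


theorem main {A : Type u} [Category.{v} A] [Abelian A] [EnoughInjectives A]
    {B : Type u'} [Category.{v'} B] [Abelian B] (F : A ⥤ B) [F.Additive] [PreservesFiniteLimits F]
    (S : ShortComplex A) (hS : S.ShortExact) :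
    ((∀ i : ℕ, 0 < i → IsZero ((F.rightDerived i).obj S.X₁)) → (∀ i : ℕ, 0 < i → IsZero ((F.rightDerived i).obj S.X₃)) →
      (∀ i : ℕ, 0 < i → IsZero ((F.rightDerived i).obj S.X₂)) ∧ (S.map F).ShortExact) ∧
    ((∀ i : ℕ, 0 < i → IsZero ((F.rightDerived i).obj S.X₁)) → (∀ i : ℕ, 0 < i → IsZero ((F.rightDerived i).obj S.X₂)) →
      (∀ i : ℕ, 0 < i → IsZero ((F.rightDerived i).obj S.X₃)) ∧ (S.map F).ShortExact) ∧
    ((∀ i : ℕ, 0 < i → IsZero ((F.rightDerived i).obj S.X₂)) → (∀ i : ℕ, 0 < i → IsZero ((F.rightDerived i).obj S.X₃)) →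
      Epi (F.map S.g) → (∀ i : ℕ, 0 < i → IsZero ((F.rightDerived i).obj S.X₁)) ∧ (S.map F).ShortExact) := by
  let _ : HasDerivedCategory.{max u v} A := HasDerivedCategory.standard _
  have hSE : Epi (F.map S.g) → (S.map F).ShortExact := by
    intro hepi
    have := hS.mono_f
    have h1 : (S.map F).Exact := hS.exact.map_of_mono_of_preservesKernel F hS.mono_f inferInstance
    have h2 : Mono (S.map F).f := by
      show Mono (F.map S.f)
      infer_instance
    have h3 : Epi (S.map F).g := hepi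
    exact ShortComplex.ShortExact.mk h1
  refine ⟨?_, ?_, ?_⟩
  · intro h₁ h₃
    exact ⟨fun i hi => isZero_X₂ F S hS i (h₁ i hi) (h₃ i hi),
      hSE (Groth.Agent.GSS.epi_map_g_of_isZero_rightDerived_one F S hS (h₁ 1 one_pos))⟩
  · intro h₁ h₂
    refine ⟨fun i hi => ?_,
      hSE (Groth.Agent.GSS.epi_map_g_of_isZero_rightDerived_one F S hS (h₁ 1 one_pos))⟩
    obtain ⟨k, rfl⟩ : ∃ k, i = k + 1 := ⟨i - 1, by omega⟩
    exact Groth.Agent.GSSU.isAcyc_X₃ F S hS (fun k => h₁ (k + 1) (by omega))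
      (fun k => h₂ (k + 1) (by omega)) k
  · intro h₂ h₃ hepi
    refine ⟨fun i hi => ?_, hSE hepi⟩
    obtain ⟨k, rfl⟩ : ∃ k, i = k + 1 := ⟨i - 1, by omega⟩
    rcases k with _ | k
    · exact isZero_R1_X₁ F S hS (h₂ 1 one_pos) hepi
    · exact isZero_X₁ F S hS (k + 1) (h₃ (k + 1) (by omega)) (h₂ (k + 1 + 1) (by omega))

/-- In the case where A has enough injectives (an object X is right acyclic for the left exact functor F
when RⁱF(X) = 0 for all i > 0): suppose A and B are abelian categories, A has enough injectives, F :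
A ⥤ B is left exact, and 0 → X₁ → X₂ → X₃ → 0 is a short exact sequence of A. (1) If X₁, X₃ are
right acyclic so is X₂; (2) if X₁, X₂ are right acyclic so is X₃; (3) if X₂, X₃ are right acyclic
and F(X₂) ⟶ F(X₃) is surjective then X₁ is right acyclic. In each of the three cases 0 → F(X₁) →
F(X₂) → F(X₃) → 0 is short exact. -/
theorem result {A : Type u} [Category.{v} A] [Abelian A] [EnoughInjectives A]
    {B : Type u'} [Category.{v'} B] [Abelian B] (F : A ⥤ B) [F.Additive] [PreservesFiniteLimits F]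
    (S : ShortComplex A) (hS : S.ShortExact) :
    ((∀ i : ℕ, 0 < i → IsZero ((F.rightDerived i).obj S.X₁)) → (∀ i : ℕ, 0 < i → IsZero ((F.rightDerived i).obj S.X₃)) →
      (∀ i : ℕ, 0 < i → IsZero ((F.rightDerived i).obj S.X₂)) ∧ (S.map F).ShortExact) ∧
    ((∀ i : ℕ, 0 < i → IsZero ((F.rightDerived i).obj S.X₁)) → (∀ i : ℕ, 0 < i → IsZero ((F.rightDerived i).obj S.X₂)) →
      (∀ i : ℕ, 0 < i → IsZero ((F.rightDerived i).obj S.X₃)) ∧ (S.map F).ShortExact) ∧
    ((∀ i : ℕ, 0 < i → IsZero ((F.rightDerived i).obj S.X₂)) → (∀ i : ℕ, 0 < i → IsZero ((F.rightDerived i).obj S.X₃)) →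
      Epi (F.map S.g) → (∀ i : ℕ, 0 < i → IsZero ((F.rightDerived i).obj S.X₁)) ∧ (S.map F).ShortExact) := by
  exact main F S hS

end Groth.Agent.S6619
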