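import Groth.Statements.S6620
import Mathlib

set_option autoImplicit false
universe w w' v v' u u'
open CategoryTheory CategoryTheory.Limits
open CohDer

namespace Groth.Agent.S6620

/-- Part (1): in the case where A has enough injectives (so that RF is defined on all of D⁺(A)): let F :
A ⥤ B be an additive functor between abelian categories, A with enough injectives, and K ∈ D⁺(A)
with Hⁱ(K) = 0 for i < a. Then Hⁱ(RF(K)) = 0 for i < a. -/
theorem result {A : Type u} [Category.{v} A] [Abelian A] [HasDerivedCategory.{w} A] [EnoughInjectives A]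
    {B : Type u'} [Category.{v'} B] [Abelian B] [HasDerivedCategory.{w'} B]
    (F : A ⥤ B) [F.Additive] (K : DerivedCategory.Plus A) (a : ℤ) [K.IsGE a] :
    (F.rightDerivedFunctorPlus.obj K).IsGE a := by
  obtain ⟨L, hL, ⟨e⟩⟩ := DerivedCategory.Plus.exists_injective_nonempty_iso K a
  let M := (InjectiveObject.ι A).mapCochainComplexPlus.obj L
  let Kh := (HomotopyCategory.Plus.quotient A).obj M
  have hiso : IsIso (F.rightDerivedFunctorPlusUnit.app Kh) := inferInstance
  let e' : DerivedCategory.Plus.Qh.obj (F.mapHomotopyCategoryPlus.obj Kh) ≅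
      F.rightDerivedFunctorPlus.obj K :=
    asIso (F.rightDerivedFunctorPlusUnit.app Kh) ≪≫ F.rightDerivedFunctorPlus.mapIso e
  have h1 : (DerivedCategory.Plus.Qh.obj (F.mapHomotopyCategoryPlus.obj Kh)).IsGE a := by
    rw [← DerivedCategory.Plus.isGE_ι_obj_iff]
    have hM : M.obj.IsStrictlyGE a :=
      (CochainComplex.isStrictlyGE_mapHomologicalComplex_obj_iff _ (InjectiveObject.ι A) a).2 hL
    have hFM : CochainComplex.IsStrictlyGE ((F.mapHomologicalComplex (ComplexShape.up ℤ)).obj M.obj) a :=
      inferInstance
    have e'' : DerivedCategory.Plus.ι.obj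
        (DerivedCategory.Plus.Qh.obj (F.mapHomotopyCategoryPlus.obj Kh)) ≅
        DerivedCategory.Q.obj ((F.mapHomologicalComplex (ComplexShape.up ℤ)).obj M.obj) :=
      (DerivedCategory.quotientCompQhIso B).app _
    exact DerivedCategory.TStructure.t.isGE_of_iso e''.symm a
  exact DerivedCategory.Plus.TStructure.t.isGE_of_iso e' a

end Groth.Agent.S6620
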