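import Groth.Statements.S6639
import Mathlib
import Groth.Agent.H8Sig3

set_option autoImplicit false
universe u
open scoped TensorProduct
open EtBase

namespace Groth.Agent.S6639

/-- Let k ⟶ k' be a homomorphism of algebraically closed fields of characteristic p > 0 (an extension of
algebraically closed fields), V a finite-dimensional k-vector space, F : V ⟶ V additive with F(c •
v) = c^p • F(v), and F' the additive endomorphism of V' = k' ⊗_k V satisfying F'(c ⊗ v) = c^p ⊗
F(v). Then v ↦ 1 ⊗ v maps the fixed vectors of F bijectively onto the fixed vectors of F'. -/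
theorem result {k k' V : Type u} [Field k] [IsAlgClosed k] [Field k']
    [IsAlgClosed k'] [Algebra k k'] (p : ℕ) [Fact p.Prime] [CharP k p]
    [AddCommGroup V] [Module k V] [FiniteDimensional k V] (F : V →+ V)
    (hF : ∀ (c : k) (v : V), F (c • v) = c ^ p • F v)
    (F' : k' ⊗[k] V →+ k' ⊗[k] V) (hF' : ∀ (c : k') (v : V), F' (c ⊗ₜ[k] v) = (c ^ p) ⊗ₜ[k] F v) :
    Set.BijOn (fun v : V => (1 : k') ⊗ₜ[k] v) {v : V | F v = v} {w : k' ⊗[k] V | F' w = w} := by
  classical
  set σ : k →+* k := frobenius k p with hσdef
  have hσ : ∀ c, σ c = c ^ (p ^ 1) := fun c => by rw [pow_one, hσdef, frobenius_def]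
  have hσ' : ∀ c, σ c = c ^ p := fun c => by rw [hσdef, frobenius_def]
  let T : V →ₛₗ[σ] V :=
    { toFun := F
      map_add' := F.map_add
      map_smul' := fun c v => by
        show F (c • v) = σ c • F v
        rw [hσ', hF] }
  have hT : ∀ v, T v = F v := fun v => rfl
  have h2 := H8Sig.h2_pow p 1 Nat.one_pos σ hσ
  have h3 := H8Sig.h3_pow p 1 Nat.one_pos σ hσ
  obtain ⟨M, hM⟩ := H8Sig.exists_stable_rangeSpan T
  obtain ⟨b, hb⟩ := H8Sig.exists_basis_fixed_stable T h2 h3 (H8Sig.rangeSpan T M) M rfl
    (hM (M + 1) (Nat.le_succ M))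
  have hinj : Function.Injective (fun v : V => (1 : k') ⊗ₜ[k] v) :=
    Module.Flat.tensorProduct_mk_injective k V k'
  refine ⟨?_, hinj.injOn, ?_⟩
  · intro v hv
    show F' (1 ⊗ₜ v) = 1 ⊗ₜ v
    have hv' : F v = v := hv
    rw [hF', one_pow, hv']
  · intro w hw
    have hw' : F' w = w := hw
    have hFn : ∀ (n : ℕ) (c : k') (v : V),
        F'^[n] (c ⊗ₜ[k] v) = (c ^ (p ^ n)) ⊗ₜ[k] F^[n] v := by
      intro n
      induction n with
      | zero => intro c v; simp
      | succ n ih =>
        intro c v
        rw [Function.iterate_succ_apply', ih, hF', Function.iterate_succ_apply', ← pow_mul,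
          ← pow_succ]
    have hspan : ∀ w : k' ⊗[k] V, ∃ c : Fin _ → k', F'^[M] w = ∑ i, c i ⊗ₜ[k] (b i : V) := by
      intro w
      induction w using TensorProduct.induction_on with
      | zero => exact ⟨0, by simp [iterate_map_zero]⟩
      | tmul c v =>
        have hmem : F^[M] v ∈ H8Sig.rangeSpan T M := Submodule.subset_span ⟨v, rfl⟩
        refine ⟨fun i => c ^ (p ^ M) * algebraMap k k' (b.repr ⟨_, hmem⟩ i), ?_⟩
        rw [hFn]
        have hsum := congrArg Subtype.val (b.sum_repr ⟨_, hmem⟩)
        rw [Submodule.coe_sum] at hsum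
        simp only [Submodule.coe_smul] at hsum
        conv_lhs => rw [← hsum]
        rw [TensorProduct.tmul_sum]
        apply Finset.sum_congr rfl
        intro i _
        rw [TensorProduct.tmul_smul, TensorProduct.smul_tmul', Algebra.smul_def, mul_comm]
      | add x y hx hy =>
        obtain ⟨cx, hx⟩ := hx
        obtain ⟨cy, hy⟩ := hy
        refine ⟨cx + cy, ?_⟩
        rw [iterate_map_add, hx, hy, ← Finset.sum_add_distrib]
        simp [TensorProduct.add_tmul]
    obtain ⟨c, hc⟩ := hspan w
    have hwM : F'^[M] w = w := Function.iterate_fixed hw' M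
    rw [hwM] at hc
    have h4 : F' w = ∑ i, (c i ^ p) ⊗ₜ[k] (b i : V) := by
      conv_lhs => rw [hc]
      rw [map_sum]
      apply Finset.sum_congr rfl
      intro i _
      rw [hF']
      congr 1
      exact hb i
    have hli : LinearIndependent k' (fun i => (1 : k') ⊗ₜ[k] (b i : V)) := by
      apply Module.Flat.linearIndependent_one_tmul
      have := b.linearIndependent
      exact this.map' (Submodule.subtype _) (Submodule.ker_subtype _)
    have h5 : ∑ i, (c i ^ p - c i) • ((1 : k') ⊗ₜ[k] (b i : V)) = 0 := by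
      have : ∀ i, (c i ^ p - c i) • ((1 : k') ⊗ₜ[k] (b i : V))
          = (c i ^ p) ⊗ₜ[k] (b i : V) - c i ⊗ₜ[k] (b i : V) := by
        intro i
        rw [TensorProduct.smul_tmul', smul_eq_mul, mul_one, TensorProduct.sub_tmul]
      simp only [this]
      rw [Finset.sum_sub_distrib, ← h4, hw']
      exact sub_eq_zero.mpr hc
    have h6 := Fintype.linearIndependent_iff.mp hli _ h5
    have h7 : ∀ i, ∃ a : k, algebraMap k k' a = c i := by
      intro i
      have hint : IsIntegral k (c i) := by
        refine ⟨Polynomial.X ^ p - Polynomial.X, ?_, ?_⟩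
        · apply Polynomial.Monic.sub_of_left (Polynomial.monic_X_pow p)
          rw [Polynomial.degree_X_pow, Polynomial.degree_X]
          exact_mod_cast (Fact.out : p.Prime).one_lt
        · simp [h6 i]
      exact hint.mem_range_algebraMap_of_minpoly_splits (K := k) (IsAlgClosed.splits _)
    choose a ha using h7
    refine ⟨∑ i, a i • (b i : V), ?_, ?_⟩
    · show F (∑ i, a i • (b i : V)) = ∑ i, a i • (b i : V)
      rw [map_sum]
      apply Finset.sum_congr rfl
      intro i _
      rw [hF, ← hT, hb i]
      congr 1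
      apply (algebraMap k k').injective
      rw [map_pow, ha]
      exact sub_eq_zero.mp (h6 i)
    · show (1 : k') ⊗ₜ[k] (∑ i, a i • (b i : V)) = w
      rw [hc, TensorProduct.tmul_sum]
      apply Finset.sum_congr rfl
      intro i _
      rw [TensorProduct.tmul_smul, TensorProduct.smul_tmul', ← ha i, Algebra.smul_def, mul_one]

end Groth.Agent.S6639
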