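import Groth.Statements.S6708
import Mathlib

set_option autoImplicit false
universe v u
open CategoryTheory
open DEquiv

namespace Groth.Agent.S6708

open CategoryTheory.Limits CategoryTheory.Pretriangulated in
/-- Let D be a pretriangulated category, D' ⊆ D a full triangulated subcategory (given as a property of
objects that is triangulated in Mathlib's sense) and X an object of D. Then the category of arrows E
⟶ X with E in D' is filtered. -/
theorem result
    {D : Type u} [Category.{v} D] [Preadditive D] [HasZeroObject D] [HasShift D ℤ]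
    [∀ n : ℤ, (shiftFunctor D n).Additive] [Pretriangulated D]
    (P : ObjectProperty D) [P.IsTriangulated] (X : D) :
    IsFiltered (CostructuredArrow P.ι X) := by
  refine { cocone_objs := ?_, cocone_maps := ?_, nonempty := ?_ }
  · intro A B
    have hT := binaryBiproductTriangle_distinguished A.left.obj B.left.obj
    obtain ⟨Y, hY, ⟨e'⟩⟩ := P.ext_of_isTriangulatedClosed₂' _ hT A.left.property B.left.property
    have e : A.left.obj ⊞ B.left.obj ≅ Y := e'
    refine ⟨CostructuredArrow.mk (Y := (⟨Y, hY⟩ : P.FullSubcategory))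
      (e.inv ≫ biprod.desc A.hom B.hom),
      CostructuredArrow.homMk (ObjectProperty.homMk (biprod.inl ≫ e.hom)) ?_,
      CostructuredArrow.homMk (ObjectProperty.homMk (biprod.inr ≫ e.hom)) ?_, trivial⟩
    · show (biprod.inl ≫ e.hom) ≫ e.inv ≫ biprod.desc A.hom B.hom = A.hom
      simp
    · show (biprod.inr ≫ e.hom) ≫ e.inv ≫ biprod.desc A.hom B.hom = B.hom
      simp
  · intro A B f g
    have hf := CostructuredArrow.w f
    have hg := CostructuredArrow.w g
    dsimp at hf hg
    obtain ⟨Z, hZ, b, c, hT⟩ := P.distinguished_cocone_triangle (f.left.hom - g.left.hom)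
      A.left.property B.left.property
    have h0 : (f.left.hom - g.left.hom) ≫ B.hom = 0 := by
      rw [Preadditive.sub_comp, hf, hg, sub_self]
    obtain ⟨h', hh'⟩ := Triangle.yoneda_exact₂ _ hT B.hom h0
    obtain ⟨h, hh⟩ : ∃ h : Z ⟶ X, B.hom = b ≫ h := ⟨h', hh'⟩
    refine ⟨CostructuredArrow.mk (Y := (⟨Z, hZ⟩ : P.FullSubcategory)) h,
      CostructuredArrow.homMk (ObjectProperty.homMk b) hh.symm, ?_⟩
    apply CostructuredArrow.hom_ext
    apply ObjectProperty.hom_ext
    have hz' := comp_distTriang_mor_zero₁₂ _ hT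
    have hz : (f.left.hom - g.left.hom) ≫ b = 0 := hz'
    rw [Preadditive.sub_comp, sub_eq_zero] at hz
    simpa using hz
  · obtain ⟨Z, hZ, hPZ⟩ := P.exists_prop_of_containsZero
    exact ⟨CostructuredArrow.mk (Y := (⟨Z, hPZ⟩ : P.FullSubcategory)) (0 : Z ⟶ X)⟩

end Groth.Agent.S6708
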