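import Groth.Statements.S6774
import Mathlib

set_option autoImplicit false
open CategoryTheory
universe v u v' u'
open DeltaF

namespace Groth.Agent.S6774

/-- Two universal cohomological delta-functors (indexed by `ℕ`) with isomorphic degree-`0` functors are
isomorphic as delta-functors, by a unique isomorphism extending the given one in degree `0`. -/
theorem result {A : Type u} [Category.{v} A] [Abelian A] {B : Type u'} [Category.{v'} B] [Abelian B] (T T' : DeltaF.CohDeltaFunctor A B ℕ) (hT : T.IsUniversal) (hT' : T'.IsUniversal) (e : T.F 0 ≅ T'.F 0) : ∃! φ : T ≅ T', φ.hom.app 0 = e.hom := by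
  obtain ⟨τ, hτ, hτu⟩ := hT T' e.hom
  obtain ⟨σ, hσ, -⟩ := hT' T e.inv
  obtain ⟨ι₁, -, hι₁⟩ := hT T (𝟙 _)
  obtain ⟨ι₂, -, hι₂⟩ := hT' T' (𝟙 _)
  have h1 : τ ≫ σ = 𝟙 T := by
    rw [hι₁ (τ ≫ σ) (by show (τ ≫ σ).app 0 = _; rw [DeltaF.CohDeltaFunctor.comp_app, hτ, hσ, e.hom_inv_id]),
      hι₁ (𝟙 T) (DeltaF.CohDeltaFunctor.id_app T 0)]
  have h2 : σ ≫ τ = 𝟙 T' := by
    rw [hι₂ (σ ≫ τ) (by show (σ ≫ τ).app 0 = _; rw [DeltaF.CohDeltaFunctor.comp_app, hτ, hσ, e.inv_hom_id]),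
      hι₂ (𝟙 T') (DeltaF.CohDeltaFunctor.id_app T' 0)]
  refine ⟨⟨τ, σ, h1, h2⟩, hτ, ?_⟩
  intro φ hφ
  apply Iso.ext
  exact hτu φ.hom hφ

end Groth.Agent.S6774
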