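import Groth.Statements.S6775
import Mathlib.CategoryTheory.Abelian.CommSq

set_option autoImplicit false
open CategoryTheory CategoryTheory.Limits
universe v u
open CategoryTheory CategoryTheory.Abelian

namespace Groth.Agent.S6775

/-- In an abelian category a cartesian square whose bottom arrow `k` is an epimorphism is also
cocartesian, and the arrow `f` opposite to `k` is an epimorphism. -/
theorem result {A : Type u} [Category.{v} A] [Abelian A] {w x y z : A} (f : w ⟶ y) (g : w ⟶ x) (h : y ⟶ z) (k : x ⟶ z) (sq : IsPullback f g h k) [Epi k] : IsPushout f g h k ∧ Epi f := by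
  have hex := sq.exact_shortComplex'
  have hepi : Epi (biprod.desc h (-k)) := by
    have h1 : Epi (biprod.inr ≫ biprod.desc h (-k)) := by
      rw [biprod.inr_desc]; infer_instance
    exact epi_of_epi biprod.inr _
  have hepi' : Epi (sq.shortComplex'.g) := hepi
  have hw : biprod.lift f g ≫ biprod.desc h (-k) = 0 := sq.shortComplex'.zero
  have hcok : IsColimit (CokernelCofork.ofπ (biprod.desc h (-k)) hw) := hex.gIsCokernel
  have hz : ∀ s : PushoutCocone f g, biprod.lift f g ≫ biprod.desc s.inl (-s.inr) = 0 := by
    intro s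
    rw [biprod.lift_desc, Preadditive.comp_neg, s.condition, add_neg_cancel]
  have hfac : ∀ s : PushoutCocone f g,
      biprod.desc h (-k) ≫ hcok.desc (CokernelCofork.ofπ (biprod.desc s.inl (-s.inr)) (hz s)) =
        biprod.desc s.inl (-s.inr) := fun s =>
    hcok.fac (CokernelCofork.ofπ (biprod.desc s.inl (-s.inr)) (hz s)) WalkingParallelPair.one
  refine ⟨⟨sq.toCommSq, ⟨PushoutCocone.IsColimit.mk _ (fun s => hcok.desc (CokernelCofork.ofπ (biprod.desc s.inl (-s.inr)) (hz s))) ?_ ?_ ?_⟩⟩, ?_⟩
  · intro s
    have := biprod.inl ≫= hfac s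
    rwa [biprod.inl_desc_assoc, biprod.inl_desc] at this
  · intro s
    have := biprod.inr ≫= hfac s
    rw [biprod.inr_desc_assoc, biprod.inr_desc, Preadditive.neg_comp, neg_inj] at this
    exact this
  · intro s m h1 h2
    rw [← cancel_epi (biprod.desc h (-k)), hfac s]
    ext
    · simp [h1]
    · simp [h2]
  · exact (MorphismProperty.epimorphisms A).of_isPullback sq.flip (inferInstanceAs (Epi k))

end Groth.Agent.S6775
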