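import Groth.Statements.S6776
import Groth.Agent.S6775
import Mathlib.CategoryTheory.Abelian.Opposite

set_option autoImplicit false
open CategoryTheory CategoryTheory.Limits
universe v u
open CategoryTheory CategoryTheory.Abelian

namespace Groth.Agent.S6776

/-- In an abelian category a cocartesian square whose left arrow `g` is a monomorphism is also
cartesian, and the arrow `h` opposite to `g` is a monomorphism. -/
theorem result {A : Type u} [Category.{v} A] [Abelian A] {w x y z : A} (f : w ⟶ y) (g : w ⟶ x) (h : y ⟶ z) (k : x ⟶ z) (sq : IsPushout f g h k) [Mono g] : IsPullback f g h k ∧ Mono h := by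
  have := Groth.Agent.S6775.result h.op k.op f.op g.op sq.flip.op
  obtain ⟨h1, h2⟩ := this
  refine ⟨h1.unop.flip, ?_⟩
  exact (inferInstance : Mono h.op.unop)

end Groth.Agent.S6776
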