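import Groth.Statements.S6778
import Mathlib

set_option autoImplicit false
open CategoryTheory CategoryTheory.Limits
universe v u
open CategoryTheory CategoryTheory.Abelian

namespace Groth.Agent.S6778

/-- For a commutative diagram with rows `x ⟶ y ⟶ z` and `u ⟶ v ⟶ w` in an abelian category, if the
second row is exact and the second map `g` of the first row is an epimorphism, then the induced
sequence of cokernels of the vertical maps is exact. -/
theorem result {A : Type u} [Category.{v} A] [Abelian A] {x y z u' v' w : A} (f : x ⟶ y) (g : y ⟶ z) (k : u' ⟶ v') (l : v' ⟶ w) (α : x ⟶ u') (β : y ⟶ v') (γ : z ⟶ w) (h₁ : α ≫ k = f ≫ β) (h₂ : β ≫ l = g ≫ γ) (hkl : k ≫ l = 0) (hex : (ShortComplex.mk k l hkl).Exact) [Epi g] : ∃ hc : cokernel.map α β f k h₁ ≫ cokernel.map β γ g l h₂ = 0, (ShortComplex.mk _ _ hc).Exact := by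
  have hc : cokernel.map α β f k h₁ ≫ cokernel.map β γ g l h₂ = 0 := by
    rw [← cancel_epi (cokernel.π α)]
    simp only [cokernel.π_desc_assoc, Category.assoc, cokernel.π_desc, comp_zero]
    rw [← Category.assoc, hkl, zero_comp]
  refine ⟨hc, ?_⟩
  rw [ShortComplex.exact_iff_exact_up_to_refinements]
  intro A' x₂ hx₂
  dsimp at x₂ hx₂
  obtain ⟨A₁, π₁, hπ₁, y₁, hy₁⟩ := surjective_up_to_refinements_of_epi (cokernel.π β) x₂
  have e1 : (y₁ ≫ l) ≫ cokernel.π γ = 0 := by
    have h3 : y₁ ≫ cokernel.π β ≫ cokernel.map β γ g l h₂ = 0 := by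
      rw [← Category.assoc, ← hy₁, Category.assoc, hx₂, comp_zero]
    simp only [cokernel.π_desc] at h3
    rw [Category.assoc]
    exact h3
  obtain ⟨A₂, π₂, hπ₂, z₂, hz₂⟩ :=
    (ShortComplex.exact_cokernel γ).exact_up_to_refinements (y₁ ≫ l) e1
  dsimp at z₂ hz₂
  obtain ⟨A₃, π₃, hπ₃, y₃, hy₃⟩ := surjective_up_to_refinements_of_epi g z₂
  have e2 : (π₃ ≫ π₂ ≫ y₁ - y₃ ≫ β) ≫ l = 0 := by
    rw [Preadditive.sub_comp]
    simp only [Category.assoc]
    rw [hz₂, ← Category.assoc π₃, hy₃, h₂, Category.assoc, sub_self]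
  obtain ⟨A₄, π₄, hπ₄, u₄, hu₄⟩ := hex.exact_up_to_refinements _ e2
  dsimp at u₄ hu₄
  refine ⟨A₄, π₄ ≫ π₃ ≫ π₂ ≫ π₁, inferInstance, u₄ ≫ cokernel.π α, ?_⟩
  dsimp
  simp only [Category.assoc, cokernel.π_desc]
  rw [← Category.assoc u₄, ← hu₄, Category.assoc, Preadditive.sub_comp, Category.assoc, Category.assoc,
    Category.assoc, cokernel.condition, comp_zero, sub_zero, hy₁]

end Groth.Agent.S6778
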