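import Groth.Statements.S6787

set_option autoImplicit false
open CategoryTheory CategoryTheory.Limits
universe u
open HomAlg3

namespace Groth.Agent.S6787

open Opposite

abbrev Tow := ℕᵒᵖ ⥤ AddCommGrpCat.{u}

/-- transition maps as functions -/
def T (X : Tow.{u}) {n m : ℕ} (h : n ≤ m) : X.obj (op m) → X.obj (op n) :=
  fun x => (X.map (homOfLE h).op).hom x

lemma T_comp (X : Tow.{u}) {n m l : ℕ} (h₁ : n ≤ m) (h₂ : m ≤ l) (x : X.obj (op l)) :
    T X h₁ (T X h₂ x) = T X (h₁.trans h₂) x := by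
  have : (homOfLE (h₁.trans h₂)).op = (homOfLE h₂).op ≫ (homOfLE h₁).op := rfl
  unfold T
  rw [this, X.map_comp]
  rfl

lemma T_nat {X Y : Tow.{u}} (φ : X ⟶ Y) {n m : ℕ} (h : n ≤ m) (x : X.obj (op m)) :
    (φ.app (op n)).hom (T X h x) = T Y h ((φ.app (op m)).hom x) := by
  have := congrArg (fun ψ => ψ.hom x) (φ.naturality (homOfLE h).op)
  exact this

lemma T_zero (X : Tow.{u}) {n m : ℕ} (h : n ≤ m) : T X h 0 = 0 := map_zero _

/-- elementwise Mittag-Leffler -/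
def MLe (X : Tow.{u}) : Prop :=
  ∀ j : ℕ, ∃ (k : ℕ) (h : j ≤ k), ∀ (l : ℕ) (hl : j ≤ l) (x : X.obj (op k)),
    ∃ y : X.obj (op l), T X hl y = T X h x

lemma ml_iff (X : Tow.{u}) : (X ⋙ forget AddCommGrpCat).IsMittagLeffler ↔ MLe X := by
  constructor
  · intro h j
    obtain ⟨k, f, hf⟩ := h (op j)
    have hk : j ≤ k.unop := leOfHom f.unop
    refine ⟨k.unop, hk, fun l hl x => ?_⟩
    have e : f = (homOfLE hk).op := Subsingleton.elim _ _
    subst e
    obtain ⟨y, hy⟩ := hf (homOfLE hl).op ⟨x, rfl⟩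
    exact ⟨y, hy⟩
  · intro h j
    obtain ⟨k, hk, hkl⟩ := h j.unop
    refine ⟨op k, (homOfLE hk).op, ?_⟩
    intro l g
    rintro _ ⟨x, rfl⟩
    have hl : j.unop ≤ l.unop := leOfHom g.unop
    have e : g = (homOfLE hl).op := Subsingleton.elim _ _
    subst e
    obtain ⟨y, hy⟩ := hkl l.unop hl x
    exact ⟨y, hy⟩


lemma T_add (X : Tow.{u}) {n m : ℕ} (h : n ≤ m) (x y : X.obj (op m)) :
    T X h (x + y) = T X h x + T X h y := map_add _ _ _

lemma T_sub (X : Tow.{u}) {n m : ℕ} (h : n ≤ m) (x y : X.obj (op m)) :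
    T X h (x - y) = T X h x - T X h y := map_sub _ _ _

section
variable {A B C : Tow.{u}} (a : A ⟶ B) (b : B ⟶ C)
  (ha : ∀ i, Function.Injective (a.app i).hom) (hb : ∀ i, Function.Surjective (b.app i).hom)
  (hex : ∀ i, (b.app i).hom.ker = (a.app i).hom.range)

include hb hex in
lemma ml_middle (hA : MLe A) (hC : MLe C) : MLe B := by
  intro j
  obtain ⟨i1, h1, hA1⟩ := hA j
  obtain ⟨i2, h2, hC2⟩ := hC i1
  refine ⟨i2, h1.trans h2, fun l hl x => ?_⟩
  let L := max l i2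
  have hlL : l ≤ L := le_max_left _ _
  have hiL : i2 ≤ L := le_max_right _ _
  obtain ⟨cl, hcl⟩ := hC2 L (h2.trans hiL) ((b.app (op i2)).hom x)
  obtain ⟨bl, rfl⟩ := hb (op L) cl
  have hd : T B h2 x - T B (h2.trans hiL) bl ∈ (b.app (op i1)).hom.ker := by
    rw [AddMonoidHom.mem_ker, map_sub, T_nat b, T_nat b, hcl, sub_self]
  rw [hex] at hd
  obtain ⟨α, hα⟩ := hd
  obtain ⟨αL, hαL⟩ := hA1 L (hl.trans hlL) α
  refine ⟨T B hlL ((a.app (op L)).hom αL + bl), ?_⟩
  rw [T_comp, T_add, ← T_nat a, hαL, T_nat a, hα, T_sub, T_comp, T_comp]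
  abel

end

theorem main {A B C : ℕᵒᵖ ⥤ AddCommGrpCat.{u}} (a : A ⟶ B) (b : B ⟶ C)
    (ha : ∀ i, Function.Injective (a.app i).hom) (hb : ∀ i, Function.Surjective (b.app i).hom)
    (hex : ∀ i, (b.app i).hom.ker = (a.app i).hom.range)
    (hC : ∃ (C₀ : AddCommGrpCat.{u}) (c : (Functor.const ℕᵒᵖ).obj C₀ ⟶ C), DerCA.IsEssConstant C C₀ c) :
    (A ⋙ forget AddCommGrpCat).IsMittagLeffler ↔ (B ⋙ forget AddCommGrpCat).IsMittagLeffler := by
  rw [ml_iff, ml_iff]
  obtain ⟨C₀, c, i, s, hs, hk⟩ := hC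
  -- elementwise reformulations
  have hk' : ∀ j : ℕ, ∃ (k : ℕ) (hi : i ≤ k) (hj : j ≤ k), ∀ x : C.obj (op k),
      T C hj x = (c.app (op j)).hom (s.hom (T C hi x)) := by
    intro j
    obtain ⟨k, hi, hj, e⟩ := hk j
    refine ⟨k, hi, hj, fun x => ?_⟩
    exact congrArg (fun ψ => ψ.hom x) e
  have hc : ∀ {n m : ℕ} (h : n ≤ m) (y : C₀), (c.app (op n)).hom y = T C h ((c.app (op m)).hom y) := by
    intro n m h y
    have e := c.naturality (homOfLE h).op
    have e' : c.app (op n) = c.app (op m) ≫ C.map (homOfLE h).op := by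
      rw [← e]
      exact (Category.id_comp _).symm
    exact congrArg (fun ψ => ψ.hom y) e'
  have hCML : MLe C := by
    intro j
    obtain ⟨k, hi, hj, e⟩ := hk' j
    refine ⟨k, hj, fun l hl x => ⟨(c.app (op l)).hom (s.hom (T C hi x)), ?_⟩⟩
    rw [← hc hl, e]
  constructor
  · intro hA
    exact ml_middle a b hb hex hA hCML
  · intro hB j₀
    let j' := max j₀ i
    have hj₀ : j₀ ≤ j' := le_max_left _ _
    have hij' : i ≤ j' := le_max_right _ _
    obtain ⟨k₁, h₁, hB₁⟩ := hB j'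
    refine ⟨k₁, hj₀.trans h₁, fun l hl α => ?_⟩
    obtain ⟨k₂, hi₂, hl₂, e₂⟩ := hk' l
    let l' := max k₂ j'
    have hk₂l' : k₂ ≤ l' := le_max_left _ _
    have hj'l' : j' ≤ l' := le_max_right _ _
    obtain ⟨β, hβ⟩ := hB₁ l' hj'l' ((a.app (op k₁)).hom α)
    -- the image of β in C_{l'} dies in C_{j'}
    have hba : ∀ (n : ℕ) (x : A.obj (op n)), (b.app (op n)).hom ((a.app (op n)).hom x) = 0 := by
      intro n x
      have : (a.app (op n)).hom x ∈ (b.app (op n)).hom.ker := by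
        rw [hex]; exact ⟨x, rfl⟩
      exact this
    have hγ : T C hj'l' ((b.app (op l')).hom β) = 0 := by
      rw [← T_nat b, hβ, ← T_nat a, hba]
    have hγl : T C (hl₂.trans hk₂l') ((b.app (op l')).hom β) = 0 := by
      rw [← T_comp C hl₂ hk₂l', e₂, T_comp]
      have : T C (hi₂.trans hk₂l') ((b.app (op l')).hom β) =
          T C hij' (T C hj'l' ((b.app (op l')).hom β)) := by
        rw [T_comp]
      rw [this, hγ, T_zero, map_zero, map_zero]
    have hker : T B (hl₂.trans hk₂l') β ∈ (b.app (op l)).hom.ker := by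
      rw [AddMonoidHom.mem_ker, T_nat b, hγl]
    rw [hex] at hker
    obtain ⟨α', hα'⟩ := hker
    refine ⟨α', ?_⟩
    apply ha (op j₀)
    rw [T_nat a, hα', T_comp, T_nat a]
    have e1 : T B (hl.trans (hl₂.trans hk₂l')) β = T B hj₀ (T B hj'l' β) := by rw [T_comp]
    have e2 : T B (hj₀.trans h₁) ((a.app (op k₁)).hom α) = T B hj₀ (T B h₁ ((a.app (op k₁)).hom α)) := by
      rw [T_comp]
    rw [e1, e2, hβ]

/-- Take inverse systems `(A_i)`, `(B_i)`, `(C_i)` of abelian groups over `ℕ`, with morphisms of systems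
`(A_i) ⟶ (B_i) ⟶ (C_i)` that give a short exact sequence at every index, and suppose `(C_i)` is
essentially constant. Then `(A_i)` is Mittag-Leffler if and only if `(B_i)` is. -/
theorem result {A B C : ℕᵒᵖ ⥤ AddCommGrpCat.{u}} (a : A ⟶ B) (b : B ⟶ C) (ha : ∀ i, Function.Injective (a.app i).hom) (hb : ∀ i, Function.Surjective (b.app i).hom) (hex : ∀ i, (b.app i).hom.ker = (a.app i).hom.range) (hC : ∃ (C₀ : AddCommGrpCat.{u}) (c : (Functor.const ℕᵒᵖ).obj C₀ ⟶ C), DerCA.IsEssConstant C C₀ c) : (A ⋙ forget AddCommGrpCat).IsMittagLeffler ↔ (B ⋙ forget AddCommGrpCat).IsMittagLeffler := by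
  exact main a b ha hb hex hC

end Groth.Agent.S6787
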