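import Groth.Statements.S6789
import Groth.Agent.Lib.PhiHomotopy
import Mathlib

set_option autoImplicit false
open CategoryTheory CategoryTheory.Limits
universe v u
open CategoryTheory CategoryTheory.SimplicialObject

namespace Groth.Agent.S6789


open CategoryTheory CategoryTheory.Limits Opposite


open CategoryTheory CategoryTheory.Limits Opposite Simplicial Groth.Agent.PhiHomotopy

noncomputable section
section
variable {C : Type u} [Category.{v} C] (F : Arrow C)
  [∀ n : ℕ, HasWidePullback F.right (fun _ : Fin (n + 1) => F.left) (fun _ => F.hom)]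

/-- the mixing maps on the Čech nerve. -/
def mix (u₁ u₂ : F.left ⟶ F.left) (h₁ : u₁ ≫ F.hom = F.hom) (h₂ : u₂ ≫ F.hom = F.hom)
    {n m : ℕ} (θ : Fin (m + 1) → Fin (n + 1)) (χ : Fin (m + 1) → Bool) :
    F.cechNerve _⦋n⦌ ⟶ F.cechNerve _⦋m⦌ :=
  WidePullback.lift (WidePullback.base _)
    (fun k => WidePullback.π _ (θ k) ≫ (if χ k then u₁ else u₂)) (by
      intro k
      split_ifs
      · rw [Category.assoc, h₁, WidePullback.π_arrow]
      · rw [Category.assoc, h₂, WidePullback.π_arrow])

def phiData (u₁ u₂ : F.left ⟶ F.left) (h₁ : u₁ ≫ F.hom = F.hom) (h₂ : u₂ ≫ F.hom = F.hom)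
    (G₁ G₂ : F.cechNerve ⟶ F.cechNerve)
    (hG₁ : ∀ n : ℕ, G₁.app (op ⦋n⦌) = WidePullback.lift (WidePullback.base _)
      (fun k => WidePullback.π _ k ≫ u₁) (by intro k; rw [Category.assoc, h₁, WidePullback.π_arrow]))
    (hG₂ : ∀ n : ℕ, G₂.app (op ⦋n⦌) = WidePullback.lift (WidePullback.base _)
      (fun k => WidePullback.π _ k ≫ u₂) (by intro k; rw [Category.assoc, h₂, WidePullback.π_arrow])) :
    PhiData G₁ G₂ where
  Φ θ χ := mix F u₁ u₂ h₁ h₂ θ χ
  left {n n' m} α θ χ := by
    apply WidePullback.hom_ext
    · intro (k : Fin (m + 1))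
      dsimp only [mix, Arrow.cechNerve]
      erw [Category.assoc, WidePullback.lift_π, WidePullback.lift_π_assoc, WidePullback.lift_π]
      rfl
    · dsimp only [mix, Arrow.cechNerve]
      erw [Category.assoc, WidePullback.lift_base, WidePullback.lift_base, WidePullback.lift_base]
  right {n m m'} β θ χ := by
    apply WidePullback.hom_ext
    · intro (k : Fin (m' + 1))
      dsimp only [mix, Arrow.cechNerve]
      erw [Category.assoc, WidePullback.lift_π, WidePullback.lift_π, WidePullback.lift_π]
      rfl
    · dsimp only [mix, Arrow.cechNerve]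
      erw [Category.assoc, WidePullback.lift_base, WidePullback.lift_base, WidePullback.lift_base]
  hf n := by
    rw [hG₁]
    apply WidePullback.hom_ext
    · intro (k : Fin (n + 1))
      dsimp only [mix]
      erw [WidePullback.lift_π]
    · dsimp only [mix]
      erw [WidePullback.lift_base]
  hg n := by
    rw [hG₂]
    apply WidePullback.hom_ext
    · intro (k : Fin (n + 1))
      dsimp only [mix]
      erw [WidePullback.lift_π]
    · dsimp only [mix]
      erw [WidePullback.lift_base]


theorem homotopies (φ : F ⟶ F) (hφr : φ.right = 𝟙 F.right) :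
    Nonempty (SimplicialObject.Homotopy (𝟙 F.cechNerve) (Arrow.mapCechNerve φ)) ∧
      Nonempty (SimplicialObject.Homotopy (Arrow.mapCechNerve φ) (𝟙 F.cechNerve)) := by
  have h₁ : 𝟙 F.left ≫ F.hom = F.hom := Category.id_comp _
  have h₂ : φ.left ≫ F.hom = F.hom := by
    have := φ.w
    erw [this, hφr, Category.comp_id]
  have hid : ∀ n : ℕ, (𝟙 F.cechNerve : F.cechNerve ⟶ _).app (op ⦋n⦌) =
      WidePullback.lift (WidePullback.base _)
      (fun k => WidePullback.π _ k ≫ 𝟙 F.left)
      (by intro k; rw [Category.assoc, h₁, WidePullback.π_arrow]) := by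
    intro n
    apply WidePullback.hom_ext
    · intro (k : Fin (n + 1))
      erw [WidePullback.lift_π, Category.id_comp, Category.comp_id]
    · erw [WidePullback.lift_base, Category.id_comp]
  have hφ : ∀ n : ℕ, (Arrow.mapCechNerve φ).app (op ⦋n⦌) =
      WidePullback.lift (WidePullback.base _)
      (fun k => WidePullback.π _ k ≫ φ.left)
      (by intro k; rw [Category.assoc, h₂, WidePullback.π_arrow]) := by
    intro n
    apply WidePullback.hom_ext
    · intro (k : Fin (n + 1))
      dsimp only [Arrow.mapCechNerve]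
      erw [WidePullback.lift_π, WidePullback.lift_π]
    · dsimp only [Arrow.mapCechNerve]
      erw [WidePullback.lift_base, WidePullback.lift_base, hφr, Category.comp_id]
  exact ⟨⟨(phiData F _ _ h₁ h₂ _ _ hid hφ).homotopy⟩,
    ⟨(phiData F _ _ h₂ h₁ _ _ hφ hid).homotopy⟩⟩

end
end

/-- For a morphism `f : Y ⟶ X` with a section `s`, the endomorphism of the Čech nerve of `f` (the
simplicial object of iterated fibre products of `Y` over `X`) that applies `s ∘ f` factorwise admits
simplicial homotopies to and from the identity: the published formula gives one direction and its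
mirror image (exchange the roles of the identity and `s ∘ f`) gives the other. -/
theorem result {C : Type u} [Category.{v} C] {Y X : C} (f : Y ⟶ X) (s : X ⟶ Y) (hs : s ≫ f = 𝟙 X) [∀ n : ℕ, HasWidePullback (Arrow.mk f).right (fun _ : Fin (n + 1) => (Arrow.mk f).left) (fun _ => (Arrow.mk f).hom)] (φ : Arrow.mk f ⟶ Arrow.mk f) (hφl : φ.left = f ≫ s) (hφr : φ.right = 𝟙 X) : Nonempty (SimplicialObject.Homotopy (𝟙 (Arrow.mk f).cechNerve) (Arrow.mapCechNerve φ)) ∧ Nonempty (SimplicialObject.Homotopy (Arrow.mapCechNerve φ) (𝟙 (Arrow.mk f).cechNerve)) := by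
  exact homotopies (Arrow.mk f) φ hφr

end Groth.Agent.S6789
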