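import Groth.Statements.S6790
import Mathlib

set_option autoImplicit false
open CategoryTheory CategoryTheory.Limits MonoidalCategory
universe v u
open CategoryTheory CategoryTheory.Monoidal


open CategoryTheory CategoryTheory.Limits MonoidalCategory in
theorem H1_rightDual_retract {A : Type u} [Category.{v} A] [MonoidalCategory A] [IsIdempotentComplete A]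
    {X X₁ : A} (i : X₁ ⟶ X) (p : X ⟶ X₁) (hip : i ≫ p = 𝟙 X₁) [HasRightDual X] : Nonempty (HasRightDual X₁) := by
  have hee : (p ≫ i) ≫ (p ≫ i) = p ≫ i := by
    rw [Category.assoc, ← Category.assoc i, hip, Category.id_comp]
  have hmate : (p ≫ i)ᘁ ≫ (p ≫ i)ᘁ = (p ≫ i)ᘁ := by rw [← comp_rightAdjointMate, hee]
  obtain ⟨Y₁, j, q, hjq, hqj⟩ := IsIdempotentComplete.idempotents_split (Xᘁ) ((p ≫ i)ᘁ) hmate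
  have hie : i ≫ (p ≫ i) = i := by rw [← Category.assoc, hip, Category.id_comp]
  have hep : (p ≫ i) ≫ p = p := by rw [Category.assoc, hip, Category.comp_id]
  have hqe : (p ≫ i)ᘁ ≫ q = q := by rw [← hqj, Category.assoc, hjq, Category.comp_id]
  have hje : j ≫ (p ≫ i)ᘁ = j := by rw [← hqj, ← Category.assoc, hjq, Category.id_comp]
  have hA := coevaluation_comp_rightAdjointMate (p ≫ i)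
  have hB := rightAdjointMate_comp_evaluation (p ≫ i)
  refine ⟨{ rightDual := Y₁, exact := ?_ }⟩
  exact
  { coevaluation' := η_ X (Xᘁ) ≫ p ▷ (Xᘁ) ≫ X₁ ◁ q
    evaluation' := j ▷ X₁ ≫ (Xᘁ) ◁ i ≫ ε_ X (Xᘁ)
    evaluation_coevaluation' := by
      calc
        _ = η_ X (Xᘁ) ▷ X₁ ⊗≫ p ▷ (Xᘁ) ▷ X₁ ⊗≫ X₁ ◁ (q ≫ j) ▷ X₁ ⊗≫ X₁ ◁ (Xᘁ) ◁ i ⊗≫ X₁ ◁ ε_ X (Xᘁ) := by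
          monoidal
        _ = η_ X (Xᘁ) ▷ X₁ ⊗≫ p ▷ (Xᘁ) ▷ X₁ ⊗≫ X₁ ◁ ((p ≫ i)ᘁ ▷ X₁ ≫ (Xᘁ) ◁ i) ⊗≫ X₁ ◁ ε_ X (Xᘁ) := by
          rw [hqj]; monoidal
        _ = η_ X (Xᘁ) ▷ X₁ ⊗≫ p ▷ (Xᘁ) ▷ X₁ ⊗≫ X₁ ◁ ((Xᘁ) ◁ i ≫ (p ≫ i)ᘁ ▷ X) ⊗≫ X₁ ◁ ε_ X (Xᘁ) := by
          rw [whisker_exchange]
        _ = η_ X (Xᘁ) ▷ X₁ ⊗≫ p ▷ (Xᘁ) ▷ X₁ ⊗≫ X₁ ◁ (Xᘁ) ◁ i ⊗≫ X₁ ◁ ((p ≫ i)ᘁ ▷ X ≫ ε_ X (Xᘁ)) := by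
          monoidal
        _ = η_ X (Xᘁ) ▷ X₁ ⊗≫ p ▷ (Xᘁ) ▷ X₁ ⊗≫ X₁ ◁ (Xᘁ) ◁ (i ≫ (p ≫ i)) ⊗≫ X₁ ◁ ε_ X (Xᘁ) := by
          rw [hB]; monoidal
        _ = η_ X (Xᘁ) ▷ X₁ ⊗≫ (p ▷ ((Xᘁ) ⊗ X₁) ≫ X₁ ◁ ((Xᘁ) ◁ i)) ⊗≫ X₁ ◁ ε_ X (Xᘁ) := by
          rw [hie]; monoidal
        _ = η_ X (Xᘁ) ▷ X₁ ⊗≫ (X ◁ ((Xᘁ) ◁ i) ≫ p ▷ ((Xᘁ) ⊗ X)) ⊗≫ X₁ ◁ ε_ X (Xᘁ) := by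
          rw [whisker_exchange]
        _ = 𝟙 _ ⊗≫ (η_ X (Xᘁ) ▷ X₁ ≫ (X ⊗ (Xᘁ)) ◁ i) ⊗≫ (p ▷ ((Xᘁ) ⊗ X) ≫ X₁ ◁ ε_ X (Xᘁ)) ⊗≫ 𝟙 _ := by
          monoidal
        _ = 𝟙 _ ⊗≫ ((𝟙_ A) ◁ i ≫ η_ X (Xᘁ) ▷ X) ⊗≫ (X ◁ ε_ X (Xᘁ) ≫ p ▷ (𝟙_ A)) ⊗≫ 𝟙 _ := by
          rw [← whisker_exchange, ← whisker_exchange]
        _ = 𝟙 _ ⊗≫ i ⊗≫ (η_ X (Xᘁ) ▷ X ⊗≫ X ◁ ε_ X (Xᘁ)) ⊗≫ p ⊗≫ 𝟙 _ := by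
          monoidal
        _ = 𝟙 _ ⊗≫ (i ≫ p) ⊗≫ 𝟙 _ := by
          rw [ExactPairing.evaluation_coevaluation'']; monoidal
        _ = (λ_ X₁).hom ≫ (ρ_ X₁).inv := by
          rw [hip]; monoidal
    coevaluation_evaluation' := by
      calc
        _ = 𝟙 _ ⊗≫ (Y₁ ◁ (η_ X (Xᘁ) ≫ p ▷ (Xᘁ) ≫ X₁ ◁ q) ≫ j ▷ (X₁ ⊗ Y₁)) ⊗≫ (Xᘁ) ◁ i ▷ Y₁ ⊗≫
            ε_ X (Xᘁ) ▷ Y₁ := by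
          monoidal
        _ = 𝟙 _ ⊗≫ (j ▷ (𝟙_ A) ≫ (Xᘁ) ◁ (η_ X (Xᘁ) ≫ p ▷ (Xᘁ) ≫ X₁ ◁ q)) ⊗≫ (Xᘁ) ◁ i ▷ Y₁ ⊗≫
            ε_ X (Xᘁ) ▷ Y₁ := by
          rw [whisker_exchange]
        _ = 𝟙 _ ⊗≫ j ▷ (𝟙_ A) ⊗≫ (Xᘁ) ◁ η_ X (Xᘁ) ⊗≫ (Xᘁ) ◁ p ▷ (Xᘁ) ⊗≫
            (Xᘁ) ◁ (X₁ ◁ q ≫ i ▷ Y₁) ⊗≫ ε_ X (Xᘁ) ▷ Y₁ := by
          monoidal
        _ = 𝟙 _ ⊗≫ j ▷ (𝟙_ A) ⊗≫ (Xᘁ) ◁ η_ X (Xᘁ) ⊗≫ (Xᘁ) ◁ p ▷ (Xᘁ) ⊗≫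
            (Xᘁ) ◁ (i ▷ (Xᘁ) ≫ X ◁ q) ⊗≫ ε_ X (Xᘁ) ▷ Y₁ := by
          rw [whisker_exchange]
        _ = 𝟙 _ ⊗≫ j ▷ (𝟙_ A) ⊗≫ (Xᘁ) ◁ (η_ X (Xᘁ) ≫ (p ≫ i) ▷ (Xᘁ)) ⊗≫ (Xᘁ) ◁ X ◁ q ⊗≫
            ε_ X (Xᘁ) ▷ Y₁ := by
          monoidal
        _ = 𝟙 _ ⊗≫ j ▷ (𝟙_ A) ⊗≫ (Xᘁ) ◁ η_ X (Xᘁ) ⊗≫ (Xᘁ) ◁ X ◁ ((p ≫ i)ᘁ ≫ q) ⊗≫
            ε_ X (Xᘁ) ▷ Y₁ := by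
          rw [← hA]; monoidal
        _ = 𝟙 _ ⊗≫ j ▷ (𝟙_ A) ⊗≫ (Xᘁ) ◁ η_ X (Xᘁ) ⊗≫ (((Xᘁ) ⊗ X) ◁ q ≫ ε_ X (Xᘁ) ▷ Y₁) := by
          rw [hqe]; monoidal
        _ = 𝟙 _ ⊗≫ j ▷ (𝟙_ A) ⊗≫ (Xᘁ) ◁ η_ X (Xᘁ) ⊗≫ (ε_ X (Xᘁ) ▷ (Xᘁ) ≫ (𝟙_ A) ◁ q) := by
          rw [whisker_exchange]
        _ = 𝟙 _ ⊗≫ j ⊗≫ ((Xᘁ) ◁ η_ X (Xᘁ) ⊗≫ ε_ X (Xᘁ) ▷ (Xᘁ)) ⊗≫ q ⊗≫ 𝟙 _ := by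
          monoidal
        _ = 𝟙 _ ⊗≫ (j ≫ q) ⊗≫ 𝟙 _ := by
          rw [ExactPairing.coevaluation_evaluation'']; monoidal
        _ = (ρ_ Y₁).hom ≫ (λ_ Y₁).inv := by
          rw [hjq]; monoidal }


namespace Groth.Agent.S6790

/-- In an idempotent-complete additive monoidal category, a direct summand of an object admitting a dual
(with coevaluation `𝟙_ A ⟶ X ⊗ Y` and evaluation `Y ⊗ X ⟶ 𝟙_ A`) again admits such a dual. -/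
theorem result {A : Type u} [Category.{v} A] [Preadditive A] [HasFiniteBiproducts A] [MonoidalCategory A] [MonoidalPreadditive A] [IsIdempotentComplete A] {X X₁ : A} (i : X₁ ⟶ X) (p : X ⟶ X₁) (hip : i ≫ p = 𝟙 X₁) [HasRightDual X] : Nonempty (HasRightDual X₁) := by
  exact H1_rightDual_retract i p hip

end Groth.Agent.S6790
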