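import Groth.Statements.S6791
import Mathlib

set_option autoImplicit false
open CategoryTheory CategoryTheory.Limits
universe v u v' u' v'' u''
open CategoryTheory CategoryTheory.SerreClass

namespace Groth.Agent.S6791

/-- For an exact functor `F : A ⥤ B` of abelian categories and a Serre class `P` of `A` killed by `F`,
with `L : A ⥤ Q` a model of the quotient `A/P` and `Fbar : Q ⥤ B` the induced functor, `P` is
exactly the kernel of `F` if and only if `Fbar` is faithful. -/
theorem result {A : Type u} [Category.{v} A] [Abelian A] {B : Type u'} [Category.{v'} B] [Abelian B] (F : A ⥤ B) [F.Additive] [PreservesFiniteLimits F] [PreservesFiniteColimits F] (P : ObjectProperty A) [P.IsSerreClass] (hP : ∀ X : A, P X → IsZero (F.obj X)) {Q : Type u''} [Category.{v''} Q] [Abelian Q] (L : A ⥤ Q) [L.IsLocalization P.isoModSerre] [L.Additive] [PreservesFiniteLimits L] [PreservesFiniteColimits L] (Fbar : Q ⥤ B) (e : L ⋙ Fbar ≅ F) : (∀ X : A, IsZero (F.obj X) → P X) ↔ Fbar.Faithful := by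
  have emap : ∀ {X Y : A} (f : X ⟶ Y), Fbar.map (L.map f) = e.hom.app X ≫ F.map f ≫ e.inv.app Y := by
    intro X Y f
    have := e.hom.naturality f
    simp only [Functor.comp_map] at this
    rw [← Category.assoc, ← this, Category.assoc, Iso.hom_inv_id_app, Category.comp_id]
  constructor
  · intro hker
    apply Functor.faithful_of_comp_of_hasLeftCalculusOfFractions L P.isoModSerre Fbar
    intro X₁ X₂ f g hfg
    rw [emap f, emap g] at hfg
    have h1 : F.map f = F.map g :=
      (cancel_mono (e.inv.app X₂)).1 ((cancel_epi (e.hom.app X₁)).1 hfg)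
    have h2 : F.map (f - g) = 0 := by rw [F.map_sub, h1, sub_self]
    have h3 : F.map (Abelian.factorThruImage (f - g)) = 0 := by
      have : F.map (Abelian.factorThruImage (f - g)) ≫ F.map (Abelian.image.ι (f - g)) = 0 := by
        rw [← F.map_comp, Abelian.image.fac, h2]
      rw [← cancel_mono (F.map (Abelian.image.ι (f - g))), this, zero_comp]
    have h4 : IsZero (F.obj (Abelian.image (f - g))) := by
      rw [IsZero.iff_id_eq_zero, ← cancel_epi (F.map (Abelian.factorThruImage (f - g))), h3,
        zero_comp, comp_zero]
    have h5 : P (Abelian.image (f - g)) := hker _ h4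
    obtain ⟨X', s, hs, hsf⟩ := (ObjectProperty.exists_isoModSerre_comp_eq_zero_iff P (f - g)).2 h5
    haveI : IsIso (L.map s) := Localization.inverts L P.isoModSerre s hs
    have h6 : L.map (f - g) = 0 := by
      rw [← cancel_epi (L.map s), ← L.map_comp, hsf, L.map_zero, comp_zero]
    rw [L.map_sub, sub_eq_zero] at h6
    exact h6
  · intro hfaith X hX
    rw [← ObjectProperty.SerreClassLocalization.isZero_obj_iff L P X]
    rw [IsZero.iff_id_eq_zero]
    apply Fbar.map_injective
    have h1 : IsZero (Fbar.obj (L.obj X)) := hX.of_iso (e.app X)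
    exact h1.eq_of_src _ _

end Groth.Agent.S6791
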