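import Groth.Statements.S6792
import Mathlib

set_option autoImplicit false
open CategoryTheory
universe v u
open SpSeq SpSeq.FilCx

namespace Groth.Agent.S6792

open CategoryTheory.Limits

variable {A : Type u} [Category.{v} A] [Abelian A]

lemma isZero_subquot {X : A} (Z B : Subobject X) (h : B ≤ Z) (e : B = Z) : IsZero (subquot Z B h) := by
  subst e
  unfold subquot
  have e : B.ofLE B h = 𝟙 _ := Subobject.ofLE_refl B
  have : Epi (B.ofLE B h) := by rw [e]; infer_instance
  exact isZero_cokernel_of_epi _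

lemma arrow_eq_zero {X : A} (S : Subobject X) (h : S = ⊥) : S.arrow = 0 := by
  subst h
  exact Subobject.bot_arrow

lemma isIso_arrow_of_top {X : A} (S : Subobject X) (h : S = ⊤) : IsIso S.arrow := by
  subst h
  infer_instance

lemma pullback_bot {X Y : A} (f : X ⟶ Y) : (Subobject.pullback f).obj ⊥ = kernelSubobject f := by
  refine le_antisymm ?_ (SpSeq.FilCx.kernelSubobject_le_pullback f ⊥)
  rw [Subobject.pullback_obj]
  apply le_kernelSubobject
  have h1 : (Subobject.mk (pullback.snd (⊥ : Subobject Y).arrow f)).arrow =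
      (Subobject.underlyingIso _).hom ≫ pullback.snd (⊥ : Subobject Y).arrow f :=
    (Iso.inv_comp_eq _).1 (Subobject.underlyingIso_arrow _)
  have h2 : pullback.fst (⊥ : Subobject Y).arrow f ≫ (⊥ : Subobject Y).arrow = 0 :=
    (congrArg (fun t => pullback.fst (⊥ : Subobject Y).arrow f ≫ t) Subobject.bot_arrow).trans comp_zero
  rw [h1, Category.assoc, ← pullback.condition, h2, comp_zero]

lemma isComplete_of_bot (L : FilObj A) (b : ℤ) (hb : L.fil b = ⊥) : L.IsComplete := by
  intro T f hf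
  have hzero : ∀ p, b ≤ p → (L.fil p).arrow = 0 := fun p hp =>
    arrow_eq_zero _ (le_bot_iff.1 (hb ▸ L.anti hp))
  have hiso : ∀ p, b ≤ p → IsIso (cokernel.π (L.fil p).arrow) := fun p hp => by
    rw [hzero p hp]; infer_instance
  have := hiso b le_rfl
  have hπ : ∀ {p q : ℤ} (h : p ≤ q), cokernel.π (L.fil q).arrow ≫ L.quotMap h =
      cokernel.π (L.fil p).arrow := fun h => cokernel.π_desc _ _ _
  refine ⟨f b ≫ inv (cokernel.π (L.fil b).arrow), fun p => ?_⟩
  rcases le_total p b with h | h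
  · rw [Category.assoc, ← hf p b h, ← hπ h, IsIso.inv_hom_id_assoc]
  · have := hiso p h
    have key : L.quotMap h ≫ inv (cokernel.π (L.fil b).arrow) ≫ cokernel.π (L.fil p).arrow = 𝟙 _ := by
      rw [← cancel_epi (cokernel.π (L.fil p).arrow), ← Category.assoc, hπ h,
        IsIso.hom_inv_id_assoc, Category.comp_id]
    rw [← hf b p h, Category.assoc, Category.assoc, key, Category.comp_id]

lemma isSeparated_of_bot (L : FilObj A) (b : ℤ) (hb : L.fil b = ⊥) : L.IsSeparated :=
  IsLeast.isGLB ⟨⟨b, hb⟩, fun _ _ => bot_le⟩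

lemma isExhaustive_of_top (L : FilObj A) (a : ℤ) (ha : L.fil a = ⊤) : L.IsExhaustive :=
  IsGreatest.isLUB ⟨⟨a, ha⟩, fun _ _ => le_top⟩


lemma filX_eq_bot (K : FilCx A) (n b p : ℤ) (hb : K.filX b n = ⊥) (hp : b ≤ p) : K.filX p n = ⊥ :=
  le_bot_iff.1 (hb ▸ K.filX_anti n hp)

lemma filX_eq_top (K : FilCx A) (n a p : ℤ) (ha : K.filX a n = ⊤) (hp : p ≤ a) : K.filX p n = ⊤ :=
  top_le_iff.1 (ha ▸ K.filX_anti n hp)

lemma isBounded (K : FilCx A) (hK : ∀ n : ℤ, (K.XFil n).IsFinite) : K.IsBounded 0 := by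
  intro n
  obtain ⟨⟨a, ha⟩, ⟨b, hb⟩⟩ := hK n
  change K.filX a n = ⊤ at ha
  change K.filX b n = ⊥ at hb
  refine (Set.finite_Ico a b).subset ?_
  intro p hp
  by_contra hnot
  apply hp
  rw [Set.mem_Ico, not_and_or, not_le, not_lt] at hnot
  rcases hnot with h | h
  · have h1 : K.filX (p + 1) n = ⊤ := filX_eq_top K n a (p + 1) ha (by omega)
    refine isZero_subquot _ _ _ ?_
    unfold BSub ZSub
    rw [h1, sup_top_eq, sup_top_eq]
  · have h1 : K.filX p n = ⊥ := filX_eq_bot K n b p hb h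
    have h2 : K.filX (p + 1) n = ⊥ := filX_eq_bot K n b (p + 1) hb (by omega)
    refine isZero_subquot _ _ _ ?_
    unfold BSub ZSub
    rw [h1, h2, bot_inf_eq, bot_inf_eq]

lemma isIso_homologyMap {C D : CochainComplex A ℤ} (φ : C ⟶ D) (n : ℤ) (h1 : IsIso (φ.f (n - 1)))
    (h2 : IsIso (φ.f n)) (h3 : IsIso (φ.f (n + 1))) : IsIso (HomologicalComplex.homologyMap φ n) := by
  rw [← quasiIsoAt_iff_isIso_homologyMap, quasiIsoAt_iff' φ (n - 1) n (n + 1) (by simp) (by simp)]
  have : Epi ((HomologicalComplex.shortComplexFunctor' A (ComplexShape.up ℤ) (n - 1) n (n + 1)).map φ).τ₁ := by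
    show Epi (φ.f (n - 1)); infer_instance
  have : IsIso ((HomologicalComplex.shortComplexFunctor' A (ComplexShape.up ℤ) (n - 1) n (n + 1)).map φ).τ₂ := by
    show IsIso (φ.f n); infer_instance
  have : Mono ((HomologicalComplex.shortComplexFunctor' A (ComplexShape.up ℤ) (n - 1) n (n + 1)).map φ).τ₃ := by
    show Mono (φ.f (n + 1)); infer_instance
  exact ShortComplex.quasiIso_of_epi_of_isIso_of_mono _

lemma homologyMap_eq_zero {C D : CochainComplex A ℤ} (φ : C ⟶ D) (n : ℤ) (h : φ.f n = 0) :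
    HomologicalComplex.homologyMap φ n = 0 := by
  rw [← cancel_epi (C.homologyπ n), HomologicalComplex.homologyπ_naturality, comp_zero]
  have : HomologicalComplex.cyclesMap φ n = 0 := by
    rw [← cancel_mono (D.iCycles n), HomologicalComplex.cyclesMap_i, h, comp_zero, zero_comp]
  rw [this, zero_comp]

lemma imageSubobject_eq_top_of_epi {X Y : A} (f : X ⟶ Y) [Epi f] : imageSubobject f = ⊤ := by
  have h1 : Epi (image.ι f) := epi_of_epi_fac (image.fac f)
  have h2 : IsIso (image.ι f) := isIso_of_mono_of_epi _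
  exact (Subobject.isIso_iff_mk_eq_top _).1 h2

lemma imageSubobject_eq_bot_of_eq_zero {X Y : A} (f : X ⟶ Y) (h : f = 0) : imageSubobject f = ⊥ := by
  subst h
  exact imageSubobject_zero

lemma hfil_finite (K : FilCx A) (hK : ∀ n : ℤ, (K.XFil n).IsFinite) (n : ℤ) : (K.HFil n).IsFinite := by
  obtain ⟨⟨a₁, ha₁⟩, _⟩ := hK (n - 1)
  obtain ⟨⟨a₂, ha₂⟩, ⟨b, hb⟩⟩ := hK n
  obtain ⟨⟨a₃, ha₃⟩, _⟩ := hK (n + 1)
  change K.filX a₁ (n - 1) = ⊤ at ha₁
  change K.filX a₂ n = ⊤ at ha₂
  change K.filX a₃ (n + 1) = ⊤ at ha₃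
  change K.filX b n = ⊥ at hb
  refine ⟨⟨min a₁ (min a₂ a₃), ?_⟩, ⟨b, ?_⟩⟩
  · change K.filH _ n = ⊤
    have e1 := filX_eq_top K (n - 1) a₁ (min a₁ (min a₂ a₃)) ha₁ (min_le_left _ _)
    have e2 := filX_eq_top K n a₂ (min a₁ (min a₂ a₃)) ha₂ ((min_le_right _ _).trans (min_le_left _ _))
    have e3 := filX_eq_top K (n + 1) a₃ (min a₁ (min a₂ a₃)) ha₃ ((min_le_right _ _).trans (min_le_right _ _))
    have := isIso_homologyMap (K.fil (min a₁ (min a₂ a₃))).arrow n
      ((Subobject.isIso_iff_mk_eq_top _).2 e1) ((Subobject.isIso_iff_mk_eq_top _).2 e2)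
      ((Subobject.isIso_iff_mk_eq_top _).2 e3)
    unfold filH
    exact imageSubobject_eq_top_of_epi _
  · change K.filH b n = ⊥
    unfold filH
    exact imageSubobject_eq_bot_of_eq_zero _
      (homologyMap_eq_zero _ n (Subobject.mk_eq_bot_iff_zero.1 hb))


lemma converges (K : FilCx A) (hK : ∀ n : ℤ, (K.XFil n).IsFinite) : K.Converges := by
  refine ⟨?_, ⟨?_, ?_⟩, ?_⟩
  · intro p n
    obtain ⟨_, ⟨b, hb⟩⟩ := hK (n + 1)
    change K.filX b (n + 1) = ⊥ at hb
    refine ⟨(b - p).toNat, fun r hr => ?_⟩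
    have h1 : K.filX (p + (r : ℕ)) (n + 1) = ⊥ :=
      filX_eq_bot K (n + 1) b _ hb (by have := Int.self_le_toNat (b - p); omega)
    have h2 : K.filX (p + ((b - p).toNat : ℕ)) (n + 1) = ⊥ :=
      filX_eq_bot K (n + 1) b _ hb (by have := Int.self_le_toNat (b - p); omega)
    unfold ZSub
    rw [h1, h2]
  · intro p n
    constructor
    · obtain ⟨_, ⟨b, hb⟩⟩ := hK (n + 1)
      change K.filX b (n + 1) = ⊥ at hb
      have h2 : K.filX (p + ((b - p).toNat : ℕ)) (n + 1) = ⊥ :=
        filX_eq_bot K (n + 1) b _ hb (by have := Int.self_le_toNat (b - p); omega)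
      constructor
      · rintro _ ⟨r, rfl⟩
        exact sup_le_sup_right (inf_le_inf_left _ (SpSeq.FilCx.kernelSubobject_le_pullback _ _)) _
      · intro S hS
        have h3 : S ≤ K.ZSub (b - p).toNat p n := hS ⟨(b - p).toNat, rfl⟩
        have e : K.ZSub (b - p).toNat p n = K.ZTop p n := by
          unfold ZSub ZTop
          rw [h2, pullback_bot]
        exact h3.trans e.le
    · obtain ⟨⟨a, ha⟩, _⟩ := hK (n - 1)
      change K.filX a (n - 1) = ⊤ at ha
      constructor
      · rintro _ ⟨r, rfl⟩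
        exact sup_le_sup_right (inf_le_inf_left _ (imageSubobject_comp_le _ _)) _
      · intro S hS
        have h3 : K.BSub (p + 1 - a).toNat p n ≤ S := hS ⟨(p + 1 - a).toNat, rfl⟩
        have h4 : K.filX (p - ((p + 1 - a).toNat : ℕ) + 1) (n - 1) = ⊤ :=
          filX_eq_top K (n - 1) a _ ha (by have := Int.self_le_toNat (p + 1 - a); omega)
        have e : K.BSub (p + 1 - a).toNat p n = K.BBot p n := by
          unfold BSub BBot
          have := isIso_arrow_of_top _ h4
          rw [imageSubobject_iso_comp]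
        exact e.ge.trans h3
  · intro n
    obtain ⟨⟨a, ha⟩, ⟨b, hb⟩⟩ := hfil_finite K hK n
    exact ⟨isSeparated_of_bot _ b hb, isExhaustive_of_top _ a ha⟩
  · intro n
    obtain ⟨_, ⟨b, hb⟩⟩ := hfil_finite K hK n
    exact isComplete_of_bot _ b hb

/-- For a filtered complex whose filtration is finite in each degree, the associated spectral sequence
is bounded (from page `0` on), the induced filtration on each cohomology object is finite, and the
spectral sequence converges to the cohomology. -/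
theorem result {A : Type u} [Category.{v} A] [Abelian A] (K : SpSeq.FilCx A) (hK : ∀ n : ℤ, (K.XFil n).IsFinite) : K.IsBounded 0 ∧ (∀ n : ℤ, (K.HFil n).IsFinite) ∧ K.Converges := by
  exact ⟨isBounded K hK, hfil_finite K hK, converges K hK⟩

end Groth.Agent.S6792
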