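import Groth.Statements.S6795
import Mathlib

set_option autoImplicit false
open CategoryTheory CategoryTheory.Limits
universe v u
open CategoryTheory CategoryTheory.Preadditive

namespace Groth.Agent.S6795

/-- A preadditive category with countable products in which split epimorphisms have kernels is
idempotent complete (Karoubian). -/
theorem result {D : Type u} [Category.{v} D] [Preadditive D] [HasCountableProducts D] (hk : ∀ ⦃X Y : D⦄ (f : X ⟶ Y), IsSplitEpi f → HasKernel f) : IsIdempotentComplete D := by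
  refine ⟨fun X e he => ?_⟩
  have : HasProduct (fun _ : ℕ => X) := inferInstance
  let Y : D := ∏ᶜ (fun _ : ℕ => X)
  let π : ℕ → (Y ⟶ X) := fun n => Pi.π (fun _ : ℕ => X) n
  let f : Y ⟶ Y := Pi.lift (fun n => π (n + 1) ≫ e + π n ≫ (𝟙 X - e))
  let s : Y ⟶ Y := Pi.lift (fun n => Nat.casesOn n (π 0 ≫ (𝟙 X - e)) (fun m => π m ≫ e + π (m + 1) ≫ (𝟙 X - e)))
  have hfπ : ∀ n, f ≫ π n = π (n + 1) ≫ e + π n ≫ (𝟙 X - e) := fun n => Pi.lift_π _ n
  have hs0 : s ≫ π 0 = π 0 ≫ (𝟙 X - e) := Pi.lift_π _ 0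
  have hsS : ∀ m, s ≫ π (m + 1) = π m ≫ e + π (m + 1) ≫ (𝟙 X - e) := fun m => Pi.lift_π _ (m + 1)
  have hee : e ≫ (𝟙 X - e) = 0 := by rw [Preadditive.comp_sub, Category.comp_id, he, sub_self]
  have hee' : (𝟙 X - e) ≫ e = 0 := by rw [Preadditive.sub_comp, Category.id_comp, he, sub_self]
  have h11 : (𝟙 X - e) ≫ (𝟙 X - e) = 𝟙 X - e := by
    rw [Preadditive.comp_sub, Category.comp_id, hee', sub_zero]
  have hsf : s ≫ f = 𝟙 Y := by
    apply Pi.hom_ext
    intro n
    change (s ≫ f) ≫ π n = 𝟙 Y ≫ π n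
    rw [Category.assoc, hfπ, Preadditive.comp_add, ← Category.assoc, ← Category.assoc, hsS, Category.id_comp]
    cases n with
    | zero =>
      rw [hs0]
      simp only [Preadditive.add_comp, Category.assoc, he, hee', h11, comp_zero, add_zero]
      rw [← Preadditive.comp_add]
      simp
    | succ m =>
      rw [hsS]
      simp only [Preadditive.add_comp, Category.assoc, he, hee', hee, h11, comp_zero, add_zero, zero_add]
      rw [← Preadditive.comp_add]
      simp
  have hsplit : IsSplitEpi f := ⟨⟨⟨s, hsf⟩⟩⟩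
  have := hk f hsplit
  let K := kernel f
  let ι : K ⟶ Y := kernel.ι f
  let j : X ⟶ Y := Pi.lift (fun n => Nat.casesOn n e (fun _ => 0))
  have hj0 : j ≫ π 0 = e := Pi.lift_π _ 0
  have hjS : ∀ m, j ≫ π (m + 1) = 0 := fun m => Pi.lift_π _ (m + 1)
  have hjf : j ≫ f = 0 := by
    apply Pi.hom_ext
    intro n
    change (j ≫ f) ≫ π n = 0 ≫ π n
    rw [Category.assoc, hfπ, Preadditive.comp_add, ← Category.assoc, ← Category.assoc, hjS, zero_comp, zero_add,
      zero_comp]
    cases n with
    | zero => rw [hj0, hee]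
    | succ m => rw [hjS, zero_comp]
  let p : X ⟶ K := kernel.lift f j hjf
  have hpι : p ≫ ι = j := kernel.lift_ι f j hjf
  have hu : ∀ n, ι ≫ π (n + 1) ≫ e + ι ≫ π n ≫ (𝟙 X - e) = 0 := by
    intro n
    have h0 : ι ≫ f = 0 := kernel.condition f
    have := congrArg (fun t => t ≫ π n) h0
    simp only [Category.assoc, zero_comp] at this
    rw [hfπ, Preadditive.comp_add] at this
    exact this
  have hu1 : ∀ n, ι ≫ π n ≫ (𝟙 X - e) = 0 := by
    intro n
    have := congrArg (fun t => t ≫ (𝟙 X - e)) (hu n)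
    simp only [Preadditive.add_comp, Category.assoc, hee, h11, comp_zero, zero_add, zero_comp] at this
    exact this
  have hu2 : ∀ n, ι ≫ π (n + 1) ≫ e = 0 := by
    intro n
    have := hu n
    rw [hu1 n, add_zero] at this
    exact this
  have hu3 : ∀ n, ι ≫ π n ≫ e = ι ≫ π n := by
    intro n
    have := hu1 n
    rw [Preadditive.comp_sub, Preadditive.comp_sub, Category.comp_id, sub_eq_zero] at this
    exact this.symm
  have hu4 : ∀ n, ι ≫ π (n + 1) = 0 := by
    intro n
    rw [← hu3 (n + 1), hu2 n]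
  refine ⟨K, ι ≫ π 0, p, ?_, ?_⟩
  · rw [← cancel_mono ι]
    rw [Category.assoc, Category.assoc, hpι, Category.id_comp]
    apply Pi.hom_ext
    intro n
    change (ι ≫ π 0 ≫ j) ≫ π n = ι ≫ π n
    cases n with
    | zero => rw [Category.assoc, Category.assoc, hj0, hu3 0]
    | succ m => rw [Category.assoc, Category.assoc, hjS, comp_zero, comp_zero, hu4 m]
  · rw [← Category.assoc, hpι, hj0]

end Groth.Agent.S6795
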