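import Groth.Statements.S6796
import Mathlib

set_option autoImplicit false
open CategoryTheory CategoryTheory.Limits
universe v u
open CategoryTheory CategoryTheory.Preadditive

namespace Groth.Agent.S6796

/-- A preadditive category with countable coproducts in which split monomorphisms have cokernels is
idempotent complete (Karoubian). -/
theorem result {D : Type u} [Category.{v} D] [Preadditive D] [HasCountableCoproducts D] (hk : ∀ ⦃X Y : D⦄ (f : X ⟶ Y), IsSplitMono f → HasCokernel f) : IsIdempotentComplete D := by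
  refine ⟨fun X e he => ?_⟩
  have : HasCoproduct (fun _ : ℕ => X) := inferInstance
  let Y : D := ∐ (fun _ : ℕ => X)
  let ι : ℕ → (X ⟶ Y) := fun n => Sigma.ι (fun _ : ℕ => X) n
  let f : Y ⟶ Y := Sigma.desc (fun n => e ≫ ι (n + 1) + (𝟙 X - e) ≫ ι n)
  let s : Y ⟶ Y := Sigma.desc (fun n => Nat.casesOn n ((𝟙 X - e) ≫ ι 0) (fun m => e ≫ ι m + (𝟙 X - e) ≫ ι (m + 1)))
  have hfι : ∀ n, ι n ≫ f = e ≫ ι (n + 1) + (𝟙 X - e) ≫ ι n := fun n => Sigma.ι_desc _ n
  have hs0 : ι 0 ≫ s = (𝟙 X - e) ≫ ι 0 := Sigma.ι_desc _ 0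
  have hsS : ∀ m, ι (m + 1) ≫ s = e ≫ ι m + (𝟙 X - e) ≫ ι (m + 1) := fun m => Sigma.ι_desc _ (m + 1)
  have hee : e ≫ (𝟙 X - e) = 0 := by rw [Preadditive.comp_sub, Category.comp_id, he, sub_self]
  have hee' : (𝟙 X - e) ≫ e = 0 := by rw [Preadditive.sub_comp, Category.id_comp, he, sub_self]
  have h11 : (𝟙 X - e) ≫ (𝟙 X - e) = 𝟙 X - e := by
    rw [Preadditive.comp_sub, Category.comp_id, hee', sub_zero]
  have hfs : f ≫ s = 𝟙 Y := by
    apply Sigma.hom_ext
    intro n
    change ι n ≫ f ≫ s = ι n ≫ 𝟙 Y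
    rw [← Category.assoc, hfι, Preadditive.add_comp, Category.assoc, Category.assoc, hsS, Category.comp_id]
    cases n with
    | zero =>
      rw [hs0]
      simp only [Preadditive.comp_add, ← Category.assoc, he, hee', hee, h11, zero_comp, add_zero]
      rw [← Preadditive.add_comp]
      simp
    | succ m =>
      rw [hsS]
      simp only [Preadditive.comp_add, ← Category.assoc, he, hee', hee, h11, zero_comp, add_zero, zero_add]
      rw [← Preadditive.add_comp]
      simp
  have hsplit : IsSplitMono f := ⟨⟨⟨s, hfs⟩⟩⟩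
  have := hk f hsplit
  let K := cokernel f
  let π : Y ⟶ K := cokernel.π f
  let j : Y ⟶ X := Sigma.desc (fun n => Nat.casesOn n e (fun _ => 0))
  have hj0 : ι 0 ≫ j = e := Sigma.ι_desc _ 0
  have hjS : ∀ m, ι (m + 1) ≫ j = 0 := fun m => Sigma.ι_desc _ (m + 1)
  have hfj : f ≫ j = 0 := by
    apply Sigma.hom_ext
    intro n
    change ι n ≫ f ≫ j = ι n ≫ 0
    rw [← Category.assoc, hfι, Preadditive.add_comp, Category.assoc, Category.assoc, hjS, comp_zero, zero_add,
      comp_zero]
    cases n with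
    | zero => rw [hj0, hee']
    | succ m => rw [hjS, comp_zero]
  let p : K ⟶ X := cokernel.desc f j hfj
  have hπp : π ≫ p = j := cokernel.π_desc f j hfj
  have hu : ∀ n, e ≫ ι (n + 1) ≫ π + (𝟙 X - e) ≫ ι n ≫ π = 0 := by
    intro n
    have h0 : f ≫ π = 0 := cokernel.condition f
    have := congrArg (fun t => ι n ≫ t) h0
    simp only [comp_zero] at this
    rw [← Category.assoc, hfι, Preadditive.add_comp, Category.assoc, Category.assoc] at this
    exact this
  have hu1 : ∀ n, (𝟙 X - e) ≫ ι n ≫ π = 0 := by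
    intro n
    have := congrArg (fun t => (𝟙 X - e) ≫ t) (hu n)
    simp only [Preadditive.comp_add, ← Category.assoc, hee', h11, zero_comp, zero_add, comp_zero] at this
    rw [Category.assoc] at this
    exact this
  have hu2 : ∀ n, e ≫ ι (n + 1) ≫ π = 0 := by
    intro n
    have := hu n
    rw [hu1 n, add_zero] at this
    exact this
  have hu3 : ∀ n, e ≫ ι n ≫ π = ι n ≫ π := by
    intro n
    have := hu1 n
    rw [Preadditive.sub_comp, Category.id_comp, sub_eq_zero] at this
    exact this.symm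
  have hu4 : ∀ n, ι (n + 1) ≫ π = 0 := by
    intro n
    rw [← hu3 (n + 1), hu2 n]
  refine ⟨K, p, ι 0 ≫ π, ?_, ?_⟩
  · rw [← cancel_epi π]
    rw [← Category.assoc, hπp, Category.comp_id]
    apply Sigma.hom_ext
    intro n
    change ι n ≫ j ≫ ι 0 ≫ π = ι n ≫ π
    cases n with
    | zero => rw [← Category.assoc, hj0, hu3 0]
    | succ m => rw [← Category.assoc, hjS, zero_comp, hu4 m]
  · rw [Category.assoc, hπp, hj0]

end Groth.Agent.S6796
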