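import Groth.Statements.S6807
import Mathlib
import Groth.Agent.Lib.LimCx

set_option autoImplicit false
open CategoryTheory CategoryTheory.Limits
universe u
open HomAlg3

namespace Groth.Agent.S6807


open CategoryTheory CategoryTheory.Limits Opposite


lemma ML_of_essConstant (X : ℕᵒᵖ ⥤ AddCommGrpCat.{u})
    (hH : ∃ (C₀ : AddCommGrpCat.{u}) (c : (Functor.const ℕᵒᵖ).obj C₀ ⟶ X),
      DerCA.IsEssConstant X C₀ c) : (X ⋙ forget AddCommGrpCat).IsMittagLeffler := by
  obtain ⟨C₀, c, i, s, hs, hj⟩ := hH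
  intro j
  obtain ⟨k, hik, hjk, hk⟩ := hj j.unop
  refine ⟨op k, (homOfLE hjk).op, fun m g => ?_⟩
  rintro _ ⟨x, rfl⟩
  -- X.map (k → j) x = c_j (s (X.map (k → i) x)) and c_j = X.map g (c_m)
  have h1 : (X.map (homOfLE hjk).op).hom x =
      (c.app (op j.unop)).hom (s.hom ((X.map (homOfLE hik).op).hom x)) := by
    have := congrArg (fun φ => φ.hom x) hk
    exact this
  have h2 : ∀ a : C₀, (X.map g).hom ((c.app m).hom a) = (c.app j).hom a := by
    intro a
    have := congrArg (fun φ => φ.hom a) (c.naturality g)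
    exact this.symm
  refine ⟨(c.app m).hom (s.hom ((X.map (homOfLE hik).op).hom x)), ?_⟩
  show (X.map g).hom _ = (X.map (homOfLE hjk).op).hom x
  rw [h2, h1]

theorem main (K : ℕᵒᵖ ⥤ HomologicalComplex AddCommGrpCat.{u} (ComplexShape.up ℤ)) (n : ℤ)
    (h2 : ((K ⋙ HomologicalComplex.eval _ _ (n - 2)) ⋙ forget AddCommGrpCat).IsMittagLeffler)
    (h1 : ((K ⋙ HomologicalComplex.eval _ _ (n - 1)) ⋙ forget AddCommGrpCat).IsMittagLeffler)
    (hH : ∃ (C₀ : AddCommGrpCat.{u}) (c : (Functor.const ℕᵒᵖ).obj C₀ ⟶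
      K ⋙ HomologicalComplex.homologyFunctor _ _ (n - 1)),
      DerCA.IsEssConstant (K ⋙ HomologicalComplex.homologyFunctor _ _ (n - 1)) C₀ c) :
    IsIso (limit.post K (HomologicalComplex.homologyFunctor _ _ n)) := by
  have hcof : ∃ s : Set ℕ, s.Countable ∧ ∀ i, ∃ j ∈ s, i ≤ j :=
    ⟨Set.univ, Set.countable_univ, fun i => ⟨i, trivial, le_rfl⟩⟩
  have hs := LimCx.post_surjective K hcof (n-1) n (by omega) h1
  have hi := LimCx.post_injective K hcof (n-2) (n-1) n (by omega) (by omega) h2
    (ML_of_essConstant _ hH)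
  rw [ConcreteCategory.isIso_iff_bijective]
  exact ⟨hi, hs⟩

/-- For an inverse system of cochain complexes of abelian groups over `ℕ` whose terms in degrees `n-2`
and `n-1` form Mittag-Leffler systems and whose degree-`(n-1)` cohomologies form an essentially
constant system, the canonical map from the degree-`n` cohomology of the limit complex to the limit
of the degree-`n` cohomologies is an isomorphism. (The published statement is for four-term
complexes in degrees `-2, …, 1`; only those four degrees of a longer complex enter.) -/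
theorem result (K : ℕᵒᵖ ⥤ HomologicalComplex AddCommGrpCat.{u} (ComplexShape.up ℤ)) (n : ℤ) (h2 : ((K ⋙ HomologicalComplex.eval _ _ (n - 2)) ⋙ forget AddCommGrpCat).IsMittagLeffler) (h1 : ((K ⋙ HomologicalComplex.eval _ _ (n - 1)) ⋙ forget AddCommGrpCat).IsMittagLeffler) (hH : ∃ (C₀ : AddCommGrpCat.{u}) (c : (Functor.const ℕᵒᵖ).obj C₀ ⟶ K ⋙ HomologicalComplex.homologyFunctor _ _ (n - 1)), DerCA.IsEssConstant (K ⋙ HomologicalComplex.homologyFunctor _ _ (n - 1)) C₀ c) : IsIso (limit.post K (HomologicalComplex.homologyFunctor _ _ n)) := by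
  exact main K n h2 h1 hH

end Groth.Agent.S6807
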