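import Groth.Statements.S6808
import Mathlib

set_option autoImplicit false
open CategoryTheory Opposite
universe u
open SSet

namespace Groth.Agent.S6808

/-- A map of simplicial sets preserving non-degeneracy of simplices and injective on non-degenerate
simplices is injective in every dimension. -/
theorem result {U V : SSet.{u}} (f : U ⟶ V) (ha : ∀ (n : ℕ) (x : U.obj (op (SimplexCategory.mk n))), x ∈ U.nonDegenerate n → f.app (op (SimplexCategory.mk n)) x ∈ V.nonDegenerate n) (hb : ∀ n : ℕ, Set.InjOn (f.app (op (SimplexCategory.mk n))) (U.nonDegenerate n)) (n : ℕ) : Function.Injective (f.app (op (SimplexCategory.mk n))) := by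
  intro x x' hxx'
  obtain ⟨m, p, hp, y, rfl⟩ := U.exists_nonDegenerate x
  obtain ⟨m', p', hp', y', rfl⟩ := U.exists_nonDegenerate x'
  have h1 : f.app (op (SimplexCategory.mk n)) (U.map p.op y) =
      V.map p.op (f.app (op (SimplexCategory.mk m)) y) := by
    have := ConcreteCategory.congr_hom (f.naturality p.op) y.1
    rwa [CategoryTheory.comp_apply, CategoryTheory.comp_apply] at this
  have h2 : f.app (op (SimplexCategory.mk n)) (U.map p'.op y') =
      V.map p'.op (f.app (op (SimplexCategory.mk m')) y') := by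
    have := ConcreteCategory.congr_hom (f.naturality p'.op) y'.1
    rwa [CategoryTheory.comp_apply, CategoryTheory.comp_apply] at this
  have hm : m = m' :=
    SSet.unique_nonDegenerate_dim V (f.app (op (SimplexCategory.mk n)) (U.map p.op y))
      p ⟨_, ha m y.1 y.2⟩ h1 p' ⟨_, ha m' y'.1 y'.2⟩ (hxx'.trans h2)
  subst hm
  have hy : (⟨_, ha m y.1 y.2⟩ : V.nonDegenerate m) = ⟨_, ha m y'.1 y'.2⟩ :=
    SSet.unique_nonDegenerate_simplex V (f.app (op (SimplexCategory.mk n)) (U.map p.op y))
      p ⟨_, ha m y.1 y.2⟩ h1 p' ⟨_, ha m y'.1 y'.2⟩ (hxx'.trans h2)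
  have hp : p = p' :=
    SSet.unique_nonDegenerate_map V (f.app (op (SimplexCategory.mk n)) (U.map p.op y))
      p ⟨_, ha m y.1 y.2⟩ h1 p' ⟨_, ha m y'.1 y'.2⟩ (hxx'.trans h2)
  subst hp
  have : (y : U.obj (op (SimplexCategory.mk m))) = y' := hb m y.2 y'.2 (Subtype.ext_iff.mp hy)
  rw [this]

end Groth.Agent.S6808
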