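import Groth.Statements.S6811
import Mathlib
import Groth.Agent.Lib.TruncFin

set_option autoImplicit false
open CategoryTheory CategoryTheory.Limits
universe v u
open CategoryTheory CategoryTheory.SimplicialObject

namespace Groth.Agent.S6811


open CategoryTheory CategoryTheory.Limits Opposite

open Functor

theorem rke_of_factor {A₁ A₂ B C : Type*} [Category A₁] [Category A₂] [Category B] [Category C]
    (j : A₁ ⥤ A₂) (i₂ : A₂ ⥤ B) [i₂.Full] (U : B ⥤ C)
    [(j ⋙ i₂).HasPointwiseRightKanExtension ((j ⋙ i₂) ⋙ U)]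
    [U.IsRightKanExtension (𝟙 ((j ⋙ i₂) ⋙ U))] : U.IsRightKanExtension (𝟙 (i₂ ⋙ U)) := by
  have hP := isPointwiseRightKanExtensionOfIsRightKanExtension (L := j ⋙ i₂) U
    (𝟙 ((j ⋙ i₂) ⋙ U))
  have lift : ∀ G : RightExtension i₂ (i₂ ⋙ U), ∃ γ : G.left ⟶ U,
      whiskerLeft i₂ γ = G.hom ∧ whiskerLeft (j ⋙ i₂) γ = whiskerLeft j G.hom := by
    intro G
    let β' : (j ⋙ i₂) ⋙ G.left ⟶ (j ⋙ i₂) ⋙ U := whiskerLeft j G.hom
    let γ : G.left ⟶ U := liftOfIsRightKanExtension U (𝟙 ((j ⋙ i₂) ⋙ U)) G.left β'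
    have hγ : whiskerLeft (j ⋙ i₂) γ = β' := by
      have := liftOfIsRightKanExtension_fac U (𝟙 ((j ⋙ i₂) ⋙ U)) G.left β'
      simpa using this
    refine ⟨γ, ?_, hγ⟩
    ext a
    apply (hP (i₂.obj a)).hom_ext
    intro s
    obtain ⟨ψ, hψ⟩ := i₂.map_surjective s.hom
    have h1 := congr_app hγ s.right
    dsimp [β'] at h1
    simp only [RightExtension.coneAt_π_app, RightExtension.mk_hom,
      NatTrans.id_app]
    change γ.app (i₂.obj a) ≫ U.map s.hom ≫ 𝟙 _ = G.hom.app a ≫ U.map s.hom ≫ 𝟙 _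
    rw [Category.comp_id, ← γ.naturality]
    change G.left.map s.hom ≫ γ.app (i₂.obj (j.obj s.right)) = _
    rw [h1, ← hψ]
    exact (G.hom.naturality ψ)
  choose γ h1 h2 using lift
  refine ⟨⟨IsTerminal.ofUniqueHom (fun G => CostructuredArrow.homMk (γ G) (by
      change i₂.whiskerLeft (γ G) ≫ 𝟙 _ = G.hom
      rw [Category.comp_id]
      exact h1 G)) (fun G φ => ?_)⟩⟩
  apply CostructuredArrow.hom_ext
  apply hom_ext_of_isRightKanExtension U (𝟙 ((j ⋙ i₂) ⋙ U))
  have h3 := CostructuredArrow.w φ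
  change i₂.whiskerLeft φ.left ≫ 𝟙 _ = G.hom at h3
  rw [Category.comp_id] at h3
  change whiskerLeft (j ⋙ i₂) φ.left ≫ 𝟙 _ = whiskerLeft (j ⋙ i₂) (γ G) ≫ 𝟙 _
  rw [Category.comp_id, Category.comp_id, h2 G, ← h3]
  rfl

theorem main {C : Type u} [Category.{v} C] [HasFiniteLimits C] (U : SimplicialObject C) {n m : ℕ}
    (h : n ≤ m) [U.IsCoskeletal n] : U.IsCoskeletal m := by
  constructor
  haveI h1 : ((SimplexCategory.Truncated.incl n m h).op ⋙
      (SimplexCategory.Truncated.inclusion m).op).HasPointwiseRightKanExtension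
      (((SimplexCategory.Truncated.incl n m h).op ⋙
        (SimplexCategory.Truncated.inclusion m).op) ⋙ U) :=
    Groth.Agent.TruncFin.right n ((SimplexCategory.Truncated.inclusion n).op ⋙ U)
  haveI h2 : U.IsRightKanExtension (𝟙 (((SimplexCategory.Truncated.incl n m h).op ⋙
        (SimplexCategory.Truncated.inclusion m).op) ⋙ U)) :=
    IsCoskeletal.isRightKanExtension (X := U) (n := n)
  exact rke_of_factor (SimplexCategory.Truncated.incl n m h).op
    (SimplexCategory.Truncated.inclusion m).op U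

/-- In a category with finite limits, an `n`-coskeletal simplicial object is `m`-coskeletal for every `m
≥ n`. -/
theorem result {C : Type u} [Category.{v} C] [HasFiniteLimits C] (U : SimplicialObject C) {n m : ℕ} (h : n ≤ m) [U.IsCoskeletal n] : U.IsCoskeletal m := by
  exact main U h

end Groth.Agent.S6811
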