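import Groth.Statements.S6813
import Mathlib
import Groth.Agent.Lib.TruncFin

set_option autoImplicit false
open CategoryTheory CategoryTheory.Limits
universe v u
open CategoryTheory CategoryTheory.SimplicialObject

namespace Groth.Agent.S6813


open CategoryTheory CategoryTheory.Limits Opposite

open Functor Opposite SimplexCategory Simplicial

section conn
variable (k : ℕ) (hk : 1 ≤ k) (n : ℕ)

abbrev L := (SimplexCategory.Truncated.inclusion k).op

def vtx (i : Fin (n + 1)) : StructuredArrow (op ⦋n⦌) (L k) :=
  StructuredArrow.mk (Y := op (⟨⦋0⦌, by simp⟩ : SimplexCategory.Truncated k))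
    (SimplexCategory.const ⦋0⦌ ⦋n⦌ i).op

include hk in
def edge (i j : Fin (n + 1)) (h : i ≤ j) : StructuredArrow (op ⦋n⦌) (L k) :=
  StructuredArrow.mk (Y := op (⟨⦋1⦌, by simpa using hk⟩ : SimplexCategory.Truncated k))
    (SimplexCategory.mkOfLe i j h).op

def edgeL (i j : Fin (n + 1)) (h : i ≤ j) : edge k hk n i j h ⟶ vtx k n i :=
  StructuredArrow.homMk
    (Quiver.Hom.op (ObjectProperty.homMk (SimplexCategory.const ⦋0⦌ ⦋1⦌ 0)))
    (by
      apply Quiver.Hom.unop_inj
      apply SimplexCategory.Hom.ext
      ext a
      rfl)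

def edgeR (i j : Fin (n + 1)) (h : i ≤ j) : edge k hk n i j h ⟶ vtx k n j :=
  StructuredArrow.homMk
    (Quiver.Hom.op (ObjectProperty.homMk (SimplexCategory.const ⦋0⦌ ⦋1⦌ 1)))
    (by
      apply Quiver.Hom.unop_inj
      apply SimplexCategory.Hom.ext
      ext a
      rfl)

def toVtx (s : StructuredArrow (op ⦋n⦌) (L k)) :
    s ⟶ vtx k n (s.hom.unop.toOrderHom 0) :=
  StructuredArrow.homMk
    (Quiver.Hom.op (ObjectProperty.homMk (SimplexCategory.const ⦋0⦌ s.right.unop.obj 0)))
    (by
      apply Quiver.Hom.unop_inj
      apply SimplexCategory.Hom.ext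
      ext a
      rfl)

include hk in
theorem conn : IsConnected (StructuredArrow (op ⦋n⦌) (L k)) := by
  apply IsConnected.of_induct (j₀ := vtx k n 0)
  intro p h0 hp s
  have hv : ∀ i, vtx k n i ∈ p := by
    intro i
    have he : edge k hk n 0 i (Fin.zero_le i) ∈ p := (hp (edgeL k hk n 0 i _)).mpr h0
    exact (hp (edgeR k hk n 0 i _)).mp he
  exact (hp (toVtx k n s)).mpr (hv _)

end conn

theorem main {C : Type u} [Category.{v} C] [HasFiniteLimits C] (X : C) (k : ℕ) (hk : 1 ≤ k)
    (V : SimplicialObject (Over X)) [V.IsCoskeletal k] :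
    SimplicialObject.IsCoskeletal (V ⋙ Over.forget X) k := by
  constructor
  let F := (SimplexCategory.Truncated.inclusion k).op ⋙ V
  haveI : (L k).HasPointwiseRightKanExtension F := Groth.Agent.TruncFin.right k F
  haveI : ∀ c, PreservesLimit (StructuredArrow.proj c (L k) ⋙ F) (Over.forget X) := by
    intro c
    obtain ⟨c⟩ := c
    induction c using SimplexCategory.rec with | _ n =>
    haveI := conn k hk n
    have : PreservesLimitsOfShape (StructuredArrow (op ⦋n⦌) (L k))
        (CostructuredArrow.proj (𝟭 C) X) := inferInstance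
    exact this.preservesLimit
  haveI : (Over.forget X).PreservesRightKanExtension F (L k) := inferInstance
  have h := PreservesRightKanExtension.preserves (G := Over.forget X) (F := F) (L := L k) V (𝟙 _)
  have e : (Functor.associator (L k) V (Over.forget X)).inv ≫ whiskerRight (𝟙 F) (Over.forget X)
      = 𝟙 ((SimplexCategory.Truncated.inclusion k).op ⋙ (V ⋙ Over.forget X)) := by
    ext a
    simp
    rfl
  rw [e] at h
  exact h

/-- For `k ≥ 1` the forgetful functor from the over category `C/X` to `C` (with `C` having finite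
limits) commutes with `cosk_k`; stated as: a `k`-coskeletal simplicial object of `C/X` has
`k`-coskeletal underlying simplicial object in `C`. -/
theorem result {C : Type u} [Category.{v} C] [HasFiniteLimits C] (X : C) (k : ℕ) (hk : 1 ≤ k) (V : SimplicialObject (Over X)) [V.IsCoskeletal k] : SimplicialObject.IsCoskeletal (V ⋙ Over.forget X) k := by
  exact main X k hk V

end Groth.Agent.S6813
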