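import Groth.Statements.S6815
import Mathlib.CategoryTheory.Limits.Preserves.FunctorCategory

set_option autoImplicit false
open CategoryTheory CategoryTheory.Limits
universe w v u
open CategoryTheory CategoryTheory.SimplicialObject

namespace Groth.Agent.S6815


open Simplicial Opposite

variable {C : Type u} [Category.{v} C] {T : Type w} [HasLimitsOfShape (Discrete T) C]

/-- the evaluated product cone is a limit -/
noncomputable def evalLim (Y : T → SimplicialObject C) (n : SimplexCategoryᵒᵖ) :
    IsLimit (((evaluation _ C).obj n).mapCone (limit.cone (Discrete.functor Y))) :=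
  isLimitOfPreserves ((evaluation _ C).obj n) (limit.isLimit (Discrete.functor Y))

noncomputable def L (Y : T → SimplicialObject C) (n : SimplexCategoryᵒᵖ) {Z : C}
    (k : ∀ t, Z ⟶ (Y t).obj n) : Z ⟶ (∏ᶜ Y).obj n :=
  (evalLim Y n).lift { pt := Z, π := Discrete.natTrans (fun t => k t.as) }

@[reassoc]
lemma L_π (Y : T → SimplicialObject C) (n : SimplexCategoryᵒᵖ) {Z : C}
    (k : ∀ t, Z ⟶ (Y t).obj n) (t : T) : L Y n k ≫ (Pi.π Y t).app n = k t :=
  (evalLim Y n).fac { pt := Z, π := Discrete.natTrans (fun t => k t.as) } ⟨t⟩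

lemma ext_π (Y : T → SimplicialObject C) (n : SimplexCategoryᵒᵖ) {Z : C}
    (f g : Z ⟶ (∏ᶜ Y).obj n) (h : ∀ t, f ≫ (Pi.π Y t).app n = g ≫ (Pi.π Y t).app n) : f = g :=
  (evalLim Y n).hom_ext (fun ⟨t⟩ => h t)

lemma piMap_π_app {X Y : T → SimplicialObject C} (a : ∀ t, X t ⟶ Y t) (t : T) (n) :
    (Limits.Pi.map a).app n ≫ (Pi.π Y t).app n = (Pi.π X t).app n ≫ (a t).app n := by
  rw [← NatTrans.comp_app, ← NatTrans.comp_app, Pi.map_π]

noncomputable def prodHomotopy {X Y : T → SimplicialObject C} (a b : ∀ t, X t ⟶ Y t)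
    (H : ∀ t, SimplicialObject.Homotopy (a t) (b t)) :
    SimplicialObject.Homotopy (Limits.Pi.map a) (Limits.Pi.map b) where
  h {n} i := L Y (op ⦋n + 1⦌) (fun t => (Pi.π X t).app (op ⦋n⦌) ≫ (H t).h i)
  h_zero_comp_δ_zero n := by
    apply ext_π
    intro t
    simp only [Category.assoc, SimplicialObject.δ_naturality, L_π_assoc, piMap_π_app,
      (H t).h_zero_comp_δ_zero]
  h_last_comp_δ_last n := by
    apply ext_π
    intro t
    simp only [Category.assoc, SimplicialObject.δ_naturality, L_π_assoc, piMap_π_app,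
      (H t).h_last_comp_δ_last]
  h_succ_comp_δ_castSucc_of_lt i j hij := by
    apply ext_π
    intro t
    simp only [Category.assoc, SimplicialObject.δ_naturality, L_π_assoc, L_π,
      (H t).h_succ_comp_δ_castSucc_of_lt i j hij, SimplicialObject.δ_naturality_assoc]
  h_succ_comp_δ_castSucc_succ j := by
    apply ext_π
    intro t
    simp only [Category.assoc, SimplicialObject.δ_naturality, L_π_assoc,
      (H t).h_succ_comp_δ_castSucc_succ j]
  h_castSucc_comp_δ_succ_of_lt i j hji := by
    apply ext_π
    intro t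
    simp only [Category.assoc, SimplicialObject.δ_naturality, L_π_assoc, L_π,
      (H t).h_castSucc_comp_δ_succ_of_lt i j hji, SimplicialObject.δ_naturality_assoc]
  h_comp_σ_castSucc_of_le i j hij := by
    apply ext_π
    intro t
    simp only [Category.assoc, SimplicialObject.σ_naturality, L_π_assoc, L_π,
      (H t).h_comp_σ_castSucc_of_le i j hij, SimplicialObject.σ_naturality_assoc]
  h_comp_σ_succ_of_lt i j hji := by
    apply ext_π
    intro t
    simp only [Category.assoc, SimplicialObject.σ_naturality, L_π_assoc, L_π,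
      (H t).h_comp_σ_succ_of_lt i j hji, SimplicialObject.σ_naturality_assoc]

theorem main {X Y : T → SimplicialObject C} (a b : ∀ t, X t ⟶ Y t)
    (h : ∀ t, Nonempty (SimplicialObject.Homotopy (a t) (b t))) :
    Nonempty (SimplicialObject.Homotopy (Limits.Pi.map a) (Limits.Pi.map b)) :=
  ⟨prodHomotopy a b (fun t => (h t).some)⟩

/-- Homotopies between the factors of two product morphisms of simplicial objects assemble to a homotopy
between the products. -/
theorem result {C : Type u} [Category.{v} C] {T : Type w} [HasLimitsOfShape (Discrete T) C] {X Y : T → SimplicialObject C} (a b : ∀ t, X t ⟶ Y t) (h : ∀ t, Nonempty (SimplicialObject.Homotopy (a t) (b t))) : Nonempty (SimplicialObject.Homotopy (Limits.Pi.map a) (Limits.Pi.map b)) := by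
  exact main a b h

end Groth.Agent.S6815
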