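import Groth.Statements.S6820
import Groth.Statements.S6820
import Mathlib

set_option autoImplicit false
universe u
open Smoothing

namespace Groth.Agent.S6820

/-- Let A be a Noetherian ring, M a finite A-module, S a multiplicative subset of A and π an element of
A such that on the localised module S⁻¹M the kernels of multiplication by π and by π² agree. Then
there is an element s of S such that for every n > 0 the kernels of multiplication by sⁿπ and by
(sⁿπ)² on M agree. (Kernel equalities are written as implications, the reverse inclusions being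
automatic.) -/
theorem result {A : Type u} [CommRing A] [IsNoetherianRing A]
    (M : Type u) [AddCommGroup M] [Module A M] [Module.Finite A M] (S : Submonoid A) (π : A)
    (h : ∀ m : LocalizedModule S M, π ^ 2 • m = 0 → π • m = 0) :
    ∃ s ∈ S, ∀ n : ℕ, 0 < n → ∀ m : M, (s ^ n * π) ^ 2 • m = 0 → (s ^ n * π) • m = 0 := by
  classical
  -- kernel of π² is finitely generated
  let K : Submodule A M := LinearMap.ker (LinearMap.lsmul A M (π ^ 2))
  have hKfg : K.FG := IsNoetherian.noetherian K
  obtain ⟨G, hG⟩ := hKfg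
  -- for each element of K find t ∈ S killing π • m
  have hex : ∀ m ∈ K, ∃ t : S, (t : A) • π • m = 0 := by
    intro m hm
    have h1 : π ^ 2 • (LocalizedModule.mk m (1 : S)) = 0 := by
      rw [LocalizedModule.smul'_mk]
      have : π ^ 2 • m = 0 := hm
      rw [this, LocalizedModule.zero_mk]
    have h2 := h _ h1
    rw [LocalizedModule.smul'_mk, ← LocalizedModule.zero_mk (1 : S), LocalizedModule.mk_eq] at h2
    obtain ⟨u, hu⟩ := h2
    refine ⟨u, ?_⟩
    have hu' : u • π • m = 0 := by simpa using hu
    rw [Submonoid.smul_def] at hu'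
    exact hu'
  choose! t ht using hex
  let s₀ : S := ∏ g ∈ G, t g
  have hs₀ : ∀ m ∈ K, (s₀ : A) • π • m = 0 := by
    intro m hm
    rw [← hG] at hm
    refine Submodule.span_induction ?_ ?_ ?_ ?_ hm
    · intro g hg
      have hgK : g ∈ K := hG ▸ Submodule.subset_span hg
      have hdvd : (t g : A) ∣ (s₀ : A) := by
        have : (s₀ : A) = ∏ g ∈ G, (t g : A) := by
          simp [s₀]
        rw [this]
        exact Finset.dvd_prod_of_mem _ (Finset.mem_coe.mp hg)
      obtain ⟨c, hc⟩ := hdvd
      rw [hc, mul_comm, mul_smul, ht g hgK, smul_zero]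
    · simp
    · intro x y _ _ hx hy
      rw [smul_add, smul_add, hx, hy, add_zero]
    · intro a x _ hx
      rw [smul_comm π a x, smul_comm (s₀ : A) a, hx, smul_zero]
  -- stabilisation of s₀-power torsion
  obtain ⟨k₀, hk₀⟩ := Filter.eventually_atTop.mp
    (LinearMap.eventually_iSup_ker_pow_eq (LinearMap.lsmul A M (s₀ : A)))
  let k := k₀ + 1
  have hk : ⨆ m, LinearMap.ker ((LinearMap.lsmul A M (s₀ : A)) ^ m) =
      LinearMap.ker ((LinearMap.lsmul A M (s₀ : A)) ^ k) := hk₀ k (Nat.le_succ _)
  have hpow : ∀ (j : ℕ) (x : M), ((LinearMap.lsmul A M (s₀ : A)) ^ j) x = (s₀ : A) ^ j • x := by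
    intro j x
    induction j with
    | zero => simp
    | succ j ih => rw [pow_succ', Module.End.mul_apply, ih, LinearMap.lsmul_apply, pow_succ', mul_smul]
  let s : S := s₀ ^ k
  have hsval : (s : A) = (s₀ : A) ^ k := by simp [s]
  -- (b): s-power torsion is killed by s
  have hb : ∀ (j : ℕ) (x : M), (s : A) ^ j • x = 0 → (s : A) • x = 0 := by
    intro j x hx
    have hmem : x ∈ ⨆ m, LinearMap.ker ((LinearMap.lsmul A M (s₀ : A)) ^ m) := by
      apply Submodule.mem_iSup_of_mem (k * j)
      rw [LinearMap.mem_ker, hpow, pow_mul, ← hsval]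
      exact hx
    rw [hk, LinearMap.mem_ker, hpow, ← hsval] at hmem
    exact hmem
  -- (a): s π kills K
  have ha : ∀ m ∈ K, (s : A) • π • m = 0 := by
    intro m hm
    have : (s : A) = (s₀ : A) ^ k₀ * s₀ := by rw [hsval, pow_succ]
    rw [this, mul_smul, hs₀ m hm, smul_zero]
  refine ⟨s, s.2, ?_⟩
  intro n hn m hm
  -- step 1: s π² m = 0
  have h1 : (s : A) • (π ^ 2 • m) = 0 := by
    apply hb (2 * n)
    rw [← hm, ← mul_smul]
    congr 1
    ring
  -- step 2: s m ∈ K
  have h2 : (s : A) • m ∈ K := by
    show π ^ 2 • ((s : A) • m) = 0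
    rw [smul_comm]; exact h1
  -- step 3: s² π m = 0
  have h3 : (s : A) ^ 2 • (π • m) = 0 := by
    have := ha _ h2
    rw [pow_two, mul_smul]
    rw [smul_comm π (s : A) m] at this
    exact this
  have h4 : (s : A) • (π • m) = 0 := hb 2 _ h3
  obtain ⟨n', rfl⟩ : ∃ n', n = n' + 1 := ⟨n - 1, by omega⟩
  rw [mul_smul, pow_succ, mul_smul, h4, smul_zero]

end Groth.Agent.S6820
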