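import Groth.Statements.S6855
import Mathlib

set_option autoImplicit false
universe u
open CategoryTheory CategoryTheory.Limits TopologicalSpace
open ModSite

namespace Groth.Agent.S6855


open CategoryTheory CategoryTheory.Limits Opposite

open TopologicalSpace

theorem main {X : TopCat.{u}} (O : TopCat.Sheaf CommRingCat.{u} X) :
    IsClosed {x : X | Nontrivial (O.presheaf.stalk x)} := by
  rw [← isOpen_compl_iff, isOpen_iff_forall_mem_open]
  intro x hx
  have h01 : (0 : O.presheaf.stalk x) = 1 := by
    by_contra h
    exact hx ⟨⟨0, 1, h⟩⟩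
  have hg : O.presheaf.germ ⊤ x trivial (0 : O.presheaf.obj (op ⊤)) =
      O.presheaf.germ ⊤ x trivial 1 := by
    rw [map_zero, map_one]; exact h01
  obtain ⟨W, hxW, iU, iV, hW⟩ := TopCat.Presheaf.germ_eq O.presheaf x (U := ⊤) (V := ⊤) trivial trivial _ _ hg
  refine ⟨W, ?_, W.isOpen, hxW⟩
  intro y hy
  show ¬ Nontrivial (O.presheaf.stalk y)
  have h1 := congrArg (O.presheaf.germ W y hy) hW
  rw [map_zero, map_one, map_zero, map_one] at h1
  intro hnt
  exact zero_ne_one h1

/-- Let X be a topological space and O a sheaf of rings on X. Then the support of O, the set of points x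
with nonzero stalk O_x, is closed in X. -/
theorem result {X : TopCat.{u}} (O : TopCat.Sheaf CommRingCat.{u} X) :
    IsClosed {x : X | Nontrivial (O.presheaf.stalk x)} := by
  exact main O

end Groth.Agent.S6855
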