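import Groth.Statements.S6864
import Mathlib

set_option autoImplicit false
universe u
open TensorProduct
open CAlg

namespace Groth.Agent.S6864

/-- Let `I` be an ideal of a commutative ring `R` contained in the Jacobson radical and let `φ : P → P'`
be an `R`-linear map between finite projective `R`-modules. If the induced map `P/IP → P'/IP'` is
bijective, then `φ` is bijective. -/
theorem result {R : Type u} [CommRing R] (I : Ideal R)
    (hI : I ≤ Ideal.jacobson (⊥ : Ideal R)) {P P' : Type u}
    [AddCommGroup P] [Module R P] [Module.Finite R P] [Module.Projective R P]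
    [AddCommGroup P'] [Module R P'] [Module.Finite R P'] [Module.Projective R P'] (φ : P →ₗ[R] P')
    (h : Function.Bijective (φ.baseChange (R ⧸ I))) : Function.Bijective φ := by
  classical
  have hbc : ∀ p : P, φ.baseChange (R ⧸ I) ((1 : R ⧸ I) ⊗ₜ[R] p) = (1 : R ⧸ I) ⊗ₜ[R] φ p := fun p => by
    rw [LinearMap.baseChange_tmul]
  -- surjectivity
  have hsurj : Function.Surjective φ := by
    rw [← LinearMap.range_eq_top, eq_top_iff]
    refine Submodule.le_of_le_smul_of_le_jacobson_bot (I := I) Module.Finite.fg_top hI ?_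
    intro p' _
    obtain ⟨y, hy⟩ := h.2 ((1 : R ⧸ I) ⊗ₜ[R] p')
    obtain ⟨p, rfl⟩ := TensorProduct.mk_surjective R P (R ⧸ I) Ideal.Quotient.mk_surjective y
    rw [TensorProduct.mk_apply, hbc] at hy
    have hk : p' - φ p ∈ LinearMap.ker (TensorProduct.mk R (R ⧸ I) P' 1) := by
      rw [LinearMap.mem_ker, map_sub, TensorProduct.mk_apply, TensorProduct.mk_apply, hy, sub_self]
    rw [LinearMap.ker_tensorProductMk] at hk
    have : p' = φ p + (p' - φ p) := by abel
    rw [this]
    exact Submodule.add_mem_sup ⟨p, rfl⟩ hk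
  refine ⟨?_, hsurj⟩
  -- injectivity
  obtain ⟨s, hs⟩ := Module.projective_lifting_property φ LinearMap.id hsurj
  have hs' : ∀ y, φ (s y) = y := fun y => by
    have := LinearMap.congr_fun hs y
    simpa using this
  let π : P →ₗ[R] P := LinearMap.id - s.comp φ
  have hπker : ∀ p, π p ∈ LinearMap.ker φ := by
    intro p
    simp only [π, LinearMap.mem_ker, LinearMap.sub_apply, LinearMap.id_apply, LinearMap.comp_apply,
      map_sub, hs', sub_self]
  have hπid : ∀ k ∈ LinearMap.ker φ, π k = k := by
    intro k hk
    rw [LinearMap.mem_ker] at hk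
    simp only [π, LinearMap.sub_apply, LinearMap.id_apply, LinearMap.comp_apply, hk, map_zero,
      sub_zero]
  have hKeq : LinearMap.ker φ = LinearMap.range π := by
    apply le_antisymm
    · intro k hk
      exact ⟨k, hπid k hk⟩
    · rintro _ ⟨p, rfl⟩
      exact hπker p
  have hKfg : (LinearMap.ker φ).FG := by
    rw [hKeq, LinearMap.range_eq_map]
    exact Submodule.FG.map _ Module.Finite.fg_top
  have hKle : LinearMap.ker φ ≤ I • LinearMap.ker φ := by
    intro k hk
    have h1 : (1 : R ⧸ I) ⊗ₜ[R] k = 0 := by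
      apply h.1
      rw [hbc, map_zero, LinearMap.mem_ker.1 hk, TensorProduct.tmul_zero]
    have h2 : k ∈ LinearMap.ker (TensorProduct.mk R (R ⧸ I) P 1) := by
      rw [LinearMap.mem_ker, TensorProduct.mk_apply, h1]
    rw [LinearMap.ker_tensorProductMk] at h2
    have h3 : π k ∈ Submodule.map π (I • (⊤ : Submodule R P)) := Submodule.mem_map_of_mem h2
    rw [Submodule.map_smul'', Submodule.map_top, ← hKeq, hπid k hk] at h3
    exact h3
  have hK0 := Submodule.eq_bot_of_le_smul_of_le_jacobson_bot I _ hKfg hKle hI
  exact LinearMap.ker_eq_bot.1 hK0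

end Groth.Agent.S6864
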