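import Groth.Statements.S6866
import Mathlib
import Groth.Agent.Lib.helper4.TorsionFreeEmb

set_option autoImplicit false
universe u
open TensorProduct
open CAlg

namespace Groth.Agent.S6866

/-- If `M` is a torsion free module over a domain `R` and `R → R'` is a flat ring map to another domain,
then `R' ⊗_R M` is torsion free over `R'`. -/
theorem result (R R' : Type u) [CommRing R] [IsDomain R] [CommRing R']
    [IsDomain R'] [Algebra R R'] [Module.Flat R R'] (M : Type u) [AddCommGroup M] [Module R M]
    [Module.IsTorsionFree R M] : Module.IsTorsionFree R' (R' ⊗[R] M) := by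
  classical
  refine ⟨fun {r'} hr' => ?_⟩
  suffices h : ∀ z : R' ⊗[R] M, r' • z = 0 → z = 0 by
    intro x y hxy
    have hxy' : r' • x = r' • y := hxy
    have := h (x - y) (by rw [smul_sub]; exact sub_eq_zero.mpr hxy')
    exact sub_eq_zero.mp this
  intro z hz
  obtain ⟨N', hfin, hsub⟩ := TensorProduct.exists_finite_submodule_right_of_setFinite
    ({z} : Set (R' ⊗[R] M)) (Set.finite_singleton z)
  obtain ⟨z', hz'⟩ := hsub (Set.mem_singleton z)
  haveI := hfin
  obtain ⟨n, j, hj⟩ := Groth.Agent.H4.H4_exists_injective_of_torsionFree R N'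
  -- the R'-linear injective map R' ⊗ N' → (Fin n → R')
  let φ : R' ⊗[R] N' →ₗ[R'] (Fin n → R') :=
    (TensorProduct.piScalarRight R R' R' (Fin n)).toLinearMap ∘ₗ
      TensorProduct.AlgebraTensorModule.lTensor R' R' j
  have hφ : Function.Injective φ := by
    refine (TensorProduct.piScalarRight R R' R' (Fin n)).injective.comp ?_
    rw [TensorProduct.AlgebraTensorModule.coe_lTensor]
    exact Module.Flat.lTensor_preserves_injective_linearMap j hj
  haveI : Module.IsTorsionFree R' (R' ⊗[R] N') :=
    Function.Injective.moduleIsTorsionFree φ hφ (fun r m => map_smul φ r m)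
  have hinj : Function.Injective (N'.subtype.lTensor R') :=
    Module.Flat.lTensor_preserves_injective_linearMap _ N'.injective_subtype
  have h1 : (N'.subtype.lTensor R') (r' • z') = 0 := by
    have : (TensorProduct.AlgebraTensorModule.lTensor R' R' N'.subtype) (r' • z') =
        r' • (TensorProduct.AlgebraTensorModule.lTensor R' R' N'.subtype) z' := map_smul _ _ _
    rw [← TensorProduct.AlgebraTensorModule.coe_lTensor (A := R'), this,
      TensorProduct.AlgebraTensorModule.coe_lTensor, hz', hz]
  have h2 : r' • z' = 0 := hinj (by rw [h1, map_zero])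
  have h3 : z' = 0 := (Module.IsTorsionFree.isSMulRegular hr') (by
    show r' • z' = r' • 0
    rw [h2, smul_zero])
  rw [← hz', h3, map_zero]

end Groth.Agent.S6866
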