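import Groth.Statements.S6872
import Mathlib
import Groth.Agent.S6869
import Groth.Agent.S6870

set_option autoImplicit false
universe u
open CAlg

namespace Groth.Agent.S6872

/-- Let `R` be a Noetherian domain and `f : M → M'`, `g : M' → M''` linear maps between finite
`R`-modules with `f` injective and image of `f` equal to kernel of `g` (so `0 → M → M' → M''` is
exact). Then reflexivity of `M'` together with torsion-freeness of `M''` forces `M` to be reflexive. -/
theorem result (R : Type u) [CommRing R] [IsDomain R]
    [IsNoetherianRing R] {M M' M'' : Type u} [AddCommGroup M] [Module R M] [Module.Finite R M]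
    [AddCommGroup M'] [Module R M'] [Module.Finite R M'] [AddCommGroup M''] [Module R M''] [Module.Finite R M'']
    (f : M →ₗ[R] M') (g : M' →ₗ[R] M'') (hf : Function.Injective f) (hfg : Function.Exact f g)
    [Module.IsReflexive R M'] [Module.IsTorsionFree R M''] : Module.IsReflexive R M := by
  classical
  -- M is torsion free as a submodule of the torsion-free M'
  have hM'tf : Module.IsTorsionFree R M' := inferInstance
  have hjM' : Function.Bijective (Module.Dual.eval R M') := Module.bijective_dual_eval R M'
  have hjM'' : Function.Injective (Module.Dual.eval R M'') :=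
    (Groth.Agent.S6869.result R M'').mpr inferInstance
  have hnat : ∀ (A B : Type u) [AddCommGroup A] [Module R A] [AddCommGroup B] [Module R B]
      (h : A →ₗ[R] B) (a : A),
      (Module.Dual.eval R A a).comp h.dualMap = Module.Dual.eval R B (h a) := by
    intro A B _ _ _ _ h a
    ext φ
    simp
  have hjM : Function.Injective (Module.Dual.eval R M) := by
    intro a a' haa'
    apply hf
    apply hjM'.1
    rw [← hnat M M' f a, ← hnat M M' f a', haa']
  refine ⟨hjM, ?_⟩
  intro y
  obtain ⟨c, hc0, -, hc⟩ := Groth.Agent.S6870.result R M
  obtain ⟨x, hx⟩ := hc y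
  obtain ⟨m', hm'⟩ := hjM'.2 (y.comp f.dualMap)
  -- g m' = 0
  have hgm' : g m' = 0 := by
    apply hjM''
    rw [map_zero, ← hnat M' M'' g m', hm']
    ext φ
    simp only [LinearMap.comp_apply, LinearMap.zero_apply]
    have : f.dualMap (g.dualMap φ) = 0 := by
      ext a
      simp only [LinearMap.dualMap_apply, LinearMap.zero_apply]
      rw [hfg.apply_apply_eq_zero, map_zero]
    rw [this, map_zero]
  obtain ⟨m, hm⟩ := (hfg m').mp hgm'
  refine ⟨m, ?_⟩
  -- f x = c • m'
  have hfx : f x = c • m' := by
    apply hjM'.1
    rw [← hnat M M' f x, hx, map_smul, hm']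
    ext φ
    simp
  have hxm : x = c • m := by
    apply hf
    rw [hfx, map_smul, hm]
  have h1 : c • (Module.Dual.eval R M m - y) = 0 := by
    rw [smul_sub, ← map_smul, ← hxm, hx, sub_self]
  have h2 : Module.Dual.eval R M m - y = 0 := by
    ext φ
    have h3 := LinearMap.congr_fun h1 φ
    simp only [LinearMap.smul_apply, LinearMap.zero_apply, smul_eq_mul, mul_eq_zero] at h3
    rcases h3 with h3 | h3
    · exact absurd h3 hc0
    · simpa using h3
  exact sub_eq_zero.mp h2

end Groth.Agent.S6872
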