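import Groth.Statements.S6873
import Mathlib
import Groth.Agent.S6872

set_option autoImplicit false
universe u
open CAlg

namespace Groth.Agent.S6873

/-- For a Noetherian domain `R`, a finite `R`-module `M` is reflexive if and only if `M` admits an
injective `R`-linear map into `Rⁿ`, for some `n`, whose cokernel is torsion free. -/
theorem result (R : Type u) [CommRing R] [IsDomain R]
    [IsNoetherianRing R] (M : Type u) [AddCommGroup M] [Module R M] [Module.Finite R M] :
    Module.IsReflexive R M ↔ ∃ (n : ℕ) (f : M →ₗ[R] (Fin n → R)), Function.Injective f ∧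
      Module.IsTorsionFree R ((Fin n → R) ⧸ LinearMap.range f) := by
  classical
  constructor
  · intro hrefl
    haveI hDfin : Module.Finite R (Module.Dual R M) := by
      obtain ⟨k, p, hp⟩ := Module.Finite.exists_fin' R M
      exact Module.Finite.of_injective p.dualMap (LinearMap.dualMap_injective_of_surjective hp)
    obtain ⟨n, q, hq⟩ := Module.Finite.exists_fin' R (Module.Dual R M)
    let F : M →ₗ[R] (Fin n → R) := LinearMap.pi (fun i => q (Pi.single i 1))
    have hqa : ∀ a : Fin n → R, q a = ∑ i, a i • q (Pi.single i 1) := by
      intro a
      conv_lhs => rw [← Finset.univ_sum_single a]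
      rw [map_sum]
      apply Finset.sum_congr rfl
      intro i _
      rw [← map_smul]
      congr 1
      ext j
      simp [Pi.single_apply]
    have hFq : ∀ (a : Fin n → R) (m : M), q a m = ∑ i, a i * F m i := by
      intro a m
      rw [hqa a]
      simp [F]
    refine ⟨n, F, ?_, ?_⟩
    · intro m m' hmm'
      apply (Module.bijective_dual_eval R M).1
      ext φ
      obtain ⟨a, rfl⟩ := hq φ
      simp only [Module.Dual.eval_apply]
      rw [hFq, hFq, hmm']
    · rw [Module.isTorsionFree_iff_smul_eq_zero]
      intro c x hcx
      by_cases hc : c = 0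
      · left; exact hc
      right
      obtain ⟨v, rfl⟩ := Submodule.Quotient.mk_surjective _ x
      rw [← Submodule.Quotient.mk_smul, Submodule.Quotient.mk_eq_zero] at hcx
      obtain ⟨m, hm⟩ := hcx
      rw [Submodule.Quotient.mk_eq_zero]
      let dv : (Fin n → R) →ₗ[R] R := ∑ i, v i • (LinearMap.proj i : (Fin n → R) →ₗ[R] R)
      have hdv : ∀ a, dv a = ∑ i, v i * a i := by
        intro a
        simp [dv]
      have hker : LinearMap.ker q ≤ LinearMap.ker dv := by
        intro a ha
        rw [LinearMap.mem_ker] at ha ⊢
        have h1 : c * dv a = 0 := by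
          have h2 : q a m = 0 := by rw [ha]; rfl
          rw [hFq, hm] at h2
          rw [hdv, Finset.mul_sum, ← h2]
          apply Finset.sum_congr rfl
          intro i _
          simp only [Pi.smul_apply, smul_eq_mul]
          ring
        exact (mul_eq_zero.mp h1).resolve_left hc
      let y : Module.Dual R (Module.Dual R M) :=
        (Submodule.liftQ _ dv hker).comp (q.quotKerEquivOfSurjective hq).symm.toLinearMap
      have hy : ∀ a, y (q a) = dv a := by
        intro a
        have h3 : (q.quotKerEquivOfSurjective hq).symm (q a) = Submodule.Quotient.mk a := by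
          rw [LinearEquiv.symm_apply_eq]
          rfl
        simp only [y, LinearMap.comp_apply, LinearEquiv.coe_coe, h3]
        rfl
      obtain ⟨m0, hm0⟩ := (Module.bijective_dual_eval R M).2 y
      refine ⟨m0, ?_⟩
      funext i
      have h4 : F m0 i = y (q (Pi.single i 1)) := by
        rw [← hm0]
        rfl
      rw [h4, hy, hdv]
      simp [Pi.single_apply]
  · rintro ⟨n, f, hf, htf⟩
    exact Groth.Agent.S6872.result R f (LinearMap.range f).mkQ hf (LinearMap.exact_map_mkQ_range f)

end Groth.Agent.S6873
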