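import Groth.Statements.S6875
import Mathlib
import Groth.Agent.S6872
import Groth.Agent.Lib.helper4.PiReflexive

set_option autoImplicit false
universe u
open CAlg

namespace Groth.Agent.S6875

/-- Let `R` be a Noetherian domain, `M` a finite `R`-module and `N` a finite reflexive `R`-module. Then
`Hom_R(M, N)` is reflexive. -/
theorem result (R : Type u) [CommRing R] [IsDomain R] [IsNoetherianRing R]
    (M N : Type u) [AddCommGroup M] [Module R M] [Module.Finite R M] [AddCommGroup N] [Module R N] [Module.Finite R N]
    [Module.IsReflexive R N] : Module.IsReflexive R (M →ₗ[R] N) := by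
  classical
  obtain ⟨a, p, hp⟩ := Module.Finite.exists_fin' R M
  have hK : (LinearMap.ker p).FG := IsNoetherian.noetherian _
  obtain ⟨b, r, hr⟩ := (Submodule.fg_iff_exists_fin_linearMap R _).mp hK
  let f : (M →ₗ[R] N) →ₗ[R] ((Fin a → R) →ₗ[R] N) := (LinearMap.llcomp R (Fin a → R) M N).flip p
  let g : ((Fin a → R) →ₗ[R] N) →ₗ[R] ((Fin b → R) →ₗ[R] N) :=
    (LinearMap.llcomp R (Fin b → R) (Fin a → R) N).flip r
  have hfa : ∀ φ : M →ₗ[R] N, f φ = φ.comp p := fun φ => rfl
  have hga : ∀ ψ : (Fin a → R) →ₗ[R] N, g ψ = ψ.comp r := fun ψ => rfl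
  have hf : Function.Injective f := hp.injective_linearMapComp_right
  have hpr : ∀ x, p (r x) = 0 := by
    intro x
    have : r x ∈ LinearMap.ker p := by rw [← hr]; exact ⟨x, rfl⟩
    exact this
  have hfg : Function.Exact f g := by
    intro ψ
    constructor
    · intro h
      have hker : LinearMap.ker p ≤ LinearMap.ker ψ := by
        rw [← hr]
        rintro _ ⟨x, rfl⟩
        rw [hga] at h
        exact LinearMap.congr_fun h x
      refine ⟨(Submodule.liftQ _ ψ hker).comp (p.quotKerEquivOfSurjective hp).symm.toLinearMap, ?_⟩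
      rw [hfa]
      apply LinearMap.ext
      intro x
      have h3 : (p.quotKerEquivOfSurjective hp).symm (p x) = Submodule.Quotient.mk x := by
        rw [LinearEquiv.symm_apply_eq]
        rfl
      simp only [LinearMap.comp_apply, LinearEquiv.coe_coe, h3]
      rfl
    · rintro ⟨φ, rfl⟩
      rw [hga, hfa]
      apply LinearMap.ext
      intro x
      simp [hpr]
  have : Module.IsReflexive R (Fin a → N) := Groth.Agent.H4.H4_pi_reflexive R a N
  have : Module.IsReflexive R ((Fin a → R) →ₗ[R] N) :=
    Module.equiv (Module.piEquiv (Fin a) R N)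
  have : Module.IsTorsionFree R ((Fin b → R) →ₗ[R] N) := by
    rw [Module.isTorsionFree_iff_smul_eq_zero]
    intro c ψ hc
    by_cases hc0 : c = 0
    · left; exact hc0
    right
    apply LinearMap.ext
    intro x
    have := LinearMap.congr_fun hc x
    simp only [LinearMap.smul_apply, LinearMap.zero_apply, smul_eq_zero] at this
    exact this.resolve_left hc0
  exact Groth.Agent.S6872.result R f g hf hfg

end Groth.Agent.S6875
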