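import Groth.Statements.S6876
import Mathlib
import Groth.Agent.Lib.helper5.HomDepth

set_option autoImplicit false
universe u
open CAlg

namespace Groth.Agent.S6876

/-- Let `R` be a Noetherian local ring and `M, N` finite `R`-modules. If `N` has depth `≥ 1` then so
does `Hom_R(M, N)`; if `N` has depth `≥ 2` then so does `Hom_R(M, N)`. -/
theorem result (R : Type u) [CommRing R] [IsNoetherianRing R] [IsLocalRing R]
    (M N : Type u) [AddCommGroup M] [Module R M] [Module.Finite R M] [AddCommGroup N] [Module R N] [Module.Finite R N] :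
    (1 ≤ LocCoh.depth R N → 1 ≤ LocCoh.depth R (M →ₗ[R] N)) ∧
    (2 ≤ LocCoh.depth R N → 2 ≤ LocCoh.depth R (M →ₗ[R] N)) := by
  have hdeg : IsLocalRing.maximalIdeal R • (⊤ : Submodule R N) = ⊤ →
      IsLocalRing.maximalIdeal R • (⊤ : Submodule R (M →ₗ[R] N)) = ⊤ := by
    intro h'
    have hbot : (⊤ : Submodule R N) = ⊥ :=
      Submodule.eq_bot_of_le_smul_of_le_jacobson_bot (IsLocalRing.maximalIdeal R) ⊤
        Module.Finite.fg_top h'.symm.le (IsLocalRing.maximalIdeal_le_jacobson ⊥)
    have hzero : ∀ n : N, n = 0 := fun n => by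
      have hn : n ∈ (⊤ : Submodule R N) := trivial
      rw [hbot] at hn
      exact (Submodule.mem_bot R).mp hn
    refine eq_top_iff.mpr fun φ _ => ?_
    have : φ = 0 := LinearMap.ext fun m => hzero _
    rw [this]
    exact Submodule.zero_mem _
  unfold LocCoh.depth
  constructor
  · intro h
    have h1 : ((1 : ℕ) : ℕ∞) ≤ LocCoh.idealDepth (IsLocalRing.maximalIdeal R) N := by
      exact_mod_cast h
    have := H5HD.H5_le_idealDepth_hom (IsLocalRing.maximalIdeal R) M N 1 (by omega) hdeg h1
    exact_mod_cast this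
  · intro h
    have h2 : ((2 : ℕ) : ℕ∞) ≤ LocCoh.idealDepth (IsLocalRing.maximalIdeal R) N := by
      exact_mod_cast h
    have := H5HD.H5_le_idealDepth_hom (IsLocalRing.maximalIdeal R) M N 2 le_rfl hdeg h2
    exact_mod_cast this

end Groth.Agent.S6876
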