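import Groth.Statements.S6882
import Mathlib

set_option autoImplicit false
universe u
open CAlg

namespace Groth.Agent.S6882

/-- For a finite module `M` over a discrete valuation ring `R`, the evaluation map from `M` to its
double dual `M**` is surjective. -/
theorem result (R : Type u) [CommRing R] [IsDomain R]
    [IsDiscreteValuationRing R] (M : Type u) [AddCommGroup M] [Module R M] [Module.Finite R M] :
    Function.Surjective (Module.Dual.eval R M) := by
  classical
  let T := Submodule.torsion R M
  haveI : Module.IsTorsionFree R (M ⧸ T) := inferInstance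
  haveI : Module.Finite R (M ⧸ T) := inferInstance
  haveI : Module.Free R (M ⧸ T) := Module.free_of_finite_type_torsion_free'
  have hbij := Module.bijective_dual_eval R (M ⧸ T)
  intro ξ
  let ξ' : Module.Dual R (Module.Dual R (M ⧸ T)) := ξ ∘ₗ (Module.Dual.transpose (R := R) T.mkQ)
  obtain ⟨n, hn⟩ := hbij.2 ξ'
  obtain ⟨m, rfl⟩ := T.mkQ_surjective n
  refine ⟨m, ?_⟩
  apply LinearMap.ext
  intro φ
  have hφ : T ≤ LinearMap.ker φ := by
    intro x hx
    obtain ⟨a, ha⟩ := (Submodule.mem_torsion_iff x).1 hx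
    have h2 : (a : R) * φ x = 0 := by
      rw [← smul_eq_mul, ← map_smul]
      have : (a : R) • x = 0 := ha
      rw [this, map_zero]
    exact (mul_eq_zero.1 h2).resolve_left (nonZeroDivisors.ne_zero a.2)
  have hψ : (T.liftQ φ hφ) ∘ₗ T.mkQ = φ := T.liftQ_mkQ φ hφ
  have h1 := LinearMap.congr_fun hn (T.liftQ φ hφ)
  have h3 : ξ' (T.liftQ φ hφ) = ξ φ := by
    show ξ (Module.Dual.transpose (R := R) T.mkQ (T.liftQ φ hφ)) = ξ φ
    rw [Module.Dual.transpose_apply, hψ]
  rw [h3] at h1
  rw [← h1]
  show φ m = (T.liftQ φ hφ) (T.mkQ m)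
  rw [← LinearMap.comp_apply, hψ]

end Groth.Agent.S6882
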