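import Groth.Statements.S6899
import Groth.Statements.S6899
import Mathlib
import Groth.Agent.Lib.helper9.H9_Milnor

set_option autoImplicit false
universe u
open TensorProduct
open EtAlg

namespace Groth.Agent.S6899

/-- Let `B' = B ×_A A'` be a fibre square of rings with `A' → A` surjective, and let `(N₁, M₁', φ₁) →
(N₂, M₂', φ₂)` be a morphism of glueing data (a `B`-linear `u : N₁ → N₂` and an `A'`-linear `v : M₁'
→ M₂'` compatible with the `φ_i`) with `u` and `v` surjective. Then the induced map of glued modules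
`N₁ ×_{φ₁} M₁' → N₂ ×_{φ₂} M₂'` is surjective. -/
theorem result (B' B A' A : Type u) [CommRing B'] [CommRing B] [CommRing A'] [CommRing A]
    [Algebra B' B] [Algebra B' A'] [Algebra B A] [Algebra A' A] [Algebra B' A] [IsScalarTower B' B A] [IsScalarTower B' A' A]
    (hsq : EtMil.IsFibreSquare B' B A' A)
    {N₁ N₂ M₁' M₂' : Type u} [AddCommGroup N₁] [Module B N₁] [Module B' N₁] [IsScalarTower B' B N₁]
    [AddCommGroup N₂] [Module B N₂] [Module B' N₂] [IsScalarTower B' B N₂]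
    [AddCommGroup M₁'] [Module A' M₁'] [Module B' M₁'] [IsScalarTower B' A' M₁']
    [AddCommGroup M₂'] [Module A' M₂'] [Module B' M₂'] [IsScalarTower B' A' M₂']
    (φ₁ : A ⊗[B] N₁ ≃ₗ[A] A ⊗[A'] M₁') (φ₂ : A ⊗[B] N₂ ≃ₗ[A] A ⊗[A'] M₂') (u : N₁ →ₗ[B] N₂) (v : M₁' →ₗ[A'] M₂')
    (hc : (v.baseChange A).comp φ₁.toLinearMap = φ₂.toLinearMap.comp (u.baseChange A))
    (hu : Function.Surjective u) (hv : Function.Surjective v) :
    ∀ y : N₂ × M₂', y ∈ EtMil.glue B' φ₂ → ∃ x : N₁ × M₁', x ∈ EtMil.glue B' φ₁ ∧ u x.1 = y.1 ∧ v x.2 = y.2 := by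
  rintro ⟨n2, m2⟩ hy
  have hy' : φ₂ ((1 : A) ⊗ₜ[B] n2) = (1 : A) ⊗ₜ[A'] m2 := hy
  obtain ⟨n1, rfl⟩ := hu n2
  obtain ⟨m', hm'⟩ := H9_Milnor.exists_one_tmul_of_surjective M₁' hsq.1 (φ₁ ((1 : A) ⊗ₜ[B] n1))
  have h1 : (1 : A) ⊗ₜ[A'] (v m') = (1 : A) ⊗ₜ[A'] m2 := by
    have := congrArg (fun f => f ((1 : A) ⊗ₜ[B] n1)) hc
    simp only [LinearMap.comp_apply, LinearEquiv.coe_coe, LinearMap.baseChange_tmul] at this
    rw [← hm', LinearMap.baseChange_tmul] at this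
    rw [this, hy']
  have h2 : (1 : A) ⊗ₜ[A'] (v m' - m2) = 0 := by
    rw [TensorProduct.tmul_sub, h1, sub_self]
  have h3 := H9_Milnor.mem_smul_top_of_one_tmul_eq_zero M₂' hsq.1 _ h2
  have h4 : (RingHom.ker (algebraMap A' A)) • (⊤ : Submodule A' M₂') =
      Submodule.map v ((RingHom.ker (algebraMap A' A)) • (⊤ : Submodule A' M₁')) := by
    rw [Submodule.map_smul'', Submodule.map_top, LinearMap.range_eq_top.2 hv]
  rw [h4] at h3
  obtain ⟨r, hr, hvr⟩ := h3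
  refine ⟨(n1, m' - r), ?_, rfl, ?_⟩
  · show φ₁ ((1 : A) ⊗ₜ[B] n1) = (1 : A) ⊗ₜ[A'] (m' - r)
    rw [TensorProduct.tmul_sub, H9_Milnor.one_tmul_eq_zero_of_mem_smul_top M₁' r hr, sub_zero, hm']
  · show v (m' - r) = m2
    rw [map_sub, hvr]; abel

end Groth.Agent.S6899
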