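import Groth.Statements.S6912
import Mathlib

set_option autoImplicit false
universe u
open TensorProduct
open CAlg

namespace Groth.Agent.S6912

/-- Let `R` be a domain and `M`, `N` two `R`-modules; rank means dimension over the fraction field after
base change. Then `rank (M ⊗_R N) = rank M · rank N`, and when `M` is finitely presented also `rank
Hom_R(M, N) = rank M · rank N`. -/
theorem result (R : Type u) [CommRing R] [IsDomain R] (M N : Type u)
    [AddCommGroup M] [Module R M] [AddCommGroup N] [Module R N] :
    Module.rank R (M ⊗[R] N) = Module.rank R M * Module.rank R N ∧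
    (Module.FinitePresentation R M → Module.rank R (M →ₗ[R] N) = Module.rank R M * Module.rank R N) := by
  have hbc : ∀ (Q : Type u) [AddCommGroup Q] [Module R Q],
      Module.rank (FractionRing R) (FractionRing R ⊗[R] Q) = Module.rank R Q := fun Q _ _ =>
    IsBaseChange.rank_eq (TensorProduct.isBaseChange R Q (FractionRing R))
  constructor
  · rw [← hbc (M ⊗[R] N), ← hbc M, ← hbc N,
      (TensorProduct.AlgebraTensorModule.distribBaseChange R (FractionRing R) M N).rank_eq,
      rank_tensorProduct']
  · intro hfp
    have h1 : Module.rank (FractionRing R)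
        ((FractionRing R ⊗[R] M) →ₗ[FractionRing R] (FractionRing R ⊗[R] N)) =
        Module.rank R (M →ₗ[R] N) := by
      have bc := Module.FinitePresentation.isBaseChange_map R M N (FractionRing R)
      exact @IsBaseChange.rank_eq R (M →ₗ[R] N) _ _ _ (FractionRing R) _ _ _ _
        ((FractionRing R ⊗[R] M) →ₗ[FractionRing R] (FractionRing R ⊗[R] N)) _ _ _ _ _ bc
    have h2 : Module.rank (FractionRing R)
        ((FractionRing R ⊗[R] M) →ₗ[FractionRing R] (FractionRing R ⊗[R] N)) =
        Module.rank (FractionRing R) (FractionRing R ⊗[R] M) *
          Module.rank (FractionRing R) (FractionRing R ⊗[R] N) := by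
      have := Module.rank_linearMap (FractionRing R) (FractionRing R) (FractionRing R ⊗[R] M)
        (FractionRing R ⊗[R] N)
      simpa using this
    rw [← h1, h2, hbc M, hbc N]

end Groth.Agent.S6912
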