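import Groth.Statements.S6917
import Groth.Statements.S6917
import Mathlib
import Groth.Agent.Lib.helper9.H9_MilnorSpec

set_option autoImplicit false
universe u
open CategoryTheory
open EtAlg

namespace Groth.Agent.S6917

/-- Let `B' = B ×_A A'` be a fibre square of rings with `A' → A` surjective. Then `Spec(B') = Spec(B)
⨿_{Spec(A)} Spec(A')`: the square of prime spectra is a pushout of topological spaces. -/
theorem result (B' B A' A : Type u) [CommRing B'] [CommRing B] [CommRing A'] [CommRing A]
    [Algebra B' B] [Algebra B' A'] [Algebra B A] [Algebra A' A] [Algebra B' A] [IsScalarTower B' B A] [IsScalarTower B' A' A]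
    (hsq : EtMil.IsFibreSquare B' B A' A) :
    IsPushout (TopCat.ofHom (ContinuousMap.mk (PrimeSpectrum.comap (algebraMap B A)) (PrimeSpectrum.continuous_comap _))) (TopCat.ofHom (ContinuousMap.mk (PrimeSpectrum.comap (algebraMap A' A)) (PrimeSpectrum.continuous_comap _)))
      (TopCat.ofHom (ContinuousMap.mk (PrimeSpectrum.comap (algebraMap B' B)) (PrimeSpectrum.continuous_comap _)))
      (TopCat.ofHom (ContinuousMap.mk (PrimeSpectrum.comap (algebraMap B' A')) (PrimeSpectrum.continuous_comap _))) := by
  have w : (TopCat.ofHom (ContinuousMap.mk (PrimeSpectrum.comap (algebraMap B A)) (PrimeSpectrum.continuous_comap _))) ≫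
      (TopCat.ofHom (ContinuousMap.mk (PrimeSpectrum.comap (algebraMap B' B)) (PrimeSpectrum.continuous_comap _))) =
      (TopCat.ofHom (ContinuousMap.mk (PrimeSpectrum.comap (algebraMap A' A)) (PrimeSpectrum.continuous_comap _))) ≫
      (TopCat.ofHom (ContinuousMap.mk (PrimeSpectrum.comap (algebraMap B' A')) (PrimeSpectrum.continuous_comap _))) := by
    refine TopCat.hom_ext (ContinuousMap.ext fun 𝔯 => ?_)
    exact H9_MilnorSpec.comap_comm (B' := B') (B := B) (A' := A') 𝔯
  have hT : IsPushout
      ((forget TopCat).map (TopCat.ofHom (ContinuousMap.mk (PrimeSpectrum.comap (algebraMap B A)) (PrimeSpectrum.continuous_comap _))))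
      ((forget TopCat).map (TopCat.ofHom (ContinuousMap.mk (PrimeSpectrum.comap (algebraMap A' A)) (PrimeSpectrum.continuous_comap _))))
      ((forget TopCat).map (TopCat.ofHom (ContinuousMap.mk (PrimeSpectrum.comap (algebraMap B' B)) (PrimeSpectrum.continuous_comap _))))
      ((forget TopCat).map (TopCat.ofHom (ContinuousMap.mk (PrimeSpectrum.comap (algebraMap B' A')) (PrimeSpectrum.continuous_comap _)))) := by
    haveI : Mono ((forget TopCat).map (TopCat.ofHom (ContinuousMap.mk (PrimeSpectrum.comap (algebraMap B' B)) (PrimeSpectrum.continuous_comap _)))) := by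
      rw [CategoryTheory.mono_iff_injective]
      exact PrimeSpectrum.comap_injective_of_surjective _ (H9_Milnor.surj_B hsq)
    apply CategoryTheory.Limits.Types.isPushout_of_isPullback_of_mono'
    · rw [CategoryTheory.Limits.Types.isPullback_iff]
      refine ⟨?_, ?_, ?_⟩
      · rw [← Functor.map_comp, ← Functor.map_comp, w]
      · rintro x y ⟨_, h2⟩
        exact PrimeSpectrum.comap_injective_of_surjective _ hsq.1 h2
      · intro 𝔭 𝔮 h
        have h' : PrimeSpectrum.comap (algebraMap B' B) 𝔭 = PrimeSpectrum.comap (algebraMap B' A') 𝔮 := h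
        show ∃ x₁ : PrimeSpectrum A, PrimeSpectrum.comap (algebraMap B A) x₁ = 𝔭 ∧
          PrimeSpectrum.comap (algebraMap A' A) x₁ = 𝔮
        have h1 : RingHom.ker (algebraMap B' B) ≤ (PrimeSpectrum.comap (algebraMap B' A') 𝔮).asIdeal := by
          rw [← h']
          intro b' hb'
          rw [PrimeSpectrum.comap_asIdeal, Ideal.mem_comap, (RingHom.mem_ker).1 hb']
          exact 𝔭.asIdeal.zero_mem
        have h2 := (H9_MilnorSpec.ker_le_comap_iff hsq 𝔮).1 h1
        have h3 : 𝔮 ∈ PrimeSpectrum.zeroLocus (RingHom.ker (algebraMap A' A) : Set A') := h2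
        rw [← _root_.range_comap_of_surjective _ _ hsq.1] at h3
        obtain ⟨𝔯, rfl⟩ := h3
        refine ⟨𝔯, ?_, rfl⟩
        apply PrimeSpectrum.comap_injective_of_surjective _ (H9_Milnor.surj_B hsq)
        rw [h']
        exact H9_MilnorSpec.comap_comm (B' := B') (B := B) (A' := A') 𝔯
    · show Set.range (PrimeSpectrum.comap (algebraMap B' B)) ⊔
        Set.range (PrimeSpectrum.comap (algebraMap B' A')) = Set.univ
      rw [Set.eq_univ_iff_forall]
      intro 𝔭'
      rcases H9_MilnorSpec.cases_prime hsq 𝔭' with ⟨𝔭, rfl⟩ | ⟨𝔮, rfl, _⟩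
      · exact Or.inl ⟨𝔭, rfl⟩
      · exact Or.inr ⟨𝔮, rfl⟩
    · intro x₃ y₃ hx hy hxy
      have hrange : Set.range (PrimeSpectrum.comap (algebraMap A' A)) =
          PrimeSpectrum.zeroLocus (RingHom.ker (algebraMap A' A) : Set A') :=
        _root_.range_comap_of_surjective _ _ hsq.1
      have hx' : ¬ (RingHom.ker (algebraMap A' A) ≤ (x₃ : PrimeSpectrum A').asIdeal) := by
        intro hle
        apply hx
        show x₃ ∈ Set.range (PrimeSpectrum.comap (algebraMap A' A))
        rw [hrange]
        exact hle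
      have hy' : ¬ (RingHom.ker (algebraMap A' A) ≤ (y₃ : PrimeSpectrum A').asIdeal) := by
        intro hle
        apply hy
        show y₃ ∈ Set.range (PrimeSpectrum.comap (algebraMap A' A))
        rw [hrange]
        exact hle
      exact H9_MilnorSpec.comap_injOn hsq x₃ y₃ hx' hy' hxy
  refine ⟨⟨w⟩, ?_⟩
  have hc : Limits.IsColimit ((forget TopCat).mapCocone (Limits.PushoutCocone.mk _ _ w)) :=
    (Limits.isColimitMapCoconePushoutCoconeEquiv (forget TopCat) w).symm hT.isColimit
  rw [TopCat.nonempty_isColimit_iff_eq_coinduced _ hc]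
  refine TopologicalSpace.ext_iff.2 fun U => ?_
  rw [isOpen_iSup_iff]
  constructor
  · intro hU j
    rw [isOpen_coinduced]
    exact (ConcreteCategory.hom ((Limits.PushoutCocone.mk _ _ w).ι.app j)).continuous.isOpen_preimage U hU
  · intro h
    have hl := h Limits.WalkingSpan.left
    have hr := h Limits.WalkingSpan.right
    rw [isOpen_coinduced] at hl hr
    have hl' : IsOpen (PrimeSpectrum.comap (algebraMap B' B) ⁻¹' U) := hl
    have hr' : IsOpen (PrimeSpectrum.comap (algebraMap B' A') ⁻¹' U) := hr
    have hcl : IsClosed (Uᶜ : Set (PrimeSpectrum B')) := by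
      apply H9_MilnorSpec.isClosed_of_preimages hsq
      · rw [Set.preimage_compl, isClosed_compl_iff]; exact hl'
      · rw [Set.preimage_compl, isClosed_compl_iff]; exact hr'
    exact isClosed_compl_iff.1 hcl

end Groth.Agent.S6917
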