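import Groth.Statements.S6920
import Mathlib

set_option autoImplicit false
universe u
open CategoryTheory CategoryTheory.Limits MonoidalCategory
open DRing

namespace Groth.Agent.S6920


open CategoryTheory CategoryTheory.Limits Opposite


open CategoryTheory CategoryTheory.Limits Opposite TensorProduct

noncomputable section
section
variable {R S : Type u} [CommRing R] [CommRing S] (φ : R →+* S)

/-- for a ring epimorphism, additive maps between `S`-modules which are `R`-linear are `S`-linear. -/
lemma smul_comm_of_epi (hφ : Epi (CommRingCat.ofHom φ)) {M N : Type u} [AddCommGroup M] [AddCommGroup N]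
    [Module S M] [Module S N] (g : M →+ N) (hg : ∀ (r : R) (m : M), g (φ r • m) = φ r • g m)
    (s : S) (m : M) : g (s • m) = s • g m := by
  letI : Algebra R S := φ.toAlgebra
  have hepi : Algebra.IsEpi R S := by
    rw [← CommRingCat.epi_iff_epi]
    exact hφ
  have h1 := (Algebra.isEpi_iff_forall_one_tmul_eq R S).1 hepi s
  letI : Module R N := Module.compHom N φ
  haveI : IsScalarTower R S N := ⟨fun r s n => by
    change (φ r * s) • n = φ r • (s • n)
    rw [mul_smul]⟩
  -- the bilinear map (a, b) ↦ a • g (b • m)
  let β : S →ₗ[R] S →ₗ[R] N := LinearMap.mk₂ R (fun a b => a • g (b • m))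
    (fun a a' b => by simp [add_smul])
    (fun r a b => by simp [smul_assoc])
    (fun a b b' => by simp [add_smul, smul_add])
    (fun r a b => by
      change a • g ((φ r * b) • m) = φ r • (a • g (b • m))
      rw [mul_smul, hg, smul_comm])
  have h2 := congr_arg (TensorProduct.lift β) h1
  simp only [TensorProduct.lift.tmul, β, LinearMap.mk₂_apply, one_smul] at h2
  exact h2


/-- restriction of scalars along a ring epimorphism is fully faithful. -/
def ff (hφ : Epi (CommRingCat.ofHom φ)) : (ModuleCat.restrictScalars.{u} φ).FullyFaithful where
  preimage {M N} g := ModuleCat.ofHom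
    { toFun := fun m => g.hom m
      map_add' := fun a b => g.hom.map_add a b
      map_smul' := fun s m => by
        refine smul_comm_of_epi φ hφ (M := M) (N := N)
          ({ toFun := fun m => g.hom m, map_zero' := g.hom.map_zero, map_add' := g.hom.map_add } : M →+ N)
          (fun r m => ?_) s m
        exact g.hom.map_smul r m }
  map_preimage g := by ext; rfl
  preimage_map f := by ext; rfl

end

section
variable {C D : Type*} [Category C] [Category D] [Preadditive C] [Preadditive D]
  {ι : Type*} {c : ComplexShape ι}

/-- homotopies can be lifted along a fully faithful additive functor. -/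
def liftHomotopy (F : C ⥤ D) [F.Additive] (hF : F.FullyFaithful) {K L : HomologicalComplex C c}
    {f g : K ⟶ L}
    (h : Homotopy ((F.mapHomologicalComplex c).map f) ((F.mapHomologicalComplex c).map g)) :
    Homotopy f g where
  hom i j := hF.preimage (h.hom i j)
  zero i j hij := hF.map_injective (by
    rw [hF.map_preimage, F.map_zero]
    exact h.zero i j hij)
  comm i := hF.map_injective (by
    have H := h.comm i
    simp only [dNext, prevD, AddMonoidHom.mk'_apply] at H ⊢
    rw [F.map_add, F.map_add, F.map_comp, F.map_comp, hF.map_preimage, hF.map_preimage]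
    exact H)

end

section
variable {R S : Type u} [CommRing R] [CommRing S] (φ : R →+* S)

theorem main (hφ : Epi (CommRingCat.ofHom φ)) (I : DRing.Cx S)
    [CochainComplex.IsKInjective ((DRing.restrictCx φ).obj I)] : CochainComplex.IsKInjective I := by
  refine ⟨fun {K} f hK => ?_⟩
  have hK' : ((DRing.restrictCx φ).obj K).Acyclic := by
    intro i
    exact (hK i).map (ModuleCat.restrictScalars.{u} φ)
  obtain ⟨h⟩ := CochainComplex.IsKInjective.nonempty_homotopy_zero
    (L := (DRing.restrictCx φ).obj I)
    (((ModuleCat.restrictScalars.{u} φ).mapHomologicalComplex (ComplexShape.up ℤ)).map f) hK'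
  have h' : Homotopy (((ModuleCat.restrictScalars.{u} φ).mapHomologicalComplex (ComplexShape.up ℤ)).map f)
      (((ModuleCat.restrictScalars.{u} φ).mapHomologicalComplex (ComplexShape.up ℤ)).map 0) :=
    h.trans (Homotopy.ofEq (Functor.map_zero _ _ _).symm)
  exact ⟨liftHomotopy _ (ff φ hφ) h'⟩

end
end

/-- For an epimorphism of rings `φ : R → S` and a complex `I•` of `S`-modules, if the underlying complex
of `R`-modules of `I•` is K-injective, then `I•` itself is K-injective over `S`. -/
theorem result (R S : Type u) [CommRing R] [CommRing S] (φ : R →+* S)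
    (hφ : Epi (CommRingCat.ofHom φ)) (I : DRing.Cx S)
    [CochainComplex.IsKInjective ((DRing.restrictCx φ).obj I)] : CochainComplex.IsKInjective I := by
  exact main φ hφ I

end Groth.Agent.S6920
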