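import Groth.Statements.S6921
import Groth.Statements.S6921
import Mathlib
import Groth.Agent.Lib.helper9.H9_MilnorGlue
import Groth.Agent.S6916

set_option autoImplicit false
universe u
open TensorProduct
open EtAlg

namespace Groth.Agent.S6921

/-- Let `B' = B ×_A A'` be a fibre square of rings with `A' → A` surjective, `B' → D'` a ring map, and
`D = D' ⊗_{B'} B`, `C' = D' ⊗_{B'} A'`, `C = D' ⊗_{B'} A`. Let `N` be a finite `D`-module, `M'` a
finite `C'`-module and `φ : N ⊗_D C ≅ M' ⊗_{C'} C` a `C`-linear isomorphism. Then the glued module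
`N ×_φ M'` is a finite `D'`-module. -/
theorem result (B' B A' A : Type u) [CommRing B'] [CommRing B] [CommRing A'] [CommRing A]
    [Algebra B' B] [Algebra B' A'] [Algebra B A] [Algebra A' A] [Algebra B' A] [IsScalarTower B' B A] [IsScalarTower B' A' A]
    (hsq : EtMil.IsFibreSquare B' B A' A)
    (D' D C' C : Type u) [CommRing D'] [CommRing D] [CommRing C'] [CommRing C]
    [Algebra B' D'] [Algebra B D] [Algebra A' C'] [Algebra A C]
    [Algebra D' D] [Algebra B' D] [IsScalarTower B' B D] [IsScalarTower B' D' D] [Algebra.IsPushout B' B D' D]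
    [Algebra D' C'] [Algebra B' C'] [IsScalarTower B' A' C'] [IsScalarTower B' D' C'] [Algebra.IsPushout B' A' D' C']
    [Algebra D' C] [Algebra B' C] [IsScalarTower B' A C] [IsScalarTower B' D' C] [Algebra.IsPushout B' A D' C]
    [Algebra D C] [IsScalarTower D' D C] [Algebra B C] [IsScalarTower B A C] [IsScalarTower B D C]
    [Algebra C' C] [IsScalarTower D' C' C] [Algebra A' C] [IsScalarTower A' A C] [IsScalarTower A' C' C]
    {N M' : Type u} [AddCommGroup N] [Module D N] [Module D' N] [IsScalarTower D' D N]
    [AddCommGroup M'] [Module C' M'] [Module D' M'] [IsScalarTower D' C' M'] (φ : C ⊗[D] N ≃ₗ[C] C ⊗[C'] M')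
    [Module.Finite D N] [Module.Finite C' M'] : Module.Finite D' ↥(EtMil.glue D' φ) := by
  have hs : Function.Surjective (algebraMap C' C) := by
    intro c
    obtain ⟨w, rfl⟩ := (Algebra.IsPushout.equiv B' A D' C).surjective c
    induction w using TensorProduct.induction_on with
    | zero => exact ⟨0, by simp⟩
    | tmul a d' =>
      obtain ⟨a', rfl⟩ := hsq.1 a
      refine ⟨algebraMap A' C' a' * algebraMap D' C' d', ?_⟩
      rw [Algebra.IsPushout.equiv_tmul, map_mul, ← IsScalarTower.algebraMap_apply,
        ← IsScalarTower.algebraMap_apply, ← IsScalarTower.algebraMap_apply]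
    | add x y hx hy =>
      obtain ⟨c1, h1⟩ := hx
      obtain ⟨c2, h2⟩ := hy
      exact ⟨c1 + c2, by rw [map_add, h1, h2, map_add]⟩
  have hcD : ∀ x : B ⊗[B'] D', Algebra.IsPushout.equiv B' A D' C
      ((IsScalarTower.toAlgHom B' B A).toLinearMap.rTensor D' x) =
      algebraMap D C (Algebra.IsPushout.equiv B' B D' D x) := by
    intro x
    induction x using TensorProduct.induction_on with
    | zero => simp
    | tmul b d' =>
      rw [LinearMap.rTensor_tmul, Algebra.IsPushout.equiv_tmul, Algebra.IsPushout.equiv_tmul,
        map_mul]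
      show algebraMap A C (algebraMap B A b) * _ = _
      rw [← IsScalarTower.algebraMap_apply, ← IsScalarTower.algebraMap_apply,
        ← IsScalarTower.algebraMap_apply]
    | add x y hx hy => simp only [map_add, hx, hy]
  have hcC' : ∀ y : A' ⊗[B'] D', Algebra.IsPushout.equiv B' A D' C
      ((IsScalarTower.toAlgHom B' A' A).toLinearMap.rTensor D' y) =
      algebraMap C' C (Algebra.IsPushout.equiv B' A' D' C' y) := by
    intro y
    induction y using TensorProduct.induction_on with
    | zero => simp
    | tmul a' d' =>
      rw [LinearMap.rTensor_tmul, Algebra.IsPushout.equiv_tmul, Algebra.IsPushout.equiv_tmul,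
        map_mul]
      show algebraMap A C (algebraMap A' A a') * _ = _
      rw [← IsScalarTower.algebraMap_apply, ← IsScalarTower.algebraMap_apply,
        ← IsScalarTower.algebraMap_apply]
    | add x y hx hy => simp only [map_add, hx, hy]
  have hl : ∀ (d : D) (c' : C'), algebraMap D C d = algebraMap C' C c' →
      ∃ d' : D', algebraMap D' D d' = d ∧ algebraMap D' C' d' = c' := by
    intro d c' h
    have hxy : (IsScalarTower.toAlgHom B' B A).toLinearMap.rTensor D'
          ((Algebra.IsPushout.equiv B' B D' D).symm d) =
        (IsScalarTower.toAlgHom B' A' A).toLinearMap.rTensor D'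
          ((Algebra.IsPushout.equiv B' A' D' C').symm c') := by
      apply (Algebra.IsPushout.equiv B' A D' C).injective
      rw [hcD, hcC', AlgEquiv.apply_symm_apply, AlgEquiv.apply_symm_apply, h]
    obtain ⟨d', h1, h2⟩ := Groth.Agent.S6916.result B' B A' A hsq D' _ _ hxy
    refine ⟨d', ?_, ?_⟩
    · have := congrArg (Algebra.IsPushout.equiv B' B D' D) h1
      rw [AlgEquiv.apply_symm_apply, Algebra.IsPushout.equiv_tmul, map_one, one_mul] at this
      exact this
    · have := congrArg (Algebra.IsPushout.equiv B' A' D' C') h2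
      rw [AlgEquiv.apply_symm_apply, Algebra.IsPushout.equiv_tmul, map_one, one_mul] at this
      exact this
  exact H9_MilnorGlue.glue_finite_of_weak φ hs hl

end Groth.Agent.S6921
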