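import Groth.Statements.S6934
import Mathlib

set_option autoImplicit false
universe u
open EtAlg

namespace Groth.Agent.S6934

/-- Let `s : B → R`, `t : R' → R` be ring maps and `B' = B ×_R R'` the fibre product ring, i.e. a ring
`B'` with maps `p : B' → B`, `q : B' → R'`, `s ∘ p = t ∘ q`, such that `(p, q)` is injective with
image the pairs `(b, r')` with `s(b) = t(r')`. Let `h ∈ B'` with images `g = p(h)`, `f = q(h)`. Then
the square of localizations `B'_h → B_g`, `B'_h → R'_f`, `B_g → R_{s(g)}`, `R'_f → R_{t(f)} =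
R_{s(g)}` (the induced maps) is cartesian as well: `B'_h = B_g ×_{R_{s(g)}} R'_f`. -/
theorem result {B R R' B' : Type u} [CommRing B] [CommRing R] [CommRing R'] [CommRing B']
    (s : B →+* R) (t : R' →+* R) (p : B' →+* B) (q : B' →+* R') (hc : s.comp p = t.comp q)
    (hinj : ∀ x y : B', p x = p y → q x = q y → x = y) (hsurj : ∀ (b : B) (r' : R'), s b = t r' → ∃ x : B', p x = b ∧ q x = r')
    (h : B') (Bh Bg Rf Rsg : Type u) [CommRing Bh] [CommRing Bg] [CommRing Rf] [CommRing Rsg]
    [Algebra B' Bh] [IsLocalization.Away h Bh] [Algebra B Bg] [IsLocalization.Away (p h) Bg]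
    [Algebra R' Rf] [IsLocalization.Away (q h) Rf] [Algebra R Rsg] [IsLocalization.Away (s (p h)) Rsg]
    (pL : Bh →+* Bg) (qL : Bh →+* Rf) (sL : Bg →+* Rsg) (tL : Rf →+* Rsg)
    (hp : pL.comp (algebraMap B' Bh) = (algebraMap B Bg).comp p) (hq : qL.comp (algebraMap B' Bh) = (algebraMap R' Rf).comp q)
    (hs : sL.comp (algebraMap B Bg) = (algebraMap R Rsg).comp s) (ht : tL.comp (algebraMap R' Rf) = (algebraMap R Rsg).comp t) :
    (∀ x y : Bh, pL x = pL y → qL x = qL y → x = y) ∧
    (∀ (b : Bg) (r : Rf), sL b = tL r → ∃ x : Bh, pL x = b ∧ qL x = r) := by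
  classical
  have hpa : ∀ z : B', pL (algebraMap B' Bh z) = algebraMap B Bg (p z) :=
    fun z => RingHom.congr_fun hp z
  have hqa : ∀ z : B', qL (algebraMap B' Bh z) = algebraMap R' Rf (q z) :=
    fun z => RingHom.congr_fun hq z
  have hsa : ∀ z : B, sL (algebraMap B Bg z) = algebraMap R Rsg (s z) :=
    fun z => RingHom.congr_fun hs z
  have hta : ∀ z : R', tL (algebraMap R' Rf z) = algebraMap R Rsg (t z) :=
    fun z => RingHom.congr_fun ht z
  have hca : ∀ z : B', s (p z) = t (q z) := fun z => RingHom.congr_fun hc z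
  have hu : IsUnit (algebraMap B' Bh h) := IsLocalization.Away.algebraMap_isUnit h
  have key : ∀ a b : B', algebraMap B Bg (p a) = algebraMap B Bg (p b) →
      algebraMap R' Rf (q a) = algebraMap R' Rf (q b) →
      algebraMap B' Bh a = algebraMap B' Bh b := by
    intro a b h1 h2
    obtain ⟨m, hm⟩ := IsLocalization.Away.exists_of_eq (p h) h1
    obtain ⟨m', hm'⟩ := IsLocalization.Away.exists_of_eq (q h) h2
    have e : h ^ (m + m') * a = h ^ (m + m') * b := by
      apply hinj
      · have : p (h ^ (m + m') * a) = p h ^ m' * (p h ^ m * p a) := by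
          rw [map_mul, map_pow]; ring
        rw [this, hm]
        rw [map_mul, map_pow]; ring
      · have : q (h ^ (m + m') * a) = q h ^ m * (q h ^ m' * q a) := by
          rw [map_mul, map_pow]; ring
        rw [this, hm']
        rw [map_mul, map_pow]; ring
    have e2 := congrArg (algebraMap B' Bh) e
    rw [map_mul, map_mul] at e2
    have hup : IsUnit (algebraMap B' Bh (h ^ (m + m'))) := by
      rw [map_pow]; exact hu.pow _
    exact hup.mul_left_cancel e2
  refine ⟨?_, ?_⟩
  · intro x y hxy1 hxy2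
    obtain ⟨n, a, ha⟩ := IsLocalization.Away.surj h x
    obtain ⟨n', b, hb⟩ := IsLocalization.Away.surj h y
    have e1 : algebraMap B' Bh (h ^ n' * a) = x * algebraMap B' Bh h ^ (n + n') := by
      rw [map_mul, map_pow, ← ha]; ring
    have e2 : algebraMap B' Bh (h ^ n * b) = y * algebraMap B' Bh h ^ (n + n') := by
      rw [map_mul, map_pow, ← hb]; ring
    have hE : algebraMap B' Bh (h ^ n' * a) = algebraMap B' Bh (h ^ n * b) := by
      apply key
      · rw [← hpa, ← hpa, e1, e2, map_mul, map_mul, hxy1]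
      · rw [← hqa, ← hqa, e1, e2, map_mul, map_mul, hxy2]
    rw [e1, e2] at hE
    exact (hu.pow (n + n')).mul_right_cancel hE
  · intro b r hbr
    obtain ⟨n, β, hβ⟩ := IsLocalization.Away.surj (p h) b
    obtain ⟨n', ρ, hρ⟩ := IsLocalization.Away.surj (q h) r
    have hβ' : b * algebraMap B Bg (p h) ^ (n + n') = algebraMap B Bg (p h ^ n' * β) := by
      rw [map_mul, map_pow, ← hβ]; ring
    have hρ' : r * algebraMap R' Rf (q h) ^ (n + n') = algebraMap R' Rf (q h ^ n * ρ) := by
      rw [map_mul, map_pow, ← hρ]; ring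
    have hst : algebraMap R Rsg (s (p h ^ n' * β)) = algebraMap R Rsg (t (q h ^ n * ρ)) := by
      rw [← hsa, ← hta, ← hβ', ← hρ', map_mul, map_mul, map_pow, map_pow, hsa, hta, hbr, hca]
    obtain ⟨m, hm⟩ := IsLocalization.Away.exists_of_eq (s (p h)) hst
    have hcompat : s (p h ^ m * (p h ^ n' * β)) = t (q h ^ m * (q h ^ n * ρ)) := by
      rw [map_mul, map_pow, hm, hca]
      simp only [map_mul, map_pow]
    obtain ⟨x', hx'p, hx'q⟩ := hsurj _ _ hcompat
    obtain ⟨v, hv⟩ := (hu.pow (m + (n + n'))).exists_left_inv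
    have hpv : pL v * algebraMap B Bg (p h) ^ (m + (n + n')) = 1 := by
      rw [← hpa, ← map_pow, ← map_mul, hv, map_one]
    have hqv : qL v * algebraMap R' Rf (q h) ^ (m + (n + n')) = 1 := by
      rw [← hqa, ← map_pow, ← map_mul, hv, map_one]
    refine ⟨algebraMap B' Bh x' * v, ?_, ?_⟩
    · rw [map_mul, hpa, hx'p]
      have : algebraMap B Bg (p h ^ m * (p h ^ n' * β))
          = b * algebraMap B Bg (p h) ^ (m + (n + n')) := by
        rw [map_mul, map_pow, ← hβ']; ring
      rw [this, mul_assoc, mul_comm _ (pL v), hpv, _root_.mul_one]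
    · rw [map_mul, hqa, hx'q]
      have : algebraMap R' Rf (q h ^ m * (q h ^ n * ρ))
          = r * algebraMap R' Rf (q h) ^ (m + (n + n')) := by
        rw [map_mul, map_pow, ← hρ']; ring
      rw [this, mul_assoc, mul_comm _ (qL v), hqv, _root_.mul_one]

end Groth.Agent.S6934
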