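import Groth.Statements.S6935
import Mathlib
import Groth.Agent.Lib.helper2.PCModule

set_option autoImplicit false
universe u
open CategoryTheory CategoryTheory.Limits
attribute [local instance] HasDerivedCategory.standard
open DRing

namespace Groth.Agent.S6935

/-- Let R be a commutative ring and M an R-module, viewed as the complex M[0] in D(R). Then M[0] is
0-pseudo-coherent exactly when M is finitely generated over R, and M[0] is (-1)-pseudo-coherent
exactly when M admits a finite presentation over R. -/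
theorem result (R : Type u) [CommRing R]
    (M : Type u) [AddCommGroup M] [Module R M] :
    (DRing.IsPseudoCoherentModule R 0 M ↔ Module.Finite R M) ∧
      (DRing.IsPseudoCoherentModule R (-1) M ↔ Module.FinitePresentation R M) := by
  refine ⟨⟨?_, ?_⟩, ⟨?_, ?_⟩⟩
  · rintro ⟨E, a, b, α, hv, hff, hiso, hepi⟩
    exact Groth.Agent.H2.H2_finite_of_pc_zero E (ModuleCat.of R M) α
      (fun i => ⟨(hff i).1, by haveI := (hff i).2; exact Module.Projective.of_free⟩)
      ⟨b, fun i hi => hv i (Or.inr hi)⟩ hiso hepi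
  · intro hM
    obtain ⟨n, f, hf⟩ := Module.Finite.exists_fin' R M
    let F0 : ModuleCat.{u} R := ModuleCat.of R (Fin n → R)
    let F1 : ModuleCat.{u} R := ModuleCat.of R PUnit.{u + 1}
    let g : F0 ⟶ ModuleCat.of R M := ModuleCat.ofHom f
    haveI : CategoryTheory.Epi g := (ModuleCat.epi_iff_surjective _).2 hf
    have w : (0 : F1 ⟶ F0) ≫ g = 0 := CategoryTheory.Limits.zero_comp
    exact ⟨Groth.Agent.H2.H2dbl (0 : F1 ⟶ F0), -1, 0, Groth.Agent.H2.H2dblα 0 g w,
      Groth.Agent.H2.H2dbl_isZero_X _,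
      Groth.Agent.H2.H2dbl_finfree _ ⟨inferInstance, inferInstance⟩ ⟨inferInstance, inferInstance⟩,
      fun i hi => Groth.Agent.H2.H2dblα_isIso_pos _ _ _ i hi,
      Groth.Agent.H2.H2dblα_epi_zero _ _ _⟩
  · rintro ⟨E, a, b, α, hv, hff, hiso, hepi⟩
    exact Groth.Agent.H2.H2_fp_of_pc_negOne E (ModuleCat.of R M) α
      (fun i => ⟨(hff i).1, by haveI := (hff i).2; exact Module.Projective.of_free⟩)
      ⟨b, fun i hi => hv i (Or.inr hi)⟩ hiso
  · intro hM
    obtain ⟨n, m, f, g', hf, hex⟩ := Module.FinitePresentation.exists_fin' R M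
    let F0 : ModuleCat.{u} R := ModuleCat.of R (Fin n → R)
    let F1 : ModuleCat.{u} R := ModuleCat.of R (Fin m → R)
    let g : F0 ⟶ ModuleCat.of R M := ModuleCat.ofHom f
    let d : F1 ⟶ F0 := ModuleCat.ofHom g'
    haveI : CategoryTheory.Epi g := (ModuleCat.epi_iff_surjective _).2 hf
    have w : d ≫ g = 0 := by
      apply ModuleCat.hom_ext
      apply LinearMap.ext
      intro x
      exact hex.apply_apply_eq_zero x
    have hE : (CategoryTheory.ShortComplex.mk d g w).Exact := by
      rw [CategoryTheory.ShortComplex.ShortExact.moduleCat_exact_iff_function_exact]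
      exact hex
    refine ⟨Groth.Agent.H2.H2dbl d, -1, 0, Groth.Agent.H2.H2dblα d g w,
      Groth.Agent.H2.H2dbl_isZero_X _,
      Groth.Agent.H2.H2dbl_finfree _ ⟨inferInstance, inferInstance⟩ ⟨inferInstance, inferInstance⟩,
      ?_, Groth.Agent.H2.H2dblα_epi_negOne _ _ _⟩
    intro i hi
    by_cases h0 : i = 0
    · subst h0
      exact Groth.Agent.H2.H2dblα_isIso_zero d g w hE
    · exact Groth.Agent.H2.H2dblα_isIso_pos _ _ _ i (by omega)

end Groth.Agent.S6935
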