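import Groth.Statements.S6966
import Mathlib
import Groth.Agent.Lib.helper2.NearProj

set_option autoImplicit false
universe u
open CategoryTheory CategoryTheory.Limits
attribute [local instance] HasDerivedCategory.standard
open CAlg

namespace Groth.Agent.S6966

/-- Let R be a commutative ring, I an ideal of R and M an R-module. Then the following two conditions
coincide: for each a ∈ I, the endomorphism of M given by multiplication by a can be written as a
composite M → P → M with P some projective R-module; and for every R-module N and every a ∈ I, a
annihilates Ext^1_R(M, N) = Hom(M[0], N[1]) in D(R). -/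
theorem result (R : Type u) [CommRing R] (I : Ideal R) (M : Type u)
    [AddCommGroup M] [Module R M] :
    (∀ a ∈ I, ∃ (P : Type u) (_ : AddCommGroup P) (_ : Module R P) (_ : Module.Projective R P)
        (f : M →ₗ[R] P) (g : P →ₗ[R] M), g ∘ₗ f = a • LinearMap.id) ↔
      ∀ (N : Type u) [AddCommGroup N] [Module R N], ∀ a ∈ I,
        ∀ x : DRing.ExtD R (Dual.inD R M) (Dual.inD R N) 1, a • x = 0 := by
  constructor
  · intro h N _ _ a ha x
    obtain ⟨P, _, _, hP, f, g, hfg⟩ := h a ha
    haveI : CategoryTheory.Projective (ModuleCat.of R P) :=
      (IsProjective.iff_projective (ModuleCat.of R P)).mp hP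
    exact Groth.Agent.H2.H2_nearProj_fwd R (ModuleCat.of R M) (ModuleCat.of R N) a
      (ModuleCat.of R P) (ModuleCat.ofHom f) (ModuleCat.ofHom g) (by
        apply ModuleCat.hom_ext
        apply LinearMap.ext
        intro m
        have := LinearMap.congr_fun hfg m
        simpa using this) x
  · intro h a ha
    let π : (M →₀ R) →ₗ[R] M := Finsupp.linearCombination R id
    have hπ : Function.Surjective π := Finsupp.linearCombination_id_surjective R M
    let i0 : ModuleCat.of R (LinearMap.ker π) ⟶ ModuleCat.of R (M →₀ R) :=
      ModuleCat.ofHom (LinearMap.ker π).subtype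
    let p0 : ModuleCat.of R (M →₀ R) ⟶ ModuleCat.of R M := ModuleCat.ofHom π
    let S : CategoryTheory.ShortComplex (ModuleCat.{u} R) :=
      CategoryTheory.ShortComplex.mk i0 p0 (by
        rw [← ModuleCat.ofHom_comp, LinearMap.comp_ker_subtype]
        rfl)
    have hS : S.ShortExact :=
      { exact := by
          rw [CategoryTheory.ShortComplex.moduleCat_exact_iff_range_eq_ker]
          exact Submodule.range_subtype (LinearMap.ker π)
        mono_f := (ModuleCat.mono_iff_injective _).2 (Submodule.injective_subtype _)
        epi_g := (ModuleCat.epi_iff_surjective _).2 hπ }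
    obtain ⟨f, hf⟩ := Groth.Agent.H2.H2_nearProj_bwd R S hS a (h (LinearMap.ker π) a ha hS.singleδ)
    refine ⟨(M →₀ R), inferInstance, inferInstance, inferInstance, f.hom, π, ?_⟩
    apply LinearMap.ext
    intro m
    have := ConcreteCategory.congr_hom hf m
    simp only [ModuleCat.hom_comp, LinearMap.comp_apply, ModuleCat.hom_smul, ModuleCat.hom_id,
      LinearMap.smul_apply, LinearMap.id_apply] at this
    simp only [LinearMap.comp_apply, LinearMap.smul_apply, LinearMap.id_apply]
    exact this

end Groth.Agent.S6966
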