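import Groth.Statements.S6969
import Mathlib

set_option autoImplicit false
universe u
open CAlg

namespace Groth.Agent.S6969

/-- Let R be a commutative ring and φ : M → N an R-linear map which factors through a projective
R-module. If M is finitely generated, then φ factors through a finitely generated projective
R-module. -/
theorem result (R : Type u) [CommRing R] {M N : Type u} [AddCommGroup M]
    [Module R M] [Module.Finite R M] [AddCommGroup N] [Module R N] (φ : M →ₗ[R] N)
    (h : ∃ (P : Type u) (_ : AddCommGroup P) (_ : Module R P) (_ : Module.Projective R P) (f : M →ₗ[R] P)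
      (g : P →ₗ[R] N), g ∘ₗ f = φ) :
    ∃ (P : Type u) (_ : AddCommGroup P) (_ : Module R P) (_ : Module.Projective R P) (_ : Module.Finite R P)
      (f : M →ₗ[R] P) (g : P →ₗ[R] N), g ∘ₗ f = φ := by
  classical
  obtain ⟨P, _, _, hP, f, g, hfg⟩ := h
  obtain ⟨i, hi⟩ := (Module.projective_def'.1 hP)
  let r : (P →₀ R) →ₗ[R] P := Finsupp.linearCombination R id
  obtain ⟨S, hS⟩ := (Module.Finite.fg_top : (⊤ : Submodule R M).FG)
  let T : Finset P := S.biUnion (fun m => (i (f m)).support)
  let F₀ : Submodule R (P →₀ R) := Finsupp.supported R R (↑T : Set P)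
  have hmem : ∀ m : M, i (f m) ∈ F₀ := by
    have hle : (⊤ : Submodule R M) ≤ F₀.comap (i ∘ₗ f) := by
      rw [← hS, Submodule.span_le]
      intro s hs
      rw [SetLike.mem_coe, Submodule.mem_comap, LinearMap.comp_apply, Finsupp.mem_supported]
      intro x hx
      rw [Finset.mem_coe] at hx ⊢
      exact Finset.mem_biUnion.2 ⟨s, hs, hx⟩
    intro m
    exact hle (Submodule.mem_top : m ∈ ⊤)
  let e : ↥F₀ ≃ₗ[R] ((↑T : Set P) →₀ R) := Finsupp.supportedEquivFinsupp (↑T : Set P)
  haveI : Module.Free R ↥F₀ := Module.Free.of_equiv e.symm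
  haveI : Module.Finite R ↥F₀ := Module.Finite.equiv e.symm
  let f' : M →ₗ[R] ↥F₀ := (i ∘ₗ f).codRestrict F₀ hmem
  let g' : ↥F₀ →ₗ[R] N := g ∘ₗ r ∘ₗ F₀.subtype
  refine ⟨↥F₀, inferInstance, inferInstance, inferInstance, inferInstance, f', g', ?_⟩
  apply LinearMap.ext
  intro m
  change g (r (i (f m))) = φ m
  have : r (i (f m)) = f m := by
    have := congrArg (fun h => h (f m)) hi
    exact this
  rw [this, ← hfg]
  rfl

end Groth.Agent.S6969
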