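import Groth.Statements.S7015
import Groth.Statements.S7015
import Mathlib

set_option autoImplicit false
universe u
open CategoryTheory MonoidalCategory
open DRing

namespace Groth.Agent.S7015

/-- Let R be a commutative ring and M, N R-modules such that N is a left dual of M for the tensor
product of R-modules, i.e. there are a coevaluation R → M ⊗ N and an evaluation N ⊗ M → R satisfying
the triangle identities (an exact pairing). Then M and N are finitely generated projective
R-modules. -/
theorem result (R : Type u) [CommRing R] (M N : Type u) [AddCommGroup M]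
    [Module R M] [AddCommGroup N] [Module R N] [ExactPairing (ModuleCat.of R M) (ModuleCat.of R N)] :
    Module.Finite R M ∧ Module.Projective R M ∧ Module.Finite R N ∧ Module.Projective R N := by
  classical
  let X : ModuleCat.{u} R := ModuleCat.of R M
  let Y : ModuleCat.{u} R := ModuleCat.of R N
  let η : R →ₗ[R] TensorProduct R M N := (ExactPairing.coevaluation X Y).hom
  let ε : TensorProduct R N M →ₗ[R] R := (ExactPairing.evaluation X Y).hom
  obtain ⟨S, hS⟩ := TensorProduct.exists_finset (η 1)
  -- identity for `M`
  have hM : ∀ m : M, ∑ i ∈ S, ε (TensorProduct.tmul R i.2 m) • i.1 = m := by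
    intro m
    have h := ExactPairing.evaluation_coevaluation X Y
    have h2 := LinearMap.congr_fun (congrArg ModuleCat.Hom.hom h) (TensorProduct.tmul R (1 : R) m)
    change (LinearMap.lTensor M ε) ((TensorProduct.assoc R M N M)
      ((LinearMap.rTensor M η) (TensorProduct.tmul R 1 m))) =
      (TensorProduct.rid R M).symm ((TensorProduct.lid R M) (TensorProduct.tmul R 1 m)) at h2
    rw [LinearMap.rTensor_tmul, hS, TensorProduct.sum_tmul, map_sum, map_sum,
      TensorProduct.lid_tmul, one_smul] at h2
    have h4 := congrArg (TensorProduct.rid R M) h2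
    rw [LinearEquiv.apply_symm_apply, map_sum] at h4
    refine (Finset.sum_congr rfl fun i _ => ?_).trans h4
    rw [TensorProduct.assoc_tmul, LinearMap.lTensor_tmul, TensorProduct.rid_tmul]
  -- identity for `N`
  have hN : ∀ n : N, ∑ i ∈ S, ε (TensorProduct.tmul R n i.1) • i.2 = n := by
    intro n
    have h := ExactPairing.coevaluation_evaluation X Y
    have h2 := LinearMap.congr_fun (congrArg ModuleCat.Hom.hom h) (TensorProduct.tmul R n (1 : R))
    change (LinearMap.rTensor N ε) ((TensorProduct.assoc R N M N).symm
      ((LinearMap.lTensor N η) (TensorProduct.tmul R n 1))) =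
      (TensorProduct.lid R N).symm ((TensorProduct.rid R N) (TensorProduct.tmul R n 1)) at h2
    rw [LinearMap.lTensor_tmul, hS, TensorProduct.tmul_sum, map_sum, map_sum,
      TensorProduct.rid_tmul, one_smul] at h2
    have h4 := congrArg (TensorProduct.lid R N) h2
    rw [LinearEquiv.apply_symm_apply, map_sum] at h4
    refine (Finset.sum_congr rfl fun i _ => ?_).trans h4
    rw [TensorProduct.assoc_symm_tmul, LinearMap.rTensor_tmul, TensorProduct.lid_tmul]
  -- retractions of finite free modules
  let iM : M →ₗ[R] (S → R) := LinearMap.pi fun i => ε ∘ₗ (TensorProduct.mk R N M i.1.2)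
  let pM : (S → R) →ₗ[R] M := Fintype.linearCombination R (fun i : S => i.1.1)
  have hpiM : ∀ m, pM (iM m) = m := by
    intro m
    rw [Fintype.linearCombination_apply]
    conv_rhs => rw [← hM m, ← Finset.sum_coe_sort S (fun i => ε (TensorProduct.tmul R i.2 m) • i.1)]
    rfl
  let iN : N →ₗ[R] (S → R) := LinearMap.pi fun i => ε ∘ₗ (TensorProduct.mk R N M).flip i.1.1
  let pN : (S → R) →ₗ[R] N := Fintype.linearCombination R (fun i : S => i.1.2)
  have hpiN : ∀ n, pN (iN n) = n := by
    intro n
    rw [Fintype.linearCombination_apply]
    conv_rhs => rw [← hN n, ← Finset.sum_coe_sort S (fun i => ε (TensorProduct.tmul R n i.1) • i.2)]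
    rfl
  have hsM : Function.Surjective pM := fun m => ⟨iM m, hpiM m⟩
  have hsN : Function.Surjective pN := fun n => ⟨iN n, hpiN n⟩
  refine ⟨Module.Finite.of_surjective pM hsM, Module.Projective.of_split iM pM ?_,
    Module.Finite.of_surjective pN hsN, Module.Projective.of_split iN pN ?_⟩
  · exact LinearMap.ext hpiM
  · exact LinearMap.ext hpiN

end Groth.Agent.S7015
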