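import Groth.Statements.S7029
import Mathlib
import Groth.Agent.Lib.helper2.BddTermwiseInd
import Groth.Agent.Lib.helper2.TwoOfThree

set_option autoImplicit false
universe u
open CategoryTheory CategoryTheory.Limits
attribute [local instance] HasDerivedCategory.standard
open DRing

namespace Groth.Agent.S7029

/-- Let R be a commutative ring such that the derived tensor product - ⊗^L_R M exists on D(R) for every
R-module M, and let K be a bounded cochain complex of R-modules each term of which is a perfect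
R-module. Then K is a perfect object of D(R). -/
theorem result (R : Type u) [CommRing R] [∀ M : ModuleCat.{u} R, DRing.HasLTensor R M] (K : DRing.Cx R)
    (a b : ℤ) (hab : DRing.VanishesOutside K a b) (hK : ∀ i : ℤ, DRing.IsPerfectModule R (K.X i)) :
    DRing.IsPerfect R (DRing.toD K) := by
  have conv : ∀ K : Dual.D R, DRing.IsPerfect R K ↔
      Groth.Agent.H2.H2Rep Groth.Agent.H2.H2KPerf K := by
    intro K
    constructor
    · rintro ⟨E, a, b, hb, hf, e⟩
      exact ⟨E, ⟨a, b, hb, hf⟩, e⟩
    · rintro ⟨E, ⟨a, b, hb, hf⟩, e⟩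
      exact ⟨E, a, b, hb, hf, e⟩
  rw [conv]
  refine Groth.Agent.H2.H2_of_bounded_termwise (Groth.Agent.H2.H2Rep Groth.Agent.H2.H2KPerf)
    (fun e h => Groth.Agent.H2.H2Rep_of_iso _ e h) ?_
    (fun K n h => Groth.Agent.H2.H2Rep_shift _ Groth.Agent.H2.H2KPerf_shift K n h)
    (fun T hT h1 h3 => (Groth.Agent.H2.H2Rep_two_of_three _ Groth.Agent.H2.H2KPerf_kproj
      Groth.Agent.H2.H2KPerf_cone Groth.Agent.H2.H2KPerf_shift T hT).2.1 h1 h3)
    a (b - a + 1).toNat K b (by omega) hab ?_
  · intro K' hK'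
    obtain ⟨Z, hZ⟩ : ∃ Z : CochainComplex (ModuleCat.{u} R) ℤ, CategoryTheory.Limits.IsZero Z :=
      ⟨_, (CategoryTheory.Limits.HasZeroObject.zero
        (C := CochainComplex (ModuleCat.{u} R) ℤ)).choose_spec⟩
    have hz : ∀ i : ℤ, CategoryTheory.Limits.IsZero (Z.X i) := fun i =>
      (HomologicalComplex.eval (ModuleCat.{u} R) (ComplexShape.up ℤ) i).map_isZero hZ
    refine ⟨Z, ⟨0, 0, fun i _ => hz i, fun i => ?_⟩,
      ⟨(DerivedCategory.Q.map_isZero hZ).iso hK'⟩⟩
    haveI := ModuleCat.subsingleton_of_isZero (hz i)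
    exact ⟨inferInstance, inferInstance⟩
  · intro i
    exact (conv _).mp (hK i)

end Groth.Agent.S7029
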