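import Groth.Statements.S7036
import Mathlib
import Groth.Agent.Lib.helper2.FinInjDim

set_option autoImplicit false
universe u
open CategoryTheory CategoryTheory.Limits
attribute [local instance] HasDerivedCategory.standard
open DRing

namespace Groth.Agent.S7036

/-- Let R be a commutative ring. (1) If K is an object of D(R) whose cohomology vanishes outside a
bounded range and every cohomology module H^i(K), placed in degree 0, has finite injective
dimension, then K has finite injective dimension. (2) If K is a bounded cochain complex of R-modules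
and every term K^i, placed in degree 0, has finite injective dimension, then K has finite injective
dimension. -/
theorem result (R : Type u) [CommRing R] :
    (∀ (K : Dual.D R), (∃ a b : ℤ, ∀ i : ℤ, (i < a ∨ b < i) → Subsingleton (Dual.HD R K i)) →
        (∀ i : ℤ, DRing.HasFiniteInjDim R (Dual.inD R (Dual.HD R K i))) → DRing.HasFiniteInjDim R K) ∧
      (∀ (K : DRing.Cx R) (a b : ℤ), DRing.VanishesOutside K a b →
        (∀ i : ℤ, DRing.HasFiniteInjDim R (Dual.inD R (K.X i))) → DRing.HasFiniteInjDim R (DRing.toD K)) := by
  have conv : ∀ K : Dual.D R, DRing.HasFiniteInjDim R K ↔ Groth.Agent.H2.H2FinInj K := by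
    intro K
    constructor
    · rintro ⟨a, b, E, hv, hinj, ⟨e⟩⟩
      refine ⟨E, a, b, ?_, ?_, fun n => ?_, ⟨e.symm⟩⟩
      · rw [CochainComplex.isStrictlyGE_iff]
        exact fun i hi => hv i (Or.inl hi)
      · rw [CochainComplex.isStrictlyLE_iff]
        exact fun i hi => hv i (Or.inr hi)
      · exact (Module.injective_iff_injective_object R (E.X n)).mp (hinj n)
    · rintro ⟨I, b, c, h1, h2, h3, ⟨e⟩⟩
      refine ⟨b, c, I, fun i hi => ?_, fun i => ?_, ⟨e.symm⟩⟩
      · rcases hi with hi | hi
        · exact I.isZero_of_isStrictlyGE b i hi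
        · exact I.isZero_of_isStrictlyLE c i hi
      · exact (Module.injective_iff_injective_object R (I.X i)).mpr (h3 i)
  constructor
  · intro K hb hK
    obtain ⟨a, b, hb⟩ := hb
    rw [conv]
    refine Groth.Agent.H2.H2_of_bounded_homology Groth.Agent.H2.H2FinInj
      (fun e h => Groth.Agent.H2.H2FinInj_of_iso e h) Groth.Agent.H2.H2FinInj_zero
      Groth.Agent.H2.H2FinInj_shift Groth.Agent.H2.H2FinInj_ext
      a (b - a + 1).toNat K b (by omega) ?_ ?_
    · intro i hi
      haveI := hb i hi
      exact ModuleCat.isZero_of_subsingleton _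
    · intro i
      exact (conv _).mp (hK i)
  · intro K a b hab hK
    rw [conv]
    refine Groth.Agent.H2.H2_of_bounded_termwise Groth.Agent.H2.H2FinInj
      (fun e h => Groth.Agent.H2.H2FinInj_of_iso e h) Groth.Agent.H2.H2FinInj_zero
      Groth.Agent.H2.H2FinInj_shift Groth.Agent.H2.H2FinInj_ext
      a (b - a + 1).toNat K b (by omega) hab ?_
    intro i
    exact (conv _).mp (hK i)

end Groth.Agent.S7036
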