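import Groth.Statements.S7039
import Groth.Statements.S7039
import Mathlib

set_option autoImplicit false
universe u
open LocCoh

namespace Groth.Agent.S7039

/-- For a finitely generated ideal I of a commutative ring R and any R-module M, the quotient of M by
its submodule of I-power torsion elements has no nonzero element annihilated by I. -/
theorem result {R : Type u} [CommRing R] (I : Ideal R) (hI : I.FG)
    (M : Type u) [AddCommGroup M] [Module R M] :
    LocCoh.torsionBy I (M ⧸ DRing.torsionSub I M) = ⊥ := by
  classical
  rw [eq_bot_iff]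
  intro y hy
  obtain ⟨x, rfl⟩ := Submodule.Quotient.mk_surjective _ y
  rw [Submodule.mem_bot, Submodule.Quotient.mk_eq_zero]
  have hy' : ∀ a ∈ I, a • x ∈ DRing.torsionSub I M := by
    intro a ha
    have h1 := (Submodule.mem_torsionBySet_iff _ _).mp hy ⟨a, ha⟩
    have h2 : (Submodule.Quotient.mk (a • x) : M ⧸ DRing.torsionSub I M) = 0 := h1
    exact (Submodule.Quotient.mk_eq_zero _).mp h2
  obtain ⟨s, hs⟩ := hI
  choose! N hN using hy'
  let Nmax := s.sup N
  refine ⟨Nmax + 1, ?_⟩
  intro a ha
  rw [pow_succ] at ha
  refine Submodule.mul_induction_on ha (fun b hb c hc => ?_) (fun u v hu hv => ?_)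
  · -- c ∈ I = span s
    rw [← hs] at hc
    rw [mul_smul]
    refine Submodule.span_induction (p := fun c _ => b • c • x = 0) (fun d hd => ?_) ?_
      (fun u v _ _ hu hv => ?_) (fun r u _ hu => ?_) hc
    · have hdI : d ∈ I := hs ▸ Submodule.subset_span hd
      have hle : N d ≤ Nmax := Finset.le_sup (f := N) hd
      exact hN d hdI b (Ideal.pow_le_pow_right hle hb)
    · rw [zero_smul, smul_zero]
    · rw [add_smul, smul_add, hu, hv, add_zero]
    · rw [smul_eq_mul, mul_smul, smul_comm b r, hu, smul_zero]
  · rw [add_smul, hu, hv, add_zero]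

end Groth.Agent.S7039
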