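import Groth.Statements.S7040
import Groth.Statements.S7040
import Mathlib

set_option autoImplicit false
universe u
open CategoryTheory
open LocCoh

namespace Groth.Agent.S7040

/-- For a finitely generated ideal I of a commutative ring R, the property of being an I-power torsion
module (every element killed by a power of I) is a Serre class in the category of R-modules: it
holds for 0 and is closed under subobjects, quotients and extensions. -/
theorem result {R : Type u} [CommRing R] (I : Ideal R) (hI : I.FG) :
    ObjectProperty.IsSerreClass (C := ModuleCat.{u} R) (fun M => LocCoh.IsPowerTorsion I M) := by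
  have key : ∀ (M : ModuleCat.{u} R) (x : M) (n : ℕ),
      (∀ a ∈ I ^ n, ∃ k : ℕ, ∀ b ∈ I ^ k, b • (a • x) = 0) →
      ∃ N : ℕ, ∀ c ∈ I ^ N, c • x = 0 := by
    intro M x n h
    obtain ⟨s, hs⟩ := (Ideal.FG.pow (n := n) hI)
    have hsmem : ∀ a ∈ s, a ∈ I ^ n := fun a ha => hs ▸ Submodule.subset_span ha
    choose! k hk using h
    refine ⟨s.sup k + n, ?_⟩
    intro c hc
    rw [pow_add] at hc
    refine Submodule.mul_induction_on hc ?_ ?_
    · intro b hb a' ha'
      rw [← hs] at ha'
      rw [mul_smul]
      refine Submodule.span_induction (p := fun a' _ => b • a' • x = 0) ?_ ?_ ?_ ?_ ha'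
      · intro a ha
        exact hk a (hsmem a ha) b (Ideal.pow_le_pow_right (Finset.le_sup ha) hb)
      · simp
      · intro y z _ _ hy hz
        rw [add_smul, smul_add, hy, hz, add_zero]
      · intro r y _ hy
        rw [smul_eq_mul, mul_smul, smul_comm b r, hy, smul_zero]
    · intro y z hy hz
      rw [add_smul, hy, hz, add_zero]
  exact
  { exists_zero := ⟨ModuleCat.of R PUnit, ModuleCat.isZero_of_subsingleton _,
      fun m => ⟨0, fun a _ => Subsingleton.elim _ _⟩⟩
    prop_of_mono := by
      intro M N f hf hN
      rw [ModuleCat.mono_iff_injective] at hf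
      intro m
      obtain ⟨n, hn⟩ := hN (f m)
      refine ⟨n, fun a ha => hf ?_⟩
      rw [map_smul, hn a ha, map_zero]
    prop_of_epi := by
      intro M N f hf hM
      rw [ModuleCat.epi_iff_surjective] at hf
      intro y
      obtain ⟨m, rfl⟩ := hf y
      obtain ⟨n, hn⟩ := hM m
      refine ⟨n, fun a ha => ?_⟩
      rw [← map_smul, hn a ha, map_zero]
    prop_X₂_of_shortExact := by
      intro S hS h₁ h₃
      intro x
      obtain ⟨n, hn⟩ := h₃ (S.g x)
      apply key S.X₂ x n
      intro a ha
      have h0 : S.g (a • x) = 0 := by rw [map_smul, hn a ha]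
      obtain ⟨y, hy⟩ := (ShortComplex.moduleCat_exact_iff S).1 hS.exact (a • x) h0
      obtain ⟨k, hk⟩ := h₁ y
      refine ⟨k, fun b hb => ?_⟩
      rw [← hy, ← map_smul, hk b hb, map_zero] }

end Groth.Agent.S7040
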