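import Groth.Statements.S7041
import Groth.Statements.S7041
import Groth.Agent.Lib.helper9.H9_TorsionBC

set_option autoImplicit false
universe u
open TensorProduct
open LocCoh

namespace Groth.Agent.S7041

/-- Let R → R' be a homomorphism of commutative rings and I an ideal of R such that the induced map
R/I^n → R'/I^n R' is bijective for every n > 0. Then for every R-module M in which every element is
killed by a power of I, the map M → R' ⊗_R M sending m to 1 ⊗ m is bijective. -/
theorem result {R R' : Type u} [CommRing R] [CommRing R'] [Algebra R R']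
    (I : Ideal R)
    (hq : ∀ n : ℕ, 0 < n → Function.Bijective
      (Ideal.quotientMap (Ideal.map (algebraMap R R') (I ^ n)) (algebraMap R R') Ideal.le_comap_map))
    (M : Type u) [AddCommGroup M] [Module R M] (hM : LocCoh.IsPowerTorsion I M) :
    Function.Bijective (fun m : M => (1 : R') ⊗ₜ[R] m) := by
  have hsurj : ∀ n : ℕ, 0 < n → ∀ x : R', ∃ r : R,
      x - algebraMap R R' r ∈ Groth.Agent.H9.TorsionBC.J (R' := R') I n := by
    intro n hn x
    obtain ⟨q, hq'⟩ := (hq n hn).2 (Ideal.Quotient.mk _ x)
    obtain ⟨r, rfl⟩ := Ideal.Quotient.mk_surjective q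
    rw [Ideal.quotientMap_mk] at hq'
    refine ⟨r, ?_⟩
    rw [← Ideal.Quotient.eq]
    exact hq'.symm
  have hinj : ∀ n : ℕ, 0 < n → ∀ r : R,
      algebraMap R R' r ∈ Groth.Agent.H9.TorsionBC.J (R' := R') I n → r ∈ I ^ n := by
    intro n hn r hr
    have h1 : Ideal.quotientMap (Ideal.map (algebraMap R R') (I ^ n)) (algebraMap R R')
        Ideal.le_comap_map (Ideal.Quotient.mk (I ^ n) r) = 0 := by
      rw [Ideal.quotientMap_mk, Ideal.Quotient.eq_zero_iff_mem]
      exact hr
    have h2 := (hq n hn).1 (h1.trans (map_zero _).symm)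
    exact Ideal.Quotient.eq_zero_iff_mem.1 h2
  exact ⟨Groth.Agent.H9.TorsionBC.mk_one_injective I hsurj hinj hM,
    Groth.Agent.H9.TorsionBC.mk_one_surjective I hsurj hM⟩

end Groth.Agent.S7041
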