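import Groth.Statements.S7052
import Mathlib

set_option autoImplicit false
universe u
attribute [local instance] HasDerivedCategory.standard
open DRing

namespace Groth.Agent.S7052

/-- For a commutative ring A, an ideal I, an A-module M and a submodule M₁ such that both M₁ and M/M₁
(placed in degree 0) are derived complete with respect to I, the module M is derived complete with
respect to I. -/
theorem result {A : Type u} [CommRing A] (I : Ideal A)
    (M : Type u) [AddCommGroup M] [Module A M] (M₁ : Submodule A M)
    (h1 : DRing.IsDerivedComplete I (Dual.inD A M₁)) (h3 : DRing.IsDerivedComplete I (Dual.inD A (M ⧸ M₁))) :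
    DRing.IsDerivedComplete I (Dual.inD A M) := by
  let S : CategoryTheory.ShortComplex (ModuleCat.{u} A) :=
    CategoryTheory.ShortComplex.mk (ModuleCat.ofHom M₁.subtype : ModuleCat.of A M₁ ⟶ ModuleCat.of A M)
      (ModuleCat.ofHom M₁.mkQ : ModuleCat.of A M ⟶ ModuleCat.of A (M ⧸ M₁)) (by
        ext x
        exact (Submodule.Quotient.mk_eq_zero M₁).mpr x.2)
  have hS : S.ShortExact := by
    refine CategoryTheory.ShortComplex.ShortExact.mk' ?_ ?_ ?_
    · rw [CategoryTheory.ShortComplex.moduleCat_exact_iff]
      intro x hx
      exact ⟨⟨x, (Submodule.Quotient.mk_eq_zero M₁).mp hx⟩, rfl⟩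
    · rw [ModuleCat.mono_iff_injective]
      exact Submodule.injective_subtype _
    · rw [ModuleCat.epi_iff_surjective]
      exact Submodule.mkQ_surjective _
  have hT := hS.singleTriangle_distinguished
  intro f hf n
  have hT' := CategoryTheory.Pretriangulated.Triangle.shift_distinguished _ hT n
  haveI s1 : Subsingleton (Dual.inD A (Localization.Away f) ⟶
      ((CategoryTheory.shiftFunctor (CategoryTheory.Pretriangulated.Triangle
        (DerivedCategory (ModuleCat.{u} A))) n).obj hS.singleTriangle).obj₁) := h1 f hf n
  haveI s3 : Subsingleton (Dual.inD A (Localization.Away f) ⟶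
      ((CategoryTheory.shiftFunctor (CategoryTheory.Pretriangulated.Triangle
        (DerivedCategory (ModuleCat.{u} A))) n).obj hS.singleTriangle).obj₃) := h3 f hf n
  have key : ∀ g : Dual.inD A (Localization.Away f) ⟶
      ((CategoryTheory.shiftFunctor (CategoryTheory.Pretriangulated.Triangle
        (DerivedCategory (ModuleCat.{u} A))) n).obj hS.singleTriangle).obj₂, g = 0 := by
    intro g
    obtain ⟨g', hg'⟩ := CategoryTheory.Pretriangulated.Triangle.coyoneda_exact₂ _ hT' g
      (Subsingleton.elim _ _)
    rw [hg', Subsingleton.elim g' 0, CategoryTheory.Limits.zero_comp]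
  exact ⟨fun x y => (key x).trans (key y).symm⟩

end Groth.Agent.S7052
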