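import Groth.Statements.S7078
import Mathlib
import Groth.Agent.Lib.helper2.TwoTermRep

set_option autoImplicit false
universe u
attribute [local instance] HasDerivedCategory.standard
open CategoryTheory
open DRing

namespace Groth.Agent.S7078

/-- For a commutative ring R and an object K of D(R) whose cohomology modules vanish outside degrees -1
and 0, K is represented by a two-term complex K^{-1} → K^0 with K^0 a free R-module. -/
theorem result {R : Type u} [CommRing R] (K : Dual.D R)
    (hK : ∀ i : ℤ, i ≠ -1 → i ≠ 0 → Subsingleton (Dual.HD R K i)) :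
    ∃ E : DRing.Cx R, DRing.VanishesOutside E (-1) 0 ∧ Module.Free R (E.X 0) ∧ Nonempty (DRing.toD E ≅ K) := by
  let H0 : ModuleCat.{u} R := (DerivedCategory.homologyFunctor (ModuleCat.{u} R) 0).obj K
  let F : ModuleCat.{u} R := ModuleCat.of R (H0 →₀ R)
  let πl : (H0 →₀ R) →ₗ[R] H0 := Finsupp.linearCombination R id
  have hπ : Function.Surjective πl :=
    Finsupp.linearCombination_surjective _ Function.surjective_id
  let p : F ⟶ H0 := ModuleCat.ofHom πl
  have hp : CategoryTheory.Epi p := (ModuleCat.epi_iff_surjective p).mpr hπ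
  haveI : Module.Free R F := (inferInstance : Module.Free R (H0 →₀ R))
  haveI : Module.Projective R F := inferInstance
  obtain ⟨N, d, ⟨e⟩, -⟩ := Groth.Agent.H2.H2_twoTerm_rep K hK F p hp
  let SN := (CochainComplex.singleFunctor (ModuleCat.{u} R) 0).obj N
  let SFc := (CochainComplex.singleFunctor (ModuleCat.{u} R) 0).obj F
  let φ : SN ⟶ SFc := (CochainComplex.singleFunctor (ModuleCat.{u} R) 0).map d
  have hX : ∀ i : ℤ, (CochainComplex.mappingCone φ).X i ≅ SN.X (i + 1) ⊞ SFc.X i :=
    fun i => HomologicalComplex.homotopyCofiber.XIsoBiprod φ i (i + 1) rfl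
  refine ⟨CochainComplex.mappingCone φ, ?_, ?_, ⟨e⟩⟩
  · intro i hi
    refine CategoryTheory.Limits.IsZero.of_iso (Groth.Agent.H2.H2_isZero_biprod ?_ ?_) (hX i)
    · exact HomologicalComplex.isZero_single_obj_X _ _ _ _ (by omega)
    · exact HomologicalComplex.isZero_single_obj_X _ _ _ _ (by omega)
  · have hz : CategoryTheory.Limits.IsZero (SN.X (0 + 1)) :=
      HomologicalComplex.isZero_single_obj_X _ _ _ _ (by omega)
    let e0 : (CochainComplex.mappingCone φ).X 0 ≅ F :=
      hX 0 ≪≫ (CategoryTheory.Limits.isoZeroBiprod hz).symm ≪≫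
        (HomologicalComplex.singleObjXSelf (ComplexShape.up ℤ) 0 F)
    exact Module.Free.of_equiv e0.toLinearEquiv.symm

end Groth.Agent.S7078
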