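import Groth.Statements.S7079
import Mathlib
import Groth.Agent.Lib.helper2.TwoTermRep

set_option autoImplicit false
universe u
attribute [local instance] HasDerivedCategory.standard
open CategoryTheory
open DRing

namespace Groth.Agent.S7079

/-- For a Noetherian commutative ring R and an object K of D(R) whose cohomology modules vanish outside
degrees -1 and 0 and are finite modules in those two degrees, K is represented by a two-term complex
K^{-1} → K^0 with K^0 finite free and K^{-1} finite. -/
theorem result {R : Type u} [CommRing R] [IsNoetherianRing R] (K : Dual.D R)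
    (hK : ∀ i : ℤ, i ≠ -1 → i ≠ 0 → Subsingleton (Dual.HD R K i))
    (h1 : Module.Finite R (Dual.HD R K (-1))) (h0 : Module.Finite R (Dual.HD R K 0)) :
    ∃ E : DRing.Cx R, DRing.VanishesOutside E (-1) 0 ∧ Module.Free R (E.X 0) ∧ Module.Finite R (E.X 0) ∧
      Module.Finite R (E.X (-1)) ∧ Nonempty (DRing.toD E ≅ K) := by
  let H0 : ModuleCat.{u} R := (DerivedCategory.homologyFunctor (ModuleCat.{u} R) 0).obj K
  haveI : Module.Finite R H0 := h0
  obtain ⟨n, πl, hπ⟩ := Module.Finite.exists_fin' R H0
  let F : ModuleCat.{u} R := ModuleCat.of R (Fin n → R)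
  let p : F ⟶ H0 := ModuleCat.ofHom πl
  have hp : CategoryTheory.Epi p := (ModuleCat.epi_iff_surjective p).mpr hπ
  haveI : Module.Free R F := (inferInstance : Module.Free R (Fin n → R))
  haveI : Module.Finite R F := (inferInstance : Module.Finite R (Fin n → R))
  haveI : Module.Projective R F := inferInstance
  obtain ⟨N, d, ⟨e⟩, hfin⟩ := Groth.Agent.H2.H2_twoTerm_rep K hK F p hp
  haveI : Module.Finite R N := hfin inferInstance inferInstance h1
  let SN := (CochainComplex.singleFunctor (ModuleCat.{u} R) 0).obj N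
  let SFc := (CochainComplex.singleFunctor (ModuleCat.{u} R) 0).obj F
  let φ : SN ⟶ SFc := (CochainComplex.singleFunctor (ModuleCat.{u} R) 0).map d
  have hX : ∀ i : ℤ, (CochainComplex.mappingCone φ).X i ≅ SN.X (i + 1) ⊞ SFc.X i :=
    fun i => HomologicalComplex.homotopyCofiber.XIsoBiprod φ i (i + 1) rfl
  have hz : CategoryTheory.Limits.IsZero (SN.X (0 + 1)) :=
    HomologicalComplex.isZero_single_obj_X _ _ _ _ (by omega)
  let e0 : (CochainComplex.mappingCone φ).X 0 ≅ F :=
    hX 0 ≪≫ (CategoryTheory.Limits.isoZeroBiprod hz).symm ≪≫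
      (HomologicalComplex.singleObjXSelf (ComplexShape.up ℤ) 0 F)
  have hz' : CategoryTheory.Limits.IsZero (SFc.X (-1)) :=
    HomologicalComplex.isZero_single_obj_X _ _ _ _ (by omega)
  let e1 : (CochainComplex.mappingCone φ).X (-1) ≅ N :=
    hX (-1) ≪≫ (CategoryTheory.Limits.isoBiprodZero hz').symm ≪≫
      (HomologicalComplex.singleObjXSelf (ComplexShape.up ℤ) 0 N)
  refine ⟨CochainComplex.mappingCone φ, ?_, ?_, ?_, ?_, ⟨e⟩⟩
  · intro i hi
    refine CategoryTheory.Limits.IsZero.of_iso (Groth.Agent.H2.H2_isZero_biprod ?_ ?_) (hX i)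
    · exact HomologicalComplex.isZero_single_obj_X _ _ _ _ (by omega)
    · exact HomologicalComplex.isZero_single_obj_X _ _ _ _ (by omega)
  · exact Module.Free.of_equiv e0.toLinearEquiv.symm
  · exact Module.Finite.equiv e0.toLinearEquiv.symm
  · exact Module.Finite.equiv e1.toLinearEquiv.symm

end Groth.Agent.S7079
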