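import Groth.Statements.S7081
import Mathlib
import Groth.Agent.Lib.helper2.TwoTermD

set_option autoImplicit false
universe u
attribute [local instance] HasDerivedCategory.standard
open CategoryTheory
open DRing

namespace Groth.Agent.S7081

/-- Let R be a commutative ring and φ : K₁ → K₂, ψ : K₂ → K₃ morphisms in D(R) between objects whose
cohomology vanishes outside degrees -1 and 0. If φ induces the zero map on H^0 and ψ induces the
zero map on H^{-1}, then the composite K₁ → K₃ is zero. -/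
theorem result {R : Type u} [CommRing R] {K₁ K₂ K₃ : Dual.D R}
    (φ : K₁ ⟶ K₂) (ψ : K₂ ⟶ K₃)
    (h₁ : ∀ i : ℤ, i ≠ -1 → i ≠ 0 → Subsingleton (Dual.HD R K₁ i))
    (h₂ : ∀ i : ℤ, i ≠ -1 → i ≠ 0 → Subsingleton (Dual.HD R K₂ i))
    (h₃ : ∀ i : ℤ, i ≠ -1 → i ≠ 0 → Subsingleton (Dual.HD R K₃ i))
    (hφ : (DerivedCategory.homologyFunctor (ModuleCat.{u} R) 0).map φ = 0)
    (hψ : (DerivedCategory.homologyFunctor (ModuleCat.{u} R) (-1)).map ψ = 0) :
    φ ≫ ψ = 0 := by
  haveI : DerivedCategory.IsLE K₁ 0 :=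
    Groth.Agent.H2.H2_isLE_of_subsingleton K₁ 0 (fun i hi => h₁ i (by omega) (by omega))
  haveI : DerivedCategory.IsLE K₂ 0 :=
    Groth.Agent.H2.H2_isLE_of_subsingleton K₂ 0 (fun i hi => h₂ i (by omega) (by omega))
  haveI : DerivedCategory.IsGE K₂ (-1) :=
    Groth.Agent.H2.H2_isGE_of_subsingleton K₂ (-1) (fun i hi => h₂ i (by omega) (by omega))
  haveI : DerivedCategory.IsGE K₃ (-1) :=
    Groth.Agent.H2.H2_isGE_of_subsingleton K₃ (-1) (fun i hi => h₃ i (by omega) (by omega))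
  exact Groth.Agent.H2.H2_comp_eq_zero_of_homology_maps_zero (-1) 0 (by omega) φ ψ hφ hψ

end Groth.Agent.S7081
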