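import Groth.Statements.S7085
import Groth.Statements.S7085
import Mathlib

set_option autoImplicit false
universe u
open LocCoh

namespace Groth.Agent.S7085

/-- Let R be a commutative ring, I an ideal generated by finitely many elements f_1, …, f_t, and M an
R-module. Then: M has no nonzero element killed by I if and only if it has no nonzero element killed
by I^n for every n ≥ 1; and M has no nonzero element killed by I if and only if an element of M
vanishing in every localization M_{f_i} is zero. -/
theorem result {R : Type u} [CommRing R] {t : ℕ} (f : Fin t → R)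
    (I : Ideal R) (hI : Ideal.span (Set.range f) = I) (M : Type u) [AddCommGroup M] [Module R M] :
    (LocCoh.torsionBy I M = ⊥ ↔ ∀ n : ℕ, 1 ≤ n → LocCoh.torsionBy (I ^ n) M = ⊥) ∧
    (LocCoh.torsionBy I M = ⊥ ↔
      ∀ m : M, (∀ i : Fin t, LocalizedModule.mkLinearMap (Submonoid.powers (f i)) M m = 0) → m = 0) := by
  classical
  have memT : ∀ (J : Ideal R) (y : M), y ∈ LocCoh.torsionBy J M ↔ ∀ c ∈ J, c • y = 0 := by
    intro J y
    change y ∈ Submodule.torsionBySet R M (J : Set R) ↔ _
    rw [Submodule.mem_torsionBySet_iff]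
    exact ⟨fun h c hc => h ⟨c, hc⟩, fun h c => h c.1 c.2⟩
  have botiff : ∀ (J : Ideal R), LocCoh.torsionBy J M = ⊥ ↔ ∀ y : M, (∀ c ∈ J, c • y = 0) → y = 0 := by
    intro J
    rw [Submodule.eq_bot_iff]
    exact ⟨fun h y hy => h y ((memT J y).2 hy), fun h y hy => h y ((memT J y).1 hy)⟩
  have part1 : LocCoh.torsionBy I M = ⊥ → ∀ n : ℕ, 1 ≤ n → LocCoh.torsionBy (I ^ n) M = ⊥ := by
    intro h n hn
    induction n, hn using Nat.le_induction with
    | base => rwa [pow_one]
    | succ n hn ih =>
      rw [botiff] at h ih ⊢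
      intro y hy
      apply ih y
      intro b hb
      apply h (b • y)
      intro c hc
      rw [smul_smul]
      apply hy
      rw [pow_succ']
      exact Ideal.mul_mem_mul hc hb
  refine ⟨⟨part1, fun h => by simpa using h 1 le_rfl⟩, ?_⟩
  have hloc : ∀ (i : Fin t) (m : M),
      LocalizedModule.mkLinearMap (Submonoid.powers (f i)) M m = 0 ↔ ∃ k : ℕ, f i ^ k • m = 0 := by
    intro i m
    rw [IsLocalizedModule.eq_zero_iff (Submonoid.powers (f i))]
    constructor
    · rintro ⟨⟨c, k, rfl⟩, hc⟩
      exact ⟨k, hc⟩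
    · rintro ⟨k, hk⟩
      exact ⟨⟨f i ^ k, k, rfl⟩, hk⟩
  constructor
  · intro h m hm
    have hk : ∀ i : Fin t, ∃ k : ℕ, f i ^ k • m = 0 := fun i => (hloc i m).1 (hm i)
    choose k hk using hk
    set J : Ideal R := Ideal.span (Set.range fun i => f i ^ k i) with hJ
    have hJm : ∀ c ∈ J, c • m = 0 := by
      intro c hc
      induction hc using Submodule.span_induction with
      | mem c hc =>
        obtain ⟨i, rfl⟩ := hc
        exact hk i
      | zero => simp
      | add x y _ _ hx hy => rw [add_smul, hx, hy, add_zero]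
      | smul r x _ hx => rw [smul_eq_mul, mul_smul, hx, smul_zero]
    have hIrad : I ≤ J.radical := by
      rw [← hI, Ideal.span_le]
      rintro _ ⟨i, rfl⟩
      exact ⟨k i, Ideal.subset_span ⟨i, rfl⟩⟩
    have hIfg : I.FG := by
      rw [← hI]
      exact ⟨Finset.univ.image f, by simp⟩
    obtain ⟨N, hN⟩ := Ideal.exists_pow_le_of_le_radical_of_fg hIrad hIfg
    rcases Nat.eq_zero_or_pos N with hN0 | hNpos
    · subst hN0
      have : (1 : R) ∈ J := hN (by simp)
      simpa using hJm 1 this
    · have h2 := part1 h N hNpos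
      rw [botiff] at h2
      exact h2 m (fun c hc => hJm c (hN hc))
  · intro h
    rw [botiff]
    intro y hy
    apply h y
    intro i
    rw [hloc]
    refine ⟨1, ?_⟩
    rw [pow_one]
    apply hy
    rw [← hI]
    exact Ideal.subset_span ⟨i, rfl⟩

end Groth.Agent.S7085
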