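import Groth.Statements.S7087
import Mathlib

set_option autoImplicit false
universe u
open LocCoh

namespace Groth.Agent.S7087

/-- Let R be a commutative ring and f_1, …, f_n elements generating an ideal I. Let M be the module with
generators e_1, …, e_n and relations f_i e_j = f_j e_i. Then e_i ↦ f_i defines a surjection M → I
whose kernel is annihilated by I. Elementwise: if a tuple (a_1, …, a_n) in R^n satisfies Σ a_i f_i =
0, then for every b in I the tuple b • a lies in the submodule of R^n spanned by the vectors f_i e_j
− f_j e_i. -/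
theorem result {R : Type u} [CommRing R] {n : ℕ} (f : Fin n → R)
    (a : Fin n → R) (ha : ∑ i, a i * f i = 0) (b : R) (hb : b ∈ Ideal.span (Set.range f)) :
    b • a ∈ Submodule.span R {v : Fin n → R | ∃ i j : Fin n, v = f i • Pi.single j (1 : R) - f j • Pi.single i (1 : R)} := by
  classical
  obtain ⟨c, hc⟩ := (Ideal.mem_span_range_iff_exists_fun).1 hb
  set W := Submodule.span R {v : Fin n → R | ∃ i j : Fin n, v = f i • Pi.single j (1 : R) - f j • Pi.single i (1 : R)} with hW
  have hgen : ∀ i j : Fin n, f i • Pi.single j (1 : R) - f j • Pi.single i (1 : R) ∈ W :=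
    fun i j => Submodule.subset_span ⟨i, j, rfl⟩
  -- f k • a ∈ W
  have key : ∀ k : Fin n, f k • a ∈ W := by
    intro k
    have h1 : f k • a = ∑ j, a j • (f k • Pi.single j (1 : R) - f j • Pi.single k (1 : R)) := by
      have h2 : ∑ j, a j • (f k • Pi.single j (1 : R) - f j • Pi.single k (1 : R)) =
          f k • (∑ j, a j • Pi.single j (1 : R)) - (∑ j, a j * f j) • Pi.single k (1 : R) := by
        rw [Finset.smul_sum, Finset.sum_smul, ← Finset.sum_sub_distrib]
        refine Finset.sum_congr rfl fun j _ => ?_
        rw [smul_sub, smul_comm (a j) (f k), mul_smul]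
      rw [h2, ha, zero_smul, sub_zero]
      congr 1
      funext l
      simp [Finset.sum_apply, Pi.single_apply]
    rw [h1]
    exact W.sum_mem fun j _ => W.smul_mem _ (hgen k j)
  rw [← hc, Finset.sum_smul]
  refine W.sum_mem fun k _ => ?_
  rw [mul_smul]
  exact W.smul_mem _ (key k)

end Groth.Agent.S7087
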