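import Groth.Statements.S7107
import Mathlib

set_option autoImplicit false
universe u
open CAlg

namespace Groth.Agent.S7107

/-- Let R be a ring and P, Q modules such that P ⊕ Q is isomorphic to a free module F on an infinite
basis. Then P ⊕ F is isomorphic to F. -/
theorem result (R : Type u) [CommRing R] (P Q : Type u) [AddCommGroup P] [Module R P]
    [AddCommGroup Q] [Module R Q] (ι : Type u) [Infinite ι] (e : (P × Q) ≃ₗ[R] (ι →₀ R)) :
    Nonempty ((P × (ι →₀ R)) ≃ₗ[R] (ι →₀ R)) := by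
  have hsplit : ∀ (P Q : Type u) [AddCommGroup P] [Module R P] [AddCommGroup Q] [Module R Q],
      Nonempty ((ℕ →₀ (P × Q)) ≃ₗ[R] (ℕ →₀ P) × (ℕ →₀ Q)) := by
    intro P Q _ _ _ _
    exact ⟨LinearEquiv.ofLinear
      ((Finsupp.mapRange.linearMap (LinearMap.fst R P Q)).prod
        (Finsupp.mapRange.linearMap (LinearMap.snd R P Q)))
      ((Finsupp.mapRange.linearMap (LinearMap.inl R P Q)).coprod
        (Finsupp.mapRange.linearMap (LinearMap.inr R P Q)))
      (by
        apply LinearMap.ext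
        rintro ⟨a, b⟩
        ext i <;> simp)
      (by
        apply LinearMap.ext
        intro a
        ext i <;> simp)⟩
  obtain ⟨e1⟩ := hsplit P Q
  -- shift
  have e2 : (P × (ℕ →₀ P)) ≃ₗ[R] (ℕ →₀ P) :=
    ((LinearEquiv.prodCongr (Finsupp.uniqueLinearEquiv R P (PUnit.unit : PUnit.{1})).symm (LinearEquiv.refl R _)).trans
      (Finsupp.sumFinsuppLEquivProdFinsupp R).symm).trans
      (Finsupp.domLCongr ((Equiv.sumComm _ _).trans Equiv.natSumPUnitEquivNat))
  -- F ≃ ℕ →₀ F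
  obtain ⟨e3⟩ : Nonempty (ι × ℕ ≃ ι) := by
    rw [← Cardinal.eq, Cardinal.mk_prod]
    simp
  have e4 : (ι →₀ R) ≃ₗ[R] (ℕ →₀ (ι →₀ R)) :=
    ((Finsupp.domLCongr (e3.symm.trans (Equiv.prodComm _ _))).trans (Finsupp.curryLinearEquiv R))
  have e5 : (ι →₀ R) ≃ₗ[R] (ℕ →₀ P) × (ℕ →₀ Q) :=
    (e4.trans (Finsupp.mapRange.linearEquiv e.symm)).trans e1
  exact ⟨((LinearEquiv.prodCongr (LinearEquiv.refl R P) e5).trans
    ((LinearEquiv.prodAssoc R P (ℕ →₀ P) (ℕ →₀ Q)).symm.trans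
      (LinearEquiv.prodCongr e2 (LinearEquiv.refl R _)))).trans e5.symm⟩

end Groth.Agent.S7107
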