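import Groth.Statements.S7108
import Mathlib

set_option autoImplicit false
universe u
open CAlg

namespace Groth.Agent.S7108

/-- Every projective module P over a ring R becomes free after adding a suitable free module: P ⊕ F is
free for some free module F (here F is the free module on some index type). -/
theorem result (R : Type u) [CommRing R] (P : Type u) [AddCommGroup P]
    [Module R P] [Module.Projective R P] : ∃ ι : Type u, Module.Free R (P × (ι →₀ R)) := by
  classical
  obtain ⟨s, hs⟩ := (Module.projective_def' (R := R) (P := P)).1 inferInstance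
  let π : (P →₀ R) →ₗ[R] P := Finsupp.linearCombination R id
  have hπs : ∀ p, π (s p) = p := fun p => LinearMap.congr_fun hs p
  let Q : Submodule R (P →₀ R) := LinearMap.ker π
  -- F ≃ P × Q
  let e : (P →₀ R) ≃ₗ[R] P × Q := LinearEquiv.ofLinearMap
    (LinearMap.prod π (LinearMap.codRestrict Q ((LinearMap.id : (P →₀ R) →ₗ[R] (P →₀ R)) - s ∘ₗ π)
      (fun x => by
        show π (((LinearMap.id : (P →₀ R) →ₗ[R] (P →₀ R)) - s ∘ₗ π) x) = 0
        simp only [LinearMap.sub_apply, LinearMap.id_apply, LinearMap.comp_apply, map_sub, hπs,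
          sub_self])))
    (LinearMap.coprod s Q.subtype)
    (by
      apply LinearMap.ext
      rintro ⟨p, ⟨q, hq⟩⟩
      have hq' : π q = 0 := hq
      apply Prod.ext
      · simp [hπs, hq']
      · apply Subtype.ext
        simp [hπs, hq'])
    (by
      apply LinearMap.ext
      intro x
      simp)
  -- splitting of finsupp of a product
  let e2 : (ℕ →₀ P × Q) ≃ₗ[R] (ℕ →₀ P) × (ℕ →₀ Q) := LinearEquiv.ofLinearMap
    (LinearMap.prod (Finsupp.mapRange.linearMap (LinearMap.fst R P Q))
      (Finsupp.mapRange.linearMap (LinearMap.snd R P Q)))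
    (LinearMap.coprod (Finsupp.mapRange.linearMap (LinearMap.inl R P Q))
      (Finsupp.mapRange.linearMap (LinearMap.inr R P Q)))
    (by
      apply LinearMap.ext
      rintro ⟨a, b⟩
      apply Prod.ext
      · ext n; simp
      · ext n; simp)
    (by
      apply LinearMap.ext
      intro f
      ext n <;> simp)
  -- shift
  let e3 : (ℕ →₀ P) ≃ₗ[R] P × (ℕ →₀ P) :=
    (Finsupp.domLCongr ((Equiv.natSumPUnitEquivNat.{0}).symm.trans (Equiv.sumComm ℕ PUnit.{1}))).trans
      ((Finsupp.sumFinsuppLEquivProdFinsupp R).trans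
        (LinearEquiv.prodCongr (Finsupp.LinearEquiv.finsuppUnique R P PUnit.{1}) (LinearEquiv.refl R _)))
  let G := (ℕ × P →₀ R)
  let e1 : (ℕ × P →₀ R) ≃ₗ[R] (ℕ →₀ P) × (ℕ →₀ Q) :=
    (Finsupp.curryLinearEquiv R).trans ((Finsupp.mapRange.linearEquiv e).trans e2)
  let etot : (ℕ × P →₀ R) ≃ₗ[R] P × (ℕ × P →₀ R) :=
    e1.trans ((LinearEquiv.prodCongr e3 (LinearEquiv.refl R _)).trans
      ((LinearEquiv.prodAssoc R P (ℕ →₀ P) (ℕ →₀ Q)).trans
        (LinearEquiv.prodCongr (LinearEquiv.refl R P) e1.symm)))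
  exact ⟨ℕ × P, Module.Free.of_equiv etot⟩

end Groth.Agent.S7108
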