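import Groth.Statements.S7114
import Mathlib
import Groth.Agent.Lib.helper4.LengthQuot

set_option autoImplicit false
universe u
open CAlg

namespace Groth.Agent.S7114

/-- Let R be a Noetherian local ring of Krull dimension one and x an element of the maximal ideal lying
in no minimal prime of R. Then for every n the length of R/xⁿR is at most n times the length of
R/xR, and equality holds when x is a nonzerodivisor. -/
theorem result (R : Type u) [CommRing R] [IsNoetherianRing R] [IsLocalRing R]
    (hdim : ringKrullDim R = 1) (x : R) (hx : x ∈ IsLocalRing.maximalIdeal R)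
    (hmin : ∀ p ∈ minimalPrimes R, x ∉ p) (n : ℕ) :
    Module.length R (R ⧸ Ideal.span {x ^ n}) ≤ (n : ℕ∞) * Module.length R (R ⧸ Ideal.span {x}) ∧
      (x ∈ nonZeroDivisors R →
        Module.length R (R ⧸ Ideal.span {x ^ n}) = (n : ℕ∞) * Module.length R (R ⧸ Ideal.span {x})) := by
  classical
  have key : ∀ n : ℕ, Module.length R (R ⧸ Ideal.span {x ^ n}) ≤
        (n : ℕ∞) * Module.length R (R ⧸ Ideal.span {x}) ∧
      (x ∈ nonZeroDivisors R →
        Module.length R (R ⧸ Ideal.span {x ^ n}) =
          (n : ℕ∞) * Module.length R (R ⧸ Ideal.span {x})) := by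
    intro n
    induction n with
    | zero =>
      have h0 : Module.length R (R ⧸ Ideal.span {x ^ 0}) = 0 := by
        rw [Module.length_eq_zero_iff, pow_zero, Ideal.span_singleton_one]
        exact Submodule.Quotient.subsingleton_iff.2 rfl
      rw [h0]
      simp
    | succ n ih =>
      obtain ⟨h1, h2⟩ := Groth.Agent.H4.H4_length_quot_mul R x (x ^ n)
      rw [← pow_succ'] at h1 h2
      have hcast : ((n + 1 : ℕ) : ℕ∞) * Module.length R (R ⧸ Ideal.span {x}) =
          Module.length R (R ⧸ Ideal.span {x}) + (n : ℕ∞) * Module.length R (R ⧸ Ideal.span {x}) := by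
        push_cast
        rw [add_mul, one_mul, add_comm]
      constructor
      · rw [hcast]
        exact le_trans h1 (add_le_add le_rfl ih.1)
      · intro hx'
        rw [hcast, h2 hx', ih.2 hx']
  exact key n

end Groth.Agent.S7114
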