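import Groth.Statements.S7122
import Mathlib
import Groth.Agent.Lib.helper4.BezoutFree

set_option autoImplicit false
universe u
open CAlg

namespace Groth.Agent.S7122

/-- Let R be a Bézout domain, n ≥ 1, and f_1, ..., f_n elements generating the unit ideal. Then some
invertible n × n matrix over R has (f_1, ..., f_n) as its first row. -/
theorem result (R : Type u) [CommRing R] [IsDomain R] [IsBezout R]
    (n : ℕ) (f : Fin (n + 1) → R) (hf : Ideal.span (Set.range f) = ⊤) :
    ∃ A : Matrix (Fin (n + 1)) (Fin (n + 1)) R, IsUnit A.det ∧ A 0 = f := by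
  classical
  -- the functional
  let φ : (Fin (n + 1) → R) →ₗ[R] R := ∑ i, f i • (LinearMap.proj i : (Fin (n + 1) → R) →ₗ[R] R)
  have hφ : ∀ x, φ x = ∑ i, f i * x i := by
    intro x
    simp [φ, LinearMap.sum_apply]
  have hφsurj : Function.Surjective φ := by
    have h1 : (1 : R) ∈ Ideal.span (Set.range f) := by rw [hf]; trivial
    obtain ⟨c, hc⟩ := (Ideal.mem_span_range_iff_exists_fun).mp h1
    intro r
    refine ⟨r • c, ?_⟩
    rw [map_smul, hφ, smul_eq_mul]
    have : ∑ i, f i * c i = 1 := by rw [← hc]; exact Finset.sum_congr rfl fun i _ => mul_comm _ _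
    rw [this, mul_one]
  obtain ⟨l, hl⟩ := Module.projective_lifting_property φ LinearMap.id hφsurj
  have hex : Function.Exact (LinearMap.ker φ).subtype φ := LinearMap.exact_subtype_ker_map φ
  obtain ⟨e, he1, he2⟩ := ((Function.Exact.split_tfae' hex).out 0 2 rfl rfl).mp
    ⟨Submodule.injective_subtype _, l, hl⟩
  haveI : Module.Finite R (LinearMap.ker φ) :=
    Module.Finite.of_surjective ((LinearMap.fst R _ _).comp e.toLinearMap)
      (Prod.fst_surjective.comp e.surjective)
  haveI hKfree : Module.Free R (LinearMap.ker φ) :=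
    (Groth.Agent.H4.H4_bezout_fg_submodule_free R (Fin (n + 1) → R) (LinearMap.ker φ)
      (Module.Finite.iff_fg.mp inferInstance)).1
  have hrank : Module.finrank R (LinearMap.ker φ) = n := by
    have h1 := e.finrank_eq
    rw [Module.finrank_prod, Module.finrank_fin_fun, Module.finrank_self] at h1
    omega
  let bK := Module.finBasisOfFinrankEq R (LinearMap.ker φ) hrank
  -- the automorphism
  let ψ : (Fin (n + 1) → R) ≃ₗ[R] (Fin (n + 1) → R) :=
    (e.trans (LinearEquiv.prodComm R _ _)).trans
      (((LinearEquiv.refl R R).prodCongr bK.equivFun).trans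
        (Fin.consLinearEquiv R (fun _ : Fin (n + 1) => R)))
  have hψ0 : ∀ x, ψ x 0 = φ x := by
    intro x
    have : φ x = (e x).2 := DFunLike.congr_fun he2 x
    rw [this]
    rfl
  refine ⟨LinearMap.toMatrix' ψ.toLinearMap, ?_, ?_⟩
  · rw [LinearMap.det_toMatrix']
    exact ψ.isUnit_det'
  · funext j
    rw [LinearMap.toMatrix'_apply]
    change ψ (Pi.single j 1) 0 = f j
    rw [hψ0, hφ]
    simp [Pi.single_apply]

end Groth.Agent.S7122
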