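import Groth.Statements.S7129
import Mathlib

set_option autoImplicit false
universe u
open EtAlg

namespace Groth.Agent.S7129

/-- Every module over a product of fields ∏ K_i is flat over it (the product is an absolutely flat
ring). -/
theorem result (ι : Type u) (K : ι → Type u) [∀ i, Field (K i)] (M : Type u)
    [AddCommGroup M] [Module (∀ i, K i) M] : Module.Flat (∀ i, K i) M := by
  classical
  rw [Module.Flat.iff_rTensor_injective]
  intro I hI
  -- I is idempotent
  have hidem : IsIdempotentElem I := by
    apply le_antisymm Ideal.mul_le_right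
    intro a ha
    have h1 : a = a * (a * fun i => (a i)⁻¹) := by
      funext i
      simp only [Pi.mul_apply]
      by_cases h : a i = 0
      · rw [h]; simp
      · rw [mul_inv_cancel₀ h, mul_one]
    rw [h1]
    exact Ideal.mul_mem_mul ha (I.mul_mem_right _ ha)
  obtain ⟨e, he, rfl⟩ := (Ideal.isIdempotentElem_iff_of_fg I hI).1 hidem
  -- retraction
  let ρ : (∀ i, K i) →ₗ[∀ i, K i] ((∀ i, K i) ∙ e : Submodule _ _) :=
    LinearMap.codRestrict _ (LinearMap.toSpanSingleton (∀ i, K i) (∀ i, K i) e)
      (fun r => Submodule.mem_span_singleton.2 ⟨r, rfl⟩)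
  have hρ : ρ ∘ₗ ((∀ i, K i) ∙ e : Submodule _ _).subtype = LinearMap.id := by
    ext ⟨x, hx⟩
    obtain ⟨r, rfl⟩ := Submodule.mem_span_singleton.1 hx
    simp only [LinearMap.comp_apply, Submodule.subtype_apply, LinearMap.id_apply, ρ,
      LinearMap.codRestrict_apply, LinearMap.toSpanSingleton_apply, smul_eq_mul]
    rw [mul_assoc, he.eq]
  refine Function.LeftInverse.injective (g := LinearMap.rTensor M ρ) fun x => ?_
  rw [← LinearMap.comp_apply, ← LinearMap.rTensor_comp, hρ, LinearMap.rTensor_id,
    LinearMap.id_apply]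

end Groth.Agent.S7129
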