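import Groth.Statements.S7130
import Mathlib

set_option autoImplicit false
universe u
open EtAlg

namespace Groth.Agent.S7130

/-- (2) ⇔ (3) ⇔ (4): for a ring A the following are equivalent: every A-module is flat; A is reduced of
Krull dimension zero, in the sense that every prime ideal of A is maximal; the local ring A_p is a
field for every prime p. (The further equivalent condition 'A has weak dimension at most zero'
coincides with the first condition by definition and is not listed separately.) -/
theorem result (A : Type u) [CommRing A] :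
    List.TFAE [∀ (M : Type u) [AddCommGroup M] [Module A M], Module.Flat A M,
      IsReduced A ∧ ∀ p : Ideal A, p.IsPrime → p.IsMaximal,
      ∀ (p : Ideal A) [p.IsPrime], IsField (Localization.AtPrime p)] := by
  have h12 : (∀ (M : Type u) [AddCommGroup M] [Module A M], Module.Flat A M) →
      IsReduced A ∧ ∀ p : Ideal A, p.IsPrime → p.IsMaximal := by
    intro h
    have key : ∀ a : A, ∃ c : A, a = a * (c * a) := by
      intro a
      haveI : (Ideal.span {a}).Pure := h _
      obtain ⟨y, hy, hay⟩ := Ideal.exists_eq_mul_of_pure (I := Ideal.span {a})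
        (Ideal.mem_span_singleton_self a)
      obtain ⟨c, rfl⟩ := Ideal.mem_span_singleton'.mp hy
      exact ⟨c, hay⟩
    refine ⟨⟨fun a ha => ?_⟩, fun p hp => ?_⟩
    · obtain ⟨c, hc⟩ := key a
      have hn : IsNilpotent (c * a) := (Commute.all c a).isNilpotent_mul_left ha
      have hu : IsUnit (1 - c * a) := hn.isUnit_one_sub
      have : a * (1 - c * a) = 0 := by rw [mul_sub, mul_one, ← hc, sub_self]
      exact (hu.mul_left_eq_zero).mp this
    · rw [Ideal.isMaximal_iff]
      refine ⟨fun h1 => hp.ne_top ((Ideal.eq_top_iff_one _).mpr h1), fun J x hpJ hx hxJ => ?_⟩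
      obtain ⟨c, hc⟩ := key x
      have h0 : x * (1 - c * x) = 0 := by rw [mul_sub, mul_one, ← hc, sub_self]
      have h1 : 1 - c * x ∈ p := by
        rcases hp.mem_or_mem (h0 ▸ p.zero_mem : x * (1 - c * x) ∈ p) with h | h
        · exact absurd h hx
        · exact h
      have : (1 : A) = (1 - c * x) + c * x := by ring
      rw [this]
      exact J.add_mem (hpJ h1) (J.mul_mem_left c hxJ)
  have h23 : (IsReduced A ∧ ∀ p : Ideal A, p.IsPrime → p.IsMaximal) →
      ∀ (p : Ideal A) [p.IsPrime], IsField (Localization.AtPrime p) := by
    rintro ⟨hred, hmax⟩ p _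
    haveI : Ring.KrullDimLE 0 A := Ring.KrullDimLE.mk₀ hmax
    have hp : p ∈ minimalPrimes A := by
      rw [Ideal.mem_minimalPrimes_iff_isPrime]; infer_instance
    haveI : Ring.KrullDimLE 0 (Localization.AtPrime p) := .of_isLocalization p hp _
    exact Ring.KrullDimLE.isField_of_isReduced
  have h31 : (∀ (p : Ideal A) [p.IsPrime], IsField (Localization.AtPrime p)) →
      ∀ (M : Type u) [AddCommGroup M] [Module A M], Module.Flat A M := by
    intro h M _ _
    apply Module.flat_of_localized_maximal
    intro P hP
    letI : Field (Localization.AtPrime P) := (h P).toField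
    haveI : Module.Flat (Localization.AtPrime P) (LocalizedModule P.primeCompl M) := inferInstance
    exact Module.Flat.trans A (Localization.AtPrime P) (LocalizedModule P.primeCompl M)
  tfae_have 1 → 2 := h12
  tfae_have 2 → 3 := h23
  tfae_have 3 → 1 := h31
  tfae_finish

end Groth.Agent.S7130
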