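import Groth.Statements.S7145
import Mathlib
import Groth.Agent.Lib.helper2.FinFreeSub

set_option autoImplicit false
universe u
open CategoryTheory CategoryTheory.Limits
open CAlg

namespace Groth.Agent.S7145

/-- Let R be a ring and F a cochain complex of free R-modules that is zero in all sufficiently large
degrees. Given finitely many elements f_i of F, f_i lying in degree n_i, there is a subcomplex G of
F (a map of complexes G → F injective in every degree) through which every f_i passes, such that G
is zero outside a finite range of degrees and each term of G is a finitely generated free R-module. -/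
theorem result (R : Type u) [CommRing R]
    (F : CochainComplex (ModuleCat.{u} R) ℤ) (hfree : ∀ n : ℤ, Module.Free R (F.X n))
    (b : ℤ) (hb : ∀ n : ℤ, b < n → IsZero (F.X n))
    (N : ℕ) (deg : Fin N → ℤ) (f : ∀ i : Fin N, F.X (deg i)) :
    ∃ (G : CochainComplex (ModuleCat.{u} R) ℤ) (ι : G ⟶ F),
      (∀ n : ℤ, Function.Injective (ι.f n)) ∧
      (∃ a c : ℤ, ∀ n : ℤ, (n < a ∨ c < n) → IsZero (G.X n)) ∧
      (∀ n : ℤ, Module.Finite R (G.X n) ∧ Module.Free R (G.X n)) ∧
      ∀ i : Fin N, f i ∈ Set.range (ι.f (deg i)) := by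
  classical
  obtain ⟨a0, ha⟩ := (Finset.univ.image (fun j => - deg j)).exists_le
  obtain ⟨a, rfl⟩ : ∃ a : ℤ, a0 = -a := ⟨-a0, by omega⟩
  have ha' : ∀ j : Fin N, a ≤ deg j := fun j => by
    have := ha (- deg j) (Finset.mem_image_of_mem (fun j => - deg j) (Finset.mem_univ j))
    omega
  let g : ∀ m : ℤ, Set (F.X m) := fun m =>
    Set.range (fun j : {j : Fin N // deg j = m} => (j.2 ▸ f j.1 : F.X m))
  have hg : ∀ m, (g m).Finite := fun m => Set.finite_range _
  have hlow : ∀ m < a, g m = ∅ := by
    intro m hm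
    rw [Set.eq_empty_iff_forall_notMem]
    rintro x ⟨⟨j, hj⟩, _⟩
    have := ha' j
    omega
  obtain ⟨G, ι, h1, h2, h3, h4⟩ :=
    Groth.Agent.H2.H2_exists_finfree_subcomplex F hfree b hb g hg a hlow
  refine ⟨G, ι, h1, h2, h3, ?_⟩
  intro i
  exact h4 (deg i) (f i) ⟨⟨i, rfl⟩, rfl⟩

end Groth.Agent.S7145
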