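import Groth.Statements.S7150
import Mathlib
import Groth.Agent.Lib.helper6.GeomRedFS2

set_option autoImplicit false
universe u
open EtAlg

namespace Groth.Agent.S7150

/-- Suppose p is a prime with p·1 = 0 in the local ring A and some power of the maximal ideal of A is
zero. Then the residue map A → κ_A has a section σ : κ_A → A that is a ring map. If moreover A → A'
is a local homomorphism to another local ring whose maximal ideal has a vanishing power, and the
residue field extension κ_{A'}/κ_A is separable (possibly transcendental, i.e. geometrically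
reduced), then for any such σ there is a section σ' : κ_{A'} → A' compatible with σ. -/
theorem result (p : ℕ) (hp : p.Prime) (A : Type u) [CommRing A]
    [IsLocalRing A] [CharP A p] (hnil : ∃ n : ℕ, IsLocalRing.maximalIdeal A ^ n = ⊥) :
    (∃ σ : IsLocalRing.ResidueField A →+* A, (IsLocalRing.residue A).comp σ = RingHom.id _) ∧
    ∀ (A' : Type u) [CommRing A'] [IsLocalRing A'] [Algebra A A'] [IsLocalHom (algebraMap A A')],
      (∃ n : ℕ, IsLocalRing.maximalIdeal A' ^ n = ⊥) →
      Algebra.IsGeometricallyReduced (IsLocalRing.ResidueField A) (IsLocalRing.ResidueField A') →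
      ∀ σ : IsLocalRing.ResidueField A →+* A, (IsLocalRing.residue A).comp σ = RingHom.id _ →
        ∃ σ' : IsLocalRing.ResidueField A' →+* A', (IsLocalRing.residue A').comp σ' = RingHom.id _ ∧
          σ'.comp (IsLocalRing.ResidueField.map (algebraMap A A')) = (algebraMap A A').comp σ := by
  haveI : Fact p.Prime := ⟨hp⟩
  constructor
  · letI : Algebra (ZMod p) A := ZMod.algebra A p
    haveI : Algebra.FormallySmooth (ZMod p) (IsLocalRing.ResidueField A) :=
      Groth.Agent.Lib.helper6.H6_fs_field_of_perfect (ZMod p) (IsLocalRing.ResidueField A)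
    obtain ⟨n, hn⟩ := hnil
    obtain ⟨v, hv, -⟩ := Groth.Agent.Lib.helper6.H6_lift_field (k := ZMod p)
      (K := IsLocalRing.ResidueField A) (B := A) (algebraMap (ZMod p) A)
      (IsLocalRing.maximalIdeal A) ⟨n, hn⟩ (RingHom.id _) (fun x => rfl)
    exact ⟨v, hv⟩
  · intro A' _ _ _ _ hnil' hgr σ hσ
    haveI := hgr
    haveI : Algebra.FormallySmooth (IsLocalRing.ResidueField A) (IsLocalRing.ResidueField A') :=
      Groth.Agent.Lib.helper6.H6_fs_field_of_geomReduced _ _
    obtain ⟨n, hn⟩ := hnil'
    obtain ⟨v, hv, hv2⟩ := Groth.Agent.Lib.helper6.H6_lift_field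
      (k := IsLocalRing.ResidueField A)
      (K := IsLocalRing.ResidueField A') (B := A') ((algebraMap A A').comp σ)
      (IsLocalRing.maximalIdeal A') ⟨n, hn⟩ (RingHom.id _) (fun x => by
        have h1 : x = IsLocalRing.residue A (σ x) := (congrArg (fun g => g x) hσ).symm
        show algebraMap (IsLocalRing.ResidueField A) (IsLocalRing.ResidueField A') x =
          IsLocalRing.residue A' (algebraMap A A' (σ x))
        conv_lhs => rw [h1]
        rfl)
    refine ⟨v, hv, ?_⟩
    ext x
    exact hv2 x

end Groth.Agent.S7150
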