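import Groth.Statements.S7317
import Groth.Statements.S7317
import Groth.Agent.Lib.helper9.H9_NumType

set_option autoImplicit false
open Finset
open Models Models.NumericalType

namespace Groth.Agent.S7317

/-- Let T be a numerical type on n > 1 indices and i an index whose contribution m_i (w_i (g_i - 1) -
a_ii / 2) to the genus is zero (stated as m_i (2 w_i (g_i - 1) - a_ii) = 0). Then g_i = 0 and a_ii =
-2 w_i, i.e. i is a (-2)-index. -/
theorem result {n : ℕ} (T : Models.NumericalType n) (hn : 1 < n) (i : Fin n)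
    (h : T.m i * (2 * T.w i * (T.g i - 1) - T.a i i) = 0) : T.IsMinusTwo i := by
  obtain ⟨c, hc, hcw⟩ := Groth.Agent.H9.NumType.diag_eq T hn i
  have hm := T.m_pos i
  have hw := T.w_pos i
  have hg := T.g_nonneg i
  have h1 : 2 * T.w i * (T.g i - 1) - T.a i i = 0 := by
    rcases mul_eq_zero.1 h with h0 | h0
    · omega
    · exact h0
  rw [hcw] at h1
  have h2 : T.w i * (2 * (T.g i - 1) + c) = 0 := by linarith
  have h3 : 2 * (T.g i - 1) + c = 0 := by
    rcases mul_eq_zero.1 h2 with h0 | h0
    · omega
    · exact h0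
  have hg0 : T.g i = 0 := by omega
  have hc1 : c = 2 := by omega
  refine ⟨hg0, ?_⟩
  rw [hcw, hc1]

end Groth.Agent.S7317
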