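import Groth.Statements.S7318
import Groth.Statements.S7318
import Mathlib

set_option autoImplicit false
open Finset
open Models Models.NumericalType

namespace Groth.Agent.S7318

/-- For a numerical type T on n indices with e pairs i < j such that a_ij > 0, the topological genus 1 -
n + e is ≥ 0. -/
theorem result {n : ℕ} (T : Models.NumericalType n) : 0 ≤ T.topGenus := by
  classical
  -- edges inside a vertex set
  let E : Finset (Fin n) → Finset (Fin n × Fin n) := fun I =>
    Finset.univ.filter fun p : Fin n × Fin n => (p.1 < p.2 ∧ 0 < T.a p.1 p.2) ∧ p.1 ∈ I ∧ p.2 ∈ I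
  have key : ∀ k : ℕ, 1 ≤ k → k ≤ n → ∃ I : Finset (Fin n), I.card = k ∧ k ≤ (E I).card + 1 := by
    intro k hk
    induction k, hk using Nat.le_induction with
    | base =>
      intro _
      exact ⟨{⟨0, T.pos⟩}, Finset.card_singleton _, by omega⟩
    | succ k hk ih =>
      intro hkn
      obtain ⟨I, hI, hE⟩ := ih (by omega)
      have hne : I.Nonempty := by
        rw [← Finset.card_pos]; omega
      have hnu : I ≠ Finset.univ := by
        intro h
        rw [h, Finset.card_univ, Fintype.card_fin] at hI
        omega
      obtain ⟨i, hi, j, hj, hij⟩ := T.connected I hne hnu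
      have hij' : i ≠ j := fun h => hj (h ▸ hi)
      have hpos : 0 < T.a i j := lt_of_le_of_ne (T.offDiag_nonneg i j hij') (Ne.symm hij)
      have hpos' : 0 < T.a j i := by
        have := T.symm.apply i j
        rw [this]; exact hpos
      refine ⟨insert j I, by rw [Finset.card_insert_of_notMem hj, hI], ?_⟩
      have hsub : E I ⊆ E (insert j I) := by
        intro p hp
        simp only [E, Finset.mem_filter, Finset.mem_univ, true_and] at hp ⊢
        exact ⟨hp.1, Finset.mem_insert_of_mem hp.2.1, Finset.mem_insert_of_mem hp.2.2⟩
      obtain ⟨e, he1, he2⟩ : ∃ e : Fin n × Fin n, e ∈ E (insert j I) ∧ e ∉ E I := by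
        rcases lt_or_gt_of_ne hij' with hlt | hgt
        · refine ⟨(i, j), ?_, ?_⟩
          · simp only [E, Finset.mem_filter, Finset.mem_univ, true_and]
            exact ⟨⟨hlt, hpos⟩, Finset.mem_insert_of_mem hi, Finset.mem_insert_self _ _⟩
          · simp only [E, Finset.mem_filter, Finset.mem_univ, true_and]
            exact fun h => hj h.2.2
        · refine ⟨(j, i), ?_, ?_⟩
          · simp only [E, Finset.mem_filter, Finset.mem_univ, true_and]
            exact ⟨⟨hgt, hpos'⟩, Finset.mem_insert_self _ _, Finset.mem_insert_of_mem hi⟩
          · simp only [E, Finset.mem_filter, Finset.mem_univ, true_and]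
            exact fun h => hj h.2.1
      have hcard : (E I).card + 1 ≤ (E (insert j I)).card := by
        rw [← Finset.card_insert_of_notMem he2]
        apply Finset.card_le_card
        intro p hp
        rcases Finset.mem_insert.1 hp with rfl | hp
        · exact he1
        · exact hsub hp
      omega
  obtain ⟨I, hI, hE⟩ := key n T.pos le_rfl
  have hIu : I = Finset.univ := by
    apply Finset.eq_univ_of_card
    rw [hI, Fintype.card_fin]
  have hEu : (E I).card = T.edgeCount := by
    rw [hIu]
    simp only [E, Models.NumericalType.edgeCount, Finset.mem_univ, and_true]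
  unfold Models.NumericalType.topGenus
  rw [hEu] at hE
  omega

end Groth.Agent.S7318
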