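import Groth.Statements.S7342
import Mathlib
import Groth.Agent.H8Num

set_option autoImplicit false
open Finset
open Models Models.NumericalType

namespace Groth.Agent.S7342

/-- Let T be a numerical type on n indices, t ≥ 4 and n > t + 2. Then no t + 2 (-2)-indices of T,
pairwise distinct and numbered i_0, …, i_{t+1}, satisfy: a_{i_j i_{j+1}} > 0 for 1 ≤ j ≤ t - 1,
a_{i_0 i_2} > 0 and a_{i_{t-1} i_{t+1}} > 0. -/
theorem result {n : ℕ} (T : Models.NumericalType n) (t : ℕ) (ht : 4 ≤ t) (hn : t + 2 < n)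
    (v : Fin (t + 2) ↪ Fin n) (hv : ∀ j, T.IsMinusTwo (v j))
    (hchain : ∀ j j' : Fin (t + 2), 1 ≤ j.val → j.val + 1 ≤ t → j'.val = j.val + 1 → 0 < T.a (v j) (v j'))
    (h02 : ∀ j j' : Fin (t + 2), j.val = 0 → j'.val = 2 → 0 < T.a (v j) (v j'))
    (hlast : ∀ j j' : Fin (t + 2), j.val = t - 1 → j'.val = t + 1 → 0 < T.a (v j) (v j')) : False := by
  classical
  have hs : ∀ i j, T.a (v i) (v j) = T.a (v j) (v i) := fun i j => (T.symm.apply (v i) (v j)).symm ▸ rfl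
  set c : Fin (t + 2) → ℤ :=
    fun j => if j.val = 0 ∨ j.val = 1 ∨ j.val = t ∨ j.val = t + 1 then 1 else 2 with hcdef
  have hc1 : ∀ j : Fin (t + 2), (j.val = 0 ∨ j.val = 1 ∨ j.val = t ∨ j.val = t + 1) → c j = 1 :=
    fun j h => if_pos h
  have hc2 : ∀ j : Fin (t + 2), ¬(j.val = 0 ∨ j.val = 1 ∨ j.val = t ∨ j.val = t + 1) → c j = 2 :=
    fun j h => if_neg h
  have hcle : ∀ j, c j ≤ 2 := by
    intro j; simp only [hcdef]; split_ifs <;> norm_num
  have e1 : ∀ (x y : Fin (t + 2)), 1 ≤ x.val → x.val + 1 ≤ t → y.val = x.val + 1 →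
      T.a (v x) (v y) ≠ 0 ∧ T.a (v y) (v x) ≠ 0 := by
    intro x y h1 h2 h3
    have := hchain x y h1 h2 h3
    exact ⟨this.ne', by rw [hs]; exact this.ne'⟩
  have e2 : ∀ (x y : Fin (t + 2)), x.val = 0 → y.val = 2 →
      T.a (v x) (v y) ≠ 0 ∧ T.a (v y) (v x) ≠ 0 := by
    intro x y h1 h2
    have := h02 x y h1 h2
    exact ⟨this.ne', by rw [hs]; exact this.ne'⟩
  have e3 : ∀ (x y : Fin (t + 2)), x.val = t - 1 → y.val = t + 1 →
      T.a (v x) (v y) ≠ 0 ∧ T.a (v y) (v x) ≠ 0 := by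
    intro x y h1 h2
    have := hlast x y h1 h2
    exact ⟨this.ne', by rw [hs]; exact this.ne'⟩
  have hne : ∀ x y : Fin (t + 2), x.val ≠ y.val → x ≠ y := fun x y h e => h (by rw [e])
  have h := H8Num.no_config T hn v hv c
    (by intro j; simp only [hcdef]; split_ifs <;> norm_num) ?_ ⟨0, by omega⟩
  · rw [hc1 _ (Or.inl rfl)] at h; norm_num at h
  · intro j
    have one : ∀ x : Fin (t + 2), x ≠ j → T.a (v j) (v x) ≠ 0 → 2 * c j ≤ c x →
        ∃ S : Finset (Fin (t + 2)), (∀ j' ∈ S, j' ≠ j ∧ T.a (v j) (v j') ≠ 0) ∧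
          2 * c j ≤ ∑ j' ∈ S, c j' := by
      intro x hx ha hle
      refine ⟨{x}, ?_, by simpa using hle⟩
      intro j' hj'
      rw [Finset.mem_singleton] at hj'
      subst hj'
      exact ⟨hx, ha⟩
    have two : ∀ x y : Fin (t + 2), x ≠ y → x ≠ j → y ≠ j → T.a (v j) (v x) ≠ 0 →
        T.a (v j) (v y) ≠ 0 → 2 * c j ≤ c x + c y →
        ∃ S : Finset (Fin (t + 2)), (∀ j' ∈ S, j' ≠ j ∧ T.a (v j) (v j') ≠ 0) ∧
          2 * c j ≤ ∑ j' ∈ S, c j' := by
      intro x y hxy hx hy hax hay hle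
      refine ⟨{x, y}, ?_, ?_⟩
      · intro j' hj'
        simp only [Finset.mem_insert, Finset.mem_singleton] at hj'
        rcases hj' with rfl | rfl
        · exact ⟨hx, hax⟩
        · exact ⟨hy, hay⟩
      · rw [Finset.sum_pair hxy]; exact hle
    have three : ∀ x y z : Fin (t + 2), x ≠ y → x ≠ z → y ≠ z → x ≠ j → y ≠ j → z ≠ j →
        T.a (v j) (v x) ≠ 0 → T.a (v j) (v y) ≠ 0 → T.a (v j) (v z) ≠ 0 →
        2 * c j ≤ c x + c y + c z →
        ∃ S : Finset (Fin (t + 2)), (∀ j' ∈ S, j' ≠ j ∧ T.a (v j) (v j') ≠ 0) ∧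
          2 * c j ≤ ∑ j' ∈ S, c j' := by
      intro x y z hxy hxz hyz hx hy hz hax hay haz hle
      refine ⟨{x, y, z}, ?_, ?_⟩
      · intro j' hj'
        simp only [Finset.mem_insert, Finset.mem_singleton] at hj'
        rcases hj' with rfl | rfl | rfl
        · exact ⟨hx, hax⟩
        · exact ⟨hy, hay⟩
        · exact ⟨hz, haz⟩
      · rw [Finset.sum_insert (by simp [hxy, hxz]), Finset.sum_pair hyz]
        linarith
    have hjlt := j.isLt
    by_cases h0 : j.val = 0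
    · -- neighbour 2
      have hx : ((⟨2, by omega⟩ : Fin (t + 2))).val = 2 := rfl
      refine one ⟨2, by omega⟩ (hne _ _ (by rw [hx]; omega)) (e2 j ⟨2, by omega⟩ h0 rfl).1 ?_
      rw [hc1 j (Or.inl h0), hc2 _ (by rw [hx]; omega)]; norm_num
    by_cases h1 : j.val = 1
    · have hx : ((⟨2, by omega⟩ : Fin (t + 2))).val = 2 := rfl
      refine one ⟨2, by omega⟩ (hne _ _ (by rw [hx]; omega))
        (e1 j ⟨2, by omega⟩ (by omega) (by omega) (by rw [hx]; omega)).1 ?_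
      rw [hc1 j (Or.inr (Or.inl h1)), hc2 _ (by rw [hx]; omega)]; norm_num
    by_cases ht : j.val = t
    · have hx : ((⟨t - 1, by omega⟩ : Fin (t + 2))).val = t - 1 := rfl
      refine one ⟨t - 1, by omega⟩ (hne _ _ (by rw [hx]; omega))
        (e1 ⟨t - 1, by omega⟩ j (by rw [hx]; omega) (by rw [hx]; omega) (by rw [hx]; omega)).2 ?_
      rw [hc1 j (Or.inr (Or.inr (Or.inl ht))), hc2 _ (by rw [hx]; omega)]; norm_num
    by_cases ht1 : j.val = t + 1
    · have hx : ((⟨t - 1, by omega⟩ : Fin (t + 2))).val = t - 1 := rfl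
      refine one ⟨t - 1, by omega⟩ (hne _ _ (by rw [hx]; omega))
        (e3 ⟨t - 1, by omega⟩ j hx ht1).2 ?_
      rw [hc1 j (Or.inr (Or.inr (Or.inr ht1))), hc2 _ (by rw [hx]; omega)]; norm_num
    have hcj : c j = 2 := hc2 j (by omega)
    by_cases h2 : j.val = 2
    · -- neighbours 0, 1, 3
      have hx0 : ((⟨0, by omega⟩ : Fin (t + 2))).val = 0 := rfl
      have hx1 : ((⟨1, by omega⟩ : Fin (t + 2))).val = 1 := rfl
      have hx3 : ((⟨3, by omega⟩ : Fin (t + 2))).val = 3 := rfl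
      refine three ⟨0, by omega⟩ ⟨1, by omega⟩ ⟨3, by omega⟩
        (hne _ _ (by rw [hx0, hx1]; omega)) (hne _ _ (by rw [hx0, hx3]; omega))
        (hne _ _ (by rw [hx1, hx3]; omega))
        (hne _ _ (by rw [hx0]; omega)) (hne _ _ (by rw [hx1]; omega)) (hne _ _ (by rw [hx3]; omega))
        (e2 ⟨0, by omega⟩ j hx0 h2).2
        (e1 ⟨1, by omega⟩ j (by rw [hx1]) (by rw [hx1]; omega) (by rw [hx1]; omega)).2
        (e1 j ⟨3, by omega⟩ (by omega) (by omega) (by rw [hx3]; omega)).1 ?_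
      rw [hcj, hc1 _ (Or.inl hx0), hc1 _ (Or.inr (Or.inl hx1)), hc2 _ (by rw [hx3]; omega)]
      norm_num
    by_cases h3 : j.val = t - 1
    · have hxa : ((⟨t - 2, by omega⟩ : Fin (t + 2))).val = t - 2 := rfl
      have hxb : ((⟨t, by omega⟩ : Fin (t + 2))).val = t := rfl
      have hxc : ((⟨t + 1, by omega⟩ : Fin (t + 2))).val = t + 1 := rfl
      refine three ⟨t - 2, by omega⟩ ⟨t, by omega⟩ ⟨t + 1, by omega⟩
        (hne _ _ (by rw [hxa, hxb]; omega)) (hne _ _ (by rw [hxa, hxc]; omega))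
        (hne _ _ (by rw [hxb, hxc]; omega))
        (hne _ _ (by rw [hxa]; omega)) (hne _ _ (by rw [hxb]; omega)) (hne _ _ (by rw [hxc]; omega))
        (e1 ⟨t - 2, by omega⟩ j (by rw [hxa]; omega) (by rw [hxa]; omega) (by rw [hxa]; omega)).2
        (e1 j ⟨t, by omega⟩ (by omega) (by omega) (by rw [hxb]; omega)).1
        (e3 j ⟨t + 1, by omega⟩ h3 hxc).1 ?_
      rw [hcj, hc2 _ (by rw [hxa]; omega), hc1 _ (Or.inr (Or.inr (Or.inl hxb))),
        hc1 _ (Or.inr (Or.inr (Or.inr hxc)))]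
      norm_num
    · -- interior
      have hxa : ((⟨j.val - 1, by omega⟩ : Fin (t + 2))).val = j.val - 1 := rfl
      have hxb : ((⟨j.val + 1, by omega⟩ : Fin (t + 2))).val = j.val + 1 := rfl
      refine two ⟨j.val - 1, by omega⟩ ⟨j.val + 1, by omega⟩
        (hne _ _ (by rw [hxa, hxb]; omega))
        (hne _ _ (by rw [hxa]; omega)) (hne _ _ (by rw [hxb]; omega))
        (e1 ⟨j.val - 1, by omega⟩ j (by rw [hxa]; omega) (by rw [hxa]; omega) (by rw [hxa]; omega)).2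
        (e1 j ⟨j.val + 1, by omega⟩ (by omega) (by omega) hxb).1 ?_
      rw [hcj, hc2 _ (by rw [hxa]; omega), hc2 _ (by rw [hxb]; omega)]
      norm_num

end Groth.Agent.S7342
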