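import Groth.Statements.S7348
import Mathlib
import Groth.Agent.H8Num

set_option autoImplicit false
set_option linter.unusedSimpArgs false
open Finset
open Models Models.NumericalType

namespace Groth.Agent.S7348

/-- Classification of proper subgraphs of type E6 (a chain i_1 … i_5 with i_6 joined to i_3): let T be a
numerical type on n > 6 indices and i_1, …, i_6 distinct (-2)-indices with a_{12}, a_{23}, a_{34},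
a_{45}, a_{36} nonzero. Then for some integer w all w_{i_j} equal w, these intersection numbers
equal w, all other a_{i_j i_k} (j ≠ k) vanish, and 2 m_1 ≥ m_2, 2 m_2 ≥ m_1 + m_3, 2 m_3 ≥ m_2 + m_4
+ m_6, 2 m_4 ≥ m_3 + m_5, 2 m_5 ≥ m_4, 2 m_6 ≥ m_3. (The published list of inequalities has 2 m_5 ≥
m_3 where the intersection matrix gives 2 m_5 ≥ m_4; the former fails for the extended E8
configuration of multiplicities 4, 5, 6, 4, 2 with 3 attached to the third vertex, so 2 m_5 ≥ m_4 is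
stated.) -/
theorem result {n : ℕ} (T : Models.NumericalType n) (hn : 6 < n)
    (v : Fin 6 ↪ Fin n) (hv : ∀ j, T.IsMinusTwo (v j)) (h01 : T.a (v 0) (v 1) ≠ 0) (h12 : T.a (v 1) (v 2) ≠ 0) (h23 : T.a (v 2) (v 3) ≠ 0) (h34 : T.a (v 3) (v 4) ≠ 0) (h25 : T.a (v 2) (v 5) ≠ 0) :
    ∃ w : ℤ, (∀ j : Fin 6, T.w (v j) = w) ∧
      T.a (v 0) (v 1) = w ∧
      T.a (v 1) (v 2) = w ∧
      T.a (v 2) (v 3) = w ∧
      T.a (v 3) (v 4) = w ∧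
      T.a (v 2) (v 5) = w ∧
      T.a (v 0) (v 2) = 0 ∧
      T.a (v 0) (v 3) = 0 ∧
      T.a (v 0) (v 4) = 0 ∧
      T.a (v 0) (v 5) = 0 ∧
      T.a (v 1) (v 3) = 0 ∧
      T.a (v 1) (v 4) = 0 ∧
      T.a (v 1) (v 5) = 0 ∧
      T.a (v 2) (v 4) = 0 ∧
      T.a (v 3) (v 5) = 0 ∧
      T.a (v 4) (v 5) = 0 ∧
      T.m (v 1) ≤ 2 * T.m (v 0) ∧
      T.m (v 0) + T.m (v 2) ≤ 2 * T.m (v 1) ∧
      T.m (v 1) + T.m (v 3) + T.m (v 5) ≤ 2 * T.m (v 2) ∧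
      T.m (v 2) + T.m (v 4) ≤ 2 * T.m (v 3) ∧
      T.m (v 3) ≤ 2 * T.m (v 4) ∧
      T.m (v 2) ≤ 2 * T.m (v 5) := by
  classical
  have hs : ∀ i j, T.a (v i) (v j) = T.a (v j) (v i) := fun i j => (T.symm.apply (v i) (v j)).symm ▸ rfl
  have hnn : ∀ i j, i ≠ j → 0 ≤ T.a (v i) (v j) := fun i j h => T.offDiag_nonneg _ _ (fun e => h (v.injective e))
  have hdv1 : ∀ i j, T.w (v i) ∣ T.a (v i) (v j) := fun i j => T.w_dvd _ _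
  have hdv2 : ∀ i j, T.w (v j) ∣ T.a (v i) (v j) := fun i j => by rw [hs]; exact T.w_dvd _ _
  have d_0 : T.a (v 0) (v 0) = -2 * T.w (v 0) := (hv 0).2
  have w_0 : 0 < T.w (v 0) := T.w_pos _
  have d_1 : T.a (v 1) (v 1) = -2 * T.w (v 1) := (hv 1).2
  have w_1 : 0 < T.w (v 1) := T.w_pos _
  have d_2 : T.a (v 2) (v 2) = -2 * T.w (v 2) := (hv 2).2
  have w_2 : 0 < T.w (v 2) := T.w_pos _
  have d_3 : T.a (v 3) (v 3) = -2 * T.w (v 3) := (hv 3).2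
  have w_3 : 0 < T.w (v 3) := T.w_pos _
  have d_4 : T.a (v 4) (v 4) = -2 * T.w (v 4) := (hv 4).2
  have w_4 : 0 < T.w (v 4) := T.w_pos _
  have d_5 : T.a (v 5) (v 5) = -2 * T.w (v 5) := (hv 5).2
  have w_5 : 0 < T.w (v 5) := T.w_pos _
  have n_0_1 : 0 ≤ T.a (v 0) (v 1) := hnn 0 1 (by decide)
  have s_0_1 : T.a (v 1) (v 0) = T.a (v 0) (v 1) := hs 1 0
  have n_0_2 : 0 ≤ T.a (v 0) (v 2) := hnn 0 2 (by decide)
  have s_0_2 : T.a (v 2) (v 0) = T.a (v 0) (v 2) := hs 2 0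
  have n_0_3 : 0 ≤ T.a (v 0) (v 3) := hnn 0 3 (by decide)
  have s_0_3 : T.a (v 3) (v 0) = T.a (v 0) (v 3) := hs 3 0
  have n_0_4 : 0 ≤ T.a (v 0) (v 4) := hnn 0 4 (by decide)
  have s_0_4 : T.a (v 4) (v 0) = T.a (v 0) (v 4) := hs 4 0
  have n_0_5 : 0 ≤ T.a (v 0) (v 5) := hnn 0 5 (by decide)
  have s_0_5 : T.a (v 5) (v 0) = T.a (v 0) (v 5) := hs 5 0
  have n_1_2 : 0 ≤ T.a (v 1) (v 2) := hnn 1 2 (by decide)
  have s_1_2 : T.a (v 2) (v 1) = T.a (v 1) (v 2) := hs 2 1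
  have n_1_3 : 0 ≤ T.a (v 1) (v 3) := hnn 1 3 (by decide)
  have s_1_3 : T.a (v 3) (v 1) = T.a (v 1) (v 3) := hs 3 1
  have n_1_4 : 0 ≤ T.a (v 1) (v 4) := hnn 1 4 (by decide)
  have s_1_4 : T.a (v 4) (v 1) = T.a (v 1) (v 4) := hs 4 1
  have n_1_5 : 0 ≤ T.a (v 1) (v 5) := hnn 1 5 (by decide)
  have s_1_5 : T.a (v 5) (v 1) = T.a (v 1) (v 5) := hs 5 1
  have n_2_3 : 0 ≤ T.a (v 2) (v 3) := hnn 2 3 (by decide)
  have s_2_3 : T.a (v 3) (v 2) = T.a (v 2) (v 3) := hs 3 2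
  have n_2_4 : 0 ≤ T.a (v 2) (v 4) := hnn 2 4 (by decide)
  have s_2_4 : T.a (v 4) (v 2) = T.a (v 2) (v 4) := hs 4 2
  have n_2_5 : 0 ≤ T.a (v 2) (v 5) := hnn 2 5 (by decide)
  have s_2_5 : T.a (v 5) (v 2) = T.a (v 2) (v 5) := hs 5 2
  have n_3_4 : 0 ≤ T.a (v 3) (v 4) := hnn 3 4 (by decide)
  have s_3_4 : T.a (v 4) (v 3) = T.a (v 3) (v 4) := hs 4 3
  have n_3_5 : 0 ≤ T.a (v 3) (v 5) := hnn 3 5 (by decide)
  have s_3_5 : T.a (v 5) (v 3) = T.a (v 3) (v 5) := hs 5 3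
  have n_4_5 : 0 ≤ T.a (v 4) (v 5) := hnn 4 5 (by decide)
  have s_4_5 : T.a (v 5) (v 4) = T.a (v 4) (v 5) := hs 5 4
  have Q : ∀ c0 c1 c2 c3 c4 c5 : ℤ, (c0 ≠ 0 ∨ c1 ≠ 0 ∨ c2 ≠ 0 ∨ c3 ≠ 0 ∨ c4 ≠ 0 ∨ c5 ≠ 0) →
      c0 * c0 * T.a (v 0) (v 0) + c1 * c1 * T.a (v 1) (v 1) + c2 * c2 * T.a (v 2) (v 2) + c3 * c3 * T.a (v 3) (v 3) + c4 * c4 * T.a (v 4) (v 4) + c5 * c5 * T.a (v 5) (v 5) + 2 * (c0 * c1 * T.a (v 0) (v 1) + c0 * c2 * T.a (v 0) (v 2) + c0 * c3 * T.a (v 0) (v 3) + c0 * c4 * T.a (v 0) (v 4) + c0 * c5 * T.a (v 0) (v 5) + c1 * c2 * T.a (v 1) (v 2) + c1 * c3 * T.a (v 1) (v 3) + c1 * c4 * T.a (v 1) (v 4) + c1 * c5 * T.a (v 1) (v 5) + c2 * c3 * T.a (v 2) (v 3) + c2 * c4 * T.a (v 2) (v 4) + c2 * c5 * T.a (v 2) (v 5) + c3 * c4 * T.a (v 3) (v 4) + c3 * c5 * T.a (v 3) (v 5) + c4 * c5 * T.a (v 4) (v 5)) < 0 := by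
    intro c0 c1 c2 c3 c4 c5 hc
    have h := H8Num.neg_of_ne_zero T hn v ![c0, c1, c2, c3, c4, c5] (by
      rcases hc with h | h | h | h | h | h
      · exact ⟨0, by simpa using h⟩
      · exact ⟨1, by simpa using h⟩
      · exact ⟨2, by simpa using h⟩
      · exact ⟨3, by simpa using h⟩
      · exact ⟨4, by simpa using h⟩
      · exact ⟨5, by simpa using h⟩
      )
    simp only [Fin.sum_univ_six] at h
    simp only [Matrix.cons_val_zero, Matrix.cons_val_one, Matrix.cons_val] at h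
    simp only [s_0_1, s_0_2, s_0_3, s_0_4, s_0_5, s_1_2, s_1_3, s_1_4, s_1_5, s_2_3, s_2_4, s_2_5, s_3_4, s_3_5, s_4_5] at h
    linarith only [h]
  have p_0_1 : 0 < T.a (v 0) (v 1) := lt_of_le_of_ne n_0_1 (Ne.symm h01)
  have g1_0_1 : T.w (v 0) ≤ T.a (v 0) (v 1) := Int.le_of_dvd p_0_1 (hdv1 0 1)
  have g2_0_1 : T.w (v 1) ≤ T.a (v 0) (v 1) := Int.le_of_dvd p_0_1 (hdv2 0 1)
  have p_1_2 : 0 < T.a (v 1) (v 2) := lt_of_le_of_ne n_1_2 (Ne.symm h12)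
  have g1_1_2 : T.w (v 1) ≤ T.a (v 1) (v 2) := Int.le_of_dvd p_1_2 (hdv1 1 2)
  have g2_1_2 : T.w (v 2) ≤ T.a (v 1) (v 2) := Int.le_of_dvd p_1_2 (hdv2 1 2)
  have p_2_3 : 0 < T.a (v 2) (v 3) := lt_of_le_of_ne n_2_3 (Ne.symm h23)
  have g1_2_3 : T.w (v 2) ≤ T.a (v 2) (v 3) := Int.le_of_dvd p_2_3 (hdv1 2 3)
  have g2_2_3 : T.w (v 3) ≤ T.a (v 2) (v 3) := Int.le_of_dvd p_2_3 (hdv2 2 3)
  have p_3_4 : 0 < T.a (v 3) (v 4) := lt_of_le_of_ne n_3_4 (Ne.symm h34)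
  have g1_3_4 : T.w (v 3) ≤ T.a (v 3) (v 4) := Int.le_of_dvd p_3_4 (hdv1 3 4)
  have g2_3_4 : T.w (v 4) ≤ T.a (v 3) (v 4) := Int.le_of_dvd p_3_4 (hdv2 3 4)
  have p_2_5 : 0 < T.a (v 2) (v 5) := lt_of_le_of_ne n_2_5 (Ne.symm h25)
  have g1_2_5 : T.w (v 2) ≤ T.a (v 2) (v 5) := Int.le_of_dvd p_2_5 (hdv1 2 5)
  have g2_2_5 : T.w (v 5) ≤ T.a (v 2) (v 5) := Int.le_of_dvd p_2_5 (hdv2 2 5)
  have hE_1_2 : T.a (v 1) (v 2) = T.w (v 2) := by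
    apply H8Num.eq_of_dvd_lt_two w_2 (hdv2 1 2) p_1_2
    by_contra hcon
    push Not at hcon
    have tv1 := Q 0 1 2 1 0 1 (by norm_num)
    norm_num at tv1
    linarith only [tv1, hcon, d_1, w_1, d_2, w_2, d_3, w_3, d_5, w_5, n_1_2, p_1_2, g1_1_2, g2_1_2, n_1_3, n_1_5, n_2_3, p_2_3, g1_2_3, g2_2_3, n_2_5, p_2_5, g1_2_5, g2_2_5, n_3_5]
  have hE_2_3 : T.a (v 2) (v 3) = T.w (v 2) := by
    apply H8Num.eq_of_dvd_lt_two w_2 (hdv1 2 3) p_2_3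
    by_contra hcon
    push Not at hcon
    have tv2 := Q 0 1 2 1 0 1 (by norm_num)
    norm_num at tv2
    linarith only [tv2, hcon, d_1, w_1, d_2, w_2, d_3, w_3, d_5, w_5, n_1_2, p_1_2, g1_1_2, g2_1_2, n_1_3, n_1_5, n_2_3, p_2_3, g1_2_3, g2_2_3, n_2_5, p_2_5, g1_2_5, g2_2_5, n_3_5]
  have hE_2_5 : T.a (v 2) (v 5) = T.w (v 2) := by
    apply H8Num.eq_of_dvd_lt_two w_2 (hdv1 2 5) p_2_5
    by_contra hcon
    push Not at hcon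
    have tv3 := Q 0 1 2 1 0 1 (by norm_num)
    norm_num at tv3
    linarith only [tv3, hcon, d_1, w_1, d_2, w_2, d_3, w_3, d_5, w_5, n_1_2, p_1_2, g1_1_2, g2_1_2, n_1_3, n_1_5, n_2_3, p_2_3, g1_2_3, g2_2_3, n_2_5, p_2_5, g1_2_5, g2_2_5, n_3_5]
  have hW_1 : T.w (v 1) = T.w (v 2) := by
    apply H8Num.eq_of_dvd_gt_half w_1 (by rw [← hE_1_2]; exact hdv1 1 2) ?_ w_2
    by_contra hcon
    push Not at hcon
    have tv4 := Q 0 2 2 1 0 1 (by norm_num)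
    norm_num at tv4
    linarith only [tv4, hcon, d_1, w_1, d_2, w_2, d_3, w_3, d_5, w_5, n_1_2, p_1_2, g1_1_2, g2_1_2, n_1_3, n_1_5, n_2_3, p_2_3, g1_2_3, g2_2_3, n_2_5, p_2_5, g1_2_5, g2_2_5, n_3_5, hE_1_2, hE_2_3, hE_2_5]
  have hW_3 : T.w (v 3) = T.w (v 2) := by
    apply H8Num.eq_of_dvd_gt_half w_3 (by rw [← hE_2_3]; exact hdv2 2 3) ?_ w_2
    by_contra hcon
    push Not at hcon
    have tv5 := Q 0 1 2 2 0 1 (by norm_num)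
    norm_num at tv5
    linarith only [tv5, hcon, d_1, w_1, d_2, w_2, d_3, w_3, d_5, w_5, n_1_2, p_1_2, g1_1_2, g2_1_2, n_1_3, n_1_5, n_2_3, p_2_3, g1_2_3, g2_2_3, n_2_5, p_2_5, g1_2_5, g2_2_5, n_3_5, hE_1_2, hE_2_3, hE_2_5]
  have hW_5 : T.w (v 5) = T.w (v 2) := by
    apply H8Num.eq_of_dvd_gt_half w_5 (by rw [← hE_2_5]; exact hdv2 2 5) ?_ w_2
    by_contra hcon
    push Not at hcon
    have tv6 := Q 0 1 2 1 0 2 (by norm_num)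
    norm_num at tv6
    linarith only [tv6, hcon, d_1, w_1, d_2, w_2, d_3, w_3, d_5, w_5, n_1_2, p_1_2, g1_1_2, g2_1_2, n_1_3, n_1_5, n_2_3, p_2_3, g1_2_3, g2_2_3, n_2_5, p_2_5, g1_2_5, g2_2_5, n_3_5, hE_1_2, hE_2_3, hE_2_5]
  have hE_0_1 : T.a (v 0) (v 1) = T.w (v 2) := by
    apply H8Num.eq_of_dvd_lt_two w_2 (by rw [← hW_1]; exact hdv2 0 1) p_0_1
    by_contra hcon
    push Not at hcon
    have tv7 := Q 1 2 2 1 0 1 (by norm_num)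
    norm_num at tv7
    linarith only [tv7, hcon, d_0, w_0, d_1, w_1, d_2, w_2, d_3, w_3, d_5, w_5, n_0_1, p_0_1, g1_0_1, g2_0_1, n_0_2, n_0_3, n_0_5, n_1_2, p_1_2, g1_1_2, g2_1_2, n_1_3, n_1_5, n_2_3, p_2_3, g1_2_3, g2_2_3, n_2_5, p_2_5, g1_2_5, g2_2_5, n_3_5, hE_1_2, hE_2_3, hE_2_5, hW_1, hW_3, hW_5]
  have hW_0 : T.w (v 0) = T.w (v 2) := by
    apply H8Num.eq_of_dvd_gt_half w_0 (by rw [← hE_0_1]; exact hdv1 0 1) ?_ w_2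
    by_contra hcon
    push Not at hcon
    have tv8 := Q 2 2 2 1 0 1 (by norm_num)
    norm_num at tv8
    linarith only [tv8, hcon, d_0, w_0, d_1, w_1, d_2, w_2, d_3, w_3, d_5, w_5, n_0_1, p_0_1, g1_0_1, g2_0_1, n_0_2, n_0_3, n_0_5, n_1_2, p_1_2, g1_1_2, g2_1_2, n_1_3, n_1_5, n_2_3, p_2_3, g1_2_3, g2_2_3, n_2_5, p_2_5, g1_2_5, g2_2_5, n_3_5, hE_1_2, hE_2_3, hE_2_5, hW_1, hW_3, hW_5, hE_0_1]
  have hE_3_4 : T.a (v 3) (v 4) = T.w (v 2) := by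
    apply H8Num.eq_of_dvd_lt_two w_2 (by rw [← hW_3]; exact hdv1 3 4) p_3_4
    by_contra hcon
    push Not at hcon
    have tv9 := Q 0 1 2 2 1 1 (by norm_num)
    norm_num at tv9
    linarith only [tv9, hcon, d_1, w_1, d_2, w_2, d_3, w_3, d_4, w_4, d_5, w_5, n_1_2, p_1_2, g1_1_2, g2_1_2, n_1_3, n_1_4, n_1_5, n_2_3, p_2_3, g1_2_3, g2_2_3, n_2_4, n_2_5, p_2_5, g1_2_5, g2_2_5, n_3_4, p_3_4, g1_3_4, g2_3_4, n_3_5, n_4_5, hE_1_2, hE_2_3, hE_2_5, hW_1, hW_3, hW_5]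
  have hW_4 : T.w (v 4) = T.w (v 2) := by
    apply H8Num.eq_of_dvd_gt_half w_4 (by rw [← hE_3_4]; exact hdv2 3 4) ?_ w_2
    by_contra hcon
    push Not at hcon
    have tv10 := Q 0 1 2 2 2 1 (by norm_num)
    norm_num at tv10
    linarith only [tv10, hcon, d_1, w_1, d_2, w_2, d_3, w_3, d_4, w_4, d_5, w_5, n_1_2, p_1_2, g1_1_2, g2_1_2, n_1_3, n_1_4, n_1_5, n_2_3, p_2_3, g1_2_3, g2_2_3, n_2_4, n_2_5, p_2_5, g1_2_5, g2_2_5, n_3_4, p_3_4, g1_3_4, g2_3_4, n_3_5, n_4_5, hE_1_2, hE_2_3, hE_2_5, hW_1, hW_3, hW_5, hE_3_4]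
  have hZ_0_2 : T.a (v 0) (v 2) = 0 := by
    apply H8Num.eq_zero_of_dvd_lt (w := T.w (v 2)) (by rw [← hW_0]; exact hdv1 0 2) n_0_2
    have tv11 := Q 1 1 1 0 0 0 (by norm_num)
    norm_num at tv11
    linarith only [tv11, d_0, w_0, d_1, w_1, d_2, w_2, n_0_1, p_0_1, g1_0_1, g2_0_1, n_0_2, n_1_2, p_1_2, g1_1_2, g2_1_2, hE_1_2, hW_1, hE_0_1, hW_0]
  have hZ_0_3 : T.a (v 0) (v 3) = 0 := by
    apply H8Num.eq_zero_of_dvd_lt (w := T.w (v 2)) (by rw [← hW_0]; exact hdv1 0 3) n_0_3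
    have tv12 := Q 1 1 1 1 0 0 (by norm_num)
    norm_num at tv12
    linarith only [tv12, d_0, w_0, d_1, w_1, d_2, w_2, d_3, w_3, n_0_1, p_0_1, g1_0_1, g2_0_1, n_0_2, n_0_3, n_1_2, p_1_2, g1_1_2, g2_1_2, n_1_3, n_2_3, p_2_3, g1_2_3, g2_2_3, hE_1_2, hE_2_3, hW_1, hW_3, hE_0_1, hW_0]
  have hZ_0_4 : T.a (v 0) (v 4) = 0 := by
    apply H8Num.eq_zero_of_dvd_lt (w := T.w (v 2)) (by rw [← hW_0]; exact hdv1 0 4) n_0_4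
    have tv13 := Q 1 1 1 1 1 0 (by norm_num)
    norm_num at tv13
    linarith only [tv13, d_0, w_0, d_1, w_1, d_2, w_2, d_3, w_3, d_4, w_4, n_0_1, p_0_1, g1_0_1, g2_0_1, n_0_2, n_0_3, n_0_4, n_1_2, p_1_2, g1_1_2, g2_1_2, n_1_3, n_1_4, n_2_3, p_2_3, g1_2_3, g2_2_3, n_2_4, n_3_4, p_3_4, g1_3_4, g2_3_4, hE_1_2, hE_2_3, hW_1, hW_3, hE_0_1, hW_0, hE_3_4, hW_4]
  have hZ_0_5 : T.a (v 0) (v 5) = 0 := by
    apply H8Num.eq_zero_of_dvd_lt (w := T.w (v 2)) (by rw [← hW_0]; exact hdv1 0 5) n_0_5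
    have tv14 := Q 1 1 1 0 0 1 (by norm_num)
    norm_num at tv14
    linarith only [tv14, d_0, w_0, d_1, w_1, d_2, w_2, d_5, w_5, n_0_1, p_0_1, g1_0_1, g2_0_1, n_0_2, n_0_5, n_1_2, p_1_2, g1_1_2, g2_1_2, n_1_5, n_2_5, p_2_5, g1_2_5, g2_2_5, hE_1_2, hE_2_5, hW_1, hW_5, hE_0_1, hW_0]
  have hZ_1_3 : T.a (v 1) (v 3) = 0 := by
    apply H8Num.eq_zero_of_dvd_lt (w := T.w (v 2)) (by rw [← hW_1]; exact hdv1 1 3) n_1_3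
    have tv15 := Q 0 1 1 1 0 0 (by norm_num)
    norm_num at tv15
    linarith only [tv15, d_1, w_1, d_2, w_2, d_3, w_3, n_1_2, p_1_2, g1_1_2, g2_1_2, n_1_3, n_2_3, p_2_3, g1_2_3, g2_2_3, hE_1_2, hE_2_3, hW_1, hW_3]
  have hZ_1_4 : T.a (v 1) (v 4) = 0 := by
    apply H8Num.eq_zero_of_dvd_lt (w := T.w (v 2)) (by rw [← hW_1]; exact hdv1 1 4) n_1_4
    have tv16 := Q 0 1 1 1 1 0 (by norm_num)
    norm_num at tv16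
    linarith only [tv16, d_1, w_1, d_2, w_2, d_3, w_3, d_4, w_4, n_1_2, p_1_2, g1_1_2, g2_1_2, n_1_3, n_1_4, n_2_3, p_2_3, g1_2_3, g2_2_3, n_2_4, n_3_4, p_3_4, g1_3_4, g2_3_4, hE_1_2, hE_2_3, hW_1, hW_3, hE_3_4, hW_4]
  have hZ_1_5 : T.a (v 1) (v 5) = 0 := by
    apply H8Num.eq_zero_of_dvd_lt (w := T.w (v 2)) (by rw [← hW_1]; exact hdv1 1 5) n_1_5
    have tv17 := Q 0 1 1 0 0 1 (by norm_num)
    norm_num at tv17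
    linarith only [tv17, d_1, w_1, d_2, w_2, d_5, w_5, n_1_2, p_1_2, g1_1_2, g2_1_2, n_1_5, n_2_5, p_2_5, g1_2_5, g2_2_5, hE_1_2, hE_2_5, hW_1, hW_5]
  have hZ_2_4 : T.a (v 2) (v 4) = 0 := by
    apply H8Num.eq_zero_of_dvd_lt (w := T.w (v 2)) (hdv1 2 4) n_2_4
    have tv18 := Q 0 0 1 1 1 0 (by norm_num)
    norm_num at tv18
    linarith only [tv18, d_2, w_2, d_3, w_3, d_4, w_4, n_2_3, p_2_3, g1_2_3, g2_2_3, n_2_4, n_3_4, p_3_4, g1_3_4, g2_3_4, hE_2_3, hW_3, hE_3_4, hW_4]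
  have hZ_3_5 : T.a (v 3) (v 5) = 0 := by
    apply H8Num.eq_zero_of_dvd_lt (w := T.w (v 2)) (by rw [← hW_3]; exact hdv1 3 5) n_3_5
    have tv19 := Q 0 0 1 1 0 1 (by norm_num)
    norm_num at tv19
    linarith only [tv19, d_2, w_2, d_3, w_3, d_5, w_5, n_2_3, p_2_3, g1_2_3, g2_2_3, n_2_5, p_2_5, g1_2_5, g2_2_5, n_3_5, hE_2_3, hE_2_5, hW_3, hW_5]
  have hZ_4_5 : T.a (v 4) (v 5) = 0 := by
    apply H8Num.eq_zero_of_dvd_lt (w := T.w (v 2)) (by rw [← hW_4]; exact hdv1 4 5) n_4_5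
    have tv20 := Q 0 0 1 1 1 1 (by norm_num)
    norm_num at tv20
    linarith only [tv20, d_2, w_2, d_3, w_3, d_4, w_4, d_5, w_5, n_2_3, p_2_3, g1_2_3, g2_2_3, n_2_4, n_2_5, p_2_5, g1_2_5, g2_2_5, n_3_4, p_3_4, g1_3_4, g2_3_4, n_3_5, n_4_5, hE_2_3, hE_2_5, hW_3, hW_5, hE_3_4, hW_4]
  have hM_0 : T.m (v 1) ≤ 2 * T.m (v 0) := by
    have row := H8Num.row_le T v 0
    simp only [Fin.sum_univ_six] at row
    simp only [s_0_1, s_0_2, s_0_3, s_0_4, s_0_5, s_1_2, s_1_3, s_1_4, s_1_5, s_2_3, s_2_4, s_2_5, s_3_4, s_3_5, s_4_5, hE_0_1, hZ_0_2, hZ_0_3, hZ_0_4, hZ_0_5, hE_1_2, hZ_1_3, hZ_1_4, hZ_1_5, hE_2_3, hZ_2_4, hE_2_5, hE_3_4, hZ_3_5, hZ_4_5, d_0, d_1, d_2, d_3, d_4, d_5, hW_0, hW_1, hW_3, hW_4, hW_5] at row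
    by_contra hcon
    push Not at hcon
    have hmp := mul_pos w_2 (sub_pos.2 hcon)
    linarith only [hmp, row]
  have hM_1 : T.m (v 0) + T.m (v 2) ≤ 2 * T.m (v 1) := by
    have row := H8Num.row_le T v 1
    simp only [Fin.sum_univ_six] at row
    simp only [s_0_1, s_0_2, s_0_3, s_0_4, s_0_5, s_1_2, s_1_3, s_1_4, s_1_5, s_2_3, s_2_4, s_2_5, s_3_4, s_3_5, s_4_5, hE_0_1, hZ_0_2, hZ_0_3, hZ_0_4, hZ_0_5, hE_1_2, hZ_1_3, hZ_1_4, hZ_1_5, hE_2_3, hZ_2_4, hE_2_5, hE_3_4, hZ_3_5, hZ_4_5, d_0, d_1, d_2, d_3, d_4, d_5, hW_0, hW_1, hW_3, hW_4, hW_5] at row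
    by_contra hcon
    push Not at hcon
    have hmp := mul_pos w_2 (sub_pos.2 hcon)
    linarith only [hmp, row]
  have hM_2 : T.m (v 1) + T.m (v 3) + T.m (v 5) ≤ 2 * T.m (v 2) := by
    have row := H8Num.row_le T v 2
    simp only [Fin.sum_univ_six] at row
    simp only [s_0_1, s_0_2, s_0_3, s_0_4, s_0_5, s_1_2, s_1_3, s_1_4, s_1_5, s_2_3, s_2_4, s_2_5, s_3_4, s_3_5, s_4_5, hE_0_1, hZ_0_2, hZ_0_3, hZ_0_4, hZ_0_5, hE_1_2, hZ_1_3, hZ_1_4, hZ_1_5, hE_2_3, hZ_2_4, hE_2_5, hE_3_4, hZ_3_5, hZ_4_5, d_0, d_1, d_2, d_3, d_4, d_5, hW_0, hW_1, hW_3, hW_4, hW_5] at row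
    by_contra hcon
    push Not at hcon
    have hmp := mul_pos w_2 (sub_pos.2 hcon)
    linarith only [hmp, row]
  have hM_3 : T.m (v 2) + T.m (v 4) ≤ 2 * T.m (v 3) := by
    have row := H8Num.row_le T v 3
    simp only [Fin.sum_univ_six] at row
    simp only [s_0_1, s_0_2, s_0_3, s_0_4, s_0_5, s_1_2, s_1_3, s_1_4, s_1_5, s_2_3, s_2_4, s_2_5, s_3_4, s_3_5, s_4_5, hE_0_1, hZ_0_2, hZ_0_3, hZ_0_4, hZ_0_5, hE_1_2, hZ_1_3, hZ_1_4, hZ_1_5, hE_2_3, hZ_2_4, hE_2_5, hE_3_4, hZ_3_5, hZ_4_5, d_0, d_1, d_2, d_3, d_4, d_5, hW_0, hW_1, hW_3, hW_4, hW_5] at row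
    by_contra hcon
    push Not at hcon
    have hmp := mul_pos w_2 (sub_pos.2 hcon)
    linarith only [hmp, row]
  have hM_4 : T.m (v 3) ≤ 2 * T.m (v 4) := by
    have row := H8Num.row_le T v 4
    simp only [Fin.sum_univ_six] at row
    simp only [s_0_1, s_0_2, s_0_3, s_0_4, s_0_5, s_1_2, s_1_3, s_1_4, s_1_5, s_2_3, s_2_4, s_2_5, s_3_4, s_3_5, s_4_5, hE_0_1, hZ_0_2, hZ_0_3, hZ_0_4, hZ_0_5, hE_1_2, hZ_1_3, hZ_1_4, hZ_1_5, hE_2_3, hZ_2_4, hE_2_5, hE_3_4, hZ_3_5, hZ_4_5, d_0, d_1, d_2, d_3, d_4, d_5, hW_0, hW_1, hW_3, hW_4, hW_5] at row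
    by_contra hcon
    push Not at hcon
    have hmp := mul_pos w_2 (sub_pos.2 hcon)
    linarith only [hmp, row]
  have hM_5 : T.m (v 2) ≤ 2 * T.m (v 5) := by
    have row := H8Num.row_le T v 5
    simp only [Fin.sum_univ_six] at row
    simp only [s_0_1, s_0_2, s_0_3, s_0_4, s_0_5, s_1_2, s_1_3, s_1_4, s_1_5, s_2_3, s_2_4, s_2_5, s_3_4, s_3_5, s_4_5, hE_0_1, hZ_0_2, hZ_0_3, hZ_0_4, hZ_0_5, hE_1_2, hZ_1_3, hZ_1_4, hZ_1_5, hE_2_3, hZ_2_4, hE_2_5, hE_3_4, hZ_3_5, hZ_4_5, d_0, d_1, d_2, d_3, d_4, d_5, hW_0, hW_1, hW_3, hW_4, hW_5] at row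
    by_contra hcon
    push Not at hcon
    have hmp := mul_pos w_2 (sub_pos.2 hcon)
    linarith only [hmp, row]
  exact ⟨T.w (v 2),
    fun j => by fin_cases j <;> first | rfl | exact hW_0 | exact hW_1 | exact hW_3 | exact hW_4 | exact hW_5,
    hE_0_1,
    hE_1_2,
    hE_2_3,
    hE_3_4,
    hE_2_5,
    hZ_0_2,
    hZ_0_3,
    hZ_0_4,
    hZ_0_5,
    hZ_1_3,
    hZ_1_4,
    hZ_1_5,
    hZ_2_4,
    hZ_3_5,
    hZ_4_5,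
    hM_0,
    hM_1,
    hM_2,
    hM_3,
    hM_4,
    hM_5⟩

end Groth.Agent.S7348
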