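import Groth.Statements.S7351
import Mathlib
import Groth.Agent.H8Num

set_option autoImplicit false
open Finset
open Models Models.NumericalType

namespace Groth.Agent.S7351

/-- Let T be a numerical type on n > 5 indices. There do not exist five distinct (-2)-indices h, i, j,
k, l with a_hi > 0, a_hj > 0, a_hk > 0 and a_hl > 0. -/
theorem result {n : ℕ} (T : Models.NumericalType n) (hn : 5 < n)
    (v : Fin 5 ↪ Fin n) (hv : ∀ j, T.IsMinusTwo (v j))
    (h01 : 0 < T.a (v 0) (v 1)) (h02 : 0 < T.a (v 0) (v 2)) (h03 : 0 < T.a (v 0) (v 3)) (h04 : 0 < T.a (v 0) (v 4)) : False := by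
  have hs : ∀ i j, T.a (v i) (v j) = T.a (v j) (v i) := fun i j => (T.symm.apply (v i) (v j)).symm ▸ rfl
  have h := H8Num.no_config T hn v hv ![2, 1, 1, 1, 1] (by intro j; fin_cases j <;> simp) ?_ 0
  · simp at h
  · intro j
    fin_cases j
    · refine ⟨{1, 2, 3, 4}, ?_, by decide⟩
      intro j' hj'
      simp only [Finset.mem_insert, Finset.mem_singleton] at hj'
      rcases hj' with rfl | rfl | rfl | rfl
      · exact ⟨by decide, h01.ne'⟩
      · exact ⟨by decide, h02.ne'⟩
      · exact ⟨by decide, h03.ne'⟩
      · exact ⟨by decide, h04.ne'⟩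
    · refine ⟨{0}, ?_, by decide⟩
      intro j' hj'
      simp only [Finset.mem_singleton] at hj'
      subst hj'
      exact ⟨by decide, by rw [hs]; exact h01.ne'⟩
    · refine ⟨{0}, ?_, by decide⟩
      intro j' hj'
      simp only [Finset.mem_singleton] at hj'
      subst hj'
      exact ⟨by decide, by rw [hs]; exact h02.ne'⟩
    · refine ⟨{0}, ?_, by decide⟩
      intro j' hj'
      simp only [Finset.mem_singleton] at hj'
      subst hj'
      exact ⟨by decide, by rw [hs]; exact h03.ne'⟩
    · refine ⟨{0}, ?_, by decide⟩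
      intro j' hj'
      simp only [Finset.mem_singleton] at hj'
      subst hj'
      exact ⟨by decide, by rw [hs]; exact h04.ne'⟩

end Groth.Agent.S7351
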