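import Groth.Statements.S7352
import Mathlib
import Groth.Agent.H8Num2

set_option autoImplicit false
set_option linter.unusedSimpArgs false
open Finset
open Models Models.NumericalType

namespace Groth.Agent.S7352

/-- Classification of proper subgraphs which are chains of four vertices: let T be a numerical type on n
> 4 indices and i_1, …, i_4 distinct (-2)-indices with a_{i_j i_{j+1}} nonzero for j < 4. Then
a_{i_j i_l} = 0 for |j - l| ≥ 2 and, after possibly reversing the order of the indices, for some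
integer w one of the following holds: (A4) w = (w, w, w, w), consecutive a = (w, w, w), with 2m_1 ≥
m_2, 2m_2 ≥ m_1 + m_3, 2m_3 ≥ m_2 + m_4, 2m_4 ≥ m_3; (C4) w = (w, w, w, 2w), consecutive a = (w, w,
2w), with 2m_1 ≥ m_2, 2m_2 ≥ m_1 + m_3, 2m_3 ≥ m_2 + 2m_4, 2m_4 ≥ m_3; (B4) w = (2w, 2w, 2w, w),
consecutive a = (2w, 2w, 2w), with 2m_1 ≥ m_2, 2m_2 ≥ m_1 + m_3, 2m_3 ≥ m_2 + m_4, m_4 ≥ m_3; (F4) w
= (w, w, 2w, 2w), consecutive a = (w, 2w, 2w), with 2m_1 ≥ m_2, 2m_2 ≥ m_1 + 2m_3, 2m_3 ≥ m_2 + m_4,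
2m_4 ≥ m_3. -/
theorem result {n : ℕ} (T : Models.NumericalType n) (hn : 4 < n)
    (v : Fin 4 ↪ Fin n) (hv : ∀ j, T.IsMinusTwo (v j)) (h01 : T.a (v 0) (v 1) ≠ 0) (h12 : T.a (v 1) (v 2) ≠ 0) (h23 : T.a (v 2) (v 3) ≠ 0) :
    (T.a (v 0) (v 2) = 0 ∧ T.a (v 0) (v 3) = 0 ∧ T.a (v 1) (v 3) = 0) ∧
    ∃ (u : Fin 4 → Fin n) (w : ℤ), ((∀ j, u j = v j) ∨ (∀ j, u j = v (Fin.rev j))) ∧
      ((T.w (u 0) = w ∧ T.w (u 1) = w ∧ T.w (u 2) = w ∧ T.w (u 3) = w ∧ T.a (u 0) (u 1) = w ∧ T.a (u 1) (u 2) = w ∧ T.a (u 2) (u 3) = w ∧ T.m (u 1) ≤ 2 * T.m (u 0) ∧ T.m (u 0) + T.m (u 2) ≤ 2 * T.m (u 1) ∧ T.m (u 1) + T.m (u 3) ≤ 2 * T.m (u 2) ∧ T.m (u 2) ≤ 2 * T.m (u 3)) ∨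
      (T.w (u 0) = w ∧ T.w (u 1) = w ∧ T.w (u 2) = w ∧ T.w (u 3) = 2 * w ∧ T.a (u 0) (u 1) = w ∧ T.a (u 1) (u 2) = w ∧ T.a (u 2) (u 3) = 2 * w ∧ T.m (u 1) ≤ 2 * T.m (u 0) ∧ T.m (u 0) + T.m (u 2) ≤ 2 * T.m (u 1) ∧ T.m (u 1) + 2 * T.m (u 3) ≤ 2 * T.m (u 2) ∧ T.m (u 2) ≤ 2 * T.m (u 3)) ∨
      (T.w (u 0) = 2 * w ∧ T.w (u 1) = 2 * w ∧ T.w (u 2) = 2 * w ∧ T.w (u 3) = w ∧ T.a (u 0) (u 1) = 2 * w ∧ T.a (u 1) (u 2) = 2 * w ∧ T.a (u 2) (u 3) = 2 * w ∧ T.m (u 1) ≤ 2 * T.m (u 0) ∧ T.m (u 0) + T.m (u 2) ≤ 2 * T.m (u 1) ∧ T.m (u 1) + T.m (u 3) ≤ 2 * T.m (u 2) ∧ T.m (u 2) ≤ T.m (u 3)) ∨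
      (T.w (u 0) = w ∧ T.w (u 1) = w ∧ T.w (u 2) = 2 * w ∧ T.w (u 3) = 2 * w ∧ T.a (u 0) (u 1) = w ∧ T.a (u 1) (u 2) = 2 * w ∧ T.a (u 2) (u 3) = 2 * w ∧ T.m (u 1) ≤ 2 * T.m (u 0) ∧ T.m (u 0) + 2 * T.m (u 2) ≤ 2 * T.m (u 1) ∧ T.m (u 1) + T.m (u 3) ≤ 2 * T.m (u 2) ∧ T.m (u 2) ≤ 2 * T.m (u 3))) := by
  classical
  have hs : ∀ i j, T.a (v i) (v j) = T.a (v j) (v i) := fun i j => (T.symm.apply (v i) (v j)).symm ▸ rfl
  have hnn : ∀ i j, i ≠ j → 0 ≤ T.a (v i) (v j) := fun i j h => T.offDiag_nonneg _ _ (fun e => h (v.injective e))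
  have hdv1 : ∀ i j, T.w (v i) ∣ T.a (v i) (v j) := fun i j => T.w_dvd _ _
  have hdv2 : ∀ i j, T.w (v j) ∣ T.a (v i) (v j) := fun i j => by rw [hs]; exact T.w_dvd _ _
  have d_0 : T.a (v 0) (v 0) = -2 * T.w (v 0) := (hv 0).2
  have w_0 : 0 < T.w (v 0) := T.w_pos _
  have d_1 : T.a (v 1) (v 1) = -2 * T.w (v 1) := (hv 1).2
  have w_1 : 0 < T.w (v 1) := T.w_pos _
  have d_2 : T.a (v 2) (v 2) = -2 * T.w (v 2) := (hv 2).2
  have w_2 : 0 < T.w (v 2) := T.w_pos _
  have d_3 : T.a (v 3) (v 3) = -2 * T.w (v 3) := (hv 3).2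
  have w_3 : 0 < T.w (v 3) := T.w_pos _
  have n_0_1 : 0 ≤ T.a (v 0) (v 1) := hnn 0 1 (by decide)
  have s_0_1 : T.a (v 1) (v 0) = T.a (v 0) (v 1) := hs 1 0
  have n_0_2 : 0 ≤ T.a (v 0) (v 2) := hnn 0 2 (by decide)
  have s_0_2 : T.a (v 2) (v 0) = T.a (v 0) (v 2) := hs 2 0
  have n_0_3 : 0 ≤ T.a (v 0) (v 3) := hnn 0 3 (by decide)
  have s_0_3 : T.a (v 3) (v 0) = T.a (v 0) (v 3) := hs 3 0
  have n_1_2 : 0 ≤ T.a (v 1) (v 2) := hnn 1 2 (by decide)
  have s_1_2 : T.a (v 2) (v 1) = T.a (v 1) (v 2) := hs 2 1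
  have n_1_3 : 0 ≤ T.a (v 1) (v 3) := hnn 1 3 (by decide)
  have s_1_3 : T.a (v 3) (v 1) = T.a (v 1) (v 3) := hs 3 1
  have n_2_3 : 0 ≤ T.a (v 2) (v 3) := hnn 2 3 (by decide)
  have s_2_3 : T.a (v 3) (v 2) = T.a (v 2) (v 3) := hs 3 2
  have Q : ∀ c0 c1 c2 c3 : ℤ, (c0 ≠ 0 ∨ c1 ≠ 0 ∨ c2 ≠ 0 ∨ c3 ≠ 0) →
      c0 * c0 * T.a (v 0) (v 0) + c1 * c1 * T.a (v 1) (v 1) + c2 * c2 * T.a (v 2) (v 2) + c3 * c3 * T.a (v 3) (v 3) + 2 * (c0 * c1 * T.a (v 0) (v 1) + c0 * c2 * T.a (v 0) (v 2) + c0 * c3 * T.a (v 0) (v 3) + c1 * c2 * T.a (v 1) (v 2) + c1 * c3 * T.a (v 1) (v 3) + c2 * c3 * T.a (v 2) (v 3)) < 0 := by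
    intro c0 c1 c2 c3 hc
    have h := H8Num.neg_of_ne_zero T hn v ![c0, c1, c2, c3] (by
      rcases hc with h | h | h | h
      · exact ⟨0, by simpa using h⟩
      · exact ⟨1, by simpa using h⟩
      · exact ⟨2, by simpa using h⟩
      · exact ⟨3, by simpa using h⟩
      )
    simp only [Fin.sum_univ_four] at h
    simp only [Matrix.cons_val_zero, Matrix.cons_val_one, Matrix.cons_val] at h
    simp only [s_0_1, s_0_2, s_0_3, s_1_2, s_1_3, s_2_3] at h
    linarith only [h]
  have p_0_1 : 0 < T.a (v 0) (v 1) := lt_of_le_of_ne n_0_1 (Ne.symm h01)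
  have g1_0_1 : T.w (v 0) ≤ T.a (v 0) (v 1) := Int.le_of_dvd p_0_1 (hdv1 0 1)
  have g2_0_1 : T.w (v 1) ≤ T.a (v 0) (v 1) := Int.le_of_dvd p_0_1 (hdv2 0 1)
  have p_1_2 : 0 < T.a (v 1) (v 2) := lt_of_le_of_ne n_1_2 (Ne.symm h12)
  have g1_1_2 : T.w (v 1) ≤ T.a (v 1) (v 2) := Int.le_of_dvd p_1_2 (hdv1 1 2)
  have g2_1_2 : T.w (v 2) ≤ T.a (v 1) (v 2) := Int.le_of_dvd p_1_2 (hdv2 1 2)
  have p_2_3 : 0 < T.a (v 2) (v 3) := lt_of_le_of_ne n_2_3 (Ne.symm h23)
  have g1_2_3 : T.w (v 2) ≤ T.a (v 2) (v 3) := Int.le_of_dvd p_2_3 (hdv1 2 3)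
  have g2_2_3 : T.w (v 3) ≤ T.a (v 2) (v 3) := Int.le_of_dvd p_2_3 (hdv2 2 3)
  have P_0 := H8Num.pair5 T (by omega) (v 0) (v 1) (fun e => absurd (v.injective e) (by decide)) (hv 0) (hv 1) h01
  have P_1 := H8Num.pair5 T (by omega) (v 1) (v 2) (fun e => absurd (v.injective e) (by decide)) (hv 1) (hv 2) h12
  have P_2 := H8Num.pair5 T (by omega) (v 2) (v 3) (fun e => absurd (v.injective e) (by decide)) (hv 2) (hv 3) h23
  rcases P_0 with ⟨e_0, a_0⟩ | ⟨e_0, a_0⟩ | ⟨e_0, a_0⟩ | ⟨e_0, a_0⟩ | ⟨e_0, a_0⟩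
  · skip
    rcases P_1 with ⟨e_1, a_1⟩ | ⟨e_1, a_1⟩ | ⟨e_1, a_1⟩ | ⟨e_1, a_1⟩ | ⟨e_1, a_1⟩
    · skip
      rcases P_2 with ⟨e_2, a_2⟩ | ⟨e_2, a_2⟩ | ⟨e_2, a_2⟩ | ⟨e_2, a_2⟩ | ⟨e_2, a_2⟩
      · skip
        have hWn_1 : T.w (v 1) = T.w (v 0) := by linarith only [e_0, e_1, e_2]
        have hWn_2 : T.w (v 2) = T.w (v 0) := by linarith only [e_0, e_1, e_2]
        have hWn_3 : T.w (v 3) = T.w (v 0) := by linarith only [e_0, e_1, e_2]
        have hAn_0 : T.a (v 0) (v 1) = T.w (v 0) := by linarith only [e_0, e_1, e_2, a_0]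
        have hAn_1 : T.a (v 1) (v 2) = T.w (v 0) := by linarith only [e_0, e_1, e_2, a_1]
        have hAn_2 : T.a (v 2) (v 3) = T.w (v 0) := by linarith only [e_0, e_1, e_2, a_2]
        have hZ_0_2 : T.a (v 0) (v 2) = 0 := by
          apply H8Num.eq_zero_of_dvd_lt (w := T.w (v 0)) (hdv1 0 2) n_0_2
          have tv := Q 1 1 1 0 (by norm_num)
          norm_num at tv
          linarith only [tv, hWn_1, hWn_2, hWn_3, hAn_0, hAn_1, hAn_2, d_0, d_1, d_2, w_0]
        have hZ_0_3 : T.a (v 0) (v 3) = 0 := by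
          apply H8Num.eq_zero_of_dvd_lt (w := T.w (v 0)) (hdv1 0 3) n_0_3
          have tv := Q 1 1 1 1 (by norm_num)
          norm_num at tv
          linarith only [tv, hWn_1, hWn_2, hWn_3, hAn_0, hAn_1, hAn_2, d_0, d_1, d_2, d_3, w_0, n_0_2, n_1_3]
        have hZ_1_3 : T.a (v 1) (v 3) = 0 := by
          apply H8Num.eq_zero_of_dvd_lt (w := T.w (v 1)) (hdv1 1 3) n_1_3
          have tv := Q 0 1 1 1 (by norm_num)
          norm_num at tv
          linarith only [tv, hWn_1, hWn_2, hWn_3, hAn_0, hAn_1, hAn_2, d_1, d_2, d_3, w_0]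
        have hM_0 : T.m (v 1) ≤ 2 * T.m (v 0) := by
          have row := H8Num.row_le T v 0
          simp only [Fin.sum_univ_four] at row
          simp only [s_0_1, s_0_2, s_0_3, s_1_2, s_1_3, s_2_3, hZ_0_2, hZ_0_3, hZ_1_3, hAn_0, hAn_1, hAn_2, d_0, d_1, d_2, d_3, hWn_1, hWn_2, hWn_3] at row
          by_contra hcon
          push Not at hcon
          have hmp := mul_pos w_0 (sub_pos.2 hcon)
          linarith only [hmp, row]
        have hM_1 : T.m (v 0) + T.m (v 2) ≤ 2 * T.m (v 1) := by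
          have row := H8Num.row_le T v 1
          simp only [Fin.sum_univ_four] at row
          simp only [s_0_1, s_0_2, s_0_3, s_1_2, s_1_3, s_2_3, hZ_0_2, hZ_0_3, hZ_1_3, hAn_0, hAn_1, hAn_2, d_0, d_1, d_2, d_3, hWn_1, hWn_2, hWn_3] at row
          by_contra hcon
          push Not at hcon
          have hmp := mul_pos w_0 (sub_pos.2 hcon)
          linarith only [hmp, row]
        have hM_2 : T.m (v 1) + T.m (v 3) ≤ 2 * T.m (v 2) := by
          have row := H8Num.row_le T v 2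
          simp only [Fin.sum_univ_four] at row
          simp only [s_0_1, s_0_2, s_0_3, s_1_2, s_1_3, s_2_3, hZ_0_2, hZ_0_3, hZ_1_3, hAn_0, hAn_1, hAn_2, d_0, d_1, d_2, d_3, hWn_1, hWn_2, hWn_3] at row
          by_contra hcon
          push Not at hcon
          have hmp := mul_pos w_0 (sub_pos.2 hcon)
          linarith only [hmp, row]
        have hM_3 : T.m (v 2) ≤ 2 * T.m (v 3) := by
          have row := H8Num.row_le T v 3
          simp only [Fin.sum_univ_four] at row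
          simp only [s_0_1, s_0_2, s_0_3, s_1_2, s_1_3, s_2_3, hZ_0_2, hZ_0_3, hZ_1_3, hAn_0, hAn_1, hAn_2, d_0, d_1, d_2, d_3, hWn_1, hWn_2, hWn_3] at row
          by_contra hcon
          push Not at hcon
          have hmp := mul_pos w_0 (sub_pos.2 hcon)
          linarith only [hmp, row]
        refine ⟨⟨hZ_0_2, hZ_0_3, hZ_1_3⟩, ⇑v, T.w (v 0), Or.inl (fun j => rfl), Or.inl ⟨?_, ?_, ?_, ?_, ?_, ?_, ?_, ?_, ?_, ?_, ?_⟩⟩
        · rfl
        · exact hWn_1
        · exact hWn_2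
        · exact hWn_3
        · exact hAn_0
        · exact hAn_1
        · exact hAn_2
        · show _ ≤ _
          skip
          linarith only [hM_0]
        · show _ ≤ _
          skip
          linarith only [hM_1]
        · show _ ≤ _
          skip
          linarith only [hM_2]
        · show _ ≤ _
          skip
          linarith only [hM_3]
      · skip
        have hWn_1 : T.w (v 1) = T.w (v 0) := by linarith only [e_0, e_1, e_2]
        have hWn_2 : T.w (v 2) = T.w (v 0) := by linarith only [e_0, e_1, e_2]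
        have hWn_3 : T.w (v 3) = 2 * T.w (v 0) := by linarith only [e_0, e_1, e_2]
        have hAn_0 : T.a (v 0) (v 1) = T.w (v 0) := by linarith only [e_0, e_1, e_2, a_0]
        have hAn_1 : T.a (v 1) (v 2) = T.w (v 0) := by linarith only [e_0, e_1, e_2, a_1]
        have hAn_2 : T.a (v 2) (v 3) = 2 * T.w (v 0) := by linarith only [e_0, e_1, e_2, a_2]
        have hZ_0_2 : T.a (v 0) (v 2) = 0 := by
          apply H8Num.eq_zero_of_dvd_lt (w := T.w (v 0)) (hdv1 0 2) n_0_2
          have tv := Q 1 1 1 0 (by norm_num)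
          norm_num at tv
          linarith only [tv, hWn_1, hWn_2, hWn_3, hAn_0, hAn_1, hAn_2, d_0, d_1, d_2, w_0]
        have hZ_0_3 : T.a (v 0) (v 3) = 0 := by
          apply H8Num.eq_zero_of_dvd_lt (w := T.w (v 0)) (hdv1 0 3) n_0_3
          have tv := Q 1 1 1 1 (by norm_num)
          norm_num at tv
          linarith only [tv, hWn_1, hWn_2, hWn_3, hAn_0, hAn_1, hAn_2, d_0, d_1, d_2, d_3, w_0, n_0_2, n_1_3]
        have hZ_1_3 : T.a (v 1) (v 3) = 0 := by
          apply H8Num.eq_zero_of_dvd_lt (w := T.w (v 1)) (hdv1 1 3) n_1_3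
          have tv := Q 0 1 1 1 (by norm_num)
          norm_num at tv
          linarith only [tv, hWn_1, hWn_2, hWn_3, hAn_0, hAn_1, hAn_2, d_1, d_2, d_3, w_0]
        have hM_0 : T.m (v 1) ≤ 2 * T.m (v 0) := by
          have row := H8Num.row_le T v 0
          simp only [Fin.sum_univ_four] at row
          simp only [s_0_1, s_0_2, s_0_3, s_1_2, s_1_3, s_2_3, hZ_0_2, hZ_0_3, hZ_1_3, hAn_0, hAn_1, hAn_2, d_0, d_1, d_2, d_3, hWn_1, hWn_2, hWn_3] at row
          by_contra hcon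
          push Not at hcon
          have hmp := mul_pos w_0 (sub_pos.2 hcon)
          linarith only [hmp, row]
        have hM_1 : T.m (v 0) + T.m (v 2) ≤ 2 * T.m (v 1) := by
          have row := H8Num.row_le T v 1
          simp only [Fin.sum_univ_four] at row
          simp only [s_0_1, s_0_2, s_0_3, s_1_2, s_1_3, s_2_3, hZ_0_2, hZ_0_3, hZ_1_3, hAn_0, hAn_1, hAn_2, d_0, d_1, d_2, d_3, hWn_1, hWn_2, hWn_3] at row
          by_contra hcon
          push Not at hcon
          have hmp := mul_pos w_0 (sub_pos.2 hcon)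
          linarith only [hmp, row]
        have hM_2 : T.m (v 1) + 2 * T.m (v 3) ≤ 2 * T.m (v 2) := by
          have row := H8Num.row_le T v 2
          simp only [Fin.sum_univ_four] at row
          simp only [s_0_1, s_0_2, s_0_3, s_1_2, s_1_3, s_2_3, hZ_0_2, hZ_0_3, hZ_1_3, hAn_0, hAn_1, hAn_2, d_0, d_1, d_2, d_3, hWn_1, hWn_2, hWn_3] at row
          by_contra hcon
          push Not at hcon
          have hmp := mul_pos w_0 (sub_pos.2 hcon)
          linarith only [hmp, row]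
        have hM_3 : T.m (v 2) ≤ 2 * T.m (v 3) := by
          have row := H8Num.row_le T v 3
          simp only [Fin.sum_univ_four] at row
          simp only [s_0_1, s_0_2, s_0_3, s_1_2, s_1_3, s_2_3, hZ_0_2, hZ_0_3, hZ_1_3, hAn_0, hAn_1, hAn_2, d_0, d_1, d_2, d_3, hWn_1, hWn_2, hWn_3] at row
          by_contra hcon
          push Not at hcon
          have hmp := mul_pos w_0 (sub_pos.2 hcon)
          linarith only [hmp, row]
        refine ⟨⟨hZ_0_2, hZ_0_3, hZ_1_3⟩, ⇑v, T.w (v 0), Or.inl (fun j => rfl), Or.inr (Or.inl ⟨?_, ?_, ?_, ?_, ?_, ?_, ?_, ?_, ?_, ?_, ?_⟩)⟩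
        · rfl
        · exact hWn_1
        · exact hWn_2
        · exact hWn_3
        · exact hAn_0
        · exact hAn_1
        · exact hAn_2
        · show _ ≤ _
          skip
          linarith only [hM_0]
        · show _ ≤ _
          skip
          linarith only [hM_1]
        · show _ ≤ _
          skip
          linarith only [hM_2]
        · show _ ≤ _
          skip
          linarith only [hM_3]
      · exfalso
        have tv := Q 0 1 2 1 (by norm_num)
        norm_num at tv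
        linarith only [tv, e_0, e_1, e_2, a_0, a_1, a_2, d_0, d_1, d_2, d_3, w_0, w_1, w_2, w_3, n_0_2, n_0_3, n_1_3]
      · skip
        have hWn_0 : T.w (v 0) = 2 * T.w (v 3) := by linarith only [e_0, e_1, e_2]
        have hWn_1 : T.w (v 1) = 2 * T.w (v 3) := by linarith only [e_0, e_1, e_2]
        have hWn_2 : T.w (v 2) = 2 * T.w (v 3) := by linarith only [e_0, e_1, e_2]
        have hAn_0 : T.a (v 0) (v 1) = 2 * T.w (v 3) := by linarith only [e_0, e_1, e_2, a_0]
        have hAn_1 : T.a (v 1) (v 2) = 2 * T.w (v 3) := by linarith only [e_0, e_1, e_2, a_1]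
        have hAn_2 : T.a (v 2) (v 3) = 2 * T.w (v 3) := by linarith only [e_0, e_1, e_2, a_2]
        have hZ_0_2 : T.a (v 0) (v 2) = 0 := by
          apply H8Num.eq_zero_of_dvd_lt (w := T.w (v 0)) (hdv1 0 2) n_0_2
          have tv := Q 1 1 1 0 (by norm_num)
          norm_num at tv
          linarith only [tv, hWn_0, hWn_1, hWn_2, hAn_0, hAn_1, hAn_2, d_0, d_1, d_2, w_3]
        have hZ_0_3 : T.a (v 0) (v 3) = 0 := by
          apply H8Num.eq_zero_of_dvd_lt (w := T.w (v 0)) (hdv1 0 3) n_0_3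
          have tv := Q 1 1 1 1 (by norm_num)
          norm_num at tv
          linarith only [tv, hWn_0, hWn_1, hWn_2, hAn_0, hAn_1, hAn_2, d_0, d_1, d_2, d_3, w_3, n_0_2, n_1_3]
        have hZ_1_3 : T.a (v 1) (v 3) = 0 := by
          apply H8Num.eq_zero_of_dvd_lt (w := T.w (v 1)) (hdv1 1 3) n_1_3
          have tv := Q 0 1 1 1 (by norm_num)
          norm_num at tv
          linarith only [tv, hWn_0, hWn_1, hWn_2, hAn_0, hAn_1, hAn_2, d_1, d_2, d_3, w_3]
        have hM_0 : T.m (v 1) ≤ 2 * T.m (v 0) := by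
          have row := H8Num.row_le T v 0
          simp only [Fin.sum_univ_four] at row
          simp only [s_0_1, s_0_2, s_0_3, s_1_2, s_1_3, s_2_3, hZ_0_2, hZ_0_3, hZ_1_3, hAn_0, hAn_1, hAn_2, d_0, d_1, d_2, d_3, hWn_0, hWn_1, hWn_2] at row
          by_contra hcon
          push Not at hcon
          have hmp := mul_pos w_3 (sub_pos.2 hcon)
          linarith only [hmp, row]
        have hM_1 : T.m (v 0) + T.m (v 2) ≤ 2 * T.m (v 1) := by
          have row := H8Num.row_le T v 1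
          simp only [Fin.sum_univ_four] at row
          simp only [s_0_1, s_0_2, s_0_3, s_1_2, s_1_3, s_2_3, hZ_0_2, hZ_0_3, hZ_1_3, hAn_0, hAn_1, hAn_2, d_0, d_1, d_2, d_3, hWn_0, hWn_1, hWn_2] at row
          by_contra hcon
          push Not at hcon
          have hmp := mul_pos w_3 (sub_pos.2 hcon)
          linarith only [hmp, row]
        have hM_2 : T.m (v 1) + T.m (v 3) ≤ 2 * T.m (v 2) := by
          have row := H8Num.row_le T v 2
          simp only [Fin.sum_univ_four] at row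
          simp only [s_0_1, s_0_2, s_0_3, s_1_2, s_1_3, s_2_3, hZ_0_2, hZ_0_3, hZ_1_3, hAn_0, hAn_1, hAn_2, d_0, d_1, d_2, d_3, hWn_0, hWn_1, hWn_2] at row
          by_contra hcon
          push Not at hcon
          have hmp := mul_pos w_3 (sub_pos.2 hcon)
          linarith only [hmp, row]
        have hM_3 : 2 * T.m (v 2) ≤ 2 * T.m (v 3) := by
          have row := H8Num.row_le T v 3
          simp only [Fin.sum_univ_four] at row
          simp only [s_0_1, s_0_2, s_0_3, s_1_2, s_1_3, s_2_3, hZ_0_2, hZ_0_3, hZ_1_3, hAn_0, hAn_1, hAn_2, d_0, d_1, d_2, d_3, hWn_0, hWn_1, hWn_2] at row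
          by_contra hcon
          push Not at hcon
          have hmp := mul_pos w_3 (sub_pos.2 hcon)
          linarith only [hmp, row]
        refine ⟨⟨hZ_0_2, hZ_0_3, hZ_1_3⟩, ⇑v, T.w (v 3), Or.inl (fun j => rfl), Or.inr (Or.inr (Or.inl ⟨?_, ?_, ?_, ?_, ?_, ?_, ?_, ?_, ?_, ?_, ?_⟩))⟩
        · exact hWn_0
        · exact hWn_1
        · exact hWn_2
        · rfl
        · exact hAn_0
        · exact hAn_1
        · exact hAn_2
        · show _ ≤ _
          skip
          linarith only [hM_0]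
        · show _ ≤ _
          skip
          linarith only [hM_1]
        · show _ ≤ _
          skip
          linarith only [hM_2]
        · show _ ≤ _
          skip
          linarith only [hM_3]
      · exfalso
        have tv := Q 0 1 2 3 (by norm_num)
        norm_num at tv
        linarith only [tv, e_0, e_1, e_2, a_0, a_1, a_2, d_0, d_1, d_2, d_3, w_0, w_1, w_2, w_3, n_0_2, n_0_3, n_1_3]
    · skip
      rcases P_2 with ⟨e_2, a_2⟩ | ⟨e_2, a_2⟩ | ⟨e_2, a_2⟩ | ⟨e_2, a_2⟩ | ⟨e_2, a_2⟩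
      · skip
        have hWn_1 : T.w (v 1) = T.w (v 0) := by linarith only [e_0, e_1, e_2]
        have hWn_2 : T.w (v 2) = 2 * T.w (v 0) := by linarith only [e_0, e_1, e_2]
        have hWn_3 : T.w (v 3) = 2 * T.w (v 0) := by linarith only [e_0, e_1, e_2]
        have hAn_0 : T.a (v 0) (v 1) = T.w (v 0) := by linarith only [e_0, e_1, e_2, a_0]
        have hAn_1 : T.a (v 1) (v 2) = 2 * T.w (v 0) := by linarith only [e_0, e_1, e_2, a_1]
        have hAn_2 : T.a (v 2) (v 3) = 2 * T.w (v 0) := by linarith only [e_0, e_1, e_2, a_2]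
        have hZ_0_2 : T.a (v 0) (v 2) = 0 := by
          apply H8Num.eq_zero_of_dvd_lt (w := T.w (v 0)) (hdv1 0 2) n_0_2
          have tv := Q 1 1 1 0 (by norm_num)
          norm_num at tv
          linarith only [tv, hWn_1, hWn_2, hWn_3, hAn_0, hAn_1, hAn_2, d_0, d_1, d_2, w_0]
        have hZ_0_3 : T.a (v 0) (v 3) = 0 := by
          apply H8Num.eq_zero_of_dvd_lt (w := T.w (v 0)) (hdv1 0 3) n_0_3
          have tv := Q 1 1 1 1 (by norm_num)
          norm_num at tv
          linarith only [tv, hWn_1, hWn_2, hWn_3, hAn_0, hAn_1, hAn_2, d_0, d_1, d_2, d_3, w_0, n_0_2, n_1_3]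
        have hZ_1_3 : T.a (v 1) (v 3) = 0 := by
          apply H8Num.eq_zero_of_dvd_lt (w := T.w (v 1)) (hdv1 1 3) n_1_3
          have tv := Q 0 1 1 1 (by norm_num)
          norm_num at tv
          linarith only [tv, hWn_1, hWn_2, hWn_3, hAn_0, hAn_1, hAn_2, d_1, d_2, d_3, w_0]
        have hM_0 : T.m (v 1) ≤ 2 * T.m (v 0) := by
          have row := H8Num.row_le T v 0
          simp only [Fin.sum_univ_four] at row
          simp only [s_0_1, s_0_2, s_0_3, s_1_2, s_1_3, s_2_3, hZ_0_2, hZ_0_3, hZ_1_3, hAn_0, hAn_1, hAn_2, d_0, d_1, d_2, d_3, hWn_1, hWn_2, hWn_3] at row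
          by_contra hcon
          push Not at hcon
          have hmp := mul_pos w_0 (sub_pos.2 hcon)
          linarith only [hmp, row]
        have hM_1 : T.m (v 0) + 2 * T.m (v 2) ≤ 2 * T.m (v 1) := by
          have row := H8Num.row_le T v 1
          simp only [Fin.sum_univ_four] at row
          simp only [s_0_1, s_0_2, s_0_3, s_1_2, s_1_3, s_2_3, hZ_0_2, hZ_0_3, hZ_1_3, hAn_0, hAn_1, hAn_2, d_0, d_1, d_2, d_3, hWn_1, hWn_2, hWn_3] at row
          by_contra hcon
          push Not at hcon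
          have hmp := mul_pos w_0 (sub_pos.2 hcon)
          linarith only [hmp, row]
        have hM_2 : T.m (v 1) + T.m (v 3) ≤ 2 * T.m (v 2) := by
          have row := H8Num.row_le T v 2
          simp only [Fin.sum_univ_four] at row
          simp only [s_0_1, s_0_2, s_0_3, s_1_2, s_1_3, s_2_3, hZ_0_2, hZ_0_3, hZ_1_3, hAn_0, hAn_1, hAn_2, d_0, d_1, d_2, d_3, hWn_1, hWn_2, hWn_3] at row
          by_contra hcon
          push Not at hcon
          have hmp := mul_pos w_0 (sub_pos.2 hcon)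
          linarith only [hmp, row]
        have hM_3 : T.m (v 2) ≤ 2 * T.m (v 3) := by
          have row := H8Num.row_le T v 3
          simp only [Fin.sum_univ_four] at row
          simp only [s_0_1, s_0_2, s_0_3, s_1_2, s_1_3, s_2_3, hZ_0_2, hZ_0_3, hZ_1_3, hAn_0, hAn_1, hAn_2, d_0, d_1, d_2, d_3, hWn_1, hWn_2, hWn_3] at row
          by_contra hcon
          push Not at hcon
          have hmp := mul_pos w_0 (sub_pos.2 hcon)
          linarith only [hmp, row]
        refine ⟨⟨hZ_0_2, hZ_0_3, hZ_1_3⟩, ⇑v, T.w (v 0), Or.inl (fun j => rfl), Or.inr (Or.inr (Or.inr (⟨?_, ?_, ?_, ?_, ?_, ?_, ?_, ?_, ?_, ?_, ?_⟩)))⟩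
        · rfl
        · exact hWn_1
        · exact hWn_2
        · exact hWn_3
        · exact hAn_0
        · exact hAn_1
        · exact hAn_2
        · show _ ≤ _
          skip
          linarith only [hM_0]
        · show _ ≤ _
          skip
          linarith only [hM_1]
        · show _ ≤ _
          skip
          linarith only [hM_2]
        · show _ ≤ _
          skip
          linarith only [hM_3]
      · exfalso
        have tv := Q 0 2 2 1 (by norm_num)
        norm_num at tv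
        linarith only [tv, e_0, e_1, e_2, a_0, a_1, a_2, d_0, d_1, d_2, d_3, w_0, w_1, w_2, w_3, n_0_2, n_0_3, n_1_3]
      · exfalso
        have tv := Q 0 1 2 1 (by norm_num)
        norm_num at tv
        linarith only [tv, e_0, e_1, e_2, a_0, a_1, a_2, d_0, d_1, d_2, d_3, w_0, w_1, w_2, w_3, n_0_2, n_0_3, n_1_3]
      · exfalso
        have tv := Q 0 1 1 1 (by norm_num)
        norm_num at tv
        linarith only [tv, e_0, e_1, e_2, a_0, a_1, a_2, d_0, d_1, d_2, d_3, w_0, w_1, w_2, w_3, n_0_2, n_0_3, n_1_3]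
      · exfalso
        have tv := Q 0 1 1 1 (by norm_num)
        norm_num at tv
        linarith only [tv, e_0, e_1, e_2, a_0, a_1, a_2, d_0, d_1, d_2, d_3, w_0, w_1, w_2, w_3, n_0_2, n_0_3, n_1_3]
    · exfalso
      have tv := Q 1 2 1 0 (by norm_num)
      norm_num at tv
      linarith only [tv, e_0, e_1, a_0, a_1, d_0, d_1, d_2, w_0, w_1, w_2, n_0_2]
    · skip
      rcases P_2 with ⟨e_2, a_2⟩ | ⟨e_2, a_2⟩ | ⟨e_2, a_2⟩ | ⟨e_2, a_2⟩ | ⟨e_2, a_2⟩
      · skip
        have hWn_0 : T.w (v 0) = 2 * T.w (v 2) := by linarith only [e_0, e_1, e_2]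
        have hWn_1 : T.w (v 1) = 2 * T.w (v 2) := by linarith only [e_0, e_1, e_2]
        have hWn_3 : T.w (v 3) = T.w (v 2) := by linarith only [e_0, e_1, e_2]
        have hAn_0 : T.a (v 0) (v 1) = 2 * T.w (v 2) := by linarith only [e_0, e_1, e_2, a_0]
        have hAn_1 : T.a (v 1) (v 2) = 2 * T.w (v 2) := by linarith only [e_0, e_1, e_2, a_1]
        have hAn_2 : T.a (v 2) (v 3) = T.w (v 2) := by linarith only [e_0, e_1, e_2, a_2]
        have hZ_0_2 : T.a (v 0) (v 2) = 0 := by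
          apply H8Num.eq_zero_of_dvd_lt (w := T.w (v 0)) (hdv1 0 2) n_0_2
          have tv := Q 1 1 1 0 (by norm_num)
          norm_num at tv
          linarith only [tv, hWn_0, hWn_1, hWn_3, hAn_0, hAn_1, hAn_2, d_0, d_1, d_2, w_2]
        have hZ_0_3 : T.a (v 0) (v 3) = 0 := by
          apply H8Num.eq_zero_of_dvd_lt (w := T.w (v 0)) (hdv1 0 3) n_0_3
          have tv := Q 1 1 1 1 (by norm_num)
          norm_num at tv
          linarith only [tv, hWn_0, hWn_1, hWn_3, hAn_0, hAn_1, hAn_2, d_0, d_1, d_2, d_3, w_2, n_0_2, n_1_3]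
        have hZ_1_3 : T.a (v 1) (v 3) = 0 := by
          apply H8Num.eq_zero_of_dvd_lt (w := T.w (v 1)) (hdv1 1 3) n_1_3
          have tv := Q 0 1 1 1 (by norm_num)
          norm_num at tv
          linarith only [tv, hWn_0, hWn_1, hWn_3, hAn_0, hAn_1, hAn_2, d_1, d_2, d_3, w_2]
        have hM_0 : T.m (v 1) ≤ 2 * T.m (v 0) := by
          have row := H8Num.row_le T v 0
          simp only [Fin.sum_univ_four] at row
          simp only [s_0_1, s_0_2, s_0_3, s_1_2, s_1_3, s_2_3, hZ_0_2, hZ_0_3, hZ_1_3, hAn_0, hAn_1, hAn_2, d_0, d_1, d_2, d_3, hWn_0, hWn_1, hWn_3] at row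
          by_contra hcon
          push Not at hcon
          have hmp := mul_pos w_2 (sub_pos.2 hcon)
          linarith only [hmp, row]
        have hM_1 : T.m (v 0) + T.m (v 2) ≤ 2 * T.m (v 1) := by
          have row := H8Num.row_le T v 1
          simp only [Fin.sum_univ_four] at row
          simp only [s_0_1, s_0_2, s_0_3, s_1_2, s_1_3, s_2_3, hZ_0_2, hZ_0_3, hZ_1_3, hAn_0, hAn_1, hAn_2, d_0, d_1, d_2, d_3, hWn_0, hWn_1, hWn_3] at row
          by_contra hcon
          push Not at hcon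
          have hmp := mul_pos w_2 (sub_pos.2 hcon)
          linarith only [hmp, row]
        have hM_2 : 2 * T.m (v 1) + T.m (v 3) ≤ 2 * T.m (v 2) := by
          have row := H8Num.row_le T v 2
          simp only [Fin.sum_univ_four] at row
          simp only [s_0_1, s_0_2, s_0_3, s_1_2, s_1_3, s_2_3, hZ_0_2, hZ_0_3, hZ_1_3, hAn_0, hAn_1, hAn_2, d_0, d_1, d_2, d_3, hWn_0, hWn_1, hWn_3] at row
          by_contra hcon
          push Not at hcon
          have hmp := mul_pos w_2 (sub_pos.2 hcon)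
          linarith only [hmp, row]
        have hM_3 : T.m (v 2) ≤ 2 * T.m (v 3) := by
          have row := H8Num.row_le T v 3
          simp only [Fin.sum_univ_four] at row
          simp only [s_0_1, s_0_2, s_0_3, s_1_2, s_1_3, s_2_3, hZ_0_2, hZ_0_3, hZ_1_3, hAn_0, hAn_1, hAn_2, d_0, d_1, d_2, d_3, hWn_0, hWn_1, hWn_3] at row
          by_contra hcon
          push Not at hcon
          have hmp := mul_pos w_2 (sub_pos.2 hcon)
          linarith only [hmp, row]
        refine ⟨⟨hZ_0_2, hZ_0_3, hZ_1_3⟩, ![v 3, v 2, v 1, v 0], T.w (v 2), Or.inr (fun j => by fin_cases j <;> rfl), Or.inr (Or.inr (Or.inr (⟨?_, ?_, ?_, ?_, ?_, ?_, ?_, ?_, ?_, ?_, ?_⟩)))⟩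
        · exact hWn_3
        · rfl
        · exact hWn_1
        · exact hWn_0
        · exact (s_2_3).trans hAn_2
        · exact (s_1_2).trans hAn_1
        · exact (s_0_1).trans hAn_0
        · show _ ≤ _
          simp only [Matrix.cons_val_zero, Matrix.cons_val_one, Matrix.cons_val]
          linarith only [hM_3]
        · show _ ≤ _
          simp only [Matrix.cons_val_zero, Matrix.cons_val_one, Matrix.cons_val]
          linarith only [hM_2]
        · show _ ≤ _
          simp only [Matrix.cons_val_zero, Matrix.cons_val_one, Matrix.cons_val]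
          linarith only [hM_1]
        · show _ ≤ _
          simp only [Matrix.cons_val_zero, Matrix.cons_val_one, Matrix.cons_val]
          linarith only [hM_0]
      · exfalso
        have tv := Q 0 1 2 1 (by norm_num)
        norm_num at tv
        linarith only [tv, e_0, e_1, e_2, a_0, a_1, a_2, d_0, d_1, d_2, d_3, w_0, w_1, w_2, w_3, n_0_2, n_0_3, n_1_3]
      · exfalso
        have tv := Q 0 1 2 1 (by norm_num)
        norm_num at tv
        linarith only [tv, e_0, e_1, e_2, a_0, a_1, a_2, d_0, d_1, d_2, d_3, w_0, w_1, w_2, w_3, n_0_2, n_0_3, n_1_3]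
      · exfalso
        have tv := Q 0 1 2 2 (by norm_num)
        norm_num at tv
        linarith only [tv, e_0, e_1, e_2, a_0, a_1, a_2, d_0, d_1, d_2, d_3, w_0, w_1, w_2, w_3, n_0_2, n_0_3, n_1_3]
      · exfalso
        have tv := Q 0 1 2 2 (by norm_num)
        norm_num at tv
        linarith only [tv, e_0, e_1, e_2, a_0, a_1, a_2, d_0, d_1, d_2, d_3, w_0, w_1, w_2, w_3, n_0_2, n_0_3, n_1_3]
    · exfalso
      have tv := Q 1 2 3 0 (by norm_num)
      norm_num at tv
      linarith only [tv, e_0, e_1, a_0, a_1, d_0, d_1, d_2, w_0, w_1, w_2, n_0_2]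
  · skip
    rcases P_1 with ⟨e_1, a_1⟩ | ⟨e_1, a_1⟩ | ⟨e_1, a_1⟩ | ⟨e_1, a_1⟩ | ⟨e_1, a_1⟩
    · skip
      rcases P_2 with ⟨e_2, a_2⟩ | ⟨e_2, a_2⟩ | ⟨e_2, a_2⟩ | ⟨e_2, a_2⟩ | ⟨e_2, a_2⟩
      · skip
        have hWn_1 : T.w (v 1) = 2 * T.w (v 0) := by linarith only [e_0, e_1, e_2]
        have hWn_2 : T.w (v 2) = 2 * T.w (v 0) := by linarith only [e_0, e_1, e_2]
        have hWn_3 : T.w (v 3) = 2 * T.w (v 0) := by linarith only [e_0, e_1, e_2]
        have hAn_0 : T.a (v 0) (v 1) = 2 * T.w (v 0) := by linarith only [e_0, e_1, e_2, a_0]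
        have hAn_1 : T.a (v 1) (v 2) = 2 * T.w (v 0) := by linarith only [e_0, e_1, e_2, a_1]
        have hAn_2 : T.a (v 2) (v 3) = 2 * T.w (v 0) := by linarith only [e_0, e_1, e_2, a_2]
        have hZ_0_2 : T.a (v 0) (v 2) = 0 := by
          apply H8Num.eq_zero_of_dvd_lt (w := T.w (v 0)) (hdv1 0 2) n_0_2
          have tv := Q 1 1 1 0 (by norm_num)
          norm_num at tv
          linarith only [tv, hWn_1, hWn_2, hWn_3, hAn_0, hAn_1, hAn_2, d_0, d_1, d_2, w_0]
        have hZ_0_3 : T.a (v 0) (v 3) = 0 := by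
          apply H8Num.eq_zero_of_dvd_lt (w := T.w (v 0)) (hdv1 0 3) n_0_3
          have tv := Q 1 1 1 1 (by norm_num)
          norm_num at tv
          linarith only [tv, hWn_1, hWn_2, hWn_3, hAn_0, hAn_1, hAn_2, d_0, d_1, d_2, d_3, w_0, n_0_2, n_1_3]
        have hZ_1_3 : T.a (v 1) (v 3) = 0 := by
          apply H8Num.eq_zero_of_dvd_lt (w := T.w (v 1)) (hdv1 1 3) n_1_3
          have tv := Q 0 1 1 1 (by norm_num)
          norm_num at tv
          linarith only [tv, hWn_1, hWn_2, hWn_3, hAn_0, hAn_1, hAn_2, d_1, d_2, d_3, w_0]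
        have hM_0 : 2 * T.m (v 1) ≤ 2 * T.m (v 0) := by
          have row := H8Num.row_le T v 0
          simp only [Fin.sum_univ_four] at row
          simp only [s_0_1, s_0_2, s_0_3, s_1_2, s_1_3, s_2_3, hZ_0_2, hZ_0_3, hZ_1_3, hAn_0, hAn_1, hAn_2, d_0, d_1, d_2, d_3, hWn_1, hWn_2, hWn_3] at row
          by_contra hcon
          push Not at hcon
          have hmp := mul_pos w_0 (sub_pos.2 hcon)
          linarith only [hmp, row]
        have hM_1 : T.m (v 0) + T.m (v 2) ≤ 2 * T.m (v 1) := by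
          have row := H8Num.row_le T v 1
          simp only [Fin.sum_univ_four] at row
          simp only [s_0_1, s_0_2, s_0_3, s_1_2, s_1_3, s_2_3, hZ_0_2, hZ_0_3, hZ_1_3, hAn_0, hAn_1, hAn_2, d_0, d_1, d_2, d_3, hWn_1, hWn_2, hWn_3] at row
          by_contra hcon
          push Not at hcon
          have hmp := mul_pos w_0 (sub_pos.2 hcon)
          linarith only [hmp, row]
        have hM_2 : T.m (v 1) + T.m (v 3) ≤ 2 * T.m (v 2) := by
          have row := H8Num.row_le T v 2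
          simp only [Fin.sum_univ_four] at row
          simp only [s_0_1, s_0_2, s_0_3, s_1_2, s_1_3, s_2_3, hZ_0_2, hZ_0_3, hZ_1_3, hAn_0, hAn_1, hAn_2, d_0, d_1, d_2, d_3, hWn_1, hWn_2, hWn_3] at row
          by_contra hcon
          push Not at hcon
          have hmp := mul_pos w_0 (sub_pos.2 hcon)
          linarith only [hmp, row]
        have hM_3 : T.m (v 2) ≤ 2 * T.m (v 3) := by
          have row := H8Num.row_le T v 3
          simp only [Fin.sum_univ_four] at row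
          simp only [s_0_1, s_0_2, s_0_3, s_1_2, s_1_3, s_2_3, hZ_0_2, hZ_0_3, hZ_1_3, hAn_0, hAn_1, hAn_2, d_0, d_1, d_2, d_3, hWn_1, hWn_2, hWn_3] at row
          by_contra hcon
          push Not at hcon
          have hmp := mul_pos w_0 (sub_pos.2 hcon)
          linarith only [hmp, row]
        refine ⟨⟨hZ_0_2, hZ_0_3, hZ_1_3⟩, ![v 3, v 2, v 1, v 0], T.w (v 0), Or.inr (fun j => by fin_cases j <;> rfl), Or.inr (Or.inr (Or.inl ⟨?_, ?_, ?_, ?_, ?_, ?_, ?_, ?_, ?_, ?_, ?_⟩))⟩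
        · exact hWn_3
        · exact hWn_2
        · exact hWn_1
        · rfl
        · exact (s_2_3).trans hAn_2
        · exact (s_1_2).trans hAn_1
        · exact (s_0_1).trans hAn_0
        · show _ ≤ _
          simp only [Matrix.cons_val_zero, Matrix.cons_val_one, Matrix.cons_val]
          linarith only [hM_3]
        · show _ ≤ _
          simp only [Matrix.cons_val_zero, Matrix.cons_val_one, Matrix.cons_val]
          linarith only [hM_2]
        · show _ ≤ _
          simp only [Matrix.cons_val_zero, Matrix.cons_val_one, Matrix.cons_val]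
          linarith only [hM_1]
        · show _ ≤ _
          simp only [Matrix.cons_val_zero, Matrix.cons_val_one, Matrix.cons_val]
          linarith only [hM_0]
      · exfalso
        have tv := Q 2 2 2 1 (by norm_num)
        norm_num at tv
        linarith only [tv, e_0, e_1, e_2, a_0, a_1, a_2, d_0, d_1, d_2, d_3, w_0, w_1, w_2, w_3, n_0_2, n_0_3, n_1_3]
      · exfalso
        have tv := Q 0 1 2 1 (by norm_num)
        norm_num at tv
        linarith only [tv, e_0, e_1, e_2, a_0, a_1, a_2, d_0, d_1, d_2, d_3, w_0, w_1, w_2, w_3, n_0_2, n_0_3, n_1_3]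
      · exfalso
        have tv := Q 1 1 1 1 (by norm_num)
        norm_num at tv
        linarith only [tv, e_0, e_1, e_2, a_0, a_1, a_2, d_0, d_1, d_2, d_3, w_0, w_1, w_2, w_3, n_0_2, n_0_3, n_1_3]
      · exfalso
        have tv := Q 1 1 1 1 (by norm_num)
        norm_num at tv
        linarith only [tv, e_0, e_1, e_2, a_0, a_1, a_2, d_0, d_1, d_2, d_3, w_0, w_1, w_2, w_3, n_0_2, n_0_3, n_1_3]
    · exfalso
      have tv := Q 2 2 1 0 (by norm_num)
      norm_num at tv
      linarith only [tv, e_0, e_1, a_0, a_1, d_0, d_1, d_2, w_0, w_1, w_2, n_0_2]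
    · exfalso
      have tv := Q 1 2 1 0 (by norm_num)
      norm_num at tv
      linarith only [tv, e_0, e_1, a_0, a_1, d_0, d_1, d_2, w_0, w_1, w_2, n_0_2]
    · exfalso
      have tv := Q 1 1 1 0 (by norm_num)
      norm_num at tv
      linarith only [tv, e_0, e_1, a_0, a_1, d_0, d_1, d_2, w_0, w_1, w_2, n_0_2]
    · exfalso
      have tv := Q 1 1 1 0 (by norm_num)
      norm_num at tv
      linarith only [tv, e_0, e_1, a_0, a_1, d_0, d_1, d_2, w_0, w_1, w_2, n_0_2]
  · skip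
    rcases P_1 with ⟨e_1, a_1⟩ | ⟨e_1, a_1⟩ | ⟨e_1, a_1⟩ | ⟨e_1, a_1⟩ | ⟨e_1, a_1⟩
    · exfalso
      have tv := Q 3 2 1 0 (by norm_num)
      norm_num at tv
      linarith only [tv, e_0, e_1, a_0, a_1, d_0, d_1, d_2, w_0, w_1, w_2, n_0_2]
    · exfalso
      have tv := Q 2 2 1 0 (by norm_num)
      norm_num at tv
      linarith only [tv, e_0, e_1, a_0, a_1, d_0, d_1, d_2, w_0, w_1, w_2, n_0_2]
    · exfalso
      have tv := Q 1 2 1 0 (by norm_num)
      norm_num at tv
      linarith only [tv, e_0, e_1, a_0, a_1, d_0, d_1, d_2, w_0, w_1, w_2, n_0_2]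
    · exfalso
      have tv := Q 1 1 1 0 (by norm_num)
      norm_num at tv
      linarith only [tv, e_0, e_1, a_0, a_1, d_0, d_1, d_2, w_0, w_1, w_2, n_0_2]
    · exfalso
      have tv := Q 1 1 1 0 (by norm_num)
      norm_num at tv
      linarith only [tv, e_0, e_1, a_0, a_1, d_0, d_1, d_2, w_0, w_1, w_2, n_0_2]
  · skip
    rcases P_1 with ⟨e_1, a_1⟩ | ⟨e_1, a_1⟩ | ⟨e_1, a_1⟩ | ⟨e_1, a_1⟩ | ⟨e_1, a_1⟩
    · skip
      rcases P_2 with ⟨e_2, a_2⟩ | ⟨e_2, a_2⟩ | ⟨e_2, a_2⟩ | ⟨e_2, a_2⟩ | ⟨e_2, a_2⟩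
      · skip
        have hWn_0 : T.w (v 0) = 2 * T.w (v 1) := by linarith only [e_0, e_1, e_2]
        have hWn_2 : T.w (v 2) = T.w (v 1) := by linarith only [e_0, e_1, e_2]
        have hWn_3 : T.w (v 3) = T.w (v 1) := by linarith only [e_0, e_1, e_2]
        have hAn_0 : T.a (v 0) (v 1) = 2 * T.w (v 1) := by linarith only [e_0, e_1, e_2, a_0]
        have hAn_1 : T.a (v 1) (v 2) = T.w (v 1) := by linarith only [e_0, e_1, e_2, a_1]
        have hAn_2 : T.a (v 2) (v 3) = T.w (v 1) := by linarith only [e_0, e_1, e_2, a_2]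
        have hZ_0_2 : T.a (v 0) (v 2) = 0 := by
          apply H8Num.eq_zero_of_dvd_lt (w := T.w (v 0)) (hdv1 0 2) n_0_2
          have tv := Q 1 1 1 0 (by norm_num)
          norm_num at tv
          linarith only [tv, hWn_0, hWn_2, hWn_3, hAn_0, hAn_1, hAn_2, d_0, d_1, d_2, w_1]
        have hZ_0_3 : T.a (v 0) (v 3) = 0 := by
          apply H8Num.eq_zero_of_dvd_lt (w := T.w (v 0)) (hdv1 0 3) n_0_3
          have tv := Q 1 1 1 1 (by norm_num)
          norm_num at tv
          linarith only [tv, hWn_0, hWn_2, hWn_3, hAn_0, hAn_1, hAn_2, d_0, d_1, d_2, d_3, w_1, n_0_2, n_1_3]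
        have hZ_1_3 : T.a (v 1) (v 3) = 0 := by
          apply H8Num.eq_zero_of_dvd_lt (w := T.w (v 1)) (hdv1 1 3) n_1_3
          have tv := Q 0 1 1 1 (by norm_num)
          norm_num at tv
          linarith only [tv, hWn_0, hWn_2, hWn_3, hAn_0, hAn_1, hAn_2, d_1, d_2, d_3, w_1]
        have hM_0 : T.m (v 1) ≤ 2 * T.m (v 0) := by
          have row := H8Num.row_le T v 0
          simp only [Fin.sum_univ_four] at row
          simp only [s_0_1, s_0_2, s_0_3, s_1_2, s_1_3, s_2_3, hZ_0_2, hZ_0_3, hZ_1_3, hAn_0, hAn_1, hAn_2, d_0, d_1, d_2, d_3, hWn_0, hWn_2, hWn_3] at row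
          by_contra hcon
          push Not at hcon
          have hmp := mul_pos w_1 (sub_pos.2 hcon)
          linarith only [hmp, row]
        have hM_1 : 2 * T.m (v 0) + T.m (v 2) ≤ 2 * T.m (v 1) := by
          have row := H8Num.row_le T v 1
          simp only [Fin.sum_univ_four] at row
          simp only [s_0_1, s_0_2, s_0_3, s_1_2, s_1_3, s_2_3, hZ_0_2, hZ_0_3, hZ_1_3, hAn_0, hAn_1, hAn_2, d_0, d_1, d_2, d_3, hWn_0, hWn_2, hWn_3] at row
          by_contra hcon
          push Not at hcon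
          have hmp := mul_pos w_1 (sub_pos.2 hcon)
          linarith only [hmp, row]
        have hM_2 : T.m (v 1) + T.m (v 3) ≤ 2 * T.m (v 2) := by
          have row := H8Num.row_le T v 2
          simp only [Fin.sum_univ_four] at row
          simp only [s_0_1, s_0_2, s_0_3, s_1_2, s_1_3, s_2_3, hZ_0_2, hZ_0_3, hZ_1_3, hAn_0, hAn_1, hAn_2, d_0, d_1, d_2, d_3, hWn_0, hWn_2, hWn_3] at row
          by_contra hcon
          push Not at hcon
          have hmp := mul_pos w_1 (sub_pos.2 hcon)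
          linarith only [hmp, row]
        have hM_3 : T.m (v 2) ≤ 2 * T.m (v 3) := by
          have row := H8Num.row_le T v 3
          simp only [Fin.sum_univ_four] at row
          simp only [s_0_1, s_0_2, s_0_3, s_1_2, s_1_3, s_2_3, hZ_0_2, hZ_0_3, hZ_1_3, hAn_0, hAn_1, hAn_2, d_0, d_1, d_2, d_3, hWn_0, hWn_2, hWn_3] at row
          by_contra hcon
          push Not at hcon
          have hmp := mul_pos w_1 (sub_pos.2 hcon)
          linarith only [hmp, row]
        refine ⟨⟨hZ_0_2, hZ_0_3, hZ_1_3⟩, ![v 3, v 2, v 1, v 0], T.w (v 1), Or.inr (fun j => by fin_cases j <;> rfl), Or.inr (Or.inl ⟨?_, ?_, ?_, ?_, ?_, ?_, ?_, ?_, ?_, ?_, ?_⟩)⟩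
        · exact hWn_3
        · exact hWn_2
        · rfl
        · exact hWn_0
        · exact (s_2_3).trans hAn_2
        · exact (s_1_2).trans hAn_1
        · exact (s_0_1).trans hAn_0
        · show _ ≤ _
          simp only [Matrix.cons_val_zero, Matrix.cons_val_one, Matrix.cons_val]
          linarith only [hM_3]
        · show _ ≤ _
          simp only [Matrix.cons_val_zero, Matrix.cons_val_one, Matrix.cons_val]
          linarith only [hM_2]
        · show _ ≤ _
          simp only [Matrix.cons_val_zero, Matrix.cons_val_one, Matrix.cons_val]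
          linarith only [hM_1]
        · show _ ≤ _
          simp only [Matrix.cons_val_zero, Matrix.cons_val_one, Matrix.cons_val]
          linarith only [hM_0]
      · exfalso
        have tv := Q 1 2 2 1 (by norm_num)
        norm_num at tv
        linarith only [tv, e_0, e_1, e_2, a_0, a_1, a_2, d_0, d_1, d_2, d_3, w_0, w_1, w_2, w_3, n_0_2, n_0_3, n_1_3]
      · exfalso
        have tv := Q 0 1 2 1 (by norm_num)
        norm_num at tv
        linarith only [tv, e_0, e_1, e_2, a_0, a_1, a_2, d_0, d_1, d_2, d_3, w_0, w_1, w_2, w_3, n_0_2, n_0_3, n_1_3]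
      · exfalso
        have tv := Q 1 2 2 2 (by norm_num)
        norm_num at tv
        linarith only [tv, e_0, e_1, e_2, a_0, a_1, a_2, d_0, d_1, d_2, d_3, w_0, w_1, w_2, w_3, n_0_2, n_0_3, n_1_3]
      · exfalso
        have tv := Q 0 1 2 3 (by norm_num)
        norm_num at tv
        linarith only [tv, e_0, e_1, e_2, a_0, a_1, a_2, d_0, d_1, d_2, d_3, w_0, w_1, w_2, w_3, n_0_2, n_0_3, n_1_3]
    · exfalso
      have tv := Q 1 2 1 0 (by norm_num)
      norm_num at tv
      linarith only [tv, e_0, e_1, a_0, a_1, d_0, d_1, d_2, w_0, w_1, w_2, n_0_2]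
    · exfalso
      have tv := Q 1 2 1 0 (by norm_num)
      norm_num at tv
      linarith only [tv, e_0, e_1, a_0, a_1, d_0, d_1, d_2, w_0, w_1, w_2, n_0_2]
    · exfalso
      have tv := Q 1 2 2 0 (by norm_num)
      norm_num at tv
      linarith only [tv, e_0, e_1, a_0, a_1, d_0, d_1, d_2, w_0, w_1, w_2, n_0_2]
    · exfalso
      have tv := Q 1 2 2 0 (by norm_num)
      norm_num at tv
      linarith only [tv, e_0, e_1, a_0, a_1, d_0, d_1, d_2, w_0, w_1, w_2, n_0_2]
  · skip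
    rcases P_1 with ⟨e_1, a_1⟩ | ⟨e_1, a_1⟩ | ⟨e_1, a_1⟩ | ⟨e_1, a_1⟩ | ⟨e_1, a_1⟩
    · exfalso
      have tv := Q 1 2 1 0 (by norm_num)
      norm_num at tv
      linarith only [tv, e_0, e_1, a_0, a_1, d_0, d_1, d_2, w_0, w_1, w_2, n_0_2]
    · exfalso
      have tv := Q 1 2 1 0 (by norm_num)
      norm_num at tv
      linarith only [tv, e_0, e_1, a_0, a_1, d_0, d_1, d_2, w_0, w_1, w_2, n_0_2]
    · exfalso
      have tv := Q 1 2 1 0 (by norm_num)
      norm_num at tv
      linarith only [tv, e_0, e_1, a_0, a_1, d_0, d_1, d_2, w_0, w_1, w_2, n_0_2]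
    · exfalso
      have tv := Q 1 2 1 0 (by norm_num)
      norm_num at tv
      linarith only [tv, e_0, e_1, a_0, a_1, d_0, d_1, d_2, w_0, w_1, w_2, n_0_2]
    · exfalso
      have tv := Q 1 2 1 0 (by norm_num)
      norm_num at tv
      linarith only [tv, e_0, e_1, a_0, a_1, d_0, d_1, d_2, w_0, w_1, w_2, n_0_2]

end Groth.Agent.S7352
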