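import Groth.Statements.S7353
import Mathlib
import Groth.Agent.H8Num2

set_option autoImplicit false
set_option linter.unusedSimpArgs false
open Finset
open Models Models.NumericalType

namespace Groth.Agent.S7353

/-- Classification of proper subgraphs which are chains of five vertices: let T be a numerical type on n
> 5 indices and i_1, …, i_5 distinct (-2)-indices with a_{i_j i_{j+1}} nonzero for j < 5. Then
a_{i_j i_l} = 0 for |j - l| ≥ 2 and, after possibly reversing the order of the indices, for some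
integer w one of the following holds: (A5) w = (w, w, w, w, w), consecutive a = (w, w, w, w), with
2m_1 ≥ m_2, 2m_2 ≥ m_1 + m_3, 2m_3 ≥ m_2 + m_4, 2m_4 ≥ m_3 + m_5, 2m_5 ≥ m_4; (C5) w = (w, w, w, w,
2w), consecutive a = (w, w, w, 2w), with 2m_1 ≥ m_2, 2m_2 ≥ m_1 + m_3, 2m_3 ≥ m_2 + m_4, 2m_4 ≥ m_3
+ 2m_5, 2m_5 ≥ m_4; (B5) w = (2w, 2w, 2w, 2w, w), consecutive a = (2w, 2w, 2w, 2w), with 2m_1 ≥ m_2,
2m_2 ≥ m_1 + m_3, 2m_3 ≥ m_2 + m_4, 2m_4 ≥ m_3 + m_5, m_5 ≥ m_4. (The inequalities are those given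
by the rows Σ_l a_{kl} m_l = 0 of the displayed matrices; the published text has 2m_3 ≥ m_2 + 2m_4
and 2m_4 ≥ m_3 + m_5 in case C5 and m_4 ≥ m_3 in case B5, of which the first does not follow — for
the numerical type with six indices, weights (1,1,1,1,2,1), chain intersection numbers (1,1,1,2)
plus a_{16} = 1, a_{66} = -1 and multiplicities (2,2,2,2,1,2) one has 2m_3 = 4 < m_2 + 2m_4 = 6 — so
the matrix inequalities are stated.) -/
theorem result {n : ℕ} (T : Models.NumericalType n) (hn : 5 < n)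
    (v : Fin 5 ↪ Fin n) (hv : ∀ j, T.IsMinusTwo (v j)) (h01 : T.a (v 0) (v 1) ≠ 0) (h12 : T.a (v 1) (v 2) ≠ 0) (h23 : T.a (v 2) (v 3) ≠ 0) (h34 : T.a (v 3) (v 4) ≠ 0) :
    (T.a (v 0) (v 2) = 0 ∧ T.a (v 0) (v 3) = 0 ∧ T.a (v 0) (v 4) = 0 ∧ T.a (v 1) (v 3) = 0 ∧ T.a (v 1) (v 4) = 0 ∧ T.a (v 2) (v 4) = 0) ∧
    ∃ (u : Fin 5 → Fin n) (w : ℤ), ((∀ j, u j = v j) ∨ (∀ j, u j = v (Fin.rev j))) ∧
      ((T.w (u 0) = w ∧ T.w (u 1) = w ∧ T.w (u 2) = w ∧ T.w (u 3) = w ∧ T.w (u 4) = w ∧ T.a (u 0) (u 1) = w ∧ T.a (u 1) (u 2) = w ∧ T.a (u 2) (u 3) = w ∧ T.a (u 3) (u 4) = w ∧ T.m (u 1) ≤ 2 * T.m (u 0) ∧ T.m (u 0) + T.m (u 2) ≤ 2 * T.m (u 1) ∧ T.m (u 1) + T.m (u 3) ≤ 2 * T.m (u 2) ∧ T.m (u 2) + T.m (u 4) ≤ 2 * T.m (u 3) ∧ T.m (u 3) ≤ 2 * T.m (u 4)) ∨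
      (T.w (u 0) = w ∧ T.w (u 1) = w ∧ T.w (u 2) = w ∧ T.w (u 3) = w ∧ T.w (u 4) = 2 * w ∧ T.a (u 0) (u 1) = w ∧ T.a (u 1) (u 2) = w ∧ T.a (u 2) (u 3) = w ∧ T.a (u 3) (u 4) = 2 * w ∧ T.m (u 1) ≤ 2 * T.m (u 0) ∧ T.m (u 0) + T.m (u 2) ≤ 2 * T.m (u 1) ∧ T.m (u 1) + T.m (u 3) ≤ 2 * T.m (u 2) ∧ T.m (u 2) + 2 * T.m (u 4) ≤ 2 * T.m (u 3) ∧ T.m (u 3) ≤ 2 * T.m (u 4)) ∨
      (T.w (u 0) = 2 * w ∧ T.w (u 1) = 2 * w ∧ T.w (u 2) = 2 * w ∧ T.w (u 3) = 2 * w ∧ T.w (u 4) = w ∧ T.a (u 0) (u 1) = 2 * w ∧ T.a (u 1) (u 2) = 2 * w ∧ T.a (u 2) (u 3) = 2 * w ∧ T.a (u 3) (u 4) = 2 * w ∧ T.m (u 1) ≤ 2 * T.m (u 0) ∧ T.m (u 0) + T.m (u 2) ≤ 2 * T.m (u 1) ∧ T.m (u 1) + T.m (u 3) ≤ 2 * T.m (u 2) ∧ T.m (u 2) + T.m (u 4) ≤ 2 * T.m (u 3) ∧ T.m (u 3) ≤ T.m (u 4))) := by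
  classical
  have hs : ∀ i j, T.a (v i) (v j) = T.a (v j) (v i) := fun i j => (T.symm.apply (v i) (v j)).symm ▸ rfl
  have hnn : ∀ i j, i ≠ j → 0 ≤ T.a (v i) (v j) := fun i j h => T.offDiag_nonneg _ _ (fun e => h (v.injective e))
  have hdv1 : ∀ i j, T.w (v i) ∣ T.a (v i) (v j) := fun i j => T.w_dvd _ _
  have hdv2 : ∀ i j, T.w (v j) ∣ T.a (v i) (v j) := fun i j => by rw [hs]; exact T.w_dvd _ _
  have d_0 : T.a (v 0) (v 0) = -2 * T.w (v 0) := (hv 0).2
  have w_0 : 0 < T.w (v 0) := T.w_pos _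
  have d_1 : T.a (v 1) (v 1) = -2 * T.w (v 1) := (hv 1).2
  have w_1 : 0 < T.w (v 1) := T.w_pos _
  have d_2 : T.a (v 2) (v 2) = -2 * T.w (v 2) := (hv 2).2
  have w_2 : 0 < T.w (v 2) := T.w_pos _
  have d_3 : T.a (v 3) (v 3) = -2 * T.w (v 3) := (hv 3).2
  have w_3 : 0 < T.w (v 3) := T.w_pos _
  have d_4 : T.a (v 4) (v 4) = -2 * T.w (v 4) := (hv 4).2
  have w_4 : 0 < T.w (v 4) := T.w_pos _
  have n_0_1 : 0 ≤ T.a (v 0) (v 1) := hnn 0 1 (by decide)
  have s_0_1 : T.a (v 1) (v 0) = T.a (v 0) (v 1) := hs 1 0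
  have n_0_2 : 0 ≤ T.a (v 0) (v 2) := hnn 0 2 (by decide)
  have s_0_2 : T.a (v 2) (v 0) = T.a (v 0) (v 2) := hs 2 0
  have n_0_3 : 0 ≤ T.a (v 0) (v 3) := hnn 0 3 (by decide)
  have s_0_3 : T.a (v 3) (v 0) = T.a (v 0) (v 3) := hs 3 0
  have n_0_4 : 0 ≤ T.a (v 0) (v 4) := hnn 0 4 (by decide)
  have s_0_4 : T.a (v 4) (v 0) = T.a (v 0) (v 4) := hs 4 0
  have n_1_2 : 0 ≤ T.a (v 1) (v 2) := hnn 1 2 (by decide)
  have s_1_2 : T.a (v 2) (v 1) = T.a (v 1) (v 2) := hs 2 1
  have n_1_3 : 0 ≤ T.a (v 1) (v 3) := hnn 1 3 (by decide)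
  have s_1_3 : T.a (v 3) (v 1) = T.a (v 1) (v 3) := hs 3 1
  have n_1_4 : 0 ≤ T.a (v 1) (v 4) := hnn 1 4 (by decide)
  have s_1_4 : T.a (v 4) (v 1) = T.a (v 1) (v 4) := hs 4 1
  have n_2_3 : 0 ≤ T.a (v 2) (v 3) := hnn 2 3 (by decide)
  have s_2_3 : T.a (v 3) (v 2) = T.a (v 2) (v 3) := hs 3 2
  have n_2_4 : 0 ≤ T.a (v 2) (v 4) := hnn 2 4 (by decide)
  have s_2_4 : T.a (v 4) (v 2) = T.a (v 2) (v 4) := hs 4 2
  have n_3_4 : 0 ≤ T.a (v 3) (v 4) := hnn 3 4 (by decide)
  have s_3_4 : T.a (v 4) (v 3) = T.a (v 3) (v 4) := hs 4 3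
  have Q : ∀ c0 c1 c2 c3 c4 : ℤ, (c0 ≠ 0 ∨ c1 ≠ 0 ∨ c2 ≠ 0 ∨ c3 ≠ 0 ∨ c4 ≠ 0) →
      c0 * c0 * T.a (v 0) (v 0) + c1 * c1 * T.a (v 1) (v 1) + c2 * c2 * T.a (v 2) (v 2) + c3 * c3 * T.a (v 3) (v 3) + c4 * c4 * T.a (v 4) (v 4) + 2 * (c0 * c1 * T.a (v 0) (v 1) + c0 * c2 * T.a (v 0) (v 2) + c0 * c3 * T.a (v 0) (v 3) + c0 * c4 * T.a (v 0) (v 4) + c1 * c2 * T.a (v 1) (v 2) + c1 * c3 * T.a (v 1) (v 3) + c1 * c4 * T.a (v 1) (v 4) + c2 * c3 * T.a (v 2) (v 3) + c2 * c4 * T.a (v 2) (v 4) + c3 * c4 * T.a (v 3) (v 4)) < 0 := by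
    intro c0 c1 c2 c3 c4 hc
    have h := H8Num.neg_of_ne_zero T hn v ![c0, c1, c2, c3, c4] (by
      rcases hc with h | h | h | h | h
      · exact ⟨0, by simpa using h⟩
      · exact ⟨1, by simpa using h⟩
      · exact ⟨2, by simpa using h⟩
      · exact ⟨3, by simpa using h⟩
      · exact ⟨4, by simpa using h⟩
      )
    simp only [Fin.sum_univ_five] at h
    simp only [Matrix.cons_val_zero, Matrix.cons_val_one, Matrix.cons_val] at h
    simp only [s_0_1, s_0_2, s_0_3, s_0_4, s_1_2, s_1_3, s_1_4, s_2_3, s_2_4, s_3_4] at h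
    linarith only [h]
  have p_0_1 : 0 < T.a (v 0) (v 1) := lt_of_le_of_ne n_0_1 (Ne.symm h01)
  have g1_0_1 : T.w (v 0) ≤ T.a (v 0) (v 1) := Int.le_of_dvd p_0_1 (hdv1 0 1)
  have g2_0_1 : T.w (v 1) ≤ T.a (v 0) (v 1) := Int.le_of_dvd p_0_1 (hdv2 0 1)
  have p_1_2 : 0 < T.a (v 1) (v 2) := lt_of_le_of_ne n_1_2 (Ne.symm h12)
  have g1_1_2 : T.w (v 1) ≤ T.a (v 1) (v 2) := Int.le_of_dvd p_1_2 (hdv1 1 2)
  have g2_1_2 : T.w (v 2) ≤ T.a (v 1) (v 2) := Int.le_of_dvd p_1_2 (hdv2 1 2)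
  have p_2_3 : 0 < T.a (v 2) (v 3) := lt_of_le_of_ne n_2_3 (Ne.symm h23)
  have g1_2_3 : T.w (v 2) ≤ T.a (v 2) (v 3) := Int.le_of_dvd p_2_3 (hdv1 2 3)
  have g2_2_3 : T.w (v 3) ≤ T.a (v 2) (v 3) := Int.le_of_dvd p_2_3 (hdv2 2 3)
  have p_3_4 : 0 < T.a (v 3) (v 4) := lt_of_le_of_ne n_3_4 (Ne.symm h34)
  have g1_3_4 : T.w (v 3) ≤ T.a (v 3) (v 4) := Int.le_of_dvd p_3_4 (hdv1 3 4)
  have g2_3_4 : T.w (v 4) ≤ T.a (v 3) (v 4) := Int.le_of_dvd p_3_4 (hdv2 3 4)
  have P_0 := H8Num.pair5 T (by omega) (v 0) (v 1) (fun e => absurd (v.injective e) (by decide)) (hv 0) (hv 1) h01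
  have P_1 := H8Num.pair5 T (by omega) (v 1) (v 2) (fun e => absurd (v.injective e) (by decide)) (hv 1) (hv 2) h12
  have P_2 := H8Num.pair5 T (by omega) (v 2) (v 3) (fun e => absurd (v.injective e) (by decide)) (hv 2) (hv 3) h23
  have P_3 := H8Num.pair5 T (by omega) (v 3) (v 4) (fun e => absurd (v.injective e) (by decide)) (hv 3) (hv 4) h34
  rcases P_0 with ⟨e_0, a_0⟩ | ⟨e_0, a_0⟩ | ⟨e_0, a_0⟩ | ⟨e_0, a_0⟩ | ⟨e_0, a_0⟩
  · skip
    rcases P_1 with ⟨e_1, a_1⟩ | ⟨e_1, a_1⟩ | ⟨e_1, a_1⟩ | ⟨e_1, a_1⟩ | ⟨e_1, a_1⟩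
    · skip
      rcases P_2 with ⟨e_2, a_2⟩ | ⟨e_2, a_2⟩ | ⟨e_2, a_2⟩ | ⟨e_2, a_2⟩ | ⟨e_2, a_2⟩
      · skip
        rcases P_3 with ⟨e_3, a_3⟩ | ⟨e_3, a_3⟩ | ⟨e_3, a_3⟩ | ⟨e_3, a_3⟩ | ⟨e_3, a_3⟩
        · skip
          have hWn_1 : T.w (v 1) = T.w (v 0) := by linarith only [e_0, e_1, e_2, e_3]
          have hWn_2 : T.w (v 2) = T.w (v 0) := by linarith only [e_0, e_1, e_2, e_3]
          have hWn_3 : T.w (v 3) = T.w (v 0) := by linarith only [e_0, e_1, e_2, e_3]
          have hWn_4 : T.w (v 4) = T.w (v 0) := by linarith only [e_0, e_1, e_2, e_3]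
          have hAn_0 : T.a (v 0) (v 1) = T.w (v 0) := by linarith only [e_0, e_1, e_2, e_3, a_0]
          have hAn_1 : T.a (v 1) (v 2) = T.w (v 0) := by linarith only [e_0, e_1, e_2, e_3, a_1]
          have hAn_2 : T.a (v 2) (v 3) = T.w (v 0) := by linarith only [e_0, e_1, e_2, e_3, a_2]
          have hAn_3 : T.a (v 3) (v 4) = T.w (v 0) := by linarith only [e_0, e_1, e_2, e_3, a_3]
          have hZ_0_2 : T.a (v 0) (v 2) = 0 := by
            apply H8Num.eq_zero_of_dvd_lt (w := T.w (v 0)) (hdv1 0 2) n_0_2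
            have tv := Q 1 1 1 0 0 (by norm_num)
            norm_num at tv
            linarith only [tv, hWn_1, hWn_2, hWn_3, hWn_4, hAn_0, hAn_1, hAn_2, hAn_3, d_0, d_1, d_2, w_0]
          have hZ_0_3 : T.a (v 0) (v 3) = 0 := by
            apply H8Num.eq_zero_of_dvd_lt (w := T.w (v 0)) (hdv1 0 3) n_0_3
            have tv := Q 1 1 1 1 0 (by norm_num)
            norm_num at tv
            linarith only [tv, hWn_1, hWn_2, hWn_3, hWn_4, hAn_0, hAn_1, hAn_2, hAn_3, d_0, d_1, d_2, d_3, w_0, n_0_2, n_1_3]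
          have hZ_0_4 : T.a (v 0) (v 4) = 0 := by
            apply H8Num.eq_zero_of_dvd_lt (w := T.w (v 0)) (hdv1 0 4) n_0_4
            have tv := Q 1 1 1 1 1 (by norm_num)
            norm_num at tv
            linarith only [tv, hWn_1, hWn_2, hWn_3, hWn_4, hAn_0, hAn_1, hAn_2, hAn_3, d_0, d_1, d_2, d_3, d_4, w_0, n_0_2, n_0_3, n_1_3, n_1_4, n_2_4]
          have hZ_1_3 : T.a (v 1) (v 3) = 0 := by
            apply H8Num.eq_zero_of_dvd_lt (w := T.w (v 1)) (hdv1 1 3) n_1_3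
            have tv := Q 0 1 1 1 0 (by norm_num)
            norm_num at tv
            linarith only [tv, hWn_1, hWn_2, hWn_3, hWn_4, hAn_0, hAn_1, hAn_2, hAn_3, d_1, d_2, d_3, w_0]
          have hZ_1_4 : T.a (v 1) (v 4) = 0 := by
            apply H8Num.eq_zero_of_dvd_lt (w := T.w (v 1)) (hdv1 1 4) n_1_4
            have tv := Q 0 1 1 1 1 (by norm_num)
            norm_num at tv
            linarith only [tv, hWn_1, hWn_2, hWn_3, hWn_4, hAn_0, hAn_1, hAn_2, hAn_3, d_1, d_2, d_3, d_4, w_0, n_1_3, n_2_4]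
          have hZ_2_4 : T.a (v 2) (v 4) = 0 := by
            apply H8Num.eq_zero_of_dvd_lt (w := T.w (v 2)) (hdv1 2 4) n_2_4
            have tv := Q 0 0 1 1 1 (by norm_num)
            norm_num at tv
            linarith only [tv, hWn_1, hWn_2, hWn_3, hWn_4, hAn_0, hAn_1, hAn_2, hAn_3, d_2, d_3, d_4, w_0]
          have hM_0 : T.m (v 1) ≤ 2 * T.m (v 0) := by
            have row := H8Num.row_le T v 0
            simp only [Fin.sum_univ_five] at row
            simp only [s_0_1, s_0_2, s_0_3, s_0_4, s_1_2, s_1_3, s_1_4, s_2_3, s_2_4, s_3_4, hZ_0_2, hZ_0_3, hZ_0_4, hZ_1_3, hZ_1_4, hZ_2_4, hAn_0, hAn_1, hAn_2, hAn_3, d_0, d_1, d_2, d_3, d_4, hWn_1, hWn_2, hWn_3, hWn_4] at row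
            by_contra hcon
            push Not at hcon
            have hmp := mul_pos w_0 (sub_pos.2 hcon)
            linarith only [hmp, row]
          have hM_1 : T.m (v 0) + T.m (v 2) ≤ 2 * T.m (v 1) := by
            have row := H8Num.row_le T v 1
            simp only [Fin.sum_univ_five] at row
            simp only [s_0_1, s_0_2, s_0_3, s_0_4, s_1_2, s_1_3, s_1_4, s_2_3, s_2_4, s_3_4, hZ_0_2, hZ_0_3, hZ_0_4, hZ_1_3, hZ_1_4, hZ_2_4, hAn_0, hAn_1, hAn_2, hAn_3, d_0, d_1, d_2, d_3, d_4, hWn_1, hWn_2, hWn_3, hWn_4] at row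
            by_contra hcon
            push Not at hcon
            have hmp := mul_pos w_0 (sub_pos.2 hcon)
            linarith only [hmp, row]
          have hM_2 : T.m (v 1) + T.m (v 3) ≤ 2 * T.m (v 2) := by
            have row := H8Num.row_le T v 2
            simp only [Fin.sum_univ_five] at row
            simp only [s_0_1, s_0_2, s_0_3, s_0_4, s_1_2, s_1_3, s_1_4, s_2_3, s_2_4, s_3_4, hZ_0_2, hZ_0_3, hZ_0_4, hZ_1_3, hZ_1_4, hZ_2_4, hAn_0, hAn_1, hAn_2, hAn_3, d_0, d_1, d_2, d_3, d_4, hWn_1, hWn_2, hWn_3, hWn_4] at row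
            by_contra hcon
            push Not at hcon
            have hmp := mul_pos w_0 (sub_pos.2 hcon)
            linarith only [hmp, row]
          have hM_3 : T.m (v 2) + T.m (v 4) ≤ 2 * T.m (v 3) := by
            have row := H8Num.row_le T v 3
            simp only [Fin.sum_univ_five] at row
            simp only [s_0_1, s_0_2, s_0_3, s_0_4, s_1_2, s_1_3, s_1_4, s_2_3, s_2_4, s_3_4, hZ_0_2, hZ_0_3, hZ_0_4, hZ_1_3, hZ_1_4, hZ_2_4, hAn_0, hAn_1, hAn_2, hAn_3, d_0, d_1, d_2, d_3, d_4, hWn_1, hWn_2, hWn_3, hWn_4] at row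
            by_contra hcon
            push Not at hcon
            have hmp := mul_pos w_0 (sub_pos.2 hcon)
            linarith only [hmp, row]
          have hM_4 : T.m (v 3) ≤ 2 * T.m (v 4) := by
            have row := H8Num.row_le T v 4
            simp only [Fin.sum_univ_five] at row
            simp only [s_0_1, s_0_2, s_0_3, s_0_4, s_1_2, s_1_3, s_1_4, s_2_3, s_2_4, s_3_4, hZ_0_2, hZ_0_3, hZ_0_4, hZ_1_3, hZ_1_4, hZ_2_4, hAn_0, hAn_1, hAn_2, hAn_3, d_0, d_1, d_2, d_3, d_4, hWn_1, hWn_2, hWn_3, hWn_4] at row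
            by_contra hcon
            push Not at hcon
            have hmp := mul_pos w_0 (sub_pos.2 hcon)
            linarith only [hmp, row]
          refine ⟨⟨hZ_0_2, hZ_0_3, hZ_0_4, hZ_1_3, hZ_1_4, hZ_2_4⟩, ⇑v, T.w (v 0), Or.inl (fun j => rfl), Or.inl ⟨?_, ?_, ?_, ?_, ?_, ?_, ?_, ?_, ?_, ?_, ?_, ?_, ?_, ?_⟩⟩
          · rfl
          · exact hWn_1
          · exact hWn_2
          · exact hWn_3
          · exact hWn_4
          · exact hAn_0
          · exact hAn_1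
          · exact hAn_2
          · exact hAn_3
          · show _ ≤ _
            skip
            linarith only [hM_0]
          · show _ ≤ _
            skip
            linarith only [hM_1]
          · show _ ≤ _
            skip
            linarith only [hM_2]
          · show _ ≤ _
            skip
            linarith only [hM_3]
          · show _ ≤ _
            skip
            linarith only [hM_4]
        · skip
          have hWn_1 : T.w (v 1) = T.w (v 0) := by linarith only [e_0, e_1, e_2, e_3]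
          have hWn_2 : T.w (v 2) = T.w (v 0) := by linarith only [e_0, e_1, e_2, e_3]
          have hWn_3 : T.w (v 3) = T.w (v 0) := by linarith only [e_0, e_1, e_2, e_3]
          have hWn_4 : T.w (v 4) = 2 * T.w (v 0) := by linarith only [e_0, e_1, e_2, e_3]
          have hAn_0 : T.a (v 0) (v 1) = T.w (v 0) := by linarith only [e_0, e_1, e_2, e_3, a_0]
          have hAn_1 : T.a (v 1) (v 2) = T.w (v 0) := by linarith only [e_0, e_1, e_2, e_3, a_1]
          have hAn_2 : T.a (v 2) (v 3) = T.w (v 0) := by linarith only [e_0, e_1, e_2, e_3, a_2]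
          have hAn_3 : T.a (v 3) (v 4) = 2 * T.w (v 0) := by linarith only [e_0, e_1, e_2, e_3, a_3]
          have hZ_0_2 : T.a (v 0) (v 2) = 0 := by
            apply H8Num.eq_zero_of_dvd_lt (w := T.w (v 0)) (hdv1 0 2) n_0_2
            have tv := Q 1 1 1 0 0 (by norm_num)
            norm_num at tv
            linarith only [tv, hWn_1, hWn_2, hWn_3, hWn_4, hAn_0, hAn_1, hAn_2, hAn_3, d_0, d_1, d_2, w_0]
          have hZ_0_3 : T.a (v 0) (v 3) = 0 := by
            apply H8Num.eq_zero_of_dvd_lt (w := T.w (v 0)) (hdv1 0 3) n_0_3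
            have tv := Q 1 1 1 1 0 (by norm_num)
            norm_num at tv
            linarith only [tv, hWn_1, hWn_2, hWn_3, hWn_4, hAn_0, hAn_1, hAn_2, hAn_3, d_0, d_1, d_2, d_3, w_0, n_0_2, n_1_3]
          have hZ_0_4 : T.a (v 0) (v 4) = 0 := by
            apply H8Num.eq_zero_of_dvd_lt (w := T.w (v 0)) (hdv1 0 4) n_0_4
            have tv := Q 1 1 1 1 1 (by norm_num)
            norm_num at tv
            linarith only [tv, hWn_1, hWn_2, hWn_3, hWn_4, hAn_0, hAn_1, hAn_2, hAn_3, d_0, d_1, d_2, d_3, d_4, w_0, n_0_2, n_0_3, n_1_3, n_1_4, n_2_4]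
          have hZ_1_3 : T.a (v 1) (v 3) = 0 := by
            apply H8Num.eq_zero_of_dvd_lt (w := T.w (v 1)) (hdv1 1 3) n_1_3
            have tv := Q 0 1 1 1 0 (by norm_num)
            norm_num at tv
            linarith only [tv, hWn_1, hWn_2, hWn_3, hWn_4, hAn_0, hAn_1, hAn_2, hAn_3, d_1, d_2, d_3, w_0]
          have hZ_1_4 : T.a (v 1) (v 4) = 0 := by
            apply H8Num.eq_zero_of_dvd_lt (w := T.w (v 1)) (hdv1 1 4) n_1_4
            have tv := Q 0 1 1 1 1 (by norm_num)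
            norm_num at tv
            linarith only [tv, hWn_1, hWn_2, hWn_3, hWn_4, hAn_0, hAn_1, hAn_2, hAn_3, d_1, d_2, d_3, d_4, w_0, n_1_3, n_2_4]
          have hZ_2_4 : T.a (v 2) (v 4) = 0 := by
            apply H8Num.eq_zero_of_dvd_lt (w := T.w (v 2)) (hdv1 2 4) n_2_4
            have tv := Q 0 0 1 1 1 (by norm_num)
            norm_num at tv
            linarith only [tv, hWn_1, hWn_2, hWn_3, hWn_4, hAn_0, hAn_1, hAn_2, hAn_3, d_2, d_3, d_4, w_0]
          have hM_0 : T.m (v 1) ≤ 2 * T.m (v 0) := by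
            have row := H8Num.row_le T v 0
            simp only [Fin.sum_univ_five] at row
            simp only [s_0_1, s_0_2, s_0_3, s_0_4, s_1_2, s_1_3, s_1_4, s_2_3, s_2_4, s_3_4, hZ_0_2, hZ_0_3, hZ_0_4, hZ_1_3, hZ_1_4, hZ_2_4, hAn_0, hAn_1, hAn_2, hAn_3, d_0, d_1, d_2, d_3, d_4, hWn_1, hWn_2, hWn_3, hWn_4] at row
            by_contra hcon
            push Not at hcon
            have hmp := mul_pos w_0 (sub_pos.2 hcon)
            linarith only [hmp, row]
          have hM_1 : T.m (v 0) + T.m (v 2) ≤ 2 * T.m (v 1) := by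
            have row := H8Num.row_le T v 1
            simp only [Fin.sum_univ_five] at row
            simp only [s_0_1, s_0_2, s_0_3, s_0_4, s_1_2, s_1_3, s_1_4, s_2_3, s_2_4, s_3_4, hZ_0_2, hZ_0_3, hZ_0_4, hZ_1_3, hZ_1_4, hZ_2_4, hAn_0, hAn_1, hAn_2, hAn_3, d_0, d_1, d_2, d_3, d_4, hWn_1, hWn_2, hWn_3, hWn_4] at row
            by_contra hcon
            push Not at hcon
            have hmp := mul_pos w_0 (sub_pos.2 hcon)
            linarith only [hmp, row]
          have hM_2 : T.m (v 1) + T.m (v 3) ≤ 2 * T.m (v 2) := by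
            have row := H8Num.row_le T v 2
            simp only [Fin.sum_univ_five] at row
            simp only [s_0_1, s_0_2, s_0_3, s_0_4, s_1_2, s_1_3, s_1_4, s_2_3, s_2_4, s_3_4, hZ_0_2, hZ_0_3, hZ_0_4, hZ_1_3, hZ_1_4, hZ_2_4, hAn_0, hAn_1, hAn_2, hAn_3, d_0, d_1, d_2, d_3, d_4, hWn_1, hWn_2, hWn_3, hWn_4] at row
            by_contra hcon
            push Not at hcon
            have hmp := mul_pos w_0 (sub_pos.2 hcon)
            linarith only [hmp, row]
          have hM_3 : T.m (v 2) + 2 * T.m (v 4) ≤ 2 * T.m (v 3) := by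
            have row := H8Num.row_le T v 3
            simp only [Fin.sum_univ_five] at row
            simp only [s_0_1, s_0_2, s_0_3, s_0_4, s_1_2, s_1_3, s_1_4, s_2_3, s_2_4, s_3_4, hZ_0_2, hZ_0_3, hZ_0_4, hZ_1_3, hZ_1_4, hZ_2_4, hAn_0, hAn_1, hAn_2, hAn_3, d_0, d_1, d_2, d_3, d_4, hWn_1, hWn_2, hWn_3, hWn_4] at row
            by_contra hcon
            push Not at hcon
            have hmp := mul_pos w_0 (sub_pos.2 hcon)
            linarith only [hmp, row]
          have hM_4 : T.m (v 3) ≤ 2 * T.m (v 4) := by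
            have row := H8Num.row_le T v 4
            simp only [Fin.sum_univ_five] at row
            simp only [s_0_1, s_0_2, s_0_3, s_0_4, s_1_2, s_1_3, s_1_4, s_2_3, s_2_4, s_3_4, hZ_0_2, hZ_0_3, hZ_0_4, hZ_1_3, hZ_1_4, hZ_2_4, hAn_0, hAn_1, hAn_2, hAn_3, d_0, d_1, d_2, d_3, d_4, hWn_1, hWn_2, hWn_3, hWn_4] at row
            by_contra hcon
            push Not at hcon
            have hmp := mul_pos w_0 (sub_pos.2 hcon)
            linarith only [hmp, row]
          refine ⟨⟨hZ_0_2, hZ_0_3, hZ_0_4, hZ_1_3, hZ_1_4, hZ_2_4⟩, ⇑v, T.w (v 0), Or.inl (fun j => rfl), Or.inr (Or.inl ⟨?_, ?_, ?_, ?_, ?_, ?_, ?_, ?_, ?_, ?_, ?_, ?_, ?_, ?_⟩)⟩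
          · rfl
          · exact hWn_1
          · exact hWn_2
          · exact hWn_3
          · exact hWn_4
          · exact hAn_0
          · exact hAn_1
          · exact hAn_2
          · exact hAn_3
          · show _ ≤ _
            skip
            linarith only [hM_0]
          · show _ ≤ _
            skip
            linarith only [hM_1]
          · show _ ≤ _
            skip
            linarith only [hM_2]
          · show _ ≤ _
            skip
            linarith only [hM_3]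
          · show _ ≤ _
            skip
            linarith only [hM_4]
        · exfalso
          have tv := Q 0 0 1 2 1 (by norm_num)
          norm_num at tv
          linarith only [tv, e_0, e_1, e_2, e_3, a_0, a_1, a_2, a_3, d_0, d_1, d_2, d_3, d_4, w_0, w_1, w_2, w_3, w_4, n_0_2, n_0_3, n_0_4, n_1_3, n_1_4, n_2_4]
        · skip
          have hWn_0 : T.w (v 0) = 2 * T.w (v 4) := by linarith only [e_0, e_1, e_2, e_3]
          have hWn_1 : T.w (v 1) = 2 * T.w (v 4) := by linarith only [e_0, e_1, e_2, e_3]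
          have hWn_2 : T.w (v 2) = 2 * T.w (v 4) := by linarith only [e_0, e_1, e_2, e_3]
          have hWn_3 : T.w (v 3) = 2 * T.w (v 4) := by linarith only [e_0, e_1, e_2, e_3]
          have hAn_0 : T.a (v 0) (v 1) = 2 * T.w (v 4) := by linarith only [e_0, e_1, e_2, e_3, a_0]
          have hAn_1 : T.a (v 1) (v 2) = 2 * T.w (v 4) := by linarith only [e_0, e_1, e_2, e_3, a_1]
          have hAn_2 : T.a (v 2) (v 3) = 2 * T.w (v 4) := by linarith only [e_0, e_1, e_2, e_3, a_2]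
          have hAn_3 : T.a (v 3) (v 4) = 2 * T.w (v 4) := by linarith only [e_0, e_1, e_2, e_3, a_3]
          have hZ_0_2 : T.a (v 0) (v 2) = 0 := by
            apply H8Num.eq_zero_of_dvd_lt (w := T.w (v 0)) (hdv1 0 2) n_0_2
            have tv := Q 1 1 1 0 0 (by norm_num)
            norm_num at tv
            linarith only [tv, hWn_0, hWn_1, hWn_2, hWn_3, hAn_0, hAn_1, hAn_2, hAn_3, d_0, d_1, d_2, w_4]
          have hZ_0_3 : T.a (v 0) (v 3) = 0 := by
            apply H8Num.eq_zero_of_dvd_lt (w := T.w (v 0)) (hdv1 0 3) n_0_3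
            have tv := Q 1 1 1 1 0 (by norm_num)
            norm_num at tv
            linarith only [tv, hWn_0, hWn_1, hWn_2, hWn_3, hAn_0, hAn_1, hAn_2, hAn_3, d_0, d_1, d_2, d_3, w_4, n_0_2, n_1_3]
          have hZ_0_4 : T.a (v 0) (v 4) = 0 := by
            apply H8Num.eq_zero_of_dvd_lt (w := T.w (v 0)) (hdv1 0 4) n_0_4
            have tv := Q 1 1 1 1 1 (by norm_num)
            norm_num at tv
            linarith only [tv, hWn_0, hWn_1, hWn_2, hWn_3, hAn_0, hAn_1, hAn_2, hAn_3, d_0, d_1, d_2, d_3, d_4, w_4, n_0_2, n_0_3, n_1_3, n_1_4, n_2_4]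
          have hZ_1_3 : T.a (v 1) (v 3) = 0 := by
            apply H8Num.eq_zero_of_dvd_lt (w := T.w (v 1)) (hdv1 1 3) n_1_3
            have tv := Q 0 1 1 1 0 (by norm_num)
            norm_num at tv
            linarith only [tv, hWn_0, hWn_1, hWn_2, hWn_3, hAn_0, hAn_1, hAn_2, hAn_3, d_1, d_2, d_3, w_4]
          have hZ_1_4 : T.a (v 1) (v 4) = 0 := by
            apply H8Num.eq_zero_of_dvd_lt (w := T.w (v 1)) (hdv1 1 4) n_1_4
            have tv := Q 0 1 1 1 1 (by norm_num)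
            norm_num at tv
            linarith only [tv, hWn_0, hWn_1, hWn_2, hWn_3, hAn_0, hAn_1, hAn_2, hAn_3, d_1, d_2, d_3, d_4, w_4, n_1_3, n_2_4]
          have hZ_2_4 : T.a (v 2) (v 4) = 0 := by
            apply H8Num.eq_zero_of_dvd_lt (w := T.w (v 2)) (hdv1 2 4) n_2_4
            have tv := Q 0 0 1 1 1 (by norm_num)
            norm_num at tv
            linarith only [tv, hWn_0, hWn_1, hWn_2, hWn_3, hAn_0, hAn_1, hAn_2, hAn_3, d_2, d_3, d_4, w_4]
          have hM_0 : T.m (v 1) ≤ 2 * T.m (v 0) := by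
            have row := H8Num.row_le T v 0
            simp only [Fin.sum_univ_five] at row
            simp only [s_0_1, s_0_2, s_0_3, s_0_4, s_1_2, s_1_3, s_1_4, s_2_3, s_2_4, s_3_4, hZ_0_2, hZ_0_3, hZ_0_4, hZ_1_3, hZ_1_4, hZ_2_4, hAn_0, hAn_1, hAn_2, hAn_3, d_0, d_1, d_2, d_3, d_4, hWn_0, hWn_1, hWn_2, hWn_3] at row
            by_contra hcon
            push Not at hcon
            have hmp := mul_pos w_4 (sub_pos.2 hcon)
            linarith only [hmp, row]
          have hM_1 : T.m (v 0) + T.m (v 2) ≤ 2 * T.m (v 1) := by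
            have row := H8Num.row_le T v 1
            simp only [Fin.sum_univ_five] at row
            simp only [s_0_1, s_0_2, s_0_3, s_0_4, s_1_2, s_1_3, s_1_4, s_2_3, s_2_4, s_3_4, hZ_0_2, hZ_0_3, hZ_0_4, hZ_1_3, hZ_1_4, hZ_2_4, hAn_0, hAn_1, hAn_2, hAn_3, d_0, d_1, d_2, d_3, d_4, hWn_0, hWn_1, hWn_2, hWn_3] at row
            by_contra hcon
            push Not at hcon
            have hmp := mul_pos w_4 (sub_pos.2 hcon)
            linarith only [hmp, row]
          have hM_2 : T.m (v 1) + T.m (v 3) ≤ 2 * T.m (v 2) := by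
            have row := H8Num.row_le T v 2
            simp only [Fin.sum_univ_five] at row
            simp only [s_0_1, s_0_2, s_0_3, s_0_4, s_1_2, s_1_3, s_1_4, s_2_3, s_2_4, s_3_4, hZ_0_2, hZ_0_3, hZ_0_4, hZ_1_3, hZ_1_4, hZ_2_4, hAn_0, hAn_1, hAn_2, hAn_3, d_0, d_1, d_2, d_3, d_4, hWn_0, hWn_1, hWn_2, hWn_3] at row
            by_contra hcon
            push Not at hcon
            have hmp := mul_pos w_4 (sub_pos.2 hcon)
            linarith only [hmp, row]
          have hM_3 : T.m (v 2) + T.m (v 4) ≤ 2 * T.m (v 3) := by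
            have row := H8Num.row_le T v 3
            simp only [Fin.sum_univ_five] at row
            simp only [s_0_1, s_0_2, s_0_3, s_0_4, s_1_2, s_1_3, s_1_4, s_2_3, s_2_4, s_3_4, hZ_0_2, hZ_0_3, hZ_0_4, hZ_1_3, hZ_1_4, hZ_2_4, hAn_0, hAn_1, hAn_2, hAn_3, d_0, d_1, d_2, d_3, d_4, hWn_0, hWn_1, hWn_2, hWn_3] at row
            by_contra hcon
            push Not at hcon
            have hmp := mul_pos w_4 (sub_pos.2 hcon)
            linarith only [hmp, row]
          have hM_4 : 2 * T.m (v 3) ≤ 2 * T.m (v 4) := by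
            have row := H8Num.row_le T v 4
            simp only [Fin.sum_univ_five] at row
            simp only [s_0_1, s_0_2, s_0_3, s_0_4, s_1_2, s_1_3, s_1_4, s_2_3, s_2_4, s_3_4, hZ_0_2, hZ_0_3, hZ_0_4, hZ_1_3, hZ_1_4, hZ_2_4, hAn_0, hAn_1, hAn_2, hAn_3, d_0, d_1, d_2, d_3, d_4, hWn_0, hWn_1, hWn_2, hWn_3] at row
            by_contra hcon
            push Not at hcon
            have hmp := mul_pos w_4 (sub_pos.2 hcon)
            linarith only [hmp, row]
          refine ⟨⟨hZ_0_2, hZ_0_3, hZ_0_4, hZ_1_3, hZ_1_4, hZ_2_4⟩, ⇑v, T.w (v 4), Or.inl (fun j => rfl), Or.inr (Or.inr (⟨?_, ?_, ?_, ?_, ?_, ?_, ?_, ?_, ?_, ?_, ?_, ?_, ?_, ?_⟩))⟩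
          · exact hWn_0
          · exact hWn_1
          · exact hWn_2
          · exact hWn_3
          · rfl
          · exact hAn_0
          · exact hAn_1
          · exact hAn_2
          · exact hAn_3
          · show _ ≤ _
            skip
            linarith only [hM_0]
          · show _ ≤ _
            skip
            linarith only [hM_1]
          · show _ ≤ _
            skip
            linarith only [hM_2]
          · show _ ≤ _
            skip
            linarith only [hM_3]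
          · show _ ≤ _
            skip
            linarith only [hM_4]
        · exfalso
          have tv := Q 0 0 1 2 3 (by norm_num)
          norm_num at tv
          linarith only [tv, e_0, e_1, e_2, e_3, a_0, a_1, a_2, a_3, d_0, d_1, d_2, d_3, d_4, w_0, w_1, w_2, w_3, w_4, n_0_2, n_0_3, n_0_4, n_1_3, n_1_4, n_2_4]
      · skip
        rcases P_3 with ⟨e_3, a_3⟩ | ⟨e_3, a_3⟩ | ⟨e_3, a_3⟩ | ⟨e_3, a_3⟩ | ⟨e_3, a_3⟩
        · exfalso
          have tv := Q 1 2 3 2 1 (by norm_num)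
          norm_num at tv
          linarith only [tv, e_0, e_1, e_2, e_3, a_0, a_1, a_2, a_3, d_0, d_1, d_2, d_3, d_4, w_0, w_1, w_2, w_3, w_4, n_0_2, n_0_3, n_0_4, n_1_3, n_1_4, n_2_4]
        · exfalso
          have tv := Q 0 0 2 2 1 (by norm_num)
          norm_num at tv
          linarith only [tv, e_0, e_1, e_2, e_3, a_0, a_1, a_2, a_3, d_0, d_1, d_2, d_3, d_4, w_0, w_1, w_2, w_3, w_4, n_0_2, n_0_3, n_0_4, n_1_3, n_1_4, n_2_4]
        · exfalso
          have tv := Q 0 0 1 2 1 (by norm_num)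
          norm_num at tv
          linarith only [tv, e_0, e_1, e_2, e_3, a_0, a_1, a_2, a_3, d_0, d_1, d_2, d_3, d_4, w_0, w_1, w_2, w_3, w_4, n_0_2, n_0_3, n_0_4, n_1_3, n_1_4, n_2_4]
        · exfalso
          have tv := Q 0 0 1 1 1 (by norm_num)
          norm_num at tv
          linarith only [tv, e_0, e_1, e_2, e_3, a_0, a_1, a_2, a_3, d_0, d_1, d_2, d_3, d_4, w_0, w_1, w_2, w_3, w_4, n_0_2, n_0_3, n_0_4, n_1_3, n_1_4, n_2_4]
        · exfalso
          have tv := Q 0 0 1 1 1 (by norm_num)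
          norm_num at tv
          linarith only [tv, e_0, e_1, e_2, e_3, a_0, a_1, a_2, a_3, d_0, d_1, d_2, d_3, d_4, w_0, w_1, w_2, w_3, w_4, n_0_2, n_0_3, n_0_4, n_1_3, n_1_4, n_2_4]
      · exfalso
        have tv := Q 0 1 2 1 0 (by norm_num)
        norm_num at tv
        linarith only [tv, e_0, e_1, e_2, a_0, a_1, a_2, d_0, d_1, d_2, d_3, w_0, w_1, w_2, w_3, n_0_2, n_0_3, n_1_3]
      · skip
        rcases P_3 with ⟨e_3, a_3⟩ | ⟨e_3, a_3⟩ | ⟨e_3, a_3⟩ | ⟨e_3, a_3⟩ | ⟨e_3, a_3⟩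
        · exfalso
          have tv := Q 1 2 3 4 2 (by norm_num)
          norm_num at tv
          linarith only [tv, e_0, e_1, e_2, e_3, a_0, a_1, a_2, a_3, d_0, d_1, d_2, d_3, d_4, w_0, w_1, w_2, w_3, w_4, n_0_2, n_0_3, n_0_4, n_1_3, n_1_4, n_2_4]
        · exfalso
          have tv := Q 0 0 1 2 1 (by norm_num)
          norm_num at tv
          linarith only [tv, e_0, e_1, e_2, e_3, a_0, a_1, a_2, a_3, d_0, d_1, d_2, d_3, d_4, w_0, w_1, w_2, w_3, w_4, n_0_2, n_0_3, n_0_4, n_1_3, n_1_4, n_2_4]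
        · exfalso
          have tv := Q 0 0 1 2 1 (by norm_num)
          norm_num at tv
          linarith only [tv, e_0, e_1, e_2, e_3, a_0, a_1, a_2, a_3, d_0, d_1, d_2, d_3, d_4, w_0, w_1, w_2, w_3, w_4, n_0_2, n_0_3, n_0_4, n_1_3, n_1_4, n_2_4]
        · exfalso
          have tv := Q 0 0 1 2 2 (by norm_num)
          norm_num at tv
          linarith only [tv, e_0, e_1, e_2, e_3, a_0, a_1, a_2, a_3, d_0, d_1, d_2, d_3, d_4, w_0, w_1, w_2, w_3, w_4, n_0_2, n_0_3, n_0_4, n_1_3, n_1_4, n_2_4]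
        · exfalso
          have tv := Q 0 0 1 2 2 (by norm_num)
          norm_num at tv
          linarith only [tv, e_0, e_1, e_2, e_3, a_0, a_1, a_2, a_3, d_0, d_1, d_2, d_3, d_4, w_0, w_1, w_2, w_3, w_4, n_0_2, n_0_3, n_0_4, n_1_3, n_1_4, n_2_4]
      · exfalso
        have tv := Q 0 1 2 3 0 (by norm_num)
        norm_num at tv
        linarith only [tv, e_0, e_1, e_2, a_0, a_1, a_2, d_0, d_1, d_2, d_3, w_0, w_1, w_2, w_3, n_0_2, n_0_3, n_1_3]
    · skip
      rcases P_2 with ⟨e_2, a_2⟩ | ⟨e_2, a_2⟩ | ⟨e_2, a_2⟩ | ⟨e_2, a_2⟩ | ⟨e_2, a_2⟩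
      · skip
        rcases P_3 with ⟨e_3, a_3⟩ | ⟨e_3, a_3⟩ | ⟨e_3, a_3⟩ | ⟨e_3, a_3⟩ | ⟨e_3, a_3⟩
        · exfalso
          have tv := Q 2 4 3 2 1 (by norm_num)
          norm_num at tv
          linarith only [tv, e_0, e_1, e_2, e_3, a_0, a_1, a_2, a_3, d_0, d_1, d_2, d_3, d_4, w_0, w_1, w_2, w_3, w_4, n_0_2, n_0_3, n_0_4, n_1_3, n_1_4, n_2_4]
        · exfalso
          have tv := Q 0 2 2 2 1 (by norm_num)
          norm_num at tv
          linarith only [tv, e_0, e_1, e_2, e_3, a_0, a_1, a_2, a_3, d_0, d_1, d_2, d_3, d_4, w_0, w_1, w_2, w_3, w_4, n_0_2, n_0_3, n_0_4, n_1_3, n_1_4, n_2_4]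
        · exfalso
          have tv := Q 0 0 1 2 1 (by norm_num)
          norm_num at tv
          linarith only [tv, e_0, e_1, e_2, e_3, a_0, a_1, a_2, a_3, d_0, d_1, d_2, d_3, d_4, w_0, w_1, w_2, w_3, w_4, n_0_2, n_0_3, n_0_4, n_1_3, n_1_4, n_2_4]
        · exfalso
          have tv := Q 0 1 1 1 1 (by norm_num)
          norm_num at tv
          linarith only [tv, e_0, e_1, e_2, e_3, a_0, a_1, a_2, a_3, d_0, d_1, d_2, d_3, d_4, w_0, w_1, w_2, w_3, w_4, n_0_2, n_0_3, n_0_4, n_1_3, n_1_4, n_2_4]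
        · exfalso
          have tv := Q 0 1 1 1 1 (by norm_num)
          norm_num at tv
          linarith only [tv, e_0, e_1, e_2, e_3, a_0, a_1, a_2, a_3, d_0, d_1, d_2, d_3, d_4, w_0, w_1, w_2, w_3, w_4, n_0_2, n_0_3, n_0_4, n_1_3, n_1_4, n_2_4]
      · exfalso
        have tv := Q 0 2 2 1 0 (by norm_num)
        norm_num at tv
        linarith only [tv, e_0, e_1, e_2, a_0, a_1, a_2, d_0, d_1, d_2, d_3, w_0, w_1, w_2, w_3, n_0_2, n_0_3, n_1_3]
      · exfalso
        have tv := Q 0 1 2 1 0 (by norm_num)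
        norm_num at tv
        linarith only [tv, e_0, e_1, e_2, a_0, a_1, a_2, d_0, d_1, d_2, d_3, w_0, w_1, w_2, w_3, n_0_2, n_0_3, n_1_3]
      · exfalso
        have tv := Q 0 1 1 1 0 (by norm_num)
        norm_num at tv
        linarith only [tv, e_0, e_1, e_2, a_0, a_1, a_2, d_0, d_1, d_2, d_3, w_0, w_1, w_2, w_3, n_0_2, n_0_3, n_1_3]
      · exfalso
        have tv := Q 0 1 1 1 0 (by norm_num)
        norm_num at tv
        linarith only [tv, e_0, e_1, e_2, a_0, a_1, a_2, d_0, d_1, d_2, d_3, w_0, w_1, w_2, w_3, n_0_2, n_0_3, n_1_3]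
    · exfalso
      have tv := Q 1 2 1 0 0 (by norm_num)
      norm_num at tv
      linarith only [tv, e_0, e_1, a_0, a_1, d_0, d_1, d_2, w_0, w_1, w_2, n_0_2]
    · skip
      rcases P_2 with ⟨e_2, a_2⟩ | ⟨e_2, a_2⟩ | ⟨e_2, a_2⟩ | ⟨e_2, a_2⟩ | ⟨e_2, a_2⟩
      · skip
        rcases P_3 with ⟨e_3, a_3⟩ | ⟨e_3, a_3⟩ | ⟨e_3, a_3⟩ | ⟨e_3, a_3⟩ | ⟨e_3, a_3⟩
        · exfalso
          have tv := Q 1 2 3 2 1 (by norm_num)
          norm_num at tv
          linarith only [tv, e_0, e_1, e_2, e_3, a_0, a_1, a_2, a_3, d_0, d_1, d_2, d_3, d_4, w_0, w_1, w_2, w_3, w_4, n_0_2, n_0_3, n_0_4, n_1_3, n_1_4, n_2_4]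
        · exfalso
          have tv := Q 0 1 2 2 1 (by norm_num)
          norm_num at tv
          linarith only [tv, e_0, e_1, e_2, e_3, a_0, a_1, a_2, a_3, d_0, d_1, d_2, d_3, d_4, w_0, w_1, w_2, w_3, w_4, n_0_2, n_0_3, n_0_4, n_1_3, n_1_4, n_2_4]
        · exfalso
          have tv := Q 0 0 1 2 1 (by norm_num)
          norm_num at tv
          linarith only [tv, e_0, e_1, e_2, e_3, a_0, a_1, a_2, a_3, d_0, d_1, d_2, d_3, d_4, w_0, w_1, w_2, w_3, w_4, n_0_2, n_0_3, n_0_4, n_1_3, n_1_4, n_2_4]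
        · exfalso
          have tv := Q 0 1 2 2 2 (by norm_num)
          norm_num at tv
          linarith only [tv, e_0, e_1, e_2, e_3, a_0, a_1, a_2, a_3, d_0, d_1, d_2, d_3, d_4, w_0, w_1, w_2, w_3, w_4, n_0_2, n_0_3, n_0_4, n_1_3, n_1_4, n_2_4]
        · exfalso
          have tv := Q 0 0 1 2 3 (by norm_num)
          norm_num at tv
          linarith only [tv, e_0, e_1, e_2, e_3, a_0, a_1, a_2, a_3, d_0, d_1, d_2, d_3, d_4, w_0, w_1, w_2, w_3, w_4, n_0_2, n_0_3, n_0_4, n_1_3, n_1_4, n_2_4]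
      · exfalso
        have tv := Q 0 1 2 1 0 (by norm_num)
        norm_num at tv
        linarith only [tv, e_0, e_1, e_2, a_0, a_1, a_2, d_0, d_1, d_2, d_3, w_0, w_1, w_2, w_3, n_0_2, n_0_3, n_1_3]
      · exfalso
        have tv := Q 0 1 2 1 0 (by norm_num)
        norm_num at tv
        linarith only [tv, e_0, e_1, e_2, a_0, a_1, a_2, d_0, d_1, d_2, d_3, w_0, w_1, w_2, w_3, n_0_2, n_0_3, n_1_3]
      · exfalso
        have tv := Q 0 1 2 2 0 (by norm_num)
        norm_num at tv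
        linarith only [tv, e_0, e_1, e_2, a_0, a_1, a_2, d_0, d_1, d_2, d_3, w_0, w_1, w_2, w_3, n_0_2, n_0_3, n_1_3]
      · exfalso
        have tv := Q 0 1 2 2 0 (by norm_num)
        norm_num at tv
        linarith only [tv, e_0, e_1, e_2, a_0, a_1, a_2, d_0, d_1, d_2, d_3, w_0, w_1, w_2, w_3, n_0_2, n_0_3, n_1_3]
    · exfalso
      have tv := Q 1 2 3 0 0 (by norm_num)
      norm_num at tv
      linarith only [tv, e_0, e_1, a_0, a_1, d_0, d_1, d_2, w_0, w_1, w_2, n_0_2]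
  · skip
    rcases P_1 with ⟨e_1, a_1⟩ | ⟨e_1, a_1⟩ | ⟨e_1, a_1⟩ | ⟨e_1, a_1⟩ | ⟨e_1, a_1⟩
    · skip
      rcases P_2 with ⟨e_2, a_2⟩ | ⟨e_2, a_2⟩ | ⟨e_2, a_2⟩ | ⟨e_2, a_2⟩ | ⟨e_2, a_2⟩
      · skip
        rcases P_3 with ⟨e_3, a_3⟩ | ⟨e_3, a_3⟩ | ⟨e_3, a_3⟩ | ⟨e_3, a_3⟩ | ⟨e_3, a_3⟩
        · skip
          have hWn_1 : T.w (v 1) = 2 * T.w (v 0) := by linarith only [e_0, e_1, e_2, e_3]
          have hWn_2 : T.w (v 2) = 2 * T.w (v 0) := by linarith only [e_0, e_1, e_2, e_3]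
          have hWn_3 : T.w (v 3) = 2 * T.w (v 0) := by linarith only [e_0, e_1, e_2, e_3]
          have hWn_4 : T.w (v 4) = 2 * T.w (v 0) := by linarith only [e_0, e_1, e_2, e_3]
          have hAn_0 : T.a (v 0) (v 1) = 2 * T.w (v 0) := by linarith only [e_0, e_1, e_2, e_3, a_0]
          have hAn_1 : T.a (v 1) (v 2) = 2 * T.w (v 0) := by linarith only [e_0, e_1, e_2, e_3, a_1]
          have hAn_2 : T.a (v 2) (v 3) = 2 * T.w (v 0) := by linarith only [e_0, e_1, e_2, e_3, a_2]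
          have hAn_3 : T.a (v 3) (v 4) = 2 * T.w (v 0) := by linarith only [e_0, e_1, e_2, e_3, a_3]
          have hZ_0_2 : T.a (v 0) (v 2) = 0 := by
            apply H8Num.eq_zero_of_dvd_lt (w := T.w (v 0)) (hdv1 0 2) n_0_2
            have tv := Q 1 1 1 0 0 (by norm_num)
            norm_num at tv
            linarith only [tv, hWn_1, hWn_2, hWn_3, hWn_4, hAn_0, hAn_1, hAn_2, hAn_3, d_0, d_1, d_2, w_0]
          have hZ_0_3 : T.a (v 0) (v 3) = 0 := by
            apply H8Num.eq_zero_of_dvd_lt (w := T.w (v 0)) (hdv1 0 3) n_0_3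
            have tv := Q 1 1 1 1 0 (by norm_num)
            norm_num at tv
            linarith only [tv, hWn_1, hWn_2, hWn_3, hWn_4, hAn_0, hAn_1, hAn_2, hAn_3, d_0, d_1, d_2, d_3, w_0, n_0_2, n_1_3]
          have hZ_0_4 : T.a (v 0) (v 4) = 0 := by
            apply H8Num.eq_zero_of_dvd_lt (w := T.w (v 0)) (hdv1 0 4) n_0_4
            have tv := Q 1 1 1 1 1 (by norm_num)
            norm_num at tv
            linarith only [tv, hWn_1, hWn_2, hWn_3, hWn_4, hAn_0, hAn_1, hAn_2, hAn_3, d_0, d_1, d_2, d_3, d_4, w_0, n_0_2, n_0_3, n_1_3, n_1_4, n_2_4]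
          have hZ_1_3 : T.a (v 1) (v 3) = 0 := by
            apply H8Num.eq_zero_of_dvd_lt (w := T.w (v 1)) (hdv1 1 3) n_1_3
            have tv := Q 0 1 1 1 0 (by norm_num)
            norm_num at tv
            linarith only [tv, hWn_1, hWn_2, hWn_3, hWn_4, hAn_0, hAn_1, hAn_2, hAn_3, d_1, d_2, d_3, w_0]
          have hZ_1_4 : T.a (v 1) (v 4) = 0 := by
            apply H8Num.eq_zero_of_dvd_lt (w := T.w (v 1)) (hdv1 1 4) n_1_4
            have tv := Q 0 1 1 1 1 (by norm_num)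
            norm_num at tv
            linarith only [tv, hWn_1, hWn_2, hWn_3, hWn_4, hAn_0, hAn_1, hAn_2, hAn_3, d_1, d_2, d_3, d_4, w_0, n_1_3, n_2_4]
          have hZ_2_4 : T.a (v 2) (v 4) = 0 := by
            apply H8Num.eq_zero_of_dvd_lt (w := T.w (v 2)) (hdv1 2 4) n_2_4
            have tv := Q 0 0 1 1 1 (by norm_num)
            norm_num at tv
            linarith only [tv, hWn_1, hWn_2, hWn_3, hWn_4, hAn_0, hAn_1, hAn_2, hAn_3, d_2, d_3, d_4, w_0]
          have hM_0 : 2 * T.m (v 1) ≤ 2 * T.m (v 0) := by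
            have row := H8Num.row_le T v 0
            simp only [Fin.sum_univ_five] at row
            simp only [s_0_1, s_0_2, s_0_3, s_0_4, s_1_2, s_1_3, s_1_4, s_2_3, s_2_4, s_3_4, hZ_0_2, hZ_0_3, hZ_0_4, hZ_1_3, hZ_1_4, hZ_2_4, hAn_0, hAn_1, hAn_2, hAn_3, d_0, d_1, d_2, d_3, d_4, hWn_1, hWn_2, hWn_3, hWn_4] at row
            by_contra hcon
            push Not at hcon
            have hmp := mul_pos w_0 (sub_pos.2 hcon)
            linarith only [hmp, row]
          have hM_1 : T.m (v 0) + T.m (v 2) ≤ 2 * T.m (v 1) := by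
            have row := H8Num.row_le T v 1
            simp only [Fin.sum_univ_five] at row
            simp only [s_0_1, s_0_2, s_0_3, s_0_4, s_1_2, s_1_3, s_1_4, s_2_3, s_2_4, s_3_4, hZ_0_2, hZ_0_3, hZ_0_4, hZ_1_3, hZ_1_4, hZ_2_4, hAn_0, hAn_1, hAn_2, hAn_3, d_0, d_1, d_2, d_3, d_4, hWn_1, hWn_2, hWn_3, hWn_4] at row
            by_contra hcon
            push Not at hcon
            have hmp := mul_pos w_0 (sub_pos.2 hcon)
            linarith only [hmp, row]
          have hM_2 : T.m (v 1) + T.m (v 3) ≤ 2 * T.m (v 2) := by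
            have row := H8Num.row_le T v 2
            simp only [Fin.sum_univ_five] at row
            simp only [s_0_1, s_0_2, s_0_3, s_0_4, s_1_2, s_1_3, s_1_4, s_2_3, s_2_4, s_3_4, hZ_0_2, hZ_0_3, hZ_0_4, hZ_1_3, hZ_1_4, hZ_2_4, hAn_0, hAn_1, hAn_2, hAn_3, d_0, d_1, d_2, d_3, d_4, hWn_1, hWn_2, hWn_3, hWn_4] at row
            by_contra hcon
            push Not at hcon
            have hmp := mul_pos w_0 (sub_pos.2 hcon)
            linarith only [hmp, row]
          have hM_3 : T.m (v 2) + T.m (v 4) ≤ 2 * T.m (v 3) := by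
            have row := H8Num.row_le T v 3
            simp only [Fin.sum_univ_five] at row
            simp only [s_0_1, s_0_2, s_0_3, s_0_4, s_1_2, s_1_3, s_1_4, s_2_3, s_2_4, s_3_4, hZ_0_2, hZ_0_3, hZ_0_4, hZ_1_3, hZ_1_4, hZ_2_4, hAn_0, hAn_1, hAn_2, hAn_3, d_0, d_1, d_2, d_3, d_4, hWn_1, hWn_2, hWn_3, hWn_4] at row
            by_contra hcon
            push Not at hcon
            have hmp := mul_pos w_0 (sub_pos.2 hcon)
            linarith only [hmp, row]
          have hM_4 : T.m (v 3) ≤ 2 * T.m (v 4) := by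
            have row := H8Num.row_le T v 4
            simp only [Fin.sum_univ_five] at row
            simp only [s_0_1, s_0_2, s_0_3, s_0_4, s_1_2, s_1_3, s_1_4, s_2_3, s_2_4, s_3_4, hZ_0_2, hZ_0_3, hZ_0_4, hZ_1_3, hZ_1_4, hZ_2_4, hAn_0, hAn_1, hAn_2, hAn_3, d_0, d_1, d_2, d_3, d_4, hWn_1, hWn_2, hWn_3, hWn_4] at row
            by_contra hcon
            push Not at hcon
            have hmp := mul_pos w_0 (sub_pos.2 hcon)
            linarith only [hmp, row]
          refine ⟨⟨hZ_0_2, hZ_0_3, hZ_0_4, hZ_1_3, hZ_1_4, hZ_2_4⟩, ![v 4, v 3, v 2, v 1, v 0], T.w (v 0), Or.inr (fun j => by fin_cases j <;> rfl), Or.inr (Or.inr (⟨?_, ?_, ?_, ?_, ?_, ?_, ?_, ?_, ?_, ?_, ?_, ?_, ?_, ?_⟩))⟩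
          · exact hWn_4
          · exact hWn_3
          · exact hWn_2
          · exact hWn_1
          · rfl
          · exact (s_3_4).trans hAn_3
          · exact (s_2_3).trans hAn_2
          · exact (s_1_2).trans hAn_1
          · exact (s_0_1).trans hAn_0
          · show _ ≤ _
            simp only [Matrix.cons_val_zero, Matrix.cons_val_one, Matrix.cons_val]
            linarith only [hM_4]
          · show _ ≤ _
            simp only [Matrix.cons_val_zero, Matrix.cons_val_one, Matrix.cons_val]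
            linarith only [hM_3]
          · show _ ≤ _
            simp only [Matrix.cons_val_zero, Matrix.cons_val_one, Matrix.cons_val]
            linarith only [hM_2]
          · show _ ≤ _
            simp only [Matrix.cons_val_zero, Matrix.cons_val_one, Matrix.cons_val]
            linarith only [hM_1]
          · show _ ≤ _
            simp only [Matrix.cons_val_zero, Matrix.cons_val_one, Matrix.cons_val]
            linarith only [hM_0]
        · exfalso
          have tv := Q 2 2 2 2 1 (by norm_num)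
          norm_num at tv
          linarith only [tv, e_0, e_1, e_2, e_3, a_0, a_1, a_2, a_3, d_0, d_1, d_2, d_3, d_4, w_0, w_1, w_2, w_3, w_4, n_0_2, n_0_3, n_0_4, n_1_3, n_1_4, n_2_4]
        · exfalso
          have tv := Q 0 0 1 2 1 (by norm_num)
          norm_num at tv
          linarith only [tv, e_0, e_1, e_2, e_3, a_0, a_1, a_2, a_3, d_0, d_1, d_2, d_3, d_4, w_0, w_1, w_2, w_3, w_4, n_0_2, n_0_3, n_0_4, n_1_3, n_1_4, n_2_4]
        · exfalso
          have tv := Q 1 1 1 1 1 (by norm_num)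
          norm_num at tv
          linarith only [tv, e_0, e_1, e_2, e_3, a_0, a_1, a_2, a_3, d_0, d_1, d_2, d_3, d_4, w_0, w_1, w_2, w_3, w_4, n_0_2, n_0_3, n_0_4, n_1_3, n_1_4, n_2_4]
        · exfalso
          have tv := Q 1 1 1 1 1 (by norm_num)
          norm_num at tv
          linarith only [tv, e_0, e_1, e_2, e_3, a_0, a_1, a_2, a_3, d_0, d_1, d_2, d_3, d_4, w_0, w_1, w_2, w_3, w_4, n_0_2, n_0_3, n_0_4, n_1_3, n_1_4, n_2_4]
      · exfalso
        have tv := Q 2 2 2 1 0 (by norm_num)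
        norm_num at tv
        linarith only [tv, e_0, e_1, e_2, a_0, a_1, a_2, d_0, d_1, d_2, d_3, w_0, w_1, w_2, w_3, n_0_2, n_0_3, n_1_3]
      · exfalso
        have tv := Q 0 1 2 1 0 (by norm_num)
        norm_num at tv
        linarith only [tv, e_0, e_1, e_2, a_0, a_1, a_2, d_0, d_1, d_2, d_3, w_0, w_1, w_2, w_3, n_0_2, n_0_3, n_1_3]
      · exfalso
        have tv := Q 1 1 1 1 0 (by norm_num)
        norm_num at tv
        linarith only [tv, e_0, e_1, e_2, a_0, a_1, a_2, d_0, d_1, d_2, d_3, w_0, w_1, w_2, w_3, n_0_2, n_0_3, n_1_3]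
      · exfalso
        have tv := Q 1 1 1 1 0 (by norm_num)
        norm_num at tv
        linarith only [tv, e_0, e_1, e_2, a_0, a_1, a_2, d_0, d_1, d_2, d_3, w_0, w_1, w_2, w_3, n_0_2, n_0_3, n_1_3]
    · exfalso
      have tv := Q 2 2 1 0 0 (by norm_num)
      norm_num at tv
      linarith only [tv, e_0, e_1, a_0, a_1, d_0, d_1, d_2, w_0, w_1, w_2, n_0_2]
    · exfalso
      have tv := Q 1 2 1 0 0 (by norm_num)
      norm_num at tv
      linarith only [tv, e_0, e_1, a_0, a_1, d_0, d_1, d_2, w_0, w_1, w_2, n_0_2]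
    · exfalso
      have tv := Q 1 1 1 0 0 (by norm_num)
      norm_num at tv
      linarith only [tv, e_0, e_1, a_0, a_1, d_0, d_1, d_2, w_0, w_1, w_2, n_0_2]
    · exfalso
      have tv := Q 1 1 1 0 0 (by norm_num)
      norm_num at tv
      linarith only [tv, e_0, e_1, a_0, a_1, d_0, d_1, d_2, w_0, w_1, w_2, n_0_2]
  · skip
    rcases P_1 with ⟨e_1, a_1⟩ | ⟨e_1, a_1⟩ | ⟨e_1, a_1⟩ | ⟨e_1, a_1⟩ | ⟨e_1, a_1⟩
    · exfalso
      have tv := Q 3 2 1 0 0 (by norm_num)
      norm_num at tv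
      linarith only [tv, e_0, e_1, a_0, a_1, d_0, d_1, d_2, w_0, w_1, w_2, n_0_2]
    · exfalso
      have tv := Q 2 2 1 0 0 (by norm_num)
      norm_num at tv
      linarith only [tv, e_0, e_1, a_0, a_1, d_0, d_1, d_2, w_0, w_1, w_2, n_0_2]
    · exfalso
      have tv := Q 1 2 1 0 0 (by norm_num)
      norm_num at tv
      linarith only [tv, e_0, e_1, a_0, a_1, d_0, d_1, d_2, w_0, w_1, w_2, n_0_2]
    · exfalso
      have tv := Q 1 1 1 0 0 (by norm_num)
      norm_num at tv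
      linarith only [tv, e_0, e_1, a_0, a_1, d_0, d_1, d_2, w_0, w_1, w_2, n_0_2]
    · exfalso
      have tv := Q 1 1 1 0 0 (by norm_num)
      norm_num at tv
      linarith only [tv, e_0, e_1, a_0, a_1, d_0, d_1, d_2, w_0, w_1, w_2, n_0_2]
  · skip
    rcases P_1 with ⟨e_1, a_1⟩ | ⟨e_1, a_1⟩ | ⟨e_1, a_1⟩ | ⟨e_1, a_1⟩ | ⟨e_1, a_1⟩
    · skip
      rcases P_2 with ⟨e_2, a_2⟩ | ⟨e_2, a_2⟩ | ⟨e_2, a_2⟩ | ⟨e_2, a_2⟩ | ⟨e_2, a_2⟩
      · skip
        rcases P_3 with ⟨e_3, a_3⟩ | ⟨e_3, a_3⟩ | ⟨e_3, a_3⟩ | ⟨e_3, a_3⟩ | ⟨e_3, a_3⟩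
        · skip
          have hWn_0 : T.w (v 0) = 2 * T.w (v 1) := by linarith only [e_0, e_1, e_2, e_3]
          have hWn_2 : T.w (v 2) = T.w (v 1) := by linarith only [e_0, e_1, e_2, e_3]
          have hWn_3 : T.w (v 3) = T.w (v 1) := by linarith only [e_0, e_1, e_2, e_3]
          have hWn_4 : T.w (v 4) = T.w (v 1) := by linarith only [e_0, e_1, e_2, e_3]
          have hAn_0 : T.a (v 0) (v 1) = 2 * T.w (v 1) := by linarith only [e_0, e_1, e_2, e_3, a_0]
          have hAn_1 : T.a (v 1) (v 2) = T.w (v 1) := by linarith only [e_0, e_1, e_2, e_3, a_1]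
          have hAn_2 : T.a (v 2) (v 3) = T.w (v 1) := by linarith only [e_0, e_1, e_2, e_3, a_2]
          have hAn_3 : T.a (v 3) (v 4) = T.w (v 1) := by linarith only [e_0, e_1, e_2, e_3, a_3]
          have hZ_0_2 : T.a (v 0) (v 2) = 0 := by
            apply H8Num.eq_zero_of_dvd_lt (w := T.w (v 0)) (hdv1 0 2) n_0_2
            have tv := Q 1 1 1 0 0 (by norm_num)
            norm_num at tv
            linarith only [tv, hWn_0, hWn_2, hWn_3, hWn_4, hAn_0, hAn_1, hAn_2, hAn_3, d_0, d_1, d_2, w_1]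
          have hZ_0_3 : T.a (v 0) (v 3) = 0 := by
            apply H8Num.eq_zero_of_dvd_lt (w := T.w (v 0)) (hdv1 0 3) n_0_3
            have tv := Q 1 1 1 1 0 (by norm_num)
            norm_num at tv
            linarith only [tv, hWn_0, hWn_2, hWn_3, hWn_4, hAn_0, hAn_1, hAn_2, hAn_3, d_0, d_1, d_2, d_3, w_1, n_0_2, n_1_3]
          have hZ_0_4 : T.a (v 0) (v 4) = 0 := by
            apply H8Num.eq_zero_of_dvd_lt (w := T.w (v 0)) (hdv1 0 4) n_0_4
            have tv := Q 1 1 1 1 1 (by norm_num)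
            norm_num at tv
            linarith only [tv, hWn_0, hWn_2, hWn_3, hWn_4, hAn_0, hAn_1, hAn_2, hAn_3, d_0, d_1, d_2, d_3, d_4, w_1, n_0_2, n_0_3, n_1_3, n_1_4, n_2_4]
          have hZ_1_3 : T.a (v 1) (v 3) = 0 := by
            apply H8Num.eq_zero_of_dvd_lt (w := T.w (v 1)) (hdv1 1 3) n_1_3
            have tv := Q 0 1 1 1 0 (by norm_num)
            norm_num at tv
            linarith only [tv, hWn_0, hWn_2, hWn_3, hWn_4, hAn_0, hAn_1, hAn_2, hAn_3, d_1, d_2, d_3, w_1]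
          have hZ_1_4 : T.a (v 1) (v 4) = 0 := by
            apply H8Num.eq_zero_of_dvd_lt (w := T.w (v 1)) (hdv1 1 4) n_1_4
            have tv := Q 0 1 1 1 1 (by norm_num)
            norm_num at tv
            linarith only [tv, hWn_0, hWn_2, hWn_3, hWn_4, hAn_0, hAn_1, hAn_2, hAn_3, d_1, d_2, d_3, d_4, w_1, n_1_3, n_2_4]
          have hZ_2_4 : T.a (v 2) (v 4) = 0 := by
            apply H8Num.eq_zero_of_dvd_lt (w := T.w (v 2)) (hdv1 2 4) n_2_4
            have tv := Q 0 0 1 1 1 (by norm_num)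
            norm_num at tv
            linarith only [tv, hWn_0, hWn_2, hWn_3, hWn_4, hAn_0, hAn_1, hAn_2, hAn_3, d_2, d_3, d_4, w_1]
          have hM_0 : T.m (v 1) ≤ 2 * T.m (v 0) := by
            have row := H8Num.row_le T v 0
            simp only [Fin.sum_univ_five] at row
            simp only [s_0_1, s_0_2, s_0_3, s_0_4, s_1_2, s_1_3, s_1_4, s_2_3, s_2_4, s_3_4, hZ_0_2, hZ_0_3, hZ_0_4, hZ_1_3, hZ_1_4, hZ_2_4, hAn_0, hAn_1, hAn_2, hAn_3, d_0, d_1, d_2, d_3, d_4, hWn_0, hWn_2, hWn_3, hWn_4] at row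
            by_contra hcon
            push Not at hcon
            have hmp := mul_pos w_1 (sub_pos.2 hcon)
            linarith only [hmp, row]
          have hM_1 : 2 * T.m (v 0) + T.m (v 2) ≤ 2 * T.m (v 1) := by
            have row := H8Num.row_le T v 1
            simp only [Fin.sum_univ_five] at row
            simp only [s_0_1, s_0_2, s_0_3, s_0_4, s_1_2, s_1_3, s_1_4, s_2_3, s_2_4, s_3_4, hZ_0_2, hZ_0_3, hZ_0_4, hZ_1_3, hZ_1_4, hZ_2_4, hAn_0, hAn_1, hAn_2, hAn_3, d_0, d_1, d_2, d_3, d_4, hWn_0, hWn_2, hWn_3, hWn_4] at row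
            by_contra hcon
            push Not at hcon
            have hmp := mul_pos w_1 (sub_pos.2 hcon)
            linarith only [hmp, row]
          have hM_2 : T.m (v 1) + T.m (v 3) ≤ 2 * T.m (v 2) := by
            have row := H8Num.row_le T v 2
            simp only [Fin.sum_univ_five] at row
            simp only [s_0_1, s_0_2, s_0_3, s_0_4, s_1_2, s_1_3, s_1_4, s_2_3, s_2_4, s_3_4, hZ_0_2, hZ_0_3, hZ_0_4, hZ_1_3, hZ_1_4, hZ_2_4, hAn_0, hAn_1, hAn_2, hAn_3, d_0, d_1, d_2, d_3, d_4, hWn_0, hWn_2, hWn_3, hWn_4] at row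
            by_contra hcon
            push Not at hcon
            have hmp := mul_pos w_1 (sub_pos.2 hcon)
            linarith only [hmp, row]
          have hM_3 : T.m (v 2) + T.m (v 4) ≤ 2 * T.m (v 3) := by
            have row := H8Num.row_le T v 3
            simp only [Fin.sum_univ_five] at row
            simp only [s_0_1, s_0_2, s_0_3, s_0_4, s_1_2, s_1_3, s_1_4, s_2_3, s_2_4, s_3_4, hZ_0_2, hZ_0_3, hZ_0_4, hZ_1_3, hZ_1_4, hZ_2_4, hAn_0, hAn_1, hAn_2, hAn_3, d_0, d_1, d_2, d_3, d_4, hWn_0, hWn_2, hWn_3, hWn_4] at row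
            by_contra hcon
            push Not at hcon
            have hmp := mul_pos w_1 (sub_pos.2 hcon)
            linarith only [hmp, row]
          have hM_4 : T.m (v 3) ≤ 2 * T.m (v 4) := by
            have row := H8Num.row_le T v 4
            simp only [Fin.sum_univ_five] at row
            simp only [s_0_1, s_0_2, s_0_3, s_0_4, s_1_2, s_1_3, s_1_4, s_2_3, s_2_4, s_3_4, hZ_0_2, hZ_0_3, hZ_0_4, hZ_1_3, hZ_1_4, hZ_2_4, hAn_0, hAn_1, hAn_2, hAn_3, d_0, d_1, d_2, d_3, d_4, hWn_0, hWn_2, hWn_3, hWn_4] at row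
            by_contra hcon
            push Not at hcon
            have hmp := mul_pos w_1 (sub_pos.2 hcon)
            linarith only [hmp, row]
          refine ⟨⟨hZ_0_2, hZ_0_3, hZ_0_4, hZ_1_3, hZ_1_4, hZ_2_4⟩, ![v 4, v 3, v 2, v 1, v 0], T.w (v 1), Or.inr (fun j => by fin_cases j <;> rfl), Or.inr (Or.inl ⟨?_, ?_, ?_, ?_, ?_, ?_, ?_, ?_, ?_, ?_, ?_, ?_, ?_, ?_⟩)⟩
          · exact hWn_4
          · exact hWn_3
          · exact hWn_2
          · rfl
          · exact hWn_0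
          · exact (s_3_4).trans hAn_3
          · exact (s_2_3).trans hAn_2
          · exact (s_1_2).trans hAn_1
          · exact (s_0_1).trans hAn_0
          · show _ ≤ _
            simp only [Matrix.cons_val_zero, Matrix.cons_val_one, Matrix.cons_val]
            linarith only [hM_4]
          · show _ ≤ _
            simp only [Matrix.cons_val_zero, Matrix.cons_val_one, Matrix.cons_val]
            linarith only [hM_3]
          · show _ ≤ _
            simp only [Matrix.cons_val_zero, Matrix.cons_val_one, Matrix.cons_val]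
            linarith only [hM_2]
          · show _ ≤ _
            simp only [Matrix.cons_val_zero, Matrix.cons_val_one, Matrix.cons_val]
            linarith only [hM_1]
          · show _ ≤ _
            simp only [Matrix.cons_val_zero, Matrix.cons_val_one, Matrix.cons_val]
            linarith only [hM_0]
        · exfalso
          have tv := Q 1 2 2 2 1 (by norm_num)
          norm_num at tv
          linarith only [tv, e_0, e_1, e_2, e_3, a_0, a_1, a_2, a_3, d_0, d_1, d_2, d_3, d_4, w_0, w_1, w_2, w_3, w_4, n_0_2, n_0_3, n_0_4, n_1_3, n_1_4, n_2_4]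
        · exfalso
          have tv := Q 0 0 1 2 1 (by norm_num)
          norm_num at tv
          linarith only [tv, e_0, e_1, e_2, e_3, a_0, a_1, a_2, a_3, d_0, d_1, d_2, d_3, d_4, w_0, w_1, w_2, w_3, w_4, n_0_2, n_0_3, n_0_4, n_1_3, n_1_4, n_2_4]
        · exfalso
          have tv := Q 1 2 2 2 2 (by norm_num)
          norm_num at tv
          linarith only [tv, e_0, e_1, e_2, e_3, a_0, a_1, a_2, a_3, d_0, d_1, d_2, d_3, d_4, w_0, w_1, w_2, w_3, w_4, n_0_2, n_0_3, n_0_4, n_1_3, n_1_4, n_2_4]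
        · exfalso
          have tv := Q 0 0 1 2 3 (by norm_num)
          norm_num at tv
          linarith only [tv, e_0, e_1, e_2, e_3, a_0, a_1, a_2, a_3, d_0, d_1, d_2, d_3, d_4, w_0, w_1, w_2, w_3, w_4, n_0_2, n_0_3, n_0_4, n_1_3, n_1_4, n_2_4]
      · exfalso
        have tv := Q 1 2 2 1 0 (by norm_num)
        norm_num at tv
        linarith only [tv, e_0, e_1, e_2, a_0, a_1, a_2, d_0, d_1, d_2, d_3, w_0, w_1, w_2, w_3, n_0_2, n_0_3, n_1_3]
      · exfalso
        have tv := Q 0 1 2 1 0 (by norm_num)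
        norm_num at tv
        linarith only [tv, e_0, e_1, e_2, a_0, a_1, a_2, d_0, d_1, d_2, d_3, w_0, w_1, w_2, w_3, n_0_2, n_0_3, n_1_3]
      · exfalso
        have tv := Q 1 2 2 2 0 (by norm_num)
        norm_num at tv
        linarith only [tv, e_0, e_1, e_2, a_0, a_1, a_2, d_0, d_1, d_2, d_3, w_0, w_1, w_2, w_3, n_0_2, n_0_3, n_1_3]
      · exfalso
        have tv := Q 0 1 2 3 0 (by norm_num)
        norm_num at tv
        linarith only [tv, e_0, e_1, e_2, a_0, a_1, a_2, d_0, d_1, d_2, d_3, w_0, w_1, w_2, w_3, n_0_2, n_0_3, n_1_3]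
    · exfalso
      have tv := Q 1 2 1 0 0 (by norm_num)
      norm_num at tv
      linarith only [tv, e_0, e_1, a_0, a_1, d_0, d_1, d_2, w_0, w_1, w_2, n_0_2]
    · exfalso
      have tv := Q 1 2 1 0 0 (by norm_num)
      norm_num at tv
      linarith only [tv, e_0, e_1, a_0, a_1, d_0, d_1, d_2, w_0, w_1, w_2, n_0_2]
    · exfalso
      have tv := Q 1 2 2 0 0 (by norm_num)
      norm_num at tv
      linarith only [tv, e_0, e_1, a_0, a_1, d_0, d_1, d_2, w_0, w_1, w_2, n_0_2]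
    · exfalso
      have tv := Q 1 2 2 0 0 (by norm_num)
      norm_num at tv
      linarith only [tv, e_0, e_1, a_0, a_1, d_0, d_1, d_2, w_0, w_1, w_2, n_0_2]
  · skip
    rcases P_1 with ⟨e_1, a_1⟩ | ⟨e_1, a_1⟩ | ⟨e_1, a_1⟩ | ⟨e_1, a_1⟩ | ⟨e_1, a_1⟩
    · exfalso
      have tv := Q 1 2 1 0 0 (by norm_num)
      norm_num at tv
      linarith only [tv, e_0, e_1, a_0, a_1, d_0, d_1, d_2, w_0, w_1, w_2, n_0_2]
    · exfalso
      have tv := Q 1 2 1 0 0 (by norm_num)
      norm_num at tv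
      linarith only [tv, e_0, e_1, a_0, a_1, d_0, d_1, d_2, w_0, w_1, w_2, n_0_2]
    · exfalso
      have tv := Q 1 2 1 0 0 (by norm_num)
      norm_num at tv
      linarith only [tv, e_0, e_1, a_0, a_1, d_0, d_1, d_2, w_0, w_1, w_2, n_0_2]
    · exfalso
      have tv := Q 1 2 1 0 0 (by norm_num)
      norm_num at tv
      linarith only [tv, e_0, e_1, a_0, a_1, d_0, d_1, d_2, w_0, w_1, w_2, n_0_2]
    · exfalso
      have tv := Q 1 2 1 0 0 (by norm_num)
      norm_num at tv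
      linarith only [tv, e_0, e_1, a_0, a_1, d_0, d_1, d_2, w_0, w_1, w_2, n_0_2]

end Groth.Agent.S7353
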