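import Groth.Statements.S7354
import Mathlib
import Groth.Agent.H8Num5
import Groth.Agent.S7353

set_option autoImplicit false
open Finset
open Models Models.NumericalType

namespace Groth.Agent.S7354

/-- Let T be a numerical type on n indices, t > 5 with n > t, and i_1, …, i_t distinct (-2)-indices with
a_{i_j i_{j+1}} nonzero for j = 1, …, t - 1. Then, after possibly reversing the order of the
indices, for some integer w either (A) w_{i_1} = … = w_{i_t} = w and a_{i_j i_{j+1}} = w for all j;
or (C) w_{i_1} = … = w_{i_{t-1}} = w, w_{i_t} = 2w, a_{i_j i_{j+1}} = w for j < t - 1 and a_{i_{t-1}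
i_t} = 2w; or (B) w_{i_1} = … = w_{i_{t-1}} = 2w, w_{i_t} = w and a_{i_j i_{j+1}} = 2w for all j;
and in every case a_{i_j i_k} = 0 whenever k > j + 1. -/
theorem result {n : ℕ} (T : Models.NumericalType n) (t : ℕ) (ht : 5 < t) (hn : t < n)
    (v : Fin t ↪ Fin n) (hv : ∀ j, T.IsMinusTwo (v j))
    (hchain : ∀ j j' : Fin t, j'.val = j.val + 1 → T.a (v j) (v j') ≠ 0) :
    ∃ (u : Fin t → Fin n) (w : ℤ), ((∀ j, u j = v j) ∨ (∀ j, u j = v (Fin.rev j))) ∧
      (∀ j k : Fin t, j.val + 1 < k.val → T.a (u j) (u k) = 0) ∧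
      ((∀ j : Fin t, T.w (u j) = w) ∧ (∀ j j' : Fin t, j'.val = j.val + 1 → T.a (u j) (u j') = w) ∨
        ((∀ j : Fin t, j.val + 1 < t → T.w (u j) = w) ∧ (∀ j : Fin t, j.val + 1 = t → T.w (u j) = 2 * w) ∧
          (∀ j j' : Fin t, j'.val = j.val + 1 → j'.val + 1 < t → T.a (u j) (u j') = w) ∧
          (∀ j j' : Fin t, j'.val = j.val + 1 → j'.val + 1 = t → T.a (u j) (u j') = 2 * w)) ∨
        ((∀ j : Fin t, j.val + 1 < t → T.w (u j) = 2 * w) ∧ (∀ j : Fin t, j.val + 1 = t → T.w (u j) = w) ∧
          (∀ j j' : Fin t, j'.val = j.val + 1 → T.a (u j) (u j') = 2 * w))) := by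
  classical
  have htpos : 0 < t := by omega
  let nd : ℕ → Fin t := fun i => if h : i < t then ⟨i, h⟩ else ⟨0, htpos⟩
  have nd_val : ∀ i, i < t → (nd i).val = i := by
    intro i hi; simp only [nd, dif_pos hi]
  have nd_eq : ∀ j : Fin t, nd j.val = j := by
    intro j; simp only [nd, dif_pos j.isLt]
  have nd_ne : ∀ a b, a < t → b < t → a ≠ b → nd a ≠ nd b := by
    intro a b ha hb hab h
    apply hab
    have := congrArg Fin.val h
    rwa [nd_val a ha, nd_val b hb] at this
  let A : ℕ → ℕ → ℤ := fun a b => T.a (v (nd a)) (v (nd b))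
  let W : ℕ → ℤ := fun a => T.w (v (nd a))
  have Asymm : ∀ a b, A a b = A b a := fun a b => H8Num.symm' T _ _
  have Wpos : ∀ a, 0 < W a := fun a => T.w_pos _
  have hch : ∀ a, a + 1 < t → A a (a + 1) ≠ 0 := by
    intro a ha
    apply hchain
    rw [nd_val _ (by omega), nd_val _ (by omega)]
  -- zeros
  have zeros : ∀ a b, a + 2 ≤ b → b < t → A a b = 0 := by
    intro a b hab hb
    have := H8Num.chain_zeros T hn v hv hchain (nd a) (nd b)
      (by rw [nd_val _ (by omega), nd_val _ hb]; exact hab)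
    exact this
  -- windows
  have win : ∀ s, s + 5 ≤ t → ∃ x : ℤ, W (s + 1) = x ∧ W (s + 2) = x ∧ W (s + 3) = x ∧
      A (s + 1) (s + 2) = x ∧ A (s + 2) (s + 3) = x ∧
      ((W s = x ∧ A s (s + 1) = x) ∨ (W s = 2 * x ∧ A s (s + 1) = 2 * x) ∨
        (2 * W s = x ∧ A s (s + 1) = x)) ∧
      ((W (s + 4) = x ∧ A (s + 3) (s + 4) = x) ∨ (W (s + 4) = 2 * x ∧ A (s + 3) (s + 4) = 2 * x) ∨
        (2 * W (s + 4) = x ∧ A (s + 3) (s + 4) = x)) := by
    intro s hs
    let f : Fin 5 → Fin t := fun i => nd (s + i.val)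
    have hf : Function.Injective f := by
      intro a b hab
      have h1 := congrArg Fin.val hab
      simp only [f] at h1
      rw [nd_val _ (by have := a.isLt; omega), nd_val _ (by have := b.isLt; omega)] at h1
      exact Fin.ext (by omega)
    let v5 : Fin 5 ↪ Fin n := ⟨fun i => v (f i), fun a b hab => hf (v.injective hab)⟩
    have e0 : v5 0 = v (nd s) := rfl
    have e1 : v5 1 = v (nd (s + 1)) := rfl
    have e2 : v5 2 = v (nd (s + 2)) := rfl
    have e3 : v5 3 = v (nd (s + 3)) := rfl
    have e4 : v5 4 = v (nd (s + 4)) := rfl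
    have h01 : T.a (v5 0) (v5 1) ≠ 0 := by rw [e0, e1]; exact hch s (by omega)
    have h12 : T.a (v5 1) (v5 2) ≠ 0 := by rw [e1, e2]; exact hch (s + 1) (by omega)
    have h23 : T.a (v5 2) (v5 3) ≠ 0 := by rw [e2, e3]; exact hch (s + 2) (by omega)
    have h34 : T.a (v5 3) (v5 4) ≠ 0 := by rw [e3, e4]; exact hch (s + 3) (by omega)
    obtain ⟨-, u, w', hu, hpat⟩ :=
      Groth.Agent.S7353.result T (by omega) v5 (fun j => hv _) h01 h12 h23 h34
    rcases hu with hu | hu
    · have u0 : u 0 = v (nd s) := (hu 0).trans e0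
      have u1 : u 1 = v (nd (s + 1)) := (hu 1).trans e1
      have u2 : u 2 = v (nd (s + 2)) := (hu 2).trans e2
      have u3 : u 3 = v (nd (s + 3)) := (hu 3).trans e3
      have u4 : u 4 = v (nd (s + 4)) := (hu 4).trans e4
      rw [u0, u1, u2, u3, u4] at hpat
      rcases hpat with ⟨k0, k1, k2, k3, k4, a01, a12, a23, a34, -⟩ |
        ⟨k0, k1, k2, k3, k4, a01, a12, a23, a34, -⟩ | ⟨k0, k1, k2, k3, k4, a01, a12, a23, a34, -⟩
      · exact ⟨w', k1, k2, k3, a12, a23, Or.inl ⟨k0, a01⟩, Or.inl ⟨k4, a34⟩⟩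
      · exact ⟨w', k1, k2, k3, a12, a23, Or.inl ⟨k0, a01⟩, Or.inr (Or.inl ⟨k4, a34⟩)⟩
      · refine ⟨2 * w', k1, k2, k3, a12, a23, Or.inl ⟨k0, a01⟩, Or.inr (Or.inr ⟨?_, a34⟩)⟩
        show 2 * T.w (v (nd (s + 4))) = 2 * w'
        rw [k4]
    · have u0 : u 0 = v (nd (s + 4)) := (hu 0).trans e4
      have u1 : u 1 = v (nd (s + 3)) := (hu 1).trans e3
      have u2 : u 2 = v (nd (s + 2)) := (hu 2).trans e2
      have u3 : u 3 = v (nd (s + 1)) := (hu 3).trans e1
      have u4 : u 4 = v (nd s) := (hu 4).trans e0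
      rw [u0, u1, u2, u3, u4] at hpat
      rcases hpat with ⟨k4, k3, k2, k1, k0, a43, a32, a21, a10, -⟩ |
        ⟨k4, k3, k2, k1, k0, a43, a32, a21, a10, -⟩ | ⟨k4, k3, k2, k1, k0, a43, a32, a21, a10, -⟩
      · exact ⟨w', k1, k2, k3, (Asymm _ _).trans a21, (Asymm _ _).trans a32,
          Or.inl ⟨k0, (Asymm _ _).trans a10⟩, Or.inl ⟨k4, (Asymm _ _).trans a43⟩⟩
      · exact ⟨w', k1, k2, k3, (Asymm _ _).trans a21, (Asymm _ _).trans a32,
          Or.inr (Or.inl ⟨k0, (Asymm _ _).trans a10⟩), Or.inl ⟨k4, (Asymm _ _).trans a43⟩⟩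
      · refine ⟨2 * w', k1, k2, k3, (Asymm _ _).trans a21, (Asymm _ _).trans a32,
          Or.inr (Or.inr ⟨?_, (Asymm _ _).trans a10⟩), Or.inl ⟨k4, (Asymm _ _).trans a43⟩⟩
        show 2 * T.w (v (nd s)) = 2 * w'
        rw [k0]
  -- interior weights
  set u0 : ℤ := W 1 with hu0
  have step : ∀ a, 1 ≤ a → a + 3 ≤ t → W a = W (a + 1) ∧ A a (a + 1) = W a := by
    intro a h1 h2
    rcases Nat.lt_or_ge (a + 4) (t + 1) with h | h
    · -- a ≤ t - 4 : window s = a - 1
      obtain ⟨x, x1, x2, x3, y12, y23, -, -⟩ := win (a - 1) (by omega)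
      rw [show a - 1 + 1 = a by omega] at x1 y12
      rw [show a - 1 + 2 = a + 1 by omega] at x2 y12
      exact ⟨x1.trans x2.symm, y12.trans x1.symm⟩
    · -- a = t - 3 : window s = t - 5 = a - 2
      obtain ⟨x, x1, x2, x3, y12, y23, -, -⟩ := win (a - 2) (by omega)
      rw [show a - 2 + 2 = a by omega] at x2 y23
      rw [show a - 2 + 3 = a + 1 by omega] at x3 y23
      exact ⟨x2.trans x3.symm, y23.trans x2.symm⟩
  have Wint : ∀ a, 1 ≤ a → a + 2 ≤ t → W a = u0 := by
    intro a h1
    induction a with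
    | zero => omega
    | succ a ih =>
      intro h2
      rcases Nat.eq_zero_or_pos a with rfl | hpos
      · rfl
      · have := (step a hpos (by omega)).1
        rw [← this]
        exact ih hpos (by omega)
  have Aint : ∀ a, 1 ≤ a → a + 3 ≤ t → A a (a + 1) = u0 := by
    intro a h1 h2
    rw [(step a h1 h2).2, Wint a h1 (by omega)]
  have upos : 0 < u0 := Wpos 1
  -- ends
  have E0 : (W 0 = u0 ∧ A 0 1 = u0) ∨ (W 0 = 2 * u0 ∧ A 0 1 = 2 * u0) ∨
      (2 * W 0 = u0 ∧ A 0 1 = u0) := by
    obtain ⟨x, x1, -, -, -, -, hE, -⟩ := win 0 (by omega)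
    have hx : x = u0 := x1.symm
    rw [hx] at hE
    exact hE
  have E1 : (W (t - 1) = u0 ∧ A (t - 2) (t - 1) = u0) ∨
      (W (t - 1) = 2 * u0 ∧ A (t - 2) (t - 1) = 2 * u0) ∨
      (2 * W (t - 1) = u0 ∧ A (t - 2) (t - 1) = u0) := by
    obtain ⟨x, x1, -, -, -, -, -, hE⟩ := win (t - 5) (by omega)
    have hx : x = u0 := by rw [← x1]; exact Wint _ (by omega) (by omega)
    rw [hx, show t - 5 + 4 = t - 1 by omega, show t - 5 + 3 = t - 2 by omega] at hE
    exact hE
  -- exclusion lemma
  have excl : ∀ c0 c1 : ℤ, (c0 = 1 ∨ c0 = 2) → (c1 = 1 ∨ c1 = 2) →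
      2 * W 0 * c0 ≤ 2 * A 0 1 → 4 * u0 ≤ c0 * A 0 1 + 2 * u0 →
      2 * W (t - 1) * c1 ≤ 2 * A (t - 2) (t - 1) → 4 * u0 ≤ 2 * u0 + c1 * A (t - 2) (t - 1) →
      False := by
    intro c0 c1 hc0 hc1 r0 r1 r2 r3
    let cv : ℕ → ℤ := fun i => if i = 0 then c0 else if i = t - 1 then c1 else 2
    have cv_0 : cv 0 = c0 := if_pos rfl
    have cv_l : cv (t - 1) = c1 := by
      show (if t - 1 = 0 then c0 else if t - 1 = t - 1 then c1 else 2) = c1
      rw [if_neg (by omega), if_pos rfl]
    have cv_m : ∀ i, 1 ≤ i → i + 2 ≤ t → cv i = 2 := by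
      intro i h1 h2
      show (if i = 0 then c0 else if i = t - 1 then c1 else 2) = 2
      rw [if_neg (by omega), if_neg (by omega)]
    let c : Fin t → ℤ := fun i => cv i.val
    have c_nd : ∀ a, a < t → c (nd a) = cv a := by
      intro a ha
      show cv (nd a).val = cv a
      rw [nd_val a ha]
    have hc : ∀ i, 0 ≤ c i := by
      intro i
      show 0 ≤ (if i.val = 0 then c0 else if i.val = t - 1 then c1 else 2)
      split_ifs
      · rcases hc0 with rfl | rfl <;> norm_num
      · rcases hc1 with rfl | rfl <;> norm_num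
      · norm_num
    have hS : ∀ i, c i = 0 ∨ ∃ S : Finset (Fin t), i ∉ S ∧
        2 * T.w (v i) * c i ≤ ∑ j' ∈ S, c j' * T.a (v i) (v j') := by
      intro i
      have ha : i.val < t := i.isLt
      have hia : i = nd i.val := (nd_eq i).symm
      generalize i.val = a at ha hia
      subst hia
      right
      rcases Nat.eq_zero_or_pos a with h | h
      · subst h
        refine H8Num.two_le_single T v c (nd 0) (nd 1) (nd_ne _ _ (by omega) (by omega) (by omega)) _ ?_
        rw [c_nd 0 (by omega), c_nd 1 (by omega), cv_0, cv_m 1 (by omega) (by omega)]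
        show 2 * W 0 * c0 ≤ 2 * A 0 1
        exact r0
      rcases Nat.lt_or_ge a 2 with h1 | h1
      · have ha1 : a = 1 := by omega
        subst ha1
        refine H8Num.two_le_pair T v c (nd 1) (nd 0) (nd 2)
          (nd_ne _ _ (by omega) (by omega) (by omega)) (nd_ne _ _ (by omega) (by omega) (by omega))
          (nd_ne _ _ (by omega) (by omega) (by omega)) _ ?_
        rw [c_nd 1 (by omega), c_nd 0 (by omega), c_nd 2 (by omega), cv_0,
          cv_m 1 (by omega) (by omega), cv_m 2 (by omega) (by omega)]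
        show 2 * W 1 * 2 ≤ c0 * A 1 0 + 2 * A 1 2
        rw [Asymm 1 0, Aint 1 (by omega) (by omega)]
        linarith
      rcases Nat.lt_or_ge a (t - 2) with h2 | h2
      · refine H8Num.two_le_pair T v c (nd a) (nd (a - 1)) (nd (a + 1))
          (nd_ne _ _ (by omega) (by omega) (by omega)) (nd_ne _ _ (by omega) (by omega) (by omega))
          (nd_ne _ _ (by omega) (by omega) (by omega)) _ ?_
        rw [c_nd a (by omega), c_nd (a - 1) (by omega), c_nd (a + 1) (by omega),
          cv_m a (by omega) (by omega), cv_m (a - 1) (by omega) (by omega),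
          cv_m (a + 1) (by omega) (by omega)]
        show 2 * W a * 2 ≤ 2 * A a (a - 1) + 2 * A a (a + 1)
        have e1 : A a (a - 1) = u0 := by
          rw [Asymm]
          have := Aint (a - 1) (by omega) (by omega)
          rwa [show a - 1 + 1 = a by omega] at this
        rw [Wint a (by omega) (by omega), e1, Aint a (by omega) (by omega)]
        linarith
      rcases Nat.eq_or_lt_of_le h2 with h3 | h3
      · have hat : a = t - 2 := h3.symm
        subst hat
        refine H8Num.two_le_pair T v c (nd (t - 2)) (nd (t - 3)) (nd (t - 1))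
          (nd_ne _ _ (by omega) (by omega) (by omega)) (nd_ne _ _ (by omega) (by omega) (by omega))
          (nd_ne _ _ (by omega) (by omega) (by omega)) _ ?_
        rw [c_nd (t - 2) (by omega), c_nd (t - 3) (by omega), c_nd (t - 1) (by omega),
          cv_m (t - 2) (by omega) (by omega), cv_m (t - 3) (by omega) (by omega), cv_l]
        show 2 * W (t - 2) * 2 ≤ 2 * A (t - 2) (t - 3) + c1 * A (t - 2) (t - 1)
        have e1 : A (t - 2) (t - 3) = u0 := by
          rw [Asymm]
          have := Aint (t - 3) (by omega) (by omega)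
          rwa [show t - 3 + 1 = t - 2 by omega] at this
        rw [Wint (t - 2) (by omega) (by omega), e1]
        linarith
      · have hat : a = t - 1 := by omega
        subst hat
        refine H8Num.two_le_single T v c (nd (t - 1)) (nd (t - 2))
          (nd_ne _ _ (by omega) (by omega) (by omega)) _ ?_
        rw [c_nd (t - 1) (by omega), c_nd (t - 2) (by omega), cv_l,
          cv_m (t - 2) (by omega) (by omega)]
        show 2 * W (t - 1) * c1 ≤ 2 * A (t - 1) (t - 2)
        rw [Asymm]
        exact r2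
    have hzero := H8Num.no_config_gen T hn v hv c hc hS (nd 1)
    rw [c_nd 1 (by omega), cv_m 1 (by omega) (by omega)] at hzero
    norm_num at hzero
  -- conversions
  have eW : ∀ j : Fin t, T.w (v j) = W j.val := by
    intro j; show _ = T.w (v (nd j.val)); rw [nd_eq]
  have eA : ∀ j k : Fin t, T.a (v j) (v k) = A j.val k.val := by
    intro j k; show _ = T.a (v (nd j.val)) (v (nd k.val)); rw [nd_eq, nd_eq]
  have rev_val : ∀ j : Fin t, (Fin.rev j).val = t - 1 - j.val := by
    intro j; rw [Fin.val_rev]; omega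
  rcases E0 with ⟨p0, q0⟩ | ⟨p0, q0⟩ | ⟨p0, q0⟩
  · rcases E1 with ⟨p1, q1⟩ | ⟨p1, q1⟩ | ⟨p1, q1⟩
    · -- type A
      refine ⟨⇑v, u0, Or.inl (fun _ => rfl), ?_, Or.inl ⟨?_, ?_⟩⟩
      · intro j k hjk
        rw [eA]; exact zeros _ _ (by omega) k.isLt
      · intro j
        rw [eW]
        have hj := j.isLt
        rcases Nat.eq_zero_or_pos j.val with h | h
        · rw [h]; exact p0
        rcases Nat.lt_or_ge (j.val + 1) t with h' | h'
        · exact Wint _ h (by omega)
        · rw [show j.val = t - 1 by omega]; exact p1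
      · intro j j' hjj
        rw [eA, hjj]
        have hj := j'.isLt
        rcases Nat.eq_zero_or_pos j.val with h | h
        · rw [h]; exact q0
        rcases Nat.lt_or_ge (j.val + 2) t with h' | h'
        · exact Aint _ h (by omega)
        · rw [show j.val = t - 2 by omega, show t - 2 + 1 = t - 1 by omega]; exact q1
    · -- type C (heavy right end)
      refine ⟨⇑v, u0, Or.inl (fun _ => rfl), ?_, Or.inr (Or.inl ⟨?_, ?_, ?_, ?_⟩)⟩
      · intro j k hjk
        rw [eA]; exact zeros _ _ (by omega) k.isLt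
      · intro j hj
        rw [eW]
        rcases Nat.eq_zero_or_pos j.val with h | h
        · rw [h]; exact p0
        · exact Wint _ h (by omega)
      · intro j hj
        rw [eW, show j.val = t - 1 by omega]; exact p1
      · intro j j' hjj hj'
        rw [eA, hjj]
        rcases Nat.eq_zero_or_pos j.val with h | h
        · rw [h]; exact q0
        · exact Aint _ h (by omega)
      · intro j j' hjj hj'
        rw [eA, hjj, show j.val = t - 2 by omega, show t - 2 + 1 = t - 1 by omega]; exact q1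
    · -- type B (light right end), w = W (t-1)
      refine ⟨⇑v, W (t - 1), Or.inl (fun _ => rfl), ?_, Or.inr (Or.inr ⟨?_, ?_, ?_⟩)⟩
      · intro j k hjk
        rw [eA]; exact zeros _ _ (by omega) k.isLt
      · intro j hj
        rw [eW, p1]
        rcases Nat.eq_zero_or_pos j.val with h | h
        · rw [h]; exact p0
        · exact Wint _ h (by omega)
      · intro j hj
        rw [eW, show j.val = t - 1 by omega]
      · intro j j' hjj
        rw [eA, hjj, p1]
        have hj := j'.isLt
        rcases Nat.eq_zero_or_pos j.val with h | h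
        · rw [h]; exact q0
        rcases Nat.lt_or_ge (j.val + 2) t with h' | h'
        · exact Aint _ h (by omega)
        · rw [show j.val = t - 2 by omega, show t - 2 + 1 = t - 1 by omega]; exact q1
  · rcases E1 with ⟨p1, q1⟩ | ⟨p1, q1⟩ | ⟨p1, q1⟩
    · -- reversed C: heavy left end
      refine ⟨fun j => v (Fin.rev j), u0, Or.inr (fun _ => rfl), ?_, Or.inr (Or.inl ⟨?_, ?_, ?_, ?_⟩)⟩
      · intro j k hjk
        show T.a (v (Fin.rev j)) (v (Fin.rev k)) = 0
        rw [eA, rev_val, rev_val, Asymm]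
        have := k.isLt
        exact zeros _ _ (by omega) (by omega)
      · intro j hj
        show T.w (v (Fin.rev j)) = u0
        rw [eW, rev_val]
        rcases Nat.eq_zero_or_pos j.val with h | h
        · rw [h, show t - 1 - 0 = t - 1 by omega]; exact p1
        · exact Wint _ (by omega) (by omega)
      · intro j hj
        show T.w (v (Fin.rev j)) = 2 * u0
        rw [eW, rev_val, show t - 1 - j.val = 0 by omega]; exact p0
      · intro j j' hjj hj'
        show T.a (v (Fin.rev j)) (v (Fin.rev j')) = u0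
        rw [eA, rev_val, rev_val, Asymm, hjj]
        rcases Nat.eq_zero_or_pos j.val with h | h
        · rw [h, show t - 1 - (0 + 1) = t - 2 by omega, show t - 1 - 0 = t - 1 by omega]; exact q1
        · have := Aint (t - 1 - (j.val + 1)) (by omega) (by omega)
          rwa [show t - 1 - (j.val + 1) + 1 = t - 1 - j.val by omega] at this
      · intro j j' hjj hj'
        show T.a (v (Fin.rev j)) (v (Fin.rev j')) = 2 * u0
        rw [eA, rev_val, rev_val, Asymm, hjj, show t - 1 - (j.val + 1) = 0 by omega,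
          show t - 1 - j.val = 1 by omega]
        exact q0
    · exfalso
      exact excl 1 1 (Or.inl rfl) (Or.inl rfl) (by rw [p0, q0]; linarith) (by rw [q0]; linarith)
        (by rw [p1, q1]; linarith) (by rw [q1]; linarith)
    · exfalso
      exact excl 1 2 (Or.inl rfl) (Or.inr rfl) (by rw [p0, q0]; linarith) (by rw [q0]; linarith)
        (by rw [q1]; linarith) (by rw [q1]; linarith)
  · rcases E1 with ⟨p1, q1⟩ | ⟨p1, q1⟩ | ⟨p1, q1⟩
    · -- reversed B: light left end, w = W 0
      refine ⟨fun j => v (Fin.rev j), W 0, Or.inr (fun _ => rfl), ?_, Or.inr (Or.inr ⟨?_, ?_, ?_⟩)⟩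
      · intro j k hjk
        show T.a (v (Fin.rev j)) (v (Fin.rev k)) = 0
        rw [eA, rev_val, rev_val, Asymm]
        have := k.isLt
        exact zeros _ _ (by omega) (by omega)
      · intro j hj
        show T.w (v (Fin.rev j)) = 2 * W 0
        rw [eW, rev_val, p0]
        rcases Nat.eq_zero_or_pos j.val with h | h
        · rw [h, show t - 1 - 0 = t - 1 by omega]; exact p1
        · exact Wint _ (by omega) (by omega)
      · intro j hj
        show T.w (v (Fin.rev j)) = W 0
        rw [eW, rev_val, show t - 1 - j.val = 0 by omega]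
      · intro j j' hjj
        show T.a (v (Fin.rev j)) (v (Fin.rev j')) = 2 * W 0
        rw [eA, rev_val, rev_val, Asymm, hjj, p0]
        have hj := j'.isLt
        rcases Nat.eq_zero_or_pos j.val with h | h
        · rw [h, show t - 1 - (0 + 1) = t - 2 by omega, show t - 1 - 0 = t - 1 by omega]; exact q1
        rcases Nat.lt_or_ge (j.val + 2) t with h' | h'
        · have := Aint (t - 1 - (j.val + 1)) (by omega) (by omega)
          rwa [show t - 1 - (j.val + 1) + 1 = t - 1 - j.val by omega] at this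
        · rw [show t - 1 - (j.val + 1) = 0 by omega, show t - 1 - j.val = 1 by omega]; exact q0
    · exfalso
      exact excl 2 1 (Or.inr rfl) (Or.inl rfl) (by rw [q0]; linarith) (by rw [q0]; linarith)
        (by rw [p1, q1]; linarith) (by rw [q1]; linarith)
    · exfalso
      exact excl 2 2 (Or.inr rfl) (Or.inr rfl) (by rw [q0]; linarith) (by rw [q0]; linarith)
        (by rw [q1]; linarith) (by rw [q1]; linarith)

end Groth.Agent.S7354
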