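import Groth.Statements.S7355
import Mathlib
import Groth.Agent.H8Num5
import Groth.Agent.S7346

set_option autoImplicit false
open Finset
open Models Models.NumericalType

namespace Groth.Agent.S7355

/-- Classification of proper subgraphs of type D: let T be a numerical type on n indices, t > 4 with n >
t + 1, and i_1, …, i_{t+1} distinct (-2)-indices such that a_{i_j i_{j+1}} is nonzero for j = 1, …,
t - 1 and a_{i_{t-1} i_{t+1}} is nonzero. Then for some integer w one has w_{i_1} = … = w_{i_{t+1}}
= w, a_{i_j i_{j+1}} = w for j < t, a_{i_{t-1} i_{t+1}} = w, and a_{i_j i_k} = 0 for all other pairs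
j ≠ k. -/
theorem result {n : ℕ} (T : Models.NumericalType n) (t : ℕ) (ht : 4 < t) (hn : t + 1 < n)
    (v : Fin (t + 1) ↪ Fin n) (hv : ∀ j, T.IsMinusTwo (v j))
    (hchain : ∀ j j' : Fin (t + 1), j'.val = j.val + 1 → j'.val < t → T.a (v j) (v j') ≠ 0)
    (hbranch : ∀ j j' : Fin (t + 1), j.val + 2 = t → j'.val = t → T.a (v j) (v j') ≠ 0) :
    ∃ w : ℤ, (∀ j : Fin (t + 1), T.w (v j) = w) ∧
      (∀ j j' : Fin (t + 1), j'.val = j.val + 1 → j'.val < t → T.a (v j) (v j') = w) ∧
      (∀ j j' : Fin (t + 1), j.val + 2 = t → j'.val = t → T.a (v j) (v j') = w) ∧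
      (∀ j k : Fin (t + 1), j.val < k.val → ¬ (k.val = j.val + 1 ∧ k.val < t) → ¬ (j.val + 2 = t ∧ k.val = t) →
        T.a (v j) (v k) = 0) := by
  classical
  let nd : ℕ → Fin (t + 1) := fun i => if h : i < t + 1 then ⟨i, h⟩ else 0
  have nd_val : ∀ i, i < t + 1 → (nd i).val = i := by
    intro i hi; simp only [nd, dif_pos hi]
  have nd_eq : ∀ j : Fin (t + 1), nd j.val = j := by
    intro j; simp only [nd, dif_pos j.isLt]
  have nd_ne : ∀ a b, a < t + 1 → b < t + 1 → a ≠ b → nd a ≠ nd b := by
    intro a b ha hb hab h
    apply hab
    have := congrArg Fin.val h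
    rwa [nd_val a ha, nd_val b hb] at this
  let A : ℕ → ℕ → ℤ := fun a b => T.a (v (nd a)) (v (nd b))
  let W : ℕ → ℤ := fun a => T.w (v (nd a))
  have Asymm : ∀ a b, A a b = A b a := fun a b => H8Num.symm' T _ _
  have Wpos : ∀ a, 0 < W a := fun a => T.w_pos _
  have Adv1 : ∀ a b, W a ∣ A a b := fun a b => T.w_dvd _ _
  have Adv2 : ∀ a b, W b ∣ A a b := fun a b => by rw [Asymm]; exact T.w_dvd _ _
  have hne4 : ∀ a b, a < t + 1 → b < t + 1 → a ≠ b → v (nd a) ≠ v (nd b) :=
    fun a b ha hb hab e => nd_ne a b ha hb hab (v.injective e)
  have Ann : ∀ a b, a < t + 1 → b < t + 1 → a ≠ b → 0 ≤ A a b := fun a b ha hb hab =>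
    T.offDiag_nonneg _ _ (hne4 a b ha hb hab)
  have hch : ∀ a, a + 1 < t → A a (a + 1) ≠ 0 := by
    intro a ha
    apply hchain
    · rw [nd_val _ (by omega), nd_val _ (by omega)]
    · rw [nd_val _ (by omega)]; exact ha
  have hbr : A (t - 2) t ≠ 0 := by
    apply hbranch
    · rw [nd_val _ (by omega)]; omega
    · rw [nd_val _ (by omega)]
  -- D4 core
  let e4 := H8Num.emb4 (v (nd (t - 2))) (v (nd (t - 3))) (v (nd (t - 1))) (v (nd t))
    (hne4 _ _ (by omega) (by omega) (by omega)) (hne4 _ _ (by omega) (by omega) (by omega))
    (hne4 _ _ (by omega) (by omega) (by omega)) (hne4 _ _ (by omega) (by omega) (by omega))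
    (hne4 _ _ (by omega) (by omega) (by omega)) (hne4 _ _ (by omega) (by omega) (by omega))
  have hv4 : ∀ j, T.IsMinusTwo (e4 j) := by
    intro j
    fin_cases j <;> exact hv _
  have h01 : T.a (e4 0) (e4 1) ≠ 0 := by
    show A (t - 2) (t - 3) ≠ 0
    rw [Asymm]
    have := hch (t - 3) (by omega)
    rwa [show t - 3 + 1 = t - 2 by omega] at this
  have h02 : T.a (e4 0) (e4 2) ≠ 0 := by
    show A (t - 2) (t - 1) ≠ 0
    have := hch (t - 2) (by omega)
    rwa [show t - 2 + 1 = t - 1 by omega] at this
  have h03 : T.a (e4 0) (e4 3) ≠ 0 := hbr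
  obtain ⟨w, hw4, hb1, hb2, hb3, hz12, hz13, hz23, -⟩ :=
    Groth.Agent.S7346.result T (by omega) e4 hv4 h01 h02 h03
  have W2 : W (t - 2) = w := hw4 0
  have W3 : W (t - 3) = w := hw4 1
  have W1 : W (t - 1) = w := hw4 2
  have W0 : W t = w := hw4 3
  have A23 : A (t - 2) (t - 3) = w := hb1
  have A21 : A (t - 2) (t - 1) = w := hb2
  have A20 : A (t - 2) t = w := hb3
  have Z10 : A (t - 1) t = 0 := hz23
  have wpos : 0 < w := by rw [← W2]; exact Wpos _
  -- tail
  have tail : ∀ d j, j ≤ t - 3 → t - 3 - j ≤ d → W j = w ∧ A j (j + 1) = w := by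
    intro d
    induction d with
    | zero =>
      intro j hj hd
      have hj3 : j = t - 3 := by omega
      subst hj3
      refine ⟨W3, ?_⟩
      rw [Asymm, show t - 3 + 1 = t - 2 by omega]; exact A23
    | succ d ih =>
      intro j hj hd
      rcases Nat.lt_or_ge (t - 3 - j) (d + 1) with hlt | hge
      · exact ih j hj (by omega)
      have hj1 : j + 1 ≤ t - 3 := by omega
      have hWs : ∀ i, j < i → i ≤ t → W i = w := by
        intro i hji hit
        rcases Nat.lt_or_ge (t - 3) i with h | h
        · have : i = t - 2 ∨ i = t - 1 ∨ i = t := by omega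
          rcases this with rfl | rfl | rfl
          · exact W2
          · exact W1
          · exact W0
        · exact (ih i h (by omega)).1
      have hAs : ∀ i, j < i → i + 1 ≤ t - 1 → A i (i + 1) = w := by
        intro i hji hit
        rcases Nat.lt_or_ge (t - 3) i with h | h
        · have : i = t - 2 := by omega
          subst this
          rw [show t - 2 + 1 = t - 1 by omega]; exact A21
        · exact (ih i h (by omega)).2
      have hApos : 0 < A j (j + 1) :=
        lt_of_le_of_ne (Ann j (j + 1) (by omega) (by omega) (by omega)) (Ne.symm (hch j (by omega)))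
      have hwdvd : w ∣ A j (j + 1) := by
        rw [← hWs (j + 1) (by omega) (by omega)]; exact Adv2 j (j + 1)
      -- the key step
      have step : ∀ cx : ℤ, (cx = 1 ∨ cx = 2) → 2 * W j * cx ≤ 2 * A j (j + 1) →
          4 * w ≤ cx * A j (j + 1) + 2 * w → False := by
        intro cx hcx hr1 hr2
        let cv : ℕ → ℤ := fun i =>
          if i = t - 1 ∨ i = t then 1 else if j + 1 ≤ i then 2 else if i = j then cx else 0
        have cv_l1 : cv (t - 1) = 1 := if_pos (Or.inl rfl)
        have cv_l0 : cv t = 1 := if_pos (Or.inr rfl)
        have cv_two : ∀ i, j + 1 ≤ i → i ≤ t - 2 → cv i = 2 := by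
          intro i h1 h2
          show (if i = t - 1 ∨ i = t then (1 : ℤ) else if j + 1 ≤ i then 2 else if i = j then cx else 0) = 2
          rw [if_neg (by omega), if_pos h1]
        have cv_j : cv j = cx := by
          show (if j = t - 1 ∨ j = t then (1 : ℤ) else if j + 1 ≤ j then 2 else if j = j then cx else 0) = cx
          rw [if_neg (by omega), if_neg (by omega), if_pos rfl]
        have cv_lt : ∀ i, i < j → cv i = 0 := by
          intro i h1
          show (if i = t - 1 ∨ i = t then (1 : ℤ) else if j + 1 ≤ i then 2 else if i = j then cx else 0) = 0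
          rw [if_neg (by omega), if_neg (by omega), if_neg (by omega)]
        let c : Fin (t + 1) → ℤ := fun i => cv i.val
        have c_nd : ∀ a, a < t + 1 → c (nd a) = cv a := by
          intro a ha
          show cv (nd a).val = cv a
          rw [nd_val a ha]
        have hc : ∀ i, 0 ≤ c i := by
          intro i
          show 0 ≤ cv i.val
          simp only [cv]
          split_ifs
          · norm_num
          · norm_num
          · rcases hcx with rfl | rfl <;> norm_num
          · norm_num
        have hS : ∀ i, c i = 0 ∨ ∃ S : Finset (Fin (t + 1)), i ∉ S ∧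
            2 * T.w (v i) * c i ≤ ∑ j' ∈ S, c j' * T.a (v i) (v j') := by
          intro i
          have ha : i.val < t + 1 := i.isLt
          have hia : i = nd i.val := (nd_eq i).symm
          generalize i.val = a at ha hia
          subst hia
          rcases Nat.lt_or_ge a j with h | h
          · left; rw [c_nd a ha]; exact cv_lt a h
          right
          rcases Nat.eq_or_lt_of_le h with h | h
          · -- a = j
            subst h
            refine H8Num.two_le_single T v c (nd j) (nd (j + 1))
              (nd_ne _ _ (by omega) (by omega) (by omega)) _ ?_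
            rw [c_nd j (by omega), c_nd (j + 1) (by omega), cv_j, cv_two (j + 1) (by omega) (by omega)]
            show 2 * W j * cx ≤ 2 * A j (j + 1)
            exact hr1
          rcases Nat.eq_or_lt_of_le h with h | h
          · -- a = j + 1
            have haj : a = j + 1 := h.symm
            subst haj
            refine H8Num.two_le_pair T v c (nd (j + 1)) (nd j) (nd (j + 2))
              (nd_ne _ _ (by omega) (by omega) (by omega))
              (nd_ne _ _ (by omega) (by omega) (by omega))
              (nd_ne _ _ (by omega) (by omega) (by omega)) _ ?_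
            rw [c_nd j (by omega), c_nd (j + 1) (by omega), c_nd (j + 2) (by omega), cv_j,
              cv_two (j + 1) (by omega) (by omega), cv_two (j + 2) (by omega) (by omega)]
            show 2 * W (j + 1) * 2 ≤ cx * A (j + 1) j + 2 * A (j + 1) (j + 1 + 1)
            rw [hWs (j + 1) (by omega) (by omega), Asymm (j + 1) j, hAs (j + 1) (by omega) (by omega)]
            linarith
          rcases Nat.lt_or_ge a (t - 2) with h2 | h2
          · -- interior
            refine H8Num.two_le_pair T v c (nd a) (nd (a - 1)) (nd (a + 1))
              (nd_ne _ _ (by omega) (by omega) (by omega))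
              (nd_ne _ _ (by omega) (by omega) (by omega))
              (nd_ne _ _ (by omega) (by omega) (by omega)) _ ?_
            rw [c_nd a (by omega), c_nd (a - 1) (by omega), c_nd (a + 1) (by omega),
              cv_two a (by omega) (by omega), cv_two (a - 1) (by omega) (by omega),
              cv_two (a + 1) (by omega) (by omega)]
            show 2 * W a * 2 ≤ 2 * A a (a - 1) + 2 * A a (a + 1)
            have e1 : A a (a - 1) = w := by
              rw [Asymm]
              have := hAs (a - 1) (by omega) (by omega)
              rwa [show a - 1 + 1 = a by omega] at this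
            rw [hWs a (by omega) (by omega), e1, hAs a (by omega) (by omega)]
            linarith
          rcases Nat.eq_or_lt_of_le h2 with h3 | h3
          · -- a = t - 2
            have hat : a = t - 2 := h3.symm
            subst hat
            refine H8Num.two_le_triple T v c (nd (t - 2)) (nd (t - 3)) (nd (t - 1)) (nd t)
              (nd_ne _ _ (by omega) (by omega) (by omega))
              (nd_ne _ _ (by omega) (by omega) (by omega))
              (nd_ne _ _ (by omega) (by omega) (by omega))
              (nd_ne _ _ (by omega) (by omega) (by omega))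
              (nd_ne _ _ (by omega) (by omega) (by omega))
              (nd_ne _ _ (by omega) (by omega) (by omega)) _ ?_
            rw [c_nd (t - 2) (by omega), c_nd (t - 3) (by omega), c_nd (t - 1) (by omega),
              c_nd t (by omega), cv_two (t - 2) (by omega) (by omega),
              cv_two (t - 3) (by omega) (by omega), cv_l1, cv_l0]
            show 2 * W (t - 2) * 2 ≤ 2 * A (t - 2) (t - 3) + 1 * A (t - 2) (t - 1) + 1 * A (t - 2) t
            rw [W2, A23, A21, A20]
            linarith
          rcases Nat.eq_or_lt_of_le h3 with h4 | h4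
          · -- a = t - 1
            have hat : a = t - 1 := by omega
            subst hat
            refine H8Num.two_le_single T v c (nd (t - 1)) (nd (t - 2))
              (nd_ne _ _ (by omega) (by omega) (by omega)) _ ?_
            rw [c_nd (t - 1) (by omega), c_nd (t - 2) (by omega), cv_l1,
              cv_two (t - 2) (by omega) (by omega)]
            show 2 * W (t - 1) * 1 ≤ 2 * A (t - 1) (t - 2)
            rw [W1, Asymm, A21]
            linarith
          · -- a = t
            have hat : a = t := by omega
            subst hat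
            refine H8Num.two_le_single T v c (nd a) (nd (a - 2))
              (nd_ne _ _ (by omega) (by omega) (by omega)) _ ?_
            rw [c_nd a (by omega), c_nd (a - 2) (by omega), cv_l0,
              cv_two (a - 2) (by omega) (by omega)]
            show 2 * W a * 1 ≤ 2 * A a (a - 2)
            rw [W0, Asymm, A20]
            linarith
        have hzero := H8Num.no_config_gen T hn v hv c hc hS (nd t)
        rw [c_nd t (by omega), cv_l0] at hzero
        exact one_ne_zero hzero
      have hWjle : W j ≤ A j (j + 1) := Int.le_of_dvd hApos (Adv1 j (j + 1))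
      have hAw : A j (j + 1) = w := by
        apply H8Num.eq_of_dvd_lt_two wpos hwdvd hApos
        by_contra hcon
        push Not at hcon
        exact step 1 (Or.inl rfl) (by linarith) (by linarith)
      have hWw : W j = w := by
        apply H8Num.eq_of_dvd_gt_half (Wpos j) (by rw [← hAw]; exact Adv1 j (j + 1)) ?_ wpos
        by_contra hcon
        push Not at hcon
        exact step 2 (Or.inr rfl) (by rw [hAw]; linarith) (by rw [hAw]; linarith)
      exact ⟨hWw, hAw⟩
  have Wall : ∀ a, a ≤ t → W a = w := by
    intro a ha
    rcases Nat.lt_or_ge (t - 3) a with h | h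
    · have : a = t - 2 ∨ a = t - 1 ∨ a = t := by omega
      rcases this with rfl | rfl | rfl
      · exact W2
      · exact W1
      · exact W0
    · exact (tail (t - 3) a h (by omega)).1
  have Aall : ∀ a, a + 1 < t → A a (a + 1) = w := by
    intro a ha
    rcases Nat.lt_or_ge (t - 3) a with h | h
    · have : a = t - 2 := by omega
      subst this
      rw [show t - 2 + 1 = t - 1 by omega]; exact A21
    · exact (tail (t - 3) a h (by omega)).2
  -- zeros
  -- chain on first t nodes
  let u1 : Fin t ↪ Fin n := ⟨fun i => v (nd i.val), fun a b hab => by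
    have h1 := v.injective hab
    have h2 := congrArg Fin.val h1
    rw [nd_val _ (by have := a.isLt; omega), nd_val _ (by have := b.isLt; omega)] at h2
    exact Fin.ext h2⟩
  have z1 : ∀ a b, a + 2 ≤ b → b < t → A a b = 0 := by
    intro a b hab hb
    have := H8Num.chain_zeros T (by omega) u1 (fun j => hv _) ?_ ⟨a, by omega⟩ ⟨b, hb⟩ hab
    · exact this
    · intro i j hij
      show A i.val j.val ≠ 0
      rw [hij]
      exact hch i.val (by have := j.isLt; omega)
  -- chain 0..t-2, t
  let g : ℕ → ℕ := fun i => if i ≤ t - 2 then i else t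
  have g_le : ∀ i, i ≤ t - 2 → g i = i := fun i hi => if_pos hi
  have g_last : g (t - 1) = t := if_neg (by omega)
  have g_lt : ∀ i, i < t → g i < t + 1 := by
    intro i hi
    simp only [g]; split_ifs <;> omega
  have g_inj : ∀ a b, a < t → b < t → g a = g b → a = b := by
    intro a b ha hb hab
    simp only [g] at hab
    split_ifs at hab <;> omega
  let u2 : Fin t ↪ Fin n := ⟨fun i => v (nd (g i.val)), fun a b hab => by
    have h1 := v.injective hab
    have h2 := congrArg Fin.val h1
    rw [nd_val _ (g_lt _ a.isLt), nd_val _ (g_lt _ b.isLt)] at h2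
    exact Fin.ext (g_inj _ _ a.isLt b.isLt h2)⟩
  have z2 : ∀ a, a + 3 ≤ t → A a t = 0 := by
    intro a ha
    have := H8Num.chain_zeros T (by omega) u2 (fun j => hv _) ?_ ⟨a, by omega⟩ ⟨t - 1, by omega⟩
      (by show a + 2 ≤ t - 1; omega)
    · have e : A (g a) (g (t - 1)) = 0 := this
      rwa [g_le a (by omega), g_last] at e
    · intro i j hij
      show A (g i.val) (g j.val) ≠ 0
      have hj := j.isLt
      rcases Nat.lt_or_ge j.val (t - 1) with h | h
      · rw [g_le _ (by omega), g_le _ (by omega), hij]
        exact hch i.val (by omega)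
      · have hj1 : j.val = t - 1 := by omega
        have hi1 : i.val = t - 2 := by omega
        rw [hj1, hi1, g_last, g_le _ (by omega)]
        exact hbr
  refine ⟨w, ?_, ?_, ?_, ?_⟩
  · intro j
    have := Wall j.val (by have := j.isLt; omega)
    show T.w (v j) = w
    have e : W j.val = T.w (v j) := by show T.w (v (nd j.val)) = _; rw [nd_eq]
    rw [← e]; exact this
  · intro j j' h1 h2
    have e : A j.val j'.val = T.a (v j) (v j') := by
      show T.a (v (nd j.val)) (v (nd j'.val)) = _; rw [nd_eq, nd_eq]
    rw [← e, h1]
    exact Aall j.val (by omega)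
  · intro j j' h1 h2
    have e : A j.val j'.val = T.a (v j) (v j') := by
      show T.a (v (nd j.val)) (v (nd j'.val)) = _; rw [nd_eq, nd_eq]
    rw [← e, h2, show j.val = t - 2 by omega]
    exact A20
  · intro j k hjk hn1 hn2
    have e : A j.val k.val = T.a (v j) (v k) := by
      show T.a (v (nd j.val)) (v (nd k.val)) = _; rw [nd_eq, nd_eq]
    rw [← e]
    have hk := k.isLt
    rcases Nat.lt_or_ge k.val t with h | h
    · exact z1 _ _ (by omega) h
    · have hkt : k.val = t := by omega
      rw [hkt]
      rcases Nat.lt_or_ge j.val (t - 2) with h' | h'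
      · exact z2 _ (by omega)
      · have : j.val = t - 1 := by omega
        rw [this]; exact Z10

end Groth.Agent.S7355
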