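import Groth.Statements.S7362
import Mathlib
import Groth.Agent.H8Num4

set_option autoImplicit false
open Finset
open Models Models.NumericalType

namespace Groth.Agent.S7362

/-- Genus one classification: case n = 2: let T be a minimal numerical type of genus 1 on two indices.
Then for some ordering i, j of the indices and some integers m, w, either m_i = m_j = m, a_ii = a_jj
= -2w, a_ij = 2w, w_i = w_j = w, g_i = g_j = 0; or m_i = 2m, m_j = m, a_ii = -2w, a_ij = 4w, a_jj =
-8w, w_i = w, w_j = 4w, g_i = g_j = 0. Only the classification direction is stated. -/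
theorem result (T : Models.NumericalType 2) (hmin : T.IsMinimal) (hg : T.genus = 1) :
    ∃ (i j : Fin 2) (m w : ℤ), i ≠ j ∧ T.g i = 0 ∧ T.g j = 0 ∧
      ((T.m i = m ∧ T.m j = m ∧ T.a i i = -2 * w ∧ T.a i j = 2 * w ∧ T.a j j = -2 * w ∧ T.w i = w ∧ T.w j = w) ∨
        (T.m i = 2 * m ∧ T.m j = m ∧ T.a i i = -2 * w ∧ T.a i j = 4 * w ∧ T.a j j = -8 * w ∧ T.w i = w ∧ T.w j = 4 * w)) := by
  have hall := H8Num.all_minusTwo T (le_refl 2) hmin hg
  -- generic statement for an ordered pair with w i ≤ w j
  have gen : ∀ i j : Fin 2, i ≠ j → T.w i ≤ T.w j →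
      ∃ (m w : ℤ), T.g i = 0 ∧ T.g j = 0 ∧
      ((T.m i = m ∧ T.m j = m ∧ T.a i i = -2 * w ∧ T.a i j = 2 * w ∧ T.a j j = -2 * w ∧ T.w i = w ∧ T.w j = w) ∨
        (T.m i = 2 * m ∧ T.m j = m ∧ T.a i i = -2 * w ∧ T.a i j = 4 * w ∧ T.a j j = -8 * w ∧ T.w i = w ∧ T.w j = 4 * w)) := by
    intro i j hij hle
    have hdi := (hall i).2
    have hdj := (hall j).2
    have hwi := T.w_pos i
    have hwj := T.w_pos j
    have hmi := T.m_pos i
    have hmj := T.m_pos j
    have huniv : (Finset.univ : Finset (Fin 2)) = {i, j} := by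
      ext x
      simp only [Finset.mem_univ, Finset.mem_insert, Finset.mem_singleton, true_iff]
      fin_cases i <;> fin_cases j <;> fin_cases x <;> simp_all
    have r1 := H8Num.row_sum T i
    have r2 := H8Num.row_sum T j
    rw [huniv, Finset.sum_pair hij] at r1 r2
    have hsym : T.a j i = T.a i j := H8Num.symm' T j i
    rw [hsym] at r2
    rw [hdi] at r1
    rw [hdj] at r2
    -- a > 0
    have hapos : 0 < T.a i j := by
      by_contra hc
      push Not at hc
      have : T.a i j * T.m j ≤ 0 := mul_nonpos_of_nonpos_of_nonneg hc hmj.le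
      have : 0 < 2 * T.w i * T.m i := by positivity
      linarith
    obtain ⟨s, hs⟩ : T.w j ∣ T.a i j := by rw [← hsym]; exact T.w_dvd j i
    have hs1 : 0 < s := by
      by_contra hc; push Not at hc
      have : T.w j * s ≤ 0 := mul_nonpos_of_nonneg_of_nonpos hwj.le hc
      linarith
    -- 4 w_i w_j = a^2
    have hprod : 4 * T.w i * T.w j = T.a i j * T.a i j := by
      have h1 : 2 * T.w i * T.m i = T.a i j * T.m j := by linarith
      have h2 : T.a i j * T.m i = 2 * T.w j * T.m j := by linarith
      have h3 : (4 * T.w i * T.w j) * (T.m i * T.m j) = (T.a i j * T.a i j) * (T.m i * T.m j) := by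
        calc (4 * T.w i * T.w j) * (T.m i * T.m j)
            = (2 * T.w i * T.m i) * (2 * T.w j * T.m j) := by ring
          _ = (T.a i j * T.m j) * (T.a i j * T.m i) := by rw [h1, h2]
          _ = (T.a i j * T.a i j) * (T.m i * T.m j) := by ring
      exact mul_right_cancel₀ (mul_pos hmi hmj).ne' h3
    have hs2 : s * s * T.w j = 4 * T.w i := by
      have : T.w j * (s * s * T.w j) = T.w j * (4 * T.w i) := by
        rw [hs] at hprod; linarith [hprod]
      exact mul_left_cancel₀ hwj.ne' this
    have hs3 : s ≤ 2 := by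
      by_contra hc; push Not at hc
      have h9 : 9 ≤ s * s := by nlinarith
      nlinarith
    have hs4 : s = 1 ∨ s = 2 := by omega
    rcases hs4 with rfl | rfl
    · -- w_j = 4 w_i
      have hwj4 : T.w j = 4 * T.w i := by linarith
      have ha : T.a i j = 4 * T.w i := by rw [hs, hwj4]; ring
      refine ⟨T.m j, T.w i, (hall i).1, (hall j).1, Or.inr ⟨?_, rfl, by rw [hdi], ha, by rw [hdj, hwj4]; ring, rfl, hwj4⟩⟩
      rw [ha] at r1
      have : T.w i * (T.m i - 2 * T.m j) = 0 := by linarith
      rcases mul_eq_zero.1 this with h | h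
      · exact absurd h hwi.ne'
      · linarith
    · have hwji : T.w j = T.w i := by linarith
      have ha : T.a i j = 2 * T.w i := by rw [hs, hwji]; ring
      refine ⟨T.m i, T.w i, (hall i).1, (hall j).1, Or.inl ⟨rfl, ?_, by rw [hdi], ha, by rw [hdj, hwji], rfl, hwji⟩⟩
      rw [ha] at r1
      have : T.w i * (T.m j - T.m i) = 0 := by linarith
      rcases mul_eq_zero.1 this with h | h
      · exact absurd h hwi.ne'
      · linarith
  rcases le_total (T.w 0) (T.w 1) with hle | hle
  · obtain ⟨m, w, h1, h2, h3⟩ := gen 0 1 (by decide) hle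
    exact ⟨0, 1, m, w, by decide, h1, h2, h3⟩
  · obtain ⟨m, w, h1, h2, h3⟩ := gen 1 0 (by decide) hle
    exact ⟨1, 0, m, w, by decide, h1, h2, h3⟩

end Groth.Agent.S7362
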