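import Groth.Statements.S7363
import Mathlib
import Groth.Agent.H8Num4

set_option autoImplicit false
set_option linter.unusedSimpArgs false
open Finset
open Models Models.NumericalType

namespace Groth.Agent.S7363

/-- Genus one classification: case n = 3: let T be a minimal numerical type of genus 1 on three indices.
Then all g = 0 and, for some ordering i, j, k of the indices and some integers m, w, the data (m; a;
w) is one of: (m,m,m; a_ii = a_jj = a_kk = -2w, a_ij = a_ik = a_jk = w; w,w,w); (m,2m,m; a_ii = -2w,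
a_ij = w, a_ik = 0, a_jj = -2w, a_jk = 3w, a_kk = -6w; w,w,3w); (m,2m,3m; a_ii = -6w, a_ij = 3w,
a_ik = 0, a_jj = -6w, a_jk = 3w, a_kk = -2w; 3w,3w,w); (2m,2m,m; a_ii = -2w, a_ij = 2w, a_ik = 0,
a_jj = -4w, a_jk = 4w, a_kk = -8w; w,2w,4w); (m,m,m; a_ii = -2w, a_ij = 2w, a_ik = 0, a_jj = -4w,
a_jk = 2w, a_kk = -2w; w,2w,w); (m,2m,m; a_ii = -4w, a_ij = 2w, a_ik = 0, a_jj = -2w, a_jk = 2w,
a_kk = -4w; 2w,w,2w). Only the classification direction is stated. -/
theorem result (T : Models.NumericalType 3) (hmin : T.IsMinimal) (hg : T.genus = 1) :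
    ∃ (i j k : Fin 3) (m w : ℤ), i ≠ j ∧ j ≠ k ∧ i ≠ k ∧ T.g i = 0 ∧ T.g j = 0 ∧ T.g k = 0 ∧
      ((T.m i = m ∧ T.m j = m ∧ T.m k = m ∧ T.a i i = -2 * w ∧ T.a j j = -2 * w ∧ T.a k k = -2 * w ∧
          T.a i j = w ∧ T.a i k = w ∧ T.a j k = w ∧ T.w i = w ∧ T.w j = w ∧ T.w k = w) ∨
        (T.m i = m ∧ T.m j = 2 * m ∧ T.m k = m ∧ T.a i i = -2 * w ∧ T.a i j = w ∧ T.a i k = 0 ∧ T.a j j = -2 * w ∧
          T.a j k = 3 * w ∧ T.a k k = -6 * w ∧ T.w i = w ∧ T.w j = w ∧ T.w k = 3 * w) ∨
        (T.m i = m ∧ T.m j = 2 * m ∧ T.m k = 3 * m ∧ T.a i i = -6 * w ∧ T.a i j = 3 * w ∧ T.a i k = 0 ∧ T.a j j = -6 * w ∧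
          T.a j k = 3 * w ∧ T.a k k = -2 * w ∧ T.w i = 3 * w ∧ T.w j = 3 * w ∧ T.w k = w) ∨
        (T.m i = 2 * m ∧ T.m j = 2 * m ∧ T.m k = m ∧ T.a i i = -2 * w ∧ T.a i j = 2 * w ∧ T.a i k = 0 ∧ T.a j j = -4 * w ∧
          T.a j k = 4 * w ∧ T.a k k = -8 * w ∧ T.w i = w ∧ T.w j = 2 * w ∧ T.w k = 4 * w) ∨
        (T.m i = m ∧ T.m j = m ∧ T.m k = m ∧ T.a i i = -2 * w ∧ T.a i j = 2 * w ∧ T.a i k = 0 ∧ T.a j j = -4 * w ∧
          T.a j k = 2 * w ∧ T.a k k = -2 * w ∧ T.w i = w ∧ T.w j = 2 * w ∧ T.w k = w) ∨
        (T.m i = m ∧ T.m j = 2 * m ∧ T.m k = m ∧ T.a i i = -4 * w ∧ T.a i j = 2 * w ∧ T.a i k = 0 ∧ T.a j j = -2 * w ∧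
          T.a j k = 2 * w ∧ T.a k k = -4 * w ∧ T.w i = 2 * w ∧ T.w j = w ∧ T.w k = 2 * w)) := by
  have hall := H8Num.all_minusTwo T (by norm_num) hmin hg
  have d_0 : T.a 0 0 = -2 * T.w 0 := (hall 0).2
  have g_0 : T.g 0 = 0 := (hall 0).1
  have w_0 : 0 < T.w 0 := T.w_pos 0
  have mp_0 : 0 < T.m 0 := T.m_pos 0
  have d_1 : T.a 1 1 = -2 * T.w 1 := (hall 1).2
  have g_1 : T.g 1 = 0 := (hall 1).1
  have w_1 : 0 < T.w 1 := T.w_pos 1
  have mp_1 : 0 < T.m 1 := T.m_pos 1
  have d_2 : T.a 2 2 = -2 * T.w 2 := (hall 2).2
  have g_2 : T.g 2 = 0 := (hall 2).1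
  have w_2 : 0 < T.w 2 := T.w_pos 2
  have mp_2 : 0 < T.m 2 := T.m_pos 2
  have s_0_1 : T.a 1 0 = T.a 0 1 := H8Num.symm' T 1 0
  have n_0_1 : 0 ≤ T.a 0 1 := T.offDiag_nonneg 0 1 (by decide)
  have s_0_2 : T.a 2 0 = T.a 0 2 := H8Num.symm' T 2 0
  have n_0_2 : 0 ≤ T.a 0 2 := T.offDiag_nonneg 0 2 (by decide)
  have s_1_2 : T.a 2 1 = T.a 1 2 := H8Num.symm' T 2 1
  have n_1_2 : 0 ≤ T.a 1 2 := T.offDiag_nonneg 1 2 (by decide)
  have Qn : ∀ c0 c1 c2 : ℤ, c0 * c0 * T.a 0 0 + c1 * c1 * T.a 1 1 + c2 * c2 * T.a 2 2 + 2 * (c0 * c1 * T.a 0 1 + c0 * c2 * T.a 0 2 + c1 * c2 * T.a 1 2) ≤ 0 := by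
    intro c0 c1 c2
    have h := H8Num.quad_nonpos_int T ![c0, c1, c2]
    simp only [Fin.sum_univ_three] at h
    simp only [Matrix.cons_val_zero, Matrix.cons_val_one, Matrix.cons_val] at h
    simp only [s_0_1, s_0_2, s_1_2] at h
    linarith only [h]
  have r_0 : T.a 0 0 * T.m 0 + T.a 0 1 * T.m 1 + T.a 0 2 * T.m 2 = 0 := by
    have h := H8Num.row_sum T 0; simp only [Fin.sum_univ_three] at h; exact h
  have r_1 : T.a 0 1 * T.m 0 + T.a 1 1 * T.m 1 + T.a 1 2 * T.m 2 = 0 := by
    have h := H8Num.row_sum T 1; simp only [Fin.sum_univ_three, s_0_1] at h; exact h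
  have r_2 : T.a 0 2 * T.m 0 + T.a 1 2 * T.m 1 + T.a 2 2 * T.m 2 = 0 := by
    have h := H8Num.row_sum T 2; simp only [Fin.sum_univ_three, s_0_2, s_1_2] at h; exact h
  rcases eq_or_ne (T.a 0 1) 0 with z01 | h01
  · rcases eq_or_ne (T.a 0 2) 0 with z02 | h02
    · exfalso
      rw [z01, z02, d_0] at r_0
      have := mul_pos w_0 mp_0
      linarith only [r_0, this]
    · rcases eq_or_ne (T.a 1 2) 0 with z12 | h12
      · exfalso
        rw [z01, z12, d_1] at r_1
        have := mul_pos w_1 mp_1
        linarith only [r_1, this]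
      · skip
        have P1 := H8Num.pair5 T (by norm_num) 0 2 (by decide) (hall 0) (hall 2) h02
        have P2 := H8Num.pair5 T (by norm_num) 1 2 (by decide) (hall 1) (hall 2) h12
        rcases P1 with ⟨e1, a1⟩ | ⟨e1, a1⟩ | ⟨e1, a1⟩ | ⟨e1, a1⟩ | ⟨e1, a1⟩ <;>
        rcases P2 with ⟨e2, a2⟩ | ⟨e2, a2⟩ | ⟨e2, a2⟩ | ⟨e2, a2⟩ | ⟨e2, a2⟩
        · skip
          have hWn_1 : T.w 1 = T.w 0 := by linarith only [e1, e2]
          have hWn_2 : T.w 2 = T.w 0 := by linarith only [e1, e2]
          have hA1 : T.a 0 2 = T.w 0 := by linarith only [e1, e2, a1]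
          have hA2 : T.a 1 2 = T.w 0 := by linarith only [e1, e2, a2]
          have r0 := r_0
          have r1 := r_1
          have r2 := r_2
          simp only [hA1, hA2, z01, d_0, d_1, d_2, hWn_1, hWn_2] at r0 r1 r2
          exfalso
          have pm0 := mul_pos w_0 mp_0
          have pm1 := mul_pos w_0 mp_1
          have pm2 := mul_pos w_0 mp_2
          linarith only [r0, r1, r2, pm0, pm1, pm2]
        · skip
          have hWn_0 : T.w 0 = 2 * T.w 1 := by linarith only [e1, e2]
          have hWn_2 : T.w 2 = 2 * T.w 1 := by linarith only [e1, e2]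
          have hA1 : T.a 0 2 = 2 * T.w 1 := by linarith only [e1, e2, a1]
          have hA2 : T.a 1 2 = 2 * T.w 1 := by linarith only [e1, e2, a2]
          have r0 := r_0
          have r1 := r_1
          have r2 := r_2
          simp only [hA1, hA2, z01, d_0, d_1, d_2, hWn_0, hWn_2] at r0 r1 r2
          exfalso
          have pm0 := mul_pos w_1 mp_0
          have pm1 := mul_pos w_1 mp_1
          have pm2 := mul_pos w_1 mp_2
          linarith only [r0, r1, r2, pm0, pm1, pm2]
        · skip
          have hWn_0 : T.w 0 = 3 * T.w 1 := by linarith only [e1, e2]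
          have hWn_2 : T.w 2 = 3 * T.w 1 := by linarith only [e1, e2]
          have hA1 : T.a 0 2 = 3 * T.w 1 := by linarith only [e1, e2, a1]
          have hA2 : T.a 1 2 = 3 * T.w 1 := by linarith only [e1, e2, a2]
          have r0 := r_0
          have r1 := r_1
          have r2 := r_2
          simp only [hA1, hA2, z01, d_0, d_1, d_2, hWn_0, hWn_2] at r0 r1 r2
          have hMn_1 : T.m 1 = 3 * T.m 0 := by
            have h : T.w 1 * (T.m 1 - 3 * T.m 0) = 0 := by linarith only [r0, r1, r2]
            rcases mul_eq_zero.1 h with h | h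
            · exact absurd h w_1.ne'
            · linarith only [h]
          have hMn_2 : T.m 2 = 2 * T.m 0 := by
            have h : T.w 1 * (T.m 2 - 2 * T.m 0) = 0 := by linarith only [r0, r1, r2]
            rcases mul_eq_zero.1 h with h | h
            · exact absurd h w_1.ne'
            · linarith only [h]
          refine ⟨0, 2, 1, T.m 0, T.w 1, by decide, by decide, by decide, g_0, g_2, g_1, Or.inr (Or.inr (Or.inl ⟨?_, ?_, ?_, ?_, ?_, ?_, ?_, ?_, ?_, ?_, ?_, ?_⟩))⟩
          all_goals linarith only [hWn_0, hWn_2, hA1, hA2, z01, d_0, d_1, d_2, hMn_1, hMn_2, s_0_1, s_0_2, s_1_2]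
        · skip
          have hWn_1 : T.w 1 = 2 * T.w 0 := by linarith only [e1, e2]
          have hWn_2 : T.w 2 = T.w 0 := by linarith only [e1, e2]
          have hA1 : T.a 0 2 = T.w 0 := by linarith only [e1, e2, a1]
          have hA2 : T.a 1 2 = 2 * T.w 0 := by linarith only [e1, e2, a2]
          have r0 := r_0
          have r1 := r_1
          have r2 := r_2
          simp only [hA1, hA2, z01, d_0, d_1, d_2, hWn_1, hWn_2] at r0 r1 r2
          exfalso
          have pm0 := mul_pos w_0 mp_0
          have pm1 := mul_pos w_0 mp_1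
          have pm2 := mul_pos w_0 mp_2
          linarith only [r0, r1, r2, pm0, pm1, pm2]
        · skip
          have hWn_1 : T.w 1 = 3 * T.w 0 := by linarith only [e1, e2]
          have hWn_2 : T.w 2 = T.w 0 := by linarith only [e1, e2]
          have hA1 : T.a 0 2 = T.w 0 := by linarith only [e1, e2, a1]
          have hA2 : T.a 1 2 = 3 * T.w 0 := by linarith only [e1, e2, a2]
          have r0 := r_0
          have r1 := r_1
          have r2 := r_2
          simp only [hA1, hA2, z01, d_0, d_1, d_2, hWn_1, hWn_2] at r0 r1 r2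
          have hMn_1 : T.m 1 = T.m 0 := by
            have h : T.w 0 * (T.m 1 - T.m 0) = 0 := by linarith only [r0, r1, r2]
            rcases mul_eq_zero.1 h with h | h
            · exact absurd h w_0.ne'
            · linarith only [h]
          have hMn_2 : T.m 2 = 2 * T.m 0 := by
            have h : T.w 0 * (T.m 2 - 2 * T.m 0) = 0 := by linarith only [r0, r1, r2]
            rcases mul_eq_zero.1 h with h | h
            · exact absurd h w_0.ne'
            · linarith only [h]
          refine ⟨0, 2, 1, T.m 0, T.w 0, by decide, by decide, by decide, g_0, g_2, g_1, Or.inr (Or.inl ⟨?_, ?_, ?_, ?_, ?_, ?_, ?_, ?_, ?_, ?_, ?_, ?_⟩)⟩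
          all_goals linarith only [hWn_1, hWn_2, hA1, hA2, z01, d_0, d_1, d_2, hMn_1, hMn_2, s_0_1, s_0_2, s_1_2]
        · skip
          have hWn_1 : T.w 1 = 2 * T.w 0 := by linarith only [e1, e2]
          have hWn_2 : T.w 2 = 2 * T.w 0 := by linarith only [e1, e2]
          have hA1 : T.a 0 2 = 2 * T.w 0 := by linarith only [e1, e2, a1]
          have hA2 : T.a 1 2 = 2 * T.w 0 := by linarith only [e1, e2, a2]
          have r0 := r_0
          have r1 := r_1
          have r2 := r_2
          simp only [hA1, hA2, z01, d_0, d_1, d_2, hWn_1, hWn_2] at r0 r1 r2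
          exfalso
          have pm0 := mul_pos w_0 mp_0
          have pm1 := mul_pos w_0 mp_1
          have pm2 := mul_pos w_0 mp_2
          linarith only [r0, r1, r2, pm0, pm1, pm2]
        · skip
          have hWn_1 : T.w 1 = T.w 0 := by linarith only [e1, e2]
          have hWn_2 : T.w 2 = 2 * T.w 0 := by linarith only [e1, e2]
          have hA1 : T.a 0 2 = 2 * T.w 0 := by linarith only [e1, e2, a1]
          have hA2 : T.a 1 2 = 2 * T.w 0 := by linarith only [e1, e2, a2]
          have r0 := r_0
          have r1 := r_1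
          have r2 := r_2
          simp only [hA1, hA2, z01, d_0, d_1, d_2, hWn_1, hWn_2] at r0 r1 r2
          have hMn_1 : T.m 1 = T.m 0 := by
            have h : T.w 0 * (T.m 1 - T.m 0) = 0 := by linarith only [r0, r1, r2]
            rcases mul_eq_zero.1 h with h | h
            · exact absurd h w_0.ne'
            · linarith only [h]
          have hMn_2 : T.m 2 = T.m 0 := by
            have h : T.w 0 * (T.m 2 - T.m 0) = 0 := by linarith only [r0, r1, r2]
            rcases mul_eq_zero.1 h with h | h
            · exact absurd h w_0.ne'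
            · linarith only [h]
          refine ⟨0, 2, 1, T.m 0, T.w 0, by decide, by decide, by decide, g_0, g_2, g_1, Or.inr (Or.inr (Or.inr (Or.inr (Or.inl ⟨?_, ?_, ?_, ?_, ?_, ?_, ?_, ?_, ?_, ?_, ?_, ?_⟩))))⟩
          all_goals linarith only [hWn_1, hWn_2, hA1, hA2, z01, d_0, d_1, d_2, hMn_1, hMn_2, s_0_1, s_0_2, s_1_2]
        · exfalso
          have tv := Qn 1 1 1
          norm_num at tv
          linarith only [tv, e1, a1, e2, a2, z01, d_0, d_1, d_2, w_0, w_1, w_2]
        · skip
          have hWn_1 : T.w 1 = 4 * T.w 0 := by linarith only [e1, e2]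
          have hWn_2 : T.w 2 = 2 * T.w 0 := by linarith only [e1, e2]
          have hA1 : T.a 0 2 = 2 * T.w 0 := by linarith only [e1, e2, a1]
          have hA2 : T.a 1 2 = 4 * T.w 0 := by linarith only [e1, e2, a2]
          have r0 := r_0
          have r1 := r_1
          have r2 := r_2
          simp only [hA1, hA2, z01, d_0, d_1, d_2, hWn_1, hWn_2] at r0 r1 r2
          have hMn_0 : T.m 0 = 2 * T.m 1 := by
            have h : T.w 0 * (T.m 0 - 2 * T.m 1) = 0 := by linarith only [r0, r1, r2]
            rcases mul_eq_zero.1 h with h | h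
            · exact absurd h w_0.ne'
            · linarith only [h]
          have hMn_2 : T.m 2 = 2 * T.m 1 := by
            have h : T.w 0 * (T.m 2 - 2 * T.m 1) = 0 := by linarith only [r0, r1, r2]
            rcases mul_eq_zero.1 h with h | h
            · exact absurd h w_0.ne'
            · linarith only [h]
          refine ⟨0, 2, 1, T.m 1, T.w 0, by decide, by decide, by decide, g_0, g_2, g_1, Or.inr (Or.inr (Or.inr (Or.inl ⟨?_, ?_, ?_, ?_, ?_, ?_, ?_, ?_, ?_, ?_, ?_, ?_⟩)))⟩
          all_goals linarith only [hWn_1, hWn_2, hA1, hA2, z01, d_0, d_1, d_2, hMn_0, hMn_2, s_0_1, s_0_2, s_1_2]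
        · exfalso
          have tv := Qn 1 1 2
          norm_num at tv
          linarith only [tv, e1, a1, e2, a2, z01, d_0, d_1, d_2, w_0, w_1, w_2]
        · skip
          have hWn_1 : T.w 1 = 3 * T.w 0 := by linarith only [e1, e2]
          have hWn_2 : T.w 2 = 3 * T.w 0 := by linarith only [e1, e2]
          have hA1 : T.a 0 2 = 3 * T.w 0 := by linarith only [e1, e2, a1]
          have hA2 : T.a 1 2 = 3 * T.w 0 := by linarith only [e1, e2, a2]
          have r0 := r_0
          have r1 := r_1
          have r2 := r_2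
          simp only [hA1, hA2, z01, d_0, d_1, d_2, hWn_1, hWn_2] at r0 r1 r2
          have hMn_0 : T.m 0 = 3 * T.m 1 := by
            have h : T.w 0 * (T.m 0 - 3 * T.m 1) = 0 := by linarith only [r0, r1, r2]
            rcases mul_eq_zero.1 h with h | h
            · exact absurd h w_0.ne'
            · linarith only [h]
          have hMn_2 : T.m 2 = 2 * T.m 1 := by
            have h : T.w 0 * (T.m 2 - 2 * T.m 1) = 0 := by linarith only [r0, r1, r2]
            rcases mul_eq_zero.1 h with h | h
            · exact absurd h w_0.ne'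
            · linarith only [h]
          refine ⟨1, 2, 0, T.m 1, T.w 0, by decide, by decide, by decide, g_1, g_2, g_0, Or.inr (Or.inr (Or.inl ⟨?_, ?_, ?_, ?_, ?_, ?_, ?_, ?_, ?_, ?_, ?_, ?_⟩))⟩
          all_goals linarith only [hWn_1, hWn_2, hA1, hA2, z01, d_0, d_1, d_2, hMn_0, hMn_2, s_0_1, s_0_2, s_1_2]
        · exfalso
          have tv := Qn 1 1 1
          norm_num at tv
          linarith only [tv, e1, a1, e2, a2, z01, d_0, d_1, d_2, w_0, w_1, w_2]
        · exfalso
          have tv := Qn 1 1 1
          norm_num at tv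
          linarith only [tv, e1, a1, e2, a2, z01, d_0, d_1, d_2, w_0, w_1, w_2]
        · exfalso
          have tv := Qn 2 1 2
          norm_num at tv
          linarith only [tv, e1, a1, e2, a2, z01, d_0, d_1, d_2, w_0, w_1, w_2]
        · exfalso
          have tv := Qn 1 1 2
          norm_num at tv
          linarith only [tv, e1, a1, e2, a2, z01, d_0, d_1, d_2, w_0, w_1, w_2]
        · skip
          have hWn_0 : T.w 0 = 2 * T.w 1 := by linarith only [e1, e2]
          have hWn_2 : T.w 2 = T.w 1 := by linarith only [e1, e2]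
          have hA1 : T.a 0 2 = 2 * T.w 1 := by linarith only [e1, e2, a1]
          have hA2 : T.a 1 2 = T.w 1 := by linarith only [e1, e2, a2]
          have r0 := r_0
          have r1 := r_1
          have r2 := r_2
          simp only [hA1, hA2, z01, d_0, d_1, d_2, hWn_0, hWn_2] at r0 r1 r2
          exfalso
          have pm0 := mul_pos w_1 mp_0
          have pm1 := mul_pos w_1 mp_1
          have pm2 := mul_pos w_1 mp_2
          linarith only [r0, r1, r2, pm0, pm1, pm2]
        · skip
          have hWn_0 : T.w 0 = 4 * T.w 1 := by linarith only [e1, e2]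
          have hWn_2 : T.w 2 = 2 * T.w 1 := by linarith only [e1, e2]
          have hA1 : T.a 0 2 = 4 * T.w 1 := by linarith only [e1, e2, a1]
          have hA2 : T.a 1 2 = 2 * T.w 1 := by linarith only [e1, e2, a2]
          have r0 := r_0
          have r1 := r_1
          have r2 := r_2
          simp only [hA1, hA2, z01, d_0, d_1, d_2, hWn_0, hWn_2] at r0 r1 r2
          have hMn_1 : T.m 1 = 2 * T.m 0 := by
            have h : T.w 1 * (T.m 1 - 2 * T.m 0) = 0 := by linarith only [r0, r1, r2]
            rcases mul_eq_zero.1 h with h | h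
            · exact absurd h w_1.ne'
            · linarith only [h]
          have hMn_2 : T.m 2 = 2 * T.m 0 := by
            have h : T.w 1 * (T.m 2 - 2 * T.m 0) = 0 := by linarith only [r0, r1, r2]
            rcases mul_eq_zero.1 h with h | h
            · exact absurd h w_1.ne'
            · linarith only [h]
          refine ⟨1, 2, 0, T.m 0, T.w 1, by decide, by decide, by decide, g_1, g_2, g_0, Or.inr (Or.inr (Or.inr (Or.inl ⟨?_, ?_, ?_, ?_, ?_, ?_, ?_, ?_, ?_, ?_, ?_, ?_⟩)))⟩
          all_goals linarith only [hWn_0, hWn_2, hA1, hA2, z01, d_0, d_1, d_2, hMn_1, hMn_2, s_0_1, s_0_2, s_1_2]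
        · exfalso
          have tv := Qn 1 2 2
          norm_num at tv
          linarith only [tv, e1, a1, e2, a2, z01, d_0, d_1, d_2, w_0, w_1, w_2]
        · skip
          have hWn_0 : T.w 0 = 2 * T.w 2 := by linarith only [e1, e2]
          have hWn_1 : T.w 1 = 2 * T.w 2 := by linarith only [e1, e2]
          have hA1 : T.a 0 2 = 2 * T.w 2 := by linarith only [e1, e2, a1]
          have hA2 : T.a 1 2 = 2 * T.w 2 := by linarith only [e1, e2, a2]
          have r0 := r_0
          have r1 := r_1
          have r2 := r_2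
          simp only [hA1, hA2, z01, d_0, d_1, d_2, hWn_0, hWn_1] at r0 r1 r2
          have hMn_1 : T.m 1 = T.m 0 := by
            have h : T.w 2 * (T.m 1 - T.m 0) = 0 := by linarith only [r0, r1, r2]
            rcases mul_eq_zero.1 h with h | h
            · exact absurd h w_2.ne'
            · linarith only [h]
          have hMn_2 : T.m 2 = 2 * T.m 0 := by
            have h : T.w 2 * (T.m 2 - 2 * T.m 0) = 0 := by linarith only [r0, r1, r2]
            rcases mul_eq_zero.1 h with h | h
            · exact absurd h w_2.ne'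
            · linarith only [h]
          refine ⟨0, 2, 1, T.m 0, T.w 2, by decide, by decide, by decide, g_0, g_2, g_1, Or.inr (Or.inr (Or.inr (Or.inr (Or.inr (⟨?_, ?_, ?_, ?_, ?_, ?_, ?_, ?_, ?_, ?_, ?_, ?_⟩)))))⟩
          all_goals linarith only [hWn_0, hWn_1, hA1, hA2, z01, d_0, d_1, d_2, hMn_1, hMn_2, s_0_1, s_0_2, s_1_2]
        · exfalso
          have tv := Qn 1 1 2
          norm_num at tv
          linarith only [tv, e1, a1, e2, a2, z01, d_0, d_1, d_2, w_0, w_1, w_2]
        · skip
          have hWn_0 : T.w 0 = 3 * T.w 1 := by linarith only [e1, e2]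
          have hWn_2 : T.w 2 = T.w 1 := by linarith only [e1, e2]
          have hA1 : T.a 0 2 = 3 * T.w 1 := by linarith only [e1, e2, a1]
          have hA2 : T.a 1 2 = T.w 1 := by linarith only [e1, e2, a2]
          have r0 := r_0
          have r1 := r_1
          have r2 := r_2
          simp only [hA1, hA2, z01, d_0, d_1, d_2, hWn_0, hWn_2] at r0 r1 r2
          have hMn_1 : T.m 1 = T.m 0 := by
            have h : T.w 1 * (T.m 1 - T.m 0) = 0 := by linarith only [r0, r1, r2]
            rcases mul_eq_zero.1 h with h | h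
            · exact absurd h w_1.ne'
            · linarith only [h]
          have hMn_2 : T.m 2 = 2 * T.m 0 := by
            have h : T.w 1 * (T.m 2 - 2 * T.m 0) = 0 := by linarith only [r0, r1, r2]
            rcases mul_eq_zero.1 h with h | h
            · exact absurd h w_1.ne'
            · linarith only [h]
          refine ⟨1, 2, 0, T.m 0, T.w 1, by decide, by decide, by decide, g_1, g_2, g_0, Or.inr (Or.inl ⟨?_, ?_, ?_, ?_, ?_, ?_, ?_, ?_, ?_, ?_, ?_, ?_⟩)⟩
          all_goals linarith only [hWn_0, hWn_2, hA1, hA2, z01, d_0, d_1, d_2, hMn_1, hMn_2, s_0_1, s_0_2, s_1_2]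
        · exfalso
          have tv := Qn 1 1 2
          norm_num at tv
          linarith only [tv, e1, a1, e2, a2, z01, d_0, d_1, d_2, w_0, w_1, w_2]
        · exfalso
          have tv := Qn 1 1 2
          norm_num at tv
          linarith only [tv, e1, a1, e2, a2, z01, d_0, d_1, d_2, w_0, w_1, w_2]
        · exfalso
          have tv := Qn 1 1 2
          norm_num at tv
          linarith only [tv, e1, a1, e2, a2, z01, d_0, d_1, d_2, w_0, w_1, w_2]
        · exfalso
          have tv := Qn 1 1 2
          norm_num at tv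
          linarith only [tv, e1, a1, e2, a2, z01, d_0, d_1, d_2, w_0, w_1, w_2]
  · rcases eq_or_ne (T.a 0 2) 0 with z02 | h02
    · rcases eq_or_ne (T.a 1 2) 0 with z12 | h12
      · exfalso
        rw [z02, z12, d_2] at r_2
        have := mul_pos w_2 mp_2
        linarith only [r_2, this]
      · skip
        have P1 := H8Num.pair5 T (by norm_num) 0 1 (by decide) (hall 0) (hall 1) h01
        have P2 := H8Num.pair5 T (by norm_num) 1 2 (by decide) (hall 1) (hall 2) h12
        rcases P1 with ⟨e1, a1⟩ | ⟨e1, a1⟩ | ⟨e1, a1⟩ | ⟨e1, a1⟩ | ⟨e1, a1⟩ <;>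
        rcases P2 with ⟨e2, a2⟩ | ⟨e2, a2⟩ | ⟨e2, a2⟩ | ⟨e2, a2⟩ | ⟨e2, a2⟩
        · skip
          have hWn_1 : T.w 1 = T.w 0 := by linarith only [e1, e2]
          have hWn_2 : T.w 2 = T.w 0 := by linarith only [e1, e2]
          have hA1 : T.a 0 1 = T.w 0 := by linarith only [e1, e2, a1]
          have hA2 : T.a 1 2 = T.w 0 := by linarith only [e1, e2, a2]
          have r0 := r_0
          have r1 := r_1
          have r2 := r_2
          simp only [hA1, hA2, z02, d_0, d_1, d_2, hWn_1, hWn_2] at r0 r1 r2
          exfalso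
          have pm0 := mul_pos w_0 mp_0
          have pm1 := mul_pos w_0 mp_1
          have pm2 := mul_pos w_0 mp_2
          linarith only [r0, r1, r2, pm0, pm1, pm2]
        · skip
          have hWn_1 : T.w 1 = T.w 0 := by linarith only [e1, e2]
          have hWn_2 : T.w 2 = 2 * T.w 0 := by linarith only [e1, e2]
          have hA1 : T.a 0 1 = T.w 0 := by linarith only [e1, e2, a1]
          have hA2 : T.a 1 2 = 2 * T.w 0 := by linarith only [e1, e2, a2]
          have r0 := r_0
          have r1 := r_1
          have r2 := r_2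
          simp only [hA1, hA2, z02, d_0, d_1, d_2, hWn_1, hWn_2] at r0 r1 r2
          exfalso
          have pm0 := mul_pos w_0 mp_0
          have pm1 := mul_pos w_0 mp_1
          have pm2 := mul_pos w_0 mp_2
          linarith only [r0, r1, r2, pm0, pm1, pm2]
        · skip
          have hWn_1 : T.w 1 = T.w 0 := by linarith only [e1, e2]
          have hWn_2 : T.w 2 = 3 * T.w 0 := by linarith only [e1, e2]
          have hA1 : T.a 0 1 = T.w 0 := by linarith only [e1, e2, a1]
          have hA2 : T.a 1 2 = 3 * T.w 0 := by linarith only [e1, e2, a2]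
          have r0 := r_0
          have r1 := r_1
          have r2 := r_2
          simp only [hA1, hA2, z02, d_0, d_1, d_2, hWn_1, hWn_2] at r0 r1 r2
          have hMn_1 : T.m 1 = 2 * T.m 0 := by
            have h : T.w 0 * (T.m 1 - 2 * T.m 0) = 0 := by linarith only [r0, r1, r2]
            rcases mul_eq_zero.1 h with h | h
            · exact absurd h w_0.ne'
            · linarith only [h]
          have hMn_2 : T.m 2 = T.m 0 := by
            have h : T.w 0 * (T.m 2 - T.m 0) = 0 := by linarith only [r0, r1, r2]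
            rcases mul_eq_zero.1 h with h | h
            · exact absurd h w_0.ne'
            · linarith only [h]
          refine ⟨0, 1, 2, T.m 0, T.w 0, by decide, by decide, by decide, g_0, g_1, g_2, Or.inr (Or.inl ⟨?_, ?_, ?_, ?_, ?_, ?_, ?_, ?_, ?_, ?_, ?_, ?_⟩)⟩
          all_goals linarith only [hWn_1, hWn_2, hA1, hA2, z02, d_0, d_1, d_2, hMn_1, hMn_2, s_0_1, s_0_2, s_1_2]
        · skip
          have hWn_0 : T.w 0 = 2 * T.w 2 := by linarith only [e1, e2]
          have hWn_1 : T.w 1 = 2 * T.w 2 := by linarith only [e1, e2]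
          have hA1 : T.a 0 1 = 2 * T.w 2 := by linarith only [e1, e2, a1]
          have hA2 : T.a 1 2 = 2 * T.w 2 := by linarith only [e1, e2, a2]
          have r0 := r_0
          have r1 := r_1
          have r2 := r_2
          simp only [hA1, hA2, z02, d_0, d_1, d_2, hWn_0, hWn_1] at r0 r1 r2
          exfalso
          have pm0 := mul_pos w_2 mp_0
          have pm1 := mul_pos w_2 mp_1
          have pm2 := mul_pos w_2 mp_2
          linarith only [r0, r1, r2, pm0, pm1, pm2]
        · skip
          have hWn_0 : T.w 0 = 3 * T.w 2 := by linarith only [e1, e2]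
          have hWn_1 : T.w 1 = 3 * T.w 2 := by linarith only [e1, e2]
          have hA1 : T.a 0 1 = 3 * T.w 2 := by linarith only [e1, e2, a1]
          have hA2 : T.a 1 2 = 3 * T.w 2 := by linarith only [e1, e2, a2]
          have r0 := r_0
          have r1 := r_1
          have r2 := r_2
          simp only [hA1, hA2, z02, d_0, d_1, d_2, hWn_0, hWn_1] at r0 r1 r2
          have hMn_1 : T.m 1 = 2 * T.m 0 := by
            have h : T.w 2 * (T.m 1 - 2 * T.m 0) = 0 := by linarith only [r0, r1, r2]
            rcases mul_eq_zero.1 h with h | h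
            · exact absurd h w_2.ne'
            · linarith only [h]
          have hMn_2 : T.m 2 = 3 * T.m 0 := by
            have h : T.w 2 * (T.m 2 - 3 * T.m 0) = 0 := by linarith only [r0, r1, r2]
            rcases mul_eq_zero.1 h with h | h
            · exact absurd h w_2.ne'
            · linarith only [h]
          refine ⟨0, 1, 2, T.m 0, T.w 2, by decide, by decide, by decide, g_0, g_1, g_2, Or.inr (Or.inr (Or.inl ⟨?_, ?_, ?_, ?_, ?_, ?_, ?_, ?_, ?_, ?_, ?_, ?_⟩))⟩
          all_goals linarith only [hWn_0, hWn_1, hA1, hA2, z02, d_0, d_1, d_2, hMn_1, hMn_2, s_0_1, s_0_2, s_1_2]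
        · skip
          have hWn_1 : T.w 1 = 2 * T.w 0 := by linarith only [e1, e2]
          have hWn_2 : T.w 2 = 2 * T.w 0 := by linarith only [e1, e2]
          have hA1 : T.a 0 1 = 2 * T.w 0 := by linarith only [e1, e2, a1]
          have hA2 : T.a 1 2 = 2 * T.w 0 := by linarith only [e1, e2, a2]
          have r0 := r_0
          have r1 := r_1
          have r2 := r_2
          simp only [hA1, hA2, z02, d_0, d_1, d_2, hWn_1, hWn_2] at r0 r1 r2
          exfalso
          have pm0 := mul_pos w_0 mp_0
          have pm1 := mul_pos w_0 mp_1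
          have pm2 := mul_pos w_0 mp_2
          linarith only [r0, r1, r2, pm0, pm1, pm2]
        · skip
          have hWn_1 : T.w 1 = 2 * T.w 0 := by linarith only [e1, e2]
          have hWn_2 : T.w 2 = 4 * T.w 0 := by linarith only [e1, e2]
          have hA1 : T.a 0 1 = 2 * T.w 0 := by linarith only [e1, e2, a1]
          have hA2 : T.a 1 2 = 4 * T.w 0 := by linarith only [e1, e2, a2]
          have r0 := r_0
          have r1 := r_1
          have r2 := r_2
          simp only [hA1, hA2, z02, d_0, d_1, d_2, hWn_1, hWn_2] at r0 r1 r2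
          have hMn_0 : T.m 0 = 2 * T.m 2 := by
            have h : T.w 0 * (T.m 0 - 2 * T.m 2) = 0 := by linarith only [r0, r1, r2]
            rcases mul_eq_zero.1 h with h | h
            · exact absurd h w_0.ne'
            · linarith only [h]
          have hMn_1 : T.m 1 = 2 * T.m 2 := by
            have h : T.w 0 * (T.m 1 - 2 * T.m 2) = 0 := by linarith only [r0, r1, r2]
            rcases mul_eq_zero.1 h with h | h
            · exact absurd h w_0.ne'
            · linarith only [h]
          refine ⟨0, 1, 2, T.m 2, T.w 0, by decide, by decide, by decide, g_0, g_1, g_2, Or.inr (Or.inr (Or.inr (Or.inl ⟨?_, ?_, ?_, ?_, ?_, ?_, ?_, ?_, ?_, ?_, ?_, ?_⟩)))⟩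
          all_goals linarith only [hWn_1, hWn_2, hA1, hA2, z02, d_0, d_1, d_2, hMn_0, hMn_1, s_0_1, s_0_2, s_1_2]
        · exfalso
          have tv := Qn 1 2 1
          norm_num at tv
          linarith only [tv, e1, a1, e2, a2, z02, d_0, d_1, d_2, w_0, w_1, w_2]
        · skip
          have hWn_1 : T.w 1 = 2 * T.w 0 := by linarith only [e1, e2]
          have hWn_2 : T.w 2 = T.w 0 := by linarith only [e1, e2]
          have hA1 : T.a 0 1 = 2 * T.w 0 := by linarith only [e1, e2, a1]
          have hA2 : T.a 1 2 = 2 * T.w 0 := by linarith only [e1, e2, a2]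
          have r0 := r_0
          have r1 := r_1
          have r2 := r_2
          simp only [hA1, hA2, z02, d_0, d_1, d_2, hWn_1, hWn_2] at r0 r1 r2
          have hMn_1 : T.m 1 = T.m 0 := by
            have h : T.w 0 * (T.m 1 - T.m 0) = 0 := by linarith only [r0, r1, r2]
            rcases mul_eq_zero.1 h with h | h
            · exact absurd h w_0.ne'
            · linarith only [h]
          have hMn_2 : T.m 2 = T.m 0 := by
            have h : T.w 0 * (T.m 2 - T.m 0) = 0 := by linarith only [r0, r1, r2]
            rcases mul_eq_zero.1 h with h | h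
            · exact absurd h w_0.ne'
            · linarith only [h]
          refine ⟨0, 1, 2, T.m 0, T.w 0, by decide, by decide, by decide, g_0, g_1, g_2, Or.inr (Or.inr (Or.inr (Or.inr (Or.inl ⟨?_, ?_, ?_, ?_, ?_, ?_, ?_, ?_, ?_, ?_, ?_, ?_⟩))))⟩
          all_goals linarith only [hWn_1, hWn_2, hA1, hA2, z02, d_0, d_1, d_2, hMn_1, hMn_2, s_0_1, s_0_2, s_1_2]
        · exfalso
          have tv := Qn 1 1 1
          norm_num at tv
          linarith only [tv, e1, a1, e2, a2, z02, d_0, d_1, d_2, w_0, w_1, w_2]
        · skip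
          have hWn_1 : T.w 1 = 3 * T.w 0 := by linarith only [e1, e2]
          have hWn_2 : T.w 2 = 3 * T.w 0 := by linarith only [e1, e2]
          have hA1 : T.a 0 1 = 3 * T.w 0 := by linarith only [e1, e2, a1]
          have hA2 : T.a 1 2 = 3 * T.w 0 := by linarith only [e1, e2, a2]
          have r0 := r_0
          have r1 := r_1
          have r2 := r_2
          simp only [hA1, hA2, z02, d_0, d_1, d_2, hWn_1, hWn_2] at r0 r1 r2
          have hMn_0 : T.m 0 = 3 * T.m 2 := by
            have h : T.w 0 * (T.m 0 - 3 * T.m 2) = 0 := by linarith only [r0, r1, r2]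
            rcases mul_eq_zero.1 h with h | h
            · exact absurd h w_0.ne'
            · linarith only [h]
          have hMn_1 : T.m 1 = 2 * T.m 2 := by
            have h : T.w 0 * (T.m 1 - 2 * T.m 2) = 0 := by linarith only [r0, r1, r2]
            rcases mul_eq_zero.1 h with h | h
            · exact absurd h w_0.ne'
            · linarith only [h]
          refine ⟨2, 1, 0, T.m 2, T.w 0, by decide, by decide, by decide, g_2, g_1, g_0, Or.inr (Or.inr (Or.inl ⟨?_, ?_, ?_, ?_, ?_, ?_, ?_, ?_, ?_, ?_, ?_, ?_⟩))⟩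
          all_goals linarith only [hWn_1, hWn_2, hA1, hA2, z02, d_0, d_1, d_2, hMn_0, hMn_1, s_0_1, s_0_2, s_1_2]
        · exfalso
          have tv := Qn 2 2 1
          norm_num at tv
          linarith only [tv, e1, a1, e2, a2, z02, d_0, d_1, d_2, w_0, w_1, w_2]
        · exfalso
          have tv := Qn 1 2 1
          norm_num at tv
          linarith only [tv, e1, a1, e2, a2, z02, d_0, d_1, d_2, w_0, w_1, w_2]
        · exfalso
          have tv := Qn 1 1 1
          norm_num at tv
          linarith only [tv, e1, a1, e2, a2, z02, d_0, d_1, d_2, w_0, w_1, w_2]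
        · exfalso
          have tv := Qn 1 1 1
          norm_num at tv
          linarith only [tv, e1, a1, e2, a2, z02, d_0, d_1, d_2, w_0, w_1, w_2]
        · skip
          have hWn_0 : T.w 0 = 2 * T.w 1 := by linarith only [e1, e2]
          have hWn_2 : T.w 2 = T.w 1 := by linarith only [e1, e2]
          have hA1 : T.a 0 1 = 2 * T.w 1 := by linarith only [e1, e2, a1]
          have hA2 : T.a 1 2 = T.w 1 := by linarith only [e1, e2, a2]
          have r0 := r_0
          have r1 := r_1
          have r2 := r_2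
          simp only [hA1, hA2, z02, d_0, d_1, d_2, hWn_0, hWn_2] at r0 r1 r2
          exfalso
          have pm0 := mul_pos w_1 mp_0
          have pm1 := mul_pos w_1 mp_1
          have pm2 := mul_pos w_1 mp_2
          linarith only [r0, r1, r2, pm0, pm1, pm2]
        · skip
          have hWn_0 : T.w 0 = 2 * T.w 1 := by linarith only [e1, e2]
          have hWn_2 : T.w 2 = 2 * T.w 1 := by linarith only [e1, e2]
          have hA1 : T.a 0 1 = 2 * T.w 1 := by linarith only [e1, e2, a1]
          have hA2 : T.a 1 2 = 2 * T.w 1 := by linarith only [e1, e2, a2]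
          have r0 := r_0
          have r1 := r_1
          have r2 := r_2
          simp only [hA1, hA2, z02, d_0, d_1, d_2, hWn_0, hWn_2] at r0 r1 r2
          have hMn_1 : T.m 1 = 2 * T.m 0 := by
            have h : T.w 1 * (T.m 1 - 2 * T.m 0) = 0 := by linarith only [r0, r1, r2]
            rcases mul_eq_zero.1 h with h | h
            · exact absurd h w_1.ne'
            · linarith only [h]
          have hMn_2 : T.m 2 = T.m 0 := by
            have h : T.w 1 * (T.m 2 - T.m 0) = 0 := by linarith only [r0, r1, r2]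
            rcases mul_eq_zero.1 h with h | h
            · exact absurd h w_1.ne'
            · linarith only [h]
          refine ⟨0, 1, 2, T.m 0, T.w 1, by decide, by decide, by decide, g_0, g_1, g_2, Or.inr (Or.inr (Or.inr (Or.inr (Or.inr (⟨?_, ?_, ?_, ?_, ?_, ?_, ?_, ?_, ?_, ?_, ?_, ?_⟩)))))⟩
          all_goals linarith only [hWn_0, hWn_2, hA1, hA2, z02, d_0, d_1, d_2, hMn_1, hMn_2, s_0_1, s_0_2, s_1_2]
        · exfalso
          have tv := Qn 1 2 1
          norm_num at tv
          linarith only [tv, e1, a1, e2, a2, z02, d_0, d_1, d_2, w_0, w_1, w_2]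
        · skip
          have hWn_0 : T.w 0 = 4 * T.w 2 := by linarith only [e1, e2]
          have hWn_1 : T.w 1 = 2 * T.w 2 := by linarith only [e1, e2]
          have hA1 : T.a 0 1 = 4 * T.w 2 := by linarith only [e1, e2, a1]
          have hA2 : T.a 1 2 = 2 * T.w 2 := by linarith only [e1, e2, a2]
          have r0 := r_0
          have r1 := r_1
          have r2 := r_2
          simp only [hA1, hA2, z02, d_0, d_1, d_2, hWn_0, hWn_1] at r0 r1 r2
          have hMn_1 : T.m 1 = 2 * T.m 0 := by
            have h : T.w 2 * (T.m 1 - 2 * T.m 0) = 0 := by linarith only [r0, r1, r2]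
            rcases mul_eq_zero.1 h with h | h
            · exact absurd h w_2.ne'
            · linarith only [h]
          have hMn_2 : T.m 2 = 2 * T.m 0 := by
            have h : T.w 2 * (T.m 2 - 2 * T.m 0) = 0 := by linarith only [r0, r1, r2]
            rcases mul_eq_zero.1 h with h | h
            · exact absurd h w_2.ne'
            · linarith only [h]
          refine ⟨2, 1, 0, T.m 0, T.w 2, by decide, by decide, by decide, g_2, g_1, g_0, Or.inr (Or.inr (Or.inr (Or.inl ⟨?_, ?_, ?_, ?_, ?_, ?_, ?_, ?_, ?_, ?_, ?_, ?_⟩)))⟩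
          all_goals linarith only [hWn_0, hWn_1, hA1, hA2, z02, d_0, d_1, d_2, hMn_1, hMn_2, s_0_1, s_0_2, s_1_2]
        · exfalso
          have tv := Qn 1 2 2
          norm_num at tv
          linarith only [tv, e1, a1, e2, a2, z02, d_0, d_1, d_2, w_0, w_1, w_2]
        · skip
          have hWn_0 : T.w 0 = 3 * T.w 1 := by linarith only [e1, e2]
          have hWn_2 : T.w 2 = T.w 1 := by linarith only [e1, e2]
          have hA1 : T.a 0 1 = 3 * T.w 1 := by linarith only [e1, e2, a1]
          have hA2 : T.a 1 2 = T.w 1 := by linarith only [e1, e2, a2]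
          have r0 := r_0
          have r1 := r_1
          have r2 := r_2
          simp only [hA1, hA2, z02, d_0, d_1, d_2, hWn_0, hWn_2] at r0 r1 r2
          have hMn_1 : T.m 1 = 2 * T.m 0 := by
            have h : T.w 1 * (T.m 1 - 2 * T.m 0) = 0 := by linarith only [r0, r1, r2]
            rcases mul_eq_zero.1 h with h | h
            · exact absurd h w_1.ne'
            · linarith only [h]
          have hMn_2 : T.m 2 = T.m 0 := by
            have h : T.w 1 * (T.m 2 - T.m 0) = 0 := by linarith only [r0, r1, r2]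
            rcases mul_eq_zero.1 h with h | h
            · exact absurd h w_1.ne'
            · linarith only [h]
          refine ⟨2, 1, 0, T.m 0, T.w 1, by decide, by decide, by decide, g_2, g_1, g_0, Or.inr (Or.inl ⟨?_, ?_, ?_, ?_, ?_, ?_, ?_, ?_, ?_, ?_, ?_, ?_⟩)⟩
          all_goals linarith only [hWn_0, hWn_2, hA1, hA2, z02, d_0, d_1, d_2, hMn_1, hMn_2, s_0_1, s_0_2, s_1_2]
        · exfalso
          have tv := Qn 1 2 1
          norm_num at tv
          linarith only [tv, e1, a1, e2, a2, z02, d_0, d_1, d_2, w_0, w_1, w_2]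
        · exfalso
          have tv := Qn 1 2 1
          norm_num at tv
          linarith only [tv, e1, a1, e2, a2, z02, d_0, d_1, d_2, w_0, w_1, w_2]
        · exfalso
          have tv := Qn 1 2 1
          norm_num at tv
          linarith only [tv, e1, a1, e2, a2, z02, d_0, d_1, d_2, w_0, w_1, w_2]
        · exfalso
          have tv := Qn 1 2 1
          norm_num at tv
          linarith only [tv, e1, a1, e2, a2, z02, d_0, d_1, d_2, w_0, w_1, w_2]
    · rcases eq_or_ne (T.a 1 2) 0 with z12 | h12
      · skip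
        have P1 := H8Num.pair5 T (by norm_num) 0 1 (by decide) (hall 0) (hall 1) h01
        have P2 := H8Num.pair5 T (by norm_num) 0 2 (by decide) (hall 0) (hall 2) h02
        rcases P1 with ⟨e1, a1⟩ | ⟨e1, a1⟩ | ⟨e1, a1⟩ | ⟨e1, a1⟩ | ⟨e1, a1⟩ <;>
        rcases P2 with ⟨e2, a2⟩ | ⟨e2, a2⟩ | ⟨e2, a2⟩ | ⟨e2, a2⟩ | ⟨e2, a2⟩
        · skip
          have hWn_1 : T.w 1 = T.w 0 := by linarith only [e1, e2]
          have hWn_2 : T.w 2 = T.w 0 := by linarith only [e1, e2]
          have hA1 : T.a 0 1 = T.w 0 := by linarith only [e1, e2, a1]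
          have hA2 : T.a 0 2 = T.w 0 := by linarith only [e1, e2, a2]
          have r0 := r_0
          have r1 := r_1
          have r2 := r_2
          simp only [hA1, hA2, z12, d_0, d_1, d_2, hWn_1, hWn_2] at r0 r1 r2
          exfalso
          have pm0 := mul_pos w_0 mp_0
          have pm1 := mul_pos w_0 mp_1
          have pm2 := mul_pos w_0 mp_2
          linarith only [r0, r1, r2, pm0, pm1, pm2]
        · skip
          have hWn_1 : T.w 1 = T.w 0 := by linarith only [e1, e2]
          have hWn_2 : T.w 2 = 2 * T.w 0 := by linarith only [e1, e2]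
          have hA1 : T.a 0 1 = T.w 0 := by linarith only [e1, e2, a1]
          have hA2 : T.a 0 2 = 2 * T.w 0 := by linarith only [e1, e2, a2]
          have r0 := r_0
          have r1 := r_1
          have r2 := r_2
          simp only [hA1, hA2, z12, d_0, d_1, d_2, hWn_1, hWn_2] at r0 r1 r2
          exfalso
          have pm0 := mul_pos w_0 mp_0
          have pm1 := mul_pos w_0 mp_1
          have pm2 := mul_pos w_0 mp_2
          linarith only [r0, r1, r2, pm0, pm1, pm2]
        · skip
          have hWn_1 : T.w 1 = T.w 0 := by linarith only [e1, e2]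
          have hWn_2 : T.w 2 = 3 * T.w 0 := by linarith only [e1, e2]
          have hA1 : T.a 0 1 = T.w 0 := by linarith only [e1, e2, a1]
          have hA2 : T.a 0 2 = 3 * T.w 0 := by linarith only [e1, e2, a2]
          have r0 := r_0
          have r1 := r_1
          have r2 := r_2
          simp only [hA1, hA2, z12, d_0, d_1, d_2, hWn_1, hWn_2] at r0 r1 r2
          have hMn_0 : T.m 0 = 2 * T.m 1 := by
            have h : T.w 0 * (T.m 0 - 2 * T.m 1) = 0 := by linarith only [r0, r1, r2]
            rcases mul_eq_zero.1 h with h | h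
            · exact absurd h w_0.ne'
            · linarith only [h]
          have hMn_2 : T.m 2 = T.m 1 := by
            have h : T.w 0 * (T.m 2 - T.m 1) = 0 := by linarith only [r0, r1, r2]
            rcases mul_eq_zero.1 h with h | h
            · exact absurd h w_0.ne'
            · linarith only [h]
          refine ⟨1, 0, 2, T.m 1, T.w 0, by decide, by decide, by decide, g_1, g_0, g_2, Or.inr (Or.inl ⟨?_, ?_, ?_, ?_, ?_, ?_, ?_, ?_, ?_, ?_, ?_, ?_⟩)⟩
          all_goals linarith only [hWn_1, hWn_2, hA1, hA2, z12, d_0, d_1, d_2, hMn_0, hMn_2, s_0_1, s_0_2, s_1_2]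
        · skip
          have hWn_0 : T.w 0 = 2 * T.w 2 := by linarith only [e1, e2]
          have hWn_1 : T.w 1 = 2 * T.w 2 := by linarith only [e1, e2]
          have hA1 : T.a 0 1 = 2 * T.w 2 := by linarith only [e1, e2, a1]
          have hA2 : T.a 0 2 = 2 * T.w 2 := by linarith only [e1, e2, a2]
          have r0 := r_0
          have r1 := r_1
          have r2 := r_2
          simp only [hA1, hA2, z12, d_0, d_1, d_2, hWn_0, hWn_1] at r0 r1 r2
          exfalso
          have pm0 := mul_pos w_2 mp_0
          have pm1 := mul_pos w_2 mp_1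
          have pm2 := mul_pos w_2 mp_2
          linarith only [r0, r1, r2, pm0, pm1, pm2]
        · skip
          have hWn_0 : T.w 0 = 3 * T.w 2 := by linarith only [e1, e2]
          have hWn_1 : T.w 1 = 3 * T.w 2 := by linarith only [e1, e2]
          have hA1 : T.a 0 1 = 3 * T.w 2 := by linarith only [e1, e2, a1]
          have hA2 : T.a 0 2 = 3 * T.w 2 := by linarith only [e1, e2, a2]
          have r0 := r_0
          have r1 := r_1
          have r2 := r_2
          simp only [hA1, hA2, z12, d_0, d_1, d_2, hWn_0, hWn_1] at r0 r1 r2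
          have hMn_0 : T.m 0 = 2 * T.m 1 := by
            have h : T.w 2 * (T.m 0 - 2 * T.m 1) = 0 := by linarith only [r0, r1, r2]
            rcases mul_eq_zero.1 h with h | h
            · exact absurd h w_2.ne'
            · linarith only [h]
          have hMn_2 : T.m 2 = 3 * T.m 1 := by
            have h : T.w 2 * (T.m 2 - 3 * T.m 1) = 0 := by linarith only [r0, r1, r2]
            rcases mul_eq_zero.1 h with h | h
            · exact absurd h w_2.ne'
            · linarith only [h]
          refine ⟨1, 0, 2, T.m 1, T.w 2, by decide, by decide, by decide, g_1, g_0, g_2, Or.inr (Or.inr (Or.inl ⟨?_, ?_, ?_, ?_, ?_, ?_, ?_, ?_, ?_, ?_, ?_, ?_⟩))⟩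
          all_goals linarith only [hWn_0, hWn_1, hA1, hA2, z12, d_0, d_1, d_2, hMn_0, hMn_2, s_0_1, s_0_2, s_1_2]
        · skip
          have hWn_1 : T.w 1 = 2 * T.w 0 := by linarith only [e1, e2]
          have hWn_2 : T.w 2 = T.w 0 := by linarith only [e1, e2]
          have hA1 : T.a 0 1 = 2 * T.w 0 := by linarith only [e1, e2, a1]
          have hA2 : T.a 0 2 = T.w 0 := by linarith only [e1, e2, a2]
          have r0 := r_0
          have r1 := r_1
          have r2 := r_2
          simp only [hA1, hA2, z12, d_0, d_1, d_2, hWn_1, hWn_2] at r0 r1 r2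
          exfalso
          have pm0 := mul_pos w_0 mp_0
          have pm1 := mul_pos w_0 mp_1
          have pm2 := mul_pos w_0 mp_2
          linarith only [r0, r1, r2, pm0, pm1, pm2]
        · skip
          have hWn_1 : T.w 1 = 2 * T.w 0 := by linarith only [e1, e2]
          have hWn_2 : T.w 2 = 2 * T.w 0 := by linarith only [e1, e2]
          have hA1 : T.a 0 1 = 2 * T.w 0 := by linarith only [e1, e2, a1]
          have hA2 : T.a 0 2 = 2 * T.w 0 := by linarith only [e1, e2, a2]
          have r0 := r_0
          have r1 := r_1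
          have r2 := r_2
          simp only [hA1, hA2, z12, d_0, d_1, d_2, hWn_1, hWn_2] at r0 r1 r2
          have hMn_0 : T.m 0 = 2 * T.m 1 := by
            have h : T.w 0 * (T.m 0 - 2 * T.m 1) = 0 := by linarith only [r0, r1, r2]
            rcases mul_eq_zero.1 h with h | h
            · exact absurd h w_0.ne'
            · linarith only [h]
          have hMn_2 : T.m 2 = T.m 1 := by
            have h : T.w 0 * (T.m 2 - T.m 1) = 0 := by linarith only [r0, r1, r2]
            rcases mul_eq_zero.1 h with h | h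
            · exact absurd h w_0.ne'
            · linarith only [h]
          refine ⟨1, 0, 2, T.m 1, T.w 0, by decide, by decide, by decide, g_1, g_0, g_2, Or.inr (Or.inr (Or.inr (Or.inr (Or.inr (⟨?_, ?_, ?_, ?_, ?_, ?_, ?_, ?_, ?_, ?_, ?_, ?_⟩)))))⟩
          all_goals linarith only [hWn_1, hWn_2, hA1, hA2, z12, d_0, d_1, d_2, hMn_0, hMn_2, s_0_1, s_0_2, s_1_2]
        · exfalso
          have tv := Qn 2 1 1
          norm_num at tv
          linarith only [tv, e1, a1, e2, a2, z12, d_0, d_1, d_2, w_0, w_1, w_2]
        · skip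
          have hWn_0 : T.w 0 = 2 * T.w 2 := by linarith only [e1, e2]
          have hWn_1 : T.w 1 = 4 * T.w 2 := by linarith only [e1, e2]
          have hA1 : T.a 0 1 = 4 * T.w 2 := by linarith only [e1, e2, a1]
          have hA2 : T.a 0 2 = 2 * T.w 2 := by linarith only [e1, e2, a2]
          have r0 := r_0
          have r1 := r_1
          have r2 := r_2
          simp only [hA1, hA2, z12, d_0, d_1, d_2, hWn_0, hWn_1] at r0 r1 r2
          have hMn_0 : T.m 0 = 2 * T.m 1 := by
            have h : T.w 2 * (T.m 0 - 2 * T.m 1) = 0 := by linarith only [r0, r1, r2]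
            rcases mul_eq_zero.1 h with h | h
            · exact absurd h w_2.ne'
            · linarith only [h]
          have hMn_2 : T.m 2 = 2 * T.m 1 := by
            have h : T.w 2 * (T.m 2 - 2 * T.m 1) = 0 := by linarith only [r0, r1, r2]
            rcases mul_eq_zero.1 h with h | h
            · exact absurd h w_2.ne'
            · linarith only [h]
          refine ⟨2, 0, 1, T.m 1, T.w 2, by decide, by decide, by decide, g_2, g_0, g_1, Or.inr (Or.inr (Or.inr (Or.inl ⟨?_, ?_, ?_, ?_, ?_, ?_, ?_, ?_, ?_, ?_, ?_, ?_⟩)))⟩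
          all_goals linarith only [hWn_0, hWn_1, hA1, hA2, z12, d_0, d_1, d_2, hMn_0, hMn_2, s_0_1, s_0_2, s_1_2]
        · exfalso
          have tv := Qn 2 1 2
          norm_num at tv
          linarith only [tv, e1, a1, e2, a2, z12, d_0, d_1, d_2, w_0, w_1, w_2]
        · skip
          have hWn_1 : T.w 1 = 3 * T.w 0 := by linarith only [e1, e2]
          have hWn_2 : T.w 2 = T.w 0 := by linarith only [e1, e2]
          have hA1 : T.a 0 1 = 3 * T.w 0 := by linarith only [e1, e2, a1]
          have hA2 : T.a 0 2 = T.w 0 := by linarith only [e1, e2, a2]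
          have r0 := r_0
          have r1 := r_1
          have r2 := r_2
          simp only [hA1, hA2, z12, d_0, d_1, d_2, hWn_1, hWn_2] at r0 r1 r2
          have hMn_0 : T.m 0 = 2 * T.m 1 := by
            have h : T.w 0 * (T.m 0 - 2 * T.m 1) = 0 := by linarith only [r0, r1, r2]
            rcases mul_eq_zero.1 h with h | h
            · exact absurd h w_0.ne'
            · linarith only [h]
          have hMn_2 : T.m 2 = T.m 1 := by
            have h : T.w 0 * (T.m 2 - T.m 1) = 0 := by linarith only [r0, r1, r2]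
            rcases mul_eq_zero.1 h with h | h
            · exact absurd h w_0.ne'
            · linarith only [h]
          refine ⟨2, 0, 1, T.m 1, T.w 0, by decide, by decide, by decide, g_2, g_0, g_1, Or.inr (Or.inl ⟨?_, ?_, ?_, ?_, ?_, ?_, ?_, ?_, ?_, ?_, ?_, ?_⟩)⟩
          all_goals linarith only [hWn_1, hWn_2, hA1, hA2, z12, d_0, d_1, d_2, hMn_0, hMn_2, s_0_1, s_0_2, s_1_2]
        · exfalso
          have tv := Qn 2 1 1
          norm_num at tv
          linarith only [tv, e1, a1, e2, a2, z12, d_0, d_1, d_2, w_0, w_1, w_2]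
        · exfalso
          have tv := Qn 2 1 1
          norm_num at tv
          linarith only [tv, e1, a1, e2, a2, z12, d_0, d_1, d_2, w_0, w_1, w_2]
        · exfalso
          have tv := Qn 2 1 1
          norm_num at tv
          linarith only [tv, e1, a1, e2, a2, z12, d_0, d_1, d_2, w_0, w_1, w_2]
        · exfalso
          have tv := Qn 2 1 1
          norm_num at tv
          linarith only [tv, e1, a1, e2, a2, z12, d_0, d_1, d_2, w_0, w_1, w_2]
        · skip
          have hWn_0 : T.w 0 = 2 * T.w 1 := by linarith only [e1, e2]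
          have hWn_2 : T.w 2 = 2 * T.w 1 := by linarith only [e1, e2]
          have hA1 : T.a 0 1 = 2 * T.w 1 := by linarith only [e1, e2, a1]
          have hA2 : T.a 0 2 = 2 * T.w 1 := by linarith only [e1, e2, a2]
          have r0 := r_0
          have r1 := r_1
          have r2 := r_2
          simp only [hA1, hA2, z12, d_0, d_1, d_2, hWn_0, hWn_2] at r0 r1 r2
          exfalso
          have pm0 := mul_pos w_1 mp_0
          have pm1 := mul_pos w_1 mp_1
          have pm2 := mul_pos w_1 mp_2
          linarith only [r0, r1, r2, pm0, pm1, pm2]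
        · skip
          have hWn_0 : T.w 0 = 2 * T.w 1 := by linarith only [e1, e2]
          have hWn_2 : T.w 2 = 4 * T.w 1 := by linarith only [e1, e2]
          have hA1 : T.a 0 1 = 2 * T.w 1 := by linarith only [e1, e2, a1]
          have hA2 : T.a 0 2 = 4 * T.w 1 := by linarith only [e1, e2, a2]
          have r0 := r_0
          have r1 := r_1
          have r2 := r_2
          simp only [hA1, hA2, z12, d_0, d_1, d_2, hWn_0, hWn_2] at r0 r1 r2
          have hMn_0 : T.m 0 = 2 * T.m 2 := by
            have h : T.w 1 * (T.m 0 - 2 * T.m 2) = 0 := by linarith only [r0, r1, r2]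
            rcases mul_eq_zero.1 h with h | h
            · exact absurd h w_1.ne'
            · linarith only [h]
          have hMn_1 : T.m 1 = 2 * T.m 2 := by
            have h : T.w 1 * (T.m 1 - 2 * T.m 2) = 0 := by linarith only [r0, r1, r2]
            rcases mul_eq_zero.1 h with h | h
            · exact absurd h w_1.ne'
            · linarith only [h]
          refine ⟨1, 0, 2, T.m 2, T.w 1, by decide, by decide, by decide, g_1, g_0, g_2, Or.inr (Or.inr (Or.inr (Or.inl ⟨?_, ?_, ?_, ?_, ?_, ?_, ?_, ?_, ?_, ?_, ?_, ?_⟩)))⟩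
          all_goals linarith only [hWn_0, hWn_2, hA1, hA2, z12, d_0, d_1, d_2, hMn_0, hMn_1, s_0_1, s_0_2, s_1_2]
        · exfalso
          have tv := Qn 2 1 1
          norm_num at tv
          linarith only [tv, e1, a1, e2, a2, z12, d_0, d_1, d_2, w_0, w_1, w_2]
        · skip
          have hWn_0 : T.w 0 = 2 * T.w 1 := by linarith only [e1, e2]
          have hWn_2 : T.w 2 = T.w 1 := by linarith only [e1, e2]
          have hA1 : T.a 0 1 = 2 * T.w 1 := by linarith only [e1, e2, a1]
          have hA2 : T.a 0 2 = 2 * T.w 1 := by linarith only [e1, e2, a2]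
          have r0 := r_0
          have r1 := r_1
          have r2 := r_2
          simp only [hA1, hA2, z12, d_0, d_1, d_2, hWn_0, hWn_2] at r0 r1 r2
          have hMn_1 : T.m 1 = T.m 0 := by
            have h : T.w 1 * (T.m 1 - T.m 0) = 0 := by linarith only [r0, r1, r2]
            rcases mul_eq_zero.1 h with h | h
            · exact absurd h w_1.ne'
            · linarith only [h]
          have hMn_2 : T.m 2 = T.m 0 := by
            have h : T.w 1 * (T.m 2 - T.m 0) = 0 := by linarith only [r0, r1, r2]
            rcases mul_eq_zero.1 h with h | h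
            · exact absurd h w_1.ne'
            · linarith only [h]
          refine ⟨1, 0, 2, T.m 0, T.w 1, by decide, by decide, by decide, g_1, g_0, g_2, Or.inr (Or.inr (Or.inr (Or.inr (Or.inl ⟨?_, ?_, ?_, ?_, ?_, ?_, ?_, ?_, ?_, ?_, ?_, ?_⟩))))⟩
          all_goals linarith only [hWn_0, hWn_2, hA1, hA2, z12, d_0, d_1, d_2, hMn_1, hMn_2, s_0_1, s_0_2, s_1_2]
        · exfalso
          have tv := Qn 1 1 1
          norm_num at tv
          linarith only [tv, e1, a1, e2, a2, z12, d_0, d_1, d_2, w_0, w_1, w_2]
        · skip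
          have hWn_0 : T.w 0 = 3 * T.w 1 := by linarith only [e1, e2]
          have hWn_2 : T.w 2 = 3 * T.w 1 := by linarith only [e1, e2]
          have hA1 : T.a 0 1 = 3 * T.w 1 := by linarith only [e1, e2, a1]
          have hA2 : T.a 0 2 = 3 * T.w 1 := by linarith only [e1, e2, a2]
          have r0 := r_0
          have r1 := r_1
          have r2 := r_2
          simp only [hA1, hA2, z12, d_0, d_1, d_2, hWn_0, hWn_2] at r0 r1 r2
          have hMn_0 : T.m 0 = 2 * T.m 2 := by
            have h : T.w 1 * (T.m 0 - 2 * T.m 2) = 0 := by linarith only [r0, r1, r2]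
            rcases mul_eq_zero.1 h with h | h
            · exact absurd h w_1.ne'
            · linarith only [h]
          have hMn_1 : T.m 1 = 3 * T.m 2 := by
            have h : T.w 1 * (T.m 1 - 3 * T.m 2) = 0 := by linarith only [r0, r1, r2]
            rcases mul_eq_zero.1 h with h | h
            · exact absurd h w_1.ne'
            · linarith only [h]
          refine ⟨2, 0, 1, T.m 2, T.w 1, by decide, by decide, by decide, g_2, g_0, g_1, Or.inr (Or.inr (Or.inl ⟨?_, ?_, ?_, ?_, ?_, ?_, ?_, ?_, ?_, ?_, ?_, ?_⟩))⟩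
          all_goals linarith only [hWn_0, hWn_2, hA1, hA2, z12, d_0, d_1, d_2, hMn_0, hMn_1, s_0_1, s_0_2, s_1_2]
        · exfalso
          have tv := Qn 2 2 1
          norm_num at tv
          linarith only [tv, e1, a1, e2, a2, z12, d_0, d_1, d_2, w_0, w_1, w_2]
        · exfalso
          have tv := Qn 2 1 1
          norm_num at tv
          linarith only [tv, e1, a1, e2, a2, z12, d_0, d_1, d_2, w_0, w_1, w_2]
        · exfalso
          have tv := Qn 1 1 1
          norm_num at tv
          linarith only [tv, e1, a1, e2, a2, z12, d_0, d_1, d_2, w_0, w_1, w_2]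
        · exfalso
          have tv := Qn 1 1 1
          norm_num at tv
          linarith only [tv, e1, a1, e2, a2, z12, d_0, d_1, d_2, w_0, w_1, w_2]
      · -- triangle
        have ga_0_1 : T.w 0 ≤ T.a 0 1 := H8Num.edge_ge_w T (by decide) h01
        have gb_0_1 : T.w 1 ≤ T.a 0 1 := H8Num.edge_ge_w' T (by decide) h01
        have ga_0_2 : T.w 0 ≤ T.a 0 2 := H8Num.edge_ge_w T (by decide) h02
        have gb_0_2 : T.w 2 ≤ T.a 0 2 := H8Num.edge_ge_w' T (by decide) h02
        have ga_1_2 : T.w 1 ≤ T.a 1 2 := H8Num.edge_ge_w T (by decide) h12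
        have gb_1_2 : T.w 2 ≤ T.a 1 2 := H8Num.edge_ge_w' T (by decide) h12
        have tv := Qn 1 1 1
        norm_num at tv
        have hWn_1 : T.w 1 = T.w 0 := by linarith only [tv, ga_0_1, gb_0_1, ga_0_2, gb_0_2, ga_1_2, gb_1_2, d_0, d_1, d_2]
        have hWn_2 : T.w 2 = T.w 0 := by linarith only [tv, ga_0_1, gb_0_1, ga_0_2, gb_0_2, ga_1_2, gb_1_2, d_0, d_1, d_2]
        have hA01 : T.a 0 1 = T.w 0 := by linarith only [tv, ga_0_1, gb_0_1, ga_0_2, gb_0_2, ga_1_2, gb_1_2, d_0, d_1, d_2]
        have hA02 : T.a 0 2 = T.w 0 := by linarith only [tv, ga_0_1, gb_0_1, ga_0_2, gb_0_2, ga_1_2, gb_1_2, d_0, d_1, d_2]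
        have hA12 : T.a 1 2 = T.w 0 := by linarith only [tv, ga_0_1, gb_0_1, ga_0_2, gb_0_2, ga_1_2, gb_1_2, d_0, d_1, d_2]
        have r0 := r_0
        have r1 := r_1
        have r2 := r_2
        simp only [hA01, hA02, hA12, d_0, d_1, d_2, hWn_1, hWn_2] at r0 r1 r2
        have hMn_1 : T.m 1 = T.m 0 := by
          have h : T.w 0 * (T.m 1 - T.m 0) = 0 := by linarith only [r0, r1, r2]
          rcases mul_eq_zero.1 h with h | h
          · exact absurd h w_0.ne'
          · linarith only [h]
        have hMn_2 : T.m 2 = T.m 0 := by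
          have h : T.w 0 * (T.m 2 - T.m 0) = 0 := by linarith only [r0, r1, r2]
          rcases mul_eq_zero.1 h with h | h
          · exact absurd h w_0.ne'
          · linarith only [h]
        refine ⟨0, 1, 2, T.m 0, T.w 0, by decide, by decide, by decide, g_0, g_1, g_2, Or.inl ⟨?_, ?_, ?_, ?_, ?_, ?_, ?_, ?_, ?_, ?_, ?_, ?_⟩⟩
        all_goals linarith only [hWn_1, hWn_2, hA01, hA02, hA12, d_0, d_1, d_2, hMn_1, hMn_2]

end Groth.Agent.S7363
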