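import Groth.Statements.S7397
import Mathlib

set_option autoImplicit false
universe u
open Mor

namespace Groth.Agent.S7397

/-- Let `A ⊆ B` be a ring extension and `b ∈ B`, `b ∉ A`, with `b^n, b^(n+1) ∈ A` for some `n ≥ 2`. Then
some `b' ∈ B` with `b' ∉ A` has `b'^2 ∈ A` and `b'^3 ∈ A`. -/
theorem result {B : Type u} [CommRing B] (A : Subring B) (b : B) (hb : b ∉ A)
    (n : ℕ) (hn : 2 ≤ n) (h1 : b ^ n ∈ A) (h2 : b ^ (n + 1) ∈ A) :
    ∃ b' : B, b' ∉ A ∧ b' ^ 2 ∈ A ∧ b' ^ 3 ∈ A := by
  classical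
  have hex : ∃ m : ℕ, ∀ k, m ≤ k → b ^ k ∈ A := by
    refine ⟨n * n, fun k hk => ?_⟩
    have hq : n ≤ k / n := by
      rw [Nat.le_div_iff_mul_le (by omega)]
      exact hk
    have hr : k % n < n := Nat.mod_lt _ (by omega)
    have hk' : k = n * (k / n - k % n) + (n + 1) * (k % n) := by
      have := Nat.div_add_mod k n
      have h3 : n * (k / n - k % n) = n * (k / n) - n * (k % n) := Nat.mul_sub n _ _
      have h4 : n * (k % n) ≤ n * (k / n) := Nat.mul_le_mul_left n (by omega)
      have h5 : (n + 1) * (k % n) = n * (k % n) + k % n := Nat.succ_mul _ _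
      rw [h3, h5]
      omega
    rw [hk', pow_add, pow_mul, pow_mul]
    exact A.mul_mem (A.pow_mem h1 _) (A.pow_mem h2 _)
  set m := Nat.find hex with hm
  have hmspec := Nat.find_spec hex
  have hm2 : 2 ≤ m := by
    by_contra hlt
    rw [not_le] at hlt
    apply hb
    have := hmspec 1 (by omega)
    simpa using this
  have hmin : ¬ (∀ k, m - 1 ≤ k → b ^ k ∈ A) := Nat.find_min hex (by omega)
  refine ⟨b ^ (m - 1), ?_, ?_, ?_⟩
  · intro hmem
    apply hmin
    intro k hk
    rcases Nat.eq_or_lt_of_le hk with h | h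
    · rw [← h]; exact hmem
    · exact hmspec k (by omega)
  · rw [← pow_mul]
    exact hmspec _ (by omega)
  · rw [← pow_mul]
    exact hmspec _ (by omega)

end Groth.Agent.S7397
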