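import Groth.Statements.S7415
import Mathlib
import Groth.Agent.Lib.helper4.GermInj

set_option autoImplicit false
universe u
open CategoryTheory AlgebraicGeometry
open Mor

namespace Groth.Agent.S7415

/-- Let `X` be a reduced scheme with finitely many irreducible components and `x ∈ X`. Then `x` has an
affine open neighbourhood `U` such that `O_X(U) → O_{X,x}` is injective. -/
theorem result (X : Scheme.{u}) [AlgebraicGeometry.IsReduced X]
    (hirr : (irreducibleComponents (X : Type u)).Finite) (x : X) : X.IsGermInjectiveAt x := by
  exact Groth.Agent.H4.H4_isGermInjective_of_isReduced_of_finite_irr X hirr x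

end Groth.Agent.S7415
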