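import Groth.Statements.S7420
import Mathlib
import Groth.Agent.Lib.helper5.SeminormalLoc

set_option autoImplicit false
universe u
open CategoryTheory AlgebraicGeometry
open HTop

namespace Groth.Agent.S7420

/-- A scheme `X` is seminormal if and only if `O_X(U)` is seminormal for every affine open `U ⊆ X`; the
same holds with 'seminormal' replaced by 'absolutely weakly normal'. -/
theorem result (X : Scheme.{u}) :
    (HTop.IsSeminormal X ↔ ∀ U : X.affineOpens, HTop.IsSeminormalRing Γ(X, U)) ∧
    (HTop.IsAWN X ↔ ∀ U : X.affineOpens, HTop.IsAWNRing Γ(X, U)) := by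
  exact ⟨H5SN.scheme_char X (fun R _ => HTop.IsSeminormalRing R)
      (fun A B _ _ e h => H5SN.seminormal_of_equiv e h)
      (fun A _ f h => H5SN.seminormal_away f h)
      (fun A _ s hs h => H5SN.seminormal_of_cover s hs h),
    H5SN.scheme_char X (fun R _ => HTop.IsAWNRing R)
      (fun A B _ _ e h => H5SN.awn_of_equiv e h)
      (fun A _ f h => H5SN.awn_away f h)
      (fun A _ s hs h => H5SN.awn_of_cover s hs h)⟩

end Groth.Agent.S7420
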