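import Groth.Statements.S7421
import Mathlib

set_option autoImplicit false
universe u
open CategoryTheory AlgebraicGeometry
open HTop

namespace Groth.Agent.S7421

/-- A seminormal ring is reduced, and a seminormal scheme is reduced. -/
theorem result :
    (∀ (A : Type u) [CommRing A], HTop.IsSeminormalRing A → IsReduced A) ∧
    ∀ (X : Scheme.{u}), HTop.IsSeminormal X → AlgebraicGeometry.IsReduced X := by
  have hring : ∀ (A : Type u) [CommRing A], HTop.IsSeminormalRing A → _root_.IsReduced A := by
    intro A _ hA
    rw [isReduced_iff_pow_one_lt 2 (by norm_num)]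
    intro b hb
    obtain ⟨a, _, huniq⟩ := hA 0 0 (by simp)
    have h0 : (0 : A) = a := huniq 0 ⟨by simp, by simp⟩
    have hb3 : b ^ 3 = b ^ 2 * b := by ring
    have hb' : b = a := huniq b ⟨by rw [hb], by rw [hb3, hb, zero_mul]⟩
    rw [hb', ← h0]
  refine ⟨hring, ?_⟩
  intro X hX
  have hstalk : ∀ x : X, _root_.IsReduced (X.presheaf.stalk x) := by
    intro x
    obtain ⟨U, hxU, hU⟩ := hX x
    have hloc := U.2.isLocalization_stalk ⟨x, hxU⟩
    exact @isReduced_localizationPreserves _ _ _ _ _
      (TopCat.Presheaf.algebra_section_stalk X.presheaf ⟨x, hxU⟩) hloc (hring _ hU)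
  have := hstalk
  exact AlgebraicGeometry.isReduced_of_isReduced_stalk X

end Groth.Agent.S7421
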