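import Groth.Statements.S7439

set_option autoImplicit false
universe u
open CategoryTheory AlgebraicGeometry
open BddFib

namespace Groth.Agent.S7439


open CategoryTheory CategoryTheory.Limits Opposite

open AlgebraicGeometry CategoryTheory CategoryTheory.Limits

theorem fin_of_surj {K R : Type u} [Field K] [CommRing R] (φ : K →+* R) (hφ : Function.Surjective φ) :
    letI := φ.toAlgebra
    Module.Finite K R ∧ Module.finrank K R ≤ 1 := by
  letI := φ.toAlgebra
  have hs : Function.Surjective (Algebra.linearMap K R) := hφ
  refine ⟨Module.Finite.of_surjective _ hs, ?_⟩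
  have := LinearMap.finrank_le_finrank_of_surjective hs
  rwa [Module.finrank_self] at this

theorem main {X Y : Scheme.{u}} (f : X ⟶ Y) [IsImmersion f] :
    BddFib.FibreDegLE f 1 := by
  intro y
  haveI : IsImmersion (f.fiberToSpecResidueField y) := by
    show IsImmersion (pullback.snd f (Y.fromSpecResidueField y)); infer_instance
  haveI : Subsingleton ↥(Spec (Y.residueField y)) :=
    inferInstanceAs (Subsingleton (PrimeSpectrum (Y.residueField y)))
  have hcl : IsClosed (Set.range (f.fiberToSpecResidueField y)) :=
    Subsingleton.set_cases (p := IsClosed) isClosed_empty isClosed_univ _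
  haveI := IsClosedImmersion.of_isPreimmersion (f.fiberToSpecResidueField y) hcl
  obtain ⟨haff, hsurj⟩ := IsClosedImmersion.isAffine_surjective_of_isAffine (f.fiberToSpecResidueField y)
  have hφ : Function.Surjective ((Scheme.ΓSpecIso (Y.residueField y)).inv ≫
      (f.fiberToSpecResidueField y).appTop).hom := by
    rw [CommRingCat.hom_comp, RingHom.coe_comp]
    exact hsurj.comp (ConcreteCategory.bijective_of_isIso (Scheme.ΓSpecIso (Y.residueField y)).inv).2
  obtain ⟨h1, h2⟩ := fin_of_surj _ hφ
  exact ⟨haff, h1, h2⟩

/-- Every immersion has universally bounded fibres, with `1` as a bound for the degrees of its fibres. -/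
theorem result {X Y : Scheme.{u}} (f : X ⟶ Y) [IsImmersion f] :
    BddFib.FibreDegLE f 1 := by
  exact main f

end Groth.Agent.S7439
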