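import Groth.Statements.S7458
import Mathlib

set_option autoImplicit false
universe u
open CategoryTheory MonoidalCategory CartesianMonoidalCategory MonObj GrpObj AlgebraicGeometry
open GrpSch

namespace Groth.Agent.S7458

/-- For a group scheme G over a scheme S, a scheme T flat over S and a morphism ψ : T -> G over S, the
map T x_S G -> G sending (t, g) to the product ψ(t)·g is a flat morphism; taking T = G and ψ the
identity, the multiplication G x_S G -> G is flat whenever G is flat over S. -/
theorem result (S : Scheme.{u}) (G : Over S) [GrpObj G] : (∀ (T : Over S) (ψ : T ⟶ G), Flat T.hom → Flat (ψ ▷ G ≫ μ[G]).left) ∧ (Flat G.hom → Flat μ[G].left) := by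
  have main : ∀ (T : Over S) (ψ : T ⟶ G), AlgebraicGeometry.Flat T.hom →
      AlgebraicGeometry.Flat (ψ ▷ G ≫ μ[G]).left := by
    intro T ψ hT
    -- the shear automorphism (t, g) ↦ (t, ψ(t) g)
    let σ : T ⊗ G ⟶ T ⊗ G := lift (fst T G) (ψ ▷ G ≫ μ[G])
    let τ : T ⊗ G ⟶ T ⊗ G := lift (fst T G) (lift (fst T G ≫ ψ ≫ ι[G]) (snd T G) ≫ μ[G])
    have hψμ : ψ ▷ G ≫ μ[G] = (fst T G ≫ ψ) * snd T G := by
      rw [Hom.mul_def]
      congr 1
    have hτ2 : lift (fst T G ≫ ψ ≫ ι[G]) (snd T G) ≫ μ[G] = (fst T G ≫ ψ)⁻¹ * snd T G := by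
      rw [Hom.mul_def, Hom.inv_def, Category.assoc]
    have h1 : σ ≫ τ = 𝟙 _ := by
      apply CartesianMonoidalCategory.hom_ext
      · simp only [σ, τ, Category.assoc, lift_fst, Category.id_comp]
      · simp only [σ, τ, Category.assoc, lift_snd, Category.id_comp]
        rw [hτ2, MonObj.comp_mul, GrpObj.comp_inv, ← Category.assoc, lift_fst, lift_snd, hψμ,
          inv_mul_cancel_left]
    have h2 : τ ≫ σ = 𝟙 _ := by
      apply CartesianMonoidalCategory.hom_ext
      · simp only [σ, τ, Category.assoc, lift_fst, Category.id_comp]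
      · simp only [σ, τ, Category.assoc, lift_snd, Category.id_comp]
        rw [hψμ, MonObj.comp_mul, ← Category.assoc, lift_fst, lift_snd, hτ2,
          mul_inv_cancel_left]
    have hfac : ψ ▷ G ≫ μ[G] = σ ≫ snd T G := by
      simp only [σ, lift_snd]
    have hσiso : IsIso σ := ⟨⟨τ, h1, h2⟩⟩
    have hσl : IsIso σ.left := inferInstanceAs (IsIso ((Over.forget S).map σ))
    have hsnd : AlgebraicGeometry.Flat (snd T G).left := by
      rw [CategoryTheory.Over.snd_left]
      exact MorphismProperty.pullback_snd _ _ hT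
    rw [hfac, Over.comp_left]
    infer_instance
  refine ⟨main, ?_⟩
  intro hG
  have := main G (𝟙 G) hG
  rwa [id_whiskerRight, Category.id_comp] at this

end Groth.Agent.S7458
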