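import Groth.Statements.S7459
import Mathlib
import Groth.Agent.Lib.helper2.Shear

set_option autoImplicit false
universe u
open CategoryTheory MonoidalCategory CartesianMonoidalCategory MonObj GrpObj AlgebraicGeometry
open GrpSch

namespace Groth.Agent.S7459

/-- Let G be a group scheme over a field k, W an open subscheme of G and f : T -> G a morphism of
schemes (T becomes a k-scheme through f). Then the image of the composition T x_k W -> G x_k G -> G,
the second map being the multiplication, is open. -/
theorem result (K : Type u) [Field K] (G : Over (Spec (CommRingCat.of K))) [GrpObj G] (W : G.left.Opens) (T : Scheme.{u}) (f : T ⟶ G.left) : IsOpen (Set.range ⇑(((Over.homMk f rfl : Over.mk (f ≫ G.hom) ⟶ G) ⊗ₘ (Over.homMk W.ι rfl : Over.mk (W.ι ≫ G.hom) ⟶ G)) ≫ μ[G]).left) := by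
  set T' : Over (Spec (CommRingCat.of K)) := Over.mk (f ≫ G.hom) with hT'
  set W' : Over (Spec (CommRingCat.of K)) := Over.mk (W.ι ≫ G.hom) with hW'
  set ψ : T' ⟶ G := Over.homMk f rfl with hψ
  set w : W' ⟶ G := Over.homMk W.ι rfl with hw
  obtain ⟨σ, hσ, hfac⟩ := Groth.Agent.H2.H2_shear (C := Over (Spec (CommRingCat.of K))) ψ
  have hm : (ψ ⊗ₘ w) ≫ μ[G] = (T' ◁ w) ≫ σ ≫ snd T' G := by
    rw [tensorHom_def', Category.assoc, hfac]
  have h1 : IsOpenImmersion (T' ◁ w).left := by
    rw [CategoryTheory.Over.whiskerLeft_left]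
    have : IsOpenImmersion w.left := inferInstanceAs (IsOpenImmersion W.ι)
    infer_instance
  have h2 : IsIso σ.left := inferInstanceAs (IsIso ((Over.forget _).map σ))
  have h3 : UniversallyOpen (snd T' G).left := by
    rw [CategoryTheory.Over.snd_left]
    have : UniversallyOpen T'.hom := inferInstance
    exact MorphismProperty.pullback_snd _ _ this
  have hopen : IsOpenMap ⇑((ψ ⊗ₘ w) ≫ μ[G]).left := by
    rw [hm, Over.comp_left, Over.comp_left]
    have e1 : IsOpenMap ⇑(T' ◁ w).left := (T' ◁ w).left.isOpenEmbedding.isOpenMap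
    have e2 : IsOpenMap ⇑σ.left := σ.left.isOpenEmbedding.isOpenMap
    have e3 : IsOpenMap ⇑(snd T' G).left := (snd T' G).left.isOpenMap
    have : ⇑((T' ◁ w).left ≫ σ.left ≫ (snd T' G).left) =
        ⇑(snd T' G).left ∘ ⇑σ.left ∘ ⇑(T' ◁ w).left := by
      ext z
      simp only [AlgebraicGeometry.Scheme.Hom.comp_apply, Function.comp_apply]
    rw [this]
    exact e3.comp (e2.comp e1)
  exact hopen.isOpen_range

end Groth.Agent.S7459
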