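import Groth.Statements.S7522
import Mathlib

set_option autoImplicit false
universe u
open CategoryTheory CategoryTheory.Limits AlgebraicGeometry
open Grpd

namespace Groth.Agent.S7522

/-- Let S be a scheme, U a scheme over S and j : R -> U x_S U a pre-equivalence relation, that is a
morphism such that for every scheme T the image of the T-points of R in pairs of T-points of U is an
equivalence relation; write t = pr_0 ∘ j and s = pr_1 ∘ j. Then the relation on the points of U in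
which x ∼ y when some point r of R has t(r) = x and s(r) = y is an equivalence relation. -/
theorem result {S U R : Scheme.{u}} (pU : U ⟶ S) (j : R ⟶ pullback pU pU) (hj : ∀ T : Scheme.{u}, Equivalence (fun a b : T ⟶ U => ∃ r : T ⟶ R, r ≫ j ≫ pullback.fst pU pU = a ∧ r ≫ j ≫ pullback.snd pU pU = b)) : Equivalence (fun x y : ↥U => ∃ r : R, (j ≫ pullback.fst pU pU) r = x ∧ (j ≫ pullback.snd pU pU) r = y) := by
  have pt : ∀ {Z : AlgebraicGeometry.Scheme.{u}} (z : ↥Z), Nonempty ↥(AlgebraicGeometry.Spec (Z.residueField z)) :=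
    fun z => inferInstance
  have ev : ∀ {T : AlgebraicGeometry.Scheme.{u}} (ρ : T ⟶ R) (p : T ⟶ U) (q : R ⟶ U) (w : ↥T),
      ρ ≫ q = p → q (ρ w) = p w := by
    intro T ρ p q w h
    rw [← h, AlgebraicGeometry.Scheme.Hom.comp_apply]
  refine ⟨?_, ?_, ?_⟩
  · intro x
    obtain ⟨w⟩ := pt x
    obtain ⟨r, h1, h2⟩ := (hj (AlgebraicGeometry.Spec (U.residueField x))).refl
      (U.fromSpecResidueField x)
    refine ⟨r w, ?_, ?_⟩
    · rw [ev r _ _ w h1, AlgebraicGeometry.Scheme.fromSpecResidueField_apply]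
    · rw [ev r _ _ w h2, AlgebraicGeometry.Scheme.fromSpecResidueField_apply]
  · rintro x y ⟨r₀, hx, hy⟩
    obtain ⟨w⟩ := pt r₀
    have hrel : ∃ r : AlgebraicGeometry.Spec (R.residueField r₀) ⟶ R,
        r ≫ j ≫ pullback.fst pU pU = R.fromSpecResidueField r₀ ≫ j ≫ pullback.fst pU pU ∧
        r ≫ j ≫ pullback.snd pU pU = R.fromSpecResidueField r₀ ≫ j ≫ pullback.snd pU pU :=
      ⟨_, rfl, rfl⟩
    obtain ⟨r', h1, h2⟩ := (hj (AlgebraicGeometry.Spec (R.residueField r₀))).symm hrel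
    refine ⟨r' w, ?_, ?_⟩
    · rw [ev r' _ _ w h1, AlgebraicGeometry.Scheme.Hom.comp_apply,
        AlgebraicGeometry.Scheme.fromSpecResidueField_apply, hy]
    · rw [ev r' _ _ w h2, AlgebraicGeometry.Scheme.Hom.comp_apply,
        AlgebraicGeometry.Scheme.fromSpecResidueField_apply, hx]
  · rintro x y z ⟨r₁, hx, hy⟩ ⟨r₂, hy', hz⟩
    obtain ⟨v, hv1, hv2⟩ := AlgebraicGeometry.Scheme.Pullback.exists_preimage_pullback
      (f := j ≫ pullback.snd pU pU) (g := j ≫ pullback.fst pU pU) r₁ r₂ (hy.trans hy'.symm)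
    obtain ⟨w⟩ := pt v
    set ρ₁ : AlgebraicGeometry.Spec ((pullback (j ≫ pullback.snd pU pU) (j ≫ pullback.fst pU pU)).residueField v) ⟶ R :=
      (pullback (j ≫ pullback.snd pU pU) (j ≫ pullback.fst pU pU)).fromSpecResidueField v ≫ pullback.fst _ _ with hρ₁
    set ρ₂ : AlgebraicGeometry.Spec ((pullback (j ≫ pullback.snd pU pU) (j ≫ pullback.fst pU pU)).residueField v) ⟶ R :=
      (pullback (j ≫ pullback.snd pU pU) (j ≫ pullback.fst pU pU)).fromSpecResidueField v ≫ pullback.snd _ _ with hρ₂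
    have hcond : ρ₁ ≫ j ≫ pullback.snd pU pU = ρ₂ ≫ j ≫ pullback.fst pU pU := by
      rw [hρ₁, hρ₂, Category.assoc, Category.assoc, pullback.condition]
    have hrel1 : ∃ r : AlgebraicGeometry.Spec ((pullback (j ≫ pullback.snd pU pU) (j ≫ pullback.fst pU pU)).residueField v) ⟶ R,
        r ≫ j ≫ pullback.fst pU pU = ρ₁ ≫ j ≫ pullback.fst pU pU ∧
        r ≫ j ≫ pullback.snd pU pU = ρ₂ ≫ j ≫ pullback.fst pU pU :=
      ⟨ρ₁, rfl, hcond⟩
    have hrel2 : ∃ r : AlgebraicGeometry.Spec ((pullback (j ≫ pullback.snd pU pU) (j ≫ pullback.fst pU pU)).residueField v) ⟶ R,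
        r ≫ j ≫ pullback.fst pU pU = ρ₂ ≫ j ≫ pullback.fst pU pU ∧
        r ≫ j ≫ pullback.snd pU pU = ρ₂ ≫ j ≫ pullback.snd pU pU :=
      ⟨ρ₂, rfl, rfl⟩
    obtain ⟨r', h1, h2⟩ := (hj (AlgebraicGeometry.Spec ((pullback (j ≫ pullback.snd pU pU) (j ≫ pullback.fst pU pU)).residueField v))).trans hrel1 hrel2
    have e1 : ρ₁ w = r₁ := by
      rw [hρ₁, AlgebraicGeometry.Scheme.Hom.comp_apply,
        AlgebraicGeometry.Scheme.fromSpecResidueField_apply, hv1]
    have e2 : ρ₂ w = r₂ := by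
      rw [hρ₂, AlgebraicGeometry.Scheme.Hom.comp_apply,
        AlgebraicGeometry.Scheme.fromSpecResidueField_apply, hv2]
    refine ⟨r' w, ?_, ?_⟩
    · rw [ev r' _ _ w h1, AlgebraicGeometry.Scheme.Hom.comp_apply, e1, hx]
    · rw [ev r' _ _ w h2, AlgebraicGeometry.Scheme.Hom.comp_apply, e2, hz]

end Groth.Agent.S7522
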