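import Groth.Statements.S7527
import Mathlib
import Groth.Agent.Lib.helper4.Spectral

set_option autoImplicit false
universe u
open SpecSp

namespace Groth.Agent.S7527

/-- Let X be a spectral space and x, y ∈ X. Then either there is a third point specializing to both x
and y, or there are disjoint open neighbourhoods of x and of y. -/
theorem result {X : Type u} [TopologicalSpace X] [SpectralSpace X] (x y : X) :
    (∃ z : X, z ⤳ x ∧ z ⤳ y) ∨
    (∃ U V : Set X, IsOpen U ∧ IsOpen V ∧ x ∈ U ∧ y ∈ V ∧ Disjoint U V) := by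
  classical
  by_cases hz : ∃ z : X, z ⤳ x ∧ z ⤳ y
  · exact Or.inl hz
  right
  push Not at hz
  let ι := {U : Set X // IsOpen U ∧ IsCompact U ∧ (x ∈ U ∨ y ∈ U)}
  have hcov : (Set.univ : Set X) ⊆ ⋃ i : ι, (i.1)ᶜ := by
    intro z _
    have hbasis := (PrespectralSpace.isTopologicalBasis (X := X))
    by_cases hzx : z ⤳ x
    · have := hz z hzx
      rw [specializes_iff_forall_open] at this
      push Not at this
      obtain ⟨V, hVo, hyV, hzV⟩ := this
      obtain ⟨U, ⟨hUo, hUc⟩, hyU, hUV⟩ := hbasis.exists_subset_of_mem_open hyV hVo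
      exact Set.mem_iUnion.2 ⟨⟨U, hUo, hUc, Or.inr hyU⟩, fun h => hzV (hUV h)⟩
    · rw [specializes_iff_forall_open] at hzx
      push Not at hzx
      obtain ⟨V, hVo, hxV, hzV⟩ := hzx
      obtain ⟨U, ⟨hUo, hUc⟩, hxU, hUV⟩ := hbasis.exists_subset_of_mem_open hxV hVo
      exact Set.mem_iUnion.2 ⟨⟨U, hUo, hUc, Or.inl hxU⟩, fun h => hzV (hUV h)⟩
  have hcomp : @IsCompact X (constructibleTopology X) Set.univ :=
    (@isCompact_univ_iff X (constructibleTopology X)).2 H4.H4_compactSpace_constr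
  obtain ⟨t, ht⟩ := @IsCompact.elim_finite_subcover X (constructibleTopology X) Set.univ ι hcomp
    (fun i => (i.1)ᶜ)
    (fun i => (H4.H4_isClosed_constr_of_isCompact_isOpen i.2.2.1 i.2.1).isOpen_compl) hcov
  refine ⟨⋂ i ∈ t.filter (fun i : ι => x ∈ i.1), (i : ι).1,
    ⋂ i ∈ t.filter (fun i : ι => y ∈ i.1), (i : ι).1,
    isOpen_biInter_finset fun i _ => i.2.1, isOpen_biInter_finset fun i _ => i.2.1, ?_, ?_, ?_⟩
  · exact Set.mem_iInter₂.2 fun i hi => (Finset.mem_filter.1 hi).2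
  · exact Set.mem_iInter₂.2 fun i hi => (Finset.mem_filter.1 hi).2
  · rw [Set.disjoint_iff]
    rintro z ⟨hzA, hzB⟩
    obtain ⟨i, hi, hzi⟩ := Set.mem_iUnion₂.1 (ht (Set.mem_univ z))
    rcases i.2.2.2 with hxi | hyi
    · exact hzi (Set.mem_iInter₂.1 hzA i (Finset.mem_filter.2 ⟨hi, hxi⟩))
    · exact hzi (Set.mem_iInter₂.1 hzB i (Finset.mem_filter.2 ⟨hi, hyi⟩))

end Groth.Agent.S7527
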