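import Groth.Statements.S7528
import Mathlib
import Groth.Agent.Lib.helper4.Spectral

set_option autoImplicit false
universe u
open SpecSp

namespace Groth.Agent.S7528

/-- For a spectral space X the following are equivalent: (1) X is profinite, i.e. quasi-compact,
Hausdorff and totally disconnected (quasi-compactness being automatic); (2) X is Hausdorff; (3) X is
totally disconnected; (4) every quasi-compact open subset is closed; (5) there are no nontrivial
specializations between points; (6) every point is closed; (7) every point is the generic point of
an irreducible component; (8) the constructible topology coincides with the topology of X. -/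
theorem result (X : Type u) [tX : TopologicalSpace X] [SpectralSpace X] :
    List.TFAE [
      T2Space X ∧ TotallyDisconnectedSpace X,
      T2Space X,
      TotallyDisconnectedSpace X,
      ∀ U : Set X, IsOpen U → IsCompact U → IsClosed U,
      ∀ x y : X, x ⤳ y → x = y,
      ∀ x : X, IsClosed ({x} : Set X),
      ∀ x : X, closure ({x} : Set X) ∈ irreducibleComponents X,
      constructibleTopology X = tX] := by
  have hconstr_t2 : @T2Space X (constructibleTopology X) := H4.H4_t2Space_constr
  tfae_have 1 → 2 := fun h => h.1
  tfae_have 1 → 3 := fun h => h.2
  tfae_have 2 → 6 := fun h x => isClosed_singleton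
  tfae_have 6 → 5 := by
    intro h x y hxy
    have : y ∈ closure {x} := hxy.mem_closure
    rw [(h x).closure_eq] at this
    exact this.symm
  tfae_have 3 → 5 := by
    intro h x y hxy
    have hpre : IsPreconnected ({x, y} : Set X) := by
      refine (isPreconnected_singleton (x := x)).subset_closure (by simp) ?_
      intro z hz
      rcases hz with rfl | rfl
      · exact subset_closure rfl
      · exact hxy.mem_closure
    have := h.isTotallyDisconnected_univ _ (Set.subset_univ _) hpre
    exact this (by simp) (by simp)
  tfae_have 5 → 4 := by
    intro h U hUo hUc
    apply H4.H4_isClosed_of_isClosed_constr_of_stable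
      (H4.H4_isClosed_constr_of_isCompact_isOpen hUc hUo)
    intro x y hxy hx
    rwa [← h x y hxy]
  tfae_have 4 → 8 := by
    intro h
    apply le_antisymm H4.H4_constr_le
    apply le_generateFrom
    rintro s (⟨hso, hsc⟩ | ⟨hscl, hsc⟩)
    · exact hso
    · have := h _ hscl.isOpen_compl hsc
      simpa using this.isOpen_compl
  tfae_have 8 → 1 := by
    intro h
    have h2 : T2Space X := by
      have := hconstr_t2
      rwa [h] at this
    refine ⟨h2, ?_⟩
    have : TotallySeparatedSpace X := inferInstance
    infer_instance
  tfae_have 5 → 7 := by
    intro h x
    refine ⟨isIrreducible_singleton.closure, fun Z hZ hxZ => ?_⟩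
    obtain ⟨η, hη⟩ := QuasiSober.sober hZ.closure isClosed_closure
    have hηx : η ⤳ x := hη.specializes (subset_closure (hxZ (subset_closure rfl)))
    have := h η x hηx
    subst this
    rw [hη.def]
    exact subset_closure
  tfae_have 7 → 5 := by
    intro h x y hxy
    have hsub : closure {y} ⊆ closure {x} := hxy.closure_subset
    have := (h y).2 isIrreducible_singleton.closure hsub
    have heq : closure {x} = closure ({y} : Set X) := le_antisymm this hsub
    have hyx : y ⤳ x := by
      rw [specializes_iff_closure_subset, heq]
    exact (hxy.antisymm hyx).eq
  tfae_finish

end Groth.Agent.S7528
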