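import Groth.Statements.S7529
import Mathlib
import Groth.Agent.Lib.helper4.Spectral

set_option autoImplicit false
universe u
open SpecSp

namespace Groth.Agent.S7529

/-- The product X × Y of two spectral spaces X and Y is a spectral space. -/
theorem result (X Y : Type u) [TopologicalSpace X] [TopologicalSpace Y]
    [SpectralSpace X] [SpectralSpace Y] : SpectralSpace (X × Y) := by
  let ι := {U : Set X // IsOpen U ∧ IsCompact U} × {V : Set Y // IsOpen V ∧ IsCompact V}
  let b : ι → Set (X × Y) := fun p => p.1.1 ×ˢ p.2.1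
  have hbasis : TopologicalSpace.IsTopologicalBasis (Set.range b) := by
    have := (PrespectralSpace.isTopologicalBasis (X := X)).prod
      (PrespectralSpace.isTopologicalBasis (X := Y))
    convert this using 1
    ext s
    constructor
    · rintro ⟨⟨U, V⟩, rfl⟩
      exact ⟨U.1, U.2, V.1, V.2, rfl⟩
    · rintro ⟨U, hU, V, hV, rfl⟩
      exact ⟨⟨⟨U, hU⟩, ⟨V, hV⟩⟩, rfl⟩
  have h2 : PrespectralSpace (X × Y) :=
    PrespectralSpace.of_isTopologicalBasis' hbasis fun p => p.1.2.2.prod p.2.2.2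
  have h3 : QuasiSeparatedSpace (X × Y) := by
    refine QuasiSeparatedSpace.of_isTopologicalBasis hbasis fun p q => ?_
    have : b p ∩ b q = (p.1.1 ∩ q.1.1) ×ˢ (p.2.1 ∩ q.2.1) := Set.prod_inter_prod
    rw [this]
    exact (p.1.2.2.inter_of_isOpen q.1.2.2 p.1.2.1 q.1.2.1).prod
      (p.2.2.2.inter_of_isOpen q.2.2.2 p.2.2.1 q.2.2.1)
  have h4 : QuasiSober (X × Y) := by
    refine ⟨fun {S} hS hSc => ?_⟩
    have hirr1 : IsIrreducible (closure (Prod.fst '' S)) :=
      (hS.image _ continuous_fst.continuousOn).closure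
    have hirr2 : IsIrreducible (closure (Prod.snd '' S)) :=
      (hS.image _ continuous_snd.continuousOn).closure
    obtain ⟨ξ, hξ⟩ := QuasiSober.sober hirr1 isClosed_closure
    obtain ⟨η, hη⟩ := QuasiSober.sober hirr2 isClosed_closure
    refine ⟨(ξ, η), ?_⟩
    rw [isGenericPoint_def]
    have hmem : (ξ, η) ∈ S := by
      rw [← hSc.closure_eq, mem_closure_iff_nhds_basis (nhds_basis_opens (ξ, η))]
      rintro W ⟨hW, hWo⟩
      obtain ⟨U, V, hU, hV, hξU, hηV, hUV⟩ := isOpen_prod_iff.1 hWo ξ η hW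
      obtain ⟨x, hxU, ⟨p, hpS, rfl⟩⟩ := mem_closure_iff.1 hξ.mem U hU hξU
      obtain ⟨y, hyV, ⟨q, hqS, rfl⟩⟩ := mem_closure_iff.1 hη.mem V hV hηV
      obtain ⟨z, hzS, hz1, hz2⟩ := hS.2 (Prod.fst ⁻¹' U) (Prod.snd ⁻¹' V)
        (hU.preimage continuous_fst) (hV.preimage continuous_snd) ⟨p, hpS, hxU⟩ ⟨q, hqS, hyV⟩
      exact ⟨z, hzS, hUV ⟨hz1, hz2⟩⟩
    apply le_antisymm
    · exact closure_minimal (Set.singleton_subset_iff.2 hmem) hSc
    · intro z hz
      rw [← Set.singleton_prod_singleton, closure_prod_eq]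
      refine ⟨?_, ?_⟩
      · rw [hξ.def]; exact subset_closure ⟨z, hz, rfl⟩
      · rw [hη.def]; exact subset_closure ⟨z, hz, rfl⟩
  exact { }

end Groth.Agent.S7529
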