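import Groth.Statements.S7532
import Mathlib
import Groth.Agent.Lib.helper4.PiProp

set_option autoImplicit false
universe u
open SpecSp

namespace Groth.Agent.S7532

/-- Let W be the two-point space with one closed and one non-closed point (here the Sierpiński topology
on Prop). A topological space X is spectral exactly when, for some index type I, X admits a
topological embedding into the power W^I whose image is a closed set for the constructible topology
on W^I. -/
theorem result (X : Type u) [TopologicalSpace X] :
    SpectralSpace X ↔ ∃ (I : Type u) (f : X → (I → Prop)),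
      Topology.IsEmbedding f ∧ @IsClosed (I → Prop) (constructibleTopology (I → Prop)) (Set.range f) := by
  classical
  constructor
  · intro hX
    let I : Type u := {U : Set X // IsOpen U ∧ IsCompact U}
    let f : X → (I → Prop) := fun x U => x ∈ U.1
    have hcont : Continuous f := by
      refine continuous_pi fun U => ?_
      rw [continuous_Prop]
      exact U.2.1
    have hinj : Function.Injective f := by
      intro x y hxy
      by_contra hne
      obtain ⟨U, hUo, hUc, hU⟩ := H4.H4_exists_compact_open_sep hne
      have := congrFun hxy ⟨U, hUo, hUc⟩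
      simp only [f, eq_iff_iff] at this
      tauto
    have hind : Topology.IsInducing f := by
      refine ⟨le_antisymm (continuous_iff_le_induced.1 hcont) ?_⟩
      rw [(PrespectralSpace.isTopologicalBasis (X := X)).eq_generateFrom]
      refine le_generateFrom ?_
      rintro U ⟨hUo, hUc⟩
      refine ⟨(fun p : I → Prop => p ⟨U, hUo, hUc⟩) ⁻¹' {True}, ?_, ?_⟩
      · have hci : Continuous (fun p : I → Prop => p ⟨U, hUo, hUc⟩) := continuous_apply _
        exact isOpen_singleton_true.preimage hci
      · ext x; simp [f]
    have hfin : ∀ S : Finset I, IsOpen (⋂ U ∈ S, (U : I).1) ∧ IsCompact (⋂ U ∈ S, (U : I).1) := by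
      intro S
      induction S using Finset.induction_on with
      | empty => simpa using isCompact_univ
      | insert a S ha ih =>
        rw [Finset.set_biInter_insert]
        exact ⟨a.2.1.inter ih.1, QuasiSeparatedSpace.inter_isCompact _ _ a.2.1 a.2.2 ih.1 ih.2⟩
    have hspec : IsSpectralMap f := by
      refine ⟨hcont, fun s hso hsc => ?_⟩
      obtain ⟨T, hT, rfl⟩ := (isCompact_open_iff_eq_finite_iUnion_of_isTopologicalBasis
        (H4.H4_piB (I := I)) H4.H4_piB_basis H4.H4_piB_isCompact s).1 ⟨hsc, hso⟩
      rw [Set.preimage_iUnion₂]
      refine hT.isCompact_biUnion fun S _ => ?_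
      have : f ⁻¹' H4.H4_piB S = ⋂ U ∈ S, (U : I).1 := by
        ext x; simp [f, H4.H4_piB]
      rw [this]
      exact (hfin S).2
    refine ⟨I, f, ⟨hind, hinj⟩, ?_⟩
    rw [← Set.image_univ]
    exact H4.H4_isClosed_constr_image hspec (@isClosed_univ X (constructibleTopology X))
  · rintro ⟨I, f, hf, hcl⟩
    have h1 : SpectralSpace (Set.range f) := H4.H4_spectralSpace_of_isClosed_constr hcl
    let e : X ≃ₜ Set.range f := hf.toHomeomorph
    have : CompactSpace X := e.symm.compactSpace
    exact e.isOpenEmbedding.spectralSpace

end Groth.Agent.S7532
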