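import Groth.Statements.S7535
import Mathlib
import Groth.Agent.Lib.helper4.SpecLimit

set_option autoImplicit false
universe u
open CategoryTheory CategoryTheory.Limits
open SpecSp

namespace Groth.Agent.S7535

/-- Let j ↦ X_j be a cofiltered diagram of spectral spaces with spectral transition maps f_a, X its
limit with projections p_j, i an object, and E, F ⊆ X_i subsets, E constructibly closed and F
constructibly open in X_i. The inclusion p_i⁻¹(E) ⊆ p_i⁻¹(F) holds exactly when some morphism a : j
→ i already gives f_a⁻¹(E) ⊆ f_a⁻¹(F). -/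
theorem result {J : Type u} [SmallCategory J] [IsCofiltered J] (F : J ⥤ TopCat.{u})
    (hF : ∀ j, SpectralSpace (F.obj j))
    (hFm : ∀ {i j : J} (a : i ⟶ j), IsSpectralMap (F.map a : F.obj i → F.obj j))
    (c : Cone F) (hc : IsLimit c)
    (i : J) (E F' : Set (F.obj i)) (hE : @IsClosed (F.obj i) (constructibleTopology (F.obj i)) E)
    (hF' : @IsOpen (F.obj i) (constructibleTopology (F.obj i)) F') :
    (c.π.app i ⁻¹' E ⊆ c.π.app i ⁻¹' F') ↔ ∃ (j : J) (a : j ⟶ i), F.map a ⁻¹' E ⊆ F.map a ⁻¹' F' := by
  constructor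
  · intro h
    have hD : @IsClosed (F.obj i) (constructibleTopology (F.obj i)) (E ∩ F'ᶜ) :=
      @IsClosed.inter _ _ _ (constructibleTopology (F.obj i)) hE
        (@IsOpen.isClosed_compl _ (constructibleTopology (F.obj i)) F' hF')
    have hempty : c.π.app i ⁻¹' (E ∩ F'ᶜ) = ∅ := by
      ext x
      simp only [Set.mem_preimage, Set.mem_inter_iff, Set.mem_compl_iff, Set.mem_empty_iff_false,
        iff_false, not_and, not_not]
      intro hx
      exact h hx
    obtain ⟨j, a, ha⟩ := H4.H4_lim_preimage_empty F c hc hF (fun a => hFm a) i _ hD hempty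
    refine ⟨j, a, fun z hz => ?_⟩
    by_contra hz'
    have : z ∈ F.map a ⁻¹' (E ∩ F'ᶜ) := ⟨hz, hz'⟩
    rw [ha] at this
    exact this
  · rintro ⟨j, a, ha⟩ x hx
    have hw : c.π.app i x = F.map a (c.π.app j x) := by
      rw [← c.w a]; rfl
    simp only [Set.mem_preimage] at hx ⊢
    rw [hw] at hx ⊢
    exact ha hx

end Groth.Agent.S7535
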