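import Groth.Statements.S7538
import Mathlib
import Groth.Agent.Lib.helper4.SpecLimit

set_option autoImplicit false
universe u
open CategoryTheory CategoryTheory.Limits
open SpecSp

namespace Groth.Agent.S7538

/-- Let j ↦ X_j be a cofiltered diagram of spectral spaces with spectral transition maps f_a and X its
limit with projections p_j. (1) Any quasi-compact open U ⊆ X is p_i⁻¹(U_i) for some i and some
quasi-compact open U_i ⊆ X_i. (2) If U_i ⊆ X_i and U_j ⊆ X_j are quasi-compact opens with p_i⁻¹(U_i)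
⊆ p_j⁻¹(U_j), there are k and a : k → i, b : k → j with f_a⁻¹(U_i) ⊆ f_b⁻¹(U_j). (3) If U_i and
finitely many U_{l,i} are quasi-compact opens of X_i with p_i⁻¹(U_i) = ⋃_l p_i⁻¹(U_{l,i}), then
f_a⁻¹(U_i) = ⋃_l f_a⁻¹(U_{l,i}) for some a : j → i. (4) The same with intersections. -/
theorem result {J : Type u} [SmallCategory J] [IsCofiltered J] (F : J ⥤ TopCat.{u})
    (hF : ∀ j, SpectralSpace (F.obj j))
    (hFm : ∀ {i j : J} (a : i ⟶ j), IsSpectralMap (F.map a : F.obj i → F.obj j))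
    (c : Cone F) (hc : IsLimit c) :
    (∀ U : Set c.pt, IsOpen U → IsCompact U →
      ∃ (i : J) (Ui : Set (F.obj i)), IsOpen Ui ∧ IsCompact Ui ∧ c.π.app i ⁻¹' Ui = U) ∧
    (∀ (i j : J) (Ui : Set (F.obj i)) (Uj : Set (F.obj j)),
      IsOpen Ui → IsCompact Ui → IsOpen Uj → IsCompact Uj →
      c.π.app i ⁻¹' Ui ⊆ c.π.app j ⁻¹' Uj →
      ∃ (k : J) (a : k ⟶ i) (b : k ⟶ j), F.map a ⁻¹' Ui ⊆ F.map b ⁻¹' Uj) ∧
    (∀ (i : J) (n : ℕ) (Ui : Set (F.obj i)) (V : Fin n → Set (F.obj i)),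
      IsOpen Ui → IsCompact Ui → (∀ l, IsOpen (V l) ∧ IsCompact (V l)) →
      (c.π.app i ⁻¹' Ui = ⋃ l, c.π.app i ⁻¹' V l →
        ∃ (j : J) (a : j ⟶ i), F.map a ⁻¹' Ui = ⋃ l, F.map a ⁻¹' V l) ∧
      (c.π.app i ⁻¹' Ui = ⋂ l, c.π.app i ⁻¹' V l →
        ∃ (j : J) (a : j ⟶ i), F.map a ⁻¹' Ui = ⋂ l, F.map a ⁻¹' V l)) := by
  classical
  have hFm' : ∀ {i j : J} (a : i ⟶ j), IsSpectralMap (F.map a : F.obj i → F.obj j) := fun a => hFm a
  have hw : ∀ {k j : J} (a : k ⟶ j) (x : c.pt), c.π.app j x = F.map a (c.π.app k x) := by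
    intro k j a x
    rw [← c.w a]; rfl
  refine ⟨?_, ?_, ?_⟩
  · intro U hUo hUc
    have hbasis := H4.H4_lim_basis F c hc hF hFm'
    obtain ⟨S, hS, rfl⟩ := hbasis.open_eq_sUnion hUo
    obtain ⟨t, ht⟩ := hUc.elim_finite_subcover (fun s : S => s.1)
      (fun s => hbasis.isOpen (hS s.2)) (by rw [Set.sUnion_eq_iUnion])
    have hUeq : ⋃₀ S = ⋃ s ∈ t, (s : S).1 := by
      apply le_antisymm ht
      intro z hz
      obtain ⟨s, _, hzs⟩ := Set.mem_iUnion₂.1 hz
      exact ⟨s.1, s.2, hzs⟩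
    rw [hUeq]
    clear ht hUeq hUc hUo
    induction t using Finset.induction_on with
    | empty =>
      obtain ⟨i⟩ := IsCofiltered.nonempty (C := J)
      exact ⟨i, ∅, isOpen_empty, isCompact_empty, by simp⟩
    | insert s t _ ih =>
      obtain ⟨i, Ui, hUio, hUic, hUi⟩ := ih
      obtain ⟨j, V, ⟨hVo, hVc⟩, hV⟩ := hS s.2
      refine ⟨IsCofiltered.min i j,
        F.map (IsCofiltered.minToLeft i j) ⁻¹' Ui ∪ F.map (IsCofiltered.minToRight i j) ⁻¹' V,
        ?_, ?_, ?_⟩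
      · exact (hUio.preimage (hFm' _).continuous).union (hVo.preimage (hFm' _).continuous)
      · exact ((hFm' _).isCompact_preimage_of_isOpen hUio hUic).union
          ((hFm' _).isCompact_preimage_of_isOpen hVo hVc)
      · rw [Finset.set_biUnion_insert, hV, ← hUi]
        ext x
        simp only [Set.mem_preimage, Set.mem_union]
        rw [hw (IsCofiltered.minToLeft i j) x, hw (IsCofiltered.minToRight i j) x]
        tauto
  · intro i j Ui Uj hUio hUic hUjo hUjc hsub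
    let l := IsCofiltered.min i j
    let a₀ : l ⟶ i := IsCofiltered.minToLeft i j
    let b₀ : l ⟶ j := IsCofiltered.minToRight i j
    have hA : @IsClopen (F.obj l) (constructibleTopology (F.obj l)) (F.map a₀ ⁻¹' Ui) :=
      H4.H4_isClopen_constr_of_isCompact_isOpen (hUio.preimage (hFm' _).continuous)
        ((hFm' _).isCompact_preimage_of_isOpen hUio hUic)
    have hB : @IsClopen (F.obj l) (constructibleTopology (F.obj l)) (F.map b₀ ⁻¹' Uj) :=
      H4.H4_isClopen_constr_of_isCompact_isOpen (hUjo.preimage (hFm' _).continuous)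
        ((hFm' _).isCompact_preimage_of_isOpen hUjo hUjc)
    have hAB := @IsClopen.inter _ (constructibleTopology (F.obj l)) _ _ hA hB
    have h : c.π.app l ⁻¹' (F.map a₀ ⁻¹' Ui) = c.π.app l ⁻¹' (F.map a₀ ⁻¹' Ui ∩ F.map b₀ ⁻¹' Uj) := by
      ext x
      have := @hsub x
      simp only [Set.mem_preimage, Set.mem_inter_iff] at this ⊢
      rw [← hw a₀ x, ← hw b₀ x]
      tauto
    obtain ⟨k, e, he⟩ := H4.H4_lim_preimage_eq F c hc hF hFm' l _ _ hA hAB h
    refine ⟨k, e ≫ a₀, e ≫ b₀, ?_⟩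
    intro z hz
    have hz' : z ∈ F.map e ⁻¹' (F.map a₀ ⁻¹' Ui) := by
      simp only [Set.mem_preimage, F.map_comp] at hz ⊢
      exact hz
    rw [he] at hz'
    simp only [Set.mem_preimage, F.map_comp]
    exact hz'.2
  · intro i n Ui V hUio hUic hV
    have hA : @IsClopen (F.obj i) (constructibleTopology (F.obj i)) Ui :=
      H4.H4_isClopen_constr_of_isCompact_isOpen hUio hUic
    have hVcl : ∀ l, @IsClopen (F.obj i) (constructibleTopology (F.obj i)) (V l) := fun l =>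
      H4.H4_isClopen_constr_of_isCompact_isOpen (hV l).1 (hV l).2
    constructor
    · intro h
      have hB : @IsClopen (F.obj i) (constructibleTopology (F.obj i)) (⋃ l, V l) :=
        @isClopen_iUnion_of_finite _ (constructibleTopology (F.obj i)) _ _ _ hVcl
      have h' : c.π.app i ⁻¹' Ui = c.π.app i ⁻¹' (⋃ l, V l) := by
        rw [h, Set.preimage_iUnion]
      obtain ⟨j, a, ha⟩ := H4.H4_lim_preimage_eq F c hc hF hFm' i _ _ hA hB h'
      exact ⟨j, a, by rw [ha, Set.preimage_iUnion]⟩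
    · intro h
      have hB : @IsClopen (F.obj i) (constructibleTopology (F.obj i)) (⋂ l, V l) :=
        @isClopen_iInter_of_finite _ (constructibleTopology (F.obj i)) _ _ _ hVcl
      have h' : c.π.app i ⁻¹' Ui = c.π.app i ⁻¹' (⋂ l, V l) := by
        rw [h, Set.preimage_iInter]
      obtain ⟨j, a, ha⟩ := H4.H4_lim_preimage_eq F c hc hF hFm' i _ _ hA hB h'
      exact ⟨j, a, by rw [ha, Set.preimage_iInter]⟩

end Groth.Agent.S7538
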