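import Groth.Statements.S7536
import Mathlib
import Groth.Agent.Lib.helper4.SpecLimit
import Groth.Agent.S7538

set_option autoImplicit false
universe u
open CategoryTheory CategoryTheory.Limits
open SpecSp

namespace Groth.Agent.S7536

/-- Let j ↦ X_j be a cofiltered diagram of spectral spaces with spectral transition maps and X its limit
with projections p_j. For every constructible E ⊆ X there are an object i and a constructible E_i ⊆
X_i with p_i⁻¹(E_i) = E; if E is open, resp. closed, then E_i may be chosen open, resp. closed. -/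
theorem result {J : Type u} [SmallCategory J] [IsCofiltered J] (F : J ⥤ TopCat.{u})
    (hF : ∀ j, SpectralSpace (F.obj j))
    (hFm : ∀ {i j : J} (a : i ⟶ j), IsSpectralMap (F.map a : F.obj i → F.obj j))
    (c : Cone F) (hc : IsLimit c)
    (E : Set c.pt) (hE : Topology.IsConstructible E) :
    (∃ (i : J) (Ei : Set (F.obj i)), Topology.IsConstructible Ei ∧ c.π.app i ⁻¹' Ei = E) ∧
    (IsOpen E → ∃ (i : J) (Ei : Set (F.obj i)), Topology.IsConstructible Ei ∧ IsOpen Ei ∧ c.π.app i ⁻¹' Ei = E) ∧
    (IsClosed E → ∃ (i : J) (Ei : Set (F.obj i)), Topology.IsConstructible Ei ∧ IsClosed Ei ∧ c.π.app i ⁻¹' Ei = E) := by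
  classical
  have hFm' : ∀ {i j : J} (a : i ⟶ j), IsSpectralMap (F.map a : F.obj i → F.obj j) := fun a => hFm a
  have hw : ∀ {k j : J} (a : k ⟶ j) (x : c.pt), c.π.app j x = F.map a (c.π.app k x) := by
    intro k j a x
    rw [← c.w a]; rfl
  haveI : SpectralSpace c.pt := H4.H4_lim_spectralSpace F c hc hF hFm'
  have h1 := (Groth.Agent.S7538.result F hF hFm c hc).1
  have hpre : ∀ {i j : J} (a : i ⟶ j) (s : Set (F.obj j)), Topology.IsConstructible s →
      Topology.IsConstructible (F.map a ⁻¹' s) := by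
    intro i j a s hs
    refine hs.preimage (hFm' a).continuous fun t hto htr => ?_
    exact ((hFm' a).isCompact_preimage_of_isOpen hto htr.isCompact).isRetrocompact
      (hto.preimage (hFm' a).continuous)
  have hopen : ∀ E : Set c.pt, Topology.IsConstructible E → IsOpen E →
      ∃ (i : J) (Ei : Set (F.obj i)), Topology.IsConstructible Ei ∧ IsOpen Ei ∧
        c.π.app i ⁻¹' Ei = E := by
    intro E hE hEo
    have hEc : IsCompact E :=
      H4.H4_isCompact_of_isClosed_constr (H4.H4_isClopen_constr_of_isConstructible hE).1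
    obtain ⟨i, Ui, hUio, hUic, hUi⟩ := h1 E hEo hEc
    exact ⟨i, Ui, hUic.isConstructible hUio, hUio, hUi⟩
  refine ⟨?_, hopen E hE, ?_⟩
  · induction hE using Topology.IsConstructible.empty_union_induction with
    | open_retrocompact U hUo hUr =>
      obtain ⟨i, Ui, hUio, hUic, hUi⟩ := h1 U hUo hUr.isCompact
      exact ⟨i, Ui, hUic.isConstructible hUio, hUi⟩
    | union s hs t ht hs' ht' =>
      obtain ⟨i, Ei, hEi, rfl⟩ := hs'
      obtain ⟨j, Ej, hEj, rfl⟩ := ht'
      refine ⟨IsCofiltered.min i j,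
        F.map (IsCofiltered.minToLeft i j) ⁻¹' Ei ∪ F.map (IsCofiltered.minToRight i j) ⁻¹' Ej,
        (hpre _ _ hEi).union (hpre _ _ hEj), ?_⟩
      ext x
      simp only [Set.mem_preimage, Set.mem_union]
      rw [hw (IsCofiltered.minToLeft i j) x, hw (IsCofiltered.minToRight i j) x]
    | compl s hs hs' =>
      obtain ⟨i, Ei, hEi, rfl⟩ := hs'
      exact ⟨i, Eiᶜ, hEi.compl, rfl⟩
  · intro hEcl
    obtain ⟨i, Ei, hEi, hEio, h⟩ := hopen Eᶜ hE.compl hEcl.isOpen_compl
    refine ⟨i, Eiᶜ, hEi.compl, hEio.isClosed_compl, ?_⟩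
    rw [Set.preimage_compl, h, compl_compl]

end Groth.Agent.S7536
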