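import Groth.Statements.S7539
import Mathlib
import Groth.Agent.Lib.helper4.Spectral

set_option autoImplicit false
universe u
open SpecSp

namespace Groth.Agent.S7539

/-- For a subset W of a spectral space X, these five conditions coincide: (1) W can be written as an
intersection of constructible subsets and is stable under generalization; (2) W is quasi-compact and
stable under generalization; (3) for some quasi-compact E ⊆ X, W consists exactly of the points that
specialize to a point of E; (4) W is the intersection of some family of quasi-compact opens; (5)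
there are a nonempty index set I and quasi-compact opens U_i with W = ⋂ U_i such that for all i, j
some U_k is contained in U_i ∩ U_j. -/
theorem result {X : Type u} [TopologicalSpace X] [SpectralSpace X] (W : Set X) :
    List.TFAE [
      (∃ S : Set (Set X), (∀ s ∈ S, Topology.IsConstructible s) ∧ W = ⋂₀ S) ∧ StableUnderGeneralization W,
      IsCompact W ∧ StableUnderGeneralization W,
      ∃ E : Set X, IsCompact E ∧ W = {x | ∃ e ∈ E, x ⤳ e},
      ∃ S : Set (Set X), (∀ s ∈ S, IsOpen s ∧ IsCompact s) ∧ W = ⋂₀ S,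
      ∃ (I : Type u) (_ : Nonempty I) (U : I → Set X), (∀ i, IsOpen (U i) ∧ IsCompact (U i)) ∧
        W = ⋂ i, U i ∧ ∀ i j, ∃ k, U k ⊆ U i ∩ U j] := by
  classical
  tfae_have 1 → 2 := by
    rintro ⟨⟨S, hS, rfl⟩, hg⟩
    refine ⟨H4.H4_isCompact_of_isClosed_constr ?_, hg⟩
    exact @isClosed_sInter X (constructibleTopology X) S fun s hs =>
      (H4.H4_isClopen_constr_of_isConstructible (hS s hs)).1
  tfae_have 2 → 3 := by
    rintro ⟨hc, hg⟩
    refine ⟨W, hc, ?_⟩
    ext x
    constructor
    · intro hx; exact ⟨x, hx, specializes_rfl⟩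
    · rintro ⟨e, he, hxe⟩; exact hg hxe he
  tfae_have 3 → 4 := by
    rintro ⟨E, hE, rfl⟩
    refine ⟨{U | IsOpen U ∧ IsCompact U ∧ {x | ∃ e ∈ E, x ⤳ e} ⊆ U}, fun s hs => ⟨hs.1, hs.2.1⟩, ?_⟩
    apply le_antisymm
    · intro x hx
      exact Set.mem_sInter.2 fun U hU => hU.2.2 hx
    · intro x hx
      by_contra hxW
      simp only [Set.mem_ofPred_eq, not_exists, not_and] at hxW
      have hbasis := (PrespectralSpace.isTopologicalBasis (X := X))
      have : ∀ e ∈ E, ∃ U : Set X, IsOpen U ∧ IsCompact U ∧ e ∈ U ∧ x ∉ U := by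
        intro e he
        have := hxW e he
        rw [specializes_iff_forall_open] at this
        push Not at this
        obtain ⟨V, hVo, heV, hxV⟩ := this
        obtain ⟨U, ⟨hUo, hUc⟩, heU, hUV⟩ := hbasis.exists_subset_of_mem_open heV hVo
        exact ⟨U, hUo, hUc, heU, fun h => hxV (hUV h)⟩
      choose! U hUo hUc heU hxU using this
      obtain ⟨t, ht⟩ := hE.elim_finite_subcover (fun e : E => U e.1) (fun e => hUo e.1 e.2)
        (fun e he => Set.mem_iUnion.2 ⟨⟨e, he⟩, heU e he⟩)
      have hmem : (⋃ e ∈ t, U (e : E).1) ∈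
          {U | IsOpen U ∧ IsCompact U ∧ {x | ∃ e ∈ E, x ⤳ e} ⊆ U} := by
        refine ⟨isOpen_biUnion fun e _ => hUo e.1 e.2, t.isCompact_biUnion fun e _ => hUc e.1 e.2, ?_⟩
        rintro y ⟨e, he, hye⟩
        obtain ⟨e', he', hee'⟩ := Set.mem_iUnion₂.1 (ht he)
        exact Set.mem_iUnion₂.2 ⟨e', he', hye.mem_open (hUo e'.1 e'.2) hee'⟩
      have := Set.mem_sInter.1 hx _ hmem
      obtain ⟨e, _, hxe⟩ := Set.mem_iUnion₂.1 this
      exact hxU e.1 e.2 hxe
  tfae_have 4 → 5 := by
    rintro ⟨S, hS, rfl⟩
    refine ⟨Finset S, ⟨∅⟩, fun t => ⋂ i ∈ t, (i : S).1, fun t => ⟨?_, ?_⟩, ?_, ?_⟩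
    · exact isOpen_biInter_finset fun i _ => (hS i.1 i.2).1
    · induction t using Finset.induction_on with
      | empty => simpa using isCompact_univ
      | insert a s _ ih =>
        simp only [Finset.set_biInter_insert] at ih ⊢
        exact (hS a.1 a.2).2.inter_of_isOpen ih (hS a.1 a.2).1
          (isOpen_biInter_finset fun i _ => (hS i.1 i.2).1)
    · ext x
      simp only [Set.mem_sInter, Set.mem_iInter]
      constructor
      · intro h t i _; exact h i.1 i.2
      · intro h s hs
        exact h {⟨s, hs⟩} ⟨s, hs⟩ (Finset.mem_singleton_self _)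
    · intro s t
      refine ⟨s ∪ t, ?_⟩
      intro x hx
      simp only [Set.mem_iInter, Set.mem_inter_iff] at hx ⊢
      exact ⟨fun i hi => hx i (Finset.mem_union_left _ hi),
        fun i hi => hx i (Finset.mem_union_right _ hi)⟩
  tfae_have 5 → 1 := by
    rintro ⟨I, _, U, hU, rfl, _⟩
    refine ⟨⟨Set.range U, ?_, (Set.sInter_range U).symm⟩, ?_⟩
    · rintro _ ⟨i, rfl⟩
      exact (hU i).2.isConstructible (hU i).1
    · exact stableUnderGeneralization_iInter _ fun i => (hU i).1.stableUnderGeneralization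
  tfae_finish

end Groth.Agent.S7539
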