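import Groth.Statements.S7540
import Mathlib
import Groth.Agent.Lib.helper4.Spectral

set_option autoImplicit false
universe u
open SpecSp

namespace Groth.Agent.S7540

/-- Let X be a spectral space, I a nonempty index set and U_i ⊆ X quasi-compact opens such that for all
i, j some U_k lies in U_i ∩ U_j; put W = ⋂ U_i. Then every open subset of X containing W contains
some U_i. The published statement also asserts that W is spectral and is the limit of the U_i; this
row states the neighbourhood property. -/
theorem result {X : Type u} [TopologicalSpace X] [SpectralSpace X]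
    {I : Type u} [Nonempty I] (U : I → Set X) (hU : ∀ i, IsOpen (U i) ∧ IsCompact (U i))
    (hdir : ∀ i j, ∃ k, U k ⊆ U i ∩ U j) :
    ∀ V : Set X, IsOpen V → (⋂ i, U i) ⊆ V → ∃ i, U i ⊆ V := by
  classical
  intro V hVo hWV
  have hdirfin : ∀ t : Finset I, ∃ k, ∀ i ∈ t, U k ⊆ U i := by
    intro t
    induction t using Finset.induction_on with
    | empty => exact ⟨Classical.arbitrary I, by simp⟩
    | insert a s _ ih =>
      obtain ⟨k, hk⟩ := ih
      obtain ⟨l, hl⟩ := hdir k a
      refine ⟨l, fun i hi => ?_⟩
      rcases Finset.mem_insert.1 hi with rfl | hi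
      · exact hl.trans Set.inter_subset_right
      · exact (hl.trans Set.inter_subset_left).trans (hk i hi)
  have hVc : @IsCompact X (constructibleTopology X) Vᶜ :=
    @IsClosed.isCompact X (constructibleTopology X) Vᶜ H4.H4_compactSpace_constr
      (H4.H4_isClosed_constr_of_isClosed hVo.isClosed_compl)
  have hcov : Vᶜ ⊆ ⋃ i, (U i)ᶜ := by
    intro z hz
    by_contra h
    simp only [Set.mem_iUnion, Set.mem_compl_iff, not_exists, not_not] at h
    exact hz (hWV (Set.mem_iInter.2 h))
  obtain ⟨t, ht⟩ := @IsCompact.elim_finite_subcover X (constructibleTopology X) Vᶜ I hVc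
    (fun i => (U i)ᶜ)
    (fun i => (H4.H4_isClosed_constr_of_isCompact_isOpen (hU i).2 (hU i).1).isOpen_compl) hcov
  obtain ⟨k, hk⟩ := hdirfin t
  refine ⟨k, fun z hz => ?_⟩
  by_contra hzV
  obtain ⟨i, hi, hzi⟩ := Set.mem_iUnion₂.1 (ht hzV)
  exact hzi (hk i hi hz)

end Groth.Agent.S7540
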