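import Groth.Statements.S7541
import Mathlib
import Groth.Agent.Lib.helper4.Spectral
import Groth.Agent.S7539

set_option autoImplicit false
universe u
open SpecSp

namespace Groth.Agent.S7541

/-- Let X be a spectral space, E ⊆ X a constructible subset and W the set of points of X that specialize
to a point of E. Then the subspace W minus E is a spectral space. (The description of W minus E as a
limit of the U_i minus E is not recorded here.) -/
theorem result {X : Type u} [TopologicalSpace X] [SpectralSpace X]
    (E : Set X) (hE : Topology.IsConstructible E) :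
    SpectralSpace ↥({x : X | ∃ e ∈ E, x ⤳ e} \ E) := by
  have hEcl := H4.H4_isClopen_constr_of_isConstructible hE
  have hEc : IsCompact E := H4.H4_isCompact_of_isClosed_constr hEcl.1
  have h34 := (Groth.Agent.S7539.result {x : X | ∃ e ∈ E, x ⤳ e}).out 2 3
  obtain ⟨S, hS, hWS⟩ := h34.1 ⟨E, hEc, rfl⟩
  apply H4.H4_spectralSpace_of_isClosed_constr
  rw [Set.diff_eq, hWS]
  refine @IsClosed.inter X _ _ (constructibleTopology X) ?_ ?_
  · exact @isClosed_sInter X (constructibleTopology X) S fun s hs =>
      H4.H4_isClosed_constr_of_isCompact_isOpen (hS s hs).2 (hS s hs).1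
  · exact @IsOpen.isClosed_compl X (constructibleTopology X) E hEcl.2

end Groth.Agent.S7541
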