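import Groth.Statements.S7544
import Mathlib

set_option autoImplicit false
universe u
open ConstrTop

namespace Groth.Agent.S7544

/-- Let X be a quasi-compact topological space whose quasi-compact opens form a basis and are closed
under pairwise intersection. Take T ⊆ X to be locally closed, quasi-compact, and with retrocompact
complement. Then T is constructible in X. -/
theorem result {X : Type u} [TopologicalSpace X]
    [CompactSpace X] [PrespectralSpace X] [QuasiSeparatedSpace X]
    (T : Set X) (hT : IsLocallyClosed T) (hTc : IsCompact T) (hTr : IsRetrocompact Tᶜ) :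
    Topology.IsConstructible T := by
  obtain ⟨U, Z, hU, hZ, rfl⟩ := hT
  obtain ⟨K, hKc, hKo, hTK, hKU⟩ :=
    PrespectralSpace.exists_isCompact_and_isOpen_between hTc hU Set.inter_subset_left
  have h1 : (U ∩ Z)ᶜ ∩ K = K ∩ Zᶜ := by
    ext x
    simp only [Set.mem_inter_iff, Set.mem_compl_iff]
    constructor
    · rintro ⟨h, hK⟩
      exact ⟨hK, fun hz => h ⟨hKU hK, hz⟩⟩
    · rintro ⟨hK, hz⟩
      exact ⟨fun h => hz h.2, hK⟩
  have h2 : IsCompact (K ∩ Zᶜ) := h1 ▸ hTr hKc hKo
  have h3 : IsOpen (K ∩ Zᶜ) := hKo.inter hZ.isOpen_compl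
  have h4 : U ∩ Z = K \ (K ∩ Zᶜ) := by
    ext x
    simp only [Set.mem_inter_iff, Set.mem_sdiff, Set.mem_compl_iff]
    constructor
    · intro h
      exact ⟨hTK h, fun h' => h'.2 h.2⟩
    · rintro ⟨hK, h⟩
      refine ⟨hKU hK, ?_⟩
      by_contra hz
      exact h ⟨hK, hz⟩
  rw [h4]
  exact (hKc.isConstructible hKo).sdiff (h2.isConstructible h3)

end Groth.Agent.S7544
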