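import Groth.Statements.S7545
import Mathlib
import Groth.Agent.Lib.helper4.Constr

set_option autoImplicit false
universe u
open ConstrTop

namespace Groth.Agent.S7545

/-- Let X be a topological space in which every open set is a union of quasi-compact opens, and suppose
X is the union of finitely many constructible subsets E_1, …, E_m. A subset E ⊆ X is constructible
exactly when, for each j, the trace E ∩ E_j is a constructible subset of the subspace E_j. -/
theorem result {X : Type u} [TopologicalSpace X] [PrespectralSpace X]
    {m : ℕ} (C : Fin m → Set X) (hC : ∀ j, Topology.IsConstructible (C j)) (hcov : ⋃ j, C j = Set.univ)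
    (E : Set X) :
    Topology.IsConstructible E ↔ ∀ j, Topology.IsConstructible ((Subtype.val : C j → X) ⁻¹' E) := by
  constructor
  · intro hE j
    have hTs : IsSpectralMap (Subtype.val : C j → X) :=
      IsRetrocompact_iff_isSpectralMap_subtypeVal.1 (H4.H4_isRetrocompact_of_isConstructible (hC j))
    refine hE.preimage continuous_subtype_val ?_
    intro s hso hsr V hVc hVo
    obtain ⟨W, hWo, hWc, rfl⟩ := H4.H4_compact_open_subtype (C j) V hVo hVc
    rw [← Set.preimage_inter]
    exact hTs.isCompact_preimage_of_isOpen (hso.inter hWo) (hsr hWc hWo)
  · intro h
    have : E = ⋃ j, (Subtype.val : C j → X) '' ((Subtype.val : C j → X) ⁻¹' E) := by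
      simp only [Subtype.image_preimage_coe]
      rw [← Set.iUnion_inter, hcov, Set.univ_inter]
    rw [this]
    exact Topology.IsConstructible.iUnion fun j => H4.H4_isConstructible_image_subtype (hC j) (h j)

end Groth.Agent.S7545
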