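import Groth.Statements.S7546
import Mathlib

set_option autoImplicit false
universe u
open ConstrTop

namespace Groth.Agent.S7546

/-- Let X be a topological space, Z ⊆ X irreducible and E ⊆ X a finite union of locally closed subsets
(for instance a constructible set). Then E ∩ Z is dense in Z if and only if E ∩ Z contains a subset
of the form U ∩ Z, U open in X, which is dense in Z. If moreover ξ ∈ Z is a generic point of Z,
these conditions are equivalent to ξ ∈ E. -/
theorem result {X : Type u} [TopologicalSpace X] (Z : Set X) (hZ : IsIrreducible Z)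
    {n : ℕ} (L : Fin n → Set X) (hL : ∀ i, IsLocallyClosed (L i)) (E : Set X) (hE : E = ⋃ i, L i) :
    (Z ⊆ closure (E ∩ Z) ↔ ∃ U : Set X, IsOpen U ∧ U ∩ Z ⊆ E ∧ Z ⊆ closure (U ∩ Z)) ∧
    (∀ ξ : X, ξ ∈ Z → Z ⊆ closure {ξ} → (Z ⊆ closure (E ∩ Z) ↔ ξ ∈ E)) := by
  classical
  have part1 : Z ⊆ closure (E ∩ Z) ↔ ∃ U : Set X, IsOpen U ∧ U ∩ Z ⊆ E ∧ Z ⊆ closure (U ∩ Z) := by
    constructor
    · intro h
      have hEZ : E ∩ Z = ⋃ i, (L i ∩ Z) := by rw [hE, Set.iUnion_inter]
      rw [hEZ, closure_iUnion_of_finite] at h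
      obtain ⟨z, hz, hZz⟩ := (isIrreducible_iff_sUnion_isClosed.1 hZ)
        (Finset.univ.image fun i => closure (L i ∩ Z))
        (by
          intro z hz
          obtain ⟨i, -, rfl⟩ := Finset.mem_image.1 hz
          exact isClosed_closure)
        (by
          intro x hx
          obtain ⟨i, hi⟩ := Set.mem_iUnion.1 (h hx)
          exact Set.mem_sUnion.2 ⟨_, Finset.mem_coe.2 (Finset.mem_image_of_mem _ (Finset.mem_univ i)), hi⟩)
      obtain ⟨i, -, rfl⟩ := Finset.mem_image.1 hz
      obtain ⟨U, C, hU, hC, hLi⟩ := hL i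
      have hZC : Z ⊆ C := by
        refine hZz.trans (closure_minimal ?_ hC)
        rw [hLi]
        exact fun x hx => hx.1.2
      refine ⟨U, hU, ?_, ?_⟩
      · intro x hx
        rw [hE]
        refine Set.mem_iUnion.2 ⟨i, ?_⟩
        rw [hLi]
        exact ⟨hx.1, hZC hx.2⟩
      · refine hZz.trans (closure_mono ?_)
        rw [hLi]
        exact fun x hx => ⟨hx.1.1, hx.2⟩
    · rintro ⟨U, hU, hUE, hZU⟩
      exact hZU.trans (closure_mono fun x hx => ⟨hUE hx, hx.2⟩)
  refine ⟨part1, ?_⟩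
  intro ξ hξZ hξ
  constructor
  · intro h
    obtain ⟨U, hU, hUE, hZU⟩ := part1.1 h
    have : ξ ∈ closure (U ∩ Z) := hZU hξZ
    obtain ⟨z, hzU, hzZ⟩ : (U ∩ Z).Nonempty := by
      by_contra hne
      rw [Set.not_nonempty_iff_eq_empty] at hne
      rw [hne, closure_empty] at this
      exact this
    have hz : z ∈ closure {ξ} := hξ hzZ
    obtain ⟨w, hwU, hw⟩ := mem_closure_iff.1 hz U hU hzU
    rw [Set.mem_singleton_iff] at hw
    subst hw
    exact hUE ⟨hwU, hξZ⟩
  · intro h
    exact hξ.trans (closure_mono (Set.singleton_subset_iff.2 ⟨h, hξZ⟩))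

end Groth.Agent.S7546
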