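import Groth.Statements.S7547
import Mathlib

set_option autoImplicit false
universe u
open PtTop

namespace Groth.Agent.S7547

/-- Let X be a Kolmogorov topological space whose quasi-compact opens form a basis for the topology. If
X is not Jacobson, there is a point x ∈ X which is not closed but such that {x} is locally closed. -/
theorem result {X : Type u} [TopologicalSpace X]
    [T0Space X] [PrespectralSpace X] (hX : ¬ JacobsonSpace X) :
    ∃ x : X, ¬ IsClosed ({x} : Set X) ∧ IsLocallyClosed ({x} : Set X) := by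
  rw [jacobsonSpace_iff_locallyClosed] at hX
  push Not at hX
  obtain ⟨Z, ⟨z, hz⟩, hZl, hZc⟩ := hX
  obtain ⟨U, C, hU, hC, rfl⟩ := hZl
  obtain ⟨K, ⟨hKo, hKc⟩, hzK, hKU⟩ :=
    (PrespectralSpace.isTopologicalBasis (X := X)).exists_subset_of_mem_open hz.1 hU
  have : CompactSpace K := isCompact_iff_compactSpace.1 hKc
  obtain ⟨x, hxS, hx⟩ := IsClosed.exists_closed_singleton (X := K)
    (S := Subtype.val ⁻¹' C) (hC.preimage continuous_subtype_val) ⟨⟨z, hzK⟩, hz.2⟩
  obtain ⟨C', hC', hC'x⟩ := isClosed_induced_iff.1 hx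
  refine ⟨x.1, ?_, ⟨K, C', hKo, hC', ?_⟩⟩
  · intro hcl
    have : x.1 ∈ (U ∩ C) ∩ closedPoints X := ⟨⟨hKU x.2, hxS⟩, hcl⟩
    rw [hZc] at this
    exact this
  · ext y
    constructor
    · intro hy
      rw [Set.mem_singleton_iff] at hy
      subst hy
      refine ⟨x.2, ?_⟩
      have : x ∈ Subtype.val ⁻¹' C' := by rw [hC'x]; rfl
      exact this
    · rintro ⟨hyK, hyC'⟩
      have : (⟨y, hyK⟩ : K) ∈ Subtype.val ⁻¹' C' := hyC'
      rw [hC'x, Set.mem_singleton_iff] at this
      rw [Set.mem_singleton_iff, ← this]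

end Groth.Agent.S7547
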