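import Groth.Statements.S7548
import Mathlib

set_option autoImplicit false
universe u
open PtTop

namespace Groth.Agent.S7548

/-- Let X be a Jacobson space and let T = ⋃ T_i be a union of subsets T_i ⊆ X each locally closed in X
(open, closed, locally closed and constructible subsets are of this form). Then T is Jacobson and
every point of T closed in T is closed in X. -/
theorem result {X : Type u} [TopologicalSpace X] [JacobsonSpace X]
    {ι : Type u} (T : ι → Set X) (hT : ∀ i, IsLocallyClosed (T i)) :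
    JacobsonSpace ↥(⋃ i, T i) ∧
      closedPoints ↥(⋃ i, T i) ⊆ (Subtype.val : ↥(⋃ i, T i) → X) ⁻¹' closedPoints X := by
  have hcl : ∀ t : ↥(⋃ i, T i), IsClosed ({t} : Set ↥(⋃ i, T i)) → IsClosed ({t.1} : Set X) := by
    intro t ht
    obtain ⟨i, hi⟩ := Set.mem_iUnion.1 t.2
    obtain ⟨C, hC, hCt⟩ := isClosed_induced_iff.1 ht
    apply isClosed_singleton_of_isLocallyClosed_singleton
    have : ({t.1} : Set X) = T i ∩ C := by
      ext y
      constructor
      · intro hy
        rw [Set.mem_singleton_iff] at hy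
        subst hy
        refine ⟨hi, ?_⟩
        have : t ∈ Subtype.val ⁻¹' C := by rw [hCt]; rfl
        exact this
      · rintro ⟨hyT, hyC⟩
        have : (⟨y, Set.mem_iUnion.2 ⟨i, hyT⟩⟩ : ↥(⋃ i, T i)) ∈ Subtype.val ⁻¹' C := hyC
        rw [hCt, Set.mem_singleton_iff] at this
        rw [Set.mem_singleton_iff, ← this]
    rw [this]
    exact (hT i).inter hC.isLocallyClosed
  refine ⟨?_, fun t ht => hcl t ht⟩
  rw [jacobsonSpace_iff_locallyClosed]
  rintro Z ⟨z, hz⟩ hZ
  obtain ⟨Z', hZ', rfl⟩ := (Topology.IsInducing.subtypeVal).isLocallyClosed_iff.1 hZ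
  obtain ⟨i, hi⟩ := Set.mem_iUnion.1 z.2
  obtain ⟨x, ⟨hxZ', hxT⟩, hx⟩ := nonempty_inter_closedPoints (Z := Z' ∩ T i) ⟨z.1, hz, hi⟩
    (hZ'.inter (hT i))
  refine ⟨⟨x, Set.mem_iUnion.2 ⟨i, hxT⟩⟩, hxZ', ?_⟩
  exact preimage_closedPoints_subset Subtype.val_injective continuous_subtype_val hx

end Groth.Agent.S7548
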