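import Groth.Statements.S7549
import Mathlib
import Groth.Agent.Lib.helper4.Constr

set_option autoImplicit false
universe u
open PtTop

namespace Groth.Agent.S7549

/-- Let X be a Jacobson space and X₀ ⊆ X the subspace of closed points. (a) For U ⊆ X open, U is
quasi-compact if and only if U ∩ X₀ is quasi-compact, and U is retrocompact in X if and only if U ∩
X₀ is retrocompact in X₀. (b) The rule E ↦ E ∩ X₀ is an inclusion-preserving and
inclusion-reflecting bijection between the constructible subsets of X and the constructible subsets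
of X₀. -/
theorem result {X : Type u} [TopologicalSpace X] [JacobsonSpace X] :
    (∀ U : Set X, IsOpen U →
      (IsCompact U ↔ IsCompact ((Subtype.val : closedPoints X → X) ⁻¹' U)) ∧
      (IsRetrocompact U ↔ IsRetrocompact ((Subtype.val : closedPoints X → X) ⁻¹' U))) ∧
    (∀ E : Set X, Topology.IsConstructible E →
      Topology.IsConstructible ((Subtype.val : closedPoints X → X) ⁻¹' E)) ∧
    (∀ E E' : Set X, Topology.IsConstructible E → Topology.IsConstructible E' →
      ((Subtype.val : closedPoints X → X) ⁻¹' E ⊆ Subtype.val ⁻¹' E' ↔ E ⊆ E')) ∧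
    (∀ F : Set (closedPoints X), Topology.IsConstructible F →
      ∃ E : Set X, Topology.IsConstructible E ∧ (Subtype.val : closedPoints X → X) ⁻¹' E = F) := by
  classical
  set ι : closedPoints X → X := Subtype.val with hι
  have hιc : Continuous ι := continuous_subtype_val
  have L0 : ∀ Z : Set X, IsLocallyClosed Z → ι ⁻¹' Z = ∅ → Z = ∅ := by
    intro Z hZ h
    by_contra hne
    obtain ⟨x, hxZ, hx⟩ := nonempty_inter_closedPoints (Set.nonempty_iff_ne_empty.2 hne) hZ
    have : (⟨x, hx⟩ : closedPoints X) ∈ ι ⁻¹' Z := hxZ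
    rw [h] at this; exact this
  have L1 : ∀ U V : Set X, IsLocallyClosed U → IsOpen V → ι ⁻¹' U ⊆ ι ⁻¹' V → U ⊆ V := by
    intro U V hU hV h
    have := L0 (U \ V) (hU.inter hV.isClosed_compl.isLocallyClosed) (by
      rw [Set.preimage_sdiff]; exact Set.sdiff_eq_empty.2 h)
    exact Set.sdiff_eq_empty.1 this
  have La : ∀ U : Set X, IsOpen U → (IsCompact U ↔ IsCompact (ι ⁻¹' U)) := by
    intro U hU
    constructor
    · intro hc
      rw [isCompact_iff_finite_subcover]
      intro κ W hW hcov
      choose V hVo hV using fun i => isOpen_induced_iff.1 (hW i)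
      have hUV : U ⊆ ⋃ i, V i := by
        apply L1 U _ hU.isLocallyClosed (isOpen_iUnion hVo)
        rw [Set.preimage_iUnion]
        have hWV : (fun i => ι ⁻¹' V i) = W := funext hV
        show ι ⁻¹' U ⊆ ⋃ i, (fun i => ι ⁻¹' V i) i
        rw [hWV]; exact hcov
      obtain ⟨t, ht⟩ := hc.elim_finite_subcover V hVo hUV
      refine ⟨t, ?_⟩
      intro x hx
      have := ht hx
      simp only [Set.mem_iUnion] at this ⊢
      obtain ⟨i, hi, hxi⟩ := this
      exact ⟨i, hi, by rw [← hV i]; exact hxi⟩
    · intro hc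
      rw [isCompact_iff_finite_subcover]
      intro κ V hVo hcov
      obtain ⟨t, ht⟩ := hc.elim_finite_subcover (fun i => ι ⁻¹' V i)
        (fun i => (hVo i).preimage hιc)
        (by rw [← Set.preimage_iUnion]; exact Set.preimage_mono hcov)
      refine ⟨t, ?_⟩
      apply L1 U _ hU.isLocallyClosed (isOpen_biUnion fun i _ => hVo i)
      simpa [Set.preimage_iUnion] using ht
  have Lr : ∀ U : Set X, IsOpen U → (IsRetrocompact U ↔ IsRetrocompact (ι ⁻¹' U)) := by
    intro U hU
    constructor
    · intro hr W hWc hWo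
      obtain ⟨V, hVo, rfl⟩ := isOpen_induced_iff.1 hWo
      have hVc : IsCompact V := (La V hVo).2 hWc
      have := hr hVc hVo
      rw [← Set.preimage_inter]
      exact (La _ (hU.inter hVo)).1 this
    · intro hr V hVc hVo
      have := hr ((La V hVo).1 hVc) (hVo.preimage hιc)
      rw [← Set.preimage_inter] at this
      exact (La _ (hU.inter hVo)).2 this
  have Lc : ∀ E : Set X, Topology.IsConstructible E → Topology.IsConstructible (ι ⁻¹' E) := by
    intro E hE
    exact hE.preimage hιc (fun s hs hsr => (Lr s hs).1 hsr)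
  -- constructible sets with empty trace are empty
  have L0' : ∀ E : Set X, Topology.IsConstructible E → ι ⁻¹' E = ∅ → E = ∅ := by
    intro E hE
    refine H4.H4_constr_induction (P := fun E => ι ⁻¹' E = ∅ → E = ∅) ?_ ?_ hE
    · intro U V hU _ hV _ h
      exact L0 _ (hU.isLocallyClosed.inter hV.isClosed_compl.isLocallyClosed) h
    · intro s t hs ht h
      rw [Set.preimage_union, Set.union_empty_iff] at h
      rw [hs h.1, ht h.2, Set.union_empty]
  refine ⟨fun U hU => ⟨La U hU, Lr U hU⟩, Lc, ?_, ?_⟩
  · intro E E' hE hE'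
    constructor
    · intro h
      have := L0' (E \ E') (hE.sdiff hE') (by
        rw [Set.preimage_sdiff]; exact Set.sdiff_eq_empty.2 h)
      exact Set.sdiff_eq_empty.1 this
    · intro h
      exact Set.preimage_mono h
  · intro F hF
    induction hF using Topology.IsConstructible.empty_union_induction with
    | open_retrocompact W hWo hWr =>
      obtain ⟨V, hVo, rfl⟩ := isOpen_induced_iff.1 hWo
      exact ⟨V, ((Lr V hVo).2 hWr).isConstructible hVo, rfl⟩
    | union s hs t ht hs' ht' =>
      obtain ⟨E₁, h1, rfl⟩ := hs'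
      obtain ⟨E₂, h2, rfl⟩ := ht'
      exact ⟨E₁ ∪ E₂, h1.union h2, Set.preimage_union⟩
    | compl s hs hs' =>
      obtain ⟨E₁, h1, rfl⟩ := hs'
      exact ⟨E₁ᶜ, h1.compl, Set.preimage_compl⟩

end Groth.Agent.S7549
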