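import Groth.Statements.S7550
import Mathlib

set_option autoImplicit false
universe u
open PtTop

namespace Groth.Agent.S7550

/-- Let f : X → Y be a continuous and open map of topological spaces, with X Noetherian, every
irreducible closed subset of X having a generic point, and Y Kolmogorov. Then generalizations lift
along f. (Part (1), closed maps are specializing, is a library fact.) -/
theorem result {X Y : Type u} [TopologicalSpace X] [TopologicalSpace Y]
    [TopologicalSpace.NoetherianSpace X] [QuasiSober X] [T0Space Y]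
    (f : X → Y) (hf : Continuous f) (hfo : IsOpenMap f) :
    GeneralizingMap f := by
  intro x y' hy'
  -- hy' : y' ⤳ f x
  let T : Set X := f ⁻¹' {y'}
  have hxT : x ∈ closure T := by
    rw [mem_closure_iff]
    intro U hU hxU
    have : y' ∈ f '' U := hy'.mem_open (hfo U hU) ⟨x, hxU, rfl⟩
    obtain ⟨x', hx'U, hx'⟩ := this
    exact ⟨x', hx'U, hx'⟩
  let 𝒮 : Set (TopologicalSpace.Closeds X) := {Z | x ∈ Z ∧ (Z : Set X) ⊆ closure ((Z : Set X) ∩ T)}
  have h𝒮 : 𝒮.Nonempty := by
    refine ⟨⟨closure T, isClosed_closure⟩, hxT, ?_⟩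
    change closure T ⊆ closure (closure T ∩ T)
    exact closure_mono fun t ht => ⟨subset_closure ht, ht⟩
  obtain ⟨Z₀, hZ₀, hmin⟩ := (wellFounded_lt (α := TopologicalSpace.Closeds X)).has_min 𝒮 h𝒮
  have hirr : IsIrreducible (Z₀ : Set X) := by
    refine ⟨⟨x, hZ₀.1⟩, ?_⟩
    rw [isPreirreducible_iff_isClosed_union_isClosed]
    intro z₁ z₂ hz₁ hz₂ hsub
    have key : ∀ z : Set X, IsClosed z → x ∈ closure (z ∩ (Z₀ : Set X) ∩ T) → (Z₀ : Set X) ⊆ z := by
      intro z hz hx
      let A : TopologicalSpace.Closeds X := ⟨closure (z ∩ (Z₀ : Set X) ∩ T), isClosed_closure⟩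
      have hAsub : (A : Set X) ⊆ z ∩ (Z₀ : Set X) :=
        closure_minimal (fun t ht => ht.1) (hz.inter Z₀.2)
      have hA : A ∈ 𝒮 := by
        refine ⟨hx, ?_⟩
        change closure (z ∩ (Z₀ : Set X) ∩ T) ⊆ closure (closure (z ∩ (Z₀ : Set X) ∩ T) ∩ T)
        exact closure_mono fun t ht => ⟨subset_closure ht, ht.2⟩
      have hle : A ≤ Z₀ := fun t ht => (hAsub ht).2
      have : A = Z₀ := by
        rcases hle.lt_or_eq with hlt | heq
        · exact absurd hlt (hmin A hA)
        · exact heq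
      intro t ht
      have : t ∈ (A : Set X) := by rw [this]; exact ht
      exact (hAsub this).1
    have hx : x ∈ closure ((Z₀ : Set X) ∩ T) := hZ₀.2 hZ₀.1
    have hcov : (Z₀ : Set X) ∩ T ⊆ (z₁ ∩ (Z₀ : Set X) ∩ T) ∪ (z₂ ∩ (Z₀ : Set X) ∩ T) := by
      rintro t ⟨htZ, htT⟩
      rcases hsub htZ with h | h
      · exact Or.inl ⟨⟨h, htZ⟩, htT⟩
      · exact Or.inr ⟨⟨h, htZ⟩, htT⟩
    have := closure_mono hcov hx
    rw [closure_union] at this
    rcases this with h | h
    · exact Or.inl (key z₁ hz₁ h)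
    · exact Or.inr (key z₂ hz₂ h)
  obtain ⟨ξ, hξ⟩ := QuasiSober.sober hirr Z₀.2
  refine ⟨ξ, hξ.specializes hZ₀.1, ?_⟩
  -- f ξ = y'
  have hne : ((Z₀ : Set X) ∩ T).Nonempty := by
    by_contra hne
    rw [Set.not_nonempty_iff_eq_empty] at hne
    have := hZ₀.2 hZ₀.1
    rw [hne, closure_empty] at this
    exact this
  obtain ⟨t, htZ, htT⟩ := hne
  have h1 : f ξ ⤳ y' := by
    have : ξ ⤳ t := hξ.specializes htZ
    have h := this.map hf
    rwa [show f t = y' from htT] at h
  have h2 : y' ⤳ f ξ := by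
    rw [specializes_iff_mem_closure]
    have hsub : (Z₀ : Set X) ⊆ f ⁻¹' closure {y'} := by
      refine hZ₀.2.trans (closure_minimal ?_ (isClosed_closure.preimage hf))
      rintro s ⟨-, hsT⟩
      change f s ∈ closure {y'}
      rw [show f s = y' from hsT]
      exact subset_closure rfl
    exact hsub hξ.mem
  exact (h1.antisymm h2).eq

end Groth.Agent.S7550
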