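import Groth.Statements.S7551
import Mathlib

set_option autoImplicit false
universe u
open PtTop

namespace Groth.Agent.S7551

/-- Let s, t : R → U and π : U → X be continuous maps between topological spaces satisfying: (1) π is an
open map, (2) U is a sober space, (3) s and t have finite fibres, (4) generalizations lift along s
and along t, and (5) the image of (t, s) : R → U × U is an equivalence relation on U and π
identifies X, as a set, with the quotient of U by it. Then X is Kolmogorov. -/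
theorem result {R U X : Type u}
    [TopologicalSpace R] [TopologicalSpace U] [TopologicalSpace X] [QuasiSober U] [T0Space U]
    (s t : R → U) (π : U → X) (hs : Continuous s) (ht : Continuous t) (hπ : Continuous π)
    (hπo : IsOpenMap π) (hsf : ∀ u, (s ⁻¹' {u}).Finite) (htf : ∀ u, (t ⁻¹' {u}).Finite)
    (hsg : GeneralizingMap s) (htg : GeneralizingMap t)
    (hE : Equivalence fun u u' : U => ∃ r, t r = u ∧ s r = u')
    (hπs : Function.Surjective π) (hπq : ∀ u u' : U, π u = π u' ↔ ∃ r, t r = u ∧ s r = u') :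
    T0Space X := by
  classical
  -- fibres of π are finite
  have hfib : ∀ u : U, (π ⁻¹' {π u}).Finite := by
    intro u
    refine ((htf u).image s).subset ?_
    intro u' hu'
    have : π u = π u' := (Set.mem_singleton_iff.1 hu').symm
    obtain ⟨r, hr1, hr2⟩ := (hπq u u').1 this
    exact ⟨r, hr1, hr2⟩
  -- lifting specializations to the finite fibre
  have key : ∀ x x' : X, x ⤳ x' → ∀ u' : U, π u' = x' → ∃ v : U, π v = x ∧ v ⤳ u' := by
    intro x x' hxx' u' hu'
    obtain ⟨u, rfl⟩ := hπs x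
    have hmem : u' ∈ closure (π ⁻¹' {π u}) := by
      rw [mem_closure_iff]
      intro V hV hu'V
      have h1 : x' ∈ π '' V := ⟨u', hu'V, hu'⟩
      have h2 : π u ∈ π '' V := hxx'.mem_open (hπo V hV) h1
      obtain ⟨v, hvV, hv⟩ := h2
      exact ⟨v, hvV, hv⟩
    rw [← Set.biUnion_of_singleton (π ⁻¹' {π u}), (hfib u).closure_biUnion] at hmem
    obtain ⟨v, hv, hv'⟩ := Set.mem_iUnion₂.1 hmem
    exact ⟨v, hv, specializes_iff_mem_closure.2 hv'⟩
  refine ⟨fun x x' h => ?_⟩
  have h1 : x ⤳ x' := h.specializes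
  have h2 : x' ⤳ x := h.specializes'
  obtain ⟨u, rfl⟩ := hπs x
  letI := specializationPreorder U
  obtain ⟨u₀, hu₀, hmax⟩ := (hfib u).exists_maximal ⟨u, rfl⟩
  obtain ⟨w, hw, hwu₀⟩ := key x' (π u) h2 u₀ hu₀
  obtain ⟨v, hv, hvw⟩ := key (π u) x' h1 w hw
  have hvu₀ : v ⤳ u₀ := hvw.trans hwu₀
  have hu₀v : u₀ ⤳ v := hmax hv hvu₀
  have hu₀w : u₀ ⤳ w := hu₀v.trans hvw
  have : u₀ = w := (hu₀w.antisymm hwu₀).eq
  rw [← hw, ← this]
  exact hu₀.symm

end Groth.Agent.S7551
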