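import Groth.Statements.S7554
import Mathlib

set_option autoImplicit false
universe u
open PtTop

namespace Groth.Agent.S7554

/-- Let X be a topological space with an open covering X = ⋃ U_i and let T ⊆ X. If T ∩ U_i is nowhere
dense in U_i (with the induced topology) for every i, then T is nowhere dense in X. -/
theorem result {X : Type u} [TopologicalSpace X] {ι : Type u}
    (U : ι → Set X) (hU : ∀ i, IsOpen (U i)) (hcov : ⋃ i, U i = Set.univ) (T : Set X)
    (hT : ∀ i, IsNowhereDense ((Subtype.val : U i → X) ⁻¹' T)) :
    IsNowhereDense T := by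
  rw [IsNowhereDense, Set.eq_empty_iff_forall_notMem]
  intro x hx
  have hxU : x ∈ ⋃ i, U i := by rw [hcov]; trivial
  obtain ⟨i, hi⟩ := Set.mem_iUnion.1 hxU
  have hsub : (Subtype.val : U i → X) ⁻¹' interior (closure T) ⊆
      closure ((Subtype.val : U i → X) ⁻¹' T) := by
    intro y hy
    rw [closure_subtype, Subtype.image_preimage_coe]
    have h1 : y.1 ∈ closure T := interior_subset hy
    have := (hU i).inter_closure (t := T)
    exact this ⟨y.2, h1⟩
  have hopen : IsOpen ((Subtype.val : U i → X) ⁻¹' interior (closure T)) :=
    isOpen_interior.preimage continuous_subtype_val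
  have := (hopen.subset_interior_iff.2 hsub) (show (⟨x, hi⟩ : U i) ∈ _ from hx)
  rw [hT i] at this
  exact this

end Groth.Agent.S7554
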