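import Groth.Statements.S7559
import Mathlib
import Groth.Agent.Lib.helper4.Strat

set_option autoImplicit false
universe u
open PtTop

namespace Groth.Agent.S7559

/-- Let X be a topological space and X = ∐ P_k a finite partition into locally closed parts. Then there
is a finite stratification of X refining it: a finite partially ordered index set I and pairwise
disjoint locally closed strata S_i covering X with closure(S_j) ⊆ ⋃_{i ≤ j} S_i, such that every
part P_k is a union of strata. -/
theorem result {X : Type u} [TopologicalSpace X]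
    {n : ℕ} (P : Fin n → Set X) (hP : ∀ k, IsLocallyClosed (P k)) (hcov : ⋃ k, P k = Set.univ)
    (hdisj : ∀ k k', k ≠ k' → Disjoint (P k) (P k')) :
    ∃ (I : Type) (_ : Fintype I) (_ : PartialOrder I) (S : I → Set X),
      (∀ i, IsLocallyClosed (S i)) ∧ (⋃ i, S i = Set.univ) ∧ (∀ i j, i ≠ j → Disjoint (S i) (S j)) ∧
      (∀ j, closure (S j) ⊆ ⋃ i ∈ Set.Iic j, S i) ∧
      (∀ i k, (S i ∩ P k).Nonempty → S i ⊆ P k) := by
  classical
  choose U Z hU hZ hPUZ using hP
  let O : Fin n ⊕ Fin n → Set X := Sum.elim U (fun k => (Z k)ᶜ)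
  have hO : ∀ l, IsOpen (O l) := by
    rintro (k | k)
    · exact hU k
    · exact (hZ k).isOpen_compl
  obtain ⟨h1, h2, h3, h4, h5, _⟩ := H4.H4_strat O hO
  refine ⟨Finset (Fin n ⊕ Fin n), inferInstance, inferInstance, H4.H4_stratum O, h1, h2, h3, h4, ?_⟩
  intro i k
  apply h5
  intro x y hxy hx
  rw [hPUZ k] at hx ⊢
  have ha := hxy (Sum.inl k)
  have hb := hxy (Sum.inr k)
  simp only [O, Sum.elim_inl, Sum.elim_inr, Set.mem_compl_iff] at ha hb
  exact ⟨ha.1 hx.1, by_contra fun h => (hb.2 h) hx.2⟩

end Groth.Agent.S7559
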