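import Groth.Statements.S7560
import Mathlib
import Groth.Agent.Lib.helper4.Strat

set_option autoImplicit false
universe u
open ConstrTop

namespace Groth.Agent.S7560

/-- Let X be a topological space written as a finite union X = T_1 ∪ … ∪ T_n of constructible subsets.
Then there is a finite stratification X = ∐ S_i (pairwise disjoint locally closed strata indexed by
a finite partially ordered set, with closure(S_j) ⊆ ⋃_{i ≤ j} S_i) whose strata are constructible
and such that every T_k is a union of strata. -/
theorem result {X : Type u} [TopologicalSpace X]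
    {n : ℕ} (T : Fin n → Set X) (hT : ∀ k, Topology.IsConstructible (T k)) (hcov : ⋃ k, T k = Set.univ) :
    ∃ (I : Type) (_ : Fintype I) (_ : PartialOrder I) (S : I → Set X),
      (∀ i, IsLocallyClosed (S i) ∧ Topology.IsConstructible (S i)) ∧ (⋃ i, S i = Set.univ) ∧
      (∀ i j, i ≠ j → Disjoint (S i) (S j)) ∧
      (∀ j, closure (S j) ⊆ ⋃ i ∈ Set.Iic j, S i) ∧
      (∀ i k, (S i ∩ T k).Nonempty → S i ⊆ T k) := by
  classical
  choose F hF hF' using fun k => H4.H4_constr_determined (hT k)
  let G : Finset (Set X) := Finset.univ.biUnion F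
  let e := G.equivFin
  let O : Fin G.card → Set X := fun l => ((e.symm l : G) : Set X)
  have hG : ∀ l, IsOpen (O l) ∧ IsRetrocompact (O l) := by
    intro l
    have hmem : ((e.symm l : G) : Set X) ∈ G := (e.symm l).2
    obtain ⟨k, _, hk⟩ := Finset.mem_biUnion.1 hmem
    exact hF k _ hk
  obtain ⟨h1, h2, h3, h4, h5, h6⟩ := H4.H4_strat O (fun l => (hG l).1)
  refine ⟨Finset (Fin G.card), inferInstance, inferInstance, H4.H4_stratum O,
    fun i => ⟨h1 i, h6 (fun l => (hG l).2) i⟩, h2, h3, h4, ?_⟩
  intro i k
  apply h5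
  intro x y hxy hx
  refine (hF' k x y ?_).1 hx
  intro W hW
  have hWG : W ∈ G := Finset.mem_biUnion.2 ⟨k, Finset.mem_univ k, hW⟩
  have := hxy (e ⟨W, hWG⟩)
  simpa [O] using this

end Groth.Agent.S7560
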