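import Groth.Statements.S7561
import Mathlib
import Groth.Agent.Lib.helper4.Strat

set_option autoImplicit false
universe u
open PtTop

namespace Groth.Agent.S7561

/-- Let X be a Noetherian topological space and X = ∐ P_k a finite partition into locally closed parts.
Then it is refined by a finite good stratification: a finite partition X = ∐ S_i into locally closed
strata such that S_i ∩ closure(S_j) ≠ ∅ implies S_i ⊆ closure(S_j), with every P_k a union of
strata. -/
theorem result {X : Type u} [TopologicalSpace X]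
    [TopologicalSpace.NoetherianSpace X]
    {n : ℕ} (P : Fin n → Set X) (hP : ∀ k, IsLocallyClosed (P k)) (hcov : ⋃ k, P k = Set.univ)
    (hdisj : ∀ k k', k ≠ k' → Disjoint (P k) (P k')) :
    ∃ (m : ℕ) (S : Fin m → Set X),
      (∀ i, IsLocallyClosed (S i)) ∧ (⋃ i, S i = Set.univ) ∧ (∀ i j, i ≠ j → Disjoint (S i) (S j)) ∧
      (∀ i j, (S i ∩ closure (S j)).Nonempty → S i ⊆ closure (S j)) ∧
      (∀ i k, (S i ∩ P k).Nonempty → S i ⊆ P k) := by
  classical
  obtain ⟨m, S, h1, h2, h3, h4, h5⟩ := H4.H4_good_strat (⊤ : TopologicalSpace.Closeds X)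
    (Finset.univ.image P) (by
      intro Q hQ
      obtain ⟨k, _, rfl⟩ := Finset.mem_image.1 hQ
      exact hP k)
  refine ⟨m, S, h1, ?_, h3, h4, ?_⟩
  · rw [h2]; rfl
  · intro i k
    exact h5 i (P k) (Finset.mem_image_of_mem P (Finset.mem_univ k))

end Groth.Agent.S7561
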