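import Groth.Statements.S7562
import Mathlib

set_option autoImplicit false
universe u
open PtTop

namespace Groth.Agent.S7562

/-- Let f : X → Y be a surjective closed continuous map of topological spaces and T ⊆ Y. Then the
closure of T equals f applied to the closure of f⁻¹(T), and T is locally closed in Y if and only if
f⁻¹(T) is locally closed in X. The published statement also asserts that Y carries the quotient
topology of X; this row states the closure formula and the locally-closed equivalence only. -/
theorem result {X Y : Type u} [TopologicalSpace X] [TopologicalSpace Y]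
    (f : X → Y) (hf : Continuous f) (hc : IsClosedMap f) (hs : Function.Surjective f) (T : Set Y) :
    closure T = f '' closure (f ⁻¹' T) ∧ (IsLocallyClosed T ↔ IsLocallyClosed (f ⁻¹' T)) := by
  have himg : f '' (f ⁻¹' T) = T := Set.image_preimage_eq T hs
  have h1 : closure T = f '' closure (f ⁻¹' T) := by
    apply le_antisymm
    · apply closure_minimal _ (hc _ isClosed_closure)
      intro y hy
      obtain ⟨z, rfl⟩ := hs y
      exact ⟨z, subset_closure hy, rfl⟩
    · have := image_closure_subset_closure_image (s := f ⁻¹' T) hf
      rwa [himg] at this
  refine ⟨h1, ?_⟩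
  constructor
  · intro h
    exact h.preimage hf
  · intro h
    rw [isLocallyClosed_iff_isOpen_coborder, coborder, isOpen_compl_iff] at h ⊢
    have : closure T \ T = f '' (closure (f ⁻¹' T) \ f ⁻¹' T) := by
      rw [h1]
      ext y
      constructor
      · rintro ⟨⟨z, hz, rfl⟩, hy⟩
        exact ⟨z, ⟨hz, hy⟩, rfl⟩
      · rintro ⟨z, ⟨hz, hz'⟩, rfl⟩
        exact ⟨⟨z, hz, rfl⟩, hz'⟩
    rw [this]
    exact hc _ h

end Groth.Agent.S7562
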