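import Groth.Statements.S7564
import Mathlib

set_option autoImplicit false
universe u
open PtTop

namespace Groth.Agent.S7564

/-- For a continuous surjection f : X → Y, if X has finitely many irreducible components, say n of them,
then Y has at most n irreducible components. -/
theorem result {X Y : Type u} [TopologicalSpace X] [TopologicalSpace Y]
    (f : X → Y) (hf : Continuous f) (hs : Function.Surjective f) (hfin : (irreducibleComponents X).Finite) :
    (irreducibleComponents Y).Finite ∧ (irreducibleComponents Y).ncard ≤ (irreducibleComponents X).ncard := by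
  classical
  have hsub : irreducibleComponents Y ⊆ (fun Z : Set X => closure (f '' Z)) '' irreducibleComponents X := by
    intro W hW
    obtain ⟨z, hz, hWz⟩ := (isIrreducible_iff_sUnion_isClosed.1 hW.1)
      (hfin.toFinset.image fun Z : Set X => closure (f '' Z))
      (by
        intro z hz
        obtain ⟨Z, -, rfl⟩ := Finset.mem_image.1 hz
        exact isClosed_closure)
      (by
        intro y _
        obtain ⟨x, rfl⟩ := hs y
        have hx : x ∈ ⋃₀ irreducibleComponents X := by rw [sUnion_irreducibleComponents]; trivial
        obtain ⟨Z, hZ, hxZ⟩ := Set.mem_sUnion.1 hx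
        refine Set.mem_sUnion.2 ⟨closure (f '' Z), ?_, subset_closure ⟨x, hxZ, rfl⟩⟩
        exact Finset.mem_coe.2 (Finset.mem_image_of_mem _ (hfin.mem_toFinset.2 hZ)))
    obtain ⟨Z, hZ, rfl⟩ := Finset.mem_image.1 hz
    rw [hfin.mem_toFinset] at hZ
    refine ⟨Z, hZ, ?_⟩
    have hirr : IsIrreducible (closure (f '' Z)) := (hZ.1.image f hf.continuousOn).closure
    exact (le_antisymm (hW.2 hirr hWz) hWz)
  have hfin' : ((fun Z : Set X => closure (f '' Z)) '' irreducibleComponents X).Finite := hfin.image _
  refine ⟨hfin'.subset hsub, ?_⟩
  exact (Set.ncard_le_ncard hsub hfin').trans (Set.ncard_image_le hfin)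

end Groth.Agent.S7564
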