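import Groth.Statements.S7566
import Mathlib

set_option autoImplicit false
universe u
open PtTop

namespace Groth.Agent.S7566

/-- Let X be a quasi-compact topological space whose quasi-compact opens form a basis, any two of them
meeting in a quasi-compact set. Then for every x ∈ X the connected component of x equals the
intersection of every clopen subset of X that contains x. -/
theorem result {X : Type u} [TopologicalSpace X]
    [CompactSpace X] [PrespectralSpace X] [QuasiSeparatedSpace X] (x : X) :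
    connectedComponent x = ⋂₀ {Z : Set X | IsClopen Z ∧ x ∈ Z} := by
  classical
  let ι := {Z : Set X // IsClopen Z ∧ x ∈ Z}
  set S : Set X := ⋂₀ {Z : Set X | IsClopen Z ∧ x ∈ Z} with hS
  have hSeq : S = ⋂ i : ι, i.1 := by
    rw [hS, Set.sInter_eq_iInter]
    rfl
  have hxS : x ∈ S := by
    rw [hS]
    exact Set.mem_sInter.2 fun Z hZ => hZ.2
  have hScl : IsClosed S := isClosed_sInter fun Z hZ => hZ.1.1
  -- finite intersections of members
  have hfin : ∀ u : Finset ι, IsClopen (⋂ i ∈ u, (i : ι).1) ∧ x ∈ ⋂ i ∈ u, (i : ι).1 := by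
    intro u
    refine ⟨isClopen_biInter_finset fun i _ => i.2.1, ?_⟩
    exact Set.mem_iInter₂.2 fun i _ => i.2.2
  have hSsub : ∀ Z : Set X, IsClopen Z → x ∈ Z → S ⊆ Z := fun Z hZ hxZ =>
    Set.sInter_subset_of_mem ⟨hZ, hxZ⟩
  -- compact sets disjoint from S are disjoint from a clopen nbhd
  have hsep : ∀ K : Set X, IsCompact K → K ∩ S = ∅ → ∃ Z : Set X, IsClopen Z ∧ x ∈ Z ∧ K ∩ Z = ∅ := by
    intro K hK hKS
    rw [hSeq] at hKS
    obtain ⟨u, hu⟩ := hK.elim_finite_subfamily_closed (fun i : ι => i.1) (fun i => i.2.1.1) hKS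
    exact ⟨_, (hfin u).1, (hfin u).2, hu⟩
  apply le_antisymm
  · intro y hy
    exact Set.mem_sInter.2 fun Z hZ => hZ.1.connectedComponent_subset hZ.2 hy
  · apply IsPreconnected.subset_connectedComponent _ hxS
    rw [isPreconnected_closed_iff]
    intro t t' ht ht' hcov hne hne'
    by_contra hcon
    rw [Set.not_nonempty_iff_eq_empty] at hcon
    -- B = S ∩ t, C = S ∩ t'
    have hBc : IsCompact (S ∩ t) := (hScl.inter ht).isCompact
    have hCc : IsCompact (S ∩ t') := (hScl.inter ht').isCompact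
    have hBC : S ∩ t ⊆ (S ∩ t')ᶜ := by
      intro z hz hz'
      have : z ∈ S ∩ (t ∩ t') := ⟨hz.1, hz.2, hz'.2⟩
      rw [hcon] at this
      exact this
    have hCB : S ∩ t' ⊆ (S ∩ t)ᶜ := fun z hz hz' => hBC hz' hz
    obtain ⟨U, hUc, hUo, hBU, hUC⟩ := PrespectralSpace.exists_isCompact_and_isOpen_between hBc
      (hScl.inter ht').isOpen_compl hBC
    obtain ⟨V, hVc, hVo, hCV, hVB⟩ := PrespectralSpace.exists_isCompact_and_isOpen_between hCc
      (hScl.inter ht).isOpen_compl hCB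
    have hSUV : S ⊆ U ∪ V := by
      intro z hz
      rcases hcov hz with h | h
      · exact Or.inl (hBU ⟨hz, h⟩)
      · exact Or.inr (hCV ⟨hz, h⟩)
    have hUVS : (U ∩ V) ∩ S = ∅ := by
      rw [Set.eq_empty_iff_forall_notMem]
      rintro z ⟨⟨hzU, hzV⟩, hzS⟩
      rcases hcov hzS with h | h
      · exact hVB hzV ⟨hzS, h⟩
      · exact hUC hzU ⟨hzS, h⟩
    obtain ⟨Z', hZ', hxZ', hZ'e⟩ := hsep (U ∩ V)
      (QuasiSeparatedSpace.inter_isCompact U V hUo hUc hVo hVc) hUVS
    have hcompl : (U ∪ V)ᶜ ∩ S = ∅ := by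
      rw [Set.eq_empty_iff_forall_notMem]
      rintro z ⟨hz, hzS⟩
      exact hz (hSUV hzS)
    obtain ⟨Z'', hZ'', hxZ'', hZ''e⟩ := hsep (U ∪ V)ᶜ (hUo.union hVo).isClosed_compl.isCompact hcompl
    let Z := Z' ∩ Z''
    have hZ : IsClopen Z := hZ'.inter hZ''
    have hxZ : x ∈ Z := ⟨hxZ', hxZ''⟩
    have hZsub : Z ⊆ U ∪ V := by
      intro z hz
      by_contra hzn
      have : z ∈ (U ∪ V)ᶜ ∩ Z'' := ⟨hzn, hz.2⟩
      rw [hZ''e] at this
      exact this
    have hZdisj : ∀ z ∈ Z, z ∈ U → z ∈ V → False := by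
      intro z hz hzU hzV
      have : z ∈ (U ∩ V) ∩ Z' := ⟨⟨hzU, hzV⟩, hz.1⟩
      rw [hZ'e] at this
      exact this
    have hZU : IsClopen (Z ∩ U) := by
      refine ⟨?_, hZ.2.inter hUo⟩
      have : Z ∩ U = Z ∩ Vᶜ := by
        ext z
        constructor
        · rintro ⟨hz, hzU⟩
          exact ⟨hz, fun hzV => hZdisj z hz hzU hzV⟩
        · rintro ⟨hz, hzV⟩
          rcases hZsub hz with h | h
          · exact ⟨hz, h⟩
          · exact absurd h hzV
      rw [this]
      exact hZ.1.inter hVo.isClosed_compl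
    have hZV : IsClopen (Z ∩ V) := by
      refine ⟨?_, hZ.2.inter hVo⟩
      have : Z ∩ V = Z ∩ Uᶜ := by
        ext z
        constructor
        · rintro ⟨hz, hzV⟩
          exact ⟨hz, fun hzU => hZdisj z hz hzU hzV⟩
        · rintro ⟨hz, hzU⟩
          rcases hZsub hz with h | h
          · exact absurd h hzU
          · exact ⟨hz, h⟩
      rw [this]
      exact hZ.1.inter hUo.isClosed_compl
    rcases hcov hxS with hxt | hxt'
    · have hxU : x ∈ U := hBU ⟨hxS, hxt⟩
      have hsub := hSsub (Z ∩ U) hZU ⟨hxZ, hxU⟩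
      obtain ⟨c, hcS, hct'⟩ := hne'
      have hcV : c ∈ V := hCV ⟨hcS, hct'⟩
      exact hZdisj c (hsub hcS).1 (hsub hcS).2 hcV
    · have hxV : x ∈ V := hCV ⟨hxS, hxt'⟩
      have hsub := hSsub (Z ∩ V) hZV ⟨hxZ, hxV⟩
      obtain ⟨b, hbS, hbt⟩ := hne
      have hbU : b ∈ U := hBU ⟨hbS, hbt⟩
      exact hZdisj b (hsub hbS).1 hbU (hsub hbS).2

end Groth.Agent.S7566
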