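import Groth.Statements.S7568
import Mathlib

set_option autoImplicit false
universe u
open PtTop

namespace Groth.Agent.S7568

/-- Let X be a Hausdorff quasi-compact space, X = ⋃ U_i an open covering, p ≥ 0 an integer, and for
every (p+1)-tuple (i_0, …, i_p) an open covering of U_{i_0} ∩ … ∩ U_{i_p} by opens W_{i_0…i_p,k}.
Then there are an open covering X = ⋃_{j ∈ J} V_j and a map α : J → I with closure(V_j) ⊆ U_{α(j)}
such that each V_{j_0} ∩ … ∩ V_{j_p} is contained in W_{α(j_0)…α(j_p),k} for some k. The published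
statement allows a covering of an empty intersection to have no members; this row requires every
covering W_{i_0…i_p} to have at least one member (possibly empty), without which the conclusion
fails. -/
theorem result {X : Type u} [TopologicalSpace X] [CompactSpace X] [T2Space X]
    {ι : Type u} (U : ι → Set X) (hU : ∀ i, IsOpen (U i)) (hcov : ⋃ i, U i = Set.univ) (p : ℕ)
    (W : (Fin (p + 1) → ι) → Set (Set X)) (hWo : ∀ t, ∀ w ∈ W t, IsOpen w)
    (hWc : ∀ t, ⋃₀ W t = ⋂ l, U (t l)) (hWne : ∀ t, (W t).Nonempty) :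
    ∃ (J : Type u) (V : J → Set X) (α : J → ι), (∀ j, IsOpen (V j)) ∧ (⋃ j, V j = Set.univ) ∧
      (∀ j, closure (V j) ⊆ U (α j)) ∧
      (∀ t : Fin (p + 1) → J, ∃ w ∈ W (α ∘ t), (⋂ l, V (t l)) ⊆ w) := by
  classical
  obtain ⟨I0, hI0⟩ := isCompact_univ.elim_finite_subcover U hU (by rw [hcov])
  have huU : ⋃ i : I0, U i = Set.univ := by
    rw [Set.eq_univ_iff_forall]; intro x
    have := hI0 (Set.mem_univ x)
    simp only [Set.mem_iUnion] at this ⊢
    obtain ⟨i, hi, hx⟩ := this
    exact ⟨⟨i, hi⟩, hx⟩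
  obtain ⟨v, hvU, hvo, hvcl⟩ := exists_iUnion_eq_closure_subset (u := fun i : I0 => U i)
    (fun i => hU i) (fun x => Set.toFinite _) huU
  have hsel : ∀ (x : X) (t : Fin (p+1) → I0), ∃ w, w ∈ W (fun l => (t l : ι)) ∧ IsOpen w ∧
      (x ∈ ⋂ l, U (t l) → x ∈ w) := by
    intro x t
    by_cases hx : x ∈ ⋂ l, U (t l)
    · have hx' := hx
      rw [← hWc (fun l => (t l : ι))] at hx'
      obtain ⟨w, hw, hxw⟩ := hx'
      exact ⟨w, hw, hWo _ w hw, fun _ => hxw⟩
    · obtain ⟨w, hw⟩ := hWne (fun l => (t l : ι))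
      exact ⟨w, hw, hWo _ w hw, fun h => absurd h hx⟩
  choose Wsel hWsel hWselo hWselx using hsel
  let C : X → I0 → Set X := fun x i => if x ∈ closure (v i) then Set.univ else (closure (v i))ᶜ
  have hCo : ∀ x i, IsOpen (C x i) := by
    intro x i; simp only [C]; split_ifs
    · exact isOpen_univ
    · exact isClosed_closure.isOpen_compl
  have hxC : ∀ x i, x ∈ C x i := by
    intro x i; simp only [C]; split_ifs with h
    · trivial
    · exact h
  let D : X → (Fin (p+1) → I0) → Set X := fun x t =>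
    if x ∈ ⋂ l, U (t l) then Wsel x t else Set.univ
  have hDo : ∀ x t, IsOpen (D x t) := by
    intro x t; simp only [D]; split_ifs
    · exact hWselo x t
    · exact isOpen_univ
  have hxD : ∀ x t, x ∈ D x t := by
    intro x t; simp only [D]; split_ifs with h
    · exact hWselx x t h
    · trivial
  let O : X → Set X := fun x => (⋂ t : Fin (p+1) → I0, D x t) ∩ ⋂ i : I0, C x i
  have hOo : ∀ x, IsOpen (O x) := fun x =>
    (isOpen_iInter_of_finite (fun t => hDo x t)).inter (isOpen_iInter_of_finite (fun i => hCo x i))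
  have hxO : ∀ x, x ∈ O x := fun x =>
    ⟨Set.mem_iInter.2 (fun t => hxD x t), Set.mem_iInter.2 (fun i => hxC x i)⟩
  refine ⟨{q : X × I0 // q.1 ∈ v q.2}, fun q => O q.1.1 ∩ v q.1.2, fun q => (q.1.2 : ι),
    fun q => (hOo _).inter (hvo _), ?_, ?_, ?_⟩
  · rw [Set.eq_univ_iff_forall]
    intro x
    have hx : x ∈ ⋃ i, v i := by rw [hvU]; trivial
    obtain ⟨i, hi⟩ := Set.mem_iUnion.1 hx
    exact Set.mem_iUnion.2 ⟨⟨(x, i), hi⟩, hxO x, hi⟩
  · intro q
    exact (closure_mono Set.inter_subset_right).trans (hvcl q.1.2)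
  · intro t
    set x0 : X := (t 0).1.1 with hx0
    set tt : Fin (p+1) → I0 := fun l => (t l).1.2 with htt
    by_cases hx : x0 ∈ ⋂ l, U (tt l)
    · refine ⟨Wsel x0 tt, hWsel x0 tt, ?_⟩
      intro y hy
      have hy0 := (Set.mem_iInter.1 hy 0).1.1
      have := Set.mem_iInter.1 hy0 tt
      simp only [D, hx0, htt] at this hx
      rw [if_pos hx] at this
      exact this
    · obtain ⟨w, hw⟩ := hWne (fun l => ((tt l : I0) : ι))
      refine ⟨w, hw, ?_⟩
      intro y hy
      exfalso
      rw [Set.mem_iInter] at hx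
      push Not at hx
      obtain ⟨l, hl⟩ := hx
      have hncl : x0 ∉ closure (v (tt l)) := fun h => hl (hvcl (tt l) h)
      have hy0 := (Set.mem_iInter.1 hy 0).1.2
      have hyC := Set.mem_iInter.1 hy0 (tt l)
      simp only [C] at hyC
      rw [if_neg hncl] at hyC
      have hyv : y ∈ v (tt l) := (Set.mem_iInter.1 hy l).2
      exact hyC (subset_closure hyv)

end Groth.Agent.S7568
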