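import Groth.Statements.S7569
import Mathlib
import Groth.Agent.Lib.helper4.CoverRefine

set_option autoImplicit false
universe u
open PtTop

namespace Groth.Agent.S7569

/-- Let X be a Hausdorff, locally quasi-compact space and Z ⊆ X a quasi-compact subset. Let p ≥ 0, let
U_i ⊆ X be opens with Z ⊆ ⋃ U_i, and for every (p+1)-tuple (i_0, …, i_p) let W_{i_0…i_p} ⊆ U_{i_0} ∩
… ∩ U_{i_p} be an open with W_{i_0…i_p} ∩ Z = U_{i_0} ∩ … ∩ U_{i_p} ∩ Z. Then there are opens V_i ⊆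
X with Z ⊆ ⋃ V_i, closure(V_i) ⊆ U_i for all i, and V_{i_0} ∩ … ∩ V_{i_p} ⊆ W_{i_0…i_p} for all
(p+1)-tuples. -/
theorem result {X : Type u} [TopologicalSpace X]
    [T2Space X] [LocallyCompactSpace X] (Z : Set X) (hZ : IsCompact Z)
    {ι : Type u} (U : ι → Set X) (hU : ∀ i, IsOpen (U i)) (hcov : Z ⊆ ⋃ i, U i) (p : ℕ)
    (W : (Fin (p + 1) → ι) → Set X) (hWo : ∀ t, IsOpen (W t)) (hWU : ∀ t, W t ⊆ ⋂ l, U (t l))
    (hWZ : ∀ t, W t ∩ Z = (⋂ l, U (t l)) ∩ Z) :
    ∃ V : ι → Set X, (∀ i, IsOpen (V i)) ∧ (Z ⊆ ⋃ i, V i) ∧ (∀ i, closure (V i) ⊆ U i) ∧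
      (∀ t : Fin (p + 1) → ι, (⋂ l, V (t l)) ⊆ W t) := by
  haveI : RegularSpace X := inferInstance
  obtain ⟨V, hVo, hVc, hVR, hVW⟩ := H4.H4_cover_refine Z hZ U hcov p W hWo hWZ
    (fun i N => closure N ⊆ U i)
    (by
      intro z _ i hzi
      obtain ⟨V, hVo, hzV, hVU, _⟩ := exists_open_between_and_isCompact_closure
        (isCompact_singleton (x := z)) (hU i) (Set.singleton_subset_iff.2 hzi)
      exact ⟨V, hVo, hzV (Set.mem_singleton z), hVU⟩)
    (by intro i; simp)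
    (by
      intro i N N' h h'
      rw [closure_union]
      exact Set.union_subset h h')
    (by
      intro i N N' h hN
      exact (closure_mono hN).trans h)
    (by
      intro i N h
      exact Set.inter_subset_left.trans h)
  exact ⟨V, hVo, hVc, hVR, hVW⟩

end Groth.Agent.S7569
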