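import Groth.Statements.S7570
import Mathlib
import Groth.Agent.Lib.helper4.CoverRefine

set_option autoImplicit false
universe u
open PtTop

namespace Groth.Agent.S7570

/-- Let X be a topological space and Z ⊆ X a quasi-compact subset such that any two distinct points of Z
have disjoint open neighbourhoods in X. Let p ≥ 0, let U_i ⊆ X be opens with Z ⊆ ⋃ U_i, and for
every (p+1)-tuple let W_{i_0…i_p} ⊆ U_{i_0} ∩ … ∩ U_{i_p} be an open with W_{i_0…i_p} ∩ Z = U_{i_0}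
∩ … ∩ U_{i_p} ∩ Z. Then there are opens V_i with (1) Z ⊆ ⋃ V_i, (2) V_i ⊆ U_i, (3) closure(V_i) ∩ Z
⊆ U_i, and (4) V_{i_0} ∩ … ∩ V_{i_p} ⊆ W_{i_0…i_p} for all (p+1)-tuples. -/
theorem result {X : Type u} [TopologicalSpace X]
    (Z : Set X) (hZ : IsCompact Z)
    (hZsep : ∀ z ∈ Z, ∀ z' ∈ Z, z ≠ z' → ∃ A B : Set X, IsOpen A ∧ IsOpen B ∧ z ∈ A ∧ z' ∈ B ∧ Disjoint A B)
    {ι : Type u} (U : ι → Set X) (hU : ∀ i, IsOpen (U i)) (hcov : Z ⊆ ⋃ i, U i) (p : ℕ)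
    (W : (Fin (p + 1) → ι) → Set X) (hWo : ∀ t, IsOpen (W t)) (hWU : ∀ t, W t ⊆ ⋂ l, U (t l))
    (hWZ : ∀ t, W t ∩ Z = (⋂ l, U (t l)) ∩ Z) :
    ∃ V : ι → Set X, (∀ i, IsOpen (V i)) ∧ (Z ⊆ ⋃ i, V i) ∧ (∀ i, V i ⊆ U i) ∧
      (∀ i, closure (V i) ∩ Z ⊆ U i) ∧ (∀ t : Fin (p + 1) → ι, (⋂ l, V (t l)) ⊆ W t) := by
  classical
  obtain ⟨V, hVo, hVc, hVR, hVW⟩ := H4.H4_cover_refine Z hZ U hcov p W hWo hWZ
    (fun i N => N ⊆ U i ∧ closure N ∩ Z ⊆ U i)
    (by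
      intro z hzZ i hzi
      -- D = Z \ U i is compact and does not contain z
      have hD : IsCompact (Z ∩ (U i)ᶜ) := hZ.inter_right (hU i).isClosed_compl
      have hsep : ∀ y : ↥(Z ∩ (U i)ᶜ), ∃ A B : Set X, IsOpen A ∧ IsOpen B ∧ z ∈ A ∧ (y : X) ∈ B ∧
          Disjoint A B := by
        intro y
        have hne : z ≠ (y : X) := by
          intro h
          exact y.2.2 (h ▸ hzi)
        exact hZsep z hzZ y y.2.1 hne
      choose A B hA hB hzA hyB hAB using hsep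
      obtain ⟨T, hT⟩ := hD.elim_finite_subcover (fun y : ↥(Z ∩ (U i)ᶜ) => B y) hB (by
        intro y hy
        exact Set.mem_iUnion.2 ⟨⟨y, hy⟩, hyB ⟨y, hy⟩⟩)
      refine ⟨U i ∩ ⋂ y ∈ T, A y, (hU i).inter (isOpen_biInter_finset (fun y _ => hA y)),
        ⟨hzi, Set.mem_iInter₂.2 (fun y _ => hzA y)⟩, Set.inter_subset_left, ?_⟩
      -- closure is disjoint from the union of the B's
      have hBo : IsOpen (⋃ y ∈ T, B y) := isOpen_biUnion (fun y _ => hB y)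
      have hdisj : Disjoint (U i ∩ ⋂ y ∈ T, A y) (⋃ y ∈ T, B y) := by
        rw [Set.disjoint_left]
        rintro x ⟨_, hxA⟩ hxB
        simp only [Set.mem_iUnion] at hxB
        obtain ⟨y, hyT, hxBy⟩ := hxB
        exact (Set.disjoint_left.1 (hAB y)) (Set.mem_iInter₂.1 hxA y hyT) hxBy
      have hcl := hdisj.closure_left hBo
      rintro x ⟨hxcl, hxZ⟩
      by_contra hxU
      exact (Set.disjoint_left.1 hcl) hxcl (hT ⟨hxZ, hxU⟩))
    (by intro i; simp)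
    (by
      rintro i N N' ⟨h1, h2⟩ ⟨h1', h2'⟩
      refine ⟨Set.union_subset h1 h1', ?_⟩
      rw [closure_union, Set.union_inter_distrib_right]
      exact Set.union_subset h2 h2')
    (by
      rintro i N N' ⟨h1, h2⟩ hN
      exact ⟨hN.trans h1, (Set.inter_subset_inter_left _ (closure_mono hN)).trans h2⟩)
    (by
      rintro i N ⟨_, h⟩
      exact h)
  exact ⟨V, hVo, hVc, fun i => (hVR i).1, fun i => (hVR i).2, hVW⟩

end Groth.Agent.S7570
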