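import Groth.Statements.S7571
import Mathlib

set_option autoImplicit false
universe u
open CategoryTheory CategoryTheory.Limits
open PtTop

namespace Groth.Agent.S7571

/-- Let j ↦ X_j be a diagram of topological spaces over a cofiltered category with limit X and
projections f_j. (1) Every open of X is a union of subsets of the form f_j⁻¹(U_j) with U_j ⊆ X_j
open. (2) Every quasi-compact open of X equals f_i⁻¹(U_i) for some i and some open U_i ⊆ X_i. -/
theorem result {J : Type u} [SmallCategory J] [IsCofiltered J]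
    (F : J ⥤ TopCat.{u}) (c : Cone F) (hc : IsLimit c) :
    (∀ W : Set c.pt, IsOpen W →
      ∃ S : Set (Σ j, Set (F.obj j)), (∀ s ∈ S, IsOpen s.2) ∧ W = ⋃ s ∈ S, c.π.app s.1 ⁻¹' s.2) ∧
    (∀ W : Set c.pt, IsOpen W → IsCompact W →
      ∃ (i : J) (Ui : Set (F.obj i)), IsOpen Ui ∧ W = c.π.app i ⁻¹' Ui) := by
  classical
  have hbasis := TopCat.isTopologicalBasis_cofiltered_limit.{u, u} F c hc
    (fun j => {V : Set (F.obj j) | IsOpen V})
    (fun j => TopologicalSpace.isTopologicalBasis_opens)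
    (fun j => isOpen_univ)
    (fun j U1 U2 h1 h2 => IsOpen.inter h1 h2)
    (fun i j f V hV => IsOpen.preimage (F.map f).hom.continuous hV)
  have hloc : ∀ W : Set c.pt, IsOpen W → ∀ x ∈ W, ∃ (j : J) (V : Set (F.obj j)),
      IsOpen V ∧ x ∈ c.π.app j ⁻¹' V ∧ c.π.app j ⁻¹' V ⊆ W := by
    intro W hW x hx
    obtain ⟨U, ⟨j, V, hV, rfl⟩, hxU, hUW⟩ := hbasis.exists_subset_of_mem_open hx hW
    exact ⟨j, V, hV, hxU, hUW⟩
  constructor
  · intro W hW
    refine ⟨{s | IsOpen s.2 ∧ c.π.app s.1 ⁻¹' s.2 ⊆ W}, fun s hs => hs.1, ?_⟩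
    apply le_antisymm
    · intro x hx
      obtain ⟨j, V, hV, hxV, hVW⟩ := hloc W hW x hx
      exact Set.mem_biUnion (show (⟨j, V⟩ : Σ j, Set (F.obj j)) ∈ _ from ⟨hV, hVW⟩) hxV
    · exact Set.iUnion₂_subset fun s hs => hs.2
  · intro W hW hWc
    have : Nonempty J := IsCofiltered.nonempty
    choose! j V hV hxV hVW using hloc W hW
    obtain ⟨t, htW, htfin, hcov⟩ := hWc.elim_finite_subcover_image (b := W)
      (c := fun x => c.π.app (j x) ⁻¹' V x)
      (fun x hx => (hV x hx).preimage (c.π.app (j x)).hom.continuous)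
      (fun x hx => Set.mem_biUnion hx (hxV x hx))
    obtain ⟨i, hi⟩ := IsCofiltered.inf_objs_exists (htfin.toFinset.image j)
    have ha : ∀ x, x ∈ t → Nonempty (i ⟶ j x) := fun x hx =>
      hi (Finset.mem_image_of_mem j (htfin.mem_toFinset.2 hx))
    let a : ∀ x, x ∈ t → (i ⟶ j x) := fun x hx => (ha x hx).some
    refine ⟨i, ⋃ (x) (hx : x ∈ t), F.map (a x hx) ⁻¹' V x, ?_, ?_⟩
    · exact isOpen_iUnion fun x => isOpen_iUnion fun hx =>
        (hV x (htW hx)).preimage (F.map (a x hx)).hom.continuous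
    · have hw : ∀ x (hx : x ∈ t), c.π.app i ⁻¹' (F.map (a x hx) ⁻¹' V x) = c.π.app (j x) ⁻¹' V x := by
        intro x hx
        ext z
        simp only [Set.mem_preimage]
        rw [← c.w (a x hx)]
        rfl
      rw [Set.preimage_iUnion₂]
      apply le_antisymm
      · intro z hz
        obtain ⟨x, hx, hzx⟩ := Set.mem_iUnion₂.1 (hcov hz)
        refine Set.mem_iUnion₂.2 ⟨x, hx, ?_⟩
        rw [hw x hx]
        exact hzx
      · intro z hz
        obtain ⟨x, hx, hzx⟩ := Set.mem_iUnion₂.1 hz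
        rw [hw x hx] at hzx
        exact hVW x (htW hx) hzx

end Groth.Agent.S7571
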