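import Groth.Statements.S7572
import Groth.Agent.S12443
import Groth.Agent.Lib.ClosedPush
import Mathlib

set_option autoImplicit false
universe u
open CategoryTheory TopologicalSpace
open ShSp

namespace Groth.Agent.S7572


open CategoryTheory CategoryTheory.Limits Opposite


open CategoryTheory CategoryTheory.Limits Opposite TopologicalSpace

noncomputable section

theorem main {Z X : TopCat.{u}} (i : Z ⟶ X) (hi : Topology.IsClosedEmbedding i)
    (F : Z.Sheaf (Type u)) :
    (∀ x : X, x ∉ Set.range i →
      Nonempty (Unique (((TopCat.Sheaf.pushforward (Type u) i).obj F).presheaf.stalk x))) ∧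
    IsIso ((TopCat.Sheaf.pullbackPushforwardAdjunction (Type u) i).counit.app F) := by
  constructor
  · intro x hx
    let P := ((TopCat.Sheaf.pushforward (Type u) i).obj F).presheaf
    let U' : Opens X := ⟨(Set.range i)ᶜ, hi.isClosed_range.isOpen_compl⟩
    have hxU : x ∈ U' := hx
    have hbot : ∀ V : Opens X, V ≤ U' → (Opens.map i).obj V = ⊥ := by
      intro V hV
      ext z
      simp only [Opens.map_coe, Set.mem_preimage, SetLike.mem_coe, Opens.coe_bot,
        Set.mem_empty_iff_false, iff_false]
      intro hz
      exact (hV hz) ⟨z, rfl⟩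
    have huniq : ∀ V : Opens X, V ≤ U' → Unique (P.obj (op V)) := by
      intro V hV
      have hT : IsTerminal (F.obj.obj (op ((Opens.map i).obj V))) :=
        F.isTerminalOfEqEmpty (hbot V hV)
      exact (Types.isTerminalEquivUnique _) hT
    let s₀ : P.obj (op U') := (huniq U' le_rfl).default
    refine ⟨{ default := P.germ U' x hxU s₀, uniq := ?_ }⟩
    intro t
    obtain ⟨V, hV, m, s, rfl⟩ := P.exists_le_germ_eq t hxU
    haveI := huniq V hV
    apply P.germ_ext V m (𝟙 V) (homOfLE hV)
    exact Subsingleton.elim _ _
  · haveI : (Opens.map i).IsLocalization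
        ((MorphismProperty.isomorphisms (Opens Z)).inverseImage (Opens.map i)) :=
      (Groth.Agent.ClosedPush.cAdj i hi).isLocalization
    let FF := Groth.Agent.S12443.pushFF i
      ((MorphismProperty.isomorphisms (Opens Z)).inverseImage (Opens.map i))
    haveI := FF.full
    haveI := FF.faithful
    infer_instance

end

/-- Let i : Z → X be the inclusion of a closed subset (a closed embedding) and F a sheaf of sets on Z.
Then (i_* F)_x is a one-point set for x ∉ Z, and the counit i⁻¹ i_* F → F is an isomorphism (whence
(i_* F)_{i(z)} = F_z). -/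
theorem result {Z X : TopCat.{u}} (i : Z ⟶ X) (hi : Topology.IsClosedEmbedding i)
    (F : Z.Sheaf (Type u)) :
    (∀ x : X, x ∉ Set.range i →
      Nonempty (Unique (((TopCat.Sheaf.pushforward (Type u) i).obj F).presheaf.stalk x))) ∧
    IsIso ((TopCat.Sheaf.pullbackPushforwardAdjunction (Type u) i).counit.app F) := by
  exact main i hi F

end Groth.Agent.S7572
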