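import Groth.Statements.S7578
import Mathlib
import Groth.Agent.Lib.helper4.Codim

set_option autoImplicit false
universe u
open PtTop

namespace Groth.Agent.S7578

/-- Let X be a topological space which is locally Noetherian (every point has a Noetherian
neighbourhood) and sober, and let δ, δ' be two dimension functions on X. Then δ − δ' is locally
constant. -/
theorem result {X : Type u} [TopologicalSpace X] [QuasiSober X] [T0Space X]
    (hX : ∀ x : X, ∃ E ∈ nhds x, TopologicalSpace.NoetherianSpace E)
    (δ δ' : X → ℤ) (hδ : PtTop.IsDimensionFunction δ) (hδ' : PtTop.IsDimensionFunction δ') :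
    IsLocallyConstant (fun x => δ x - δ' x) := by
  classical
  -- g is constant along specializations
  have hspec : ∀ ξ y : X, ξ ⤳ y → δ ξ - δ' ξ = δ y - δ' y := by
    intro ξ y hξy
    have hle : (⟨closure {y}, isIrreducible_singleton.closure, isClosed_closure⟩ :
        TopologicalSpace.IrreducibleCloseds X) ≤
        (⟨closure {ξ}, isIrreducible_singleton.closure, isClosed_closure⟩ :
        TopologicalSpace.IrreducibleCloseds X) := by
      rw [← SetLike.coe_subset_coe]
      exact specializes_iff_closure_subset.1 hξy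
    have h1 := H4.H4_dimfun_codim_eq δ hδ _ _ hle
    have h2 := H4.H4_dimfun_codim_eq δ' hδ' _ _ hle
    rw [H4.H4_gp_closure_singleton, H4.H4_gp_closure_singleton] at h1 h2
    rw [h1] at h2
    have h3 : (δ ξ - δ y).toNat = (δ' ξ - δ' y).toNat := by exact_mod_cast h2
    have hnn : ∀ (d : X → ℤ), PtTop.IsDimensionFunction d → 0 ≤ d ξ - d y := by
      intro d hd
      by_cases he : ξ = y
      · rw [he]; simp
      · have := hd.1 ξ y hξy he
        omega
    have := hnn δ hδ
    have := hnn δ' hδ'
    omega
  rw [IsLocallyConstant.iff_exists_open]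
  intro x
  obtain ⟨E, hE, hEN⟩ := hX x
  let U : Set X := interior E
  have hUo : IsOpen U := isOpen_interior
  have hxU : x ∈ U := mem_interior_iff_mem_nhds.2 hE
  have : TopologicalSpace.NoetherianSpace U :=
    TopologicalSpace.NoetherianSpace.of_subset (W := E) interior_subset
  let x' : U := ⟨x, hxU⟩
  have hfin : (irreducibleComponents U).Finite :=
    TopologicalSpace.NoetherianSpace.finite_irreducibleComponents
  let S : Set (Set U) := {Z | Z ∈ irreducibleComponents U ∧ x' ∉ Z}
  have hSfin : S.Finite := hfin.subset (fun Z hZ => hZ.1)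
  have hAcl : IsClosed (⋃₀ S) := by
    rw [Set.sUnion_eq_biUnion]
    exact hSfin.isClosed_biUnion (fun Z hZ => isClosed_of_mem_irreducibleComponents Z hZ.1)
  have hx'A : x' ∉ ⋃₀ S := by
    rintro ⟨Z, hZ, hxZ⟩
    exact hZ.2 hxZ
  refine ⟨Subtype.val '' ((⋃₀ S)ᶜ : Set U), hUo.isOpenMap_subtype_val _ hAcl.isOpen_compl,
    ⟨x', hx'A, rfl⟩, ?_⟩
  rintro _ ⟨y', hy', rfl⟩
  -- irreducible component of y' contains x'
  have hxZ : x' ∈ irreducibleComponent y' := by
    by_contra hcon
    exact hy' ⟨irreducibleComponent y',
      ⟨irreducibleComponent_mem_irreducibleComponents y', hcon⟩, mem_irreducibleComponent⟩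
  have hirr : IsIrreducible (Subtype.val '' (irreducibleComponent y') : Set X) :=
    isIrreducible_irreducibleComponent.image _ continuous_subtype_val.continuousOn
  let ξ : X := hirr.genericPoint
  have hξ : IsGenericPoint ξ (closure (Subtype.val '' (irreducibleComponent y') : Set X)) :=
    hirr.isGenericPoint_genericPoint_closure
  have hξx : ξ ⤳ x := hξ.specializes (subset_closure ⟨x', hxZ, rfl⟩)
  have hξy : ξ ⤳ (y' : X) := hξ.specializes (subset_closure ⟨y', mem_irreducibleComponent, rfl⟩)
  rw [← hspec ξ x hξx, ← hspec ξ y' hξy]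

end Groth.Agent.S7578
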