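import Groth.Statements.S7579
import Mathlib
import Groth.Agent.Lib.helper4.Spectral

set_option autoImplicit false
universe u
open SpecSp

namespace Groth.Agent.S7579

/-- Let X be a spectral space. Then X with its constructible topology is Hausdorff and totally
disconnected. The published statement also asserts that the constructible topology is quasi-compact;
this row states the Hausdorff and totally disconnected parts. -/
theorem result (X : Type u) [TopologicalSpace X] [SpectralSpace X] :
    T2Space (WithConstructibleTopology X) ∧ TotallyDisconnectedSpace (WithConstructibleTopology X) := by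
  have hsep : ∀ x y : WithConstructibleTopology X, x ≠ y →
      ∃ U : Set (WithConstructibleTopology X), IsClopen U ∧ x ∈ U ∧ y ∉ U := by
    intro x y hxy
    have hne : x.ofTopology ≠ y.ofTopology := fun h => hxy (WithTopology.ofTopology_injective _ h)
    obtain ⟨U, hUo, hUc, h⟩ := H4.H4_exists_compact_open_sep hne
    have h1 : @IsOpen X (constructibleTopology X) U := hUc.isOpen_constructibleTopology_of_isOpen hUo
    have h2 : @IsClosed X (constructibleTopology X) U :=
      H4.H4_isClosed_constr_of_isCompact_isOpen hUc hUo
    have hclopen : IsClopen (WithTopology.ofTopology ⁻¹' U : Set (WithConstructibleTopology X)) :=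
      ⟨(WithTopology.isClosed_iff _).2 h2, (WithTopology.isOpen_iff _).2 h1⟩
    rcases h with ⟨hx, hy⟩ | ⟨hy, hx⟩
    · exact ⟨_, hclopen, hx, hy⟩
    · exact ⟨_, hclopen.compl, hx, fun h => h hy⟩
  constructor
  · refine ⟨fun x y hxy => ?_⟩
    obtain ⟨U, hU, hx, hy⟩ := hsep x y hxy
    exact ⟨U, Uᶜ, hU.isOpen, hU.compl.isOpen, hx, hy, disjoint_compl_right⟩
  · have : TotallySeparatedSpace (WithConstructibleTopology X) := by
      rw [totallySeparatedSpace_iff_exists_isClopen]
      intro x y hxy
      exact hsep x y hxy
    infer_instance

end Groth.Agent.S7579
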