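import Groth.Statements.S7581
import Mathlib
import Groth.Agent.Lib.helper4.Codim

set_option autoImplicit false
universe u
open PtTop

namespace Groth.Agent.S7581

/-- Let X be a topological space. Then X is catenary if and only if for every pair of irreducible closed
subsets Y ⊆ Y' the codimension codim(Y, Y') is finite and for every triple Y ⊆ Y' ⊆ Y'' of
irreducible closed subsets codim(Y, Y'') = codim(Y, Y') + codim(Y', Y''). -/
theorem result (X : Type u) [TopologicalSpace X] :
    PtTop.IsCatenarySpace X ↔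
      (∀ Y Y' : TopologicalSpace.IrreducibleCloseds X, Y ≤ Y' → PtTop.codim Y (Y' : Set X) ≠ ⊤) ∧
      (∀ Y Y' Y'' : TopologicalSpace.IrreducibleCloseds X, Y ≤ Y' → Y' ≤ Y'' →
        PtTop.codim Y (Y'' : Set X) = PtTop.codim Y (Y' : Set X) + PtTop.codim Y' (Y'' : Set X)) := by
  constructor
  · intro hcat
    refine ⟨fun Y Y' h => (hcat Y Y' h).1, ?_⟩
    intro Y Y' Y'' h1 h2
    obtain ⟨s₁, ha1, hb1, hc1, hd1⟩ := H4.H4_exists_sat_chain Y Y' h1 (hcat Y Y' h1).1
    obtain ⟨s₂, ha2, hb2, hc2, hd2⟩ := H4.H4_exists_sat_chain Y' Y'' h2 (hcat Y' Y'' h2).1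
    have hconn : s₁.last = s₂.head := by rw [hb1, ha2]
    have := (hcat Y Y'' (h1.trans h2)).2 (s₁.smash s₂ hconn) (by simp [ha1]) (by simp [hb2])
      (H4.H4_smash_sat s₁ s₂ hconn hc1 hc2)
    rw [← this, ← hd1, ← hd2]
    simp
  · rintro ⟨hfin, hadd⟩ T T' hTT'
    refine ⟨hfin T T' hTT', ?_⟩
    intro s hhead hlast hsat
    have key : ∀ k : ℕ, ∀ hk : k < s.length + 1,
        PtTop.codim (s 0) ((s ⟨k, hk⟩ : TopologicalSpace.IrreducibleCloseds X) : Set X) = (k : ℕ∞) := by
      intro k
      induction k with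
      | zero =>
        intro hk
        have := H4.H4_codim_self (s 0)
        simpa using this
      | succ k ih =>
        intro hk
        have hk' : k < s.length + 1 := by omega
        have hle1 : s 0 ≤ s ⟨k, hk'⟩ := s.monotone (by rw [Fin.le_def]; simp)
        have hcov : s ⟨k, hk'⟩ ⋖ s ⟨k + 1, hk⟩ := hsat ⟨k, by omega⟩
        rw [hadd (s 0) (s ⟨k, hk'⟩) (s ⟨k + 1, hk⟩) hle1 hcov.1.le, ih hk',
          H4.H4_codim_covBy _ _ hcov]
        simp
    have := key s.length (by omega)
    rw [← hhead, ← hlast]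
    exact this.symm

end Groth.Agent.S7581
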