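import Groth.Statements.S7584
import Mathlib

set_option autoImplicit false
universe u
open PtTop

namespace Groth.Agent.S7584

/-- Let X be a quasi-compact topological space in which each connected component equals the intersection
of all clopen sets that contain it. Then π₀(X), the set of connected components with the quotient
topology, is Hausdorff. The published statement concludes that π₀(X) is profinite; this row records
the Hausdorff property, quasi-compactness and total disconnectedness of the quotient being
automatic. -/
theorem result (X : Type u) [TopologicalSpace X] [CompactSpace X]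
    (h : ∀ x : X, connectedComponent x = ⋂₀ {Z : Set X | IsClopen Z ∧ x ∈ Z}) :
    T2Space (ConnectedComponents X) := by
  refine ⟨fun a b hab => ?_⟩
  obtain ⟨x, rfl⟩ := ConnectedComponents.surjective_coe a
  obtain ⟨y, rfl⟩ := ConnectedComponents.surjective_coe b
  have hy : y ∉ connectedComponent x := by
    intro hy
    exact hab (ConnectedComponents.coe_eq_coe'.2 hy).symm
  rw [h x] at hy
  simp only [Set.mem_sInter, not_forall] at hy
  obtain ⟨Z, ⟨hZ, hxZ⟩, hyZ⟩ := hy
  have hpre : ∀ W : Set X, IsClopen W →
      (ConnectedComponents.mk ⁻¹' (ConnectedComponents.mk '' W) : Set X) = W := by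
    intro W hW
    rw [connectedComponents_preimage_image, hW.biUnion_connectedComponent_eq]
  have hopen : ∀ W : Set X, IsClopen W → IsOpen (ConnectedComponents.mk '' W) := by
    intro W hW
    rw [← ConnectedComponents.isQuotientMap_coe.isOpen_preimage, hpre W hW]
    exact hW.2
  refine ⟨ConnectedComponents.mk '' Z, ConnectedComponents.mk '' Zᶜ, hopen Z hZ, hopen _ hZ.compl,
    ⟨x, hxZ, rfl⟩, ⟨y, hyZ, rfl⟩, ?_⟩
  rw [Set.disjoint_left]
  rintro _ ⟨z, hzZ, rfl⟩ ⟨w, hwZ, hw⟩
  have : z ∈ (ConnectedComponents.mk ⁻¹' (ConnectedComponents.mk '' Zᶜ) : Set X) := ⟨w, hwZ, hw⟩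
  rw [hpre _ hZ.compl] at this
  exact this hzZ

end Groth.Agent.S7584
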