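import Groth.Statements.S7651
import Mathlib
import Groth.Agent.Lib.helper4.OneDim

set_option autoImplicit false
universe u
open CategoryTheory CategoryTheory.Limits AlgebraicGeometry
open Variety

namespace Groth.Agent.S7651

/-- Let (A, m) be a Noetherian local ring of dimension one and f ∈ m. Then (1) m = √(f), (2) f lies in
no minimal prime of A, and (3) A_f ≅ ∏_{p minimal} A_p as A-algebras, are equivalent; such an f
exists; if A has depth one, for instance if A is reduced, they are also equivalent to (4) f is a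
nonzerodivisor and to (5) A → A_f is the localization of A at all its nonzerodivisors; and if A is
reduced they are also equivalent to (6) A_f ≅ ∏_{p minimal} κ(p) as A-algebras. -/
theorem result (A : Type u) [CommRing A] [IsLocalRing A]
    [IsNoetherianRing A] (hdim : ringKrullDim A = 1) :
    (∃ f ∈ IsLocalRing.maximalIdeal A, ∀ p ∈ minimalPrimes A, f ∉ p) ∧
    ∀ f ∈ IsLocalRing.maximalIdeal A,
      ((IsLocalRing.maximalIdeal A = (Ideal.span {f}).radical) ↔ (∀ p ∈ minimalPrimes A, f ∉ p)) ∧
      ((∀ p ∈ minimalPrimes A, f ∉ p) ↔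
        Nonempty (Localization.Away f ≃ₐ[A] (∀ p : {p : PrimeSpectrum A // p.asIdeal ∈ minimalPrimes A}, Localization.AtPrime p.1.asIdeal))) ∧
      ((LocCoh.depth A A = 1 ∨ IsReduced A) →
        ((∀ p ∈ minimalPrimes A, f ∉ p) ↔ f ∈ nonZeroDivisors A) ∧
        ((∀ p ∈ minimalPrimes A, f ∉ p) ↔ IsLocalization (nonZeroDivisors A) (Localization.Away f))) ∧
      (IsReduced A →
        ((∀ p ∈ minimalPrimes A, f ∉ p) ↔
          Nonempty (Localization.Away f ≃ₐ[A] (∀ p : {p : PrimeSpectrum A // p.asIdeal ∈ minimalPrimes A}, p.1.asIdeal.ResidueField)))) := by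
  classical
  haveI := Groth.Agent.H4.H4_finite_minIdx A
  haveI := Fintype.ofFinite {p : PrimeSpectrum A // p.asIdeal ∈ minimalPrimes A}
  have hmh : (IsLocalRing.maximalIdeal A).height = 1 := by
    have h1 : ((IsLocalRing.maximalIdeal A).height : WithBot ℕ∞) = ringKrullDim A :=
      IsLocalRing.maximalIdeal_height_eq_ringKrullDim
    rw [hdim] at h1
    exact_mod_cast h1
  have hmnot : IsLocalRing.maximalIdeal A ∉ minimalPrimes A := by
    intro h
    have := Ideal.height_eq_zero_iff.2 h
    rw [hmh] at this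
    exact one_ne_zero this
  -- every prime is minimal or maximal
  have hprime : ∀ J : Ideal A, J.IsPrime → J ∉ minimalPrimes A → J = IsLocalRing.maximalIdeal A := by
    intro J hJ hJmin
    haveI := hJ
    have hJm : J ≤ IsLocalRing.maximalIdeal A := IsLocalRing.le_maximalIdeal hJ.ne_top
    by_contra hne
    have hlt : J < IsLocalRing.maximalIdeal A := lt_of_le_of_ne hJm hne
    have h2 : J.height < (IsLocalRing.maximalIdeal A).height :=
      Ideal.height_strict_mono_of_isPrime_of_isPrime hlt
    rw [hmh, ENat.lt_one_iff_eq_zero] at h2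
    exact hJmin (Ideal.height_eq_zero_iff.1 h2)
  -- (b)
  have hb : ∀ f ∈ IsLocalRing.maximalIdeal A,
      ((IsLocalRing.maximalIdeal A = (Ideal.span {f}).radical) ↔ (∀ p ∈ minimalPrimes A, f ∉ p)) := by
    intro f hf
    constructor
    · intro h p hp hfp
      haveI : p.IsPrime := hp.1.1
      have h1 : (Ideal.span {f}).radical ≤ p :=
        (Ideal.IsPrime.radical_le_iff ‹p.IsPrime›).2 ((Ideal.span_singleton_le_iff_mem _).2 hfp)
      rw [← h] at h1
      have h2 : p = IsLocalRing.maximalIdeal A :=
        le_antisymm (IsLocalRing.le_maximalIdeal ‹p.IsPrime›.ne_top) h1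
      exact hmnot (h2 ▸ hp)
    · intro h
      refine le_antisymm ?_ ?_
      · rw [Ideal.radical_eq_sInf]
        refine le_sInf ?_
        rintro J ⟨hfJ, hJ⟩
        have hfJ' : f ∈ J := (Ideal.span_singleton_le_iff_mem _).1 hfJ
        have : J = IsLocalRing.maximalIdeal A := hprime J hJ (fun hJmin => h J hJmin hfJ')
        rw [this]
      · exact (Ideal.IsPrime.radical_le_iff (inferInstance : (IsLocalRing.maximalIdeal A).IsPrime)).2
          ((Ideal.span_singleton_le_iff_mem _).2 hf)
  -- (a)
  have ha : ∃ f ∈ IsLocalRing.maximalIdeal A, ∀ p ∈ minimalPrimes A, f ∉ p := by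
    by_contra hcon
    push Not at hcon
    have hfin : (minimalPrimes A).Finite := minimalPrimes.finite_of_isNoetherianRing A
    have hsub : ((IsLocalRing.maximalIdeal A : Ideal A) : Set A) ⊆
        ⋃ i ∈ (↑hfin.toFinset : Set (Ideal A)), (id i : Ideal A) := by
      intro f hf
      obtain ⟨p, hp, hfp⟩ := hcon f hf
      simp only [Set.mem_iUnion]
      exact ⟨p, by simpa using hp, hfp⟩
    obtain ⟨p, hp, hle⟩ := (Ideal.subset_union_prime (s := hfin.toFinset) (f := id)
      (IsLocalRing.maximalIdeal A) (IsLocalRing.maximalIdeal A)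
      (fun i hi _ _ => (hfin.mem_toFinset.1 hi).1.1)).1 hsub
    have hp' : p ∈ minimalPrimes A := hfin.mem_toFinset.1 hp
    haveI : p.IsPrime := hp'.1.1
    have : p = IsLocalRing.maximalIdeal A :=
      le_antisymm (IsLocalRing.le_maximalIdeal ‹p.IsPrime›.ne_top) hle
    exact hmnot (this ▸ hp')
  -- (c) forward
  have hc1 : ∀ f ∈ IsLocalRing.maximalIdeal A, (∀ p ∈ minimalPrimes A, f ∉ p) →
      Nonempty (Localization.Away f ≃ₐ[A] (∀ p : {p : PrimeSpectrum A // p.asIdeal ∈ minimalPrimes A},
        Localization.AtPrime p.1.asIdeal)) := by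
    intro f hf h
    have hunit : ∀ y : Submonoid.powers f, IsUnit ((Algebra.ofId A (∀ p : {p : PrimeSpectrum A //
        p.asIdeal ∈ minimalPrimes A}, Localization.AtPrime p.1.asIdeal)) y) := by
      rintro ⟨_, n, rfl⟩
      show IsUnit (algebraMap A _ (f ^ n))
      rw [map_pow]
      refine IsUnit.pow n ?_
      rw [Pi.isUnit_iff]
      intro p
      rw [Pi.algebraMap_apply]
      exact IsLocalization.map_units _ (⟨f, h p.1.asIdeal p.2⟩ : p.1.asIdeal.primeCompl)
    let φ : Localization.Away f →ₐ[A] (∀ p : {p : PrimeSpectrum A // p.asIdeal ∈ minimalPrimes A},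
        Localization.AtPrime p.1.asIdeal) := IsLocalization.liftAlgHom (M := Submonoid.powers f) hunit
    have hφ : ∀ x : A, φ (algebraMap A (Localization.Away f) x) = algebraMap A _ x := fun x =>
      φ.commutes x
    refine ⟨AlgEquiv.ofBijective φ ⟨?_, ?_⟩⟩
    · rw [injective_iff_map_eq_zero]
      intro z hz
      obtain ⟨⟨x, s⟩, hxs⟩ := IsLocalization.surj (Submonoid.powers f) z
      have h1 : algebraMap A (∀ p : {p : PrimeSpectrum A // p.asIdeal ∈ minimalPrimes A},
          Localization.AtPrime p.1.asIdeal) x = 0 := by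
        rw [← hφ x, ← hxs, map_mul, hz, zero_mul]
      have h2 : ∀ p ∈ minimalPrimes A, ∃ s : A, s ∉ p ∧ s * x = 0 := by
        intro p hp
        haveI : p.IsPrime := hp.1.1
        have h3 := congrFun h1 (⟨⟨p, hp.1.1⟩, hp⟩ : {p : PrimeSpectrum A // p.asIdeal ∈ minimalPrimes A})
        rw [Pi.algebraMap_apply, Pi.zero_apply] at h3
        obtain ⟨s, hs⟩ := (IsLocalization.map_eq_zero_iff p.primeCompl _ x).1 h3
        exact ⟨s, s.2, hs⟩
      obtain ⟨k, hk⟩ := Groth.Agent.H4.H4_onedim_ann A hdim x h2
      have h4 : f ^ k * x = 0 := hk _ (Ideal.pow_mem_pow hf k)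
      have h5 : algebraMap A (Localization.Away f) x = 0 :=
        (IsLocalization.map_eq_zero_iff (Submonoid.powers f) _ x).2 ⟨⟨f ^ k, k, rfl⟩, h4⟩
      rw [h5] at hxs
      exact (IsLocalization.map_units (Localization.Away f) s).mul_left_eq_zero.1 hxs
    · intro ℓ
      obtain ⟨N, hN⟩ := Groth.Agent.H4.H4_onedim_prod_key A hdim ℓ
      obtain ⟨z, hz⟩ := hN (f ^ N) (Ideal.pow_mem_pow hf N)
      refine ⟨IsLocalization.mk' (Localization.Away f) z (⟨f ^ N, N, rfl⟩ : Submonoid.powers f), ?_⟩
      have hu := hunit ⟨f ^ N, N, rfl⟩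
      have h6 : φ (IsLocalization.mk' (Localization.Away f) z (⟨f ^ N, N, rfl⟩ : Submonoid.powers f)) *
          algebraMap A _ (f ^ N) = ℓ * algebraMap A _ (f ^ N) := by
        have e : φ (IsLocalization.mk' (Localization.Away f) z (⟨f ^ N, N, rfl⟩ : Submonoid.powers f)) *
            algebraMap A _ (f ^ N) =
            φ (IsLocalization.mk' (Localization.Away f) z (⟨f ^ N, N, rfl⟩ : Submonoid.powers f) *
              algebraMap A (Localization.Away f) (f ^ N)) := by
          rw [map_mul, hφ]
        rw [e, IsLocalization.mk'_spec, hφ, hz, mul_comm]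
      exact hu.mul_left_injective h6
  -- (c) backward
  have hc2 : ∀ f : A, Nonempty (Localization.Away f ≃ₐ[A]
      (∀ p : {p : PrimeSpectrum A // p.asIdeal ∈ minimalPrimes A},
        Localization.AtPrime p.1.asIdeal)) → ∀ p ∈ minimalPrimes A, f ∉ p := by
    rintro f ⟨e⟩ p hp hfp
    haveI : p.IsPrime := hp.1.1
    have hu1 : IsUnit (algebraMap A (Localization.Away f) f) :=
      IsLocalization.Away.algebraMap_isUnit f
    have hu2 : IsUnit (algebraMap A (∀ p : {p : PrimeSpectrum A // p.asIdeal ∈ minimalPrimes A},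
        Localization.AtPrime p.1.asIdeal) f) := by
      rw [← e.commutes f]; exact hu1.map e
    rw [Pi.isUnit_iff] at hu2
    have hu3 := hu2 ⟨⟨p, hp.1.1⟩, hp⟩
    rw [Pi.algebraMap_apply] at hu3
    exact (IsLocalization.AtPrime.isUnit_to_map_iff _ p f).1 hu3 hfp
  -- zero divisors
  have hdisj : ∀ g ∈ nonZeroDivisors A, ∀ p ∈ minimalPrimes A, g ∉ p := by
    intro g hg p hp hgp
    exact Set.disjoint_left.1 (Ideal.disjoint_nonZeroDivisors_of_mem_minimalPrimes hp) hgp hg
  have hZ : (LocCoh.depth A A = 1 ∨ IsReduced A) → ∀ g : A, (∀ p ∈ minimalPrimes A, g ∉ p) →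
      g ∈ nonZeroDivisors A := by
    rintro (hdep | hred) g hg
    · obtain ⟨g₀, hg₀m, hg₀⟩ : ∃ g₀ ∈ IsLocalRing.maximalIdeal A, IsSMulRegular A g₀ := by
        by_contra hcon
        push Not at hcon
        have h0 : LocCoh.depth A A = 0 := by
          unfold LocCoh.depth LocCoh.idealDepth
          rw [if_neg]
          · apply le_antisymm _ zero_le
            refine iSup_le fun rs => iSup_le fun hrs => ?_
            cases rs with
            | nil => simp
            | cons r rs =>
              exfalso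
              exact hcon r (hrs.2 r (List.mem_cons_self ..))
                ((RingTheory.Sequence.isWeaklyRegular_cons_iff A r rs).1 hrs.1).1
          · rw [Ideal.smul_eq_mul, Ideal.mul_top]
            exact (IsLocalRing.maximalIdeal.isMaximal A).ne_top
        rw [hdep] at h0
        exact one_ne_zero h0
      rw [mem_nonZeroDivisors_iff_right]
      intro x hx
      by_contra hx0
      obtain ⟨P, hP, hle⟩ := exists_le_isAssociatedPrime_of_isNoetherianRing A x hx0
      have hgP : g ∈ P := hle (by
        rw [Submodule.mem_colon_singleton, Submodule.mem_bot, smul_eq_mul, mul_comm]; exact hx)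
      have hPm : P = IsLocalRing.maximalIdeal A :=
        hprime P hP.isPrime (fun hmin => hg P hmin hgP)
      obtain ⟨-, y, hy⟩ := isAssociatedPrime_iff.1 hP
      have h1 : g₀ ∈ (⊥ : Submodule A A).colon {y} := by
        rw [← hy, hPm]; exact hg₀m
      rw [Submodule.mem_colon_singleton, Submodule.mem_bot] at h1
      have hy0 : y = 0 := hg₀ (by simpa using h1)
      have h2 : (1 : A) ∈ P := by
        rw [hy, Submodule.mem_colon_singleton, hy0]; simp
      exact hP.isPrime.ne_top ((Ideal.eq_top_iff_one _).2 h2)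
    · rw [mem_nonZeroDivisors_iff_right]
      intro x hx
      have hxnil : x ∈ nilradical A := by
        have e1 : nilradical A = sInf (minimalPrimes A) := by
          rw [nilradical, minimalPrimes, Ideal.sInf_minimalPrimes, Ideal.zero_eq_bot]
        rw [e1, Ideal.mem_sInf]
        intro p hp
        have h1 : x * g ∈ p := hx ▸ p.zero_mem
        exact (hp.1.1.mem_or_mem h1).resolve_right (hg p hp)
      rw [nilradical_eq_zero A] at hxnil
      simpa using hxnil
  -- (d2) forward
  have hd2 : ∀ f ∈ IsLocalRing.maximalIdeal A, f ∈ nonZeroDivisors A →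
      IsLocalization (nonZeroDivisors A) (Localization.Away f) := by
    intro f hf hfnz
    refine IsLocalization.of_le (M := Submonoid.powers f) (nonZeroDivisors A)
      (Submonoid.powers_le.2 hfnz) ?_
    intro g hg
    by_cases hgm : g ∈ IsLocalRing.maximalIdeal A
    · have h1 : IsLocalRing.maximalIdeal A = (Ideal.span {g}).radical :=
        (hb g hgm).2 (hdisj g hg)
      have h2 : f ∈ (Ideal.span {g}).radical := h1 ▸ hf
      obtain ⟨n, hn⟩ := h2
      rw [Ideal.mem_span_singleton] at hn
      have h3 : algebraMap A (Localization.Away f) g ∣ algebraMap A (Localization.Away f) (f ^ n) :=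
        map_dvd _ hn
      refine isUnit_of_dvd_unit h3 ?_
      rw [map_pow]
      exact (IsLocalization.Away.algebraMap_isUnit f).pow n
    · exact (IsLocalRing.notMem_maximalIdeal.1 hgm).map _
  have hd2' : ∀ f : A, IsLocalization (nonZeroDivisors A) (Localization.Away f) →
      f ∈ nonZeroDivisors A := by
    intro f hloc
    rw [mem_nonZeroDivisors_iff_right]
    intro x hx
    have hinj := IsLocalization.injective (Localization.Away f) (le_refl (nonZeroDivisors A))
    apply hinj
    rw [map_zero]
    have h1 : algebraMap A (Localization.Away f) x * algebraMap A (Localization.Away f) f = 0 := by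
      rw [← map_mul, hx, map_zero]
    exact (IsLocalization.Away.algebraMap_isUnit f).mul_left_eq_zero.1 h1
  -- (e)
  have he : IsReduced A → ∀ p : {p : PrimeSpectrum A // p.asIdeal ∈ minimalPrimes A},
      Nonempty (Localization.AtPrime p.1.asIdeal ≃ₐ[A] p.1.asIdeal.ResidueField) := by
    intro hred p
    have hmax : IsLocalRing.maximalIdeal (Localization.AtPrime p.1.asIdeal) = ⊥ := by
      have hrad := IsLocalization.AtPrime.radical_map_of_mem_minimalPrimes
        (A := Localization.AtPrime p.1.asIdeal) p.1.asIdeal ⊥ p.2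
      rw [Ideal.map_bot, IsLocalization.AtPrime.map_eq_maximalIdeal] at hrad
      rw [← hrad]
      have := nilradical_eq_zero (Localization.AtPrime p.1.asIdeal)
      rw [nilradical, Ideal.zero_eq_bot] at this
      exact this
    refine ⟨AlgEquiv.ofBijective
      (IsScalarTower.toAlgHom A (Localization.AtPrime p.1.asIdeal) p.1.asIdeal.ResidueField) ⟨?_, ?_⟩⟩
    · show Function.Injective (algebraMap (Localization.AtPrime p.1.asIdeal) p.1.asIdeal.ResidueField)
      rw [RingHom.injective_iff_ker_eq_bot]
      show RingHom.ker (IsLocalRing.residue (Localization.AtPrime p.1.asIdeal)) = ⊥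
      rw [IsLocalRing.ker_residue, hmax]
    · exact IsLocalRing.residue_surjective
  refine ⟨ha, fun f hf => ⟨hb f hf, ⟨hc1 f hf, hc2 f⟩, fun hd => ⟨⟨hZ hd f, fun h => hdisj f h⟩,
    ⟨fun h => hd2 f hf (hZ hd f h), fun h => hdisj f (hd2' f h)⟩⟩, fun hred => ⟨fun h => ?_, ?_⟩⟩⟩
  · obtain ⟨e⟩ := hc1 f hf h
    exact ⟨e.trans (AlgEquiv.piCongrRight (fun p => (he hred p).some))⟩
  · rintro ⟨e⟩ p hp hfp
    haveI : p.IsPrime := hp.1.1
    have hu1 : IsUnit (algebraMap A (Localization.Away f) f) :=
      IsLocalization.Away.algebraMap_isUnit f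
    have hu2 : IsUnit (algebraMap A (∀ p : {p : PrimeSpectrum A // p.asIdeal ∈ minimalPrimes A},
        p.1.asIdeal.ResidueField) f) := by
      rw [← e.commutes f]; exact hu1.map e
    rw [Pi.isUnit_iff] at hu2
    have hu3 := hu2 ⟨⟨p, hp.1.1⟩, hp⟩
    rw [Pi.algebraMap_apply] at hu3
    exact hu3.ne_zero (Ideal.algebraMap_residueField_eq_zero.2 hfp)

end Groth.Agent.S7651
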