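import Groth.Statements.S7661
import Mathlib

set_option autoImplicit false
universe u
open CategoryTheory CategoryTheory.Limits AlgebraicGeometry
open Variety

namespace Groth.Agent.S7661

/-- Let A be a ring, I an ideal, p_1, …, p_r prime ideals with I ⊄ p_i for all i, and let f̄ ∈ A/I. Then
f̄ lifts to an element f ∈ A with f ∉ p_i for all i. -/
theorem result (A : Type u) [CommRing A] (I : Ideal A)
    (s : Finset (Ideal A)) (hs : ∀ p ∈ s, p.IsPrime) (hI : ∀ p ∈ s, ¬ I ≤ p) (fbar : A ⧸ I) :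
    ∃ f : A, Ideal.Quotient.mk I f = fbar ∧ ∀ p ∈ s, f ∉ p := by
  classical
  obtain ⟨f₀, rfl⟩ := Ideal.Quotient.mk_surjective fbar
  suffices h : ∀ (n : ℕ) (s : Finset (Ideal A)), s.card = n → (∀ p ∈ s, p.IsPrime) →
      (∀ p ∈ s, ¬ I ≤ p) → ∀ f₀ : A, ∃ i ∈ I, ∀ p ∈ s, f₀ + i ∉ p by
    obtain ⟨i, hi, h⟩ := h s.card s rfl hs hI f₀
    refine ⟨f₀ + i, ?_, h⟩
    rw [map_add, Ideal.Quotient.eq_zero_iff_mem.2 hi, add_zero]
  intro n
  induction n with
  | zero =>
    intro s hs _ _ f₀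
    rw [Finset.card_eq_zero] at hs
    subst hs
    exact ⟨0, I.zero_mem, by simp⟩
  | succ n ih =>
    intro s hcard hs hI f₀
    have hne : s.Nonempty := by rw [← Finset.card_pos]; omega
    obtain ⟨p₀, hp₀, hmin⟩ := s.exists_minimal hne
    have hcard' : (s.erase p₀).card = n := by rw [Finset.card_erase_of_mem hp₀]; omega
    obtain ⟨i₁, hi₁, h₁⟩ := ih (s.erase p₀) hcard'
      (fun p hp => hs p (Finset.mem_of_mem_erase hp))
      (fun p hp => hI p (Finset.mem_of_mem_erase hp)) f₀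
    by_cases hf : f₀ + i₁ ∈ p₀
    · have hprime : p₀.IsPrime := hs p₀ hp₀
      obtain ⟨xI, hxI, hxI'⟩ := Set.not_subset.1 (hI p₀ hp₀)
      have hx : ∀ p ∈ s.erase p₀, ∃ x ∈ p, x ∉ p₀ := by
        intro p hp
        have hpne := Finset.ne_of_mem_erase hp
        have hps := Finset.mem_of_mem_erase hp
        have : ¬ p ≤ p₀ := fun hle => hpne (le_antisymm hle (hmin hps hle))
        exact Set.not_subset.1 this
      choose! x hxp hxp₀ using hx
      have hjI : xI * ∏ p ∈ s.erase p₀, x p ∈ I := I.mul_mem_right _ hxI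
      have hjp : ∀ p ∈ s.erase p₀, xI * ∏ p ∈ s.erase p₀, x p ∈ p := by
        intro p hp
        refine Ideal.mul_mem_left _ _ ?_
        obtain ⟨c, hc⟩ := Finset.dvd_prod_of_mem x hp
        rw [hc]
        exact Ideal.mul_mem_right _ _ (hxp p hp)
      have hjp₀ : xI * ∏ p ∈ s.erase p₀, x p ∉ p₀ := by
        intro h
        rcases hprime.mem_or_mem h with h | h
        · exact hxI' h
        · rw [Ideal.IsPrime.prod_mem_iff] at h
          obtain ⟨p, hp, hxp'⟩ := h
          exact hxp₀ p hp hxp'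
      refine ⟨i₁ + xI * ∏ p ∈ s.erase p₀, x p, I.add_mem hi₁ hjI, ?_⟩
      intro p hp hmem
      rw [← add_assoc] at hmem
      by_cases hpp : p = p₀
      · subst hpp
        exact hjp₀ ((Ideal.add_mem_iff_right _ hf).1 hmem)
      · have hp' : p ∈ s.erase p₀ := Finset.mem_erase.2 ⟨hpp, hp⟩
        exact h₁ p hp' ((Ideal.add_mem_iff_left _ (hjp p hp')).1 hmem)
    · refine ⟨i₁, hi₁, ?_⟩
      intro p hp
      by_cases hpp : p = p₀
      · subst hpp; exact hf
      · exact h₁ p (Finset.mem_erase.2 ⟨hpp, hp⟩)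

end Groth.Agent.S7661
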