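import Groth.Statements.S7666
import Mathlib
import Groth.Agent.Lib.helper4.OneDim

set_option autoImplicit false
universe u
open CategoryTheory CategoryTheory.Limits AlgebraicGeometry
open Variety

namespace Groth.Agent.S7666

/-- Let A be a one-dimensional Noetherian local ring and L = ∏ A_p, the product over the minimal primes
of A. If a_1, a_2 ∈ m_A have the same image in L, then a_1 and a_2 have equal n-th powers for some
positive integer n. -/
theorem result (A : Type u) [CommRing A]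
    [IsLocalRing A] [IsNoetherianRing A] (hdim : ringKrullDim A = 1)
    (a₁ a₂ : A) (h₁ : a₁ ∈ IsLocalRing.maximalIdeal A) (h₂ : a₂ ∈ IsLocalRing.maximalIdeal A)
    (heq : ∀ p : {p : PrimeSpectrum A // p.asIdeal ∈ minimalPrimes A},
      algebraMap A (Localization.AtPrime p.1.asIdeal) a₁ = algebraMap A (Localization.AtPrime p.1.asIdeal) a₂) :
    ∃ n : ℕ, 0 < n ∧ a₁ ^ n = a₂ ^ n := by
  have hx : ∀ p ∈ minimalPrimes A, ∃ s : A, s ∉ p ∧ s * (a₁ - a₂) = 0 := by
    intro p hp
    haveI : p.IsPrime := hp.1.1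
    have h := heq ⟨⟨p, inferInstance⟩, hp⟩
    have h0 : algebraMap A (Localization.AtPrime p) (a₁ - a₂) = 0 := by
      rw [map_sub, sub_eq_zero]
      exact h
    obtain ⟨s, hs⟩ := (IsLocalization.map_eq_zero_iff p.primeCompl (Localization.AtPrime p) _).1 h0
    exact ⟨s.1, s.2, hs⟩
  obtain ⟨k, hk⟩ := Groth.Agent.H4.H4_onedim_ann A hdim (a₁ - a₂) hx
  refine ⟨k + 1, Nat.succ_pos k, ?_⟩
  have hsum : ∑ i ∈ Finset.range (k + 1), a₁ ^ i * a₂ ^ (k + 1 - 1 - i) ∈ IsLocalRing.maximalIdeal A ^ k := by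
    refine Ideal.sum_mem _ fun i hi => ?_
    rw [Finset.mem_range] at hi
    have e : k = i + (k + 1 - 1 - i) := by omega
    rw [e, pow_add]
    rw [← e]
    exact Ideal.mul_mem_mul (Ideal.pow_mem_pow h₁ i) (Ideal.pow_mem_pow h₂ _)
  have h3 := hk _ hsum
  rw [geom_sum₂_mul] at h3
  exact sub_eq_zero.1 h3

end Groth.Agent.S7666
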