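import Groth.Statements.S7667
import Mathlib
import Groth.Agent.Lib.helper4.OneDim

set_option autoImplicit false
universe u
open CategoryTheory CategoryTheory.Limits AlgebraicGeometry
open Variety

namespace Groth.Agent.S7667

/-- Let A be a one-dimensional Noetherian local ring, L the product of the localizations A_p over its
minimal primes p, and I the intersection of those primes (the nilradical of A). If f ∈ L equals i +
a with a in the maximal ideal of A and i ∈ I·L, then for some positive integer n, f^n belongs to the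
subring of L obtained as the image of the structure map from A. -/
theorem result (A : Type u) [CommRing A]
    [IsLocalRing A] [IsNoetherianRing A] (hdim : ringKrullDim A = 1)
    (a : A) (ha : a ∈ IsLocalRing.maximalIdeal A)
    (i : ∀ p : {p : PrimeSpectrum A // p.asIdeal ∈ minimalPrimes A}, Localization.AtPrime p.1.asIdeal)
    (hi : i ∈ (nilradical A).map (algebraMap A (∀ p : {p : PrimeSpectrum A // p.asIdeal ∈ minimalPrimes A}, Localization.AtPrime p.1.asIdeal))) :
    ∃ n : ℕ, 0 < n ∧ (i + algebraMap A (∀ p : {p : PrimeSpectrum A // p.asIdeal ∈ minimalPrimes A}, Localization.AtPrime p.1.asIdeal) a) ^ n ∈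
      (algebraMap A (∀ p : {p : PrimeSpectrum A // p.asIdeal ∈ minimalPrimes A}, Localization.AtPrime p.1.asIdeal)).range := by
  classical
  haveI : Finite {p : PrimeSpectrum A // p.asIdeal ∈ minimalPrimes A} := by
    have hfin : (minimalPrimes A).Finite := minimalPrimes.finite_of_isNoetherianRing A
    haveI := hfin.to_subtype
    refine Finite.of_injective
      (fun p : {p : PrimeSpectrum A // p.asIdeal ∈ minimalPrimes A} =>
        (⟨p.1.asIdeal, p.2⟩ : ↥(minimalPrimes A))) ?_
    intro p q h
    exact Subtype.ext (PrimeSpectrum.ext (congrArg Subtype.val h))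
  haveI := Fintype.ofFinite {p : PrimeSpectrum A // p.asIdeal ∈ minimalPrimes A}
  have key : ∀ ℓ : (∀ p : {p : PrimeSpectrum A // p.asIdeal ∈ minimalPrimes A},
      Localization.AtPrime p.1.asIdeal), ∃ N : ℕ, ∀ y ∈ IsLocalRing.maximalIdeal A ^ N,
      algebraMap A (∀ p : {p : PrimeSpectrum A // p.asIdeal ∈ minimalPrimes A},
        Localization.AtPrime p.1.asIdeal) y * ℓ ∈
      (algebraMap A (∀ p : {p : PrimeSpectrum A // p.asIdeal ∈ minimalPrimes A},
        Localization.AtPrime p.1.asIdeal)).range := by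
    intro ℓ
    let I : Ideal A :=
      { carrier := {y | algebraMap A (∀ p : {p : PrimeSpectrum A // p.asIdeal ∈ minimalPrimes A},
          Localization.AtPrime p.1.asIdeal) y * ℓ ∈
          (algebraMap A (∀ p : {p : PrimeSpectrum A // p.asIdeal ∈ minimalPrimes A},
            Localization.AtPrime p.1.asIdeal)).range}
        add_mem' := by
          intro y z hy hz
          simp only [Set.mem_ofPred_eq] at hy hz ⊢
          rw [map_add, add_mul]
          exact Subring.add_mem _ hy hz
        zero_mem' := by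
          simp only [Set.mem_ofPred_eq]
          rw [map_zero, zero_mul]
          exact Subring.zero_mem _
        smul_mem' := by
          intro c y hy
          simp only [Set.mem_ofPred_eq] at hy ⊢
          rw [smul_eq_mul, map_mul, mul_assoc]
          exact Subring.mul_mem _ ⟨c, rfl⟩ hy }
    have hI : ∀ q ∈ minimalPrimes A, ∃ s : A, s ∉ q ∧ s ∈ I := by
      intro q hq
      obtain ⟨qi, hqi⟩ : ∃ qi : {p : PrimeSpectrum A // p.asIdeal ∈ minimalPrimes A},
          qi.1.asIdeal = q := ⟨⟨⟨q, hq.1.1⟩, hq⟩, rfl⟩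
      subst hqi
      have hu : ∀ p : {p : PrimeSpectrum A // p.asIdeal ∈ minimalPrimes A}, p ≠ qi →
          ∃ w : A, w ∉ qi.1.asIdeal ∧ algebraMap A (Localization.AtPrime p.1.asIdeal) w = 0 := by
        intro p hp
        have hnle : ¬ p.1.asIdeal ≤ qi.1.asIdeal := by
          intro hle
          have h1 : qi.1.asIdeal ≤ p.1.asIdeal := hq.2 ⟨p.1.2, bot_le⟩ hle
          exact hp (Subtype.ext (PrimeSpectrum.ext (le_antisymm hle h1)))
        obtain ⟨u, hup, huq⟩ := SetLike.not_le_iff_exists.1 hnle
        have hrad := IsLocalization.AtPrime.radical_map_of_mem_minimalPrimes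
          (A := Localization.AtPrime p.1.asIdeal) p.1.asIdeal ⊥ p.2
        rw [Ideal.map_bot] at hrad
        have h2 : algebraMap A (Localization.AtPrime p.1.asIdeal) u ∈
            (⊥ : Ideal (Localization.AtPrime p.1.asIdeal)).radical := by
          rw [hrad]; exact Ideal.mem_map_of_mem _ hup
        obtain ⟨k, hk⟩ := h2
        refine ⟨u ^ k, fun h => huq (Ideal.IsPrime.mem_of_pow_mem qi.1.2 k h), ?_⟩
        rw [map_pow]
        exact hk
      choose! w hwq hw0 using hu
      obtain ⟨⟨x, s⟩, hxs⟩ := IsLocalization.surj qi.1.asIdeal.primeCompl (ℓ qi)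
      have hWq : (∏ p ∈ Finset.univ.erase qi, w p) ∉ qi.1.asIdeal := by
        intro h
        obtain ⟨p, hp, hpq⟩ := (Ideal.IsPrime.prod_mem_iff (hp := qi.1.2)).1 h
        exact hwq p (Finset.ne_of_mem_erase hp) hpq
      have hW0 : ∀ p : {p : PrimeSpectrum A // p.asIdeal ∈ minimalPrimes A}, p ≠ qi →
          algebraMap A (Localization.AtPrime p.1.asIdeal) (∏ p ∈ Finset.univ.erase qi, w p) = 0 := by
        intro p hp
        rw [map_prod]
        exact Finset.prod_eq_zero (Finset.mem_erase.2 ⟨hp, Finset.mem_univ p⟩) (hw0 p hp)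
      refine ⟨s * ∏ p ∈ Finset.univ.erase qi, w p, fun h => ?_,
        ⟨x * ∏ p ∈ Finset.univ.erase qi, w p, ?_⟩⟩
      · rcases Ideal.IsPrime.mem_or_mem qi.1.2 h with h | h
        · exact s.2 h
        · exact hWq h
      · funext p
        rw [Pi.mul_apply, Pi.algebraMap_apply, Pi.algebraMap_apply]
        by_cases hp : p = qi
        · subst hp
          rw [map_mul, map_mul, ← hxs]
          ring
        · rw [map_mul, map_mul, hW0 p hp]
          ring
    obtain ⟨N, hN⟩ := Groth.Agent.H4.H4_onedim_pow_le A hdim I hI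
    exact ⟨N, fun y hy => hN hy⟩
  obtain ⟨r, hr⟩ : ∃ r : ℕ, nilradical A ^ r = 0 := IsNoetherianRing.isNilpotent_nilradical A
  have hir : i ^ r = 0 := by
    have h1 := Ideal.pow_mem_pow hi r
    rw [← Ideal.map_pow, hr, Ideal.zero_eq_bot, Ideal.map_bot] at h1
    simpa using h1
  choose Nf hNf using key
  refine ⟨(∑ k ∈ Finset.range r, Nf (i ^ k)) + r + 1, by omega, ?_⟩
  rw [add_pow]
  refine Subring.sum_mem _ fun k _ => ?_
  by_cases hk : k < r
  · have hle : Nf (i ^ k) ≤ ∑ k ∈ Finset.range r, Nf (i ^ k) :=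
      Finset.single_le_sum (f := fun k => Nf (i ^ k)) (fun _ _ => Nat.zero_le _)
        (Finset.mem_range.2 hk)
    have h1 : a ^ ((∑ k ∈ Finset.range r, Nf (i ^ k)) + r + 1 - k) ∈
        IsLocalRing.maximalIdeal A ^ Nf (i ^ k) :=
      Ideal.pow_le_pow_right (by omega) (Ideal.pow_mem_pow ha _)
    have h2 := hNf (i ^ k) _ h1
    have e1 : i ^ k * algebraMap A (∀ p : {p : PrimeSpectrum A // p.asIdeal ∈ minimalPrimes A},
          Localization.AtPrime p.1.asIdeal) a ^ ((∑ k ∈ Finset.range r, Nf (i ^ k)) + r + 1 - k) *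
        ((((∑ k ∈ Finset.range r, Nf (i ^ k)) + r + 1).choose k : ℕ) :
          (∀ p : {p : PrimeSpectrum A // p.asIdeal ∈ minimalPrimes A},
          Localization.AtPrime p.1.asIdeal)) =
        (algebraMap A _ (a ^ ((∑ k ∈ Finset.range r, Nf (i ^ k)) + r + 1 - k)) * i ^ k) *
        ((((∑ k ∈ Finset.range r, Nf (i ^ k)) + r + 1).choose k : ℕ) :
          (∀ p : {p : PrimeSpectrum A // p.asIdeal ∈ minimalPrimes A},
          Localization.AtPrime p.1.asIdeal)) := by
      rw [map_pow]; ring
    rw [e1]
    exact Subring.mul_mem _ h2 (natCast_mem _ _)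
  · have h0 : i ^ k = 0 := by
      obtain ⟨d, rfl⟩ := Nat.exists_eq_add_of_le (not_lt.1 hk)
      rw [pow_add, hir, zero_mul]
    rw [h0, zero_mul, zero_mul]
    exact Subring.zero_mem _

end Groth.Agent.S7667
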