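import Groth.Statements.S7668
import Mathlib

set_option autoImplicit false
universe u
open CategoryTheory CategoryTheory.Limits AlgebraicGeometry
open Variety

namespace Groth.Agent.S7668

/-- Let A be a ring, p_1, …, p_r primes of A and S = A ∖ ⋃ p_i. Then S is a multiplicative subset, S⁻¹A
is semi-local, and contraction to A is a bijection from the maximal ideals of S⁻¹A onto the maximal
elements of {p_1, …, p_r}. -/
theorem result (A : Type u) [CommRing A]
    (r : ℕ) (p : Fin r → PrimeSpectrum A) :
    Finite (MaximalSpectrum (Localization (⨅ i, (p i).asIdeal.primeCompl))) ∧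
      Set.BijOn (fun m : Ideal (Localization (⨅ i, (p i).asIdeal.primeCompl)) =>
          m.comap (algebraMap A (Localization (⨅ i, (p i).asIdeal.primeCompl))))
        {m | m.IsMaximal}
        {q | q ∈ Set.range (fun i => (p i).asIdeal) ∧
          ∀ j, q ≤ (p j).asIdeal → q = (p j).asIdeal} := by
  classical
  set S : Submonoid A := ⨅ i, (p i).asIdeal.primeCompl with hS
  set B := Localization S with hB
  have hmemS : ∀ x : A, x ∈ S ↔ ∀ i, x ∉ (p i).asIdeal := by
    intro x
    rw [hS, Submonoid.mem_iInf]
    exact Iff.rfl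
  -- disjointness criterion
  have hdisj : ∀ q : Ideal A, q.IsPrime → (Disjoint (S : Set A) q ↔ ∃ i, q ≤ (p i).asIdeal) := by
    intro q hq
    constructor
    · intro hd
      have hsub : (q : Set A) ⊆ ⋃ i ∈ ((Finset.univ : Finset (Fin r)) : Set (Fin r)), ((p i).asIdeal : Set A) := by
        intro x hx
        by_contra hcon
        have hxS : x ∈ S := by
          rw [hmemS]
          intro i hi
          apply hcon
          exact Set.mem_biUnion (Finset.mem_coe.2 (Finset.mem_univ i)) hi
        exact Set.disjoint_left.1 hd hxS hx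
      by_cases hr : r = 0
      · subst hr
        exfalso
        have h1 : (1 : A) ∈ S := S.one_mem
        have h0 : (0 : A) ∈ S := by rw [hmemS]; intro i; exact i.elim0
        exact Set.disjoint_left.1 hd h0 q.zero_mem
      · obtain ⟨i0⟩ : Nonempty (Fin r) := ⟨⟨0, Nat.pos_of_ne_zero hr⟩⟩
        obtain ⟨i, _, hi⟩ := (Ideal.subset_union_prime (s := Finset.univ) (f := fun i => (p i).asIdeal) i0 i0
          (fun i _ _ _ => (p i).isPrime)).1 hsub
        exact ⟨i, hi⟩
    · rintro ⟨i, hi⟩
      rw [Set.disjoint_left]
      intro x hxS hxq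
      exact (hmemS x).1 hxS i (hi hxq)
  have hpdisj : ∀ i, Disjoint (S : Set A) (p i).asIdeal := fun i =>
    (hdisj _ (p i).isPrime).2 ⟨i, le_rfl⟩
  have hcm : ∀ i, ((p i).asIdeal.map (algebraMap A B)).comap (algebraMap A B) = (p i).asIdeal := fun i =>
    IsLocalization.under_map_of_isPrime_disjoint S B (p i).isPrime (hpdisj i)
  have hmapprime : ∀ i, ((p i).asIdeal.map (algebraMap A B)).IsPrime := fun i =>
    IsLocalization.isPrime_of_isPrime_disjoint S B _ (p i).isPrime (hpdisj i)
  have hmc : ∀ J : Ideal B, (J.comap (algebraMap A B)).map (algebraMap A B) = J := fun J =>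
    IsLocalization.map_comap S B J
  -- maximal ideals contract to maximal members
  have hmaps : ∀ m : Ideal B, m.IsMaximal →
      m.comap (algebraMap A B) ∈ {q | q ∈ Set.range (fun i => (p i).asIdeal) ∧
          ∀ j, q ≤ (p j).asIdeal → q = (p j).asIdeal} := by
    intro m hm
    have hq := (IsLocalization.isPrime_iff_isPrime_disjoint S B m).1 hm.isPrime
    have key : ∀ j, m.comap (algebraMap A B) ≤ (p j).asIdeal → m.comap (algebraMap A B) = (p j).asIdeal := by
      intro j hj
      have h1 : m ≤ (p j).asIdeal.map (algebraMap A B) := by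
        rw [← hmc m]
        exact Ideal.map_mono hj
      have h2 : m = (p j).asIdeal.map (algebraMap A B) :=
        hm.eq_of_le (hmapprime j).ne_top h1
      rw [h2, hcm]
    obtain ⟨i, hi⟩ := (hdisj _ hq.1).1 hq.2
    exact ⟨⟨i, (key i hi).symm⟩, key⟩
  refine ⟨?_, ?_, ?_, ?_⟩
  · -- finiteness
    have hinj : Function.Injective (fun m : MaximalSpectrum B =>
        (⟨m.asIdeal.comap (algebraMap A B), (hmaps m.asIdeal m.isMaximal).1⟩ :
          Set.range (fun i => (p i).asIdeal))) := by
      intro m m' h
      have h' : m.asIdeal.comap (algebraMap A B) = m'.asIdeal.comap (algebraMap A B) :=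
        congrArg Subtype.val h
      apply MaximalSpectrum.ext
      rw [← hmc m.asIdeal, ← hmc m'.asIdeal, h']
    haveI : Finite (Set.range (fun i => (p i).asIdeal)) := Set.finite_range _
    exact Finite.of_injective _ hinj
  · intro m hm
    exact hmaps m hm
  · intro m _ m' _ h
    have h' : m.comap (algebraMap A B) = m'.comap (algebraMap A B) := h
    rw [← hmc m, ← hmc m', h']
  · rintro q ⟨⟨i, rfl⟩, hmax⟩
    refine ⟨(p i).asIdeal.map (algebraMap A B), ?_, hcm i⟩
    obtain ⟨M, hM, hle⟩ := Ideal.exists_le_maximal _ (hmapprime i).ne_top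
    have hMq := hmaps M hM
    obtain ⟨⟨j, hj⟩, _⟩ := hMq
    have h1 : (p i).asIdeal ≤ (p j).asIdeal := by
      have : (p i).asIdeal ≤ M.comap (algebraMap A B) := by
        rw [← hcm i]
        exact Ideal.comap_mono hle
      exact this.trans hj.ge
    have h2 : (p i).asIdeal = (p j).asIdeal := hmax j h1
    have h3 : M = (p i).asIdeal.map (algebraMap A B) := by
      rw [← hmc M, ← hj]
      show ((p j).asIdeal).map (algebraMap A B) = _
      rw [h2]
    show ((p i).asIdeal.map (algebraMap A B)).IsMaximal
    rw [← h3]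
    exact hM

end Groth.Agent.S7668
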