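import Groth.Statements.S8260
import Mathlib

set_option autoImplicit false
universe u
open CategoryTheory CategoryTheory.Limits AlgebraicGeometry Opposite TopologicalSpace
open scoped HomogeneousIdeal
open EGA2

namespace Groth.Agent.S8260

/-- If the quasi-coherent positively graded O_Y-algebra 𝒮 is of finite type (over every affine open U of
Y the ring 𝒮(U) is a finitely generated O_Y(U)-algebra), then its relative homogeneous spectrum
Proj(𝒮) is of finite type over Y. -/
theorem result {Y P : Scheme.{u}} (𝒮 : RelProj.QCGrAlg Y)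
    (hft : ∀ (U : Y.Opens) (hU : IsAffineOpen U), (𝒮.str.app (op U)).hom.FiniteType)
    (p : P ⟶ Y)
    (chart : ∀ (U : Y.Opens) (hU : IsAffineOpen U), (((p ⁻¹ᵁ U : P.Opens) : Scheme.{u}) ≅ Proj (𝒮.deg U hU)))
    (hP : RelProj.IsRelProj 𝒮 p chart) : LocallyOfFiniteType p ∧ QuasiCompact p := by
  classical
  have key : ∀ (U : Y.Opens) (hU : IsAffineOpen U),
      LocallyOfFiniteType (p ∣_ U) ∧ CompactSpace ↥(p ⁻¹ᵁ U) := by
    intro U hU
    have hstr : (𝒮.str.app (op U)).hom =
        (algebraMap (𝒮.deg U hU 0) (𝒮.presheaf.obj (op U))).comp (𝒮.strZero U hU).hom :=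
      RingHom.ext (fun r => rfl)
    have h1 : (algebraMap (𝒮.deg U hU 0) (𝒮.presheaf.obj (op U))).FiniteType :=
      RingHom.FiniteType.of_comp_finiteType (f := (𝒮.strZero U hU).hom)
        (by rw [← hstr]; exact hft U hU)
    haveI : Algebra.FiniteType (𝒮.deg U hU 0) (𝒮.presheaf.obj (op U)) :=
      RingHom.finiteType_algebraMap.mp h1
    have h2 : (𝒮.strZero U hU).hom.FiniteType := by
      have h3 : (𝒮.strZero U hU).hom =
          (GradedRing.projZeroRingHom' (𝒮.deg U hU)).comp (𝒮.str.app (op U)).hom :=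
        RingHom.ext (fun r =>
          (GradedRing.projZeroRingHom'_apply_coe (𝒮.deg U hU) ((𝒮.strZero U hU).hom r)).symm)
      rw [h3]
      exact (hft U hU).comp_surjective
        (fun a => ⟨a, GradedRing.projZeroRingHom'_apply_coe _ a⟩)
    have hcomp : (p ∣_ U) ≫ U.ι = (chart U hU).hom ≫ Proj.toSpecZero (𝒮.deg U hU) ≫
        Spec.map (𝒮.strZero U hU) ≫ hU.fromSpec := by
      rw [morphismRestrict_ι, hP.chart_over]
    haveI : LocallyOfFiniteType (Spec.map (𝒮.strZero U hU)) :=
      (HasRingHomProperty.Spec_iff (P := @LocallyOfFiniteType)).mpr h2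
    haveI : LocallyOfFiniteType ((p ∣_ U) ≫ U.ι) := by rw [hcomp]; infer_instance
    refine ⟨locallyOfFiniteType_of_comp (p ∣_ U) U.ι, ?_⟩
    have hqc : QuasiCompact ((chart U hU).hom ≫ Proj.toSpecZero (𝒮.deg U hU)) := inferInstance
    exact (HasAffineProperty.iff_of_isAffine (P := @QuasiCompact)).mp hqc
  constructor
  · rw [IsZariskiLocalAtTarget.iff_of_iSup_eq_top (P := @LocallyOfFiniteType)
      (fun V : Y.affineOpens => V.1) (iSup_affineOpens_eq_top Y)]
    intro V
    exact (key V.1 V.2).1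
  · rw [HasAffineProperty.iff_of_iSup_eq_top (P := @QuasiCompact)
      (fun V : Y.affineOpens => V) (iSup_affineOpens_eq_top Y)]
    intro V
    exact (key V.1 V.2).2

end Groth.Agent.S8260
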