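import Groth.Statements.S8261
import Mathlib
import Groth.Agent.Lib.helper5.RelProjFT

set_option autoImplicit false
universe u
open CategoryTheory CategoryTheory.Limits AlgebraicGeometry Opposite TopologicalSpace
open scoped HomogeneousIdeal
open EGA2

namespace Groth.Agent.S8261

/-- Let 𝒮 be a quasi-coherent positively graded O_Y-algebra generated by 𝒮_1 with 𝒮_1 of finite type
over O_Y. Then Proj(𝒮) is of finite type over Y. -/
theorem result {Y P : Scheme.{u}} (𝒮 : RelProj.QCGrAlg Y)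
    (hgen : 𝒮.IsGenDegOne) (hft : 𝒮.IsFTDeg 1) (p : P ⟶ Y)
    (chart : ∀ (U : Y.Opens) (hU : IsAffineOpen U), (((p ⁻¹ᵁ U : P.Opens) : Scheme.{u}) ≅ Proj (𝒮.deg U hU)))
    (hP : RelProj.IsRelProj 𝒮 p chart) : LocallyOfFiniteType p ∧ QuasiCompact p := by
  classical
  have key : ∀ (U : Y.Opens) (hU : IsAffineOpen U),
      LocallyOfFiniteType (p ∣_ U) ∧ CompactSpace ↥(p ⁻¹ᵁ U) := by
    intro U hU
    obtain ⟨T, hTsub, hTgen⟩ := hft U hU
    obtain ⟨hπ, hc⟩ := H5FT.main (𝒮.deg U hU) (𝒮.str.app (op U)).hom (𝒮.strZero U hU).hom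
      (fun o => rfl) (hgen U hU) T (fun t ht => hTsub (Finset.mem_coe.mpr ht)) hTgen
    have hπ' : LocallyOfFiniteType (Proj.toSpecZero (𝒮.deg U hU) ≫
        Spec.map (𝒮.strZero U hU)) := hπ
    have hcomp : (p ∣_ U) ≫ U.ι = (chart U hU).hom ≫ Proj.toSpecZero (𝒮.deg U hU) ≫
        Spec.map (𝒮.strZero U hU) ≫ hU.fromSpec := by
      rw [morphismRestrict_ι, hP.chart_over]
    have e : (chart U hU).hom ≫ Proj.toSpecZero (𝒮.deg U hU) ≫
        Spec.map (𝒮.strZero U hU) ≫ hU.fromSpec =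
        (chart U hU).hom ≫ (Proj.toSpecZero (𝒮.deg U hU) ≫
        Spec.map (𝒮.strZero U hU)) ≫ hU.fromSpec := by
      simp only [Category.assoc]
    haveI := hπ'
    haveI : LocallyOfFiniteType ((p ∣_ U) ≫ U.ι) := by rw [hcomp, e]; infer_instance
    refine ⟨locallyOfFiniteType_of_comp (p ∣_ U) U.ι, ?_⟩
    haveI := hc
    have hqc0 : QuasiCompact (Proj.toSpecZero (𝒮.deg U hU)) :=
      (HasAffineProperty.iff_of_isAffine (P := @QuasiCompact)).mpr hc
    have hqc : QuasiCompact ((chart U hU).hom ≫ Proj.toSpecZero (𝒮.deg U hU)) := inferInstance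
    exact (HasAffineProperty.iff_of_isAffine (P := @QuasiCompact)).mp hqc
  constructor
  · rw [IsZariskiLocalAtTarget.iff_of_iSup_eq_top (P := @LocallyOfFiniteType)
      (fun V : Y.affineOpens => V.1) (iSup_affineOpens_eq_top Y)]
    intro V
    exact (key V.1 V.2).1
  · rw [HasAffineProperty.iff_of_iSup_eq_top (P := @QuasiCompact)
      (fun V : Y.affineOpens => V) (iSup_affineOpens_eq_top Y)]
    intro V
    exact (key V.1 V.2).2

end Groth.Agent.S8261
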