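import Groth.Statements.S8264
import Mathlib
import Groth.Agent.Lib.helper5.ProjIntegral

set_option autoImplicit false
universe u
open CategoryTheory CategoryTheory.Limits AlgebraicGeometry Opposite TopologicalSpace
open scoped HomogeneousIdeal
open EGA2

namespace Groth.Agent.S8264

/-- Let Y be an integral scheme and 𝒮 a quasi-coherent positively graded O_Y-algebra with 𝒮_0 = O_Y
which is integral, stated here affine-locally: over every nonempty affine open U the ring 𝒮(U) is an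
integral domain whose irrelevant ideal is nonzero (for Y integral this is equivalent to the
stalkwise condition of the published text: every stalk 𝒮_y an integral domain with (𝒮_y)_+ ≠ 0).
Then Proj(𝒮) is integral and its structure morphism to Y is dominant. -/
theorem result {Y P : Scheme.{u}} [IsIntegral Y] (𝒮 : RelProj.QCGrAlg Y)
    (h0 : ∀ (U : Y.Opens) (hU : IsAffineOpen U), Function.Bijective (𝒮.strZero U hU).hom)
    (hint : ∀ (U : Y.Opens) (hU : IsAffineOpen U), (U : Set Y).Nonempty →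
      IsDomain (𝒮.presheaf.obj (op U)) ∧ ((𝒮.deg U hU)₊).toIdeal ≠ ⊥)
    (p : P ⟶ Y)
    (chart : ∀ (U : Y.Opens) (hU : IsAffineOpen U), (((p ⁻¹ᵁ U : P.Opens) : Scheme.{u}) ≅ Proj (𝒮.deg U hU)))
    (hP : RelProj.IsRelProj 𝒮 p chart) : IsIntegral P ∧ DenseRange p.base := by
  classical
  have hcovY : ∀ y : Y, ∃ U : Y.affineOpens, y ∈ U.1 := by
    intro y
    have hy : y ∈ (⨆ U : Y.affineOpens, (U : Y.Opens)) := by
      rw [iSup_affineOpens_eq_top]; trivial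
    obtain ⟨U, hU⟩ := TopologicalSpace.Opens.mem_iSup.mp hy
    exact ⟨U, hU⟩
  have hIntT : ∀ (U : Y.Opens) (hU : IsAffineOpen U), (U : Set Y).Nonempty →
      IsIntegral ((p ⁻¹ᵁ U : P.Opens) : Scheme.{u}) := by
    intro U hU hne
    obtain ⟨hd, hirr⟩ := hint U hU hne
    haveI := hd
    haveI : IsIntegral (Proj (𝒮.deg U hU)) := H5PI.proj_integral (𝒮.deg U hU) hirr
    exact IsIntegral.of_isIso (chart U hU).inv
  have hirrT : ∀ (U : Y.Opens) (hU : IsAffineOpen U), (U : Set Y).Nonempty →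
      IsIrreducible ((p ⁻¹ᵁ U : P.Opens) : Set P) := by
    intro U hU hne
    haveI := hIntT U hU hne
    haveI : IrreducibleSpace ↥((p ⁻¹ᵁ U : P.Opens) : Set P) :=
      (inferInstance : IrreducibleSpace ↥((p ⁻¹ᵁ U : P.Opens) : Scheme.{u}))
    exact IsIrreducible.of_subtype
  have hbasis : ∀ (V : Y.Opens) (y : Y), y ∈ V →
      ∃ W : Y.Opens, IsAffineOpen W ∧ y ∈ W ∧ W ≤ V := by
    intro V y hy
    obtain ⟨W, hW, hyW, hle⟩ :=
      (TopologicalSpace.Opens.isBasis_iff_nbhd.mp Y.isBasis_affineOpens) hy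
    exact ⟨W, hW, hyW, hle⟩
  obtain ⟨y0⟩ := (inferInstance : Nonempty Y)
  obtain ⟨U0, hy0⟩ := hcovY y0
  obtain ⟨x0, hx0⟩ := (hirrT U0.1 U0.2 ⟨y0, hy0⟩).nonempty
  have hpre : PreirreducibleSpace P := by
    apply PreirreducibleSpace.of_forall_nonempty_inter
    rintro W1 W2 hW1 hW2 ⟨x1, hx1⟩ ⟨x2, hx2⟩
    obtain ⟨U1, hU1⟩ := hcovY (p.base x1)
    obtain ⟨U2, hU2⟩ := hcovY (p.base x2)
    have hne1 : ((U1.1 : Y.Opens) : Set Y).Nonempty := ⟨_, hU1⟩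
    have hne2 : ((U2.1 : Y.Opens) : Set Y).Nonempty := ⟨_, hU2⟩
    obtain ⟨y, hy1, hy2⟩ :=
      nonempty_preirreducible_inter (U1.1).isOpen (U2.1).isOpen hne1 hne2
    obtain ⟨W, hWaff, hyW, hWle⟩ := hbasis (U1.1 ⊓ U2.1) y ⟨hy1, hy2⟩
    obtain ⟨z0, hz0⟩ := (hirrT W hWaff ⟨y, hyW⟩).nonempty
    have hz0' : p.base z0 ∈ U1.1 ⊓ U2.1 := hWle hz0
    obtain ⟨hzU1, hzU2⟩ := hz0'
    have hT1 := (hirrT U1.1 U1.2 hne1).isPreirreducible
    have hT2 := (hirrT U2.1 U2.2 hne2).isPreirreducible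
    obtain ⟨a, haT1, haW1, haT2⟩ := hT1 W1 ((p ⁻¹ᵁ U2.1 : P.Opens) : Set P) hW1
      (p ⁻¹ᵁ U2.1).isOpen ⟨x1, hU1, hx1⟩ ⟨z0, hzU1, hzU2⟩
    obtain ⟨b, hbT2, hbW1, hbW2⟩ := hT2 W1 W2 hW1 hW2 ⟨a, haT2, haW1⟩ ⟨x2, hU2, hx2⟩
    exact ⟨b, hbW1, hbW2⟩
  haveI : IrreducibleSpace P := { toPreirreducibleSpace := hpre, toNonempty := ⟨x0⟩ }
  haveI : IsReduced P := by
    have hcov : TopologicalSpace.IsOpenCover
        (fun V : {V : Y.affineOpens // ((V.1 : Y.Opens) : Set Y).Nonempty} => p ⁻¹ᵁ V.1.1) := by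
      refine eq_top_iff.mpr (fun x _ => ?_)
      obtain ⟨U, hU⟩ := hcovY (p.base x)
      exact TopologicalSpace.Opens.mem_iSup.mpr ⟨⟨U, ⟨_, hU⟩⟩, hU⟩
    haveI : ∀ i, IsReduced ((P.openCoverOfIsOpenCover _ hcov).X i) := by
      intro V
      show IsReduced ((p ⁻¹ᵁ V.1.1 : P.Opens) : Scheme.{u})
      haveI := hIntT V.1.1 V.1.2 V.2
      infer_instance
    exact IsReduced.of_openCover P (P.openCoverOfIsOpenCover _ hcov)
  refine ⟨isIntegral_of_irreducibleSpace_of_isReduced P, ?_⟩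
  show Dense (Set.range p.base)
  rw [dense_iff_inter_open]
  rintro V hV ⟨y, hy⟩
  obtain ⟨W, hWaff, hyW, hWle⟩ := hbasis ⟨V, hV⟩ y hy
  obtain ⟨z0, hz0⟩ := (hirrT W hWaff ⟨y, hyW⟩).nonempty
  exact ⟨p.base z0, hWle hz0, ⟨z0, rfl⟩⟩

end Groth.Agent.S8264
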