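import Groth.Statements.S8265
import Mathlib

set_option autoImplicit false
universe u
open CategoryTheory CategoryTheory.Limits AlgebraicGeometry Opposite TopologicalSpace
open scoped HomogeneousIdeal
open EGA2

namespace Groth.Agent.S8265

/-- Let Y be an integral scheme and 𝒮 a quasi-coherent positively graded O_Y-algebra with 𝒮_0 = O_Y
which is essentially reduced (affine-locally, every nilpotent element of the irrelevant ideal of
𝒮(U) vanishes). If Proj(𝒮) is integral and dominant over Y, then 𝒮 is integral: over every nonempty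
affine open U, 𝒮(U) is an integral domain with nonzero irrelevant ideal (for Y integral, the
affine-local form of the stalkwise condition of the text). -/
theorem result {Y P : Scheme.{u}} [IsIntegral Y] (𝒮 : RelProj.QCGrAlg Y)
    (h0 : ∀ (U : Y.Opens) (hU : IsAffineOpen U), Function.Bijective (𝒮.strZero U hU).hom)
    (hred : ∀ (U : Y.Opens) (hU : IsAffineOpen U) (x : 𝒮.presheaf.obj (op U)),
      x ∈ (𝒮.deg U hU)₊ → IsNilpotent x → x = 0)
    (p : P ⟶ Y)
    (chart : ∀ (U : Y.Opens) (hU : IsAffineOpen U), (((p ⁻¹ᵁ U : P.Opens) : Scheme.{u}) ≅ Proj (𝒮.deg U hU)))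
    (hP : RelProj.IsRelProj 𝒮 p chart) [IsIntegral P] (hdom : DenseRange p.base)
    (U : Y.Opens) (hU : IsAffineOpen U) (hne : (U : Set Y).Nonempty) :
    IsDomain (𝒮.presheaf.obj (op U)) ∧ ((𝒮.deg U hU)₊).toIdeal ≠ ⊥ := by
  classical
  obtain ⟨z0, hz0⟩ := hdom.exists_mem_open U.isOpen hne
  haveI hneP : Nonempty ↥(Proj (𝒮.deg U hU)) := ⟨(chart U hU).hom.base ⟨z0, hz0⟩⟩
  haveI hintP : AlgebraicGeometry.IsIntegral (Proj (𝒮.deg U hU)) :=
    isIntegral_of_isOpenImmersion ((chart U hU).inv ≫ (p ⁻¹ᵁ U).ι)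
  haveI hirrP : IrreducibleSpace (ProjectiveSpectrum (𝒮.deg U hU)) :=
    (inferInstance : IrreducibleSpace ↥(Proj (𝒮.deg U hU)))
  let q0 : ProjectiveSpectrum (𝒮.deg U hU) := (chart U hU).hom.base ⟨z0, hz0⟩
  have key : ∀ c : 𝒮.presheaf.obj (op U), c ∈ ((𝒮.deg U hU)₊).toIdeal → c ≠ 0 →
      ∃ y : ProjectiveSpectrum (𝒮.deg U hU), c ∉ y.asHomogeneousIdeal := by
    intro c hc hc0
    have hnn : ¬ IsNilpotent c := fun h => hc0 (hred U hU c hc h)
    rw [nilpotent_iff_mem_prime] at hnn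
    push Not at hnn
    obtain ⟨q, hq, hqn⟩ := hnn
    have hcore_le : (q.homogeneousCore (𝒮.deg U hU)).toIdeal ≤ q :=
      Ideal.toIdeal_homogeneousCore_le (𝒮.deg U hU) q
    have hy3 : ¬ HomogeneousIdeal.irrelevant (𝒮.deg U hU) ≤ q.homogeneousCore (𝒮.deg U hU) := by
      intro hle
      exact hqn (hcore_le (hle hc))
    exact ⟨⟨q.homogeneousCore (𝒮.deg U hU), hq.homogeneousCore, hy3⟩, fun h => hqn (hcore_le h)⟩
  have F2 : ∀ c1 c2 : 𝒮.presheaf.obj (op U), c1 ∈ ((𝒮.deg U hU)₊).toIdeal →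
      c2 ∈ ((𝒮.deg U hU)₊).toIdeal → c1 ≠ 0 → c2 ≠ 0 → c1 * c2 ≠ 0 := by
    intro c1 c2 h1 h2 h10 h20 h12
    obtain ⟨y1, hy1⟩ := key c1 h1 h10
    obtain ⟨y2, hy2⟩ := key c2 h2 h20
    obtain ⟨q, hq1, hq2⟩ := nonempty_preirreducible_inter
      (ProjectiveSpectrum.basicOpen (𝒮.deg U hU) c1).isOpen
      (ProjectiveSpectrum.basicOpen (𝒮.deg U hU) c2).isOpen ⟨y1, hy1⟩ ⟨y2, hy2⟩
    have hq1' : c1 ∉ q.asHomogeneousIdeal := hq1
    have hq2' : c2 ∉ q.asHomogeneousIdeal := hq2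
    have hmem : c1 * c2 ∈ q.asHomogeneousIdeal.toIdeal := by
      rw [h12]; exact Ideal.zero_mem _
    rcases q.isPrime.mem_or_mem hmem with h | h
    · exact hq1' h
    · exact hq2' h
  have F3 : ∀ x : 𝒮.presheaf.obj (op U), x ∈ 𝒮.deg U hU 0 → x ≠ 0 →
      ∃ (k : ℕ) (w : 𝒮.presheaf.obj (op U)), 0 < k ∧ w ∈ 𝒮.deg U hU k ∧ x * w ≠ 0 := by
    intro x hx hx0
    by_contra hcon
    have hcon' : ∀ (k : ℕ) (w : 𝒮.presheaf.obj (op U)), 0 < k → w ∈ 𝒮.deg U hU k → x * w = 0 := by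
      intro k w hk hw
      by_contra h
      exact hcon ⟨k, w, hk, hw, h⟩
    obtain ⟨a, ha⟩ := (h0 U hU).2 ⟨x, hx⟩
    have hax : (𝒮.str.app (op U)).hom a = x := congrArg Subtype.val ha
    have ha0 : a ≠ 0 := by
      rintro rfl
      exact hx0 (by rw [← hax, map_zero])
    have hVne : Y.basicOpen a ≠ ⊥ := fun h => ha0 ((basicOpen_eq_bot_iff a).mp h)
    obtain ⟨y1, hy1⟩ := (TopologicalSpace.Opens.ne_bot_iff_nonempty _).mp hVne
    obtain ⟨z, hz⟩ := hdom.exists_mem_open (Y.basicOpen a).isOpen ⟨y1, hy1⟩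
    let q : ProjectiveSpectrum (𝒮.deg (Y.basicOpen a) (hU.basicOpen a)) :=
      (chart (Y.basicOpen a) (hU.basicOpen a)).hom.base ⟨z, hz⟩
    apply q.not_irrelevant_le
    refine (𝒮.irrelevant_le_map U hU a).trans ?_
    rw [HomogeneousIdeal.map_le_iff_le_comap, HomogeneousIdeal.irrelevant_le]
    intro i hi c hc
    show (𝒮.res hU (hU.basicOpen a) (Y.basicOpen_le a)) c ∈ q.asHomogeneousIdeal.toIdeal
    have hxc : x * c = 0 := hcon' i c hi hc
    have hu : IsUnit ((𝒮.res hU (hU.basicOpen a) (Y.basicOpen_le a)) x) := by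
      let _inst := (𝒮.presheaf.map (homOfLE (Y.basicOpen_le a)).op).hom.toAlgebra
      have hloc : IsLocalization.Away ((𝒮.str.app (op U)).hom a)
          (𝒮.presheaf.obj (op (Y.basicOpen a))) := 𝒮.isQC U hU a
      have hthis := IsLocalization.map_units (M := Submonoid.powers ((𝒮.str.app (op U)).hom a))
        (𝒮.presheaf.obj (op (Y.basicOpen a)))
        ⟨(𝒮.str.app (op U)).hom a, Submonoid.mem_powers _⟩
      rw [← hax]
      exact hthis
    have h2 : (𝒮.res hU (hU.basicOpen a) (Y.basicOpen_le a)) x *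
        (𝒮.res hU (hU.basicOpen a) (Y.basicOpen_le a)) c = 0 := by
      rw [← map_mul, hxc, map_zero]
    have h3 : (𝒮.res hU (hU.basicOpen a) (Y.basicOpen_le a)) c = 0 := hu.mul_right_eq_zero.mp h2
    rw [h3]
    exact Ideal.zero_mem _
  have G : ∀ (x : 𝒮.presheaf.obj (op U)) (m : ℕ), x ∈ 𝒮.deg U hU m → x ≠ 0 →
      ∃ w : 𝒮.presheaf.obj (op U), x * w ∈ ((𝒮.deg U hU)₊).toIdeal ∧ x * w ≠ 0 := by
    intro x m hxm hx0
    rcases Nat.eq_zero_or_pos m with hm | hm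
    · subst hm
      obtain ⟨k, w, hk, hw, hxw⟩ := F3 x hxm hx0
      exact ⟨w, Ideal.mul_mem_left _ _
        (HomogeneousIdeal.mem_irrelevant_of_mem (𝒮.deg U hU) hk hw), hxw⟩
    · refine ⟨1, ?_, ?_⟩
      · rw [mul_one]
        exact HomogeneousIdeal.mem_irrelevant_of_mem (𝒮.deg U hU) hm hxm
      · rwa [mul_one]
  refine ⟨?_, ?_⟩
  · have hprime : (⊥ : Ideal (𝒮.presheaf.obj (op U))).IsPrime := by
      refine Ideal.IsHomogeneous.isPrime_of_homogeneous_mem_or_mem (𝒜 := 𝒮.deg U hU)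
        (Ideal.IsHomogeneous.bot (𝒮.deg U hU)) ?_ ?_
      · intro h
        exact q0.isPrime.ne_top (by rw [eq_top_iff, ← h]; exact bot_le)
      · intro x y hxh hyh hxy
        have hxy0 : x * y = 0 := Ideal.mem_bot.mp hxy
        by_contra hcon
        have hx0 : x ≠ 0 := fun h => hcon (Or.inl (by rw [h]; exact Ideal.zero_mem _))
        have hy0 : y ≠ 0 := fun h => hcon (Or.inr (by rw [h]; exact Ideal.zero_mem _))
        obtain ⟨m, hxm⟩ := hxh
        obtain ⟨n, hyn⟩ := hyh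
        obtain ⟨w, hw1, hw2⟩ := G x m hxm hx0
        obtain ⟨w', hw1', hw2'⟩ := G y n hyn hy0
        apply F2 (x * w) (y * w') hw1 hw1' hw2 hw2'
        have e : x * w * (y * w') = x * y * (w * w') := by ring
        rw [e, hxy0, zero_mul]
    haveI := hprime
    exact IsDomain.of_bot_isPrime _
  · intro h
    refine q0.not_irrelevant_le (fun c hc => ?_)
    have hc' : c ∈ ((𝒮.deg U hU)₊).toIdeal := hc
    rw [h, Ideal.mem_bot] at hc'
    rw [hc']
    show (0 : 𝒮.presheaf.obj (op U)) ∈ q0.asHomogeneousIdeal.toIdeal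
    exact Ideal.zero_mem _

end Groth.Agent.S8265
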