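import Groth.Statements.S8275
import Mathlib
import Mathlib

set_option autoImplicit false
universe u
open EGA2

namespace Groth.Agent.S8275

/-- For a positively graded ring S and the graded ring S♮ with S♮_n = S_{≥ n} = ⊕_{m ≥ n} S_m (presented
here as a graded ring S' with an injective algebra homomorphism φ : S' → S[X] carrying S'_n onto
S_{≥ n}·X^n for every n, so that S'_0 is identified with S): S♮ is of finite type over S♮_0 = S if
and only if S is of finite type over S_0. -/
theorem result {R A B : Type u} [CommRing R] [CommRing A] [Algebra R A]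
    (𝒜 : ℕ → Submodule R A) [GradedAlgebra 𝒜] [CommRing B] [Algebra R B] (ℬ : ℕ → Submodule R B) [GradedAlgebra ℬ]
    (φ : B →ₐ[R] Polynomial A) (hφ : Function.Injective φ)
    (hdeg : ∀ n : ℕ, Submodule.map φ.toLinearMap (ℬ n) =
      Submodule.map ((Polynomial.monomial n : A →ₗ[A] Polynomial A).restrictScalars R) (⨆ (m : ℕ) (_ : n ≤ m), 𝒜 m)) :
    Algebra.FiniteType (ℬ 0) B ↔ Algebra.FiniteType (𝒜 0) A := by
  classical
  have htop : (⨆ (m' : ℕ) (_ : 0 ≤ m'), 𝒜 m') = ⊤ := by
    rw [eq_top_iff, ← (DirectSum.Decomposition.isInternal 𝒜).submodule_iSup_eq_top]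
    exact iSup_le fun m => le_iSup₂ (f := fun (m' : ℕ) (_ : 0 ≤ m') => 𝒜 m') m (Nat.zero_le m)
  have hconst : ∀ a : A, ∃ b ∈ ℬ 0, φ b = Polynomial.monomial 0 a := by
    intro a
    have h2 : ((Polynomial.monomial 0 : A →ₗ[A] Polynomial A).restrictScalars R) a ∈
        Submodule.map ((Polynomial.monomial 0 : A →ₗ[A] Polynomial A).restrictScalars R)
          (⨆ (m' : ℕ) (_ : 0 ≤ m'), 𝒜 m') := by
      apply Submodule.mem_map_of_mem
      rw [htop]; exact Submodule.mem_top
    rw [← hdeg 0] at h2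
    obtain ⟨b, hb, hb'⟩ := Submodule.mem_map.mp h2
    exact ⟨b, hb, hb'⟩
  have hmono : ∀ (n m : ℕ) (a : A), n ≤ m → a ∈ 𝒜 m →
      ∃ b ∈ ℬ n, φ b = Polynomial.monomial n a := by
    intro n m a hnm ha
    have h1 : a ∈ (⨆ (m' : ℕ) (_ : n ≤ m'), 𝒜 m') :=
      (le_iSup₂ (f := fun (m' : ℕ) (_ : n ≤ m') => 𝒜 m') m hnm) ha
    have h2 : ((Polynomial.monomial n : A →ₗ[A] Polynomial A).restrictScalars R) a ∈
        Submodule.map ((Polynomial.monomial n : A →ₗ[A] Polynomial A).restrictScalars R)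
          (⨆ (m' : ℕ) (_ : n ≤ m'), 𝒜 m') :=
      Submodule.mem_map_of_mem h1
    rw [← hdeg n] at h2
    obtain ⟨b, hb, hb'⟩ := Submodule.mem_map.mp h2
    exact ⟨b, hb, hb'⟩
  have hhomog : ∀ (n : ℕ) (b : B), b ∈ ℬ n →
      ∃ a ∈ (⨆ (m' : ℕ) (_ : n ≤ m'), 𝒜 m'), Polynomial.monomial n a = φ b := by
    intro n b hb
    have h1 : φ.toLinearMap b ∈ Submodule.map φ.toLinearMap (ℬ n) := Submodule.mem_map_of_mem hb
    rw [hdeg n] at h1
    obtain ⟨a, ha, ha'⟩ := Submodule.mem_map.mp h1
    exact ⟨a, ha, ha'⟩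
  constructor
  · intro hB
    haveI := hB
    obtain ⟨s, hs_top, hs_hom⟩ :=
      GradedAlgebra.exists_finset_adjoin_eq_top_and_homogeneous_ne_zero ℬ
    choose! nS hnS using hs_hom
    have hP : ∀ x : B, ∃ r ∈ ℬ 0, x - r ∈ Ideal.span (s : Set B) := by
      intro x
      have hx : x ∈ Algebra.adjoin (ℬ 0) (s : Set B) := by rw [hs_top]; exact Algebra.mem_top
      induction hx using Algebra.adjoin_induction with
      | mem x hx => exact ⟨0, zero_mem _, by rw [sub_zero]; exact Ideal.subset_span hx⟩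
      | algebraMap r =>
        refine ⟨(r : B), r.2, ?_⟩
        show (r : B) - (r : B) ∈ Ideal.span (s : Set B)
        rw [sub_self]
        exact Ideal.zero_mem _
      | add x y _ _ ihx ihy =>
        obtain ⟨r1, hr1, h1⟩ := ihx
        obtain ⟨r2, hr2, h2⟩ := ihy
        refine ⟨r1 + r2, add_mem hr1 hr2, ?_⟩
        have e : x + y - (r1 + r2) = (x - r1) + (y - r2) := by ring
        rw [e]; exact Ideal.add_mem _ h1 h2
      | mul x y _ _ ihx ihy =>
        obtain ⟨r1, hr1, h1⟩ := ihx
        obtain ⟨r2, hr2, h2⟩ := ihy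
        refine ⟨r1 * r2, ?_, ?_⟩
        · have := SetLike.mul_mem_graded hr1 hr2
          rwa [add_zero] at this
        · have e : x * y - r1 * r2 = (x - r1) * y + r1 * (y - r2) := by ring
          rw [e]
          exact Ideal.add_mem _ (Ideal.mul_mem_right _ _ h1) (Ideal.mul_mem_left _ _ h2)
    have hC : ∀ β ∈ ℬ 1, ∃ c : B → B, β = ∑ b ∈ s, (if nS b ≤ 1 then
        ((DirectSum.decompose ℬ (c b) (1 - nS b) : ℬ (1 - nS b)) : B) * b else 0) := by
      intro β hβ
      obtain ⟨r, hr, hy⟩ := hP β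
      have hy' : β - r ∈ Submodule.span B (s : Set B) := hy
      obtain ⟨c, -, hc⟩ := Submodule.mem_span_finset.mp hy'
      refine ⟨c, ?_⟩
      have hr1 : ((DirectSum.decompose ℬ r 1 : ℬ 1) : B) = 0 :=
        DirectSum.decompose_of_mem_ne ℬ hr (by norm_num)
      calc β = ((DirectSum.decompose ℬ β 1 : ℬ 1) : B) :=
            (DirectSum.decompose_of_mem_same ℬ hβ).symm
        _ = ((DirectSum.decompose ℬ (r + (β - r)) 1 : ℬ 1) : B) := by
            rw [show r + (β - r) = β by ring]
        _ = ((DirectSum.decompose ℬ (β - r) 1 : ℬ 1) : B) := by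
            rw [DirectSum.decompose_add, DirectSum.add_apply, Submodule.coe_add, hr1, zero_add]
        _ = ((DirectSum.decompose ℬ (∑ b ∈ s, c b • b) 1 : ℬ 1) : B) := by rw [hc]
        _ = ∑ b ∈ s, ((DirectSum.decompose ℬ (c b • b) 1 : ℬ 1) : B) := by
            rw [DirectSum.decompose_sum, DFinsupp.finsetSum_apply,
              AddSubmonoidClass.coe_finsetSum]
        _ = _ := Finset.sum_congr rfl (fun b hb => by
            rw [smul_eq_mul]
            exact DirectSum.coe_decompose_mul_of_right_mem ℬ 1 (hnS b hb).2)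
    have hgex : ∀ b : B, ∃ g : A, b ∈ ℬ 1 →
        (g ∈ (⨆ (m' : ℕ) (_ : 1 ≤ m'), 𝒜 m') ∧ Polynomial.monomial 1 g = φ b) := by
      intro b
      by_cases hb : b ∈ ℬ 1
      · obtain ⟨g, hg, hgb⟩ := hhomog 1 b hb
        exact ⟨g, fun _ => ⟨hg, hgb⟩⟩
      · exact ⟨0, fun h => absurd h hb⟩
    choose gOf hgOf using hgex
    obtain ⟨T1, hT1a, hT1b⟩ : ∃ T1 : Finset A, (∀ b ∈ s, nS b = 1 → gOf b ∈ T1) ∧
        (∀ t ∈ T1, ∃ b ∈ s, nS b = 1 ∧ gOf b = t) := by
      refine ⟨(s.filter (fun b => nS b = 1)).image gOf, ?_, ?_⟩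
      · intro b hb hn
        exact Finset.mem_image.mpr ⟨b, Finset.mem_filter.mpr ⟨hb, hn⟩, rfl⟩
      · intro t ht
        obtain ⟨b, hb, rfl⟩ := Finset.mem_image.mp ht
        obtain ⟨hb1, hb2⟩ := Finset.mem_filter.mp hb
        exact ⟨b, hb1, hb2, rfl⟩
    have hD : ∀ (m : ℕ) (a : A), 0 < m → a ∈ 𝒜 m → a ∈ Ideal.span ((T1 : Finset A) : Set A) := by
      intro m a hm ha
      obtain ⟨β, hβ1, hβ⟩ := hmono 1 m a hm ha
      obtain ⟨c, hc⟩ := hC β hβ1
      have hterm : ∀ b ∈ s, ∃ w ∈ Ideal.span ((T1 : Finset A) : Set A),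
          φ (if nS b ≤ 1 then ((DirectSum.decompose ℬ (c b) (1 - nS b) : ℬ (1 - nS b)) : B) * b
            else 0) = Polynomial.monomial 1 w := by
        intro b hb
        split_ifs with h1
        · have hn1 : nS b = 1 := by have := (hnS b hb).1; omega
          have h10 : 1 - nS b = 0 := by omega
          have hb1 : b ∈ ℬ 1 := by have := (hnS b hb).2; rwa [hn1] at this
          have hx0 : ((DirectSum.decompose ℬ (c b) (1 - nS b) : ℬ (1 - nS b)) : B) ∈ ℬ 0 :=
            (congrArg (fun k => ((DirectSum.decompose ℬ (c b) (1 - nS b) :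
              ℬ (1 - nS b)) : B) ∈ ℬ k) h10).mp (SetLike.coe_mem _)
          obtain ⟨r0, -, hr0⟩ := hhomog 0 _ hx0
          obtain ⟨hg1, hg2⟩ := hgOf b hb1
          refine ⟨r0 * gOf b, Ideal.mul_mem_left _ _ (Ideal.subset_span ?_), ?_⟩
          · exact Finset.mem_coe.mpr (hT1a b hb hn1)
          · rw [map_mul, ← hr0, ← hg2, Polynomial.monomial_mul_monomial, zero_add]
        · exact ⟨0, Ideal.zero_mem _, by rw [map_zero, map_zero]⟩
      choose! w hw1 hw2 using hterm
      have e1 : Polynomial.monomial 1 a = Polynomial.monomial 1 (∑ b ∈ s, w b) := by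
        rw [← hβ, hc, map_sum, map_sum]
        exact Finset.sum_congr rfl (fun b hb => hw2 b hb)
      have e2 : a = ∑ b ∈ s, w b := Polynomial.monomial_injective 1 e1
      rw [e2]
      exact Ideal.sum_mem _ (fun b hb => hw1 b hb)
    have hF1 : ∀ g ∈ (⨆ (m' : ℕ) (_ : 1 ≤ m'), 𝒜 m'),
        ((DirectSum.decompose 𝒜 g 0 : 𝒜 0) : A) = 0 := by
      intro g hg
      have hle : (⨆ (m' : ℕ) (_ : 1 ≤ m'), 𝒜 m') ≤ LinearMap.ker (GradedAlgebra.proj 𝒜 0) := by
        refine iSup₂_le (fun m' hm' => ?_)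
        intro x hx
        rw [LinearMap.mem_ker, GradedAlgebra.proj_apply]
        exact DirectSum.decompose_of_mem_ne 𝒜 hx (by omega)
      have := hle hg
      rwa [LinearMap.mem_ker, GradedAlgebra.proj_apply] at this
    have hT1zero : ∀ t ∈ T1, ((DirectSum.decompose 𝒜 t 0 : 𝒜 0) : A) = 0 := by
      intro t ht
      obtain ⟨b, hb, hn1, rfl⟩ := hT1b t ht
      have hb1 : b ∈ ℬ 1 := by have := (hnS b hb).2; rwa [hn1] at this
      exact hF1 _ (hgOf b hb1).1
    obtain ⟨T', hT'⟩ : ∃ T' : Finset A, ∀ t ∈ T1, ∀ j ∈ (DirectSum.decompose 𝒜 t).support,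
        ((DirectSum.decompose 𝒜 t j : 𝒜 j) : A) ∈ T' :=
      ⟨T1.biUnion fun t => (DirectSum.decompose 𝒜 t).support.image
          fun j => ((DirectSum.decompose 𝒜 t j : 𝒜 j) : A),
        fun t ht j hj => Finset.mem_biUnion.mpr ⟨t, ht, Finset.mem_image.mpr ⟨j, hj, rfl⟩⟩⟩
    have hN : ∀ (m : ℕ) (a : A), a ∈ 𝒜 m → a ∈ Algebra.adjoin (𝒜 0) (T' : Set A) := by
      intro m
      induction m using Nat.strong_induction_on with
      | _ m ih =>
        intro a ha
        rcases Nat.eq_zero_or_pos m with hm | hm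
        · subst hm
          exact Subalgebra.algebraMap_mem (Algebra.adjoin (𝒜 0) (T' : Set A)) (⟨a, ha⟩ : 𝒜 0)
        · have haT : a ∈ Submodule.span A ((T1 : Finset A) : Set A) := hD m a hm ha
          obtain ⟨c, -, hc⟩ := Submodule.mem_span_finset.mp haT
          have hterm : ∀ t ∈ T1, ((DirectSum.decompose 𝒜 (c t • t) m : 𝒜 m) : A) ∈
              Algebra.adjoin (𝒜 0) (T' : Set A) := by
            intro t ht
            have ht0 := hT1zero t ht
            have hsum : c t • t = ∑ j ∈ (DirectSum.decompose 𝒜 t).support,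
                c t * ((DirectSum.decompose 𝒜 t j : 𝒜 j) : A) := by
              rw [smul_eq_mul, ← Finset.mul_sum, DirectSum.sum_support_decompose 𝒜 t]
            rw [hsum, DirectSum.decompose_sum, DFinsupp.finsetSum_apply,
              AddSubmonoidClass.coe_finsetSum]
            refine sum_mem (fun j hj => ?_)
            rw [DirectSum.coe_decompose_mul_of_right_mem 𝒜 m
              (SetLike.coe_mem ((DirectSum.decompose 𝒜 t) j))]
            split_ifs with hjm
            · rcases Nat.eq_zero_or_pos j with hj0 | hj0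
              · subst hj0
                rw [ht0, mul_zero]
                exact Subalgebra.zero_mem _
              · refine Subalgebra.mul_mem _
                  (ih (m - j) (by omega) _ (SetLike.coe_mem _)) ?_
                exact Algebra.subset_adjoin (Finset.mem_coe.mpr (hT' t ht j hj))
            · exact Subalgebra.zero_mem _
          have hdec : a = ∑ t ∈ T1, ((DirectSum.decompose 𝒜 (c t • t) m : 𝒜 m) : A) := by
            calc a = ((DirectSum.decompose 𝒜 a m : 𝒜 m) : A) :=
                  (DirectSum.decompose_of_mem_same 𝒜 ha).symm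
              _ = ((DirectSum.decompose 𝒜 (∑ t ∈ T1, c t • t) m : 𝒜 m) : A) := by rw [hc]
              _ = _ := by
                  rw [DirectSum.decompose_sum, DFinsupp.finsetSum_apply,
                    AddSubmonoidClass.coe_finsetSum]
          rw [hdec]
          exact sum_mem (fun t ht => hterm t ht)
    refine ⟨⟨T', eq_top_iff.mpr (fun a _ => ?_)⟩⟩
    rw [← DirectSum.sum_support_decompose 𝒜 a]
    exact sum_mem (fun m _ => hN m _ (SetLike.coe_mem _))
  · intro hA
    haveI := hA
    obtain ⟨T, hTtop, hThom⟩ :=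
      GradedAlgebra.exists_finset_adjoin_eq_top_and_homogeneous_ne_zero 𝒜
    choose! dT hdT using hThom
    have hPA : ∀ x : A, ∃ r ∈ 𝒜 0, x - r ∈ Ideal.span (T : Set A) := by
      intro x
      have hx : x ∈ Algebra.adjoin (𝒜 0) (T : Set A) := by rw [hTtop]; exact Algebra.mem_top
      induction hx using Algebra.adjoin_induction with
      | mem x hx => exact ⟨0, zero_mem _, by rw [sub_zero]; exact Ideal.subset_span hx⟩
      | algebraMap r =>
        refine ⟨(r : A), r.2, ?_⟩
        show (r : A) - (r : A) ∈ Ideal.span (T : Set A)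
        rw [sub_self]
        exact Ideal.zero_mem _
      | add x y _ _ ihx ihy =>
        obtain ⟨r1, hr1, h1⟩ := ihx
        obtain ⟨r2, hr2, h2⟩ := ihy
        refine ⟨r1 + r2, add_mem hr1 hr2, ?_⟩
        have e : x + y - (r1 + r2) = (x - r1) + (y - r2) := by ring
        rw [e]; exact Ideal.add_mem _ h1 h2
      | mul x y _ _ ihx ihy =>
        obtain ⟨r1, hr1, h1⟩ := ihx
        obtain ⟨r2, hr2, h2⟩ := ihy
        refine ⟨r1 * r2, ?_, ?_⟩
        · have := SetLike.mul_mem_graded hr1 hr2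
          rwa [add_zero] at this
        · have e : x * y - r1 * r2 = (x - r1) * y + r1 * (y - r2) := by ring
          rw [e]
          exact Ideal.add_mem _ (Ideal.mul_mem_right _ _ h1) (Ideal.mul_mem_left _ _ h2)
    have hJhom : (Ideal.span (T : Set A)).IsHomogeneous 𝒜 :=
      Ideal.homogeneous_span 𝒜 (T : Set A)
        (fun x hx => ⟨dT x, (hdT x (Finset.mem_coe.mp hx)).2⟩)
    have hspan : ∀ (m : ℕ) (a : A), 0 < m → a ∈ 𝒜 m → a ∈ Submodule.span A (T : Set A) := by
      intro m a hm ha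
      obtain ⟨r, hr, hy⟩ := hPA a
      have hrm : ((DirectSum.decompose 𝒜 r m : 𝒜 m) : A) = 0 :=
        DirectSum.decompose_of_mem_ne 𝒜 hr (by omega)
      have hym : ((DirectSum.decompose 𝒜 (a - r) m : 𝒜 m) : A) ∈ Ideal.span (T : Set A) :=
        hJhom m hy
      have e : a = ((DirectSum.decompose 𝒜 (a - r) m : 𝒜 m) : A) := by
        calc a = ((DirectSum.decompose 𝒜 a m : 𝒜 m) : A) :=
              (DirectSum.decompose_of_mem_same 𝒜 ha).symm
          _ = ((DirectSum.decompose 𝒜 (r + (a - r)) m : 𝒜 m) : A) := by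
              rw [show r + (a - r) = a by ring]
          _ = _ := by
              rw [DirectSum.decompose_add, DirectSum.add_apply, Submodule.coe_add, hrm, zero_add]
      rw [e]
      exact hym
    obtain ⟨G, hG⟩ : ∃ G : Finset (Polynomial A), ∀ p : Polynomial A,
        p ∈ G ↔ ∃ t ∈ T, ∃ k : ℕ, k ≤ dT t ∧ Polynomial.monomial k t = p := by
      refine ⟨T.biUnion fun t => (Finset.range (dT t + 1)).image
        fun k => Polynomial.monomial k t, fun p => ?_⟩
      constructor
      · intro hp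
        obtain ⟨t, ht, hp⟩ := Finset.mem_biUnion.mp hp
        obtain ⟨k, hk, rfl⟩ := Finset.mem_image.mp hp
        exact ⟨t, ht, k, Nat.lt_succ_iff.mp (Finset.mem_range.mp hk), rfl⟩
      · rintro ⟨t, ht, k, hk, rfl⟩
        exact Finset.mem_biUnion.mpr ⟨t, ht, Finset.mem_image.mpr
          ⟨k, Finset.mem_range.mpr (Nat.lt_succ_of_le hk), rfl⟩⟩
    obtain ⟨𝒞, h𝒞⟩ : ∃ 𝒞 : Subalgebra A (Polynomial A),
        𝒞 = Algebra.adjoin A (G : Set (Polynomial A)) := ⟨_, rfl⟩
    have hGmem : ∀ t ∈ T, ∀ k ≤ dT t, Polynomial.monomial k t ∈ 𝒞 := by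
      intro t ht k hk
      rw [h𝒞]
      apply Algebra.subset_adjoin
      exact Finset.mem_coe.mpr ((hG _).mpr ⟨t, ht, k, hk, rfl⟩)
    have K : ∀ (m : ℕ) (a : A), a ∈ 𝒜 m → ∀ n ≤ m, Polynomial.monomial n a ∈ 𝒞 := by
      intro m
      induction m using Nat.strong_induction_on with
      | _ m ih =>
        intro a ha n hnm
        rcases Nat.eq_zero_or_pos n with hn | hn
        · subst hn
          have e0 : Polynomial.monomial 0 a = algebraMap A (Polynomial A) a := by
            rw [Polynomial.monomial_zero_left]; rfl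
          rw [e0]; exact Subalgebra.algebraMap_mem 𝒞 a
        · have hm : 0 < m := lt_of_lt_of_le hn hnm
          have hairr' : a ∈ Submodule.span A (T : Set A) := hspan m a hm ha
          obtain ⟨c, -, hc⟩ := Submodule.mem_span_finset.mp hairr'
          have hdec : a = ∑ t ∈ T, (if dT t ≤ m then
              ((DirectSum.decompose 𝒜 (c t) (m - dT t) : 𝒜 (m - dT t)) : A) * t else 0) := by
            calc a = ((DirectSum.decompose 𝒜 a m : 𝒜 m) : A) :=
                  (DirectSum.decompose_of_mem_same 𝒜 ha).symm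
              _ = ((DirectSum.decompose 𝒜 (∑ t ∈ T, c t • t) m : 𝒜 m) : A) := by rw [hc]
              _ = ∑ t ∈ T, ((DirectSum.decompose 𝒜 (c t • t) m : 𝒜 m) : A) := by
                  rw [DirectSum.decompose_sum, DFinsupp.finsetSum_apply,
                    AddSubmonoidClass.coe_finsetSum]
              _ = _ := Finset.sum_congr rfl (fun t ht => by
                  rw [smul_eq_mul]
                  exact DirectSum.coe_decompose_mul_of_right_mem 𝒜 m (hdT t ht).2)
          rw [hdec, map_sum]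
          refine sum_mem (fun t ht => ?_)
          split_ifs with hdt
          · have hdpos : 0 < dT t := Nat.pos_of_ne_zero (hdT t ht).1
            obtain ⟨n1, n2, hn12, hn1, hn2⟩ :
                ∃ n1 n2 : ℕ, n1 + n2 = n ∧ n1 ≤ m - dT t ∧ n2 ≤ dT t := by
              rcases le_total n (dT t) with h | h
              · exact ⟨0, n, by omega, by omega, h⟩
              · exact ⟨n - dT t, dT t, by omega, by omega, le_rfl⟩
            have e : Polynomial.monomial n
                (((DirectSum.decompose 𝒜 (c t) (m - dT t) : 𝒜 (m - dT t)) : A) * t) =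
                Polynomial.monomial n1
                  ((DirectSum.decompose 𝒜 (c t) (m - dT t) : 𝒜 (m - dT t)) : A) *
                  Polynomial.monomial n2 t := by
              rw [Polynomial.monomial_mul_monomial, hn12]
            rw [e]
            refine Subalgebra.mul_mem 𝒞 ?_ (hGmem t ht n2 hn2)
            have hlt : m - dT t < m := Nat.sub_lt hm hdpos
            exact ih (m - dT t) hlt _ (SetLike.coe_mem _) n1 hn1
          · rw [map_zero]; exact Subalgebra.zero_mem 𝒞
    have K' : ∀ (n : ℕ) (a : A), a ∈ (⨆ (m' : ℕ) (_ : n ≤ m'), 𝒜 m') →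
        Polynomial.monomial n a ∈ 𝒞 := by
      intro n a ha
      have hle : (⨆ (m' : ℕ) (_ : n ≤ m'), 𝒜 m') ≤
          Submodule.comap ((Polynomial.monomial n : A →ₗ[A] Polynomial A).restrictScalars R)
            ((Subalgebra.toSubmodule 𝒞).restrictScalars R) := by
        refine iSup₂_le (fun m' hm' => ?_)
        intro x hx
        exact K m' x hx n hm'
      exact hle ha
    have I1 : ∀ b : B, φ b ∈ 𝒞 :=
      DirectSum.Decomposition.inductionOn ℬ (motive := fun b => φ b ∈ 𝒞)
        (by rw [map_zero]; exact Subalgebra.zero_mem 𝒞)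
        (fun {n} b => by
          obtain ⟨a, ha, hab⟩ := hhomog n b b.2
          rw [← hab]
          exact K' n a ha)
        (fun b1 b2 h1 h2 => by rw [map_add]; exact Subalgebra.add_mem 𝒞 h1 h2)
    have hGpre : ∀ g : Polynomial A, ∃ b : B, g ∈ G → φ b = g := by
      intro g
      by_cases hg : g ∈ G
      · obtain ⟨t, ht, k, hk, rfl⟩ := (hG g).mp hg
        obtain ⟨b, -, hb⟩ := hmono k (dT t) t hk (hdT t ht).2
        exact ⟨b, fun _ => hb⟩
      · exact ⟨0, fun h => absurd h hg⟩
    choose bOf hbOf using hGpre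
    have I2 : ∀ x ∈ 𝒞, ∃ b ∈ Algebra.adjoin (ℬ 0) ((G.image bOf : Finset B) : Set B),
        φ b = x := by
      intro x hx
      rw [h𝒞] at hx
      induction hx using Algebra.adjoin_induction with
      | mem x hx =>
        refine ⟨bOf x, Algebra.subset_adjoin ?_, hbOf x (Finset.mem_coe.mp hx)⟩
        exact Finset.mem_coe.mpr (Finset.mem_image.mpr ⟨x, Finset.mem_coe.mp hx, rfl⟩)
      | algebraMap a =>
        obtain ⟨b, hb0, hb⟩ := hconst a
        refine ⟨b, ?_, ?_⟩
        · exact Subalgebra.algebraMap_mem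
            (Algebra.adjoin (ℬ 0) ((G.image bOf : Finset B) : Set B)) (⟨b, hb0⟩ : ℬ 0)
        · rw [hb, Polynomial.monomial_zero_left]; rfl
      | add x y hx hy ihx ihy =>
        obtain ⟨b1, hb1, rfl⟩ := ihx
        obtain ⟨b2, hb2, rfl⟩ := ihy
        exact ⟨b1 + b2, Subalgebra.add_mem _ hb1 hb2, map_add _ _ _⟩
      | mul x y hx hy ihx ihy =>
        obtain ⟨b1, hb1, rfl⟩ := ihx
        obtain ⟨b2, hb2, rfl⟩ := ihy
        exact ⟨b1 * b2, Subalgebra.mul_mem _ hb1 hb2, map_mul _ _ _⟩
    refine ⟨⟨G.image bOf, eq_top_iff.mpr (fun b _ => ?_)⟩⟩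
    obtain ⟨b', hb', hbb⟩ := I2 (φ b) (I1 b)
    have : b' = b := hφ hbb
    rw [← this]
    exact hb'

end Groth.Agent.S8275
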