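import Groth.Statements.S8276
import Mathlib
import Mathlib

set_option autoImplicit false
universe u
open EGA2

namespace Groth.Agent.S8276

/-- For a positively graded ring S and the graded ring S♮ with S♮_n = S_{≥ n} = ⊕_{m ≥ n} S_m (presented
here as a graded ring S' with an injective algebra homomorphism φ : S' → S[X] carrying S'_n onto
S_{≥ n}·X^n for every n, so that S'_0 is identified with S): S♮ is Noetherian if and only if S is. -/
theorem result {R A B : Type u} [CommRing R] [CommRing A] [Algebra R A]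
    (𝒜 : ℕ → Submodule R A) [GradedAlgebra 𝒜] [CommRing B] [Algebra R B] (ℬ : ℕ → Submodule R B) [GradedAlgebra ℬ]
    (φ : B →ₐ[R] Polynomial A) (hφ : Function.Injective φ)
    (hdeg : ∀ n : ℕ, Submodule.map φ.toLinearMap (ℬ n) =
      Submodule.map ((Polynomial.monomial n : A →ₗ[A] Polynomial A).restrictScalars R) (⨆ (m : ℕ) (_ : n ≤ m), 𝒜 m)) :
    IsNoetherianRing B ↔ IsNoetherianRing A := by
  classical
  have htop : (⨆ (m' : ℕ) (_ : 0 ≤ m'), 𝒜 m') = ⊤ := by
    rw [eq_top_iff, ← (DirectSum.Decomposition.isInternal 𝒜).submodule_iSup_eq_top]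
    exact iSup_le fun m => le_iSup₂ (f := fun (m' : ℕ) (_ : 0 ≤ m') => 𝒜 m') m (Nat.zero_le m)
  have hconst : ∀ a : A, ∃ b : B, φ b = Polynomial.monomial 0 a := by
    intro a
    have h2 : ((Polynomial.monomial 0 : A →ₗ[A] Polynomial A).restrictScalars R) a ∈
        Submodule.map ((Polynomial.monomial 0 : A →ₗ[A] Polynomial A).restrictScalars R)
          (⨆ (m' : ℕ) (_ : 0 ≤ m'), 𝒜 m') := by
      apply Submodule.mem_map_of_mem
      rw [htop]; exact Submodule.mem_top
    rw [← hdeg 0] at h2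
    obtain ⟨b, -, hb'⟩ := Submodule.mem_map.mp h2
    exact ⟨b, hb'⟩
  have hmono : ∀ (n m : ℕ) (a : A), n ≤ m → a ∈ 𝒜 m →
      ∃ b ∈ ℬ n, φ b = Polynomial.monomial n a := by
    intro n m a hnm ha
    have h1 : a ∈ (⨆ (m' : ℕ) (_ : n ≤ m'), 𝒜 m') :=
      (le_iSup₂ (f := fun (m' : ℕ) (_ : n ≤ m') => 𝒜 m') m hnm) ha
    have h2 : ((Polynomial.monomial n : A →ₗ[A] Polynomial A).restrictScalars R) a ∈
        Submodule.map ((Polynomial.monomial n : A →ₗ[A] Polynomial A).restrictScalars R)
          (⨆ (m' : ℕ) (_ : n ≤ m'), 𝒜 m') :=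
      Submodule.mem_map_of_mem h1
    rw [← hdeg n] at h2
    obtain ⟨b, hb, hb'⟩ := Submodule.mem_map.mp h2
    exact ⟨b, hb, hb'⟩
  have hhomog : ∀ (n : ℕ) (b : B), b ∈ ℬ n →
      ∃ a ∈ (⨆ (m' : ℕ) (_ : n ≤ m'), 𝒜 m'), Polynomial.monomial n a = φ b := by
    intro n b hb
    have h1 : φ.toLinearMap b ∈ Submodule.map φ.toLinearMap (ℬ n) := Submodule.mem_map_of_mem hb
    rw [hdeg n] at h1
    obtain ⟨a, ha, ha'⟩ := Submodule.mem_map.mp h1
    exact ⟨a, ha, ha'⟩
  constructor
  · intro hB
    have hπ : Function.Surjective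
        ((Polynomial.constantCoeff).comp (φ : B →+* Polynomial A)) := by
      intro a
      obtain ⟨b, hb⟩ := hconst a
      refine ⟨b, ?_⟩
      show Polynomial.constantCoeff (φ b) = a
      rw [hb, Polynomial.constantCoeff_apply, Polynomial.coeff_monomial, if_pos rfl]
    exact isNoetherianRing_of_surjective B A _ hπ
  · intro hA
    have hfg : ((HomogeneousIdeal.irrelevant 𝒜).toIdeal).FG :=
      (isNoetherianRing_iff_ideal_fg A).mp hA _
    rw [HomogeneousIdeal.irrelevant_eq_span 𝒜] at hfg
    have hfg' : (Submodule.span A (⋃ i > 0, (𝒜 i : Set A))).FG := hfg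
    obtain ⟨T, hTsub, hTspan⟩ := (Submodule.fg_span_iff_fg_span_finset_subset _).mp hfg'
    have hT' : ∀ t ∈ T, ∃ i : ℕ, 0 < i ∧ t ∈ 𝒜 i := by
      intro t ht
      obtain ⟨i, hi, hti⟩ := Set.mem_iUnion₂.mp (hTsub (Finset.mem_coe.mpr ht))
      exact ⟨i, hi, hti⟩
    choose! dT hdT using hT'
    obtain ⟨G, hG⟩ : ∃ G : Finset (Polynomial A), ∀ p : Polynomial A,
        p ∈ G ↔ ∃ t ∈ T, ∃ k : ℕ, k ≤ dT t ∧ Polynomial.monomial k t = p := by
      refine ⟨T.biUnion fun t => (Finset.range (dT t + 1)).image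
        fun k => Polynomial.monomial k t, fun p => ?_⟩
      constructor
      · intro hp
        obtain ⟨t, ht, hp⟩ := Finset.mem_biUnion.mp hp
        obtain ⟨k, hk, rfl⟩ := Finset.mem_image.mp hp
        exact ⟨t, ht, k, Nat.lt_succ_iff.mp (Finset.mem_range.mp hk), rfl⟩
      · rintro ⟨t, ht, k, hk, rfl⟩
        exact Finset.mem_biUnion.mpr ⟨t, ht, Finset.mem_image.mpr
          ⟨k, Finset.mem_range.mpr (Nat.lt_succ_of_le hk), rfl⟩⟩
    have hN𝒞 : IsNoetherianRing ↥(Algebra.adjoin A (G : Set (Polynomial A))) :=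
      isNoetherianRing_of_fg (Subalgebra.fg_adjoin_finset G)
    obtain ⟨𝒞, h𝒞⟩ : ∃ 𝒞 : Subalgebra A (Polynomial A),
        𝒞 = Algebra.adjoin A (G : Set (Polynomial A)) := ⟨_, rfl⟩
    have hGmem : ∀ t ∈ T, ∀ k ≤ dT t, Polynomial.monomial k t ∈ 𝒞 := by
      intro t ht k hk
      rw [h𝒞]
      apply Algebra.subset_adjoin
      exact Finset.mem_coe.mpr ((hG _).mpr ⟨t, ht, k, hk, rfl⟩)
    have K : ∀ (m : ℕ) (a : A), a ∈ 𝒜 m → ∀ n ≤ m, Polynomial.monomial n a ∈ 𝒞 := by
      intro m
      induction m using Nat.strong_induction_on with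
      | _ m ih =>
        intro a ha n hnm
        rcases Nat.eq_zero_or_pos n with hn | hn
        · subst hn
          have e0 : Polynomial.monomial 0 a = algebraMap A (Polynomial A) a := by
            rw [Polynomial.monomial_zero_left]; rfl
          rw [e0]; exact Subalgebra.algebraMap_mem 𝒞 a
        · have hm : 0 < m := lt_of_lt_of_le hn hnm
          have hairr : a ∈ (HomogeneousIdeal.irrelevant 𝒜).toIdeal :=
            HomogeneousIdeal.mem_irrelevant_of_mem 𝒜 hm ha
          rw [HomogeneousIdeal.irrelevant_eq_span 𝒜] at hairr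
          have hairr' : a ∈ Submodule.span A (T : Set A) := by
            rw [← hTspan]; exact hairr
          obtain ⟨c, -, hc⟩ := Submodule.mem_span_finset.mp hairr'
          have hdec : a = ∑ t ∈ T, (if dT t ≤ m then
              ((DirectSum.decompose 𝒜 (c t) (m - dT t) : 𝒜 (m - dT t)) : A) * t else 0) := by
            calc a = ((DirectSum.decompose 𝒜 a m : 𝒜 m) : A) :=
                  (DirectSum.decompose_of_mem_same 𝒜 ha).symm
              _ = ((DirectSum.decompose 𝒜 (∑ t ∈ T, c t • t) m : 𝒜 m) : A) := by rw [hc]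
              _ = ∑ t ∈ T, ((DirectSum.decompose 𝒜 (c t • t) m : 𝒜 m) : A) := by
                  rw [DirectSum.decompose_sum, DFinsupp.finsetSum_apply,
                    AddSubmonoidClass.coe_finsetSum]
              _ = _ := Finset.sum_congr rfl (fun t ht => by
                  rw [smul_eq_mul]
                  exact DirectSum.coe_decompose_mul_of_right_mem 𝒜 m (hdT t ht).2)
          rw [hdec, map_sum]
          refine sum_mem (fun t ht => ?_)
          split_ifs with hdt
          · obtain ⟨n1, n2, hn12, hn1, hn2⟩ :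
                ∃ n1 n2 : ℕ, n1 + n2 = n ∧ n1 ≤ m - dT t ∧ n2 ≤ dT t := by
              rcases le_total n (dT t) with h | h
              · exact ⟨0, n, by omega, by omega, h⟩
              · exact ⟨n - dT t, dT t, by omega, by omega, le_rfl⟩
            have e : Polynomial.monomial n
                (((DirectSum.decompose 𝒜 (c t) (m - dT t) : 𝒜 (m - dT t)) : A) * t) =
                Polynomial.monomial n1
                  ((DirectSum.decompose 𝒜 (c t) (m - dT t) : 𝒜 (m - dT t)) : A) *
                  Polynomial.monomial n2 t := by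
              rw [Polynomial.monomial_mul_monomial, hn12]
            rw [e]
            refine Subalgebra.mul_mem 𝒞 ?_ (hGmem t ht n2 hn2)
            have hlt : m - dT t < m := Nat.sub_lt hm (hdT t ht).1
            exact ih (m - dT t) hlt _ (SetLike.coe_mem _) n1 hn1
          · rw [map_zero]; exact Subalgebra.zero_mem 𝒞
    have K' : ∀ (n : ℕ) (a : A), a ∈ (⨆ (m' : ℕ) (_ : n ≤ m'), 𝒜 m') →
        Polynomial.monomial n a ∈ 𝒞 := by
      intro n a ha
      have hle : (⨆ (m' : ℕ) (_ : n ≤ m'), 𝒜 m') ≤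
          Submodule.comap ((Polynomial.monomial n : A →ₗ[A] Polynomial A).restrictScalars R)
            ((Subalgebra.toSubmodule 𝒞).restrictScalars R) := by
        refine iSup₂_le (fun m' hm' => ?_)
        intro x hx
        exact K m' x hx n hm'
      exact hle ha
    have I1 : ∀ b : B, φ b ∈ 𝒞 :=
      DirectSum.Decomposition.inductionOn ℬ (motive := fun b => φ b ∈ 𝒞)
        (by rw [map_zero]; exact Subalgebra.zero_mem 𝒞)
        (fun {n} b => by
          obtain ⟨a, ha, hab⟩ := hhomog n b b.2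
          rw [← hab]
          exact K' n a ha)
        (fun b1 b2 h1 h2 => by rw [map_add]; exact Subalgebra.add_mem 𝒞 h1 h2)
    have I2 : ∀ x ∈ 𝒞, ∃ b : B, φ b = x := by
      intro x hx
      rw [h𝒞] at hx
      induction hx using Algebra.adjoin_induction with
      | mem x hx =>
        obtain ⟨t, ht, k, hk, rfl⟩ := (hG x).mp (Finset.mem_coe.mp hx)
        obtain ⟨b, -, hb⟩ := hmono k (dT t) t hk (hdT t ht).2
        exact ⟨b, hb⟩
      | algebraMap a =>
        obtain ⟨b, hb⟩ := hconst a
        refine ⟨b, ?_⟩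
        rw [hb, Polynomial.monomial_zero_left]; rfl
      | add x y hx hy ihx ihy =>
        obtain ⟨b1, rfl⟩ := ihx
        obtain ⟨b2, rfl⟩ := ihy
        exact ⟨b1 + b2, map_add _ _ _⟩
      | mul x y hx hy ihx ihy =>
        obtain ⟨b1, rfl⟩ := ihx
        obtain ⟨b2, rfl⟩ := ihy
        exact ⟨b1 * b2, map_mul _ _ _⟩
    subst h𝒞
    have hφ'bij : Function.Bijective
        (RingHom.codRestrict (φ : B →+* Polynomial A)
          (Algebra.adjoin A (G : Set (Polynomial A))) I1) := by
      constructor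
      · intro b1 b2 h
        apply hφ
        exact congrArg Subtype.val h
      · rintro ⟨x, hx⟩
        obtain ⟨b, hb⟩ := I2 x hx
        exact ⟨b, Subtype.ext hb⟩
    exact isNoetherianRing_of_ringEquiv ↥(Algebra.adjoin A (G : Set (Polynomial A)))
      (RingEquiv.ofBijective _ hφ'bij).symm

end Groth.Agent.S8276
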