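import Groth.Statements.S8277
import Mathlib

set_option autoImplicit false
universe u
open EGA2

namespace Groth.Agent.S8277

/-- For a positively graded ring S, the graded ring S♮ with S♮_n = S_{≥ n} = ⊕_{m ≥ n} S_m (presented
here as a graded ring S' with an injective algebra homomorphism φ : S' → S[X] carrying S'_n onto
S_{≥ n}·X^n for every n, so that S'_0 is identified with S), and n₀ ≥ 0: S♮_{n+1} = S♮_1 S♮_n for n
≥ n₀ if and only if S_{n+1} = S_1 S_n for n ≥ n₀. -/
theorem result {R A B : Type u} [CommRing R] [CommRing A] [Algebra R A]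
    (𝒜 : ℕ → Submodule R A) [GradedAlgebra 𝒜] [CommRing B] [Algebra R B] (ℬ : ℕ → Submodule R B) [GradedAlgebra ℬ]
    (φ : B →ₐ[R] Polynomial A) (hφ : Function.Injective φ)
    (hdeg : ∀ n : ℕ, Submodule.map φ.toLinearMap (ℬ n) =
      Submodule.map ((Polynomial.monomial n : A →ₗ[A] Polynomial A).restrictScalars R) (⨆ (m : ℕ) (_ : n ≤ m), 𝒜 m)) (n₀ : ℕ) :
    (∀ n : ℕ, n₀ ≤ n → ℬ (n + 1) = ℬ 1 * ℬ n) ↔ (∀ n : ℕ, n₀ ≤ n → 𝒜 (n + 1) = 𝒜 1 * 𝒜 n) := by
  classical
  obtain ⟨Age, hAge⟩ : ∃ Age : ℕ → Submodule R A,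
      ∀ n, Age n = ⨆ (m : ℕ) (_ : n ≤ m), 𝒜 m := ⟨_, fun _ => rfl⟩
  obtain ⟨Mon, hMon⟩ : ∃ Mon : ℕ → (A →ₗ[R] Polynomial A),
      ∀ n, Mon n = (Polynomial.monomial n : A →ₗ[A] Polynomial A).restrictScalars R :=
    ⟨_, fun _ => rfl⟩
  have hMa : ∀ n a, Mon n a = Polynomial.monomial n a := by
    intro n a
    rw [hMon]
    rfl
  have hdeg' : ∀ n, Submodule.map φ.toLinearMap (ℬ n) = Submodule.map (Mon n) (Age n) := by
    intro n
    rw [hMon n, hAge n]
    exact hdeg n
  have L2 : ∀ (i j : ℕ) (P Q : Submodule R A),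
      Submodule.map (Mon i) P * Submodule.map (Mon j) Q = Submodule.map (Mon (i + j)) (P * Q) := by
    intro i j P Q
    apply le_antisymm
    · rw [Submodule.mul_le]
      rintro _ ⟨a, ha, rfl⟩ _ ⟨b, hb, rfl⟩
      refine ⟨a * b, Submodule.mul_mem_mul ha hb, ?_⟩
      rw [hMa, hMa, hMa, Polynomial.monomial_mul_monomial]
    · rw [Submodule.map_le_iff_le_comap, Submodule.mul_le]
      intro a ha b hb
      rw [Submodule.mem_comap, hMa, ← Polynomial.monomial_mul_monomial, ← hMa i, ← hMa j]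
      exact Submodule.mul_mem_mul (Submodule.mem_map_of_mem ha) (Submodule.mem_map_of_mem hb)
  have hφinj : Function.Injective (Submodule.map φ.toLinearMap) :=
    Submodule.map_injective_of_injective (f := φ.toLinearMap) hφ
  have hMinj : ∀ n, Function.Injective (Submodule.map (Mon n)) := fun n =>
    Submodule.map_injective_of_injective (f := Mon n) (by
      intro a b hab
      rw [hMa, hMa] at hab
      exact Polynomial.monomial_injective n hab)
  have hB : ∀ n, ℬ (n + 1) = ℬ 1 * ℬ n ↔ Age (n + 1) = Age 1 * Age n := by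
    intro n
    rw [← hφinj.eq_iff, Submodule.map_mul, hdeg' (n + 1), hdeg' 1, hdeg' n, L2, add_comm 1 n,
      (hMinj (n + 1)).eq_iff]
  have hAmul : ∀ i j, 𝒜 i * 𝒜 j ≤ 𝒜 (i + j) := fun i j =>
    Submodule.mul_le.mpr fun a ha b hb => SetLike.mul_mem_graded ha hb
  have hAge_mul : ∀ i j, Age i * Age j ≤ Age (i + j) := by
    intro i j
    rw [hAge i, hAge j, hAge (i + j), Submodule.iSup_mul]
    refine iSup_le fun m => ?_
    rw [Submodule.iSup_mul]
    refine iSup_le fun hm => ?_
    rw [Submodule.mul_iSup]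
    refine iSup_le fun m' => ?_
    rw [Submodule.mul_iSup]
    refine iSup_le fun hm' => ?_
    exact le_trans (hAmul m m') (le_iSup₂_of_le (m + m') (by omega) le_rfl)
  constructor
  · intro hB' n hn
    have hAge' := (hB n).mp (hB' n hn)
    apply le_antisymm
    · intro x hx
      have hx' : x ∈ Age 1 * Age n := by
        rw [← hAge', hAge]
        exact (le_iSup₂_of_le (f := fun (m : ℕ) (_ : n + 1 ≤ m) => 𝒜 m) (n + 1) le_rfl le_rfl) hx
      have hπ : Submodule.map (GradedAlgebra.proj 𝒜 (n + 1)) (Age 1 * Age n) ≤ 𝒜 1 * 𝒜 n := by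
        rw [hAge 1, hAge n, Submodule.iSup_mul, Submodule.map_iSup]
        refine iSup_le fun m => ?_
        rw [Submodule.iSup_mul, Submodule.map_iSup]
        refine iSup_le fun hm => ?_
        rw [Submodule.mul_iSup, Submodule.map_iSup]
        refine iSup_le fun m' => ?_
        rw [Submodule.mul_iSup, Submodule.map_iSup]
        refine iSup_le fun hm' => ?_
        rw [Submodule.map_le_iff_le_comap]
        intro y hy
        have hy' : y ∈ 𝒜 (m + m') := hAmul m m' hy
        rw [Submodule.mem_comap, GradedAlgebra.proj_apply]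
        by_cases h : m + m' = n + 1
        · have hy'' : y ∈ 𝒜 (n + 1) := by rw [← h]; exact hy'
          have hm1 : m = 1 := by omega
          have hm2 : m' = n := by omega
          rw [DirectSum.decompose_of_mem_same 𝒜 hy'']
          rw [hm1, hm2] at hy
          exact hy
        · rw [DirectSum.decompose_of_mem_ne 𝒜 hy' h]
          exact zero_mem _
      have h3 : GradedAlgebra.proj 𝒜 (n + 1) x ∈ 𝒜 1 * 𝒜 n := hπ (Submodule.mem_map_of_mem hx')
      rwa [GradedAlgebra.proj_apply, DirectSum.decompose_of_mem_same 𝒜 hx] at h3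
    · rw [add_comm n 1]
      exact hAmul 1 n
  · intro hA' n hn
    rw [hB n]
    apply le_antisymm
    · rw [hAge (n + 1)]
      refine iSup_le fun m => iSup_le fun hm => ?_
      obtain ⟨m', rfl⟩ : ∃ m', m = m' + 1 := ⟨m - 1, by omega⟩
      rw [hA' m' (by omega)]
      refine mul_le_mul' ?_ ?_
      · rw [hAge 1]
        exact le_iSup₂_of_le (f := fun (m : ℕ) (_ : 1 ≤ m) => 𝒜 m) 1 le_rfl le_rfl
      · rw [hAge n]
        exact le_iSup₂_of_le (f := fun (m : ℕ) (_ : n ≤ m) => 𝒜 m) m' (by omega) le_rfl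
    · have h4 := hAge_mul 1 n
      rwa [add_comm 1 n] at h4

end Groth.Agent.S8277
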