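import Groth.Statements.S8278
import Mathlib

set_option autoImplicit false
universe u
open EGA2

namespace Groth.Agent.S8278

/-- For a positively graded ring S, the graded ring S♮ with S♮_n = S_{≥ n} = ⊕_{m ≥ n} S_m (presented
here as a graded ring S' with an injective algebra homomorphism φ : S' → S[X] carrying S'_n onto
S_{≥ n}·X^n for every n, so that S'_0 is identified with S), and n₀ ≥ 1: S♮_n = (S♮_1)^n for n ≥ n₀
if and only if S_n = (S_1)^n for n ≥ n₀. (n₀ ≥ 1 because the zeroth power of a submodule is the span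
of 1, not the degree-zero part.) -/
theorem result {R A B : Type u} [CommRing R] [CommRing A] [Algebra R A]
    (𝒜 : ℕ → Submodule R A) [GradedAlgebra 𝒜] [CommRing B] [Algebra R B] (ℬ : ℕ → Submodule R B) [GradedAlgebra ℬ]
    (φ : B →ₐ[R] Polynomial A) (hφ : Function.Injective φ)
    (hdeg : ∀ n : ℕ, Submodule.map φ.toLinearMap (ℬ n) =
      Submodule.map ((Polynomial.monomial n : A →ₗ[A] Polynomial A).restrictScalars R) (⨆ (m : ℕ) (_ : n ≤ m), 𝒜 m)) (n₀ : ℕ) (hn₀ : 1 ≤ n₀) :
    (∀ n : ℕ, n₀ ≤ n → ℬ n = ℬ 1 ^ n) ↔ (∀ n : ℕ, n₀ ≤ n → 𝒜 n = 𝒜 1 ^ n) := by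
  classical
  obtain ⟨Age, hAge⟩ : ∃ Age : ℕ → Submodule R A,
      ∀ n, Age n = ⨆ (m : ℕ) (_ : n ≤ m), 𝒜 m := ⟨_, fun _ => rfl⟩
  obtain ⟨Mon, hMon⟩ : ∃ Mon : ℕ → (A →ₗ[R] Polynomial A),
      ∀ n, Mon n = (Polynomial.monomial n : A →ₗ[A] Polynomial A).restrictScalars R :=
    ⟨_, fun _ => rfl⟩
  have hMa : ∀ n a, Mon n a = Polynomial.monomial n a := by
    intro n a
    rw [hMon]
    rfl
  have hdeg' : ∀ n, Submodule.map φ.toLinearMap (ℬ n) = Submodule.map (Mon n) (Age n) := by
    intro n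
    rw [hMon n, hAge n]
    exact hdeg n
  have L2 : ∀ (i j : ℕ) (P Q : Submodule R A),
      Submodule.map (Mon i) P * Submodule.map (Mon j) Q = Submodule.map (Mon (i + j)) (P * Q) := by
    intro i j P Q
    apply le_antisymm
    · rw [Submodule.mul_le]
      rintro _ ⟨a, ha, rfl⟩ _ ⟨b, hb, rfl⟩
      refine ⟨a * b, Submodule.mul_mem_mul ha hb, ?_⟩
      rw [hMa, hMa, hMa, Polynomial.monomial_mul_monomial]
    · rw [Submodule.map_le_iff_le_comap, Submodule.mul_le]
      intro a ha b hb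
      rw [Submodule.mem_comap, hMa, ← Polynomial.monomial_mul_monomial, ← hMa i, ← hMa j]
      exact Submodule.mul_mem_mul (Submodule.mem_map_of_mem ha) (Submodule.mem_map_of_mem hb)
  have L3 : ∀ (n : ℕ) (P : Submodule R A),
      (Submodule.map (Mon 1) P) ^ (n + 1) = Submodule.map (Mon (n + 1)) (P ^ (n + 1)) := by
    intro n P
    induction n with
    | zero => simp only [zero_add, pow_one]
    | succ k ih => rw [pow_succ, ih, L2, pow_succ P (k + 1)]
  have hφinj : Function.Injective (Submodule.map φ.toLinearMap) :=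
    Submodule.map_injective_of_injective (f := φ.toLinearMap) hφ
  have hMinj : ∀ n, Function.Injective (Submodule.map (Mon n)) := fun n =>
    Submodule.map_injective_of_injective (f := Mon n) (by
      intro a b hab
      rw [hMa, hMa] at hab
      exact Polynomial.monomial_injective n hab)
  have hB : ∀ k, ℬ (k + 1) = ℬ 1 ^ (k + 1) ↔ Age (k + 1) = Age 1 ^ (k + 1) := by
    intro k
    rw [← hφinj.eq_iff, Submodule.map_pow, hdeg' (k + 1), hdeg' 1, L3, (hMinj (k + 1)).eq_iff]
  have hAmul : ∀ i j, 𝒜 i * 𝒜 j ≤ 𝒜 (i + j) := fun i j =>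
    Submodule.mul_le.mpr fun a ha b hb => SetLike.mul_mem_graded ha hb
  have hAge_mul : ∀ i j, Age i * Age j ≤ Age (i + j) := by
    intro i j
    rw [hAge i, hAge j, hAge (i + j), Submodule.iSup_mul]
    refine iSup_le fun m => ?_
    rw [Submodule.iSup_mul]
    refine iSup_le fun hm => ?_
    rw [Submodule.mul_iSup]
    refine iSup_le fun m' => ?_
    rw [Submodule.mul_iSup]
    refine iSup_le fun hm' => ?_
    exact le_trans (hAmul m m') (le_iSup₂_of_le (m + m') (by omega) le_rfl)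
  have hone : (1 : A) ∈ 𝒜 0 := SetLike.GradedOne.one_mem
  have F1 : ∀ n, 𝒜 1 ^ n ≤ 𝒜 n := by
    intro n
    induction n with
    | zero => rw [pow_zero, Submodule.one_le]; exact hone
    | succ k ih => rw [pow_succ]; exact le_trans (mul_le_mul' ih le_rfl) (hAmul k 1)
  have hA_le_Age : ∀ n, 𝒜 n ≤ Age n := fun n => by
    rw [hAge n]
    exact le_iSup₂_of_le (f := fun (m : ℕ) (_ : n ≤ m) => 𝒜 m) n le_rfl le_rfl
  have hAge_anti : ∀ i j, i ≤ j → Age j ≤ Age i := by
    intro i j hij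
    rw [hAge j, hAge i]
    exact iSup_le fun m => iSup_le fun hm =>
      le_iSup₂_of_le (f := fun (m : ℕ) (_ : i ≤ m) => 𝒜 m) m (by omega) le_rfl
  have F2 : ∀ n, Age 1 ^ n ≤ Age n := by
    intro n
    induction n with
    | zero => rw [pow_zero, Submodule.one_le]; exact hA_le_Age 0 hone
    | succ k ih => rw [pow_succ]; exact le_trans (mul_le_mul' ih le_rfl) (hAge_mul k 1)
  have G1 : ∀ k, Age 1 * 𝒜 k ≤ Age 1 := fun k =>
    le_trans (mul_le_mul' le_rfl (hA_le_Age k))
      (le_trans (hAge_mul 1 k) (hAge_anti 1 (1 + k) (by omega)))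
  have G : ∀ n k, Age 1 ^ (n + 1) * 𝒜 k ≤ Age 1 ^ (n + 1) := by
    intro n k
    rw [pow_succ, mul_assoc]
    exact mul_le_mul' le_rfl (G1 k)
  have hsplit : Age 1 ≤ 𝒜 1 ⊔ Age 2 := by
    rw [hAge 1]
    refine iSup_le fun m => iSup_le fun hm => ?_
    by_cases h : m = 1
    · subst h; exact le_sup_left
    · exact le_sup_of_le_right (le_trans (hA_le_Age m) (hAge_anti 2 m (by omega)))
  have H : ∀ n, Age 1 ^ n ≤ 𝒜 1 ^ n ⊔ Age (n + 1) := by
    intro n
    induction n with
    | zero => rw [pow_zero]; exact le_sup_left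
    | succ k ih =>
      rw [pow_succ]
      refine le_trans (mul_le_mul' ih hsplit) ?_
      rw [Submodule.sup_mul, Submodule.mul_sup]
      refine sup_le (sup_le ?_ ?_) ?_
      · rw [← pow_succ]; exact le_sup_left
      · refine le_sup_of_le_right ?_
        exact le_trans (mul_le_mul' (le_trans (F1 k) (hA_le_Age k)) le_rfl)
          (le_trans (hAge_mul k 2) (hAge_anti _ _ (by omega)))
      · refine le_sup_of_le_right ?_
        exact le_trans (mul_le_mul' le_rfl (sup_le (hA_le_Age 1) (hAge_anti 1 2 (by omega))))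
          (hAge_mul (k + 1) 1)
  have hK : ∀ n, Age (n + 1) ≤ LinearMap.ker (GradedAlgebra.proj 𝒜 n) := by
    intro n
    rw [hAge (n + 1)]
    refine iSup_le fun m => iSup_le fun hm => ?_
    intro y hy
    rw [LinearMap.mem_ker, GradedAlgebra.proj_apply,
      DirectSum.decompose_of_mem_ne 𝒜 hy (by omega)]
  constructor
  · intro hB' n hn
    obtain ⟨k, rfl⟩ : ∃ k, n = k + 1 := ⟨n - 1, by omega⟩
    have hAgeEq := (hB k).mp (hB' (k + 1) hn)
    apply le_antisymm
    · intro x hx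
      have hx1 : x ∈ 𝒜 1 ^ (k + 1) ⊔ Age (k + 1 + 1) :=
        H (k + 1) (by rw [← hAgeEq]; exact hA_le_Age (k + 1) hx)
      obtain ⟨y, hy, z, hz, rfl⟩ := Submodule.mem_sup.mp hx1
      have hy' : y ∈ 𝒜 (k + 1) := F1 (k + 1) hy
      have hz' : z ∈ 𝒜 (k + 1) := by
        have h5 := Submodule.sub_mem _ hx hy'
        simpa using h5
      have hz0 : z = 0 := by
        have h1 := hK (k + 1) hz
        rw [LinearMap.mem_ker, GradedAlgebra.proj_apply,
          DirectSum.decompose_of_mem_same 𝒜 hz'] at h1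
        exact h1
      rw [hz0, add_zero]
      exact hy
    · exact F1 (k + 1)
  · intro hA' n hn
    obtain ⟨k, rfl⟩ : ∃ k, n = k + 1 := ⟨n - 1, by omega⟩
    rw [hB k]
    apply le_antisymm
    · rw [hAge (k + 1)]
      refine iSup_le fun m => iSup_le fun hm => ?_
      rw [hA' m (by omega)]
      obtain ⟨j, rfl⟩ : ∃ j, m = k + 1 + j := ⟨m - (k + 1), by omega⟩
      rw [pow_add]
      exact le_trans (mul_le_mul' (pow_le_pow_left' (hA_le_Age 1) (k + 1)) (F1 j)) (G k j)
    · exact F2 (k + 1)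

end Groth.Agent.S8278
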