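import Groth.Statements.S8279
import Mathlib
import Groth.Agent.Lib.helper5.ProjMapToSpecZero
import Groth.Agent.Lib.helper5.ProjIsoBij2

set_option autoImplicit false
universe u
open CategoryTheory CategoryTheory.Limits AlgebraicGeometry Opposite TopologicalSpace
open scoped HomogeneousIdeal
open EGA2

namespace Groth.Agent.S8279

/-- Let 𝒮 be a quasi-coherent positively graded O_Y-algebra and 𝒮' the graded O_Y-algebra O_Y ⊕ (⊕_{n>0}
𝒮_n), presented here as a quasi-coherent graded algebra 𝒮' with 𝒮'_0 = O_Y together with a graded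
homomorphism φ : 𝒮' → 𝒮 that is bijective in every positive degree over every affine open. Then the
morphism Proj(𝒮) → Proj(𝒮') induced by φ is an isomorphism (the canonical Y-isomorphism of the two
relative homogeneous spectra). -/
theorem result {Y P P' : Scheme.{u}} {𝒮' 𝒮 : RelProj.QCGrAlg Y}
    (φ : 𝒮'.toQCAlg ⟶ 𝒮.toQCAlg) (hφ : RelProj.IsGradedHom φ)
    (h0 : ∀ (U : Y.Opens) (hU : IsAffineOpen U), Function.Bijective (𝒮'.strZero U hU).hom)
    (hpos : ∀ (U : Y.Opens) (hU : IsAffineOpen U) (n : ℕ), 0 < n →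
      Set.BijOn (φ.hom.app (op U)).hom (𝒮'.deg U hU n) (𝒮.deg U hU n))
    (hirr : ∀ (U : Y.Opens) (hU : IsAffineOpen U),
      (𝒮.deg U hU)₊ ≤ ((𝒮'.deg U hU)₊).map (RelProj.gradedHomAt φ hφ U hU))
    (p' : P' ⟶ Y) (p : P ⟶ Y)
    (chart' : ∀ (U : Y.Opens) (hU : IsAffineOpen U), (((p' ⁻¹ᵁ U : P'.Opens) : Scheme.{u}) ≅ Proj (𝒮'.deg U hU)))
    (chart : ∀ (U : Y.Opens) (hU : IsAffineOpen U), (((p ⁻¹ᵁ U : P.Opens) : Scheme.{u}) ≅ Proj (𝒮.deg U hU)))
    (hP' : RelProj.IsRelProj 𝒮' p' chart') (hP : RelProj.IsRelProj 𝒮 p chart)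
    (h : P ⟶ P') (hh : RelProj.IsRelProjMap φ hφ hirr chart' chart h) : IsIso h := by
  classical
  have hcomp : h ≫ p' = p := by
    have hcov : TopologicalSpace.IsOpenCover (fun V : Y.affineOpens => p ⁻¹ᵁ V.1) :=
      Scheme.Hom.iSup_preimage_eq_top p (iSup_affineOpens_eq_top Y)
    refine (P.openCoverOfIsOpenCover _ hcov).hom_ext _ _ (fun V => ?_)
    show (p ⁻¹ᵁ V.1).ι ≫ h ≫ p' = (p ⁻¹ᵁ V.1).ι ≫ p
    have hV : IsAffineOpen V.1 := V.2
    let ψ0 : (𝒮'.deg V.1 hV 0) →+* (𝒮.deg V.1 hV 0) :=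
      { toFun := fun a => ⟨(RelProj.gradedHomAt φ hφ V.1 hV) a.1,
          (RelProj.gradedHomAt φ hφ V.1 hV).map_mem a.2⟩
        map_one' := Subtype.ext (map_one (RelProj.gradedHomAt φ hφ V.1 hV))
        map_mul' := fun a b => Subtype.ext (map_mul (RelProj.gradedHomAt φ hφ V.1 hV) a.1 b.1)
        map_zero' := Subtype.ext (map_zero (RelProj.gradedHomAt φ hφ V.1 hV))
        map_add' := fun a b => Subtype.ext (map_add (RelProj.gradedHomAt φ hφ V.1 hV) a.1 b.1) }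
    have e1 : Proj.map (RelProj.gradedHomAt φ hφ V.1 hV) (hirr V.1 hV) ≫
        Proj.toSpecZero (𝒮'.deg V.1 hV) =
        Proj.toSpecZero (𝒮.deg V.1 hV) ≫ Spec.map (CommRingCat.ofHom ψ0) :=
      H5PZ.map_toSpecZero _ _ (RelProj.gradedHomAt φ hφ V.1 hV) (hirr V.1 hV) ψ0 (fun a => rfl)
    have e2 : Spec.map (CommRingCat.ofHom ψ0) ≫ Spec.map (𝒮'.strZero V.1 hV) =
        Spec.map (𝒮.strZero V.1 hV) := by
      rw [← Spec.map_comp]
      congr 1
      ext r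
      exact congrArg (fun t => (t.app (op V.1)).hom r) φ.comm
    rw [← Category.assoc, hh V.1 hV, ← hP.chart_over V.1 hV]
    simp only [Category.assoc]
    rw [← hP'.chart_over V.1 hV, Iso.inv_hom_id_assoc, reassoc_of% e1, reassoc_of% e2]
  subst hcomp
  refine (MorphismProperty.isomorphisms.iff h).mp ?_
  rw [IsZariskiLocalAtTarget.iff_of_iSup_eq_top (P := MorphismProperty.isomorphisms Scheme.{u})
    (fun V : Y.affineOpens => p' ⁻¹ᵁ V.1)
    (Scheme.Hom.iSup_preimage_eq_top p' (iSup_affineOpens_eq_top Y))]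
  intro V
  have hV : IsAffineOpen V.1 := V.2
  have key : (h ∣_ (p' ⁻¹ᵁ V.1)) = (chart V.1 hV).hom ≫
      Proj.map (RelProj.gradedHomAt φ hφ V.1 hV) (hirr V.1 hV) ≫ (chart' V.1 hV).inv := by
    have e3 : ((chart V.1 hV).hom ≫
        Proj.map (RelProj.gradedHomAt φ hφ V.1 hV) (hirr V.1 hV) ≫ (chart' V.1 hV).inv) ≫
        (p' ⁻¹ᵁ V.1).ι = ((h ≫ p') ⁻¹ᵁ V.1).ι ≫ h := by
      rw [Category.assoc, Category.assoc]
      exact (hh V.1 hV).symm
    exact (cancel_mono (p' ⁻¹ᵁ V.1).ι).mp ((morphismRestrict_ι h _).trans e3.symm)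
  haveI h1 : IsIso (Proj.map (RelProj.gradedHomAt φ hφ V.1 hV) (hirr V.1 hV)) :=
    H5PB2.main _ _ (RelProj.gradedHomAt φ hφ V.1 hV) (fun n hn => hpos V.1 hV n hn) (hirr V.1 hV)
  have h3 : IsIso ((chart V.1 hV).hom ≫
      Proj.map (RelProj.gradedHomAt φ hφ V.1 hV) (hirr V.1 hV) ≫ (chart' V.1 hV).inv) :=
    inferInstance
  rw [key]
  exact (MorphismProperty.isomorphisms.iff _).mpr h3

end Groth.Agent.S8279
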