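import Groth.Statements.S8292
import Mathlib
import Groth.Agent.Lib.helper5.RelProjClosedImm
import Groth.Agent.Lib.helper5.RelProjFT

set_option autoImplicit false
universe u
open CategoryTheory CategoryTheory.Limits AlgebraicGeometry Opposite TopologicalSpace
open scoped HomogeneousIdeal
noncomputable section
open EGA2

namespace Groth.Agent.S8292

/-- Let 𝒮 be a quasi-coherent positively graded O_Y-algebra generated by 𝒮_1, M a quasi-coherent
O_Y-module and u : M → 𝒮_1 a surjective module map; let ū : Sym(M) → 𝒮 be the graded algebra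
homomorphism extending u. Then the morphism Proj(𝒮) → P(M) = Proj(Sym(M)) induced by ū is a closed
immersion. -/
theorem result {Y PT PS : Scheme.{u}} (𝒮 𝒯 : RelProj.QCGrAlg Y)
    (hgen : 𝒮.IsGenDegOne) (M : Y.Modules) (hM : Coh.IsQCoh M)
    (u : M ⟶ 𝒮.toModule)
    (hu1 : ∀ (U : Y.Opens) (hU : IsAffineOpen U) (x : Γ(M, U)), (u.app U) x ∈ 𝒮.deg U hU 1)
    (husurj : ∀ (U : Y.Opens) (hU : IsAffineOpen U) (s : 𝒮.presheaf.obj (op U)), s ∈ 𝒮.deg U hU 1 →
      ∃ x : Γ(M, U), (u.app U) x = s)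
    (j : M ⟶ 𝒯.toModule) (hT : RelProj.IsGrSymAlg M 𝒯 j)
    (ubar : 𝒯.toQCAlg ⟶ 𝒮.toQCAlg) (hubar : RelProj.IsGradedHom ubar)
    (hju : j ≫ RelSpec.QCAlg.Hom.toModuleMap ubar = u)
    (hirr : ∀ (U : Y.Opens) (hU : IsAffineOpen U),
      (𝒮.deg U hU)₊ ≤ ((𝒯.deg U hU)₊).map (RelProj.gradedHomAt ubar hubar U hU))
    (pT : PT ⟶ Y) (pS : PS ⟶ Y)
    (chartT : ∀ (U : Y.Opens) (hU : IsAffineOpen U), (((pT ⁻¹ᵁ U : PT.Opens) : Scheme.{u}) ≅ Proj (𝒯.deg U hU)))
    (chartS : ∀ (U : Y.Opens) (hU : IsAffineOpen U), (((pS ⁻¹ᵁ U : PS.Opens) : Scheme.{u}) ≅ Proj (𝒮.deg U hU)))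
    (hPT : RelProj.IsRelProj 𝒯 pT chartT) (hPS : RelProj.IsRelProj 𝒮 pS chartS)
    (h : PS ⟶ PT) (hh : RelProj.IsRelProjMap ubar hubar hirr chartT chartS h) : IsClosedImmersion h := by
  classical
  subst hju
  refine H5RC.main ubar hubar ?_ hirr pT pS chartT chartS hPT hPS h hh
  intro U hU n hn b hb
  suffices hall : ∀ k x, x ∈ 𝒮.deg U hU k → (1 ≤ k → ∀ z ∈ 𝒮.deg U hU 0,
      ∃ a ∈ 𝒯.deg U hU k, (ubar.hom.app (op U)).hom a = z * x) by
    obtain ⟨a, ha, hab⟩ := hall n b hb hn 1 SetLike.GradedOne.one_mem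
    exact ⟨a, ha, by rw [hab, one_mul]⟩
  refine H5FT.closure_graded_induction (𝒮.deg U hU) (hgen U hU)
    (fun k x => 1 ≤ k → ∀ z ∈ 𝒮.deg U hU 0,
      ∃ a ∈ 𝒯.deg U hU k, (ubar.hom.app (op U)).hom a = z * x) ?_ ?_ ?_ ?_ ?_ ?_
  · intro k _ z _
    exact ⟨0, zero_mem _, by rw [map_zero, mul_zero]⟩
  · intro k x y hx hy hk z hz
    obtain ⟨a, ha, hax⟩ := hx hk z hz
    obtain ⟨b', hb', hby⟩ := hy hk z hz
    exact ⟨a + b', add_mem ha hb', by rw [map_add, hax, hby, mul_add]⟩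
  · intro k x hx hk z hz
    obtain ⟨a, ha, hax⟩ := hx hk z hz
    exact ⟨-a, neg_mem ha, by rw [map_neg, hax, mul_neg]⟩
  · intro i j x y hxi hyj hx hy hk z hz
    by_cases hi : 1 ≤ i
    · by_cases hj : 1 ≤ j
      · obtain ⟨a, ha, hax⟩ := hx hi z hz
        obtain ⟨b', hb', hby⟩ := hy hj 1 SetLike.GradedOne.one_mem
        exact ⟨a * b', SetLike.mul_mem_graded ha hb', by rw [map_mul, hax, hby]; ring⟩
      · have hj0 : j = 0 := by omega
        subst hj0
        have hzy : z * y ∈ 𝒮.deg U hU 0 := by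
          have h := SetLike.mul_mem_graded hz hyj
          simpa using h
        obtain ⟨a, ha, hax⟩ := hx hi (z * y) hzy
        exact ⟨a, by simpa using ha, by rw [hax]; ring⟩
    · have hi0 : i = 0 := by omega
      subst hi0
      have hj : 1 ≤ j := by omega
      have hzx : z * x ∈ 𝒮.deg U hU 0 := by
        have h := SetLike.mul_mem_graded hz hxi
        simpa using h
      obtain ⟨a, ha, hay⟩ := hy hj (z * x) hzx
      exact ⟨a, by simpa using ha, by rw [hay]; ring⟩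
  · intro x _ hk
    exact absurd hk (by norm_num)
  · intro x hx _ z hz
    have hzx : z * x ∈ 𝒮.deg U hU 1 := by
      have h := SetLike.mul_mem_graded hz hx
      simpa using h
    obtain ⟨m, hm⟩ := husurj U hU (z * x) hzx
    exact ⟨(j.app U) m, hT.2 U hU m, hm⟩

end Groth.Agent.S8292
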