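import Groth.Statements.S8295
import Mathlib

set_option autoImplicit false
universe u
open CategoryTheory CategoryTheory.Limits AlgebraicGeometry Opposite TopologicalSpace
open scoped HomogeneousIdeal
noncomputable section
open EGA2

namespace Groth.Agent.S8295

/-- The vertex section of the affine cone: let 𝒮 be a quasi-coherent positively graded O_Y-algebra with
𝒮_0 = O_Y, aug : 𝒮 → O_Y its augmentation (the algebra homomorphism over O_Y that vanishes on
sections of positive degree) and C = Spec(𝒮) the affine cone. There is exactly one morphism ε : Y →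
C which is a section of the structure morphism and which over every affine open U of Y is, on Spec
O_Y(U), the morphism Spec of aug(U) followed by the chart Spec 𝒮(U) → C; moreover every such ε is a
closed immersion. -/
theorem result {Y : Scheme.{u}} (𝒮 : RelProj.QCGrAlg Y)
    (h0 : RelCone.StrZeroBij 𝒮) (aug : 𝒮.toQCAlg ⟶ RelSpec.QCAlg.unit Y) (haug : RelCone.IsAugmentation 𝒮 aug) :
    (∃! ε : Y ⟶ 𝒮.toQCAlg.spec, RelCone.IsVertex 𝒮 aug ε) ∧
      ∀ ε : Y ⟶ 𝒮.toQCAlg.spec, RelCone.IsVertex 𝒮 aug ε → IsClosedImmersion ε := by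
  have hπiso : IsIso (RelSpec.QCAlg.unit Y).π := by
    refine IsZariskiLocalAtTarget.of_iSup_eq_top (P := MorphismProperty.isomorphisms Scheme)
      (f := (RelSpec.QCAlg.unit Y).π)
      (fun U : Y.affineOpens => (U : Y.Opens)) (iSup_affineOpens_eq_top Y) ?_
    intro U
    show IsIso ((RelSpec.QCAlg.unit Y).π ∣_ (U : Y.Opens))
    have hU : IsAffineOpen (U : Y.Opens) := U.2
    have hpre := (RelSpec.QCAlg.unit Y).π_preimage (U : Y.Opens) hU
    have hg : (((RelSpec.QCAlg.unit Y).ι (U : Y.Opens) hU).isoOpensRange.hom ≫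
        ((RelSpec.QCAlg.unit Y).spec.isoOfEq hpre.symm).hom) ≫
        ((RelSpec.QCAlg.unit Y).π ∣_ (U : Y.Opens)) = hU.isoSpec.inv := by
      rw [← cancel_mono (U : Y.Opens).ι]
      simp only [Category.assoc, morphismRestrict_ι, Scheme.isoOfEq_hom_ι_assoc,
        Scheme.Hom.isoOpensRange_hom_ι_assoc]
      rw [(RelSpec.QCAlg.unit Y).ι_π (U : Y.Opens) hU]
      show Spec.map (𝟙 _) ≫ hU.fromSpec = hU.isoSpec.inv ≫ (U : Y.Opens).ι
      rw [Spec.map_id, Category.id_comp]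
      rfl
    exact IsIso.of_isIso_fac_left hg
  have hchart0 : ∀ (U : Y.Opens) (hU : IsAffineOpen U),
      hU.fromSpec = (RelSpec.QCAlg.unit Y).ι U hU ≫ (RelSpec.QCAlg.unit Y).π := by
    intro U hU
    rw [(RelSpec.QCAlg.unit Y).ι_π U hU]
    show hU.fromSpec = Spec.map (𝟙 _) ≫ hU.fromSpec
    rw [Spec.map_id, Category.id_comp]
  have hex : RelCone.IsVertex 𝒮 aug (inv (RelSpec.QCAlg.unit Y).π ≫ RelSpec.QCAlg.specMap aug) := by
    refine ⟨?_, ?_⟩
    · rw [Category.assoc, RelSpec.QCAlg.specMap_π aug, IsIso.inv_hom_id]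
    · intro U hU
      have e1 : (RelSpec.QCAlg.unit Y).ι U hU ≫ RelSpec.QCAlg.specMap aug
          = Spec.map (aug.hom.app (op U)) ≫ 𝒮.toQCAlg.ι U hU := RelSpec.QCAlg.ι_specMap U hU aug
      have e2 : hU.fromSpec ≫ inv (RelSpec.QCAlg.unit Y).π = (RelSpec.QCAlg.unit Y).ι U hU := by
        rw [IsIso.comp_inv_eq]; exact hchart0 U hU
      calc hU.fromSpec ≫ inv (RelSpec.QCAlg.unit Y).π ≫ RelSpec.QCAlg.specMap aug
          = (hU.fromSpec ≫ inv (RelSpec.QCAlg.unit Y).π) ≫ RelSpec.QCAlg.specMap aug :=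
            (Category.assoc _ _ _).symm
        _ = (RelSpec.QCAlg.unit Y).ι U hU ≫ RelSpec.QCAlg.specMap aug :=
            congrArg (· ≫ RelSpec.QCAlg.specMap aug) e2
        _ = _ := e1
  have huniq : ∀ ε₁ ε₂ : Y ⟶ 𝒮.toQCAlg.spec, RelCone.IsVertex 𝒮 aug ε₁ →
      RelCone.IsVertex 𝒮 aug ε₂ → ε₁ = ε₂ := by
    intro ε₁ ε₂ h₁ h₂
    apply (Y.openCoverOfIsOpenCover (fun U : Y.affineOpens => (U : Y.Opens))
      (iSup_affineOpens_eq_top Y)).hom_ext
    intro (U : Y.affineOpens)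
    have e1 := h₁.chart (U : Y.Opens) U.2
    have e2 := h₂.chart (U : Y.Opens) U.2
    show (U : Y.Opens).ι ≫ ε₁ = (U : Y.Opens).ι ≫ ε₂
    rw [← U.2.isoSpec_hom_fromSpec, Category.assoc, Category.assoc, e1, e2]
  refine ⟨⟨_, hex, fun ε' hε' => huniq _ _ hε' hex⟩, ?_⟩
  intro ε hε
  have : IsClosedImmersion (ε ≫ 𝒮.toQCAlg.π) := by
    rw [hε.comp_π]; infer_instance
  exact IsClosedImmersion.of_comp ε 𝒮.toQCAlg.π

end Groth.Agent.S8295
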