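import Groth.Statements.S8296
import Mathlib

set_option autoImplicit false
universe u
open CategoryTheory CategoryTheory.Limits AlgebraicGeometry Opposite TopologicalSpace
open scoped HomogeneousIdeal
noncomputable section
open EGA2

namespace Groth.Agent.S8296

/-- The pointed affine cone: let 𝒮 be a quasi-coherent positively graded O_Y-algebra with 𝒮_0 = O_Y, aug
its augmentation, C = Spec(𝒮) its affine cone and ε : Y → C the vertex section. Then the open subset
of C which is the union, over the affine opens U of Y, of the chart images of the complements of the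
closed sets V(𝒮(U)_+) in Spec 𝒮(U), is exactly the complement of ε(Y); in other words the pointed
affine cone E, defined chart by chart through the irrelevant ideals, is C − ε(Y). -/
theorem result {Y : Scheme.{u}} (𝒮 : RelProj.QCGrAlg Y)
    (h0 : RelCone.StrZeroBij 𝒮) (aug : 𝒮.toQCAlg ⟶ RelSpec.QCAlg.unit Y) (haug : RelCone.IsAugmentation 𝒮 aug)
    (ε : Y ⟶ 𝒮.toQCAlg.spec) (hε : RelCone.IsVertex 𝒮 aug ε) :
    ((RelCone.pointedCone 𝒮 : 𝒮.toQCAlg.spec.Opens) : Set 𝒮.toQCAlg.spec) = (Set.range ε.base)ᶜ := by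
  classical
  have hker : ∀ (U : Y.Opens) (hU : IsAffineOpen U) (a : 𝒮.presheaf.obj (op U)),
      a ∈ ((𝒮.deg U hU)₊).toIdeal → (aug.hom.app (op U)).hom a = 0 := by
    intro U hU a ha
    have hle : ((𝒮.deg U hU)₊).toIdeal ≤ RingHom.ker (aug.hom.app (op U)).hom := by
      rw [HomogeneousIdeal.irrelevant_eq_span (𝒮.deg U hU)]
      refine Ideal.span_le.mpr ?_
      intro x hx
      obtain ⟨i, hi, hxi⟩ := Set.mem_iUnion₂.mp hx
      obtain ⟨d, rfl⟩ : ∃ d, i = d + 1 := ⟨i - 1, by omega⟩
      exact (RingHom.mem_ker).mpr (haug U hU d x hxi)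
    exact (RingHom.mem_ker).mp (hle ha)
  have haugstr : ∀ (U : Y.Opens) (a : Γ(Y, U)),
      (aug.hom.app (op U)).hom ((𝒮.str.app (op U)).hom a) = a := by
    intro U a
    have h := congrArg (fun t => (t.app (op U)).hom a) aug.comm
    exact h
  refine Set.ext fun x => ⟨fun hx => ?_, fun hx => ?_⟩
  · intro hcon
    obtain ⟨y, rfl⟩ := hcon
    have hx' : ε.base y ∈ RelCone.pointedCone 𝒮 := hx
    unfold RelCone.pointedCone at hx'
    obtain ⟨V, hV⟩ := TopologicalSpace.Opens.mem_iSup.mp hx'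
    obtain ⟨z, hz, hzx⟩ := hV
    have hy : y ∈ V.1 := by
      have h1 : (𝒮.toQCAlg.π).base (ε.base y) = y := by
        have := congrArg (fun t => t.base y) hε.comp_π
        exact this
      have h2 : (𝒮.toQCAlg.π).base ((𝒮.toQCAlg.ι V.1 V.2).base z) =
          (V.2.fromSpec).base ((Spec.map (𝒮.str.app (op V.1))).base z) := by
        have := congrArg (fun t => t.base z) (𝒮.toQCAlg.ι_π V.1 V.2)
        exact this
      have h5 : (V.2.fromSpec).base ((Spec.map (𝒮.str.app (op V.1))).base z) ∈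
          ((V.1 : Y.Opens) : Set Y) := by
        rw [← V.2.range_fromSpec]; exact ⟨_, rfl⟩
      have h7 : (𝒮.toQCAlg.π).base (ε.base y) ∈ ((V.1 : Y.Opens) : Set Y) := by
        have e : ε.base y = (𝒮.toQCAlg.ι V.1 V.2).base z := hzx.symm
        rw [e, h2]
        exact h5
      rw [h1] at h7
      exact h7
    obtain ⟨y0, hy0⟩ : ∃ y0, V.2.fromSpec.base y0 = y := by
      have h6 : y ∈ Set.range V.2.fromSpec.base := by rw [V.2.range_fromSpec]; exact hy
      exact h6
    have h3 : ε.base y =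
        (𝒮.toQCAlg.ι V.1 V.2).base ((Spec.map (aug.hom.app (op V.1))).base y0) := by
      rw [← hy0]
      have := congrArg (fun t => t.base y0) (hε.chart V.1 V.2)
      exact this
    have h4 : z = (Spec.map (aug.hom.app (op V.1))).base y0 :=
      (𝒮.toQCAlg.ι V.1 V.2).isOpenEmbedding.injective (hzx.trans h3)
    subst h4
    have hz' : (Spec.map (aug.hom.app (op V.1))).base y0 ∉ PrimeSpectrum.zeroLocus
        ((((𝒮.deg V.1 V.2)₊).toIdeal : Ideal (𝒮.presheaf.obj (op V.1))) :
          Set (𝒮.presheaf.obj (op V.1))) := hz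
    apply hz'
    intro a ha
    show (aug.hom.app (op V.1)).hom a ∈ y0.asIdeal
    rw [hker V.1 V.2 a ha]
    exact Ideal.zero_mem _
  · have hx' : x ∉ Set.range ε.base := hx
    obtain ⟨U, hxU⟩ : ∃ U : Y.affineOpens, (𝒮.toQCAlg.π).base x ∈ U.1 := by
      have hmem : (𝒮.toQCAlg.π).base x ∈ (⨆ U : Y.affineOpens, (U : Y.Opens)) := by
        rw [iSup_affineOpens_eq_top]; trivial
      exact TopologicalSpace.Opens.mem_iSup.mp hmem
    have hxr : x ∈ (𝒮.toQCAlg.ι U.1 U.2).opensRange := by
      rw [← 𝒮.toQCAlg.π_preimage U.1 U.2]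
      exact hxU
    obtain ⟨z, rfl⟩ := hxr
    show (𝒮.toQCAlg.ι U.1 U.2).base z ∈ RelCone.pointedCone 𝒮
    unfold RelCone.pointedCone
    refine TopologicalSpace.Opens.mem_iSup.mpr ⟨U, z, ?_, rfl⟩
    show z ∉ PrimeSpectrum.zeroLocus
      ((((𝒮.deg U.1 U.2)₊).toIdeal : Ideal (𝒮.presheaf.obj (op U.1))) :
        Set (𝒮.presheaf.obj (op U.1)))
    intro hzz0
    have hzz : ((((𝒮.deg U.1 U.2)₊).toIdeal : Ideal (𝒮.presheaf.obj (op U.1))) :
        Set (𝒮.presheaf.obj (op U.1))) ⊆
        ((z : PrimeSpectrum (𝒮.presheaf.obj (op U.1))).asIdeal :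
          Set (𝒮.presheaf.obj (op U.1))) := hzz0
    apply hx'
    have key : (Spec.map (aug.hom.app (op U.1))).base
        ((Spec.map (𝒮.str.app (op U.1))).base z) = z := by
      apply PrimeSpectrum.ext
      ext s
      show (𝒮.str.app (op U.1)).hom ((aug.hom.app (op U.1)).hom s) ∈ z.asIdeal ↔ s ∈ z.asIdeal
      have hs0mem : ((DirectSum.decompose (𝒮.deg U.1 U.2) s 0 : 𝒮.deg U.1 U.2 0) :
          𝒮.presheaf.obj (op U.1)) ∈ 𝒮.deg U.1 U.2 0 := SetLike.coe_mem _
      obtain ⟨a, ha⟩ := (h0 U.1 U.2).2 (DirectSum.decompose (𝒮.deg U.1 U.2) s 0)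
      have hax : (𝒮.str.app (op U.1)).hom a =
          ((DirectSum.decompose (𝒮.deg U.1 U.2) s 0 : 𝒮.deg U.1 U.2 0) :
            𝒮.presheaf.obj (op U.1)) := congrArg Subtype.val ha
      have hsp : s - (𝒮.str.app (op U.1)).hom a ∈ ((𝒮.deg U.1 U.2)₊).toIdeal := by
        refine (HomogeneousIdeal.mem_irrelevant_iff _ _).mpr ?_
        rw [map_sub, GradedRing.proj_apply, GradedRing.proj_apply, hax,
          DirectSum.decompose_of_mem_same _ hs0mem, sub_self]
      have haugs : (aug.hom.app (op U.1)).hom s = a := by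
        have e : s = (s - (𝒮.str.app (op U.1)).hom a) + (𝒮.str.app (op U.1)).hom a := by ring
        rw [e, map_add, hker U.1 U.2 _ hsp, zero_add, haugstr]
      rw [haugs]
      have hdiff : s - (𝒮.str.app (op U.1)).hom a ∈ z.asIdeal := hzz hsp
      constructor
      · intro h
        have := Ideal.add_mem _ hdiff h
        rwa [sub_add_cancel] at this
      · intro h
        have := Ideal.sub_mem _ h hdiff
        rwa [sub_sub_cancel] at this
    have h3 : ε.base (U.2.fromSpec.base ((Spec.map (𝒮.str.app (op U.1))).base z)) =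
        (𝒮.toQCAlg.ι U.1 U.2).base ((Spec.map (aug.hom.app (op U.1))).base
          ((Spec.map (𝒮.str.app (op U.1))).base z)) :=
      congrArg (fun t => t.base ((Spec.map (𝒮.str.app (op U.1))).base z)) (hε.chart U.1 U.2)
    rw [key] at h3
    exact ⟨_, h3⟩

end Groth.Agent.S8296
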