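import Groth.Statements.S8312
import Mathlib

set_option autoImplicit false
universe u
open scoped HomogeneousIdeal
open EGA2

namespace Groth.Agent.S8312

/-- Let S be a positively graded ring (an ℕ-graded R-algebra) and S♮ the graded ring with S♮_n = S_[n] =
⊕_{m ≥ n} S_m, presented as a graded ring S' with an injective algebra homomorphism φ : S' → S[X]
carrying S'_n onto S_[n]·X^n; for a homogeneous f ∈ S_d write f♮ for the element of S' with φ(f♮) =
f·X^d (f placed in degree d of S♮). If (f_α) is a family of homogeneous elements of S of positive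
degrees such that every element of the irrelevant ideal S_+ has a positive power in the ideal
generated by the f_α (that is, S_+ is the radical in S_+ of that ideal), then every element of the
irrelevant ideal S'_+ has a positive power in the ideal of S' generated by the f_α♮. -/
theorem result {R A B : Type u} [CommRing R] [CommRing A] [Algebra R A]
    (𝒜 : ℕ → Submodule R A) [GradedAlgebra 𝒜] [CommRing B] [Algebra R B] (ℬ : ℕ → Submodule R B) [GradedAlgebra ℬ]
    (φ : B →ₐ[R] Polynomial A) (hφ : Function.Injective φ)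
    (hdeg : ∀ n : ℕ, Submodule.map φ.toLinearMap (ℬ n) =
      Submodule.map ((Polynomial.monomial n : A →ₗ[A] Polynomial A).restrictScalars R) (⨆ (m : ℕ) (_ : n ≤ m), 𝒜 m))
    {ι : Type u} (d : ι → ℕ) (hd : ∀ a, 0 < d a) (f : ι → A) (hf : ∀ a, f a ∈ 𝒜 (d a))
    (hrad : ∀ g ∈ (HomogeneousIdeal.irrelevant 𝒜).toIdeal, ∃ n : ℕ, 0 < n ∧ g ^ n ∈ Ideal.span (Set.range f))
    (fn : ι → B) (hfn : ∀ a, φ (fn a) = Polynomial.monomial (d a) (f a)) :
    ∀ g ∈ (HomogeneousIdeal.irrelevant ℬ).toIdeal, ∃ n : ℕ, 0 < n ∧ g ^ n ∈ Ideal.span (Set.range fn) := by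
  classical
  obtain ⟨Age, hAge⟩ : ∃ Age : ℕ → Submodule R A,
      ∀ n, Age n = ⨆ (m : ℕ) (_ : n ≤ m), 𝒜 m := ⟨_, fun _ => rfl⟩
  obtain ⟨Mon, hMon⟩ : ∃ Mon : ℕ → (A →ₗ[R] Polynomial A),
      ∀ n, Mon n = (Polynomial.monomial n : A →ₗ[A] Polynomial A).restrictScalars R :=
    ⟨_, fun _ => rfl⟩
  have hMa : ∀ n a, Mon n a = Polynomial.monomial n a := by
    intro n a
    rw [hMon]
    rfl
  have hdeg' : ∀ n, Submodule.map φ.toLinearMap (ℬ n) = Submodule.map (Mon n) (Age n) := by
    intro n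
    rw [hMon n, hAge n]
    exact hdeg n
  have hA_le_Age : ∀ n, 𝒜 n ≤ Age n := fun n => by
    rw [hAge n]
    exact le_iSup₂_of_le (f := fun (m : ℕ) (_ : n ≤ m) => 𝒜 m) n le_rfl le_rfl
  have hAge_anti : ∀ i j, i ≤ j → Age j ≤ Age i := by
    intro i j hij
    rw [hAge j, hAge i]
    exact iSup_le fun m => iSup_le fun hm =>
      le_iSup₂_of_le (f := fun (m : ℕ) (_ : i ≤ m) => 𝒜 m) m (by omega) le_rfl
  obtain ⟨J, hJ⟩ : ∃ J : Ideal B, J = Ideal.span (Set.range fn) := ⟨_, rfl⟩
  -- core: elements of the form `s X^i`, `s` homogeneous of degree `m ≥ i ≥ 1`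
  have core : ∀ (i m : ℕ), 1 ≤ i → i ≤ m → ∀ s ∈ 𝒜 m, ∀ b : B,
      φ b = Polynomial.monomial i s → b ∈ J.radical := by
    intro i m hi hm s hs b hb
    have hsirr : s ∈ (HomogeneousIdeal.irrelevant 𝒜).toIdeal :=
      HomogeneousIdeal.mem_irrelevant_of_mem 𝒜 (by omega : 0 < m) hs
    obtain ⟨N, hNpos, hN⟩ := hrad s hsirr
    obtain ⟨c, hc⟩ := Finsupp.mem_span_range_iff_exists_finsupp.mp hN
    obtain ⟨D, hD⟩ : ∃ D : ℕ, D = ∑ a ∈ c.support, d a := ⟨_, rfl⟩
    obtain ⟨M, hM⟩ : ∃ M : ℕ, M = D + N := ⟨_, rfl⟩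
    have hdD : ∀ a ∈ c.support, d a ≤ D := by
      intro a ha
      rw [hD]
      exact Finset.single_le_sum (f := d) (fun _ _ => Nat.zero_le _) ha
    have hdle : ∀ a ∈ c.support, d a ≤ M * m := by
      intro a ha
      calc d a ≤ D := hdD a ha
        _ ≤ M := by omega
        _ = M * 1 := (mul_one M).symm
        _ ≤ M * m := Nat.mul_le_mul_left M (by omega)
    have hdle' : ∀ a ∈ c.support, d a ≤ i * M := by
      intro a ha
      calc d a ≤ D := hdD a ha
        _ ≤ M := by omega
        _ = 1 * M := (one_mul M).symm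
        _ ≤ i * M := Nat.mul_le_mul_right M hi
    obtain ⟨e, he⟩ : ∃ e : ι → A, ∀ a, e a =
        ((DirectSum.decompose 𝒜 (s ^ D * c a) (M * m - d a) : 𝒜 (M * m - d a)) : A) :=
      ⟨_, fun _ => rfl⟩
    have hemem : ∀ a, e a ∈ Age (i * M - d a) := by
      intro a
      have h1 : e a ∈ 𝒜 (M * m - d a) := by rw [he a]; exact SetLike.coe_mem _
      have h2 : i * M - d a ≤ M * m - d a := by
        apply Nat.sub_le_sub_right
        rw [Nat.mul_comm i M]
        exact Nat.mul_le_mul_left M hm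
      exact hAge_anti _ _ h2 (hA_le_Age _ h1)
    have hu : ∀ a, ∃ u : B, φ u = Polynomial.monomial (i * M - d a) (e a) := by
      intro a
      have h1 : Mon (i * M - d a) (e a) ∈ Submodule.map φ.toLinearMap (ℬ (i * M - d a)) := by
        rw [hdeg']
        exact Submodule.mem_map_of_mem (hemem a)
      obtain ⟨u, _, hu⟩ := h1
      refine ⟨u, ?_⟩
      rw [← hMa]
      exact hu
    choose u hu using hu
    have key : s ^ M = ∑ a ∈ c.support, e a * f a := by
      have h1 : s ^ M = ∑ a ∈ c.support, (s ^ D * c a) * f a := by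
        rw [hM, pow_add, ← hc, Finsupp.sum, Finset.mul_sum]
        refine Finset.sum_congr rfl fun a _ => ?_
        rw [smul_eq_mul, mul_assoc]
      have h2 : s ^ M ∈ 𝒜 (M * m) := by
        have h := SetLike.pow_mem_graded M hs
        rwa [smul_eq_mul] at h
      have h3 := congrArg (GradedAlgebra.proj 𝒜 (M * m)) h1
      rw [GradedAlgebra.proj_apply, DirectSum.decompose_of_mem_same 𝒜 h2, map_sum] at h3
      rw [h3]
      refine Finset.sum_congr rfl fun a ha => ?_
      rw [GradedAlgebra.proj_apply,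
        DirectSum.coe_decompose_mul_of_right_mem_of_le 𝒜 (hf a) (hdle a ha), he a]
    have hφb : φ (b ^ M) = φ (∑ a ∈ c.support, u a * fn a) := by
      rw [map_pow, hb, Polynomial.monomial_pow, key, map_sum, map_sum]
      refine Finset.sum_congr rfl fun a ha => ?_
      rw [map_mul φ, hu a, hfn a, Polynomial.monomial_mul_monomial,
        Nat.sub_add_cancel (hdle' a ha)]
    refine ⟨M, ?_⟩
    rw [hφ hφb, hJ]
    exact Ideal.sum_mem _ fun a _ => Ideal.mul_mem_left _ _ (Ideal.subset_span ⟨a, rfl⟩)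
  have hA : ∀ i, 1 ≤ i → ∀ b ∈ ℬ i, b ∈ J.radical := by
    intro i hi b hb
    have h1 : φ.toLinearMap b ∈ Submodule.map (Mon i) (Age i) := by
      rw [← hdeg' i]
      exact Submodule.mem_map_of_mem hb
    have hT : Age i ≤ Submodule.comap (Mon i)
        (Submodule.map φ.toLinearMap (J.radical.restrictScalars R)) := by
      rw [hAge i]
      refine iSup_le fun m => iSup_le fun hm => ?_
      intro s hs
      rw [Submodule.mem_comap]
      have h2 : Mon i s ∈ Submodule.map φ.toLinearMap (ℬ i) := by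
        rw [hdeg' i]
        exact Submodule.mem_map_of_mem (hAge_anti i m hm (hA_le_Age m hs))
      obtain ⟨b', _, hb'eq⟩ := h2
      refine ⟨b', ?_, hb'eq⟩
      have h3 : φ b' = Polynomial.monomial i s := by
        rw [← hMa]
        exact hb'eq
      exact core i m hi hm s hs b' h3
    obtain ⟨s, hs, hse⟩ := h1
    obtain ⟨b', hb', hb'e⟩ := hT hs
    have h4 : b' = b := hφ (by
      have h5 : φ.toLinearMap b' = φ.toLinearMap b := by rw [hb'e, hse]
      exact h5)
    rw [← h4]
    exact hb'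
  intro g hg
  have hg0 : GradedRing.proj ℬ 0 g = 0 := (HomogeneousIdeal.mem_irrelevant_iff ℬ g).mp hg
  have hgr : g ∈ J.radical := by
    rw [← DirectSum.sum_support_decompose ℬ g]
    refine Ideal.sum_mem _ fun i hi => ?_
    have hi0 : i ≠ 0 := by
      rintro rfl
      rw [DFinsupp.mem_support_toFun] at hi
      apply hi
      simpa [GradedRing.proj_apply] using hg0
    exact hA i (Nat.one_le_iff_ne_zero.mpr hi0) _ (SetLike.coe_mem _)
  obtain ⟨n, hn⟩ := hgr
  refine ⟨n + 1, Nat.succ_pos n, ?_⟩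
  rw [pow_succ, ← hJ]
  exact Ideal.mul_mem_right _ _ hn

end Groth.Agent.S8312
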