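import Groth.Statements.S8344
import Mathlib

set_option autoImplicit false
universe u
open ConstrTop

namespace Groth.Agent.S8344

/-- In a topological space X, every constructible subset is retrocompact in X, that is, it meets every
quasi-compact open subset of X in a quasi-compact set. -/
theorem result {X : Type u} [TopologicalSpace X] {s : Set X}
    (hs : Topology.IsConstructible s) : IsRetrocompact s := by
  have hsub : IsSublattice {U : Set X | IsOpen U ∧ IsRetrocompact U} :=
    ⟨fun a ha b hb => ⟨ha.1.union hb.1, ha.2.union hb.2⟩,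
     fun a ha b hb => ⟨ha.1.inter hb.1, ha.2.inter_isOpen hb.2 hb.1⟩⟩
  have hbot : (⊥ : Set X) ∈ {U : Set X | IsOpen U ∧ IsRetrocompact U} :=
    ⟨isOpen_empty, IsRetrocompact.empty⟩
  have htop : (⊤ : Set X) ∈ {U : Set X | IsOpen U ∧ IsRetrocompact U} :=
    ⟨isOpen_univ, IsRetrocompact.univ⟩
  unfold Topology.IsConstructible at hs
  induction s, hs using BooleanSubalgebra.closure_sdiff_sup_induction hsub hbot htop with
  | sdiff x hx y hy =>
    intro U hUc hUo
    have h1 : IsCompact (x ∩ U) := hx.2 hUc hUo
    have : x \ y ∩ U = (x ∩ U) ∩ yᶜ := by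
      ext z; simp only [Set.mem_inter_iff, Set.mem_diff, Set.mem_compl_iff]; tauto
    rw [this]
    exact h1.inter_right hy.1.isClosed_compl
  | sup x hx y hy hx' hy' => exact hx'.union hy'

end Groth.Agent.S8344
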