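import Groth.Statements.S8345
import Mathlib

set_option autoImplicit false
universe u
open ConstrTop

namespace Groth.Agent.S8345

open TopologicalSpace in
/-- Suppose X is a topological space that is Noetherian. Then a subset s of X is constructible exactly
when s can be written as the union of finitely many locally closed subsets of X. -/
theorem result {X : Type u} [TopologicalSpace X]
    [NoetherianSpace X] (s : Set X) :
    Topology.IsConstructible s ↔
      ∃ (n : ℕ) (Z : Fin n → Set X), (∀ i, IsLocallyClosed (Z i)) ∧ s = ⋃ i, Z i := by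
  have hret : ∀ t : Set X, IsRetrocompact t := fun t U _ _ => NoetherianSpace.isCompact _
  constructor
  · intro hs
    have hsub : IsSublattice {U : Set X | IsOpen U ∧ IsRetrocompact U} :=
      ⟨fun a ha b hb => ⟨ha.1.union hb.1, ha.2.union hb.2⟩,
       fun a ha b hb => ⟨ha.1.inter hb.1, ha.2.inter_isOpen hb.2 hb.1⟩⟩
    have hbot : (⊥ : Set X) ∈ {U : Set X | IsOpen U ∧ IsRetrocompact U} :=
      ⟨isOpen_empty, IsRetrocompact.empty⟩
    have htop : (⊤ : Set X) ∈ {U : Set X | IsOpen U ∧ IsRetrocompact U} :=
      ⟨isOpen_univ, IsRetrocompact.univ⟩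
    unfold Topology.IsConstructible at hs
    induction s, hs using BooleanSubalgebra.closure_sdiff_sup_induction hsub hbot htop with
    | sdiff x hx y hy =>
      refine ⟨1, fun _ => x \ y, fun _ => ⟨x, yᶜ, hx.1, hy.1.isClosed_compl, rfl⟩, ?_⟩
      exact (Set.iUnion_const _).symm
    | sup x hx y hy hx' hy' =>
      obtain ⟨n, Z, hZ, rfl⟩ := hx'
      obtain ⟨m, W, hW, rfl⟩ := hy'
      refine ⟨n + m, Fin.append Z W, ?_, ?_⟩
      · intro i
        refine Fin.addCases (fun j => ?_) (fun j => ?_) i
        · simpa using hZ j
        · simpa using hW j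
      · ext z
        simp only [Set.sup_eq_union, Set.mem_union, Set.mem_iUnion]
        constructor
        · rintro (⟨i, hi⟩ | ⟨i, hi⟩)
          · exact ⟨Fin.castAdd m i, by simpa using hi⟩
          · exact ⟨Fin.natAdd n i, by simpa using hi⟩
        · rintro ⟨i, hi⟩
          revert hi
          refine Fin.addCases (fun j => ?_) (fun j => ?_) i
          · intro hi; left; exact ⟨j, by simpa using hi⟩
          · intro hi; right; exact ⟨j, by simpa using hi⟩
  · rintro ⟨n, Z, hZ, rfl⟩
    refine Topology.IsConstructible.iUnion fun i => ?_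
    obtain ⟨U, C, hU, hC, h⟩ := hZ i
    rw [h]
    exact ((hret U).isConstructible hU).inter ((hret Cᶜ).isConstructible hC.isOpen_compl).of_compl

end Groth.Agent.S8345
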