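import Groth.Statements.S8346
import Groth.Agent.S8344
import Mathlib

set_option autoImplicit false
universe u
open ConstrTop

namespace Groth.Agent.S8346

open TopologicalSpace in
/-- Let X be a topological space admitting a basis of open subsets which are retrocompact in X. Then
every locally constructible subset T of X is retrocompact in X. -/
theorem result {X : Type u} [TopologicalSpace X]
    {B : Set (Set X)} (hB : IsTopologicalBasis B) (hBr : ∀ U ∈ B, IsRetrocompact U) {T : Set X}
    (hT : Topology.IsLocallyConstructible T) : IsRetrocompact T := by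
  intro U hUc hUo
  -- for each x choose a basis element W x around x on which T is constructible
  have key : ∀ x : X, ∃ W : Set X, W ∈ B ∧ x ∈ W ∧ IsCompact (T ∩ W ∩ U) := by
    intro x
    obtain ⟨V, hxV, hVo, hVT⟩ := hT x
    obtain ⟨W, hWB, hxW, hWV⟩ := hB.exists_subset_of_mem_open (mem_of_mem_nhds hxV) hVo
    refine ⟨W, hWB, hxW, ?_⟩
    have hWo : IsOpen W := hB.isOpen hWB
    -- T is constructible in W
    have hWT : Topology.IsConstructible ((Subtype.val : W → X) ⁻¹' T) := by
      have hemb : Topology.IsOpenEmbedding (Set.inclusion hWV) :=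
        (Topology.IsOpenEmbedding.of_comp_iff (f := Set.inclusion hWV)
          hVo.isOpenEmbedding_subtypeVal).1 hWo.isOpenEmbedding_subtypeVal
      have := hVT.preimage_of_isOpenEmbedding hemb
      exact this
    have hret := Groth.Agent.S8344.result hWT
    have hKc : IsCompact ((Subtype.val : W → X) ⁻¹' (W ∩ U)) := by
      rw [Topology.IsEmbedding.subtypeVal.isCompact_iff, Set.image_preimage_eq_inter_range,
        Subtype.range_coe]
      have : W ∩ U ∩ W = W ∩ U := by ext z; simp; tauto
      rw [this]
      exact hBr W hWB hUc hUo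
    have hKo : IsOpen ((Subtype.val : W → X) ⁻¹' (W ∩ U)) := (hWo.inter hUo).preimage continuous_subtype_val
    have h1 := hret hKc hKo
    have h2 := h1.image continuous_subtype_val
    convert h2 using 1
    ext z
    simp only [Set.mem_inter_iff, Set.mem_image, Set.mem_preimage, Subtype.exists,
      exists_and_right, exists_eq_right]
    tauto
  choose W hWB hxW hWc using key
  obtain ⟨t, ht⟩ := hUc.elim_finite_subcover (fun x => W x) (fun x => hB.isOpen (hWB x))
    (fun x _ => Set.mem_iUnion.2 ⟨x, hxW x⟩)
  have : T ∩ U = ⋃ x ∈ t, T ∩ W x ∩ U := by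
    ext z
    simp only [Set.mem_inter_iff, Set.mem_iUnion, exists_prop]
    constructor
    · rintro ⟨hzT, hzU⟩
      obtain ⟨x, hx, hzx⟩ := Set.mem_iUnion₂.1 (ht hzU)
      exact ⟨x, hx, ⟨hzT, hzx⟩, hzU⟩
    · rintro ⟨x, hx, ⟨hzT, hzx⟩, hzU⟩
      exact ⟨hzT, hzU⟩
  rw [this]
  exact t.isCompact_biUnion fun x _ => hWc x

end Groth.Agent.S8346
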