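import Groth.Statements.S8347
import Groth.Agent.Lib.SSAbs

set_option autoImplicit false
universe v u
open CategoryTheory CategoryTheory.Limits
open SpSeq

namespace Groth.Agent.S8347

/-- Let E be a spectral sequence in an abelian category with abutment data (H^m), and suppose that for
some page r and every total degree m there is an integer q(m) such that E_r^{m-q,q} = 0 for every q
other than q(m). Let n be a total degree such that the filtration of H^n is discrete (some step is
zero) and exhaustive (H^n is the supremum of the steps), and such that the position (n - q(n), q(n))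
is stationary from page r on. Then H^n is isomorphic to E_r^{n-q(n), q(n)}. (The published statement
asserts this without any condition on the differentials at the surviving positions; that version
fails when a differential d_r links the surviving terms of two consecutive total degrees, for
instance a spectral sequence whose only nonzero page-2 terms are E_2^{0,1} and E_2^{2,0} with d_2 an
isomorphism between them and zero abutment. The stationarity assumed here is automatic when q(m)
does not depend on m and r ≥ 2.) -/
theorem result {C : Type u} [Category.{v} C] [Abelian C] {r₀ : ℤ}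
    (E : CohomologicalSpectralSequence C r₀) {H : ℤ → C} (a : SpSeq.Abutment E H)
    (r : ℤ) (hr : r₀ ≤ r) (q : ℤ → ℤ)
    (hdeg : ∀ m q' : ℤ, q' ≠ q m → IsZero ((E.page r hr).X (m - q', q')))
    (n : ℤ) (hdisc : (a.filObj n).IsDiscrete) (hexh : a.IsExhaustive n)
    (hst : SpSeq.StationaryAt E (n - q n, q n) r) :
    Nonempty (H n ≅ (E.page r hr).X (n - q n, q n)) := by
  have tr : ∀ (m : ℤ) (p : ℤ), m = n →
      IsZero (SpSeq.grPiece (a.fil m) (a.anti m) p) → IsZero (SpSeq.grPiece (a.fil n) (a.anti n) p) := by
    rintro m p rfl h
    exact h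
  have tr' : ∀ (m : ℤ) (p : ℤ), m = n →
      Nonempty (SpSeq.grPiece (a.fil n) (a.anti n) p ≅ SpSeq.grPiece (a.fil m) (a.anti m) p) := by
    rintro m p rfl
    exact ⟨Iso.refl _⟩
  have hgr : ∀ p : ℤ, p ≠ n - q n → IsZero (SpSeq.grPiece (a.fil n) (a.anti n) p) := by
    intro p hp
    have hz := hdeg n (n - p) (by omega)
    rw [show n - (n - p) = p by omega] at hz
    exact tr (p + (n - p)) p (by omega) (Groth.Agent.SSAbs.isZero_grPiece E a r hr (p, n - p) hz)
  obtain ⟨e1⟩ := Groth.Agent.SSAbs.nonempty_iso_grPiece (a.fil n) (a.anti n) (n - q n) hdisc hexh hgr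
  obtain ⟨e2⟩ := tr' ((n - q n) + q n) (n - q n) (by omega)
  have e3 := (a.β (n - q n, q n)).symm
  have e4 : Nonempty ((E.page (a.rk (n - q n, q n)) (a.stat (n - q n, q n)).1).X (n - q n, q n) ≅
      (E.page r hr).X (n - q n, q n)) := by
    by_cases hle : a.rk (n - q n, q n) ≤ r
    · exact Groth.Agent.SSAbs.nonempty_iso_of_stationary E _ _ (a.stat (n - q n, q n)) r hle
    · obtain ⟨e⟩ := Groth.Agent.SSAbs.nonempty_iso_of_stationary E _ r hst (a.rk (n - q n, q n)) (by omega)
      exact ⟨e.symm⟩
  obtain ⟨e4⟩ := e4
  exact ⟨e1 ≪≫ e2 ≪≫ e3 ≪≫ e4⟩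


end Groth.Agent.S8347
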