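import Groth.Statements.S8348
import Mathlib

set_option autoImplicit false
universe v u
open CategoryTheory CategoryTheory.Limits
open HomAlg3

namespace Groth.Agent.S8348


open CategoryTheory CategoryTheory.Limits Opposite

noncomputable section

variable {C : Type u} [Category.{v} C] [Abelian C]
variable (Q : CochainComplex C ℕ)

lemma epi_toCycles (hac : ∀ i : ℕ, IsZero (Q.homology (i + 1))) (n : ℕ) :
    Epi (Q.toCycles n (n + 1)) := by
  rw [epi_iff_surjective_up_to_refinements]
  intro T y
  have hex : Q.ExactAt (n + 1) := by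
    rw [HomologicalComplex.exactAt_iff_isZero_homology]; exact hac n
  rw [HomologicalComplex.exactAt_iff' Q n (n + 1) (n + 2) (by simp) (by simp),
    ShortComplex.exact_iff_exact_up_to_refinements] at hex
  obtain ⟨T', π, hπ, x, hx⟩ := hex (y ≫ Q.iCycles (n + 1)) (by
    change (y ≫ Q.iCycles (n + 1)) ≫ Q.d (n + 1) (n + 2) = 0
    rw [Category.assoc, HomologicalComplex.iCycles_d, comp_zero])
  refine ⟨T', π, hπ, x, ?_⟩
  rw [← cancel_mono (Q.iCycles (n + 1)), Category.assoc, Category.assoc,
    HomologicalComplex.toCycles_i]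
  exact hx

def S (n : ℕ) : ShortComplex C :=
  ShortComplex.mk (Q.iCycles n) (Q.toCycles n (n + 1)) (by
    rw [← cancel_mono (Q.iCycles (n + 1)), Category.assoc, HomologicalComplex.toCycles_i,
      HomologicalComplex.iCycles_d, zero_comp])

lemma S_exact (n : ℕ) : (S Q n).Exact := by
  rw [ShortComplex.exact_iff_exact_up_to_refinements]
  intro T x hx
  dsimp [S] at x hx
  refine ⟨T, 𝟙 _, inferInstance, Q.liftCycles x (n + 1) (by simp) (by
    rw [← Q.toCycles_i n (n + 1), ← Category.assoc, hx]; exact zero_comp), ?_⟩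
  dsimp [S]
  simp

def σ (hac : ∀ i : ℕ, IsZero (Q.homology (i + 1)))
    (hsplit : ∀ i : ℕ, IsSplitMono (Q.iCycles i)) (n : ℕ) : (S Q n).Splitting :=
  @ShortComplex.Splitting.ofExactOfRetraction _ _ _ _ (S Q n) (S_exact Q n)
    (@retraction _ _ _ _ (Q.iCycles n) (hsplit n))
    (@IsSplitMono.id _ _ _ _ (Q.iCycles n) (hsplit n)) (epi_toCycles Q hac n)

section
variable (hac : ∀ i : ℕ, IsZero (Q.homology (i + 1))) (hsplit : ∀ i : ℕ, IsSplitMono (Q.iCycles i))

def rr (n : ℕ) : Q.X n ⟶ Q.cycles n := (σ Q hac hsplit n).r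
def ss (n : ℕ) : Q.cycles (n + 1) ⟶ Q.X n := (σ Q hac hsplit n).s
lemma f_r (n : ℕ) : Q.iCycles n ≫ rr Q hac hsplit n = 𝟙 _ := (σ Q hac hsplit n).f_r
lemma s_g (n : ℕ) : ss Q hac hsplit n ≫ Q.toCycles n (n + 1) = 𝟙 _ := (σ Q hac hsplit n).s_g
lemma hid (n : ℕ) : rr Q hac hsplit n ≫ Q.iCycles n + Q.toCycles n (n + 1) ≫ ss Q hac hsplit n
    = 𝟙 (Q.X n) := (σ Q hac hsplit n).id
lemma s_d (n : ℕ) : ss Q hac hsplit n ≫ Q.d n (n + 1) = Q.iCycles (n + 1) := by
  rw [← Q.toCycles_i n (n + 1), ← Category.assoc, s_g, Category.id_comp]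
end

theorem main (hinj : ∀ i : ℕ, Injective (Q.X i)) (hac : ∀ i : ℕ, IsZero (Q.homology (i + 1)))
    (hsplit : ∀ i : ℕ, IsSplitMono (Q.iCycles i)) : Injective Q where
  factors {A B} g f _ := by
    haveI : ∀ n, Mono (f.f n) := fun n => inferInstance
    let r := rr Q hac hsplit
    let s := ss Q hac hsplit
    have f_r : ∀ n, Q.iCycles n ≫ r n = 𝟙 _ := f_r Q hac hsplit
    have hid : ∀ n, r n ≫ Q.iCycles n + Q.toCycles n (n + 1) ≫ s n = 𝟙 (Q.X n) := hid Q hac hsplit
    have s_d : ∀ n, s n ≫ Q.d n (n + 1) = Q.iCycles (n + 1) := s_d Q hac hsplit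
    obtain ⟨a, ha⟩ : ∃ a : ∀ n, B.X n ⟶ Q.cycles n, ∀ n, f.f n ≫ a n = g.f n ≫ r n := by
      refine ⟨fun n => Injective.factorThru (g.f n ≫ r n ≫ Q.iCycles n) (f.f n) ≫ r n, ?_⟩
      intro n
      rw [← Category.assoc, Injective.comp_factorThru, Category.assoc, Category.assoc, f_r,
        Category.comp_id]
    let h : B ⟶ Q := CochainComplex.ofHom
      (fun n => a n ≫ Q.iCycles n + (B.d n (n + 1) ≫ a (n + 1)) ≫ s n)
      (fun n => by
        simp only [Preadditive.add_comp, Preadditive.comp_add, Category.assoc,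
          HomologicalComplex.iCycles_d, comp_zero, zero_add, s_d,
          HomologicalComplex.d_comp_d_assoc, zero_comp, add_zero])
    refine ⟨h, ?_⟩
    ext n
    have key : A.d n (n + 1) ≫ g.f (n + 1) ≫ r (n + 1) = g.f n ≫ Q.toCycles n (n + 1) := by
      rw [← Category.assoc, ← g.comm, ← Q.toCycles_i n (n + 1), Category.assoc, Category.assoc,
        f_r, Category.comp_id]
    change f.f n ≫ (a n ≫ Q.iCycles n + (B.d n (n + 1) ≫ a (n + 1)) ≫ s n) = g.f n
    rw [Preadditive.comp_add, ← Category.assoc, ha, ← Category.assoc, ← Category.assoc,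
      f.comm, Category.assoc (A.d n (n + 1)), ha, key]
    conv_rhs => rw [← Category.comp_id (g.f n), ← hid n]
    rw [Preadditive.comp_add]
    simp only [Category.assoc]

end

/-- Let C be an abelian category and Q a cochain complex of objects of C in degrees 0, 1, 2, ... such
that every Q^i is injective, every homology object H^i(Q) with i ≥ 1 is zero, and every inclusion of
the cycles Z^i(Q) into Q^i (i ≥ 0) is a split monomorphism. Then Q is an injective object of the
category of cochain complexes of C indexed by the natural numbers. (The published statement is for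
the narrower class of complexes with Z^i(Q) = B^i(Q) for every i ≥ 0, which in degree 0, where there
is no incoming differential, forces Z^0(Q) = 0; this row allows a nonzero Z^0(Q), so that it pairs
with the embedding of an arbitrary complex into such a Q. Such a Q is the direct sum of Z^0(Q)
placed in degree 0 and of the two-term complexes with Z^{i+1}(Q) in degrees i and i+1 and the
identity as differential, and the published argument carries over with Z^i(Q) in place of B^i(Q) as
the first summand of Q^i.) -/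
theorem result {C : Type u} [Category.{v} C] [Abelian C]
    (Q : CochainComplex C ℕ) (hinj : ∀ i : ℕ, Injective (Q.X i)) (hac : ∀ i : ℕ, IsZero (Q.homology (i + 1)))
    (hsplit : ∀ i : ℕ, IsSplitMono (Q.iCycles i)) : Injective Q := by
  exact main Q hinj hac hsplit

end Groth.Agent.S8348
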