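import Groth.Statements.S8349
import Mathlib

set_option autoImplicit false
universe v u
open CategoryTheory CategoryTheory.Limits
open HomAlg3

namespace Groth.Agent.S8349


open CategoryTheory CategoryTheory.Limits Opposite

noncomputable section

variable {C : Type u} [Category.{v} C] [Abelian C]

variable (I : ℕ → C)

abbrev QX (n : ℕ) : C := I n ⊞ I (n + 1)

def p1 (n : ℕ) : QX I n ⟶ I n := biprod.fst
def p2 (n : ℕ) : QX I n ⟶ I (n + 1) := biprod.snd
def i1 (n : ℕ) : I n ⟶ QX I n := biprod.inl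
def i2 (n : ℕ) : I (n + 1) ⟶ QX I n := biprod.inr

@[reassoc (attr := simp)] lemma i1_p1 (n : ℕ) : i1 I n ≫ p1 I n = 𝟙 _ := biprod.inl_fst
@[reassoc (attr := simp)] lemma i1_p2 (n : ℕ) : i1 I n ≫ p2 I n = 0 := biprod.inl_snd
@[reassoc (attr := simp)] lemma i2_p1 (n : ℕ) : i2 I n ≫ p1 I n = 0 := biprod.inr_fst
@[reassoc (attr := simp)] lemma i2_p2 (n : ℕ) : i2 I n ≫ p2 I n = 𝟙 _ := biprod.inr_snd
lemma total (n : ℕ) : p1 I n ≫ i1 I n + p2 I n ≫ i2 I n = 𝟙 (QX I n) := biprod.total
instance (n : ℕ) : Mono (i1 I n) := mono_of_mono_fac (i1_p1 I n)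

def Qd (n : ℕ) : QX I n ⟶ QX I (n + 1) := p2 I n ≫ i1 I (n + 1)

lemma Qd_sq (n : ℕ) : Qd I n ≫ Qd I (n + 1) = 0 := by
  simp [Qd]

abbrev Q : CochainComplex C ℕ := CochainComplex.of (QX I) (Qd I) (Qd_sq I)

lemma Q_d (n : ℕ) : (Q I).d n (n + 1) = Qd I n := CochainComplex.of_d _ _ n

lemma decomp {T : C} {n : ℕ} (x : T ⟶ QX I n) (h : x ≫ p2 I n = 0) :
    x = (x ≫ p1 I n) ≫ i1 I n := by
  have h2 : x = x ≫ (p1 I n ≫ i1 I n + p2 I n ≫ i2 I n) := by
    rw [total, Category.comp_id]
  rw [Preadditive.comp_add, ← Category.assoc x (p2 I n), h, zero_comp, add_zero,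
    ← Category.assoc] at h2
  exact h2

lemma p2_zero_of_d_zero {T : C} {n : ℕ} (x : T ⟶ QX I n) (h : x ≫ Qd I n = 0) :
    x ≫ p2 I n = 0 := by
  simp only [Qd, ← Category.assoc] at h
  exact (cancel_mono (i1 I (n + 1))).1 (by rw [h, zero_comp])

lemma Q_exact (i : ℕ) : IsZero ((Q I).homology (i + 1)) := by
  rw [← HomologicalComplex.exactAt_iff_isZero_homology]
  rw [HomologicalComplex.exactAt_iff' (Q I) i (i + 1) (i + 2) (by simp) (by simp)]
  rw [ShortComplex.exact_iff_exact_up_to_refinements]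
  intro A₀ x₂ hx₂
  change A₀ ⟶ QX I (i + 1) at x₂
  change x₂ ≫ (Q I).d (i + 1) (i + 1 + 1) = 0 at hx₂
  rw [Q_d] at hx₂
  have h1 := p2_zero_of_d_zero I x₂ hx₂
  refine ⟨A₀, 𝟙 _, inferInstance, (x₂ ≫ p1 I (i + 1)) ≫ i2 I i, ?_⟩
  change 𝟙 A₀ ≫ x₂ = ((x₂ ≫ p1 I (i + 1)) ≫ i2 I i) ≫ (Q I).d i (i + 1)
  rw [Q_d, Category.id_comp, Qd, Category.assoc, i2_p2_assoc]
  exact decomp I x₂ h1

lemma Q_split (i : ℕ) : IsSplitMono ((Q I).iCycles i) := by
  have hnext : (ComplexShape.up ℕ).next i = i + 1 := by simp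
  have hz : (p1 I i ≫ i1 I i) ≫ (Q I).d i (i + 1) = 0 := by
    rw [Q_d]; simp [Qd]
  let r : (Q I).X i ⟶ (Q I).cycles i :=
    (Q I).liftCycles (p1 I i ≫ i1 I i) (i + 1) hnext hz
  refine ⟨⟨r, ?_⟩⟩
  rw [← cancel_mono ((Q I).iCycles i), Category.assoc, HomologicalComplex.liftCycles_i,
    Category.id_comp]
  have h0 : (Q I).iCycles i ≫ (Q I).d i (i + 1) = 0 := (Q I).iCycles_d i (i + 1)
  rw [Q_d] at h0
  have h1 := p2_zero_of_d_zero I ((Q I).iCycles i) h0
  have := decomp I ((Q I).iCycles i) h1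
  rw [Category.assoc] at this
  exact this.symm

theorem main [EnoughInjectives C] (A : CochainComplex C ℕ) :
    ∃ (Q : CochainComplex C ℕ) (f : A ⟶ Q), Mono f ∧ (∀ i : ℕ, Injective (Q.X i)) ∧
      (∀ i : ℕ, IsZero (Q.homology (i + 1))) ∧ ∀ i : ℕ, IsSplitMono (Q.iCycles i) := by
  let I : ℕ → C := fun n => Injective.under (A.X n)
  let ι : ∀ n, A.X n ⟶ I n := fun n => Injective.ι _
  haveI : ∀ n, Mono (ι n) := fun n => by dsimp [ι]; infer_instance
  let g : ∀ i, A.X i ⟶ QX I i := fun i => ι i ≫ i1 I i + (A.d i (i + 1) ≫ ι (i + 1)) ≫ i2 I i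
  let f : A ⟶ Q I := CochainComplex.ofHom g
    (fun i => by
      rw [Q_d]
      simp [g, Qd])
  refine ⟨Q I, f, ?_, ?_, Q_exact I, Q_split I⟩
  · haveI : ∀ i, Mono (f.f i) := by
      intro i
      have : f.f i ≫ p1 I i = ι i := by simp [f, g]
      exact mono_of_mono_fac this
    exact HomologicalComplex.mono_of_mono_f f this
  · intro i
    change Injective (I i ⊞ I (i + 1))
    infer_instance

end

/-- Let C be an abelian category in which every object embeds in an injective object, and let A be a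
cochain complex of objects of C in degrees 0, 1, 2, .... Then there are a cochain complex Q, with
every Q^i injective, H^i(Q) = 0 for every i ≥ 1 and every cycle inclusion Z^i(Q) ⟶ Q^i (i ≥ 0) a
split monomorphism, and a monomorphism of complexes A ⟶ Q. (The published statement asks Z^i(Q) =
B^i(Q) for every i ≥ 0; in degree 0, where there is no incoming differential, this makes Z^0(Q) = 0,
and then no complex with nonzero degree-0 cycles, for instance a nonzero object placed in degree 0,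
embeds in such a Q, because the degree-0 component of a chain map into Q factors through Z^0(Q).
This row asks vanishing homology in positive degrees only; the published construction, which embeds
each A^i in an injective I^i and takes Q^i = I^i ⊕ I^{i+1}, proves that version once an injective
I^0 containing A^0 is used in degree 0 as well.) -/
theorem result {C : Type u} [Category.{v} C] [Abelian C]
    [EnoughInjectives C] (A : CochainComplex C ℕ) :
    ∃ (Q : CochainComplex C ℕ) (f : A ⟶ Q), Mono f ∧ (∀ i : ℕ, Injective (Q.X i)) ∧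
      (∀ i : ℕ, IsZero (Q.homology (i + 1))) ∧ ∀ i : ℕ, IsSplitMono (Q.iCycles i) := by
  exact main A

end Groth.Agent.S8349
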