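import Groth.Statements.S8364
import Mathlib

set_option autoImplicit false
universe u
open SGA3

namespace Groth.Agent.S8364

/-- For a commutative ring R, an ideal J of R of square zero, a smooth R-algebra A and the extended
ideal I = J·A, every R-algebra automorphism of A/I lifts to an R-algebra automorphism of A. (The
published statement concerns the automorphism functor of a smooth affine S-scheme E and affine test
schemes Y; this row is the case Y = S = Spec R, E = Spec A, which gives the general one after
replacing R by the ring of Y.) -/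
theorem result (R A : Type u) [CommRing R] [CommRing A] [Algebra R A]
    [Algebra.Smooth R A] (J : Ideal R) (hJ : J * J = ⊥)
    (φ₀ : (A ⧸ Ideal.map (algebraMap R A) J) ≃ₐ[R] (A ⧸ Ideal.map (algebraMap R A) J)) :
    ∃ φ : A ≃ₐ[R] A,
      (Ideal.Quotient.mkₐ R (Ideal.map (algebraMap R A) J)).comp φ.toAlgHom =
        φ₀.toAlgHom.comp (Ideal.Quotient.mkₐ R (Ideal.map (algebraMap R A) J)) := by
  classical
  let I : Ideal A := Ideal.map (algebraMap R A) J
  have hIdef : I = Ideal.map (algebraMap R A) J := rfl
  have hI2 : I * I = ⊥ := by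
    rw [hIdef, ← Ideal.map_mul, hJ, Ideal.map_bot]
  have hInil : IsNilpotent I := ⟨2, by rw [pow_two]; exact hI2⟩
  have hmul0 : ∀ x ∈ I, ∀ y ∈ I, x * y = 0 := by
    intro x hx y hy
    have : x * y ∈ I * I := Ideal.mul_mem_mul hx hy
    rw [hI2] at this
    exact this
  -- key lemma
  have key : ∀ θ : A →ₐ[R] A, (∀ a, θ a - a ∈ I) → Function.Bijective θ := by
    intro θ hθ
    have hfix : ∀ x ∈ I, θ x = x := by
      intro x hx
      rw [hIdef, Ideal.map] at hx
      induction hx using Submodule.span_induction with
      | mem x hx =>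
        obtain ⟨j, -, rfl⟩ := hx
        exact θ.commutes j
      | zero => exact map_zero θ
      | add x y hx hy ihx ihy => rw [map_add, ihx, ihy]
      | smul b x hx ih =>
        rw [smul_eq_mul, map_mul, ih]
        have h1 : (θ b - b) * x = 0 := hmul0 _ (hθ b) _ (by rw [hIdef, Ideal.map]; exact hx)
        linear_combination h1
    constructor
    · rw [injective_iff_map_eq_zero]
      intro a ha
      have h1 : a ∈ I := by
        have := hθ a
        rw [ha, zero_sub] at this
        simpa using I.neg_mem this
      rw [← hfix a h1, ha]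
    · intro b
      refine ⟨b - (θ b - b), ?_⟩
      rw [map_sub, hfix _ (hθ b)]
      ring
  let φ : A →ₐ[R] A := Algebra.FormallySmooth.lift I hInil (φ₀.toAlgHom.comp (Ideal.Quotient.mkₐ R I))
  let ψ : A →ₐ[R] A :=
    Algebra.FormallySmooth.lift I hInil (φ₀.symm.toAlgHom.comp (Ideal.Quotient.mkₐ R I))
  have hφ : ∀ a, Ideal.Quotient.mk I (φ a) = φ₀ (Ideal.Quotient.mk I a) := by
    intro a
    exact Algebra.FormallySmooth.mk_lift I hInil _ a
  have hψ : ∀ a, Ideal.Quotient.mk I (ψ a) = φ₀.symm (Ideal.Quotient.mk I a) := by
    intro a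
    exact Algebra.FormallySmooth.mk_lift I hInil _ a
  have h1 : Function.Bijective (ψ.comp φ) := by
    apply key
    intro a
    rw [← Ideal.Quotient.eq, AlgHom.comp_apply, hψ, hφ, AlgEquiv.symm_apply_apply]
  have h2 : Function.Bijective (φ.comp ψ) := by
    apply key
    intro a
    rw [← Ideal.Quotient.eq, AlgHom.comp_apply, hφ, hψ, AlgEquiv.apply_symm_apply]
  have hbij : Function.Bijective φ := by
    constructor
    · have := h1.1
      rw [AlgHom.coe_comp] at this
      exact Function.Injective.of_comp this
    · have := h2.2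
      rw [AlgHom.coe_comp] at this
      exact Function.Surjective.of_comp this
  refine ⟨AlgEquiv.ofBijective φ hbij, ?_⟩
  apply AlgHom.ext
  intro a
  exact hφ a

end Groth.Agent.S8364
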