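import Groth.Statements.S8369
import Groth.Statements.S8369
import Mathlib

set_option autoImplicit false
universe u v
open SGA3

namespace Groth.Agent.S8369

/-- Let A be a commutative ring, J a nilpotent ideal, N ⊆ M A-modules with M/N flat over A. If elements
of N have images generating the image of N in M/JM, then they generate N. (The published statement
takes finitely many elements; this row allows an arbitrary set, which the same argument permits.) -/
theorem result (A : Type u) [CommRing A] (J : Ideal A) (hJ : IsNilpotent J)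
    (M : Type v) [AddCommGroup M] [Module A M] (N : Submodule A M) [Module.Flat A (M ⧸ N)] (s : Set M)
    (hs : s ⊆ N)
    (hgen : (Submodule.span A s).map (J • (⊤ : Submodule A M)).mkQ = N.map (J • (⊤ : Submodule A M)).mkQ) :
    Submodule.span A s = N := by
  classical
  have hle : Submodule.span A s ≤ N := Submodule.span_le.mpr hs
  have hinj : Function.Injective (N.subtype.lTensor (A ⧸ J)) :=
    LinearMap.lTensor_injective_of_exact_of_flat N.mkQ N.mkQ_surjective N.subtype
      N.subtype_injective (LinearMap.exact_subtype_mkQ N) (A ⧸ J)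
  have key : ∀ n : M, n ∈ N → n ∈ J • (⊤ : Submodule A M) → n ∈ J • N := by
    intro n hn hnJ
    have h0 : ((1 : A ⧸ J) ⊗ₜ[A] n : TensorProduct A (A ⧸ J) M) = 0 := by
      apply (TensorProduct.quotTensorEquivQuotSMul M J).injective
      rw [TensorProduct.quotTensorEquivQuotSMul_mk_one_tmul, map_zero]
      exact (Submodule.Quotient.mk_eq_zero _).mpr hnJ
    have h1 : ((1 : A ⧸ J) ⊗ₜ[A] (⟨n, hn⟩ : N) : TensorProduct A (A ⧸ J) N) = 0 := by
      apply hinj
      rw [LinearMap.lTensor_tmul, map_zero]
      exact h0
    have h2 := congrArg (TensorProduct.quotTensorEquivQuotSMul N J) h1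
    rw [TensorProduct.quotTensorEquivQuotSMul_mk_one_tmul, map_zero] at h2
    have h3 : (⟨n, hn⟩ : N) ∈ J • (⊤ : Submodule A N) := (Submodule.Quotient.mk_eq_zero _).mp h2
    have h4 : N.subtype ⟨n, hn⟩ ∈ (J • (⊤ : Submodule A N)).map N.subtype :=
      Submodule.mem_map_of_mem h3
    rwa [Submodule.map_smul'', Submodule.map_subtype_top] at h4
  have step : N ≤ Submodule.span A s ⊔ J • N := by
    intro n hn
    have h1 : (J • (⊤ : Submodule A M)).mkQ n ∈ N.map (J • (⊤ : Submodule A M)).mkQ :=
      Submodule.mem_map_of_mem hn
    rw [← hgen] at h1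
    obtain ⟨x, hx, hxn⟩ := h1
    have h2 : n - x ∈ J • (⊤ : Submodule A M) := by
      rw [← Submodule.Quotient.mk_eq_zero, Submodule.Quotient.mk_sub, sub_eq_zero]
      exact hxn.symm
    have h3 : n - x ∈ J • N := key _ (N.sub_mem hn (hle hx)) h2
    have : n = x + (n - x) := by abel
    rw [this]
    exact Submodule.add_mem_sup hx h3
  have iter : ∀ k : ℕ, N ≤ Submodule.span A s ⊔ J ^ k • N := by
    intro k
    induction k with
    | zero => rw [pow_zero, Ideal.one_eq_top, Submodule.top_smul]; exact le_sup_right
    | succ k ih =>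
      calc N ≤ Submodule.span A s ⊔ J • N := step
        _ ≤ Submodule.span A s ⊔ J • (Submodule.span A s ⊔ J ^ k • N) :=
            sup_le_sup_left (Submodule.smul_mono le_rfl ih) _
        _ ≤ Submodule.span A s ⊔ J ^ (k + 1) • N := by
            rw [Submodule.smul_sup, ← Submodule.mul_smul, ← pow_succ']
            refine sup_le le_sup_left (sup_le ?_ le_sup_right)
            exact le_trans Submodule.smul_le_right le_sup_left
  obtain ⟨k, hk⟩ := hJ
  apply le_antisymm hle
  have := iter k
  rwa [hk, Ideal.zero_eq_bot, Submodule.bot_smul, sup_bot_eq] at this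

end Groth.Agent.S8369
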