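import Groth.Statements.S8625
import Mathlib

set_option autoImplicit false
universe u
open SGA4h

namespace Groth.Agent.S8625

/-- Let G be a group with an endomorphism F, and assume the Lang map g ↦ F(g)g⁻¹ is surjective (for
instance the geometric points of a connected algebraic group over F_q with its Frobenius, where the
surjectivity is the classical result of Lang; the other Lang map g ↦ g⁻¹F(g) is then surjective too,
by g ↦ g⁻¹). Let G^F be the subgroup of fixed points of F. (i) If F(g)g⁻¹ is fixed by F then so is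
g⁻¹F(g). (ii), (iii) There is a bijection of the set of conjugacy classes of G^F with itself
sending, for every g with F(g)g⁻¹ ∈ G^F, the class of F(g)g⁻¹ to the class of g⁻¹F(g) (in particular
the latter class depends only on the former). -/
theorem result {G : Type u} [Group G] (F : G →* G)
    (hL : Function.Surjective fun g : G => F g * g⁻¹) :
    (∀ g : G, F (F g * g⁻¹) = F g * g⁻¹ → F (g⁻¹ * F g) = g⁻¹ * F g) ∧
    ∃ φ : ConjClasses ↥(F.eqLocus (MonoidHom.id G)) → ConjClasses ↥(F.eqLocus (MonoidHom.id G)),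
      Function.Bijective φ ∧
      ∀ (g : G) (h : F (F g * g⁻¹) = F g * g⁻¹) (h' : F (g⁻¹ * F g) = g⁻¹ * F g),
        φ (ConjClasses.mk (⟨F g * g⁻¹, h⟩ : ↥(F.eqLocus (MonoidHom.id G)))) =
          ConjClasses.mk (⟨g⁻¹ * F g, h'⟩ : ↥(F.eqLocus (MonoidHom.id G))) := by
  classical
  -- membership in the fixed subgroup
  have hmem : ∀ x : G, x ∈ F.eqLocus (MonoidHom.id G) ↔ F x = x := fun x => Iff.rfl
  have hi : ∀ g : G, F (F g * g⁻¹) = F g * g⁻¹ → F (g⁻¹ * F g) = g⁻¹ * F g := by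
    intro g h
    rw [map_mul, map_inv] at h ⊢
    have h2 : F (F g) = F g * g⁻¹ * F g := by
      calc F (F g) = (F (F g) * (F g)⁻¹) * F g := by group
        _ = F g * g⁻¹ * F g := by rw [h]
    rw [h2]; group
  have hi' : ∀ g : G, F (g⁻¹ * F g) = g⁻¹ * F g → F (F g * g⁻¹) = F g * g⁻¹ := by
    intro g h
    rw [map_mul, map_inv] at h ⊢
    have h2 : F (F g) = F g * g⁻¹ * F g := by
      calc F (F g) = F g * ((F g)⁻¹ * F (F g)) := by group
        _ = F g * g⁻¹ * F g := by rw [h]; group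
    rw [h2]; group
  -- the other Lang map is surjective
  have hL' : ∀ a : G, ∃ g : G, g⁻¹ * F g = a := by
    intro a
    obtain ⟨h, hh⟩ := hL a⁻¹
    refine ⟨h⁻¹, ?_⟩
    have hh' : F h * h⁻¹ = a⁻¹ := hh
    rw [map_inv, inv_inv]
    calc h * (F h)⁻¹ = (F h * h⁻¹)⁻¹ := by group
      _ = a := by rw [hh', inv_inv]
  -- key lemmas
  have K : ∀ (g g' : G) (h : F (F g * g⁻¹) = F g * g⁻¹) (h' : F (F g' * g'⁻¹) = F g' * g'⁻¹),
      IsConj (⟨F g * g⁻¹, h⟩ : ↥(F.eqLocus (MonoidHom.id G))) ⟨F g' * g'⁻¹, h'⟩ →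
      IsConj (⟨g⁻¹ * F g, hi g h⟩ : ↥(F.eqLocus (MonoidHom.id G))) ⟨g'⁻¹ * F g', hi g' h'⟩ := by
    intro g g' h h' hc
    rw [isConj_iff] at hc ⊢
    obtain ⟨⟨b, hb⟩, hbe⟩ := hc
    have hb' : F b = b := hb
    have hbe' : b * (F g * g⁻¹) * b⁻¹ = F g' * g'⁻¹ := congrArg Subtype.val hbe
    -- c = (b g)⁻¹ g'
    have hcfix : F ((b * g)⁻¹ * g') = (b * g)⁻¹ * g' := by
      have e1 : F g' = b * F g * g⁻¹ * b⁻¹ * g' := by
        calc F g' = (F g' * g'⁻¹) * g' := by group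
          _ = b * F g * g⁻¹ * b⁻¹ * g' := by rw [← hbe']; group
      rw [map_mul, map_inv, map_mul, hb', e1]; group
    refine ⟨⟨((b * g)⁻¹ * g')⁻¹, inv_mem hcfix⟩, ?_⟩
    apply Subtype.ext
    change ((b * g)⁻¹ * g')⁻¹ * (g⁻¹ * F g) * (((b * g)⁻¹ * g')⁻¹)⁻¹ = g'⁻¹ * F g'
    have e1 : F g' = b * F g * g⁻¹ * b⁻¹ * g' := by
      calc F g' = (F g' * g'⁻¹) * g' := by group
        _ = b * F g * g⁻¹ * b⁻¹ * g' := by rw [← hbe']; group
    rw [e1]; group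
  have K' : ∀ (g g' : G) (h : F (g⁻¹ * F g) = g⁻¹ * F g) (h' : F (g'⁻¹ * F g') = g'⁻¹ * F g'),
      IsConj (⟨g⁻¹ * F g, h⟩ : ↥(F.eqLocus (MonoidHom.id G))) ⟨g'⁻¹ * F g', h'⟩ →
      IsConj (⟨F g * g⁻¹, hi' g h⟩ : ↥(F.eqLocus (MonoidHom.id G))) ⟨F g' * g'⁻¹, hi' g' h'⟩ := by
    intro g g' h h' hc
    rw [isConj_iff] at hc ⊢
    obtain ⟨⟨c, hc0⟩, hce⟩ := hc
    have hc' : F c = c := hc0
    have hce' : c * (g⁻¹ * F g) * c⁻¹ = g'⁻¹ * F g' := congrArg Subtype.val hce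
    -- d = g' * (g c⁻¹)⁻¹ = g' c g⁻¹
    have e1 : F g' = g' * c * g⁻¹ * F g * c⁻¹ := by
      calc F g' = g' * (g'⁻¹ * F g') := by group
        _ = g' * c * g⁻¹ * F g * c⁻¹ := by rw [← hce']; group
    have hdfix : F (g' * c * g⁻¹) = g' * c * g⁻¹ := by
      rw [map_mul, map_mul, map_inv, hc', e1]; group
    refine ⟨⟨g' * c * g⁻¹, hdfix⟩, ?_⟩
    apply Subtype.ext
    change (g' * c * g⁻¹) * (F g * g⁻¹) * (g' * c * g⁻¹)⁻¹ = F g' * g'⁻¹
    rw [e1]; group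
  refine ⟨hi, ?_⟩
  -- define φ via choice
  have hch : ∀ a : ↥(F.eqLocus (MonoidHom.id G)), ∃ g : G, F g * g⁻¹ = (a : G) := fun a => hL a
  choose gg hgg using hch
  have hgfix : ∀ a : ↥(F.eqLocus (MonoidHom.id G)), F (F (gg a) * (gg a)⁻¹) = F (gg a) * (gg a)⁻¹ := by
    intro a
    rw [hgg a]; exact a.2
  let f : ↥(F.eqLocus (MonoidHom.id G)) → ConjClasses ↥(F.eqLocus (MonoidHom.id G)) :=
    fun a => ConjClasses.mk ⟨(gg a)⁻¹ * F (gg a), hi (gg a) (hgfix a)⟩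
  let φ : ConjClasses ↥(F.eqLocus (MonoidHom.id G)) → ConjClasses ↥(F.eqLocus (MonoidHom.id G)) :=
    fun C => f (Quotient.out C)
  have hφ : ∀ (g : G) (h : F (F g * g⁻¹) = F g * g⁻¹) (h' : F (g⁻¹ * F g) = g⁻¹ * F g),
      φ (ConjClasses.mk (⟨F g * g⁻¹, h⟩ : ↥(F.eqLocus (MonoidHom.id G)))) =
        ConjClasses.mk (⟨g⁻¹ * F g, h'⟩ : ↥(F.eqLocus (MonoidHom.id G))) := by
    intro g h h'
    set a₀ := Quotient.out (ConjClasses.mk (⟨F g * g⁻¹, h⟩ : ↥(F.eqLocus (MonoidHom.id G)))) with ha₀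
    have hconj : IsConj a₀ (⟨F g * g⁻¹, h⟩ : ↥(F.eqLocus (MonoidHom.id G))) := by
      rw [← ConjClasses.mk_eq_mk_iff_isConj]
      exact Quotient.out_eq _
    change ConjClasses.mk _ = ConjClasses.mk _
    rw [ConjClasses.mk_eq_mk_iff_isConj]
    have hconj' : IsConj (⟨F (gg a₀) * (gg a₀)⁻¹, hgfix a₀⟩ : ↥(F.eqLocus (MonoidHom.id G)))
        ⟨F g * g⁻¹, h⟩ := by
      have : (⟨F (gg a₀) * (gg a₀)⁻¹, hgfix a₀⟩ : ↥(F.eqLocus (MonoidHom.id G))) = a₀ :=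
        Subtype.ext (hgg a₀)
      rw [this]; exact hconj
    exact K (gg a₀) g (hgfix a₀) h hconj'
  refine ⟨φ, ⟨?_, ?_⟩, hφ⟩
  · -- injective
    intro C C' hCC'
    obtain ⟨a, rfl⟩ := ConjClasses.exists_rep C
    obtain ⟨a', rfl⟩ := ConjClasses.exists_rep C'
    have ea : a = ⟨F (gg a) * (gg a)⁻¹, hgfix a⟩ := Subtype.ext (hgg a).symm
    have ea' : a' = ⟨F (gg a') * (gg a')⁻¹, hgfix a'⟩ := Subtype.ext (hgg a').symm
    rw [ea, ea'] at hCC' ⊢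
    rw [hφ _ (hgfix a) (hi _ (hgfix a)), hφ _ (hgfix a') (hi _ (hgfix a')),
      ConjClasses.mk_eq_mk_iff_isConj] at hCC'
    rw [ConjClasses.mk_eq_mk_iff_isConj]
    exact K' _ _ _ _ hCC'
  · -- surjective
    intro C
    obtain ⟨b, rfl⟩ := ConjClasses.exists_rep C
    obtain ⟨g, hg⟩ := hL' (b : G)
    have h' : F (g⁻¹ * F g) = g⁻¹ * F g := by rw [hg]; exact b.2
    refine ⟨ConjClasses.mk ⟨F g * g⁻¹, hi' g h'⟩, ?_⟩
    rw [hφ g (hi' g h') h']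
    congr 1
    exact Subtype.ext hg

end Groth.Agent.S8625
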