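import Groth.Statements.S8630
import Mathlib

set_option autoImplicit false
open Zeta

namespace Groth.Agent.S8630

/-- Fatou's lemma: let P, Q ∈ ℚ[T] be coprime with constant coefficient 1, and suppose the power series
P/Q has integer coefficients, i.e. P = Q·Z in ℚ⟦T⟧ for a power series Z with coefficients in ℤ. Then
P and Q have integer coefficients. -/
theorem result (P Q : Polynomial ℚ)
    (hPQ : IsCoprime P Q) (hP : P.coeff 0 = 1) (hQ : Q.coeff 0 = 1) (Z : PowerSeries ℤ)
    (hZ : (P : PowerSeries ℚ) = (Q : PowerSeries ℚ) * PowerSeries.map (Int.castRingHom ℚ) Z) :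
    (∃ P₀ : Polynomial ℤ, P₀.map (Int.castRingHom ℚ) = P) ∧
      ∃ Q₀ : Polynomial ℤ, Q₀.map (Int.castRingHom ℚ) = Q := by
  classical
  have hinj : Function.Injective (PowerSeries.map (Int.castRingHom ℚ)) := by
    intro a b hab
    ext i
    have h := congrArg (PowerSeries.coeff i) hab
    rw [PowerSeries.coeff_map, PowerSeries.coeff_map] at h
    simpa using h
  have hmapcoe : ∀ (b : ℚ) (p : Polynomial ℚ) (p' : Polynomial ℤ),
      (∀ i, ((p'.coeff i : ℤ) : ℚ) = b * p.coeff i) →
      PowerSeries.map (Int.castRingHom ℚ) (p' : PowerSeries ℤ) =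
        PowerSeries.C b * (p : PowerSeries ℚ) := by
    intro b p p' h
    ext i
    rw [PowerSeries.coeff_map, Polynomial.coeff_coe, PowerSeries.coeff_C_mul, Polynomial.coeff_coe,
      eq_intCast]
    exact h i
  have hden : ∀ p : Polynomial ℚ, ∃ b : ℤ, b ≠ 0 ∧ ∃ p' : Polynomial ℤ,
      ∀ i, ((p'.coeff i : ℤ) : ℚ) = (b : ℚ) * p.coeff i := by
    intro p
    obtain ⟨b, hbM, hb⟩ := IsLocalization.integerNormalization_spec (nonZeroDivisors ℤ) p
    refine ⟨(b : ℤ), nonZeroDivisors.ne_zero hbM,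
      IsLocalization.integerNormalization (nonZeroDivisors ℤ) p, ?_⟩
    intro i
    have h := congrArg (fun q : Polynomial ℚ => q.coeff i) hb
    simp only [Polynomial.coeff_map, Polynomial.coeff_smul] at h
    simpa using h
  have hdesc : ∀ (p : ℕ), p.Prime → ∀ (Q₁ : Polynomial ℤ), (p : ℤ) ∣ Q₁.coeff 0 →
      (∃ i, ¬ (p : ℤ) ∣ Q₁.coeff i) →
      ∀ (k : ℕ) (N : ℤ) (W : PowerSeries ℤ), (Q₁ : PowerSeries ℤ) * W = PowerSeries.C N →
        (p : ℤ) ^ k ∣ N := by
    intro p hp Q₁ h0 hne k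
    have : Fact p.Prime := ⟨hp⟩
    induction k with
    | zero => intro N W _; simp
    | succ k ih =>
      intro N W hW
      have hN : (p : ℤ) ∣ N := by
        have h1 := congrArg PowerSeries.constantCoeff hW
        rw [map_mul, PowerSeries.constantCoeff_C, ← PowerSeries.coeff_zero_eq_constantCoeff_apply,
          Polynomial.coeff_coe] at h1
        rw [← h1]
        exact Dvd.dvd.mul_right h0 _
      obtain ⟨N', rfl⟩ := hN
      have hWdiv : ∀ j, (p : ℤ) ∣ PowerSeries.coeff j W := by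
        have hz : PowerSeries.map (Int.castRingHom (ZMod p)) (Q₁ : PowerSeries ℤ) *
            PowerSeries.map (Int.castRingHom (ZMod p)) W = 0 := by
          rw [← map_mul, hW, PowerSeries.map_C, eq_intCast]
          have h2 : (((p : ℤ) * N' : ℤ) : ZMod p) = 0 := by
            rw [ZMod.intCast_zmod_eq_zero_iff_dvd]
            exact dvd_mul_right _ _
          rw [h2, map_zero]
        rcases mul_eq_zero.mp hz with h | h
        · exfalso
          obtain ⟨i, hi⟩ := hne
          apply hi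
          have h2 := congrArg (PowerSeries.coeff i) h
          rw [PowerSeries.coeff_map, Polynomial.coeff_coe, eq_intCast, map_zero] at h2
          exact (ZMod.intCast_zmod_eq_zero_iff_dvd _ p).mp h2
        · intro j
          have h2 := congrArg (PowerSeries.coeff j) h
          rw [PowerSeries.coeff_map, eq_intCast, map_zero] at h2
          exact (ZMod.intCast_zmod_eq_zero_iff_dvd _ p).mp h2
      obtain ⟨W', hW'def⟩ : ∃ W' : PowerSeries ℤ,
        W' = PowerSeries.mk (fun j => PowerSeries.coeff j W / (p : ℤ)) := ⟨_, rfl⟩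
      have hW' : W = PowerSeries.C (p : ℤ) * W' := by
        ext j
        rw [PowerSeries.coeff_C_mul, hW'def, PowerSeries.coeff_mk, Int.mul_ediv_cancel' (hWdiv j)]
      have hpne : (PowerSeries.C (p : ℤ) : PowerSeries ℤ) ≠ 0 := by
        intro h
        have h2 := congrArg (PowerSeries.coeff 0) h
        rw [PowerSeries.coeff_zero_C, map_zero] at h2
        exact hp.ne_zero (by exact_mod_cast h2)
      have hW2 : (Q₁ : PowerSeries ℤ) * W' = PowerSeries.C N' := by
        apply mul_left_cancel₀ hpne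
        rw [← mul_assoc, mul_comm (PowerSeries.C (p : ℤ)) (Q₁ : PowerSeries ℤ), mul_assoc, ← hW', hW,
          map_mul]
      have h3 := ih N' W' hW2
      rw [pow_succ']
      exact mul_dvd_mul_left _ h3
  have hbez : ∀ (d : ℕ) (Q₁ : Polynomial ℤ), 0 < d →
      (∀ i, ((Q₁.coeff i : ℤ) : ℚ) = (d : ℚ) * Q.coeff i) →
      ∃ (N : ℤ) (W : PowerSeries ℤ), N ≠ 0 ∧ (Q₁ : PowerSeries ℤ) * W = PowerSeries.C N := by
    intro d Q₁ hd hQ₁
    obtain ⟨U, V, hUV⟩ := hPQ
    obtain ⟨bU, hbU, U', hU'⟩ := hden U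
    obtain ⟨bV, hbV, V', hV'⟩ := hden V
    refine ⟨(d : ℤ) * bU * bV, PowerSeries.C bV * (U' : PowerSeries ℤ) * Z +
      PowerSeries.C bU * (V' : PowerSeries ℤ), ?_, ?_⟩
    · have hd' : (d : ℤ) ≠ 0 := by exact_mod_cast hd.ne'
      exact mul_ne_zero (mul_ne_zero hd' hbU) hbV
    · apply hinj
      have h1 : (U : PowerSeries ℚ) * ((Q : PowerSeries ℚ) *
          PowerSeries.map (Int.castRingHom ℚ) Z) + (V : PowerSeries ℚ) * (Q : PowerSeries ℚ) = 1 := by
        rw [← hZ, ← Polynomial.coe_mul, ← Polynomial.coe_mul, ← Polynomial.coe_add, hUV,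
          Polynomial.coe_one]
      have hι : ∀ z : ℤ, (Int.castRingHom ℚ) z = (z : ℚ) := fun z => rfl
      simp only [map_mul, map_add, PowerSeries.map_C, hι, Int.cast_natCast, Int.cast_mul]
      rw [hmapcoe _ _ _ hQ₁, hmapcoe _ _ _ hU', hmapcoe _ _ _ hV']
      calc _ = PowerSeries.C (d : ℚ) * PowerSeries.C (bU : ℚ) * PowerSeries.C (bV : ℚ) *
            ((U : PowerSeries ℚ) * ((Q : PowerSeries ℚ) * PowerSeries.map (Int.castRingHom ℚ) Z) +
              (V : PowerSeries ℚ) * (Q : PowerSeries ℚ)) := by ring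
        _ = _ := by rw [h1, mul_one]
  have hmain : ∀ d : ℕ, 0 < d →
      (∃ Q₁ : Polynomial ℤ, ∀ i, ((Q₁.coeff i : ℤ) : ℚ) = (d : ℚ) * Q.coeff i) →
      ∃ Q₀ : Polynomial ℤ, ∀ i, ((Q₀.coeff i : ℤ) : ℚ) = Q.coeff i := by
    intro d
    induction d using Nat.strong_induction_on with
    | _ d ih =>
      rintro hd ⟨Q₁, hQ₁⟩
      by_cases hd1 : d = 1
      · exact ⟨Q₁, fun i => by rw [hQ₁ i, hd1, Nat.cast_one, one_mul]⟩
      obtain ⟨p, hp, hpd⟩ := Nat.exists_prime_and_dvd hd1
      by_cases hall : ∀ i, (p : ℤ) ∣ Q₁.coeff i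
      · obtain ⟨e, he⟩ := hpd
        have he0 : 0 < e := by
          apply Nat.pos_of_ne_zero
          rintro rfl
          simp at he
          omega
        have helt : e < d := by
          have h2 := hp.two_le
          nlinarith
        obtain ⟨Q₂, hQ₂⟩ := (Polynomial.C_dvd_iff_dvd_coeff _ _).mpr hall
        refine ih e helt he0 ⟨Q₂, fun i => ?_⟩
        have h1 := hQ₁ i
        rw [hQ₂, Polynomial.coeff_C_mul, he] at h1
        push_cast at h1
        have hp0 : (p : ℚ) ≠ 0 := by exact_mod_cast hp.ne_zero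
        apply mul_left_cancel₀ hp0
        rw [h1]
        ring
      · exfalso
        push Not at hall
        have hc0 : Q₁.coeff 0 = (d : ℤ) := by
          have h := hQ₁ 0
          rw [hQ, mul_one] at h
          exact_mod_cast h
        have h0 : (p : ℤ) ∣ Q₁.coeff 0 := by
          rw [hc0]
          exact_mod_cast hpd
        obtain ⟨N, W, hN, hW⟩ := hbez d Q₁ hd hQ₁
        have hdvd := hdesc p hp Q₁ h0 hall N.natAbs N W hW
        have h5 : p ^ N.natAbs ∣ N.natAbs := by
          have h := Int.natAbs_dvd_natAbs.mpr hdvd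
          rwa [Int.natAbs_pow, Int.natAbs_natCast] at h
        have h6 : p ^ N.natAbs ≤ N.natAbs := Nat.le_of_dvd (Int.natAbs_pos.mpr hN) h5
        have h7 : N.natAbs < p ^ N.natAbs := Nat.lt_pow_self hp.one_lt
        omega
  obtain ⟨b, hb, Q', hQ'⟩ := hden Q
  have hd0 : 0 < b.natAbs * b.natAbs :=
    Nat.mul_pos (Int.natAbs_pos.mpr hb) (Int.natAbs_pos.mpr hb)
  have hcast : ((b.natAbs * b.natAbs : ℕ) : ℚ) = (b : ℚ) * b := by
    have h : ((b.natAbs * b.natAbs : ℕ) : ℤ) = b * b := by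
      rw [Nat.cast_mul]
      exact Int.natAbs_mul_self' b
    have h2 : (((b.natAbs * b.natAbs : ℕ) : ℤ) : ℚ) = ((b * b : ℤ) : ℚ) := by rw [h]
    rw [Int.cast_natCast, Int.cast_mul] at h2
    exact h2
  obtain ⟨Q₀, hQ₀⟩ := hmain (b.natAbs * b.natAbs) hd0 ⟨Polynomial.C b * Q', fun i => by
    rw [Polynomial.coeff_C_mul, hcast, Int.cast_mul, hQ' i]
    ring⟩
  have hQmap : Q₀.map (Int.castRingHom ℚ) = Q := by
    ext i
    rw [Polynomial.coeff_map, eq_intCast]
    exact hQ₀ i
  refine ⟨⟨PowerSeries.trunc (P.natDegree + 1) ((Q₀ : PowerSeries ℤ) * Z), ?_⟩, ⟨Q₀, hQmap⟩⟩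
  ext i
  rw [Polynomial.coeff_map, PowerSeries.coeff_trunc]
  split_ifs with h
  · have h3 : PowerSeries.map (Int.castRingHom ℚ) ((Q₀ : PowerSeries ℤ) * Z) =
        (P : PowerSeries ℚ) := by
      rw [map_mul, hmapcoe 1 Q Q₀ (fun i => by rw [one_mul]; exact hQ₀ i), map_one, one_mul, ← hZ]
    have h4 := congrArg (PowerSeries.coeff i) h3
    rw [PowerSeries.coeff_map, Polynomial.coeff_coe] at h4
    exact h4
  · rw [map_zero, Polynomial.coeff_eq_zero_of_natDegree_lt (by omega)]

end Groth.Agent.S8630
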