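import Groth.Statements.S8678
import Mathlib
import Groth.Agent.Lib.helper4.Lambda

set_option autoImplicit false
universe u
open Finset
open LambdaRing

namespace Groth.Agent.S8678

/-- As the identity it proves in the pre-λ-ring K(Y') of the exceptional divisor: let K be a pre-λ-ring
(λ^0 = 1, λ^1 = id, additive formula) with λ^k(1) = 0 for all k ≥ 2, let d ≥ 2, and let F, L, N' ∈ K
satisfy λ^j(L) = 0 for j ≥ 2 (L is the class of an invertible module), λ^i(N') = 0 for i ≥ d − 1 (N'
is the class of a bundle of rank d − 2) and F + L = N' + 2 (for the blowing up of a regular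
immersion of codimension d: on the exceptional divisor the pulled-back conormal class is F + L, and
N = N' + 2). Then 1 − L divides λ_{−1}(F) = Σ_{i<d} (−1)^i λ^i(F). (The published proof uses only
additivity of λ_t and λ_t(1) = 1 + t, the hypotheses taken here.) -/
theorem result (K : Type u) [CommRing K] [LambdaRing.LambdaOps K]
    (h1 : ∀ k : ℕ, 2 ≤ k → LambdaRing.LambdaOps.lam k (1 : K) = 0) (d : ℕ) (hd : 2 ≤ d) (F L N' : K)
    (hL : ∀ j : ℕ, 2 ≤ j → LambdaRing.LambdaOps.lam j L = 0) (hN' : ∀ i : ℕ, d - 1 ≤ i → LambdaRing.LambdaOps.lam i N' = 0)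
    (hrel : F + L = N' + 2) :
    (1 - L) ∣ ∑ i ∈ range d, (-1 : K) ^ i * LambdaRing.LambdaOps.lam i F := by
  have hdiv : ∀ n : ℕ, (1 - L) ∣ LambdaRing.LambdaOps.lam n F - LambdaRing.LambdaOps.lam n (N' + 1) := by
    intro n
    induction n with
    | zero => simp [LambdaRing.LambdaOps.lam_zero]
    | succ n ih =>
      have e1 := Groth.Agent.H4.H4_lam_succ_add_line L hL n F
      have e2 := Groth.Agent.H4.H4_lam_succ_add_one h1 n (N' + 1)
      rw [hrel] at e1
      rw [show N' + 1 + 1 = N' + 2 by ring] at e2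
      obtain ⟨c, hc⟩ := ih
      refine ⟨-L * c + LambdaRing.LambdaOps.lam n (N' + 1), ?_⟩
      linear_combination e2 - e1 - L * hc
  have hzero : ∑ i ∈ range d, (-1 : K) ^ i * LambdaRing.LambdaOps.lam i (N' + 1) = 0 := by
    obtain ⟨d', rfl⟩ : ∃ j, d = j + 1 := ⟨d - 1, by omega⟩
    rw [Groth.Agent.H4.H4_alt_sum_lam h1 d' N', hN' d' (by omega), mul_zero]
  have hsplit : ∑ i ∈ range d, (-1 : K) ^ i * LambdaRing.LambdaOps.lam i F
      = ∑ i ∈ range d, (-1 : K) ^ i * (LambdaRing.LambdaOps.lam i F - LambdaRing.LambdaOps.lam i (N' + 1)) := by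
    rw [← sub_zero (∑ i ∈ range d, (-1 : K) ^ i * LambdaRing.LambdaOps.lam i F), ← hzero,
      ← Finset.sum_sub_distrib]
    refine Finset.sum_congr rfl fun i _ => ?_
    ring
  rw [hsplit]
  apply Finset.dvd_sum
  intro i _
  exact Dvd.dvd.mul_left (hdiv i) _

end Groth.Agent.S8678
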