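import Groth.Statements.S8687
import Mathlib
import Groth.Agent.Lib.helper6.LambdaAdamsMul

set_option autoImplicit false
universe u
open LambdaRing Groth.Agent.Lib.helper6
set_option linter.style.haveILetI false

namespace Groth.Agent.S8687

/-- Let K be a λ-ring in the strict sense (λ_t(1) = 1 + t and the identities λ^n(xy) = P_n(λ^1 x, …; λ^1
y, …), λ^j(λ^i x) = Q_{i,j}(λ^1 x, …) for the universal polynomials). Then for every k ≥ 1 the Adams
operation ψ^k is multiplicative: ψ^k(xy) = ψ^k(x) ψ^k(y). The hypothesis hP, that a universal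
polynomial P_n exists for every n, is a true statement carried here so that the product identities
of K can be used at every n. -/
theorem result (K : Type u) [CommRing K] [LambdaRing.LambdaOps K]
    (hK : LambdaRing.IsSpecial K)
    (hP : ∀ n : ℕ, ∃ P : MvPolynomial (Fin n ⊕ Fin n) ℤ, LambdaRing.IsMulPoly n P)
    (k : ℕ) (hk : 1 ≤ k) (x y : K) :
    LambdaRing.adamsOp k (x * y) = LambdaRing.adamsOp k x * LambdaRing.adamsOp k y := by
  obtain ⟨j, rfl⟩ : ∃ j, k = j + 1 := ⟨k - 1, by omega⟩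
  obtain ⟨f, hf⟩ : ∃ f : MvPolynomial (Fin (j + 1) ⊕ Fin (j + 1)) ℤ →+* K, f =
      ((MvPolynomial.aeval (Sum.elim (fun i : Fin (j + 1) => LambdaOps.lam ((i : ℕ) + 1) x)
        (fun i : Fin (j + 1) => LambdaOps.lam ((i : ℕ) + 1) y)) :
          MvPolynomial (Fin (j + 1) ⊕ Fin (j + 1)) ℤ →ₐ[ℤ] K) : _ →+* K) := ⟨_, rfl⟩
  have hfX : ∀ v, f (MvPolynomial.X v) = Sum.elim (fun i : Fin (j + 1) => LambdaOps.lam ((i : ℕ) + 1) x)
        (fun i : Fin (j + 1) => LambdaOps.lam ((i : ℕ) + 1) y) v := by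
    intro v; rw [hf]; simp
  have ccx : ∀ z : K, PowerSeries.constantCoeff (lamSeries z) = 1 := by
    intro z
    rw [H6_constCoeff_lamSeries]; simp
  have aX : H6_agree (j + 1) (PowerSeries.map f (H6_LX (j + 1))) (lamSeries x) := by
    intro n hn
    rw [PowerSeries.coeff_map, H6_LX, PowerSeries.coeff_mk, H6_coeff_lamSeries]
    by_cases h0 : n = 0
    · subst h0
      rw [dif_pos rfl, map_one, LambdaOps.lam_zero]
    · rw [dif_neg h0, dif_pos hn, hfX, Sum.elim_inl]
      congr 1
      simp only []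
      omega
  have aY : H6_agree (j + 1) (PowerSeries.map f (H6_LY (j + 1))) (lamSeries y) := by
    intro n hn
    rw [PowerSeries.coeff_map, H6_LY, PowerSeries.coeff_mk, H6_coeff_lamSeries]
    by_cases h0 : n = 0
    · subst h0
      rw [dif_pos rfl, map_one, LambdaOps.lam_zero]
    · rw [dif_neg h0, dif_pos hn, hfX, Sum.elim_inr]
      congr 1
      simp only []
      omega
  have aZ : H6_agree (j + 1) (PowerSeries.map f (H6_LZ (j + 1))) (lamSeries (x * y)) := by
    intro n hn
    rw [PowerSeries.coeff_map, H6_LZ, PowerSeries.coeff_mk, H6_coeff_lamSeries]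
    by_cases h0 : n = 0
    · subst h0
      rw [H6_Z_zero, map_one, LambdaOps.lam_zero]
    · obtain ⟨P, hP'⟩ := hP n
      have hZ : H6_Z (j + 1) n = MvPolynomial.rename (Sum.map (Fin.castLE hn) (Fin.castLE hn)) P := by
        apply H6_Phi_injective
        rw [H6_Z_spec, H6_Phi_rename_of_isMulPoly hn P hP']
      rw [hZ, hK.lam_mul n P hP' x y, hf]
      change MvPolynomial.aeval _ (MvPolynomial.rename _ P) = _
      rw [MvPolynomial.aeval_rename]
      have hfun : ((Sum.elim (fun i : Fin (j + 1) => LambdaOps.lam ((i : ℕ) + 1) x)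
          (fun i : Fin (j + 1) => LambdaOps.lam ((i : ℕ) + 1) y)) ∘
            Sum.map (Fin.castLE hn) (Fin.castLE hn)) =
          Sum.elim (fun i : Fin n => LambdaOps.lam ((i : ℕ) + 1) x)
            (fun i : Fin n => LambdaOps.lam ((i : ℕ) + 1) y) := by
        funext v
        cases v <;> simp
      rw [hfun]
  have cX := H6_ld_congr (H6_cc_map f (H6_cc_LX (j + 1))) (ccx x) aX j le_rfl
  have cY := H6_ld_congr (H6_cc_map f (H6_cc_LY (j + 1))) (ccx y) aY j le_rfl
  have cZ := H6_ld_congr (H6_cc_map f (H6_cc_LZ (j + 1))) (ccx (x * y)) aZ j le_rfl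
  rw [← H6_map_ld f _ (H6_cc_LX (j + 1)), PowerSeries.coeff_map] at cX
  rw [← H6_map_ld f _ (H6_cc_LY (j + 1)), PowerSeries.coeff_map] at cY
  rw [← H6_map_ld f _ (H6_cc_LZ (j + 1)), PowerSeries.coeff_map, H6_generic_adams_mul,
    map_mul, map_mul, map_pow, map_neg, map_one, cX, cY] at cZ
  have e : ∀ z : K, adamsOp (j + 1) z = (-1) ^ j * PowerSeries.coeff j (H6_ld (lamSeries z)) :=
    fun z => rfl
  rw [e, e, e, ← cZ]
  ring

end Groth.Agent.S8687
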