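import Groth.Statements.S8688
import Mathlib
import Groth.Agent.Lib.helper6.LambdaAdamsComp
import Groth.Agent.Lib.helper6.LambdaAdamsHom
import Groth.Agent.S8687

set_option autoImplicit false
universe u
open LambdaRing Groth.Agent.Lib.helper6
set_option linter.style.haveILetI false

namespace Groth.Agent.S8688

/-- Let K be a λ-ring in the strict sense (λ_t(1) = 1 + t and the identities with the universal
polynomials P_n, Q_{i,j}). Then the Adams operations satisfy ψ^k ∘ ψ^{k'} = ψ^{kk'} for all k, k' ≥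
1. The hypotheses hP and hQ, that the universal polynomials exist for all indices, are true
statements carried here so that the identities of K can be used at every index. -/
theorem result (K : Type u) [CommRing K] [LambdaRing.LambdaOps K]
    (hK : LambdaRing.IsSpecial K)
    (hP : ∀ n : ℕ, ∃ P : MvPolynomial (Fin n ⊕ Fin n) ℤ, LambdaRing.IsMulPoly n P)
    (hQ : ∀ i j : ℕ, ∃ Q : MvPolynomial (Fin (i * j)) ℤ, LambdaRing.IsCompPoly i j Q)
    (k k' : ℕ) (hk : 1 ≤ k) (hk' : 1 ≤ k') (x : K) :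
    LambdaRing.adamsOp k (LambdaRing.adamsOp k' x) = LambdaRing.adamsOp (k * k') x := by
  obtain ⟨j, rfl⟩ : ∃ j, k = j + 1 := ⟨k - 1, by omega⟩
  obtain ⟨j', rfl⟩ : ∃ j', k' = j' + 1 := ⟨k' - 1, by omega⟩
  obtain ⟨M, hM⟩ : ∃ M, (j + 1) * (j' + 1) = M + 1 := ⟨(j + 1) * (j' + 1) - 1, by
    have : 1 ≤ (j + 1) * (j' + 1) := Nat.mul_pos (Nat.succ_pos _) (Nat.succ_pos _)
    omega⟩
  rw [hM]
  obtain ⟨g, hg⟩ : ∃ g : MvPolynomial (Fin (M + 1)) ℤ →+* K, g =
      ((MvPolynomial.aeval (fun a : Fin (M + 1) => LambdaOps.lam ((a : ℕ) + 1) x) :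
          MvPolynomial (Fin (M + 1)) ℤ →ₐ[ℤ] K) : _ →+* K) := ⟨_, rfl⟩
  have hgX : ∀ a : Fin (M + 1), g (MvPolynomial.X a) = LambdaOps.lam ((a : ℕ) + 1) x := by
    intro a; rw [hg]; simp
  have hmul := fun a b => Groth.Agent.S8687.result K hK hP (j + 1) (by omega) a b
  obtain ⟨Ψ, hΨ⟩ : ∃ Ψ : K →+* K, ∀ z, Ψ z = adamsOp (j + 1) z :=
    ⟨H6_adamsHom j hK.lam_one_eq_zero hmul, fun z => rfl⟩
  have hj'M : j' + 1 ≤ M + 1 := by
    rw [← hM]; exact Nat.le_mul_of_pos_left _ (Nat.succ_pos _)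
  -- the generic series specialises to `λ_t(x)`
  have aG : H6_agree (M + 1) (PowerSeries.map g (H6_LG (M + 1))) (lamSeries x) := by
    intro n hn
    rw [PowerSeries.coeff_map, H6_LG, PowerSeries.coeff_mk, H6_coeff_lamSeries]
    by_cases h0 : n = 0
    · subst h0
      rw [dif_pos rfl, map_one, LambdaOps.lam_zero]
    · rw [dif_neg h0, dif_pos hn, hgX]
      congr 1
      simp only []
      omega
  have aW : ∀ i : ℕ, 1 ≤ i → i ≤ j' + 1 →
      H6_agree (j + 1) (PowerSeries.map g (H6_LW (M + 1) i)) (lamSeries (LambdaOps.lam i x)) := by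
    intro i hi1 hi2 n hn
    rw [PowerSeries.coeff_map, H6_LW, PowerSeries.coeff_mk, H6_coeff_lamSeries]
    by_cases h0 : n = 0
    · subst h0
      rw [H6_W_zero, map_one, LambdaOps.lam_zero]
    · obtain ⟨Q, hQ'⟩ := hQ i n
      have hin : i * n ≤ M + 1 := by
        rw [← hM, mul_comm (j + 1)]
        exact Nat.mul_le_mul hi2 hn
      have hW : H6_W (M + 1) i n = MvPolynomial.rename (Fin.castLE hin) Q := by
        apply H6_E_injective
        rw [H6_W_spec, H6_E_rename_of_isCompPoly hin Q hQ']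
      rw [hW, hK.lam_lam i n Q hQ' x, hg]
      change MvPolynomial.aeval _ (MvPolynomial.rename _ Q) = _
      rw [MvPolynomial.aeval_rename]
      rfl
  have gd : ∀ i : ℕ, 1 ≤ i → i ≤ j' + 1 →
      g (H6_d (M + 1) j i) = adamsOp (j + 1) (LambdaOps.lam i x) := by
    intro i hi1 hi2
    have c := H6_ld_congr (H6_cc_map g (H6_cc_LW (M + 1) i)) (H6_cc_lamSeries _)
      (aW i hi1 hi2) j le_rfl
    rw [← H6_map_ld g _ (H6_cc_LW (M + 1) i), PowerSeries.coeff_map] at c
    rw [H6_adamsOp_eq, ← c, H6_d, map_mul, map_pow, map_neg, map_one]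
  have aD : H6_agree (j' + 1) (PowerSeries.map (Ψ.comp g) (H6_LG (M + 1)))
      (PowerSeries.map g (H6_LD (M + 1) j)) := by
    intro n hn
    rw [PowerSeries.coeff_map, PowerSeries.coeff_map, H6_LG, PowerSeries.coeff_mk, H6_LD,
      PowerSeries.coeff_mk]
    by_cases h0 : n = 0
    · subst h0
      rw [dif_pos rfl, if_pos rfl, map_one, map_one]
    · rw [dif_neg h0, if_neg h0, dif_pos (by omega), RingHom.comp_apply, hgX, hΨ,
        gd n (by omega) hn]
      congr 2
      simp only []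
      omega
  -- assemble
  have s1 : adamsOp (j' + 1) x =
      g ((-1) ^ j' * PowerSeries.coeff j' (H6_ld (H6_LG (M + 1)))) := by
    have c := H6_ld_congr (H6_cc_map g (H6_cc_LG (M + 1))) (H6_cc_lamSeries x)
      (H6_agree_mono hj'M aG) j' le_rfl
    rw [← H6_map_ld g _ (H6_cc_LG (M + 1)), PowerSeries.coeff_map] at c
    rw [H6_adamsOp_eq, ← c, map_mul, map_pow, map_neg, map_one]
  have s2 : Ψ (g ((-1) ^ j' * PowerSeries.coeff j' (H6_ld (H6_LG (M + 1))))) =
      g ((-1) ^ j' * PowerSeries.coeff j' (H6_ld (H6_LD (M + 1) j))) := by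
    have c := H6_ld_congr (H6_cc_map (Ψ.comp g) (H6_cc_LG (M + 1)))
      (H6_cc_map g (H6_cc_LD (M + 1) j)) aD j' le_rfl
    rw [← H6_map_ld (Ψ.comp g) _ (H6_cc_LG (M + 1)), ← H6_map_ld g _ (H6_cc_LD (M + 1) j),
      PowerSeries.coeff_map, PowerSeries.coeff_map] at c
    rw [← RingHom.comp_apply, map_mul, map_pow, map_neg, map_one, c, map_mul, map_pow, map_neg,
      map_one]
  have s3 : adamsOp (M + 1) x =
      g ((-1) ^ M * PowerSeries.coeff M (H6_ld (H6_LG (M + 1)))) := by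
    have c := H6_ld_congr (H6_cc_map g (H6_cc_LG (M + 1))) (H6_cc_lamSeries x) aG M le_rfl
    rw [← H6_map_ld g _ (H6_cc_LG (M + 1)), PowerSeries.coeff_map] at c
    rw [H6_adamsOp_eq, ← c, map_mul, map_pow, map_neg, map_one]
  have s4 := H6_generic_adams_comp (M + 1) j j' hM.symm
  rw [Nat.add_sub_cancel] at s4
  rw [← hΨ, s1, s2, s4, s3]

end Groth.Agent.S8688
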