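import Groth.Statements.S8720
import Mathlib

set_option autoImplicit false
universe u
open VanCyc

namespace Groth.Agent.S8720

open MvPowerSeries

/-- all coefficients of degree `< N` vanish -/
def ordGE {τ : Type*} {k : Type*} [Field k] (N : ℕ) (g : MvPowerSeries τ k) : Prop :=
  ∀ d : τ →₀ ℕ, d.degree < N → coeff d g = 0

theorem ordGE_mono {τ : Type*} {k : Type*} [Field k] {N N' : ℕ} (h : N' ≤ N)
    {g : MvPowerSeries τ k} (hg : ordGE N g) : ordGE N' g :=
  fun d hd => hg d (lt_of_lt_of_le hd h)

theorem div_aux {ι : Type*} {k : Type*} [Field k] [DecidableEq ι] (N : ℕ)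
    (g : MvPowerSeries (Option ι) k) (hg : ordGE (N + 1) g) (S : Finset ι) :
    ∃ (g₀ : MvPowerSeries (Option ι) k) (q : ι → MvPowerSeries (Option ι) k),
      ordGE (N + 1) g₀ ∧ (∀ d : Option ι →₀ ℕ, (∃ j ∈ S, d (some j) ≠ 0) → coeff d g₀ = 0) ∧
      (∀ j, ordGE N (q j)) ∧ g = g₀ + ∑ j ∈ S, X (some j) * q j := by
  classical
  induction S using Finset.induction_on with
  | empty =>
    refine ⟨g, fun _ => 0, hg, ?_, ?_, ?_⟩
    · rintro d ⟨j, hj, -⟩; simp at hj
    · intro j d _; simp
    · simp
  | insert j S hj ih =>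
    obtain ⟨g₀, q, h1, h2, h3, h4⟩ := ih
    let g₁ : MvPowerSeries (Option ι) k := fun d => if d (some j) = 0 then coeff d g₀ else 0
    let qj : MvPowerSeries (Option ι) k := fun d => coeff (d + Finsupp.single (some j) 1) g₀
    have hg₁ : ∀ d, coeff d g₁ = if d (some j) = 0 then coeff d g₀ else 0 := fun d => rfl
    have hqj : ∀ d, coeff d qj = coeff (d + Finsupp.single (some j) 1) g₀ := fun d => rfl
    have hsplit : g₀ = g₁ + X (some j) * qj := by
      ext d
      rw [map_add, X_def, coeff_monomial_mul, hg₁]
      by_cases hd : d (some j) = 0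
      · have hnle : ¬ Finsupp.single (some j) 1 ≤ d := by
          intro hle
          have := hle (some j)
          simp [hd] at this
        rw [if_pos hd, if_neg hnle, add_zero]
      · have hle : Finsupp.single (some j) 1 ≤ d := by
          intro s
          by_cases hs : s = some j
          · subst hs
            simp only [Finsupp.single_eq_same]
            omega
          · rw [Finsupp.single_eq_of_ne hs]
            exact Nat.zero_le _
        rw [if_neg hd, if_pos hle, zero_add, one_mul, hqj, tsub_add_cancel_of_le hle]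
    refine ⟨g₁, Function.update q j qj, ?_, ?_, ?_, ?_⟩
    · intro d hd
      rw [hg₁]
      split_ifs
      · exact h1 d hd
      · rfl
    · rintro d ⟨i, hi, hdi⟩
      rw [hg₁]
      rw [Finset.mem_insert] at hi
      rcases hi with rfl | hi
      · rw [if_neg hdi]
      · split_ifs
        · exact h2 d ⟨i, hi, hdi⟩
        · rfl
    · intro i
      by_cases hij : i = j
      · subst hij
        rw [Function.update_self]
        intro d hd
        rw [hqj]
        apply h1
        rw [map_add, Finsupp.degree_single]
        omega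
      · rw [Function.update_of_ne hij]
        exact h3 i
    · rw [Finset.sum_insert hj, Function.update_self, h4]
      have hcongr : ∑ i ∈ S, X (some i) * Function.update q j qj i = ∑ i ∈ S, X (some i) * q i := by
        refine Finset.sum_congr rfl fun i hi => ?_
        rw [Function.update_of_ne]
        rintro rfl
        exact hj hi
      rw [hcongr]
      conv_lhs => rw [hsplit]
      ring

theorem div {ι : Type*} {k : Type*} [Field k] [Fintype ι] [DecidableEq ι] (N : ℕ)
    (g : MvPowerSeries (Option ι) k) (hg : ordGE (N + 1) g) :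
    ∃ (u : MvPowerSeries (Option ι) k) (q : ι → MvPowerSeries (Option ι) k),
      (∀ j, ordGE N (q j)) ∧ g = X none ^ (N + 1) * u + ∑ j, X (some j) * q j := by
  obtain ⟨g₀, q, h1, h2, h3, h4⟩ := div_aux N g hg Finset.univ
  have hdvd : (X none : MvPowerSeries (Option ι) k) ^ (N + 1) ∣ g₀ := by
    rw [X_pow_dvd_iff]
    intro d hd
    by_cases hex : ∃ j, d (some j) ≠ 0
    · obtain ⟨j, hj⟩ := hex
      exact h2 d ⟨j, Finset.mem_univ j, hj⟩
    · push Not at hex
      apply h1
      rw [Finsupp.degree_eq_sum, Fintype.sum_option]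
      simp only [hex, Finset.sum_const_zero, add_zero]
      exact hd
  obtain ⟨u, hu⟩ := hdvd
  exact ⟨u, q, h3, by rw [h4, hu]⟩

theorem mem_max_of_ord {τ : Type*} {k : Type*} [Field k] {g : MvPowerSeries τ k}
    (h : ordGE 1 g) : g ∈ IsLocalRing.maximalIdeal (MvPowerSeries τ k) := by
  rw [IsLocalRing.mem_maximalIdeal, mem_nonunits_iff, MvPowerSeries.isUnit_iff_constantCoeff,
    isUnit_iff_ne_zero, not_not, ← coeff_zero_eq_constantCoeff_apply]
  exact h 0 (by simp)

theorem ordGE_X {τ : Type*} {k : Type*} [Field k] (s : τ) :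
    ordGE 1 (X s : MvPowerSeries τ k) := by
  classical
  intro d hd
  rw [coeff_X, if_neg]
  rintro rfl
  rw [Finsupp.degree_single] at hd
  omega


/-- The formal computation carried out in its proof: let k be a field of characteristic 2, m a natural
number, and f a power series over k in the variables x_0 and x_i, x_i' (i = 1, ..., m) whose terms
of degree less than 3 are exactly those of x_0^2 + x_1 x_1' + ... + x_m x_m'. Then the ideal
generated by f and all its partial derivatives is the ideal generated by x_0^2 and the x_i, x_i',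
and the quotient of the power series ring by this ideal is two-dimensional over k. (Characteristic 2
is what makes the derivative in x_0 lose its linear term.) -/
theorem result (k : Type u) [Field k] [CharP k 2] (m : ℕ)
    (f : MvPowerSeries (Option (Fin m ⊕ Fin m)) k)
    (hf : ∀ d : Option (Fin m ⊕ Fin m) →₀ ℕ, d.degree < 3 →
      MvPowerSeries.coeff d f = MvPowerSeries.coeff d
        (MvPowerSeries.X none ^ 2 +
          ∑ i : Fin m, MvPowerSeries.X (some (Sum.inl i)) * MvPowerSeries.X (some (Sum.inr i)))) :
    Ideal.span ({f} ∪ Set.range fun i : Option (Fin m ⊕ Fin m) => MvPowerSeries.pderiv k i f) =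
      Ideal.span ({MvPowerSeries.X none ^ 2} ∪
        Set.range fun j : Fin m ⊕ Fin m => (MvPowerSeries.X (some j) : MvPowerSeries (Option (Fin m ⊕ Fin m)) k)) ∧
    Module.finrank k (MvPowerSeries (Option (Fin m ⊕ Fin m)) k ⧸
      Ideal.span ({MvPowerSeries.X none ^ 2} ∪
        Set.range fun j : Fin m ⊕ Fin m => (MvPowerSeries.X (some j) : MvPowerSeries (Option (Fin m ⊕ Fin m)) k))) = 2 := by
  classical
  -- notation
  set J : Ideal (MvPowerSeries (Option (Fin m ⊕ Fin m)) k) := Ideal.span ({MvPowerSeries.X none ^ 2} ∪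
        Set.range fun j : Fin m ⊕ Fin m => (MvPowerSeries.X (some j) : MvPowerSeries (Option (Fin m ⊕ Fin m)) k)) with hJdef
  have hJ0 : (MvPowerSeries.X none : MvPowerSeries (Option (Fin m ⊕ Fin m)) k) ^ 2 ∈ J :=
    Ideal.subset_span (Or.inl rfl)
  have hJj : ∀ j : Fin m ⊕ Fin m, (MvPowerSeries.X (some j) : MvPowerSeries (Option (Fin m ⊕ Fin m)) k) ∈ J :=
    fun j => Ideal.subset_span (Or.inr ⟨j, rfl⟩)
  have M2J : ∀ g : MvPowerSeries (Option (Fin m ⊕ Fin m)) k, ordGE 2 g → g ∈ J := by
    intro g hg
    obtain ⟨u, q, -, rfl⟩ := div 1 g hg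
    exact J.add_mem (J.mul_mem_right _ hJ0) (J.sum_mem fun j _ => J.mul_mem_right _ (hJj j))
  have hker : ∀ g : MvPowerSeries (Option (Fin m ⊕ Fin m)) k,
      g ∈ J ↔ (MvPowerSeries.coeff 0 g = 0 ∧ MvPowerSeries.coeff (Finsupp.single none 1) g = 0) := by
    intro g
    constructor
    · intro hg
      rw [hJdef, Ideal.span_union, Submodule.mem_sup] at hg
      obtain ⟨a, ha, b, hb, rfl⟩ := hg
      rw [Ideal.mem_span_singleton'] at ha
      obtain ⟨u, rfl⟩ := ha
      rw [Ideal.mem_span_range_iff_exists_fun] at hb
      obtain ⟨c, rfl⟩ := hb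
      have hA : ∀ d : Option (Fin m ⊕ Fin m) →₀ ℕ, d none < 2 →
          MvPowerSeries.coeff d (u * MvPowerSeries.X none ^ 2) = 0 :=
        fun d hd => (MvPowerSeries.X_pow_dvd_iff.1 (Dvd.intro_left u rfl)) d hd
      have hB : ∀ d : Option (Fin m ⊕ Fin m) →₀ ℕ, (∀ j, d (some j) = 0) →
          MvPowerSeries.coeff d (∑ j, c j * MvPowerSeries.X (some j)) = 0 := by
        intro d hd
        rw [map_sum]
        exact Finset.sum_eq_zero fun j _ =>
          (MvPowerSeries.X_dvd_iff.1 (Dvd.intro_left (c j) rfl)) d (hd j)
      constructor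
      · rw [map_add, hA 0 (by simp), hB 0 (by simp), add_zero]
      · rw [map_add, hA _ (by simp), hB _ (by simp), add_zero]
    · rintro ⟨h0, h1⟩
      have hg1 : ordGE 1 g := by
        intro d hd
        have : d = 0 := by
          have : d.degree = 0 := by omega
          exact (Finsupp.degree_eq_zero_iff d).1 this
        rw [this]; exact h0
      obtain ⟨u, q, -, hgu⟩ := div 0 g hg1
      have hu0 : MvPowerSeries.coeff 0 u = 0 := by
        have h1' := h1
        rw [hgu, map_add, zero_add, pow_one, MvPowerSeries.X_def] at h1'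
        have e1 : MvPowerSeries.coeff (Finsupp.single none 1)
            (MvPowerSeries.monomial (Finsupp.single none 1) (1 : k) * u) = MvPowerSeries.coeff 0 u := by
          have := MvPowerSeries.coeff_add_monomial_mul (m := Finsupp.single none 1) (n := 0) (φ := u) (1 : k)
          rw [add_zero, one_mul] at this
          exact this
        have e2 : MvPowerSeries.coeff (Finsupp.single none 1)
            (∑ j, MvPowerSeries.monomial (Finsupp.single (some j) 1) (1 : k) * q j) = 0 := by
          rw [map_sum]
          refine Finset.sum_eq_zero fun j _ => ?_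
          rw [← MvPowerSeries.X_def]
          exact (MvPowerSeries.X_dvd_iff.1 (Dvd.intro (q j) rfl)) _ (by simp)
        rw [e1] at h1'
        simp only [← MvPowerSeries.X_def] at h1' e2
        rw [e2, add_zero] at h1'
        exact h1'
      have hu1 : ordGE 1 u := by
        intro d hd
        have : d = 0 := by
          have : d.degree = 0 := by omega
          exact (Finsupp.degree_eq_zero_iff d).1 this
        rw [this]; exact hu0
      obtain ⟨u', q', -, hu'⟩ := div 0 u hu1
      rw [hgu, hu']
      refine J.add_mem ?_ (J.sum_mem fun j _ => J.mul_mem_right _ (hJj j))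
      rw [zero_add, pow_one, mul_add]
      refine J.add_mem ?_ ?_
      · rw [← mul_assoc, ← pow_two]
        exact J.mul_mem_right _ hJ0
      · rw [Finset.mul_sum]
        refine J.sum_mem fun j _ => ?_
        rw [mul_left_comm]
        exact J.mul_mem_right _ (hJj j)
  refine ⟨?_, ?_⟩
  · -- equality of ideals
    set qd : MvPowerSeries (Option (Fin m ⊕ Fin m)) k := MvPowerSeries.X none ^ 2 +
          ∑ i : Fin m, MvPowerSeries.X (some (Sum.inl i)) * MvPowerSeries.X (some (Sum.inr i)) with hqd
    set t : MvPowerSeries (Option (Fin m ⊕ Fin m)) k := f - qd with ht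
    have hft : f = qd + t := by rw [ht]; ring
    have ht3 : ordGE 3 t := by
      intro d hd
      rw [ht, map_sub, hf d hd, sub_self]
    have hdt : ∀ s, ordGE 2 (MvPowerSeries.pderiv k s t) := by
      intro s d hd
      rw [MvPowerSeries.coeff_pderiv, ht3 _ (by rw [map_add, Finsupp.degree_single]; omega), zero_mul]
    have h2k : ((2 : ℕ) : MvPowerSeries (Option (Fin m ⊕ Fin m)) k) = 0 := by
      rw [← map_natCast (MvPowerSeries.C (σ := Option (Fin m ⊕ Fin m)) (R := k)), CharP.cast_eq_zero k 2, map_zero]
    have hd0 : ∀ s, MvPowerSeries.pderiv k s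
        ((MvPowerSeries.X none : MvPowerSeries (Option (Fin m ⊕ Fin m)) k) ^ 2) = 0 := by
      intro s
      rw [MvPowerSeries.pderiv_pow, h2k, zero_mul, zero_mul]
    have hder_none : MvPowerSeries.pderiv k none qd = 0 := by
      rw [hqd, map_add, map_sum, hd0, zero_add]
      refine Finset.sum_eq_zero fun i _ => ?_
      rw [Derivation.leibniz,
        MvPowerSeries.pderiv_X_of_ne (R := k) (i := none) (j := some (Sum.inr i)) (by simp),
        MvPowerSeries.pderiv_X_of_ne (R := k) (i := none) (j := some (Sum.inl i)) (by simp),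
        smul_zero, smul_zero, add_zero]
    have hder_inl : ∀ i : Fin m, MvPowerSeries.pderiv k (some (Sum.inl i)) qd =
        MvPowerSeries.X (some (Sum.inr i)) := by
      intro i
      rw [hqd, map_add, map_sum, hd0, zero_add, Finset.sum_eq_single i]
      · rw [Derivation.leibniz, MvPowerSeries.pderiv_X_self,
          MvPowerSeries.pderiv_X_of_ne (R := k) (i := some (Sum.inl i)) (j := some (Sum.inr i)) (by simp),
          smul_zero, zero_add, smul_eq_mul, mul_one]
      · intro i' _ hne
        rw [Derivation.leibniz,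
          MvPowerSeries.pderiv_X_of_ne (R := k) (i := some (Sum.inl i)) (j := some (Sum.inr i')) (by simp),
          MvPowerSeries.pderiv_X_of_ne (R := k) (i := some (Sum.inl i)) (j := some (Sum.inl i'))
            (by simpa using hne),
          smul_zero, smul_zero, add_zero]
      · intro h; exact absurd (Finset.mem_univ i) h
    have hder_inr : ∀ i : Fin m, MvPowerSeries.pderiv k (some (Sum.inr i)) qd =
        MvPowerSeries.X (some (Sum.inl i)) := by
      intro i
      rw [hqd, map_add, map_sum, hd0, zero_add, Finset.sum_eq_single i]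
      · rw [Derivation.leibniz, MvPowerSeries.pderiv_X_self,
          MvPowerSeries.pderiv_X_of_ne (R := k) (i := some (Sum.inr i)) (j := some (Sum.inl i)) (by simp),
          smul_zero, add_zero, smul_eq_mul, mul_one]
      · intro i' _ hne
        rw [Derivation.leibniz,
          MvPowerSeries.pderiv_X_of_ne (R := k) (i := some (Sum.inr i)) (j := some (Sum.inr i'))
            (by simpa using hne),
          MvPowerSeries.pderiv_X_of_ne (R := k) (i := some (Sum.inr i)) (j := some (Sum.inl i')) (by simp),
          smul_zero, smul_zero, add_zero]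
      · intro h; exact absurd (Finset.mem_univ i) h
    have hqdJ : qd ∈ J := by
      rw [hqd]
      exact J.add_mem hJ0 (J.sum_mem fun i _ => J.mul_mem_left _ (hJj _))
    have hderJ : ∀ s, MvPowerSeries.pderiv k s qd ∈ J := by
      intro s
      rcases s with _ | (i | i)
      · rw [hder_none]; exact J.zero_mem
      · rw [hder_inl]; exact hJj _
      · rw [hder_inr]; exact hJj _
    apply le_antisymm
    · -- I ≤ J
      rw [Ideal.span_le]
      rintro x (hx | ⟨s, rfl⟩)
      · rw [Set.mem_singleton_iff] at hx
        rw [hx, hft]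
        exact J.add_mem hqdJ (M2J t (ordGE_mono (by norm_num) ht3))
      · show MvPowerSeries.pderiv k s f ∈ J
        rw [hft, map_add]
        exact J.add_mem (hderJ s) (M2J _ (hdt s))
    · -- J ≤ I by Nakayama
      set I : Ideal (MvPowerSeries (Option (Fin m ⊕ Fin m)) k) :=
        Ideal.span ({f} ∪ Set.range fun i : Option (Fin m ⊕ Fin m) => MvPowerSeries.pderiv k i f) with hIdef
      have hfI : f ∈ I := Ideal.subset_span (Or.inl rfl)
      have hdI : ∀ s, MvPowerSeries.pderiv k s f ∈ I := fun s => Ideal.subset_span (Or.inr ⟨s, rfl⟩)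
      have hJfg : (J : Submodule _ _).FG :=
        Submodule.fg_span ((Set.finite_singleton _).union (Set.finite_range _))
      have hjac : IsLocalRing.maximalIdeal (MvPowerSeries (Option (Fin m ⊕ Fin m)) k) ≤
          Ideal.jacobson ⊥ := (IsLocalRing.jacobson_eq_maximalIdeal ⊥ bot_ne_top).ge
      refine Submodule.le_of_le_smul_of_le_jacobson_bot hJfg hjac ?_
      -- abbreviations
      set mJ : Ideal (MvPowerSeries (Option (Fin m ⊕ Fin m)) k) :=
        IsLocalRing.maximalIdeal (MvPowerSeries (Option (Fin m ⊕ Fin m)) k) • J with hmJ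
      have hXm : ∀ s, (MvPowerSeries.X s : MvPowerSeries (Option (Fin m ⊕ Fin m)) k) ∈
          IsLocalRing.maximalIdeal (MvPowerSeries (Option (Fin m ⊕ Fin m)) k) :=
        fun s => mem_max_of_ord (ordGE_X s)
      have hmul : ∀ a b : MvPowerSeries (Option (Fin m ⊕ Fin m)) k,
          a ∈ IsLocalRing.maximalIdeal (MvPowerSeries (Option (Fin m ⊕ Fin m)) k) → b ∈ J →
          a * b ∈ mJ := fun a b ha hb => Submodule.smul_mem_smul ha hb
      have M3mJ : ∀ g : MvPowerSeries (Option (Fin m ⊕ Fin m)) k, ordGE 3 g → g ∈ mJ := by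
        intro g hg
        obtain ⟨u, q, hq, rfl⟩ := div 2 g hg
        refine mJ.add_mem ?_ (mJ.sum_mem fun j _ => ?_)
        · have : (MvPowerSeries.X none : MvPowerSeries (Option (Fin m ⊕ Fin m)) k) ^ (2 + 1) * u =
              MvPowerSeries.X none * (MvPowerSeries.X none ^ 2 * u) := by ring
          rw [this]
          exact hmul _ _ (hXm none) (J.mul_mem_right _ hJ0)
        · rw [mul_comm]
          exact hmul _ _ (mem_max_of_ord (ordGE_mono (by norm_num) (hq j))) (hJj j)
      have M2' : ∀ g : MvPowerSeries (Option (Fin m ⊕ Fin m)) k, ordGE 2 g →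
          ∃ u, g - MvPowerSeries.X none ^ 2 * u ∈ mJ := by
        intro g hg
        obtain ⟨u, q, hq, rfl⟩ := div 1 g hg
        refine ⟨u, ?_⟩
        rw [add_sub_cancel_left]
        refine mJ.sum_mem fun j _ => ?_
        rw [mul_comm]
        exact hmul _ _ (mem_max_of_ord (hq j)) (hJj j)
      have hsumJ : (∑ i : Fin m, MvPowerSeries.X (some (Sum.inl i)) * MvPowerSeries.X (some (Sum.inr i)) :
          MvPowerSeries (Option (Fin m ⊕ Fin m)) k) ∈ mJ :=
        mJ.sum_mem fun i _ => hmul _ _ (hXm _) (hJj _)
      have hX0 : (MvPowerSeries.X none : MvPowerSeries (Option (Fin m ⊕ Fin m)) k) ^ 2 ∈ I ⊔ mJ := by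
        have : (MvPowerSeries.X none : MvPowerSeries (Option (Fin m ⊕ Fin m)) k) ^ 2 =
            f - (∑ i : Fin m, MvPowerSeries.X (some (Sum.inl i)) * MvPowerSeries.X (some (Sum.inr i))) - t := by
          rw [ht, hqd]; ring
        rw [this]
        exact Submodule.sub_mem _ (Submodule.sub_mem _ (Submodule.mem_sup_left hfI)
          (Submodule.mem_sup_right hsumJ)) (Submodule.mem_sup_right (M3mJ t ht3))
      have M2I : ∀ g : MvPowerSeries (Option (Fin m ⊕ Fin m)) k, ordGE 2 g → g ∈ I ⊔ mJ := by
        intro g hg
        obtain ⟨u, hu⟩ := M2' g hg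
        have : g = MvPowerSeries.X none ^ 2 * u + (g - MvPowerSeries.X none ^ 2 * u) := by ring
        rw [this]
        exact Submodule.add_mem _ (Ideal.mul_mem_right _ _ hX0) (Submodule.mem_sup_right hu)
      show J ≤ I ⊔ mJ
      rw [hJdef, Ideal.span_le]
      rintro x (hx | ⟨j, rfl⟩)
      · rw [Set.mem_singleton_iff] at hx
        rw [hx]; exact hX0
      · show (MvPowerSeries.X (some j) : MvPowerSeries (Option (Fin m ⊕ Fin m)) k) ∈ I ⊔ mJ
        rcases j with i | i
        · have : (MvPowerSeries.X (some (Sum.inl i)) : MvPowerSeries (Option (Fin m ⊕ Fin m)) k) =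
              MvPowerSeries.pderiv k (some (Sum.inr i)) f - MvPowerSeries.pderiv k (some (Sum.inr i)) t := by
            rw [hft, map_add, hder_inr]; ring
          rw [this]
          exact Submodule.sub_mem _ (Submodule.mem_sup_left (hdI _)) (M2I _ (hdt _))
        · have : (MvPowerSeries.X (some (Sum.inr i)) : MvPowerSeries (Option (Fin m ⊕ Fin m)) k) =
              MvPowerSeries.pderiv k (some (Sum.inl i)) f - MvPowerSeries.pderiv k (some (Sum.inl i)) t := by
            rw [hft, map_add, hder_inl]; ring
          rw [this]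
          exact Submodule.sub_mem _ (Submodule.mem_sup_left (hdI _)) (M2I _ (hdt _))
  · -- finrank
    let φ : MvPowerSeries (Option (Fin m ⊕ Fin m)) k →ₗ[k] k × k :=
      (MvPowerSeries.coeff 0).prod (MvPowerSeries.coeff (Finsupp.single none 1))
    have hφ : ∀ g, φ g = (MvPowerSeries.coeff 0 g, MvPowerSeries.coeff (Finsupp.single none 1) g) :=
      fun g => rfl
    have hsurj : Function.Surjective φ := by
      rintro ⟨a, b⟩
      refine ⟨MvPowerSeries.monomial 0 a + MvPowerSeries.monomial (Finsupp.single none 1) b, ?_⟩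
      have hne : (Finsupp.single none 1 : Option (Fin m ⊕ Fin m) →₀ ℕ) ≠ 0 := by
        intro h
        have := DFunLike.congr_fun h none
        simp at this
      rw [hφ, map_add, map_add, MvPowerSeries.coeff_monomial, MvPowerSeries.coeff_monomial,
        MvPowerSeries.coeff_monomial, MvPowerSeries.coeff_monomial, if_pos rfl, if_pos rfl,
        if_neg hne.symm, if_neg hne, add_zero, zero_add]
    have hkerφ : (J.restrictScalars k) = LinearMap.ker φ := by
      ext g
      rw [Submodule.restrictScalars_mem, LinearMap.mem_ker, hφ, Prod.mk_eq_zero]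
      exact hker g
    let e1 := φ.quotKerEquivOfSurjective hsurj
    let e2 := Submodule.quotEquivOfEq (J.restrictScalars k) (LinearMap.ker φ) hkerφ
    let e3 := Submodule.Quotient.restrictScalarsEquiv k J
    have := (e3.symm.trans (e2.trans e1)).finrank_eq
    rw [this, Module.finrank_prod, Module.finrank_self]

end Groth.Agent.S8720
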