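import Groth.Statements.S8721
import Mathlib
import Groth.Agent.H8Sig3

set_option autoImplicit false
universe u v
open SGA7II

namespace Groth.Agent.S8721

/-- Let k be a separably closed field of characteristic p > 0, q = p^r with r >= 1, V a
finite-dimensional k-vector space and phi : V -> V additive with phi(c v) = c^q phi(v). Let V_ss be
the intersection, over n >= 1, of the k-subspaces spanned by the images of the iterates phi^n (the
semisimple part of V). Then V_ss has a k-basis consisting of phi-fixed vectors, and every phi-fixed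
vector of V is a linear combination of this basis with coefficients c satisfying c^q = c; that is,
V_ss is obtained from the F_q-space of fixed vectors by extension of scalars. -/
theorem result (k : Type u) [Field k] [IsSepClosed k] (p : ℕ)
    [Fact p.Prime] [CharP k p] (r : ℕ) (hr : 0 < r) (V : Type v) [AddCommGroup V] [Module k V]
    [FiniteDimensional k V] (φ : V →+ V) (hφ : ∀ (c : k) (v : V), φ (c • v) = c ^ (p ^ r) • φ v) :
    let Vss : Submodule k V := ⨅ n : ℕ, Submodule.span k (Set.range (φ^[n + 1]))
    ∃ b : Module.Basis (Fin (Module.finrank k ↥Vss)) k ↥Vss, (∀ i, φ (b i : V) = (b i : V)) ∧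
      ∀ v : V, φ v = v → ∃ c : Fin (Module.finrank k ↥Vss) → k,
        (∀ i, c i ^ (p ^ r) = c i) ∧ v = ∑ i, c i • (b i : V) := by
  intro Vss
  classical
  set σ : k →+* k := iterateFrobenius k p r with hσdef
  have hσ : ∀ c, σ c = c ^ (p ^ r) := fun c => iterateFrobenius_def p r c
  let T : V →ₛₗ[σ] V :=
    { toFun := φ
      map_add' := φ.map_add
      map_smul' := fun c v => by
        show φ (c • v) = σ c • φ v
        rw [hσ, hφ] }
  have hT : ∀ v, T v = φ v := fun v => rfl
  have h2 := H8Sig.h2_pow p r hr σ hσ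
  have h3 := H8Sig.h3_pow p r hr σ hσ
  obtain ⟨M, hM⟩ := H8Sig.exists_stable_rangeSpan T
  have hV : Vss = H8Sig.rangeSpan T M := H8Sig.iInf_rangeSpan_succ T M hM
  obtain ⟨b, hb⟩ := H8Sig.exists_basis_fixed_stable T h2 h3 Vss M hV (hM (M + 1) (Nat.le_succ M))
  refine ⟨b, hb, ?_⟩
  intro v hv
  have hvV : v ∈ Vss := by
    rw [hV]
    exact H8Sig.fixed_mem_rangeSpan T M v hv
  set x : Vss := ⟨v, hvV⟩ with hx
  have hxsum : (x : V) = ∑ i, (b.repr x i) • (b i : V) := by
    conv_lhs => rw [← b.sum_repr x]
    rw [Submodule.coe_sum]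
    rfl
  have hy : (∑ i, σ (b.repr x i) • b i : Vss) = x := by
    apply Subtype.ext
    rw [Submodule.coe_sum]
    have h5 : T v = ∑ i, σ (b.repr x i) • (b i : V) := by
      have hv' : v = ∑ i, (b.repr x i) • (b i : V) := hxsum
      conv_lhs => rw [hv']
      rw [map_sum]
      apply Finset.sum_congr rfl
      intro i _
      rw [map_smulₛₗ, hb]
    show ∑ i, ((σ (b.repr x i) • b i : Vss) : V) = v
    have h6 : ∀ i, ((σ (b.repr x i) • b i : Vss) : V) = σ (b.repr x i) • (b i : V) := fun i => rfl
    simp only [h6]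
    rw [← h5, hT, hv]
  refine ⟨fun i => b.repr x i, ?_, hxsum⟩
  intro i
  have h7 : b.repr (∑ j, σ (b.repr x j) • b j : Vss) i = σ (b.repr x i) := by
    rw [b.repr_sum_self]
  rw [hy, hσ] at h7
  exact h7.symm

end Groth.Agent.S8721
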