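import Groth.Statements.S8722
import Mathlib
import Groth.Agent.H8Sig3

set_option autoImplicit false
universe u v
open SGA7II

namespace Groth.Agent.S8722

/-- Let k be a separably closed field of characteristic p > 0, q = p^r with r >= 1, V a
finite-dimensional k-vector space and phi : V -> V additive with phi(c v) = c^q phi(v), semisimple
in the sense that its image spans V. Then for n >= 1 the fixed vectors of the n-th iterate of phi
are exactly the finite linear combinations of phi-fixed vectors with coefficients c satisfying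
c^(q^n) = c; that is, the fixed space of phi^n is obtained from the F_q-space of phi-fixed vectors
by extending scalars to F_{q^n}. -/
theorem result (k : Type u) [Field k] [IsSepClosed k] (p : ℕ)
    [Fact p.Prime] [CharP k p] (r : ℕ) (hr : 0 < r) (V : Type v) [AddCommGroup V] [Module k V]
    [FiniteDimensional k V] (φ : V →+ V) (hφ : ∀ (c : k) (v : V), φ (c • v) = c ^ (p ^ r) • φ v)
    (hss : Submodule.span k (Set.range φ) = ⊤) (n : ℕ) (hn : 0 < n) (v : V) :
    φ^[n] v = v ↔ ∃ (s : Finset V) (c : V → k), (∀ w ∈ s, φ w = w) ∧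
      (∀ w ∈ s, c w ^ ((p ^ r) ^ n) = c w) ∧ v = ∑ w ∈ s, c w • w := by
  classical
  set σ : k →+* k := iterateFrobenius k p r with hσdef
  have hσ : ∀ c, σ c = c ^ (p ^ r) := fun c => iterateFrobenius_def p r c
  let T : V →ₛₗ[σ] V :=
    { toFun := φ
      map_add' := φ.map_add
      map_smul' := fun c v => by
        show φ (c • v) = σ c • φ v
        rw [hσ, hφ] }
  have hT : ∀ v, T v = φ v := fun v => rfl
  have hTn : ∀ (m : ℕ) (v : V), (⇑T)^[m] v = φ^[m] v := fun m v => rfl
  have h1 : Submodule.span k (Set.range ⇑T) = ⊤ := hss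
  obtain ⟨⟨b, hb⟩, -⟩ := H8Sig.exists_basis_fixed T h1 (H8Sig.h2_pow p r hr σ hσ)
    (H8Sig.h3_pow p r hr σ hσ)
  have hfixn : ∀ (m : ℕ) (w : V), φ w = w → φ^[m] w = w := by
    intro m w hw
    exact Function.iterate_fixed hw m
  have hsum : ∀ (ι : Type) (s : Finset ι) (f : ι → V) (m : ℕ),
      (⇑T)^[m] (∑ i ∈ s, f i) = ∑ i ∈ s, (⇑T)^[m] (f i) := by
    intro ι s f m
    induction s using Finset.induction_on with
    | empty => simp [H8Sig.iter_zero]
    | insert a s ha ih => rw [Finset.sum_insert ha, Finset.sum_insert ha, H8Sig.iter_add, ih]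
  have hsumV : ∀ (s : Finset V) (f : V → V) (m : ℕ),
      (⇑T)^[m] (∑ i ∈ s, f i) = ∑ i ∈ s, (⇑T)^[m] (f i) := by
    intro s f m
    induction s using Finset.induction_on with
    | empty => simp [H8Sig.iter_zero]
    | insert a s ha ih => rw [Finset.sum_insert ha, Finset.sum_insert ha, H8Sig.iter_add, ih]
  constructor
  · intro hv
    have hrepr : ∀ i, (b.repr v i) ^ ((p ^ r) ^ n) = b.repr v i := by
      intro i
      have h2 : (⇑T)^[n] v = ∑ j, ((b.repr v j) ^ ((p ^ r) ^ n)) • b j := by
        conv_lhs => rw [← b.sum_repr v]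
        rw [hsum]
        apply Finset.sum_congr rfl
        intro j _
        rw [H8Sig.iter_smul, H8Sig.iter_pow σ (p ^ r) hσ, hTn, hfixn n (b j) (hb j)]
      have h3 : b.repr ((⇑T)^[n] v) i = (b.repr v i) ^ ((p ^ r) ^ n) := by
        rw [h2, b.repr_sum_self]
      rw [hTn, hv] at h3
      exact h3.symm
    refine ⟨Finset.univ.image b, fun w => if h : ∃ i, b i = w then b.repr v (Classical.choose h) else 0,
      ?_, ?_, ?_⟩
    · intro w hw
      obtain ⟨i, -, rfl⟩ := Finset.mem_image.mp hw
      exact hb i
    · intro w hw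
      obtain ⟨i, -, rfl⟩ := Finset.mem_image.mp hw
      have hex : ∃ j, b j = b i := ⟨i, rfl⟩
      show (if h : ∃ j, b j = b i then (b.repr v) (Classical.choose h) else 0) ^ ((p ^ r) ^ n)
        = (if h : ∃ j, b j = b i then (b.repr v) (Classical.choose h) else 0)
      rw [dif_pos hex]
      exact hrepr _
    · rw [Finset.sum_image (fun x _ y _ hxy => b.injective hxy)]
      conv_lhs => rw [← b.sum_repr v]
      apply Finset.sum_congr rfl
      intro i _
      have hex : ∃ j, b j = b i := ⟨i, rfl⟩
      show (b.repr v) i • b i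
        = (if h : ∃ j, b j = b i then (b.repr v) (Classical.choose h) else 0) • b i
      rw [dif_pos hex]
      have : Classical.choose hex = i := b.injective (Classical.choose_spec hex)
      rw [this]
  · rintro ⟨s, c, hfix, hc, rfl⟩
    rw [← hTn, hsumV]
    apply Finset.sum_congr rfl
    intro w hw
    rw [H8Sig.iter_smul, H8Sig.iter_pow σ (p ^ r) hσ, hTn, hfixn n w (hfix w hw), hc w hw]

end Groth.Agent.S8722
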