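import Groth.Statements.S8854
import Mathlib

set_option autoImplicit false
universe u
open SDiv

namespace Groth.Agent.S8854

/-- Let R be a Noetherian unique factorisation domain and I ⊆ R an ideal such that every associated
prime of R/I is minimal over I (R/I has no embedded primes) and every prime minimal over I has
height 1. Then I is principal: it is generated by one element. -/
theorem result (R : Type u) [CommRing R] [IsDomain R] [IsNoetherianRing R]
    [UniqueFactorizationMonoid R] (I : Ideal R)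
    (h1 : ∀ p : Ideal R, p ∈ associatedPrimes R (R ⧸ I) → p ∈ I.minimalPrimes)
    (h2 : ∀ p : Ideal R, p ∈ I.minimalPrimes → p.height = 1) :
    ∃ f : R, I = Ideal.span {f} := by
  classical
  by_cases hI0 : I = ⊥
  · exact ⟨0, by rw [hI0]; simp⟩
  obtain ⟨x₀, hx₀I, hx₀⟩ := Submodule.exists_mem_ne_zero_of_ne_bot hI0
  have hfin : I.minimalPrimes.Finite := Ideal.finite_minimalPrimes_of_isNoetherianRing R I
  set S := hfin.toFinset with hSdef
  have hS : ∀ p, p ∈ S ↔ p ∈ I.minimalPrimes := fun p => hfin.mem_toFinset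
  have hgen : ∀ p ∈ I.minimalPrimes, ∃ π : R, Prime π ∧ p = Ideal.span {π} := by
    intro p hp
    haveI : p.IsPrime := hp.1.1
    have hp1 := h2 p hp
    have hpb : p ≠ ⊥ := Ideal.ne_bot_of_height_eq_one hp1
    obtain ⟨π, hπp, hπ⟩ := Ideal.IsPrime.exists_mem_prime_of_ne_bot ‹p.IsPrime› hpb
    exact ⟨π, hπ, Ideal.eq_span_singleton_of_height_eq_one hp1 hπp hπ⟩
  choose! π hπ hpπ using hgen
  have hexp : ∀ p ∈ I.minimalPrimes, ∃ n : ℕ, I ≤ Ideal.span {π p ^ n} ∧
      ¬ I ≤ Ideal.span {π p ^ (n + 1)} := by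
    intro p hp
    by_contra hcon
    push Not at hcon
    have hall : ∀ n : ℕ, I ≤ Ideal.span {π p ^ n} := by
      intro n
      induction n with
      | zero => simp
      | succ n ih => exact hcon n ih
    obtain ⟨n, hn⟩ := FiniteMultiplicity.of_prime_left (hπ p hp) hx₀
    exact hn (Ideal.mem_span_singleton.1 (hall (n + 1) hx₀I))
  choose! n hn1 hn2 using hexp
  refine ⟨∏ p ∈ S, π p ^ n p, le_antisymm ?_ ?_⟩
  · intro x hx
    rw [Ideal.mem_span_singleton]
    have key : ∀ T : Finset (Ideal R), T ⊆ S → ∏ p ∈ T, π p ^ n p ∣ x := by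
      intro T
      induction T using Finset.induction_on with
      | empty => intro _; simp
      | insert q T hq ih =>
        intro hT
        rw [Finset.prod_insert hq]
        have hqS : q ∈ I.minimalPrimes := (hS q).1 (hT (Finset.mem_insert_self q T))
        obtain ⟨c, hc⟩ := ih (fun p hp => hT (Finset.mem_insert_of_mem hp))
        have h1' : π q ^ n q ∣ x := Ideal.mem_span_singleton.1 (hn1 q hqS hx)
        have h2' : ¬ π q ∣ ∏ p ∈ T, π p ^ n p := by
          intro hdvd
          obtain ⟨p, hpT, hdp⟩ := (Prime.dvd_finsetProd_iff (hπ q hqS) _).1 hdvd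
          have hpS : p ∈ I.minimalPrimes := (hS p).1 (hT (Finset.mem_insert_of_mem hpT))
          have hdp' : π q ∣ π p := (hπ q hqS).dvd_of_dvd_pow hdp
          have hle : p ≤ q := by
            rw [hpπ p hpS, hpπ q hqS, Ideal.span_singleton_le_span_singleton]
            exact hdp'
          have hqp : q ≤ p := hqS.2 hpS.1 hle
          have : p = q := le_antisymm hle hqp
          exact hq (this ▸ hpT)
        rw [hc] at h1' ⊢
        have h3 := (hπ q hqS).pow_dvd_of_dvd_mul_left (n q) h2' h1'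
        rw [mul_comm]
        exact mul_dvd_mul_left _ h3
    exact key S (Finset.Subset.refl S)
  · rw [Ideal.span_singleton_le_iff_mem]
    by_contra hfI
    have hx : (Ideal.Quotient.mk I (∏ p ∈ S, π p ^ n p)) ≠ 0 := by
      rwa [Ne, Ideal.Quotient.eq_zero_iff_mem]
    obtain ⟨P, hP, hle⟩ := exists_le_isAssociatedPrime_of_isNoetherianRing R
      (Ideal.Quotient.mk I (∏ p ∈ S, π p ^ n p)) hx
    have hPmin : P ∈ I.minimalPrimes := h1 P hP
    have hPS : P ∈ S := (hS P).2 hPmin
    obtain ⟨y, hyI, hy⟩ := SetLike.not_le_iff_exists.1 (hn2 P hPmin)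
    obtain ⟨s, hs⟩ := Ideal.mem_span_singleton.1 (hn1 P hPmin hyI)
    have hsπ : ¬ π P ∣ s := by
      rintro ⟨t, ht⟩
      apply hy
      rw [Ideal.mem_span_singleton, hs, ht, pow_succ]
      exact ⟨t, by ring⟩
    have hsmem : s ∈ (⊥ : Submodule R (R ⧸ I)).colon {Ideal.Quotient.mk I (∏ p ∈ S, π p ^ n p)} := by
      rw [Submodule.mem_colon_singleton, Submodule.mem_bot]
      have e1 : s • (Ideal.Quotient.mk I (∏ p ∈ S, π p ^ n p)) =
          Ideal.Quotient.mk I (s * ∏ p ∈ S, π p ^ n p) := rfl
      rw [e1, Ideal.Quotient.eq_zero_iff_mem, ← Finset.mul_prod_erase S (fun p => π p ^ n p) hPS]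
      have e2 : s * (π P ^ n P * ∏ p ∈ S.erase P, π p ^ n p) =
          y * ∏ p ∈ S.erase P, π p ^ n p := by rw [hs]; ring
      rw [e2]
      exact Ideal.mul_mem_right _ _ hyI
    have h5 := hle hsmem
    rw [hpπ P hPmin, Ideal.mem_span_singleton] at h5
    exact hsπ h5

end Groth.Agent.S8854
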