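import Groth.Statements.S8925
import Mathlib

set_option autoImplicit false
universe u
open InjHull

namespace Groth.Agent.S8925

/-- If S is a flat R-algebra and E is an injective S-module, then E, viewed as an R-module by
restriction of scalars, is an injective R-module. -/
theorem result (R S : Type u) [CommRing R] [CommRing S] [Algebra R S] [Module.Flat R S] (E : Type u) [AddCommGroup E] [Module S E] [Module R E] [IsScalarTower R S E] [Module.Injective S E] : Module.Injective R E := by
  classical
  apply Module.Baer.injective
  intro I g
  let G : TensorProduct R S I →ₗ[S] E := LinearMap.liftBaseChange S g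
  let j : TensorProduct R S I →ₗ[S] S :=
    (TensorProduct.AlgebraTensorModule.rid R S S).toLinearMap ∘ₗ (LinearMap.baseChange S I.subtype)
  have hj : Function.Injective j := by
    refine (TensorProduct.AlgebraTensorModule.rid R S S).injective.comp ?_
    have := Module.Flat.lTensor_preserves_injective_linearMap (M := S) I.subtype
      (Submodule.injective_subtype I)
    exact this
  obtain ⟨h, hh⟩ := Module.Injective.out j hj G
  refine ⟨(h.restrictScalars R) ∘ₗ (Algebra.linearMap R S), ?_⟩
  intro x hx
  have h1 : j (TensorProduct.tmul R (1 : S) (⟨x, hx⟩ : I)) = algebraMap R S x := by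
    show (TensorProduct.AlgebraTensorModule.rid R S S) (TensorProduct.tmul R (1 : S) x) = _
    rw [TensorProduct.AlgebraTensorModule.rid_tmul, Algebra.smul_def, mul_one]
  have h2 := hh (TensorProduct.tmul R (1 : S) (⟨x, hx⟩ : I))
  rw [h1] at h2
  show h (algebraMap R S x) = _
  rw [h2, LinearMap.liftBaseChange_tmul, one_smul]

end Groth.Agent.S8925
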