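import Groth.Statements.S8926
import Mathlib

set_option autoImplicit false
universe u
open InjHull

namespace Groth.Agent.S8926

/-- Suppose R → S is an epimorphism of rings and E is an S-module whose underlying R-module (via
restriction of scalars) is injective; then E is injective as an S-module as well. -/
theorem result (R S : Type u) [CommRing R] [CommRing S] [Algebra R S] [Algebra.IsEpi R S] (E : Type u) [AddCommGroup E] [Module S E] [Module R E] [IsScalarTower R S E] [Module.Injective R E] : Module.Injective S E := by
  classical
  refine ⟨fun X Y _ _ _ _ i hi g => ?_⟩
  letI : Module R X := Module.compHom X (algebraMap R S)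
  letI : Module R Y := Module.compHom Y (algebraMap R S)
  haveI : IsScalarTower R S X := IsScalarTower.of_algebraMap_smul fun r x => rfl
  haveI : IsScalarTower R S Y := IsScalarTower.of_algebraMap_smul fun r x => rfl
  obtain ⟨h, hh⟩ := Module.Injective.out (i.restrictScalars R) hi (g.restrictScalars R)
  -- h is S-linear
  have hlin : ∀ (s : S) (y : Y), h (s • y) = s • h y := by
    intro s y
    let β : S →ₗ[R] S →ₗ[R] E := LinearMap.mk₂ R (fun a b => a • h (b • y))
      (fun a a' b => by simp only [add_smul])
      (fun r a b => by simp only [smul_assoc])
      (fun a b b' => by simp only [add_smul, map_add, smul_add])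
      (fun r a b => by
        simp only [smul_assoc, map_smul]
        rw [smul_comm])
    let T : TensorProduct R S S →ₗ[R] E := TensorProduct.lift β
    have h1 : T (TensorProduct.tmul R 1 s) = h (s • y) := by
      simp only [T, TensorProduct.lift.tmul, β, LinearMap.mk₂_apply, one_smul]
    have h2 : T (TensorProduct.tmul R s 1) = s • h y := by
      simp only [T, TensorProduct.lift.tmul, β, LinearMap.mk₂_apply, one_smul]
    rw [← h1, ← h2, (Algebra.isEpi_iff_forall_one_tmul_eq R S).1 inferInstance s]
  refine ⟨{ toFun := h, map_add' := h.map_add, map_smul' := hlin }, fun x => ?_⟩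
  exact hh x

end Groth.Agent.S8926
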