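import Groth.Statements.S8936
import Mathlib

set_option autoImplicit false
universe u v
open InjHull

namespace Groth.Agent.S8936

/-- For a directed system (E_i) of R-modules over a nonempty directed preorder and a compatible family
of essential injections M → E_i, the induced map from M to the direct limit of the E_i is an
essential injection. -/
theorem result (R : Type u) [CommRing R] (ι : Type v) [Preorder ι] [IsDirectedOrder ι] [DecidableEq ι] (i₀ : ι) (E : ι → Type v) [∀ i, AddCommGroup (E i)] [∀ i, Module R (E i)] (f : ∀ i j, i ≤ j → E i →ₗ[R] E j) [DirectedSystem E fun i j h => f i j h] (M : Type v) [AddCommGroup M] [Module R M] (g : ∀ i, M →ₗ[R] E i) (hg : ∀ i j (h : i ≤ j), f i j h ∘ₗ g i = g j) (he : ∀ i, InjHull.IsEssentialInj (g i)) : InjHull.IsEssentialInj (Module.DirectLimit.of R ι E f i₀ ∘ₗ g i₀) := by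
  haveI : Nonempty ι := ⟨i₀⟩
  -- each structure map is injective
  have hinj : ∀ j, Function.Injective (Module.DirectLimit.of R ι E f j) := by
    intro j
    rw [← LinearMap.ker_eq_bot]
    by_contra hK
    have h1 := (he j).essential _ hK
    obtain ⟨y, hy, hy0⟩ := (Submodule.ne_bot_iff _).1 h1
    obtain ⟨hy1, hy2⟩ := Submodule.mem_inf.1 hy
    obtain ⟨m, rfl⟩ := LinearMap.mem_range.1 hy2
    rw [LinearMap.mem_ker] at hy1
    obtain ⟨k, hjk, hk⟩ := Module.DirectLimit.of.zero_exact hy1
    have : g k m = 0 := by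
      rw [← hg j k hjk]; exact hk
    have hm : m = 0 := (he k).injective (by rw [this, map_zero])
    exact hy0 (by rw [hm, map_zero])
  have hcompat : ∀ i (m : M), Module.DirectLimit.of R ι E f i (g i m)
      = Module.DirectLimit.of R ι E f i₀ (g i₀ m) := by
    intro i m
    obtain ⟨k, hik, h0k⟩ := exists_ge_ge i i₀
    have e1 : Module.DirectLimit.of R ι E f k (g k m) = Module.DirectLimit.of R ι E f i (g i m) := by
      rw [← hg i k hik]
      exact Module.DirectLimit.of_f
    have e2 : Module.DirectLimit.of R ι E f k (g k m) = Module.DirectLimit.of R ι E f i₀ (g i₀ m) := by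
      rw [← hg i₀ k h0k]
      exact Module.DirectLimit.of_f
    rw [← e1, e2]
  refine ⟨?_, ?_⟩
  · rw [LinearMap.coe_comp]
    exact (hinj i₀).comp (he i₀).injective
  · intro N hN
    obtain ⟨y, hyN, hy0⟩ := (Submodule.ne_bot_iff _).1 hN
    obtain ⟨i, x, rfl⟩ := Module.DirectLimit.exists_of y
    have hx0 : x ≠ 0 := by
      rintro rfl
      exact hy0 (map_zero _)
    have h1 := (he i).essential (Submodule.span R {x}) (by
      intro hb
      have : x ∈ Submodule.span R {x} := Submodule.mem_span_singleton_self x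
      rw [hb] at this
      exact hx0 ((Submodule.mem_bot R).1 this))
    obtain ⟨z, hz, hz0⟩ := (Submodule.ne_bot_iff _).1 h1
    obtain ⟨hz1, hz2⟩ := Submodule.mem_inf.1 hz
    obtain ⟨r, rfl⟩ := Submodule.mem_span_singleton.1 hz1
    obtain ⟨m, hm⟩ := LinearMap.mem_range.1 hz2
    refine (Submodule.ne_bot_iff _).2 ⟨Module.DirectLimit.of R ι E f i (r • x), ?_, ?_⟩
    · refine Submodule.mem_inf.2 ⟨?_, ?_⟩
      · rw [map_smul]
        exact N.smul_mem r hyN
      · refine LinearMap.mem_range.2 ⟨m, ?_⟩
        rw [LinearMap.comp_apply, ← hcompat i m, hm]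
    · intro h0
      exact hz0 (hinj i (by rw [h0, map_zero]))

end Groth.Agent.S8936
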