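import Groth.Statements.S8992
import Mathlib

set_option autoImplicit false
universe u
open HTop

namespace Groth.Agent.S8992

/-- An algebra over the prime field with p elements is absolutely weakly normal if and only if its p-th
power map is bijective (the algebra is perfect). -/
theorem result (p : ℕ) [Fact p.Prime] (A : Type u) [CommRing A] [Algebra (ZMod p) A] : HTop.IsAWNRing A ↔ PerfectRing A p := by
  have hp : p.Prime := Fact.out
  have hpA : (p : A) = 0 := by
    have h1 : (algebraMap (ZMod p) A) (p : ZMod p) = (p : A) := map_natCast _ p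
    rw [← h1, ZMod.natCast_self, map_zero]
  constructor
  · rintro ⟨hsn, hawn⟩
    refine ⟨?_⟩
    have key : ∀ x : A, ∃! a : A, x = a ^ p ∧ (0 : A) = (p : A) * a := fun x =>
      hawn p hp x 0 (by rw [hpA, zero_pow hp.ne_zero, zero_mul])
    constructor
    · intro a b hab
      have hab' : a ^ p = b ^ p := hab
      obtain ⟨c, _, hc⟩ := key (a ^ p)
      have h1 : a = c := hc a ⟨rfl, by rw [hpA, zero_mul]⟩
      have h2 : b = c := hc b ⟨hab', by rw [hpA, zero_mul]⟩
      rw [h1, h2]
    · intro x
      obtain ⟨a, ⟨ha, _⟩, _⟩ := key x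
      exact ⟨a, ha.symm⟩
  · intro hperf
    have hinj : ∀ a b : A, a ^ p = b ^ p → a = b := fun a b h =>
      hperf.bijective_frobenius.1 (show (fun x : A => x ^ p) a = (fun x : A => x ^ p) b from h)
    have hsurj : ∀ x : A, ∃ a : A, a ^ p = x := fun x => hperf.bijective_frobenius.2 x
    have hred : ∀ a : A, a ^ p = 0 → a = 0 := fun a h =>
      hinj a 0 (by rw [h, zero_pow hp.ne_zero])
    have hred3 : ∀ a : A, a ^ 3 = 0 → a = 0 := by
      intro a h
      apply hred
      apply hred
      have h4 : 3 ≤ p * p := by nlinarith [hp.two_le]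
      obtain ⟨k, hk⟩ := Nat.exists_eq_add_of_le h4
      rw [← pow_mul, hk, pow_add, h, zero_mul]
    have hsn : HTop.IsSeminormalRing A := by
      intro x y hxy
      obtain ⟨i, j, hij⟩ : ∃ i j : ℕ, 2 * i + 3 * j = p := by
        rcases Nat.even_or_odd' p with ⟨m, hm | hm⟩
        · exact ⟨m, 0, by omega⟩
        · have := hp.two_le
          exact ⟨m - 1, 1, by omega⟩
      obtain ⟨a, ha⟩ := hsurj (x ^ i * y ^ j)
      have ha2 : a ^ 2 = x := by
        apply hinj
        calc (a ^ 2) ^ p = (a ^ p) ^ 2 := by rw [← pow_mul, ← pow_mul, mul_comm]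
          _ = x ^ (2 * i) * (y ^ 2) ^ j := by rw [ha]; ring
          _ = x ^ (2 * i) * (x ^ 3) ^ j := by rw [hxy]
          _ = x ^ p := by rw [← hij]; ring
      have ha3 : a ^ 3 = y := by
        apply hinj
        calc (a ^ 3) ^ p = (a ^ p) ^ 3 := by rw [← pow_mul, ← pow_mul, mul_comm]
          _ = (x ^ 3) ^ i * y ^ (3 * j) := by rw [ha]; ring
          _ = (y ^ 2) ^ i * y ^ (3 * j) := by rw [hxy]
          _ = y ^ p := by rw [← hij]; ring
      refine ⟨a, ⟨ha2.symm, ha3.symm⟩, ?_⟩
      rintro b ⟨hb2, hb3⟩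
      have e1 : b ^ 2 = a ^ 2 := by rw [← hb2, ha2]
      have e2 : b ^ 3 = a ^ 3 := by rw [← hb3, ha3]
      have h3 : (b - a) ^ 3 = 0 := by
        linear_combination (-3 * a - 3 * b) * e1 + 4 * e2
      exact sub_eq_zero.mp (hred3 (b - a) h3)
    refine ⟨hsn, ?_⟩
    intro q hq x y hxy
    by_cases hqp : q = p
    · rw [hqp] at hxy ⊢
      rw [hpA, zero_pow hp.ne_zero, zero_mul] at hxy
      have hy0 : y = 0 := hred y hxy.symm
      obtain ⟨a, ha⟩ := hsurj x
      refine ⟨a, ⟨ha.symm, by rw [hpA, zero_mul]; exact hy0⟩, ?_⟩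
      rintro b ⟨hb, _⟩
      exact hinj b a (by rw [← hb, ha])
    · have hcop : Nat.Coprime q p := (Nat.coprime_primes hq hp).mpr hqp
      have hu : IsUnit (q : A) := by
        have h1 : (algebraMap (ZMod p) A) (q : ZMod p) = (q : A) := map_natCast _ q
        rw [← h1]
        apply IsUnit.map
        exact (ZMod.isUnit_iff_coprime q p).mpr hcop
      obtain ⟨c, hc⟩ := hu.exists_left_inv
      refine ⟨c * y, ⟨?_, ?_⟩, ?_⟩
      · calc x = (c * (q : A)) ^ q * x := by rw [hc, one_pow, one_mul]
          _ = c ^ q * ((q : A) ^ q * x) := by ring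
          _ = c ^ q * y ^ q := by rw [hxy]
          _ = (c * y) ^ q := by ring
      · calc y = (c * (q : A)) * y := by rw [hc, one_mul]
          _ = (q : A) * (c * y) := by ring
      · rintro b ⟨_, hb⟩
        calc b = (c * (q : A)) * b := by rw [hc, one_mul]
          _ = c * ((q : A) * b) := by ring
          _ = c * y := by rw [← hb]

end Groth.Agent.S8992
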