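import Groth.Statements.S9089
import Mathlib

set_option autoImplicit false
universe u
open CategoryTheory Opposite
open ModSite

namespace Groth.Agent.S9089


open CategoryTheory CategoryTheory.Limits Opposite


variable {C : Type u} [SmallCategory C] {J : GrothendieckTopology C} (O : Sheaf J CommRingCat.{u})

/-- restriction of sections -/
abbrev res {U V : C} (g : V ⟶ U) : O.obj.obj (op U) →+* O.obj.obj (op V) := (O.obj.map g.op).hom

lemma res_comp {U V W : C} (g : V ⟶ U) (h : W ⟶ V) (r : O.obj.obj (op U)) :
    res O (h ≫ g) r = res O h (res O g r) := by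
  show (O.obj.map (h ≫ g).op).hom r = _
  rw [op_comp, O.obj.map_comp]
  rfl

/-- the sieve on which some member of a family is a unit -/
def unitSieve {U : C} {ι : Type*} (f : ι → O.obj.obj (op U)) : Sieve U where
  arrows V g := ∃ i, IsUnit (res O g (f i))
  downward_closed := by
    rintro V W g ⟨i, hi⟩ h
    exact ⟨i, by rw [res_comp]; exact hi.map _⟩

theorem forward
    (h1 : ∀ (U : C) (f : O.obj.obj (op U)), ∃ S ∈ J U, ∀ ⦃V : C⦄ (g : V ⟶ U), S g →
        IsUnit (res O g f) ∨ IsUnit (res O g (1 - f))) :
    ∀ (n : ℕ) (U : C) (f : Fin n → O.obj.obj (op U)), 1 ≤ n → Ideal.span (Set.range f) = ⊤ →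
      unitSieve O f ∈ J U := by
  intro n
  induction n with
  | zero => intro U f hn; omega
  | succ n ih =>
    intro U f _ hspan
    by_cases hn : n = 0
    · subst hn
      -- single generator: it is a unit
      have : Set.range f = {f 0} := by
        ext x; constructor
        · rintro ⟨i, rfl⟩
          have hi : i = 0 := Fin.ext (by have := i.isLt; omega)
          rw [hi]; rfl
        · rintro rfl; exact ⟨0, rfl⟩
      rw [this, Ideal.span_singleton_eq_top] at hspan
      refine J.superset_covering (S := ⊤) ?_ (J.top_mem U)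
      intro V g _
      exact ⟨0, hspan.map _⟩
    · -- split off the last generator
      have h1n : 1 ≤ n := Nat.one_le_iff_ne_zero.2 hn
      have hmem : (1 : O.obj.obj (op U)) ∈ Ideal.span (Set.range f) := by
        rw [hspan]; trivial
      obtain ⟨a, ha⟩ := (Ideal.mem_span_range_iff_exists_fun).1 hmem
      rw [Fin.sum_univ_castSucc] at ha
      set t := a (Fin.last n) * f (Fin.last n) with ht
      obtain ⟨S, hS, hSf⟩ := h1 U t
      refine J.transitive hS _ ?_
      intro V g hg
      rcases hSf g hg with hu | hu
      · -- the last generator is a unit on V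
        refine J.superset_covering (S := ⊤) ?_ (J.top_mem V)
        intro W k _
        show ∃ i, IsUnit (res O (k ≫ g) (f i))
        refine ⟨Fin.last n, ?_⟩
        rw [res_comp]
        have : IsUnit (res O g (f (Fin.last n))) := by
          rw [ht, map_mul] at hu
          exact isUnit_of_mul_isUnit_right hu
        exact this.map _
      · -- the first n generators generate the unit ideal on V
        have hsp : Ideal.span (Set.range fun i : Fin n => res O g (f i.castSucc)) = ⊤ := by
          rw [Ideal.eq_top_iff_one]
          have e : res O g (1 - t) = ∑ i : Fin n, res O g (a i.castSucc) * res O g (f i.castSucc) := by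
            rw [← ha, add_sub_cancel_right, map_sum]
            simp only [map_mul]
          have hmem2 : res O g (1 - t) ∈ Ideal.span (Set.range fun i : Fin n => res O g (f i.castSucc)) := by
            rw [e]
            exact Ideal.sum_mem _ (fun i _ => Ideal.mul_mem_left _ _ (Ideal.subset_span ⟨i, rfl⟩))
          exact (Ideal.eq_top_of_isUnit_mem _ hmem2 hu) ▸ Submodule.mem_top
        have hV := ih V (fun i => res O g (f i.castSucc)) h1n hsp
        refine J.superset_covering ?_ hV
        rintro W k ⟨i, hi⟩
        show ∃ i, IsUnit (res O (k ≫ g) (f i))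
        exact ⟨i.castSucc, by rw [res_comp]; exact hi⟩

theorem main :
    (∀ (U : C) (f : O.obj.obj (op U)), ∃ S ∈ J U, ∀ ⦃V : C⦄ (g : V ⟶ U), S g →
        IsUnit ((O.obj.map g.op).hom f) ∨ IsUnit ((O.obj.map g.op).hom (1 - f))) ↔
    (∀ (U : C) (n : ℕ) (f : Fin n → O.obj.obj (op U)), 1 ≤ n → Ideal.span (Set.range f) = ⊤ →
        ∃ S ∈ J U, ∀ ⦃V : C⦄ (g : V ⟶ U), S g → ∃ i, IsUnit ((O.obj.map g.op).hom (f i))) := by
  constructor
  · intro h1 U n f hn hspan
    exact ⟨unitSieve O f, forward O h1 n U f hn hspan, fun V g hg => hg⟩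
  · intro h2 U f
    obtain ⟨S, hS, hSf⟩ := h2 U 2 ![f, 1 - f] (by norm_num) (by
      rw [Ideal.eq_top_iff_one]
      have hadd := Ideal.add_mem (Ideal.span (Set.range ![f, 1 - f]))
        (Ideal.subset_span ⟨0, rfl⟩) (Ideal.subset_span ⟨1, rfl⟩)
      have e : (![f, 1 - f] 0) + (![f, 1 - f] 1) = 1 := by simp
      rw [e] at hadd
      exact hadd)
    refine ⟨S, hS, fun V g hg => ?_⟩
    obtain ⟨i, hi⟩ := hSf g hg
    fin_cases i
    · exact Or.inl hi
    · exact Or.inr hi

/-- Part (1): ⇔ (2), for a ringed site (C, O) with C small and O a sheaf of commutative rings: the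
following are equivalent. (1) For every object U and every section f of O over U there is a covering
sieve on U on each of whose arrows either f or 1 - f restricts to a unit. (2) For every object U,
every n ≥ 1 and all sections f₁, …, fₙ of O over U generating the unit ideal of O(U), there is a
covering sieve on U on each of whose arrows some fᵢ restricts to a unit. -/
theorem result {C : Type u} [SmallCategory C] (J : GrothendieckTopology C)
    (O : Sheaf J CommRingCat.{u}) :
    (∀ (U : C) (f : O.obj.obj (op U)), ∃ S ∈ J U, ∀ ⦃V : C⦄ (g : V ⟶ U), S g →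
        IsUnit ((O.obj.map g.op).hom f) ∨ IsUnit ((O.obj.map g.op).hom (1 - f))) ↔
    (∀ (U : C) (n : ℕ) (f : Fin n → O.obj.obj (op U)), 1 ≤ n → Ideal.span (Set.range f) = ⊤ →
        ∃ S ∈ J U, ∀ ⦃V : C⦄ (g : V ⟶ U), S g → ∃ i, IsUnit ((O.obj.map g.op).hom (f i))) := by
  exact main O

end Groth.Agent.S9089
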