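import Groth.Statements.S9090
import Mathlib

set_option autoImplicit false
universe u
open CategoryTheory Opposite
open ModSite

namespace Groth.Agent.S9090


open CategoryTheory CategoryTheory.Limits Opposite


theorem main {C : Type u} [SmallCategory C] {J : GrothendieckTopology C}
    (O : Sheaf J CommRingCat.{u})
    (h : ∀ (U : C) (f : O.obj.obj (op U)), ∃ S ∈ J U, ∀ ⦃V : C⦄ (g : V ⟶ U), S g →
        IsUnit ((O.obj.map g.op).hom f) ∨ IsUnit ((O.obj.map g.op).hom (1 - f)))
    (p : GrothendieckTopology.Point.{u} J) :
    Subsingleton (ModSite.stalkRing p O) ∨ IsLocalRing (ModSite.stalkRing p O) := by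
  by_cases hs : Subsingleton (ModSite.stalkRing p O)
  · exact Or.inl hs
  · right
    haveI : Nontrivial (ModSite.stalkRing p O) := not_subsingleton_iff_nontrivial.1 hs
    apply IsLocalRing.of_isUnit_or_isUnit_one_sub_self
    intro a
    obtain ⟨X, x, f, rfl⟩ := p.toPresheafFiber_jointly_surjective (P := O.obj) a
    obtain ⟨S, hS, hSf⟩ := h X f
    obtain ⟨V, g, hg, y, hy⟩ := p.jointly_surjective S hS x
    have key : ∀ r : O.obj.obj (op X),
        (p.toPresheafFiber X x O.obj).hom r =
          (p.toPresheafFiber V y O.obj).hom ((O.obj.map g.op).hom r) := by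
      intro r
      have := p.toPresheafFiber_w g y O.obj
      rw [hy] at this
      rw [← this]
      rfl
    let φ : O.obj.obj (op X) →+* ModSite.stalkRing p O := (p.toPresheafFiber X x O.obj).hom
    let ψ : O.obj.obj (op V) →+* ModSite.stalkRing p O := (p.toPresheafFiber V y O.obj).hom
    have key' : ∀ r : O.obj.obj (op X), φ r = ψ ((O.obj.map g.op).hom r) := key
    rcases hSf g hg with hu | hu
    · left
      show IsUnit (φ f)
      rw [key']
      exact hu.map ψ
    · right
      show IsUnit (1 - φ f)
      rw [← map_one φ, ← map_sub, key']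
      exact hu.map ψ

/-- Part (1): ⇒ (2), for a ringed site (C, O) with C small and O a sheaf of commutative rings: if for
every object U and every section f of O over U there is a covering sieve on U on each of whose
arrows either f or 1 - f restricts to a unit, then at every point p of the site the stalk O_p is the
zero ring or is local. -/
theorem result {C : Type u} [SmallCategory C] {J : GrothendieckTopology C}
    (O : Sheaf J CommRingCat.{u})
    (h : ∀ (U : C) (f : O.obj.obj (op U)), ∃ S ∈ J U, ∀ ⦃V : C⦄ (g : V ⟶ U), S g →
        IsUnit ((O.obj.map g.op).hom f) ∨ IsUnit ((O.obj.map g.op).hom (1 - f)))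
    (p : GrothendieckTopology.Point.{u} J) :
    Subsingleton (ModSite.stalkRing p O) ∨ IsLocalRing (ModSite.stalkRing p O) := by
  exact main O h p

end Groth.Agent.S9090
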