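import Groth.Statements.S9091
import Mathlib

set_option autoImplicit false
universe u
open CategoryTheory Opposite
open ModSite

namespace Groth.Agent.S9091


open CategoryTheory CategoryTheory.Limits Opposite


variable {C : Type u} [SmallCategory C] {J : GrothendieckTopology C} (O : Sheaf J CommRingCat.{u})

abbrev res {U V : C} (g : V ⟶ U) : O.obj.obj (op U) →+* O.obj.obj (op V) := (O.obj.map g.op).hom

lemma res_comp {U V W : C} (g : V ⟶ U) (h : W ⟶ V) (r : O.obj.obj (op U)) :
    res O (h ≫ g) r = res O h (res O g r) := by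
  show (O.obj.map (h ≫ g).op).hom r = _
  rw [op_comp, O.obj.map_comp]
  rfl

variable (p : GrothendieckTopology.Point.{u} J)

/-- the germ map as a ring hom -/
noncomputable abbrev germ (X : C) (x : p.fiber.obj X) : O.obj.obj (op X) →+* ModSite.stalkRing p O :=
  (p.toPresheafFiber X x O.obj).hom

lemma germ_res {X Y : C} (g : Y ⟶ X) (y : p.fiber.obj Y) (r : O.obj.obj (op X)) :
    germ O p Y y (res O g r) = germ O p X (p.fiber.map g y) r := by
  have := p.toPresheafFiber_w g y O.obj
  exact congrArg (fun φ => (CommRingCat.Hom.hom φ) r) this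

lemma germ_eq_iff (X : C) (x : p.fiber.obj X) (r s : O.obj.obj (op X)) :
    germ O p X x r = germ O p X x s ↔
      ∃ (Y : C) (g : Y ⟶ X) (y : p.fiber.obj Y), p.fiber.map g y = x ∧ res O g r = res O g s :=
  p.toPresheafFiber_eq_iff' (P := O.obj) X x r s

lemma exists_unit_of_germ_unit (U : C) (x : p.fiber.obj U) (r : O.obj.obj (op U))
    (hr : IsUnit (germ O p U x r)) :
    ∃ (Y : C) (g : Y ⟶ U) (y : p.fiber.obj Y), p.fiber.map g y = x ∧ IsUnit (res O g r) := by
  obtain ⟨b, hb⟩ := hr.exists_right_inv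
  obtain ⟨X', x', b', rfl⟩ := p.toPresheafFiber_jointly_surjective (P := O.obj) b
  let A : p.fiber.Elements := ⟨U, x⟩
  let B : p.fiber.Elements := ⟨X', x'⟩
  let W : p.fiber.Elements := IsCofiltered.min A B
  let gl : W ⟶ A := IsCofiltered.minToLeft A B
  let gr : W ⟶ B := IsCofiltered.minToRight A B
  have hgl : p.fiber.map gl.1 W.2 = x := gl.2
  have hgr : p.fiber.map gr.1 W.2 = x' := gr.2
  have e1 : germ O p W.1 W.2 (res O gl.1 r * res O gr.1 b') = germ O p W.1 W.2 1 := by
    rw [map_mul, germ_res, germ_res, hgl, hgr, map_one]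
    exact hb
  obtain ⟨Y, k, y, hy, hk⟩ := (germ_eq_iff O p W.1 W.2 _ _).1 e1
  refine ⟨Y, k ≫ gl.1, y, ?_, ?_⟩
  · rw [p.fiber.map_comp]
    show p.fiber.map gl.1 (p.fiber.map k y) = x
    rw [hy, hgl]
  · rw [map_mul, map_one] at hk
    rw [res_comp]
    exact IsUnit.of_mul_eq_one _ hk

theorem main [GrothendieckTopology.HasEnoughPoints.{u} J]
    (h : ∀ p : GrothendieckTopology.Point.{u} J,
      Subsingleton (ModSite.stalkRing p O) ∨ IsLocalRing (ModSite.stalkRing p O))
    (U : C) (f : O.obj.obj (op U)) :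
    ∃ S ∈ J U, ∀ ⦃V : C⦄ (g : V ⟶ U), S g →
        IsUnit ((O.obj.map g.op).hom f) ∨ IsUnit ((O.obj.map g.op).hom (1 - f)) := by
  obtain ⟨P, hPs, hP⟩ := GrothendieckTopology.HasEnoughPoints.exists_objectProperty.{u} J
  let ι := Σ V : C, {g : V ⟶ U // IsUnit (res O g f) ∨ IsUnit (res O g (1 - f))}
  let fam : ∀ i : ι, i.1 ⟶ U := fun i => i.2.1
  refine ⟨Sieve.ofArrows _ fam, ?_, ?_⟩
  · rw [hP.jointly_reflect_ofArrows_mem_of_small]
    intro Φ x
    rcases h Φ.obj with hs | hl
    · -- zero stalk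
      have e : germ O Φ.obj U x 1 = germ O Φ.obj U x 0 := Subsingleton.elim _ _
      obtain ⟨Y, g, y, hy, hg⟩ := (germ_eq_iff O Φ.obj U x _ _).1 e
      rw [map_one, map_zero] at hg
      haveI : Subsingleton (O.obj.obj (op Y)) := subsingleton_of_zero_eq_one hg.symm
      exact ⟨⟨Y, g, Or.inl (isUnit_of_subsingleton _)⟩, y, hy⟩
    · rcases IsLocalRing.isUnit_or_isUnit_one_sub_self (germ O Φ.obj U x f) with hu | hu
      · obtain ⟨Y, g, y, hy, hg⟩ := exists_unit_of_germ_unit O Φ.obj U x f hu
        exact ⟨⟨Y, g, Or.inl hg⟩, y, hy⟩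
      · rw [← map_one (germ O Φ.obj U x), ← map_sub] at hu
        obtain ⟨Y, g, y, hy, hg⟩ := exists_unit_of_germ_unit O Φ.obj U x (1 - f) hu
        exact ⟨⟨Y, g, Or.inr hg⟩, y, hy⟩
  · rintro V g ⟨W, k, g', ⟨i⟩, rfl⟩
    rcases i.2.2 with hu | hu
    · left
      show IsUnit (res O (k ≫ fam i) f)
      rw [res_comp]
      exact hu.map _
    · right
      show IsUnit (res O (k ≫ fam i) (1 - f))
      rw [res_comp]
      exact hu.map _

/-- Part (2): ⇒ (1) when the site has enough points, for a ringed site (C, O) with C small and O a sheaf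
of commutative rings: if at every point p of the site the stalk O_p is the zero ring or is local,
then for every object U and every section f of O over U there is a covering sieve on U on each of
whose arrows either f or 1 - f restricts to a unit. -/
theorem result {C : Type u} [SmallCategory C] {J : GrothendieckTopology C}
    (O : Sheaf J CommRingCat.{u}) [GrothendieckTopology.HasEnoughPoints.{u} J]
    (h : ∀ p : GrothendieckTopology.Point.{u} J, Subsingleton (ModSite.stalkRing p O) ∨ IsLocalRing (ModSite.stalkRing p O))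
    (U : C) (f : O.obj.obj (op U)) :
    ∃ S ∈ J U, ∀ ⦃V : C⦄ (g : V ⟶ U), S g →
        IsUnit ((O.obj.map g.op).hom f) ∨ IsUnit ((O.obj.map g.op).hom (1 - f)) := by
  exact main O h U f

end Groth.Agent.S9091
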