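import Groth.Statements.S9097
import Mathlib

set_option autoImplicit false
universe u
open CategoryTheory Opposite
open CohSite

namespace Groth.Agent.S9097


open CategoryTheory CategoryTheory.Limits Opposite

noncomputable section

variable {C : Type u} [SmallCategory C] (J : GrothendieckTopology C)

abbrev F (U : C) : AddCommGrpCat.{u} ⥤ AddCommGrpCat.{u} :=
  constantSheaf J AddCommGrpCat.{u} ⋙ (sheafSections J AddCommGrpCat.{u}).obj (op U)

instance (U : C) : PreservesFiniteLimits (F J U) := by
  haveI : PreservesFiniteLimits (constantSheaf J AddCommGrpCat.{u}) := by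
    unfold constantSheaf; infer_instance
  haveI : PreservesFiniteLimits ((sheafSections J AddCommGrpCat.{u}).obj (op U)) :=
    preservesFiniteLimits_of_natIso (sheafSectionsNatIsoEvaluation (J := J) (A := AddCommGrpCat.{u}) (X := U)).symm
  infer_instance

lemma surj {B C' : AddCommGrpCat.{u}} (g : B ⟶ C') (hg : Function.Surjective g) (U : C) :
    Function.Surjective ((F J U).map g) := by
  let iso := constantCommuteCompose J (forget AddCommGrpCat.{u})
  obtain ⟨σ, hσ⟩ := hg.hasRightInverse
  let σ' : (forget AddCommGrpCat.{u}).obj C' ⟶ (forget AddCommGrpCat.{u}).obj B := TypeCat.ofHom σ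
  have hσ' : σ' ≫ (forget AddCommGrpCat.{u}).map g = 𝟙 _ := by
    ext x
    exact hσ x
  let τ : (sheafCompose J (forget AddCommGrpCat.{u})).obj ((constantSheaf J _).obj C') ⟶
      (sheafCompose J (forget AddCommGrpCat.{u})).obj ((constantSheaf J _).obj B) :=
    iso.hom.app C' ≫ (constantSheaf J (Type u)).map σ' ≫ iso.inv.app B
  have hτ : τ ≫ (sheafCompose J (forget AddCommGrpCat.{u})).map ((constantSheaf J _).map g) =
      𝟙 _ := by
    have nat := iso.inv.naturality g
    simp only [τ, Category.assoc]
    erw [← nat]
    have h3 : (constantSheaf J (Type u)).map σ' ≫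
        (forget AddCommGrpCat.{u} ⋙ constantSheaf J (Type u)).map g = 𝟙 _ := by
      rw [Functor.comp_map, ← Functor.map_comp, hσ', CategoryTheory.Functor.map_id]
    rw [← Category.assoc ((constantSheaf J (Type u)).map σ'), h3, Category.id_comp]
    exact iso.hom_inv_id_app C'
  intro y
  have h1 := congr_arg (fun φ => (φ.hom.app (op U))) hτ
  have h2 := ConcreteCategory.congr_hom h1 y
  exact ⟨_, h2⟩

theorem main (S : ShortComplex AddCommGrpCat.{u}) (hS : S.ShortExact) (U : C)
    [(constantSheaf J AddCommGrpCat.{u} ⋙
      (sheafSections J AddCommGrpCat.{u}).obj (op U)).PreservesZeroMorphisms] :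
    (S.map (constantSheaf J AddCommGrpCat.{u} ⋙
      (sheafSections J AddCommGrpCat.{u}).obj (op U))).ShortExact := by
  haveI := hS.mono_f
  haveI := hS.epi_g
  have hsurj : Function.Surjective S.g := (AddCommGrpCat.epi_iff_surjective S.g).1 inferInstance
  have hex := hS.exact.map_of_mono_of_preservesKernel (F J U) inferInstance inferInstance
  refine ShortComplex.ShortExact.mk' hex ?_ ?_
  · change Mono ((F J U).map S.f)
    infer_instance
  · change Epi ((F J U).map S.g)
    rw [AddCommGrpCat.epi_iff_surjective]
    exact surj J S.g hsurj U

end

/-- If 0 → A → B → C → 0 is short exact in the category of abelian groups then, for every object U, the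
sequence 0 → A̲(U) → B̲(U) → C̲(U) → 0 of sections of the constant abelian sheaves is short exact;
in other words the sequence of constant sheaves is exact even as a sequence of abelian presheaves.
The instance binder on the sections-of-constant-sheaf functor (it preserves zero morphisms) always
holds and is only needed to form the complex. -/
theorem result {C : Type u} [SmallCategory C] (J : GrothendieckTopology C)
    (S : ShortComplex AddCommGrpCat.{u}) (hS : S.ShortExact) (U : C)
    [(constantSheaf J AddCommGrpCat.{u} ⋙ (sheafSections J AddCommGrpCat.{u}).obj (op U)).PreservesZeroMorphisms] :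
    (S.map (constantSheaf J AddCommGrpCat.{u} ⋙ (sheafSections J AddCommGrpCat.{u}).obj (op U))).ShortExact := by
  exact main J S hS U

end Groth.Agent.S9097
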