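import Groth.Statements.S9109
import Mathlib.Algebra.Category.Grp.AB

set_option autoImplicit false
universe u
open CategoryTheory CategoryTheory.Limits
open CohSite

namespace Groth.Agent.S9109

noncomputable def G (I : Type u) : AddCommGrpCat.{u} ⥤ (Discrete I ⥤ AddCommGrpCat.{u}) where
  obj M := Discrete.functor (fun _ => M)
  map f := Discrete.natTrans (fun _ => f)
  map_id M := by ext ⟨i⟩; rfl
  map_comp f g := by ext ⟨i⟩; rfl

instance (I : Type u) : PreservesFiniteColimits (G I) := by
  constructor
  intro K _ _
  apply preservesColimitsOfShape_of_evaluation (G I) K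
  intro i
  have e : G I ⋙ (evaluation (Discrete I) AddCommGrpCat.{u}).obj i ≅ 𝟭 _ :=
    NatIso.ofComponents (fun _ => Iso.refl _) (fun f => by simp; rfl)
  exact preservesColimitsOfShape_of_natIso e.symm


/-- Part (1): on a small site (C, J) with a point p: the skyscraper functor p_* from abelian groups to
abelian sheaves on C (right adjoint to the stalk functor at p; its value on A is the sheaf U ↦ ∏_{x
∈ p⁻¹U} A) is exact. As a right adjoint it preserves limits; the statement here is that it also
preserves finite colimits. -/
theorem result {C : Type u} [SmallCategory C] {J : GrothendieckTopology C}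
    (p : GrothendieckTopology.Point.{u} J) :
    PreservesFiniteColimits (p.skyscraperSheafFunctor (A := AddCommGrpCat.{u})) := by
  have h0 : PreservesFiniteColimits (p.skyscraperPresheafFunctor (A := AddCommGrpCat.{u})) := by
    constructor
    intro K _ _
    apply preservesColimitsOfShape_of_evaluation _ K
    intro U
    have e : p.skyscraperPresheafFunctor (A := AddCommGrpCat.{u}) ⋙
        (evaluation Cᵒᵖ AddCommGrpCat.{u}).obj U ≅ G (p.fiber.obj U.unop) ⋙ lim :=
      NatIso.ofComponents (fun _ => Iso.refl _) (fun f => by
        simp only [Iso.refl_hom, Category.comp_id, Category.id_comp]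
        rfl)
    have : PreservesFiniteColimits (G (p.fiber.obj U.unop) ⋙ lim) := comp_preservesFiniteColimits _ _
    exact preservesColimitsOfShape_of_natIso e.symm
  have h1 : PreservesFiniteColimits (p.skyscraperSheafFunctor (A := AddCommGrpCat.{u}) ⋙
      sheafToPresheaf J AddCommGrpCat.{u}) := by
    have e : p.skyscraperSheafFunctor (A := AddCommGrpCat.{u}) ⋙ sheafToPresheaf J AddCommGrpCat.{u} ≅
        p.skyscraperPresheafFunctor (A := AddCommGrpCat.{u}) :=
      NatIso.ofComponents (fun _ => Iso.refl _) (fun f => by
        simp only [Iso.refl_hom, Category.comp_id, Category.id_comp]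
        rfl)
    exact preservesFiniteColimits_of_natIso e.symm
  constructor
  intro K _ _
  exact preservesColimitsOfShape_of_reflects_of_preserves _ (sheafToPresheaf J AddCommGrpCat.{u})

end Groth.Agent.S9109
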