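import Groth.Statements.S9112
import Mathlib
import Groth.Agent.Lib.ModSheaf

set_option autoImplicit false
universe u
open CategoryTheory
open ModSite

namespace Groth.Agent.S9112


open CategoryTheory CategoryTheory.Limits Opposite

open ModSite
open ModSite

variable {C : Type u} [SmallCategory C] {J : GrothendieckTopology C}

instance toSheaf_pfc (O : Sheaf J CommRingCat.{u}) :
    PreservesFiniteColimits (SheafOfModules.toSheaf.{u} (ringSh O)) := by
  haveI : PreservesColimitsOfSize.{u, u} (SheafOfModules.toSheaf.{u} (ringSh O)) :=
    ⟨fun {K} _ => Groth.Agent.ModSheaf.toSheaf_preservesColimitsOfShape (ringSh O) K⟩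
  exact PreservesColimitsOfSize.preservesFiniteColimits _

theorem main (O : Sheaf J CommRingCat.{u}) (S : ShortComplex (ModSite.Mod O)) (hS : S.ShortExact)
    (p : GrothendieckTopology.Point.{u} J) :
    Function.Injective (ModSite.stalkMap p S.f).hom ∧ Function.Surjective (ModSite.stalkMap p S.g).hom ∧
      LinearMap.range (ModSite.stalkMap p S.f).hom = LinearMap.ker (ModSite.stalkMap p S.g).hom := by
  let T : Mod O ⥤ AddCommGrpCat.{u} :=
    SheafOfModules.toSheaf.{u} (ringSh O) ⋙ p.sheafFiber (A := AddCommGrpCat.{u})
  haveI : PreservesFiniteLimits T := comp_preservesFiniteLimits _ _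
  haveI : PreservesFiniteColimits T := comp_preservesFiniteColimits _ _
  haveI : T.Additive := Functor.additive_of_preserves_binary_products T
  have hT : (S.map T).ShortExact := hS.map_of_exact T
  have hmono : Mono (T.map S.f) := hT.mono_f
  have hepi : Epi (T.map S.g) := hT.epi_g
  have hinj : Function.Injective (T.map S.f).hom := (AddCommGrpCat.mono_iff_injective _).1 hmono
  have hsurj : Function.Surjective (T.map S.g).hom := (AddCommGrpCat.epi_iff_surjective _).1 hepi
  have hex := (ShortComplex.ab_exact_iff (S.map T)).1 hT.exact
  refine ⟨hinj, hsurj, ?_⟩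
  ext x
  constructor
  · rintro ⟨y, rfl⟩
    show (T.map S.g).hom ((T.map S.f).hom y) = 0
    have hz : T.map S.f ≫ T.map S.g = 0 := (S.map T).zero
    exact ConcreteCategory.congr_hom hz y
  · intro hx
    obtain ⟨y, hy⟩ := hex x hx
    exact ⟨y, hy⟩

/-- Part (1): on a small ringed site (C, O) with O commutative, for a point p of the site: the stalk
functor F ↦ F_p from O-modules to O_p-modules is exact. Stated on a short exact sequence 0 → F₁ → F₂
→ F₃ → 0 of O-modules: the induced O_p-linear map F₁,p → F₂,p is injective, F₂,p → F₃,p is
surjective, and the range of the first is the kernel of the second. -/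
theorem result {C : Type u} [SmallCategory C] {J : GrothendieckTopology C}
    (O : Sheaf J CommRingCat.{u}) (S : ShortComplex (ModSite.Mod O)) (hS : S.ShortExact)
    (p : GrothendieckTopology.Point.{u} J) :
    Function.Injective (ModSite.stalkMap p S.f).hom ∧ Function.Surjective (ModSite.stalkMap p S.g).hom ∧
      LinearMap.range (ModSite.stalkMap p S.f).hom = LinearMap.ker (ModSite.stalkMap p S.g).hom := by
  exact main O S hS p

end Groth.Agent.S9112
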