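import Groth.Statements.S9126
import Mathlib
import Groth.Agent.Lib.helper4.Catenary

set_option autoImplicit false
universe u
open CAlg

namespace Groth.Agent.S9126

/-- An algebra essentially of finite type over a Noetherian universally catenary ring is universally
catenary. -/
theorem result (A : Type u) [CommRing A] (B : Type u) [CommRing B]
    [Algebra A B] [Algebra.EssFiniteType A B]
    (hA : CAlg.IsUniversallyCatenary A) : CAlg.IsUniversallyCatenary B := by
  obtain ⟨hnoeth, hcat⟩ := hA
  haveI := hnoeth
  refine ⟨?_, ?_⟩
  · -- B is Noetherian
    haveI : IsNoetherianRing (Algebra.EssFiniteType.subalgebra A B) :=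
      Algebra.FiniteType.isNoetherianRing A _
    exact IsLocalization.isNoetherianRing (Algebra.EssFiniteType.submonoid A B) B inferInstance
  · intro C _ _ hC
    letI : Algebra A C := ((algebraMap B C).comp (algebraMap A B)).toAlgebra
    haveI : IsScalarTower A B C := IsScalarTower.of_algebraMap_eq (fun _ => rfl)
    haveI : Algebra.EssFiniteType B C := inferInstance
    haveI : Algebra.EssFiniteType A C := Algebra.EssFiniteType.comp A B C
    have h1 : CAlg.IsCatenary (Algebra.EssFiniteType.subalgebra A C) := hcat _ inferInstance
    exact Groth.Agent.H4.H4_isCatenary_localization (Algebra.EssFiniteType.subalgebra A C)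
      (Algebra.EssFiniteType.submonoid A C) C h1

end Groth.Agent.S9126
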