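import Groth.Statements.S9128
import Mathlib
import Groth.Agent.Lib.helper4.DimFun

set_option autoImplicit false
universe u
open CAlg

namespace Groth.Agent.S9128

/-- A Noetherian local ring A is catenary if and only if the assignment sending a prime p to the Krull
dimension of A/p is a dimension function on Spec A, i.e. it decreases strictly along strict
inclusions of primes and drops by exactly one along inclusions with no prime strictly in between. -/
theorem result (A : Type u) [CommRing A] [IsNoetherianRing A]
    [IsLocalRing A] :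
    CAlg.IsCatenary A ↔
      ∀ p q : PrimeSpectrum A, p < q →
        ringKrullDim (A ⧸ q.asIdeal) < ringKrullDim (A ⧸ p.asIdeal) ∧
          (p ⋖ q → ringKrullDim (A ⧸ p.asIdeal) = ringKrullDim (A ⧸ q.asIdeal) + 1) := by
  have hm : ∀ x : PrimeSpectrum A, IsMax x → x = IsLocalRing.closedPoint A := by
    intro x hx
    have h1 : x ≤ IsLocalRing.closedPoint A := IsLocalRing.le_maximalIdeal x.2.ne_top
    exact le_antisymm h1 (hx h1)
  have hfin : ∀ x : PrimeSpectrum A, Order.coheight x < ⊤ := fun x => Order.coheight_lt_top x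
  have hkey : ∀ p : PrimeSpectrum A,
      ringKrullDim (A ⧸ p.asIdeal) = ((Order.coheight p : ℕ∞) : WithBot ℕ∞) := by
    intro p
    have hset : PrimeSpectrum.zeroLocus (p.asIdeal : Set A) = Set.Ici p := by
      ext x
      rw [PrimeSpectrum.mem_zeroLocus, Set.mem_Ici, SetLike.coe_subset_coe]
      exact Iff.rfl
    rw [ringKrullDim_quotient, Order.coheight_eq_krullDim_Ici, hset]
  rw [show CAlg.IsCatenary A ↔ _ from
    Groth.Agent.H4.H4_catPoset_iff_dimFunction (IsLocalRing.closedPoint A) hm hfin]
  constructor
  · intro h p q hpq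
    obtain ⟨h1, h2⟩ := h p q hpq
    rw [hkey p, hkey q]
    refine ⟨WithBot.coe_lt_coe.2 h1, fun hc => ?_⟩
    rw [h2 hc]
    rfl
  · intro h p q hpq
    obtain ⟨h1, h2⟩ := h p q hpq
    rw [hkey p, hkey q] at h1 h2
    refine ⟨WithBot.coe_lt_coe.1 h1, fun hc => ?_⟩
    have h3 := h2 hc
    have h4 : ((Order.coheight p : ℕ∞) : WithBot ℕ∞) = ((Order.coheight q + 1 : ℕ∞) : WithBot ℕ∞) := by
      rw [h3]
      rfl
    exact WithBot.coe_injective h4

end Groth.Agent.S9128
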