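import Groth.Statements.S9139
import Mathlib

set_option autoImplicit false
universe u
open CAlg

namespace Groth.Agent.S9139

/-- Let I be a locally nilpotent ideal of a ring R (every element of I is nilpotent) and S → S' a map of
R-algebras with S' of finite type over R. If S → S'/IS' is surjective then so is S → S'. -/
theorem result (R S S' : Type u) [CommRing R] [CommRing S]
    [CommRing S'] [Algebra R S] [Algebra R S'] [Algebra.FiniteType R S'] (I : Ideal R)
    (hI : ∀ x ∈ I, IsNilpotent x) (f : S →ₐ[R] S')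
    (hf : Function.Surjective ((Ideal.Quotient.mk (I.map (algebraMap R S'))).comp f.toRingHom)) :
    Function.Surjective f := by
  classical
  have key : ∀ z ∈ I.map (algebraMap R S'), ∃ J : Ideal R, J.FG ∧ J ≤ I ∧
      z ∈ J.map (algebraMap R S') := by
    intro z hz
    refine Submodule.span_induction (p := fun z _ => ∃ J : Ideal R, J.FG ∧ J ≤ I ∧
      z ∈ J.map (algebraMap R S')) ?_ ?_ ?_ ?_ hz
    · rintro _ ⟨a, ha, rfl⟩
      exact ⟨Ideal.span {a}, ⟨{a}, by simp⟩, (Ideal.span_singleton_le_iff_mem _).2 ha,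
        Ideal.mem_map_of_mem _ (Ideal.mem_span_singleton_self a)⟩
    · exact ⟨⊥, Submodule.fg_bot, bot_le, zero_mem _⟩
    · rintro x y _ _ ⟨J₁, h1, h1', h1''⟩ ⟨J₂, h2, h2', h2''⟩
      exact ⟨J₁ ⊔ J₂, Submodule.FG.sup h1 h2, sup_le h1' h2',
        add_mem (Ideal.map_mono le_sup_left h1'') (Ideal.map_mono le_sup_right h2'')⟩
    · rintro a x _ ⟨J, h1, h2, h3⟩
      exact ⟨J, h1, h2, Ideal.mul_mem_left _ _ h3⟩
  have key2 : ∀ t : Finset S', ∃ J : Ideal R, J.FG ∧ J ≤ I ∧
      ∀ x ∈ t, ∃ s, f s - x ∈ J.map (algebraMap R S') := by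
    intro t
    induction t using Finset.induction_on with
    | empty => exact ⟨⊥, Submodule.fg_bot, bot_le, by simp⟩
    | insert x t hx ih =>
      obtain ⟨J, h1, h2, h3⟩ := ih
      obtain ⟨s, hs⟩ := hf (Ideal.Quotient.mk _ x)
      have hs' : f s - x ∈ I.map (algebraMap R S') := by
        rw [← Ideal.Quotient.eq]; exact hs
      obtain ⟨J', h1', h2', h3'⟩ := key _ hs'
      refine ⟨J ⊔ J', Submodule.FG.sup h1 h1', sup_le h2 h2', ?_⟩
      intro y hy
      rcases Finset.mem_insert.1 hy with rfl | hy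
      · exact ⟨s, Ideal.map_mono le_sup_right h3'⟩
      · obtain ⟨s', hs'⟩ := h3 y hy
        exact ⟨s', Ideal.map_mono le_sup_left hs'⟩
  obtain ⟨t, ht⟩ := (Algebra.FiniteType.out : (⊤ : Subalgebra R S').FG)
  obtain ⟨J, hJfg, hJI, hJ⟩ := key2 t
  have hJnil : IsNilpotent J := by
    rw [hJfg.isNilpotent_iff_le_nilradical]
    intro x hx
    exact mem_nilradical.2 (hI x (hJI hx))
  obtain ⟨N, hN⟩ := hJnil
  set K : Ideal S' := J.map (algebraMap R S') with hK
  -- the subalgebra A + K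
  let B : Subalgebra R S' :=
    { carrier := {y | ∃ a ∈ f.range, y - a ∈ K}
      mul_mem' := by
        rintro y₁ y₂ ⟨a₁, ha₁, h₁⟩ ⟨a₂, ha₂, h₂⟩
        refine ⟨a₁ * a₂, mul_mem ha₁ ha₂, ?_⟩
        have : y₁ * y₂ - a₁ * a₂ = y₁ * (y₂ - a₂) + a₂ * (y₁ - a₁) := by ring
        rw [this]
        exact add_mem (Ideal.mul_mem_left _ _ h₂) (Ideal.mul_mem_left _ _ h₁)
      add_mem' := by
        rintro y₁ y₂ ⟨a₁, ha₁, h₁⟩ ⟨a₂, ha₂, h₂⟩
        refine ⟨a₁ + a₂, add_mem ha₁ ha₂, ?_⟩
        have : y₁ + y₂ - (a₁ + a₂) = (y₁ - a₁) + (y₂ - a₂) := by ring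
        rw [this]
        exact add_mem h₁ h₂
      algebraMap_mem' := by
        intro r
        exact ⟨algebraMap R S' r, Subalgebra.algebraMap_mem _ r, by simp⟩ }
  have hB : B = ⊤ := by
    rw [eq_top_iff, ← ht]
    apply Algebra.adjoin_le
    intro x hx
    obtain ⟨s, hs⟩ := hJ x hx
    refine ⟨f s, ⟨s, rfl⟩, ?_⟩
    have : x - f s = -(f s - x) := by ring
    rw [this]
    exact neg_mem hs
  have h1 : (⊤ : Submodule R S') ≤ Subalgebra.toSubmodule f.range ⊔ J • (⊤ : Submodule R S') := by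
    intro y _
    have hy : y ∈ B := by rw [hB]; trivial
    obtain ⟨a, ha, h⟩ := hy
    have : y = a + (y - a) := by ring
    rw [this]
    refine Submodule.add_mem_sup ha ?_
    rw [Ideal.smul_top_eq_map]
    exact h
  have h2 : ∀ k : ℕ, (⊤ : Submodule R S') ≤
      Subalgebra.toSubmodule f.range ⊔ (J ^ k) • (⊤ : Submodule R S') := by
    intro k
    induction k with
    | zero => rw [pow_zero, Ideal.one_eq_top, Submodule.top_smul]; exact le_sup_right
    | succ k ih =>
      calc (⊤ : Submodule R S') ≤ Subalgebra.toSubmodule f.range ⊔ (J ^ k) • (⊤ : Submodule R S') := ih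
        _ ≤ Subalgebra.toSubmodule f.range ⊔ (J ^ k) •
              (Subalgebra.toSubmodule f.range ⊔ J • (⊤ : Submodule R S')) :=
            sup_le_sup_left (Submodule.smul_mono le_rfl h1) _
        _ = Subalgebra.toSubmodule f.range ⊔ ((J ^ k) • Subalgebra.toSubmodule f.range ⊔
              (J ^ (k + 1)) • (⊤ : Submodule R S')) := by
            rw [Submodule.smul_sup, pow_succ, Submodule.mul_smul]
        _ ≤ Subalgebra.toSubmodule f.range ⊔ (J ^ (k + 1)) • (⊤ : Submodule R S') := by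
            refine sup_le le_sup_left (sup_le ?_ le_sup_right)
            exact le_trans Submodule.smul_le_right le_sup_left
  have h3 := h2 N
  rw [hN, Ideal.zero_eq_bot, Submodule.bot_smul, sup_bot_eq] at h3
  intro y
  have := h3 (Submodule.mem_top : y ∈ ⊤)
  obtain ⟨s, hs⟩ := this
  exact ⟨s, hs⟩

end Groth.Agent.S9139
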