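import Groth.Statements.S9155
import Mathlib
import Groth.Agent.Lib.helper6.EtaleBC6

set_option autoImplicit false
universe u
open Diff16 Groth.Agent.Lib.helper6
open scoped TensorProduct
set_option linter.style.haveILetI false

namespace Groth.Agent.S9155

/-- A differential operator of order at most k between modules over B (relative to A → B) has exactly
one extension to the localized modules over S⁻¹B that is again a differential operator of order at
most k (relative to A → S⁻¹B), compatible with the localization maps. -/
theorem result (A B : Type u) [CommRing A] [CommRing B] [Algebra A B]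
    (S : Submonoid B) (M N : Type u) [AddCommGroup M] [Module B M] [Module A M] [IsScalarTower A B M]
    [AddCommGroup N] [Module B N] [Module A N] [IsScalarTower A B N] (k : ℕ) (D : M →ₗ[A] N)
    (hD : Diff16.IsDiffOpLE A B M N k D) :
    ∃! E : LocalizedModule S M →ₗ[A] LocalizedModule S N,
      Diff16.IsDiffOpLE A (Localization S) (LocalizedModule S M) (LocalizedModule S N) k E ∧
        E ∘ₗ (LocalizedModule.mkLinearMap S M).restrictScalars A =
          (LocalizedModule.mkLinearMap S N).restrictScalars A ∘ₗ D := by
  classical
  let eM : LocalizedModule S M ≃ₗ[A] Localization S ⊗[B] M :=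
    (LocalizedModule.equivTensorProduct S M).restrictScalars A
  let eN : LocalizedModule S N ≃ₗ[A] Localization S ⊗[B] N :=
    (LocalizedModule.equivTensorProduct S N).restrictScalars A
  have heM : ∀ (l : Localization S) x, eM (l • x) = l • eM x := fun l x =>
    (LocalizedModule.equivTensorProduct S M).map_smul l x
  have heMs : ∀ (l : Localization S) x, eM.symm (l • x) = l • eM.symm x := fun l x =>
    (LocalizedModule.equivTensorProduct S M).symm.map_smul l x
  have heN : ∀ (l : Localization S) y, eN (l • y) = l • eN y := fun l y =>
    (LocalizedModule.equivTensorProduct S N).map_smul l y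
  have heNs : ∀ (l : Localization S) y, eN.symm (l • y) = l • eN.symm y := fun l y =>
    (LocalizedModule.equivTensorProduct S N).symm.map_smul l y
  have heM1 : ∀ m, eM (LocalizedModule.mkLinearMap S M m) = (1 : Localization S) ⊗ₜ[B] m := by
    intro m
    show LocalizedModule.equivTensorProduct S M (LocalizedModule.mk m 1) = _
    rw [LocalizedModule.equivTensorProduct_apply_mk, Localization.mk_one]
  have heN1 : ∀ n, eN (LocalizedModule.mkLinearMap S N n) = (1 : Localization S) ⊗ₜ[B] n := by
    intro n
    show LocalizedModule.equivTensorProduct S N (LocalizedModule.mk n 1) = _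
    rw [LocalizedModule.equivTensorProduct_apply_mk, Localization.mk_one]
  have hoM : Diff16.IsDiffOpLE A (Localization S) (LocalizedModule S M) (Localization S ⊗[B] M) 0
      eM.toLinearMap := fun l x => heM l x
  have hoMs : Diff16.IsDiffOpLE A (Localization S) (Localization S ⊗[B] M) (LocalizedModule S M) 0
      eM.symm.toLinearMap := fun l x => heMs l x
  have hoN : Diff16.IsDiffOpLE A (Localization S) (LocalizedModule S N) (Localization S ⊗[B] N) 0
      eN.toLinearMap := fun l x => heN l x
  have hoNs : Diff16.IsDiffOpLE A (Localization S) (Localization S ⊗[B] N) (LocalizedModule S N) 0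
      eN.symm.toLinearMap := fun l x => heNs l x
  obtain ⟨D', hD'1, hD'2⟩ := H6_exists_extension A B (Localization S) M N k D hD
  refine ⟨eN.symm.toLinearMap ∘ₗ D' ∘ₗ eM.toLinearMap, ⟨?_, ?_⟩, ?_⟩
  · have h3 := Groth.Agent.H1.H1_isDiffOpLE_comp 0 k eM.toLinearMap D' hoM hD'1
    rw [Nat.zero_add] at h3
    exact Groth.Agent.H1.H1_isDiffOpLE_comp k 0 _ eN.symm.toLinearMap h3 hoNs
  · ext m
    simp only [LinearMap.comp_apply, LinearMap.restrictScalars_apply, LinearEquiv.coe_coe]
    rw [heM1, hD'2, ← heN1, LinearEquiv.symm_apply_apply]
  · rintro E ⟨hE1, hE2⟩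
    have key : eN.toLinearMap ∘ₗ E ∘ₗ eM.symm.toLinearMap = D' := by
      rw [← sub_eq_zero]
      refine H6_eq_zero_of_vanish_on_base A B (Localization S) M (Localization S ⊗[B] N) k _ ?_ ?_
      · rw [sub_eq_add_neg]
        refine Groth.Agent.H1.H1_isDiffOpLE_add _ _ _ ?_ (Groth.Agent.H1.H1_isDiffOpLE_neg _ _ hD'1)
        have h3 := Groth.Agent.H1.H1_isDiffOpLE_comp 0 k eM.symm.toLinearMap E hoMs hE1
        rw [Nat.zero_add] at h3
        exact Groth.Agent.H1.H1_isDiffOpLE_comp k 0 _ eN.toLinearMap h3 hoN
      · intro m
        have h5 : E (LocalizedModule.mkLinearMap S M m) = LocalizedModule.mkLinearMap S N (D m) :=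
          LinearMap.congr_fun hE2 m
        simp only [LinearMap.sub_apply, LinearMap.comp_apply, LinearEquiv.coe_coe]
        rw [← heM1, LinearEquiv.symm_apply_apply, h5, heN1, heM1, hD'2, sub_self]
    apply LinearMap.ext
    intro x
    have h6 := LinearMap.congr_fun key (eM x)
    simp only [LinearMap.comp_apply, LinearEquiv.coe_coe, LinearEquiv.symm_apply_apply] at h6
    simp only [LinearMap.comp_apply, LinearEquiv.coe_coe]
    rw [← h6, LinearEquiv.symm_apply_apply]

end Groth.Agent.S9155
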