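import Groth.Statements.S9160
import Mathlib
import Groth.Agent.Lib.helper4.LengthQuot

set_option autoImplicit false
universe u
open CAlg

namespace Groth.Agent.S9160

/-- In a semi-local Noetherian ring of dimension one, for nonzerodivisors a and b the length of R/(ab)
is the sum of the lengths of R/(a) and R/(b), and these lengths are finite. -/
theorem result (R : Type u) [CommRing R] [IsNoetherianRing R]
    (hsemi : Finite (MaximalSpectrum R)) (hdim : ringKrullDim R = 1) (a b : R) (ha : IsRegular a)
    (hb : IsRegular b) :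
    Module.length R (R ⧸ Ideal.span ({a * b} : Set R)) =
        Module.length R (R ⧸ Ideal.span ({a} : Set R)) + Module.length R (R ⧸ Ideal.span ({b} : Set R)) ∧
      Module.length R (R ⧸ Ideal.span ({a} : Set R)) ≠ ⊤ ∧
      Module.length R (R ⧸ Ideal.span ({b} : Set R)) ≠ ⊤ := by
  classical
  have hnzd : ∀ c : R, IsRegular c → c ∈ nonZeroDivisors R := fun c hc =>
    hc.mem_nonZeroDivisors
  have hmin : ∀ c : R, IsRegular c → ∀ p ∈ minimalPrimes R, c ∉ p := by
    intro c hc p hp hcp
    exact Set.disjoint_left.1 (Ideal.disjoint_nonZeroDivisors_of_mem_minimalPrimes hp) hcp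
      (hnzd c hc)
  refine ⟨(Groth.Agent.H4.H4_length_quot_mul R a b).2 (hnzd a ha),
    Groth.Agent.H4.H4_length_quot_ne_top R hdim.le a (hmin a ha),
    Groth.Agent.H4.H4_length_quot_ne_top R hdim.le b (hmin b hb)⟩

end Groth.Agent.S9160
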