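import Groth.Statements.S9161
import Mathlib

set_option autoImplicit false
universe u
open CAlg

namespace Groth.Agent.S9161

/-- If two two-term complexes of R-modules A₁ → A₀ and B₁ → B₀ are homotopy equivalent (maps of
complexes both ways whose composites are homotopic to the identity maps), then A₁ ⊕ B₀ and B₁ ⊕ A₀
are isomorphic R-modules. -/
theorem result (R : Type u) [CommRing R]
    (A₁ A₀ B₁ B₀ : Type u) [AddCommGroup A₁] [Module R A₁] [AddCommGroup A₀] [Module R A₀]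
    [AddCommGroup B₁] [Module R B₁] [AddCommGroup B₀] [Module R B₀]
    (dA : A₁ →ₗ[R] A₀) (dB : B₁ →ₗ[R] B₀) (φ₁ : A₁ →ₗ[R] B₁) (φ₀ : A₀ →ₗ[R] B₀)
    (ψ₁ : B₁ →ₗ[R] A₁) (ψ₀ : B₀ →ₗ[R] A₀) (hφ : dB ∘ₗ φ₁ = φ₀ ∘ₗ dA) (hψ : dA ∘ₗ ψ₁ = ψ₀ ∘ₗ dB)
    (h : A₀ →ₗ[R] A₁) (hh₁ : LinearMap.id - ψ₁ ∘ₗ φ₁ = h ∘ₗ dA) (hh₀ : LinearMap.id - ψ₀ ∘ₗ φ₀ = dA ∘ₗ h)
    (h' : B₀ →ₗ[R] B₁) (hh'₁ : LinearMap.id - φ₁ ∘ₗ ψ₁ = h' ∘ₗ dB)
    (hh'₀ : LinearMap.id - φ₀ ∘ₗ ψ₀ = dB ∘ₗ h') :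
    Nonempty ((A₁ × B₀) ≃ₗ[R] (B₁ × A₀)) := by
  have e1 : ∀ a, ψ₁ (φ₁ a) + h (dA a) = a := by
    intro a
    have := LinearMap.congr_fun hh₁ a
    simp only [LinearMap.sub_apply, LinearMap.id_coe, id_eq, LinearMap.comp_apply] at this
    rw [← this]; abel
  have e2 : ∀ a, ψ₀ (φ₀ a) + dA (h a) = a := by
    intro a
    have := LinearMap.congr_fun hh₀ a
    simp only [LinearMap.sub_apply, LinearMap.id_coe, id_eq, LinearMap.comp_apply] at this
    rw [← this]; abel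
  have e3 : ∀ b, φ₁ (ψ₁ b) + h' (dB b) = b := by
    intro b
    have := LinearMap.congr_fun hh'₁ b
    simp only [LinearMap.sub_apply, LinearMap.id_coe, id_eq, LinearMap.comp_apply] at this
    rw [← this]; abel
  have e4 : ∀ b, φ₀ (ψ₀ b) + dB (h' b) = b := by
    intro b
    have := LinearMap.congr_fun hh'₀ b
    simp only [LinearMap.sub_apply, LinearMap.id_coe, id_eq, LinearMap.comp_apply] at this
    rw [← this]; abel
  have c1 : ∀ a, dB (φ₁ a) = φ₀ (dA a) := fun a => LinearMap.congr_fun hφ a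
  have c2 : ∀ b, dA (ψ₁ b) = ψ₀ (dB b) := fun b => LinearMap.congr_fun hψ b
  let α : (A₁ × B₀) →ₗ[R] (B₁ × A₀) :=
    LinearMap.prod (φ₁.comp (LinearMap.fst R A₁ B₀) + h'.comp (LinearMap.snd R A₁ B₀))
      (-(dA.comp (LinearMap.fst R A₁ B₀)) + ψ₀.comp (LinearMap.snd R A₁ B₀))
  let β : (B₁ × A₀) →ₗ[R] (A₁ × B₀) :=
    LinearMap.prod (ψ₁.comp (LinearMap.fst R B₁ A₀) - h.comp (LinearMap.snd R B₁ A₀))
      (dB.comp (LinearMap.fst R B₁ A₀) + φ₀.comp (LinearMap.snd R B₁ A₀))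
  have hα : ∀ a b, α (a, b) = (φ₁ a + h' b, -dA a + ψ₀ b) := fun a b => rfl
  have hβ : ∀ b a, β (b, a) = (ψ₁ b - h a, dB b + φ₀ a) := fun b a => rfl
  have hβα : ∀ a b, β (α (a, b)) = (a + (ψ₁ (h' b) - h (ψ₀ b)), b) := by
    intro a b
    rw [hα, hβ]
    refine Prod.ext ?_ ?_
    · simp only [map_add, map_neg, map_sub]
      have h1 := sub_eq_zero.2 (e1 a)
      rw [← sub_eq_zero, ← h1]
      abel
    · simp only [map_add, map_neg, map_sub]
      have h1 := sub_eq_zero.2 (c1 a)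
      have h2 := sub_eq_zero.2 (e4 b)
      rw [← sub_eq_zero]
      calc _ = (dB (φ₁ a) - φ₀ (dA a)) + (φ₀ (ψ₀ b) + dB (h' b) - b) := by abel
        _ = 0 := by rw [h1, h2, add_zero]
  have hαβ : ∀ b a, α (β (b, a)) = (b + (h' (φ₀ a) - φ₁ (h a)), a) := by
    intro b a
    rw [hβ, hα]
    refine Prod.ext ?_ ?_
    · simp only [map_add, map_neg, map_sub]
      have h1 := sub_eq_zero.2 (e3 b)
      rw [← sub_eq_zero, ← h1]
      abel
    · simp only [map_add, map_neg, map_sub]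
      have h1 := sub_eq_zero.2 (c2 b)
      have h2 := sub_eq_zero.2 (e2 a)
      rw [← sub_eq_zero]
      calc _ = -(dA (ψ₁ b) - ψ₀ (dB b)) + (ψ₀ (φ₀ a) + dA (h a) - a) := by abel
        _ = 0 := by rw [h1, h2, neg_zero, add_zero]
  have hinj : Function.Injective α := by
    rw [injective_iff_map_eq_zero]
    rintro ⟨a, b⟩ hab
    have := hβα a b
    rw [hab, map_zero] at this
    have hb : b = 0 := (congrArg Prod.snd this).symm
    have ha := (congrArg Prod.fst this).symm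
    simp only [hb, map_zero, sub_zero, add_zero] at ha
    change a = 0 at ha
    rw [ha, hb]; rfl
  have hsurj : Function.Surjective α := by
    rintro ⟨x, y⟩
    refine ⟨β (x - (h' (φ₀ y) - φ₁ (h y)), y), ?_⟩
    rw [hαβ]
    refine Prod.ext ?_ rfl
    simp
  exact ⟨LinearEquiv.ofBijective α ⟨hinj, hsurj⟩⟩

end Groth.Agent.S9161
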