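import Groth.Statements.S9163
import Groth.Statements.S9163
import Mathlib

set_option autoImplicit false
universe u
open CAlg

namespace Groth.Agent.S9163

/-- If S is integral over R, then any finitely many elements of R and of S lie in a pair R₀ ⊆ R, S₀ ⊆ S
with R₀ a finite type ℤ-subalgebra, S₀ an R₀-subalgebra of S, and S₀ finite as an R₀-module; so R →
S is the directed colimit of finite maps between finite type ℤ-algebras. -/
theorem result (R S : Type u) [CommRing R] [CommRing S] [Algebra R S]
    [Algebra.IsIntegral R S] (E : Finset R) (F : Finset S) :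
    ∃ (R₀ : Subalgebra ℤ R) (S₀ : Subalgebra R₀ S), Algebra.FiniteType ℤ R₀ ∧ (E : Set R) ⊆ R₀ ∧
      (F : Set S) ⊆ S₀ ∧ Module.Finite R₀ S₀ := by
  classical
  -- monic polynomials
  have hint : ∀ s : S, ∃ p : Polynomial R, p.Monic ∧ Polynomial.eval₂ (algebraMap R S) s p = 0 :=
    fun s => Algebra.IsIntegral.isIntegral (R := R) s
  choose P hPmonic hPeval using hint
  let C : Finset R := F.biUnion fun s => (P s).coeffs
  let R₀ : Subalgebra ℤ R := Algebra.adjoin ℤ ((E ∪ C : Finset R) : Set R)
  have hE : (E : Set R) ⊆ R₀ := by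
    intro x hx
    apply Algebra.subset_adjoin
    exact Finset.mem_coe.mpr (Finset.mem_union_left _ hx)
  have hC : ∀ s ∈ F, ((P s).coeffs : Set R) ⊆ R₀ := by
    intro s hs x hx
    apply Algebra.subset_adjoin
    refine Finset.mem_coe.mpr (Finset.mem_union_right _ ?_)
    exact Finset.mem_biUnion.mpr ⟨s, hs, hx⟩
  have hfin : Algebra.FiniteType ℤ R₀ :=
    (Subalgebra.fg_iff_finiteType _).mp (Subalgebra.fg_adjoin_finset _)
  have hintF : ∀ s ∈ (F : Set S), IsIntegral R₀ s := by
    intro s hs
    have hl : P s ∈ Polynomial.lifts (algebraMap R₀ R) := by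
      rw [Polynomial.lifts_iff_coeffs_subset_range]
      intro x hx
      exact ⟨⟨x, hC s hs hx⟩, rfl⟩
    obtain ⟨q, hq, -, hqm⟩ := Polynomial.lifts_and_natDegree_eq_and_monic hl (hPmonic s)
    refine ⟨q, hqm, ?_⟩
    have := hPeval s
    rw [← hq, Polynomial.eval₂_map] at this
    rw [← this]
    rfl
  refine ⟨R₀, Algebra.adjoin R₀ (F : Set S), hfin, hE, Algebra.subset_adjoin, ?_⟩
  have hfg := fg_adjoin_of_finite (R := R₀) F.finite_toSet hintF
  exact Module.Finite.of_fg hfg

end Groth.Agent.S9163
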