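import Groth.Statements.S9178
import Mathlib
import Groth.Agent.Lib.helper4.TensorKer

set_option autoImplicit false
universe u
open CAlg

namespace Groth.Agent.S9178

/-- For ring maps A → B → C with A → C surjective, writing I = ker(A → C) and J = ker(B → C), the
sequence I/I² → J/J² → C ⊗_B Ω_{B/A} → 0 is exact. Stated: the image of I/I² in J/J² is exactly the
kernel of J/J² → C ⊗_B Ω_{B/A} (surjectivity of the latter map is the standard conormal sequence for
the surjection B → C). -/
theorem result (A B C : Type u) [CommRing A] [CommRing B]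
    [CommRing C] [Algebra A B] [Algebra B C] [Algebra A C] [IsScalarTower A B C]
    (hAC : Function.Surjective (algebraMap A C))
    (h : RingHom.ker (algebraMap A C) ≤ (RingHom.ker (algebraMap B C)).comap (Algebra.ofId A B)) :
    Function.Exact
      (Ideal.mapCotangent (RingHom.ker (algebraMap A C)) (RingHom.ker (algebraMap B C)) (Algebra.ofId A B) h)
      (KaehlerDifferential.kerCotangentToTensor A B C) := by
  classical
  let I : Ideal A := RingHom.ker (algebraMap A C)
  let J : Ideal B := RingHom.ker (algebraMap B C)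
  have hBC : Function.Surjective (algebraMap B C) := by
    intro c
    obtain ⟨a, rfl⟩ := hAC c
    exact ⟨algebraMap A B a, (IsScalarTower.algebraMap_apply A B C a).symm⟩
  let K : Ideal B := Ideal.map (algebraMap A B) I ⊔ J ^ 2
  have hIJ : ∀ a ∈ I, algebraMap A B a ∈ J := by
    intro a ha
    show algebraMap B C (algebraMap A B a) = 0
    rw [← IsScalarTower.algebraMap_apply]
    exact ha
  have hmapJ : Ideal.map (algebraMap A B) I ≤ J :=
    Ideal.map_le_iff_le_comap.mpr (fun a ha => hIJ a ha)
  let g : A →+* B ⧸ K := (Ideal.Quotient.mk K).comp (algebraMap A B)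
  have hg : RingHom.ker (algebraMap A C) ≤ RingHom.ker g := by
    intro a ha
    rw [RingHom.mem_ker]
    simp only [g, RingHom.comp_apply]
    rw [Ideal.Quotient.eq_zero_iff_mem]
    exact Ideal.mem_sup_left (Ideal.mem_map_of_mem _ ha)
  let s : C →+* B ⧸ K := (algebraMap A C).liftOfSurjective hAC ⟨g, hg⟩
  have hs : ∀ a, s (algebraMap A C a) = Ideal.Quotient.mk K (algebraMap A B a) :=
    fun a => RingHom.liftOfSurjective_comp_apply _ hAC ⟨g, hg⟩ a
  let φ2 : B →ₐ[A] B ⧸ K :=
    { (s.comp (algebraMap B C)) with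
      commutes' := fun a => by
        show s (algebraMap B C (algebraMap A B a)) = _
        rw [← IsScalarTower.algebraMap_apply, hs]
        rfl }
  let φ1 : B →ₐ[A] B ⧸ K := Ideal.Quotient.mkₐ A K
  have hφ2 : ∀ b, φ2 b = s (algebraMap B C b) := fun b => rfl
  have hφ1 : ∀ b, φ1 b = Ideal.Quotient.mk K b := fun b => rfl
  have hd : ∀ b : B, ∃ j ∈ J, φ1 b - φ2 b = Ideal.Quotient.mk K j := by
    intro b
    obtain ⟨a, ha⟩ := hAC (algebraMap B C b)
    refine ⟨b - algebraMap A B a, ?_, ?_⟩
    · show algebraMap B C (b - algebraMap A B a) = 0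
      rw [map_sub, ← IsScalarTower.algebraMap_apply, ha, sub_self]
    · rw [hφ1, hφ2, ← ha, hs, map_sub]
  have hJJ : ∀ j1 ∈ J, ∀ j2 ∈ J, Ideal.Quotient.mk K j1 * Ideal.Quotient.mk K j2 = 0 := by
    intro j1 h1 j2 h2
    rw [← map_mul, Ideal.Quotient.eq_zero_iff_mem]
    apply Ideal.mem_sup_right
    rw [pow_two]
    exact Ideal.mul_mem_mul h1 h2
  have hsm : ∀ (b : B) (x : B ⧸ K), b • x = φ1 b * x := by
    intro b x
    rw [Algebra.smul_def]
    rfl
  let d' : Derivation A B (B ⧸ K) := Derivation.mk' (φ1.toLinearMap - φ2.toLinearMap) (by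
    intro b1 b2
    obtain ⟨j1, hj1, e1⟩ := hd b1
    obtain ⟨j2, hj2, e2⟩ := hd b2
    have := hJJ j1 hj1 j2 hj2
    rw [← e1, ← e2] at this
    simp only [LinearMap.sub_apply, AlgHom.toLinearMap_apply, map_mul]
    rw [hsm, hsm]
    linear_combination (-1 : B ⧸ K) * this)
  have hd' : ∀ b, d' b = φ1 b - φ2 b := fun b => rfl
  let ℓ : Ω[B⁄A] →ₗ[B] B ⧸ K := d'.liftKaehlerDifferential
  have hℓD : ∀ b, ℓ (KaehlerDifferential.D A B b) = d' b := fun b => d'.liftKaehlerDifferential_comp_D b
  have hℓ0 : ∀ ω : Ω[B⁄A], ∀ j ∈ J, j • ℓ ω = 0 := by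
    intro ω
    have hω : ω ∈ Submodule.span B (Set.range (KaehlerDifferential.D A B)) := by
      rw [KaehlerDifferential.span_range_derivation]
      trivial
    induction hω using Submodule.span_induction with
    | mem ω h =>
      obtain ⟨b, rfl⟩ := h
      intro j hj
      rw [hℓD, hd']
      obtain ⟨j', hj', e⟩ := hd b
      rw [e, hsm]
      exact hJJ j hj j' hj'
    | zero => intro j _; rw [map_zero, smul_zero]
    | add x y _ _ ihx ihy => intro j hj; rw [map_add, smul_add, ihx j hj, ihy j hj, add_zero]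
    | smul b ω _ ih => intro j hj; rw [map_smul, smul_comm, ih j hj, smul_zero]
  have hℓJ : ∀ ω ∈ J • (⊤ : Submodule B (Ω[B⁄A])), ℓ ω = 0 := by
    intro ω hω
    refine Submodule.smul_induction_on hω ?_ ?_
    · intro j hj ω _
      rw [map_smul]
      exact hℓ0 ω j hj
    · intro x y ihx ihy
      rw [map_add, ihx, ihy, add_zero]
  -- elements of I.map are congruent mod J^2 to images of elements of I
  have hmapI : ∀ u ∈ Ideal.map (algebraMap A B) I, ∃ a ∈ I, u - algebraMap A B a ∈ J ^ 2 := by
    intro u hu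
    rw [Ideal.map] at hu
    induction hu using Submodule.span_induction with
    | mem u h =>
      obtain ⟨a, ha, rfl⟩ := h
      exact ⟨a, ha, by rw [sub_self]; exact zero_mem _⟩
    | zero => exact ⟨0, zero_mem _, by simp⟩
    | add x y _ _ ihx ihy =>
      obtain ⟨a1, h1, e1⟩ := ihx
      obtain ⟨a2, h2, e2⟩ := ihy
      refine ⟨a1 + a2, add_mem h1 h2, ?_⟩
      rw [map_add]
      have : x + y - (algebraMap A B a1 + algebraMap A B a2) =
          (x - algebraMap A B a1) + (y - algebraMap A B a2) := by ring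
      rw [this]
      exact add_mem e1 e2
    | smul b u hu ih =>
      obtain ⟨a, ha, e⟩ := ih
      obtain ⟨ab, hab⟩ := hAC (algebraMap B C b)
      have hjb : b - algebraMap A B ab ∈ J := by
        show algebraMap B C (b - algebraMap A B ab) = 0
        rw [map_sub, ← IsScalarTower.algebraMap_apply, hab, sub_self]
      have huJ : u ∈ J := hmapJ (by rw [Ideal.map]; exact hu)
      refine ⟨ab * a, I.mul_mem_left _ ha, ?_⟩
      have : b • u - algebraMap A B (ab * a) =
          algebraMap A B ab * (u - algebraMap A B a) + (b - algebraMap A B ab) * u := by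
        rw [map_mul, smul_eq_mul]
        ring
      rw [this]
      refine add_mem (Ideal.mul_mem_left _ _ e) ?_
      rw [pow_two]
      exact Ideal.mul_mem_mul hjb huJ
  intro y
  constructor
  · intro hy
    obtain ⟨⟨x, hx⟩, rfl⟩ := Ideal.toCotangent_surjective _ y
    rw [KaehlerDifferential.kerCotangentToTensor_toCotangent] at hy
    have h1 := Groth.Agent.H4.H4_mem_smul_top_of_one_tmul_eq_zero hBC _ hy
    have h2 : ℓ (KaehlerDifferential.D A B x) = 0 := hℓJ _ h1
    rw [hℓD, hd', hφ1, hφ2] at h2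
    have hx0 : algebraMap B C x = 0 := hx
    rw [hx0, map_zero, sub_zero, Ideal.Quotient.eq_zero_iff_mem] at h2
    obtain ⟨u, hu, v, hv, huv⟩ := Submodule.mem_sup.mp h2
    obtain ⟨a, ha, e⟩ := hmapI u hu
    refine ⟨Ideal.toCotangent _ ⟨a, ha⟩, ?_⟩
    rw [Ideal.mapCotangent_toCotangent, Ideal.toCotangent_eq]
    show algebraMap A B a - x ∈ J ^ 2
    have : algebraMap A B a - x = -((u - algebraMap A B a) + v) := by
      rw [← huv]
      ring
    rw [this]
    exact neg_mem (add_mem e hv)
  · rintro ⟨z, rfl⟩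
    obtain ⟨⟨a, ha⟩, rfl⟩ := Ideal.toCotangent_surjective _ z
    rw [Ideal.mapCotangent_toCotangent, KaehlerDifferential.kerCotangentToTensor_toCotangent]
    show (1 : C) ⊗ₜ[B] KaehlerDifferential.D A B (algebraMap A B a) = 0
    rw [Derivation.map_algebraMap, TensorProduct.tmul_zero]

end Groth.Agent.S9178
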