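import Groth.Statements.S9235
import Mathlib
import Groth.Agent.Lib.helper5.TotalIdem

set_option autoImplicit false
universe u
open Brnch

namespace Groth.Agent.S9235

/-- A local ring A has exactly one branch if and only if it is unibranch. Here the number of branches is
computed as the number of maximal ideals of the integral closure of A_red in its total ring of
fractions (infinity when A has infinitely many minimal primes). -/
theorem result (A : Type u) [CommRing A] [IsLocalRing A] :
    Brnch.numBranches A = 1 ↔ CAlg2.IsUnibranch A := by
  classical
  haveI hred : IsReduced (CAlg2.red A) :=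
    (Ideal.isRadical_iff_quotient_reduced (nilradical A)).mp (Ideal.radical_isRadical _)
  have hnb : (minimalPrimes A).Finite →
      Brnch.numBranches A = ENat.card (MaximalSpectrum (CAlg2.normRed A)) := by
    intro hfin
    unfold Brnch.numBranches
    rw [if_pos hfin]
  have hnb' : ¬ (minimalPrimes A).Finite → Brnch.numBranches A = ⊤ := by
    intro hn
    unfold Brnch.numBranches
    rw [if_neg hn]
  have hfinR : (minimalPrimes A).Finite → (minimalPrimes (CAlg2.red A)).Finite := by
    intro hfin
    have h1 : (nilradical A).minimalPrimes = minimalPrimes A :=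
      Ideal.radical_minimalPrimes (I := (⊥ : Ideal A))
    have h2 := Ideal.minimalPrimes_eq_comap (I := nilradical A)
    rw [h1] at h2
    rw [h2] at hfin
    exact Set.Finite.of_finite_image hfin
      ((Ideal.comap_injective_of_surjective _ Ideal.Quotient.mk_surjective).injOn)
  constructor
  · intro h
    have hfin : (minimalPrimes A).Finite := by
      by_contra hn
      rw [hnb' hn] at h
      exact ENat.top_ne_one h
    rw [hnb hfin, ENat.card_eq_one_iff_unique] at h
    obtain ⟨u⟩ := h
    have hloc : IsLocalRing (CAlg2.normRed A) :=
      IsLocalRing.of_unique_max_ideal ⟨u.default.asIdeal, u.default.isMaximal,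
        fun J hJ => congrArg MaximalSpectrum.asIdeal (u.uniq ⟨J, hJ⟩)⟩
    exact ⟨H5TI.isDomain_of_local_closure (hfinR hfin) hloc, hloc⟩
  · rintro ⟨hdom, hloc⟩
    haveI := hdom
    haveI := hloc
    have hfin : (minimalPrimes A).Finite := by
      haveI hnp : (nilradical A).IsPrime := (Ideal.Quotient.isDomain_iff_prime _).1 hdom
      have hsub : minimalPrimes A ⊆ {nilradical A} := by
        intro q hq
        have hqm : Minimal (fun q : Ideal A => q.IsPrime ∧ ⊥ ≤ q) q := hq
        haveI := hqm.prop.1
        exact Set.mem_singleton_iff.2
          (le_antisymm (hqm.le_of_le ⟨hnp, bot_le⟩ (nilradical_le_prime q)) (nilradical_le_prime q))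
      exact (Set.finite_singleton _).subset hsub
    rw [hnb hfin, ENat.card_eq_one_iff_unique]
    exact ⟨inferInstance⟩

end Groth.Agent.S9235
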