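import Groth.Statements.S9245
import Mathlib

set_option autoImplicit false
universe u
open CAlg

namespace Groth.Agent.S9245

/-- For an étale ring map A → B and a prime q of B with contraction p in A, the localization A_p is a
Noetherian ring exactly when the localization B_q is. -/
theorem result (A B : Type u) [CommRing A] [CommRing B]
    [Algebra A B] [Algebra.Etale A B] (q : Ideal B) [q.IsPrime] :
    IsNoetherianRing (Localization.AtPrime (Ideal.comap (algebraMap A B) q)) ↔
      IsNoetherianRing (Localization.AtPrime q) := by
  classical
  letI : Algebra (Localization.AtPrime (Ideal.comap (algebraMap A B) q)) (Localization.AtPrime q) :=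
    (Localization.localRingHom (Ideal.comap (algebraMap A B) q) q (algebraMap A B) rfl).toAlgebra
  haveI : IsScalarTower A (Localization.AtPrime (Ideal.comap (algebraMap A B) q))
      (Localization.AtPrime q) :=
    .of_algebraMap_eq fun x => by
      rw [IsScalarTower.algebraMap_apply A B (Localization.AtPrime q)]
      exact (Localization.localRingHom_to_map _ _ _ rfl x).symm
  constructor
  · intro hN
    haveI : Algebra.EssFiniteType A (Localization.AtPrime q) :=
      Algebra.EssFiniteType.comp A B _
    haveI : Algebra.EssFiniteType (Localization.AtPrime (Ideal.comap (algebraMap A B) q))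
        (Localization.AtPrime q) := Algebra.EssFiniteType.of_comp A _ _
    exact Algebra.EssFiniteType.isNoetherianRing
      (Localization.AtPrime (Ideal.comap (algebraMap A B) q)) _
  · intro hN
    have hflat : (algebraMap A B).Flat := (RingHom.flat_algebraMap_iff).mpr inferInstance
    have h2 := hflat.localRingHom q (Ideal.comap (algebraMap A B) q) rfl
    haveI : Module.Flat (Localization.AtPrime (Ideal.comap (algebraMap A B) q))
        (Localization.AtPrime q) := h2
    haveI : IsLocalHom (algebraMap (Localization.AtPrime (Ideal.comap (algebraMap A B) q))
        (Localization.AtPrime q)) := Localization.isLocalHom_localRingHom _ _ _ rfl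
    haveI := Module.FaithfullyFlat.of_flat_of_isLocalHom
      (A := Localization.AtPrime (Ideal.comap (algebraMap A B) q)) (B := Localization.AtPrime q)
    rw [isNoetherianRing_iff, isNoetherian_iff'] at hN ⊢
    exact StrictMono.wellFoundedGT
      (f := Ideal.map (algebraMap (Localization.AtPrime (Ideal.comap (algebraMap A B) q))
        (Localization.AtPrime q))) (by
      intro I J hIJ
      refine lt_of_le_of_ne (Ideal.map_mono hIJ.le) fun h => hIJ.ne ?_
      rw [← Ideal.comap_map_eq_self_of_faithfullyFlat (B := Localization.AtPrime q) I, h,
        Ideal.comap_map_eq_self_of_faithfullyFlat])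

end Groth.Agent.S9245
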