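import Groth.Statements.S9256
import Mathlib
import Groth.Agent.Lib.helper6.RegHomField

set_option autoImplicit false
universe u
open CAlg

namespace Groth.Agent.S9256

/-- For a field extension K of k, the ring map k → K is regular exactly when K is separable over k, that
is, geometrically reduced over k. -/
theorem result (k K : Type u) [Field k] [Field K]
    [Algebra k K] : CAlg.IsRegularHom k K ↔ Algebra.IsGeometricallyReduced k K := by
  constructor
  · rintro ⟨-, h⟩
    obtain ⟨-, hgr⟩ := h (⊥ : Ideal k)
    rw [Algebra.isGeometricallyReduced_field_iff]
    haveI hK : IsReduced (TensorProduct k K (AlgebraicClosure k)) := by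
      apply IsReduced.tensorProduct_of_flat_of_forall_fg
      intro B hB
      exact Groth.Agent.Lib.helper6.H6_reduced_of_regular_sub k K B hB hgr
    exact isReduced_of_injective
      (Algebra.TensorProduct.comm k (AlgebraicClosure k) K).toRingEquiv.toRingHom
      (Algebra.TensorProduct.comm k (AlgebraicClosure k) K).injective
  · intro hred
    refine ⟨inferInstance, fun p hp => ?_⟩
    haveI : p.IsMaximal := by simpa [p.eq_bot_of_prime] using Ideal.bot_isMaximal
    refine ⟨?_, ?_⟩
    · exact isNoetherianRing_of_ringEquiv K
        ((Algebra.TensorProduct.congr p.algEquivResidueFieldOfField.symm AlgEquiv.refl).trans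
          (Algebra.TensorProduct.lid k K)).symm.toRingEquiv
    · intro k' _ _ hfin
      letI : Algebra k k' := ((algebraMap p.ResidueField k').comp (algebraMap k p.ResidueField)).toAlgebra
      haveI : IsScalarTower k p.ResidueField k' := IsScalarTower.of_algebraMap_eq (fun _ => rfl)
      haveI : Module.Finite k k' := Module.Finite.trans p.ResidueField k'
      exact Groth.Agent.Lib.helper6.H6_regular_of_geomRed k p.ResidueField K k'

end Groth.Agent.S9256
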