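import Groth.Statements.S9275
import Mathlib

set_option autoImplicit false
universe u
open EtAlg

namespace Groth.Agent.S9275

/-- Let A → B be a ring map and J an ideal of B such that A → B is étale at every prime of V(J), in the
sense that every prime q ⊇ J has some h ∉ q with A → B_h étale. Then there is g ∈ B mapping to a
unit of B/J such that A → B_g is étale. -/
theorem result (A B : Type u) [CommRing A] [CommRing B]
    [Algebra A B] (J : Ideal B)
    (h : ∀ (q : Ideal B) [q.IsPrime], J ≤ q → ∃ h : B, h ∉ q ∧ Algebra.Etale A (Localization.Away h)) :
    ∃ g : B, IsUnit (Ideal.Quotient.mk J g) ∧ Algebra.Etale A (Localization.Away g) := by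
  classical
  let T : Set B := {h | Algebra.Etale A (Localization.Away h)}
  have hK : Ideal.span T ⊔ J = ⊤ := by
    by_contra hne
    obtain ⟨q, hq, hle⟩ := Ideal.exists_le_maximal _ hne
    haveI := hq.isPrime
    obtain ⟨h', hh'q, hh'⟩ := h q (le_trans le_sup_right hle)
    exact hh'q (hle (Ideal.mem_sup_left (Ideal.subset_span hh')))
  obtain ⟨t, ht, j, hj, htj⟩ := Submodule.mem_sup.mp ((Ideal.eq_top_iff_one _).mp hK)
  refine ⟨t, ?_, ?_⟩
  · have h1 : Ideal.Quotient.mk J t = 1 := by
      rw [← map_one (Ideal.Quotient.mk J), Ideal.Quotient.eq]
      have : t - 1 = -j := by rw [← htj]; ring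
      rw [this]; exact J.neg_mem hj
    rw [h1]; exact isUnit_one
  · rw [← RingHom.etale_algebraMap]
    apply RingHom.Etale.ofLocalizationSpanTarget (algebraMap A (Localization.Away t))
      (algebraMap B (Localization.Away t) '' T)
    · rw [← Ideal.map_span]
      have hu : IsUnit (algebraMap B (Localization.Away t) t) :=
        IsLocalization.Away.algebraMap_isUnit t
      have hmem : algebraMap B (Localization.Away t) t ∈
          Ideal.map (algebraMap B (Localization.Away t)) (Ideal.span T) :=
        Ideal.mem_map_of_mem _ ht
      exact Ideal.eq_top_of_isUnit_mem _ hmem hu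
    · rintro ⟨_, h', hh', rfl⟩
      have e1 : (algebraMap (Localization.Away t)
          (Localization.Away (algebraMap B (Localization.Away t) h'))).comp
          (algebraMap A (Localization.Away t)) =
          algebraMap A (Localization.Away (algebraMap B (Localization.Away t) h')) :=
        (IsScalarTower.algebraMap_eq A (Localization.Away t) _).symm
      change ((algebraMap (Localization.Away t)
          (Localization.Away (algebraMap B (Localization.Away t) h'))).comp
          (algebraMap A (Localization.Away t))).Etale
      rw [e1, RingHom.etale_algebraMap]
      haveI i1 : IsLocalization.Away (t * h')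
          (Localization.Away (algebraMap B (Localization.Away t) h')) :=
        IsLocalization.Away.mul' (Localization.Away t) _ t h'
      haveI i2 : IsLocalization.Away (t * h')
          (Localization.Away (algebraMap B (Localization.Away h') t)) :=
        IsLocalization.Away.mul (Localization.Away h') _ h' t
      haveI : Algebra.Etale A (Localization.Away h') := hh'
      haveI : Algebra.Etale A (Localization.Away (algebraMap B (Localization.Away h') t)) :=
        Algebra.Etale.comp A (Localization.Away h') _
      let e : Localization.Away (algebraMap B (Localization.Away h') t) ≃ₐ[B]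
          Localization.Away (algebraMap B (Localization.Away t) h') :=
        IsLocalization.algEquiv (Submonoid.powers (t * h')) _ _
      exact Algebra.Etale.of_equiv (e.restrictScalars A)

end Groth.Agent.S9275
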