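import Groth.Statements.S9277
import Mathlib

set_option autoImplicit false
universe u
open CAlgX

namespace Groth.Agent.S9277

/-- Let R be a local ring and φ : R^m → R^n a map of finite free modules with matrix M. Then φ is
injective if and only if the rank of M is m and the annihilator of the determinantal ideal I(M)
(generated by the minors of size the rank) is zero. -/
theorem result (R : Type u) [CommRing R] [IsLocalRing R]
    (m n : ℕ) (M : Matrix (Fin n) (Fin m) R) :
    Function.Injective (Matrix.mulVecLin M) ↔
      CAlgX.matrixRank M = m ∧ (CAlgX.detIdeal M).annihilator = ⊥ := by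
  classical
  have hbig : ∀ r, m < r → CAlgX.minorIdeal M r = ⊥ := by
    intro r hr
    unfold CAlgX.minorIdeal
    rw [Ideal.span_eq_bot]
    rintro _ ⟨⟨f, g⟩, rfl⟩
    have hg : ¬ Function.Injective g := by
      intro hinj
      have := Fintype.card_le_of_injective g hinj
      simp only [Fintype.card_fin] at this
      omega
    rw [Function.Injective] at hg
    push Not at hg
    obtain ⟨s, t, hst, hne⟩ := hg
    exact Matrix.det_zero_of_column_eq hne (fun k => by simp [Matrix.submatrix_apply, hst])
  have hkill : ∀ v : Fin m → R, M.mulVec v = 0 → ∀ (f : Fin m → Fin n) (g : Fin m → Fin m)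
      (j : Fin m), Matrix.det (M.submatrix f g) * v j = 0 := by
    intro v hv f g j
    by_cases hg : Function.Injective g
    · have hgb : Function.Bijective g := Finite.injective_iff_bijective.1 hg
      obtain ⟨t, rfl⟩ := hgb.2 j
      have h1 : (M.submatrix f g).mulVec (v ∘ g) = 0 := by
        funext s
        have h0 := congrFun hv (f s)
        simp only [Matrix.mulVec, dotProduct, Matrix.submatrix_apply, Function.comp,
          Pi.zero_apply] at h0 ⊢
        rw [← h0]
        exact Fintype.sum_bijective g hgb _ _ (fun x => rfl)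
      have h2 : (M.submatrix f g).det • (v ∘ g) = 0 := by
        have h3 := congrArg (fun w => (M.submatrix f g).adjugate.mulVec w) h1
        simp only [Matrix.mulVec_mulVec, Matrix.adjugate_mul, Matrix.mulVec_zero] at h3
        rwa [Matrix.smul_mulVec, Matrix.one_mulVec] at h3
      have h4 := congrFun h2 t
      simpa using h4
    · rw [Function.Injective] at hg
      push Not at hg
      obtain ⟨s, t, hst, hne⟩ := hg
      rw [Matrix.det_zero_of_column_eq hne (fun k => by simp [hst]), zero_mul]
  have hmccoy : ∀ a : R, a ≠ 0 → (∀ (f : Fin m → Fin n) (g : Fin m → Fin m),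
      a * Matrix.det (M.submatrix f g) = 0) → ∃ v : Fin m → R, v ≠ 0 ∧ M.mulVec v = 0 := by
    intro a ha hm
    have hex : ∃ r : ℕ, ∀ (f : Fin r → Fin n) (g : Fin r → Fin m),
        a * Matrix.det (M.submatrix f g) = 0 := ⟨m, hm⟩
    have hr'0 : Nat.find hex ≠ 0 := by
      intro h0
      have h1 := Nat.find_spec hex
      rw [h0] at h1
      have h2 := h1 Fin.elim0 Fin.elim0
      rw [Matrix.det_fin_zero, mul_one] at h2
      exact ha h2
    have hr'm : Nat.find hex ≤ m := Nat.find_min' hex hm
    obtain ⟨r, hr⟩ : ∃ r, Nat.find hex = r + 1 := ⟨Nat.find hex - 1, by omega⟩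
    have hPr1 : ∀ (f : Fin (r + 1) → Fin n) (g : Fin (r + 1) → Fin m),
        a * Matrix.det (M.submatrix f g) = 0 := hr ▸ Nat.find_spec hex
    have hnPr : ¬ ∀ (f : Fin r → Fin n) (g : Fin r → Fin m),
        a * Matrix.det (M.submatrix f g) = 0 := Nat.find_min hex (by omega)
    push Not at hnPr
    obtain ⟨I, J, hIJ⟩ := hnPr
    obtain ⟨j', hj'⟩ : ∃ j' : Fin m, ∀ s, J s ≠ j' := by
      by_contra hcon
      push Not at hcon
      have hsurj : Function.Surjective J := fun j => hcon j
      have := Fintype.card_le_of_surjective J hsurj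
      simp only [Fintype.card_fin] at this
      omega
    let cols' : Fin (r + 1) → Fin m := Fin.cons j' J
    let c : Fin (r + 1) → R := fun t =>
      a * ((-1) ^ (t : ℕ) * Matrix.det (M.submatrix I (cols' ∘ t.succAbove)))
    refine ⟨fun j => ∑ t : Fin (r + 1), if cols' t = j then c t else 0, ?_, ?_⟩
    · intro hv
      have h1 := congrFun hv j'
      simp only [Pi.zero_apply] at h1
      rw [Fin.sum_univ_succ] at h1
      have h2 : ∀ s : Fin r, (if cols' s.succ = j' then c s.succ else 0) = 0 := by
        intro s
        rw [if_neg]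
        show (Fin.cons j' J : Fin (r + 1) → Fin m) s.succ ≠ j'
        rw [Fin.cons_succ]
        exact hj' s
      rw [Finset.sum_congr rfl (fun s _ => h2 s), Finset.sum_const_zero, add_zero] at h1
      have h3 : cols' 0 = j' := rfl
      rw [if_pos h3] at h1
      have h4 : cols' ∘ (0 : Fin (r + 1)).succAbove = J := by
        funext s
        simp [cols']
      simp only [c, h4] at h1
      apply hIJ
      simpa using h1
    · funext i
      simp only [Matrix.mulVec, dotProduct, Pi.zero_apply]
      have e1 : ∑ j : Fin m, M i j * ∑ t : Fin (r + 1), (if cols' t = j then c t else 0) =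
          ∑ t : Fin (r + 1), M i (cols' t) * c t := by
        simp only [Finset.mul_sum]
        rw [Finset.sum_comm]
        refine Finset.sum_congr rfl fun t _ => ?_
        simp only [mul_ite, mul_zero, Finset.sum_ite_eq, Finset.mem_univ, if_true]
      rw [e1]
      have e2 := Matrix.det_succ_row_zero (M.submatrix (Fin.cons i I : Fin (r + 1) → Fin n) cols')
      have e3 : ∑ t : Fin (r + 1), M i (cols' t) * c t =
          a * Matrix.det (M.submatrix (Fin.cons i I : Fin (r + 1) → Fin n) cols') := by
        rw [e2, Finset.mul_sum]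
        refine Finset.sum_congr rfl fun t _ => ?_
        have e4 : (M.submatrix (Fin.cons i I : Fin (r + 1) → Fin n) cols').submatrix Fin.succ
            t.succAbove = M.submatrix I (cols' ∘ t.succAbove) := by
          ext x y
          simp [Matrix.submatrix_apply]
        rw [e4]
        simp only [c, Matrix.submatrix_apply, Fin.cons_zero]
        ring
      rw [e3]
      exact hPr1 _ _
  have hgen : ∀ x ∈ CAlgX.minorIdeal M m, ∀ a : R, (∀ (f : Fin m → Fin n) (g : Fin m → Fin m),
      a * Matrix.det (M.submatrix f g) = 0) → a * x = 0 := by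
    intro x hx a ha
    unfold CAlgX.minorIdeal at hx
    refine Submodule.span_induction (p := fun x _ => a * x = 0) ?_ ?_ ?_ ?_ hx
    · rintro _ ⟨⟨f, g⟩, rfl⟩
      exact ha f g
    · exact mul_zero a
    · intro x y _ _ hx hy
      rw [mul_add, hx, hy, add_zero]
    · intro c x _ hx
      rw [smul_eq_mul, mul_left_comm, hx, mul_zero]
  constructor
  · intro hinj
    have hnz : ∀ a : R, a ≠ 0 → ∃ (f : Fin m → Fin n) (g : Fin m → Fin m),
        a * Matrix.det (M.submatrix f g) ≠ 0 := by
      intro a ha
      by_contra hcon
      push Not at hcon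
      obtain ⟨v, hv0, hv⟩ := hmccoy a ha hcon
      apply hv0
      apply hinj
      rw [map_zero]
      exact hv
    have hm_ne : CAlgX.minorIdeal M m ≠ ⊥ := by
      intro hbot
      obtain ⟨f, g, hfg⟩ := hnz 1 one_ne_zero
      apply hfg
      have : Matrix.det (M.submatrix f g) ∈ CAlgX.minorIdeal M m :=
        Ideal.subset_span ⟨(f, g), rfl⟩
      rw [hbot, Ideal.mem_bot] at this
      rw [this, mul_zero]
    have hrank : CAlgX.matrixRank M = m := by
      unfold CAlgX.matrixRank
      have hbdd : BddAbove {r : ℕ | CAlgX.minorIdeal M r ≠ ⊥} := by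
        refine ⟨m, fun r hr => ?_⟩
        by_contra hlt
        exact hr (hbig r (by omega))
      refine le_antisymm (csSup_le ⟨m, hm_ne⟩ fun r hr => ?_) (le_csSup hbdd hm_ne)
      by_contra hlt
      exact hr (hbig r (by omega))
    refine ⟨hrank, ?_⟩
    unfold CAlgX.detIdeal
    rw [hrank, Submodule.eq_bot_iff]
    intro a ha
    by_contra ha0
    obtain ⟨f, g, hfg⟩ := hnz a ha0
    apply hfg
    have hmem : Matrix.det (M.submatrix f g) ∈ CAlgX.minorIdeal M m :=
      Ideal.subset_span ⟨(f, g), rfl⟩
    have := Submodule.mem_annihilator.1 ha _ hmem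
    simpa using this
  · rintro ⟨hrank, hann⟩
    rw [injective_iff_map_eq_zero]
    intro v hv
    have hv' : M.mulVec v = 0 := hv
    funext j
    have hmem : v j ∈ (CAlgX.detIdeal M).annihilator := by
      unfold CAlgX.detIdeal
      rw [hrank]
      rw [Submodule.mem_annihilator]
      intro x hx
      rw [smul_eq_mul]
      refine hgen x hx (v j) fun f g => ?_
      rw [mul_comm]
      exact hkill v hv' f g j
    rw [hann, Ideal.mem_bot] at hmem
    exact hmem

end Groth.Agent.S9277
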