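import Groth.Statements.S9278
import Mathlib
import Groth.Agent.S9277

set_option autoImplicit false
universe u
open CAlgX

namespace Groth.Agent.S9278

/-- Let R be a Noetherian local ring and φ : R^m → R^n a map of finite free modules with matrix M. Then
φ is injective if and only if the rank of M is m and the determinantal ideal I(M) is the unit ideal
or contains a nonzerodivisor. -/
theorem result (R : Type u) [CommRing R]
    [IsLocalRing R] [IsNoetherianRing R] (m n : ℕ) (M : Matrix (Fin n) (Fin m) R) :
    Function.Injective (Matrix.mulVecLin M) ↔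
      CAlgX.matrixRank M = m ∧ (CAlgX.detIdeal M = ⊤ ∨ ∃ a ∈ CAlgX.detIdeal M, IsRegular a) := by
  classical
  rw [Groth.Agent.S9277.result R m n M]
  refine and_congr_right fun _ => ?_
  constructor
  · intro hann
    right
    by_contra hcon
    push Not at hcon
    have hsub : ((CAlgX.detIdeal M : Ideal R) : Set R) ⊆ ⋃ p ∈ associatedPrimes R R, (p : Set R) := by
      rw [biUnion_associatedPrimes_eq_compl_nonZeroDivisors]
      intro a ha hnz
      exact hcon a ha (isRegular_iff_mem_nonZeroDivisors.2 hnz)
    have hfin : (associatedPrimes R R).Finite := associatedPrimes.finite R R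
    have hsub' : ((CAlgX.detIdeal M : Ideal R) : Set R) ⊆
        ⋃ i ∈ (↑hfin.toFinset : Set (Ideal R)), ((id i : Ideal R) : Set R) := by
      intro a ha
      obtain ⟨p, hp⟩ := Set.mem_iUnion.1 (hsub ha)
      obtain ⟨hp1, hp2⟩ := Set.mem_iUnion.1 hp
      simp only [Set.mem_iUnion]
      exact ⟨p, by simpa using hp1, hp2⟩
    obtain ⟨p, hp, hle⟩ := (Ideal.subset_union_prime (s := hfin.toFinset) (f := id)
      (⊤ : Ideal R) (⊤ : Ideal R)
      (fun i hi _ _ => (hfin.mem_toFinset.1 hi).isPrime)).1 hsub'
    have hp' : IsAssociatedPrime p R := hfin.mem_toFinset.1 hp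
    obtain ⟨-, x, hx⟩ := isAssociatedPrime_iff.1 hp'
    have hx0 : x ≠ 0 := by
      rintro rfl
      have h1 : (1 : R) ∈ p := by
        rw [hx, Submodule.mem_colon_singleton]; simp
      exact hp'.isPrime.ne_top ((Ideal.eq_top_iff_one _).2 h1)
    have hxann : x ∈ (CAlgX.detIdeal M).annihilator := by
      rw [Submodule.mem_annihilator]
      intro a ha
      have h2 : a ∈ p := hle ha
      rw [hx, Submodule.mem_colon_singleton, Submodule.mem_bot] at h2
      rw [smul_eq_mul, mul_comm]
      simpa using h2
    rw [hann, Ideal.mem_bot] at hxann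
    exact hx0 hxann
  · rintro (htop | ⟨a, ha, hreg⟩)
    · rw [htop, Submodule.eq_bot_iff]
      intro x hx
      have := Submodule.mem_annihilator.1 hx 1 Submodule.mem_top
      simpa using this
    · rw [Submodule.eq_bot_iff]
      intro x hx
      have h1 := Submodule.mem_annihilator.1 hx a ha
      rw [smul_eq_mul] at h1
      exact hreg.right (by simp only [h1, zero_mul])

end Groth.Agent.S9278
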