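import Groth.Statements.S9283
import Mathlib

set_option autoImplicit false
universe u
open CAlg

namespace Groth.Agent.S9283

/-- Let R be an auto-associated ring, that is, a local ring whose maximal ideal is weakly associated to
R: some nonzero x ∈ R is killed by a power of every element of the maximal ideal. Then every proper
finitely generated ideal of R has a nonzero annihilator. -/
theorem result (R : Type u) [CommRing R] [IsLocalRing R]
    (h : ∃ x : R, x ≠ 0 ∧ ∀ f ∈ IsLocalRing.maximalIdeal R, ∃ n : ℕ, f ^ n * x = 0)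
    (I : Ideal R) (hI : I.FG) (hI' : I ≠ ⊤) : I.annihilator ≠ ⊥ := by
  classical
  obtain ⟨x, hx, hP⟩ := h
  obtain ⟨s, rfl⟩ := hI
  have hsub : ∀ f ∈ s, f ∈ IsLocalRing.maximalIdeal R := by
    intro f hf
    have h1 : Ideal.span (s : Set R) ≤ IsLocalRing.maximalIdeal R :=
      IsLocalRing.le_maximalIdeal hI'
    exact h1 (Ideal.subset_span hf)
  -- induction on the finite set of generators
  have key : ∀ t : Finset R, (∀ f ∈ t, f ∈ IsLocalRing.maximalIdeal R) →
      ∃ y : R, y ≠ 0 ∧ (∀ f ∈ IsLocalRing.maximalIdeal R, ∃ n : ℕ, f ^ n * y = 0) ∧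
        ∀ f ∈ t, f * y = 0 := by
    intro t
    induction t using Finset.induction_on with
    | empty => intro _; exact ⟨x, hx, hP, by simp⟩
    | insert a t ha ih =>
      intro ht
      obtain ⟨y, hy, hyP, hyt⟩ := ih (fun f hf => ht f (Finset.mem_insert_of_mem hf))
      have ham : a ∈ IsLocalRing.maximalIdeal R := ht a (Finset.mem_insert_self a t)
      have hex : ∃ n : ℕ, a ^ n * y = 0 := hyP a ham
      let n := Nat.find hex
      have hn : a ^ n * y = 0 := Nat.find_spec hex
      have hn0 : n ≠ 0 := by
        intro h0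
        rw [h0, pow_zero, one_mul] at hn
        exact hy hn
      obtain ⟨m, hm⟩ := Nat.exists_eq_succ_of_ne_zero hn0
      have hmin : a ^ m * y ≠ 0 := Nat.find_min hex (by omega : m < n)
      refine ⟨a ^ m * y, hmin, ?_, ?_⟩
      · intro f hf
        obtain ⟨k, hk⟩ := hyP f hf
        exact ⟨k, by rw [mul_left_comm, hk, mul_zero]⟩
      · intro f hf
        rcases Finset.mem_insert.1 hf with rfl | hf
        · rw [← mul_assoc, ← pow_succ', ← Nat.succ_eq_add_one, ← hm]; exact hn
        · rw [mul_left_comm, hyt f hf, mul_zero]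
  obtain ⟨y, hy, -, hyt⟩ := key s hsub
  intro hann
  apply hy
  have : y ∈ (Ideal.span (s : Set R)).annihilator := by
    rw [Submodule.mem_annihilator_span]
    rintro ⟨f, hf⟩
    rw [smul_eq_mul, mul_comm]
    exact hyt f hf
  rw [hann] at this
  exact this

end Groth.Agent.S9283
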