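import Groth.Statements.S9285
import Mathlib

set_option autoImplicit false
universe u
open CAlg

namespace Groth.Agent.S9285

/-- A ring R has the property that every proper finitely generated ideal has a nonzero annihilator if
and only if every injective linear map R → R^n admits a retraction. -/
theorem result (R : Type u) [CommRing R] :
    (∀ I : Ideal R, I.FG → I ≠ ⊤ → I.annihilator ≠ ⊥) ↔
      ∀ (n : ℕ) (u : R →ₗ[R] (Fin n → R)), Function.Injective u →
        ∃ v : (Fin n → R) →ₗ[R] R, v.comp u = LinearMap.id := by
  classical
  constructor
  · intro H n u hu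
    let a : Fin n → R := u 1
    have hur : ∀ r : R, u r = r • a := by
      intro r
      have : u r = u (r • (1 : R)) := by rw [smul_eq_mul, mul_one]
      rw [this, map_smul]
    have hann : (Ideal.span (Set.range a)).annihilator = ⊥ := by
      rw [eq_bot_iff]
      intro r hr
      rw [Submodule.mem_annihilator_span] at hr
      apply hu
      rw [map_zero, hur]
      funext i
      have := hr ⟨a i, i, rfl⟩
      simpa using this
    have htop : Ideal.span (Set.range a) = ⊤ := by
      by_contra hne
      exact H _ ⟨Finset.univ.image a, by simp⟩ hne hann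
    have h1 : (1 : R) ∈ Ideal.span (Set.range a) := by rw [htop]; trivial
    obtain ⟨b, hb⟩ := Ideal.mem_span_range_iff_exists_fun.1 h1
    refine ⟨∑ i, b i • LinearMap.proj i, ?_⟩
    ext
    simp only [LinearMap.comp_apply, LinearMap.sum_apply, LinearMap.smul_apply, LinearMap.proj_apply,
      LinearMap.id_apply]
    exact hb
  · intro H I hI hI' hann
    obtain ⟨n, a, rfl⟩ := Submodule.fg_iff_exists_fin_generating_family.1 hI
    let u : R →ₗ[R] (Fin n → R) := LinearMap.toSpanSingleton R (Fin n → R) a
    have hu : Function.Injective u := by
      rw [injective_iff_map_eq_zero]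
      intro r hr
      have hr' : r ∈ (Ideal.span (Set.range a)).annihilator := by
        rw [Submodule.mem_annihilator_span]
        rintro ⟨_, i, rfl⟩
        have := congrFun hr i
        simpa [u, LinearMap.toSpanSingleton_apply] using this
      rw [hann] at hr'
      exact hr'
    obtain ⟨v, hv⟩ := H n u hu
    apply hI'
    rw [Ideal.eq_top_iff_one]
    have h1 : v (u 1) = 1 := LinearMap.congr_fun hv 1
    have hu1 : u 1 = a := by simp [u, LinearMap.toSpanSingleton_apply]
    rw [hu1, LinearMap.pi_apply_eq_sum_univ] at h1
    rw [← h1]
    refine Ideal.sum_mem _ fun i _ => ?_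
    rw [smul_eq_mul]
    exact Ideal.mul_mem_right _ _ (Ideal.subset_span ⟨i, rfl⟩)

end Groth.Agent.S9285
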