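import Groth.Statements.S9300
import Mathlib

set_option autoImplicit false
universe u
open CAlg

namespace Groth.Agent.S9300

/-- Let A and B be domains and A → B a ring map for which the generic point of Spec(A) has a unique
preimage in Spec(B). Then every nonzero ideal of B has nonzero preimage in A. -/
theorem result (A B : Type u) [CommRing A] [IsDomain A]
    [CommRing B] [IsDomain B] (φ : A →+* B)
    (h : ∃! q : PrimeSpectrum B, Ideal.comap φ q.asIdeal = ⊥) (J : Ideal B) (hJ : J ≠ ⊥) :
    Ideal.comap φ J ≠ ⊥ := by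
  obtain ⟨q, hq, huniq⟩ := h
  have hinj : Function.Injective φ := by
    rw [injective_iff_map_eq_zero]
    intro a ha
    have : a ∈ Ideal.comap φ q.asIdeal := by
      rw [Ideal.mem_comap, ha]; exact q.asIdeal.zero_mem
    rw [hq] at this
    exact this
  have hbot : q = ⟨⊥, Ideal.isPrime_bot⟩ := by
    symm
    apply huniq
    ext a
    simp only [Ideal.mem_comap, Ideal.mem_bot]
    exact ⟨fun h => hinj (by rw [h, map_zero]), fun h => by rw [h, map_zero]⟩
  intro hcon
  -- multiplicative set φ(A \ 0)
  let S : Submonoid B := (nonZeroDivisors A).map φ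
  have hdisj : Disjoint (J : Set B) (S : Set B) := by
    rw [Set.disjoint_left]
    rintro _ hbJ ⟨a, ha, rfl⟩
    have : a ∈ Ideal.comap φ J := hbJ
    rw [hcon] at this
    exact (mem_nonZeroDivisors_iff_ne_zero.1 ha) this
  obtain ⟨p, hp, hJp, hpS⟩ := Ideal.exists_le_prime_disjoint J S hdisj
  have hpbot : Ideal.comap φ p = ⊥ := by
    rw [eq_bot_iff]
    intro a ha
    by_contra hne
    have : φ a ∈ (S : Set B) := ⟨a, mem_nonZeroDivisors_iff_ne_zero.2 hne, rfl⟩
    exact Set.disjoint_left.1 hpS ha this
  have := huniq ⟨p, hp⟩ hpbot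
  rw [hbot] at this
  have hp' : p = ⊥ := congrArg PrimeSpectrum.asIdeal this
  apply hJ
  rw [eq_bot_iff, ← hp']
  exact hJp

end Groth.Agent.S9300
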