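import Groth.Statements.S9301
import Mathlib

set_option autoImplicit false
universe u
open CAlg

namespace Groth.Agent.S9301

/-- Let A and B be domains and A → B a flat ring map which is the localization of a quasi-finite ring
map A → B₀ (of finite type with finite fibres). Then every nonzero ideal of B has nonzero preimage
in A. -/
theorem result (A B₀ B : Type u) [CommRing A] [IsDomain A]
    [CommRing B₀] [CommRing B] [IsDomain B] [Algebra A B₀] [Algebra.FiniteType A B₀]
    [Algebra.QuasiFinite A B₀] (S : Submonoid B₀) [Algebra B₀ B] [IsLocalization S B] [Algebra A B]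
    [IsScalarTower A B₀ B] [Module.Flat A B] (J : Ideal B) (hJ : J ≠ ⊥) :
    Ideal.comap (algebraMap A B) J ≠ ⊥ := by
  classical
  have hinjAB : Function.Injective (algebraMap A B) :=
    Module.isTorsionFree_iff_algebraMap_injective.1 inferInstance
  obtain ⟨j, hjJ, hj0⟩ := Submodule.exists_mem_ne_zero_of_ne_bot hJ
  obtain ⟨⟨b₀, s⟩, hbs⟩ := IsLocalization.surj S j
  have hj'J : algebraMap B₀ B b₀ ∈ J := by
    rw [← hbs]; exact J.mul_mem_right _ hjJ
  have hj'0 : algebraMap B₀ B b₀ ≠ 0 := by
    rw [← hbs]; exact mul_ne_zero hj0 (IsLocalization.map_units B s).ne_zero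
  haveI : Module.Finite (FractionRing A) (TensorProduct A (FractionRing A) B₀) :=
    Module.Finite.of_quasiFinite
  have halgK : IsAlgebraic (FractionRing A)
      (TensorProduct.tmul A (1 : FractionRing A) b₀ : TensorProduct A (FractionRing A) B₀) :=
    (Algebra.IsIntegral.isIntegral _).isAlgebraic
  have halgA : IsAlgebraic A
      (TensorProduct.tmul A (1 : FractionRing A) b₀ : TensorProduct A (FractionRing A) B₀) :=
    (IsFractionRing.isAlgebraic_iff A (FractionRing A) _).2 halgK
  obtain ⟨P, hP0, hP⟩ := halgA
  have hinjAL : Function.Injective (algebraMap A (FractionRing B)) := by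
    rw [IsScalarTower.algebraMap_eq A B (FractionRing B)]
    exact (IsFractionRing.injective B (FractionRing B)).comp hinjAB
  let φK : FractionRing A →ₐ[A] FractionRing B :=
    IsFractionRing.liftAlgHom (g := Algebra.ofId A (FractionRing B)) hinjAL
  let φB : B₀ →ₐ[A] FractionRing B :=
    (IsScalarTower.toAlgHom A B (FractionRing B)).comp (IsScalarTower.toAlgHom A B₀ B)
  let ψ : TensorProduct A (FractionRing A) B₀ →ₐ[A] FractionRing B :=
    Algebra.TensorProduct.productMap φK φB
  have hψ : ψ (TensorProduct.tmul A (1 : FractionRing A) b₀) =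
      algebraMap B (FractionRing B) (algebraMap B₀ B b₀) := by
    simp [ψ, φB]
  have h1 : Polynomial.aeval (algebraMap B (FractionRing B) (algebraMap B₀ B b₀)) P = 0 := by
    rw [← hψ, Polynomial.aeval_algHom_apply, hP, map_zero]
  have h2 : IsAlgebraic A (algebraMap B (FractionRing B) (algebraMap B₀ B b₀)) := ⟨P, hP0, h1⟩
  have h3 : IsAlgebraic A (algebraMap B₀ B b₀) :=
    (isAlgebraic_algebraMap_iff (IsFractionRing.injective B (FractionRing B))).1 h2
  obtain ⟨r, hr0, c, hc⟩ := h3.exists_nonzero_dvd (mem_nonZeroDivisors_of_ne_zero hj'0)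
  intro hbot
  have hmem : r ∈ Ideal.comap (algebraMap A B) J := by
    rw [Ideal.mem_comap, hc]
    exact J.mul_mem_right c hj'J
  rw [hbot, Ideal.mem_bot] at hmem
  exact hr0 hmem

end Groth.Agent.S9301
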