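import Groth.Statements.S9302
import Mathlib
import Groth.Agent.Lib.helper5.HenselLim

set_option autoImplicit false
universe u
open CategoryTheory
open EtAlg

namespace Groth.Agent.S9302

/-- Henselian pairs are preserved under limits: for an inverse system (A_j, I_j) of henselian pairs over
a preordered set J, the limit A = lim A_j with the ideal I = lim I_j (elements all of whose
projections lie in the I_j) is a henselian pair. -/
theorem result (J : Type u) [Preorder J] (F : J ⥤ CommRingCat.{u})
    (I : ∀ j : J, Ideal (F.obj j))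
    (hI : ∀ (i j : J) (φ : i ⟶ j), Ideal.map (F.map φ).hom (I i) ≤ I j)
    (h : ∀ j : J, HenselianRing (F.obj j) (I j)) :
    HenselianRing ((Limits.limit F : CommRingCat.{u}) : Type u)
      (⨅ j : J, Ideal.comap (Limits.limit.π F j).hom (I j)) := by
  classical
  obtain ⟨π, hπ⟩ : ∃ π : ∀ j, ((Limits.limit F : CommRingCat.{u}) : Type u) →+* F.obj j,
      π = fun j => (Limits.limit.π F j).hom := ⟨_, rfl⟩
  have hw : ∀ (i j : J) (φ : i ⟶ j) (x : (Limits.limit F : CommRingCat.{u})),
      (F.map φ).hom (π i x) = π j x := by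
    intro i j φ x
    rw [hπ]
    have h2 := congrArg (fun g => g.hom x) (Limits.limit.w F φ)
    exact h2
  have hext : ∀ x y : (Limits.limit F : CommRingCat.{u}), (∀ j, π j x = π j y) → x = y := by
    intro x y hxy
    apply Limits.Concrete.limit_ext F x y
    intro j
    have := hxy j
    rw [hπ] at this
    exact this
  have hglue : ∀ s : ∀ j, F.obj j, (∀ (i j : J) (φ : i ⟶ j), (F.map φ).hom (s i) = s j) →
      ∃ a : (Limits.limit F : CommRingCat.{u}), ∀ j, π j a = s j := by
    intro s hs
    let t := Limits.isLimitOfPreserves (forget CommRingCat.{u}) (Limits.limit.isLimit F)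
    refine ⟨(Limits.Types.isLimitEquivSections t).symm ⟨s, fun {i j} φ => hs i j φ⟩, fun j => ?_⟩
    rw [hπ]
    exact Limits.Types.isLimitEquivSections_symm_apply t ⟨s, fun {i j} φ => hs i j φ⟩ j
  have hgoal : (⨅ j : J, Ideal.comap (Limits.limit.π F j).hom (I j))
      = ⨅ j : J, Ideal.comap (π j) (I j) := by
    rw [hπ]
  rw [hgoal]
  clear hgoal
  have hmem : ∀ x : (Limits.limit F : CommRingCat.{u}),
      x ∈ (⨅ j : J, Ideal.comap (π j) (I j)) ↔ ∀ j, π j x ∈ I j := by
    intro x
    simp only [Ideal.mem_iInf, Ideal.mem_comap]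
  refine ⟨?_, ?_⟩
  · intro x hx
    rw [Ideal.mem_jacobson_bot]
    intro y
    have hunit : ∀ j, IsUnit (π j (x * y + 1)) := by
      intro j
      have hxj : π j x ∈ Ideal.jacobson ⊥ := (h j).jac ((hmem x).1 hx j)
      have := Ideal.mem_jacobson_bot.1 hxj (π j y)
      rw [map_add, map_mul, map_one]
      exact this
    choose v hv using fun j => isUnit_iff_exists_inv.1 (hunit j)
    obtain ⟨w, hw'⟩ := hglue v (by
      intro i j φ
      have h1 : π j (x * y + 1) * (F.map φ).hom (v i) = 1 := by
        rw [← hw i j φ, ← map_mul, hv i, map_one]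
      have h2 := hv j
      calc (F.map φ).hom (v i) = (F.map φ).hom (v i) * (π j (x * y + 1) * v j) := by
            rw [h2, _root_.mul_one]
        _ = (π j (x * y + 1) * (F.map φ).hom (v i)) * v j := by ring
        _ = v j := by rw [h1, _root_.one_mul])
    refine isUnit_iff_exists_inv.2 ⟨w, hext _ _ fun j => ?_⟩
    rw [map_mul, hw' j, hv j, map_one]
  · intro f hf a₀ h₁ h₂
    obtain ⟨y, hy⟩ := h₂.exists_right_inv
    obtain ⟨y', rfl⟩ := Ideal.Quotient.mk_surjective y
    have hy1 : f.derivative.eval a₀ * y' - 1 ∈ (⨅ j : J, Ideal.comap (π j) (I j)) := by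
      rw [← Ideal.Quotient.eq, map_mul, hy, map_one]
    have hunit0 : ∀ j, IsUnit (Ideal.Quotient.mk (I j)
        ((f.map (π j)).derivative.eval (π j a₀))) := by
      intro j
      rw [Polynomial.derivative_map, Polynomial.eval_map_apply]
      have h3 := (hmem _).1 hy1 j
      rw [map_sub, map_mul, map_one] at h3
      refine isUnit_iff_exists_inv.2 ⟨Ideal.Quotient.mk (I j) (π j y'), ?_⟩
      rw [← map_mul, ← map_one (Ideal.Quotient.mk (I j)), Ideal.Quotient.eq]
      exact h3
    have hex : ∀ j, ∃ a : F.obj j, (f.map (π j)).IsRoot a ∧ a - π j a₀ ∈ I j := by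
      intro j
      refine (h j).is_henselian (f.map (π j)) (hf.map _) (π j a₀) ?_ (hunit0 j)
      rw [Polynomial.eval_map_apply]
      exact (hmem _).1 h₁ j
    choose s hsroot hsmem using hex
    have hcompat : ∀ (i j : J) (φ : i ⟶ j), (F.map φ).hom (s i) = s j := by
      intro i j φ
      have hπij : π j = (F.map φ).hom.comp (π i) := by
        ext x; exact (hw i j φ x).symm
      apply H5HL.root_unique (h j).jac (f.map (π j)) (hsroot j)
      · show (f.map (π j)).eval ((F.map φ).hom (s i)) = 0
        rw [hπij, ← Polynomial.map_map, Polynomial.eval_map_apply]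
        have : (f.map (π i)).eval (s i) = 0 := hsroot i
        rw [this, map_zero]
      · have h4 : (F.map φ).hom (s i - π i a₀) ∈ I j :=
          hI i j φ (Ideal.mem_map_of_mem _ (hsmem i))
        rw [map_sub, hw i j φ] at h4
        have h5 := (I j).sub_mem h4 (hsmem j)
        have h6 : (F.map φ).hom (s i) - π j a₀ - (s j - π j a₀)
            = (F.map φ).hom (s i) - s j := by ring
        rw [h6] at h5
        exact h5
      · rw [H5HL.mk_eval_congr (I j) _ (hsmem j)]
        exact hunit0 j
    obtain ⟨a, ha⟩ := hglue s hcompat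
    refine ⟨a, ?_, ?_⟩
    · show f.eval a = 0
      apply hext
      intro j
      rw [← Polynomial.eval_map_apply, ha j, map_zero]
      exact hsroot j
    · rw [hmem]
      intro j
      rw [map_sub, ha j]
      exact hsmem j

end Groth.Agent.S9302
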