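import Groth.Statements.S9315
import Mathlib
import Groth.Agent.Lib.helper6.LocalLift

set_option autoImplicit false
universe u
open CAlg

namespace Groth.Agent.S9315

open IsLocalRing in
/-- Let `R → S` be a local homomorphism of local rings (no Noetherian hypothesis). Then `R → S` is
formally smooth for the adic topology of the maximal ideal of `S` if and only if the following
lifting property holds: for every local ring `A` with a local structure map `R → A`, every ideal `J`
of `A` of square zero such that some power of the maximal ideal of `A` is zero, and every local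
`R`-algebra homomorphism `ψ : S → A/J` inducing a bijection on residue fields, there is an
`R`-algebra homomorphism `S → A` lifting `ψ`. -/
theorem result {R S : Type u} [CommRing R] [CommRing S]
    [IsLocalRing R] [IsLocalRing S] [Algebra R S] [IsLocalHom (algebraMap R S)] :
    CAlgX.IsAdicFormallySmooth R S (maximalIdeal S) ↔
      ∀ (A : Type u) [CommRing A] [IsLocalRing A] [Algebra R A] [IsLocalHom (algebraMap R A)]
        (J : Ideal A), J ^ 2 = ⊥ → (∃ n : ℕ, maximalIdeal A ^ n = ⊥) →
        ∀ [IsLocalRing (A ⧸ J)] (ψ : S →ₐ[R] A ⧸ J) [IsLocalHom ψ.toRingHom],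
          Function.Bijective (ResidueField.map ψ.toRingHom) →
          ∃ χ : S →ₐ[R] A, (Ideal.Quotient.mkₐ R J).comp χ = ψ := by
  constructor
  · intro h A _ _ _ _ J hJ hn _ ψ hψloc _
    obtain ⟨n, hn⟩ := hn
    refine h A J hJ ψ ⟨n, fun x hx => ?_⟩
    have h1 : (maximalIdeal S).map ψ.toRingHom ≤ maximalIdeal (A ⧸ J) :=
      ((IsLocalRing.local_hom_TFAE ψ.toRingHom).out 0 2).1 hψloc
    have h2 : maximalIdeal (A ⧸ J) ≤ (maximalIdeal A).map (Ideal.Quotient.mk J) := by
      intro y hy
      obtain ⟨a, rfl⟩ := Ideal.Quotient.mk_surjective y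
      refine Ideal.mem_map_of_mem _ ?_
      rw [IsLocalRing.mem_maximalIdeal, mem_nonunits_iff] at hy ⊢
      intro ha
      exact hy (ha.map _)
    have h3 : ψ x ∈ ((maximalIdeal S).map ψ.toRingHom) ^ n := by
      rw [← Ideal.map_pow]
      exact Ideal.mem_map_of_mem ψ.toRingHom hx
    have h4 := Ideal.pow_right_mono (h1.trans h2) n h3
    rw [← Ideal.map_pow, hn, Ideal.map_bot, Ideal.mem_bot] at h4
    exact h4
  · intro H
    exact Groth.Agent.Lib.helper6.H6_local_lift_crit H

end Groth.Agent.S9315
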