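import Groth.Statements.S9318
import Mathlib
import Groth.Agent.Lib.helper6.AdicFS

set_option autoImplicit false
universe u
open CAlg

namespace Groth.Agent.S9318

/-- Let `R → S` be a ring map and `𝔫 ⊆ S` a finitely generated ideal, and let `S^` be the `𝔫`-adic
completion of `S`. Then `R → S` is formally smooth for the `𝔫`-adic topology if and only if `R → S^`
is formally smooth for the adic topology of the extension of `𝔫` to `S^`. No Noetherian hypothesis
is made on `S`. -/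
theorem result {R S : Type u} [CommRing R] [CommRing S]
    [Algebra R S] (𝔫 : Ideal S) (h𝔫 : 𝔫.FG) :
    CAlgX.IsAdicFormallySmooth R S 𝔫 ↔
      CAlgX.IsAdicFormallySmooth R (AdicCompletion 𝔫 S) (𝔫.map (algebraMap S (AdicCompletion 𝔫 S))) := by
  constructor
  · intro h E _ _ J hJ ψh hk
    obtain ⟨k, hk⟩ := hk
    let ψ : S →ₐ[R] E ⧸ J := ψh.comp (IsScalarTower.toAlgHom R S (AdicCompletion 𝔫 S))
    have hψ : ∃ k' : ℕ, ∀ x ∈ 𝔫 ^ k', ψ x = 0 := by
      refine ⟨k, fun x hx => hk _ ?_⟩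
      rw [← Ideal.map_pow]
      exact Ideal.mem_map_of_mem _ hx
    obtain ⟨χ, hχ⟩ := h E J hJ ψ hψ
    refine Groth.Agent.Lib.helper6.H6_adic_lift_completion 𝔫 h𝔫 J 2 hJ ψh k hk χ ?_
    intro s
    have h1 := congrArg (fun g => g s) hχ
    exact h1
  · intro h E _ _ J hJ ψ hk
    obtain ⟨k, hk⟩ := hk
    obtain ⟨ψh, hψh0, hψh⟩ := Groth.Agent.Lib.helper6.H6_adic_extend 𝔫 ψ k hk
    obtain ⟨χh, hχh⟩ := h E J hJ ψh ⟨k, hψh0⟩
    refine ⟨χh.comp (IsScalarTower.toAlgHom R S (AdicCompletion 𝔫 S)), ?_⟩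
    ext s
    have h1 := congrArg (fun g => g (algebraMap S (AdicCompletion 𝔫 S) s)) hχh
    exact h1.trans (hψh s)

end Groth.Agent.S9318
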