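import Groth.Statements.S9317
import Mathlib
import Groth.Agent.Lib.helper6.AdicBase
import Groth.Agent.S9318

set_option autoImplicit false
universe u
open CAlg

namespace Groth.Agent.S9317

/-- Let `R → S` be a ring map, let `𝔪 ⊆ R` and `𝔫 ⊆ S` be finitely generated ideals such that some power
of `𝔪` maps into `𝔫`, and let `R^`, `S^` be the `𝔪`-adic and `𝔫`-adic completions. Let `ψ : R^ → S^`
be a ring map whose composite with `R → R^` is the composite `R → S → S^` (there is exactly one such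
map, the canonical one, since any such map is continuous for the adic topologies). Then `R → S` is
formally smooth for the `𝔫`-adic topology if and only if `R^ → S^`, i.e. `S^` viewed as an
`R^`-algebra through `ψ`, is formally smooth for the adic topology of the extension of `𝔫` to `S^`. -/
theorem result {R S : Type u} [CommRing R] [CommRing S]
    [Algebra R S] (𝔪 : Ideal R) (𝔫 : Ideal S) (h𝔪 : 𝔪.FG) (h𝔫 : 𝔫.FG)
    (hc : ∃ c : ℕ, (𝔪 ^ c).map (algebraMap R S) ≤ 𝔫)
    (ψ : AdicCompletion 𝔪 R →+* AdicCompletion 𝔫 S)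
    (hψ : ψ.comp (algebraMap R (AdicCompletion 𝔪 R)) =
      (algebraMap S (AdicCompletion 𝔫 S)).comp (algebraMap R S)) :
    CAlgX.IsAdicFormallySmooth R S 𝔫 ↔
      letI : Algebra (AdicCompletion 𝔪 R) (AdicCompletion 𝔫 S) := ψ.toAlgebra
      CAlgX.IsAdicFormallySmooth (AdicCompletion 𝔪 R) (AdicCompletion 𝔫 S)
        (𝔫.map (algebraMap S (AdicCompletion 𝔫 S))) := by
  letI : Algebra (AdicCompletion 𝔪 R) (AdicCompletion 𝔫 S) := ψ.toAlgebra
  haveI : IsScalarTower R (AdicCompletion 𝔪 R) (AdicCompletion 𝔫 S) :=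
    IsScalarTower.of_algebraMap_eq (fun r => by
      have h1 := congrArg (fun g => g r) hψ
      have h2 : algebraMap R (AdicCompletion 𝔫 S) r =
          algebraMap S (AdicCompletion 𝔫 S) (algebraMap R S r) :=
        IsScalarTower.algebraMap_apply R S (AdicCompletion 𝔫 S) r
      rw [h2]
      exact h1.symm)
  have hc' : ∃ c : ℕ, (𝔪 ^ c).map (algebraMap R (AdicCompletion 𝔫 S)) ≤
      𝔫.map (algebraMap S (AdicCompletion 𝔫 S)) := by
    obtain ⟨c, hc⟩ := hc
    refine ⟨c, ?_⟩
    rw [IsScalarTower.algebraMap_eq R S (AdicCompletion 𝔫 S), ← Ideal.map_map]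
    exact Ideal.map_mono hc
  rw [Groth.Agent.S9318.result 𝔫 h𝔫]
  exact Groth.Agent.Lib.helper6.H6_fs_completion_base 𝔪 h𝔪 _ hc'

end Groth.Agent.S9317
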