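import Groth.Statements.S9344
import Mathlib

set_option autoImplicit false
universe u
open Dom

namespace Groth.Agent.S9344

open AlgebraicGeometry CategoryTheory in
/-- The base change of a dominant morphism f : X → S along an open morphism g : S' → S is dominant. -/
theorem result {X S X' S' : Scheme.{u}} (f : X ⟶ S) [IsDominant f]
    (g : S' ⟶ S) (g' : X' ⟶ X) (f' : X' ⟶ S') (hsq : IsPullback g' f' f g) (hg : IsOpenMap g.base) :
    IsDominant f' := by
  refine ⟨?_⟩
  rw [DenseRange, dense_iff_inter_open]
  intro V hV hVne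
  obtain ⟨s', hs'⟩ := hVne
  have hgV : IsOpen (g.base '' V) := hg V hV
  obtain ⟨x, hx⟩ := (IsDominant.denseRange (f := f)).exists_mem_open hgV ⟨g.base s', s', hs', rfl⟩
  obtain ⟨t, htV, ht⟩ := hx
  -- point of the pullback over x and t
  obtain ⟨z, hz1, hz2⟩ := Scheme.Pullback.exists_preimage_pullback (f := f) (g := g) x t ht.symm
  let e := hsq.isoPullback
  refine ⟨t, htV, e.inv.base z, ?_⟩
  have : e.inv ≫ f' = Limits.pullback.snd f g := hsq.isoPullback_inv_snd
  rw [← hz2, ← this]
  rfl

end Groth.Agent.S9344
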