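import Groth.Statements.S9347
import Mathlib

set_option autoImplicit false
universe u
open Dom

namespace Groth.Agent.S9347

open AlgebraicGeometry CategoryTheory in
/-- Let f : X → S be quasi-compact and let η ∈ S be a point whose closure is an irreducible component of
S (a maximal point of S). If η is not in the image of f, then η has an open neighbourhood V with
f⁻¹(V) empty. -/
theorem result {X S : Scheme.{u}} (f : X ⟶ S) [QuasiCompact f]
    (η : ↑S) (hη : closure {η} ∈ irreducibleComponents (↑S : Type u)) (hnot : η ∉ Set.range f.base) :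
    ∃ V : S.Opens, η ∈ V ∧ f ⁻¹ᵁ V = ⊥ := by
  obtain ⟨_, ⟨W, hW, rfl⟩, hηW, -⟩ :=
    S.isBasis_affineOpens.exists_subset_of_mem_open (Set.mem_univ η) isOpen_univ
  have hW' : IsAffineOpen W := hW
  have hWc : IsCompact (W : Set S) := hW'.isCompact
  have hpre : IsCompact ((f ⁻¹ᵁ W : X.Opens) : Set X) := f.isCompact_preimage hWc
  obtain ⟨A, k, hk⟩ := isCompact_iff_exists.1 hpre
  have hrange : Set.range (k ≫ f) ⊆ Set.range hW'.fromSpec := by
    rw [hW'.range_fromSpec]
    rintro _ ⟨a, rfl⟩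
    have : k a ∈ ((f ⁻¹ᵁ W : X.Opens) : Set X) := by rw [← hk]; exact ⟨a, rfl⟩
    exact this
  let l := IsOpenImmersion.lift hW'.fromSpec (k ≫ f) hrange
  have hl : l ≫ hW'.fromSpec = k ≫ f := IsOpenImmersion.lift_fac _ _ _
  have hl' : ∀ a, hW'.fromSpec (l a) = f (k a) := by
    intro a
    have := congrArg (fun m => m a) hl
    simpa using this
  have hemb := hW'.fromSpec.isOpenEmbedding
  have hinj : Function.Injective hW'.fromSpec := hemb.injective
  obtain ⟨φ, hφ⟩ := Spec.homEquiv.symm.surjective l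
  have hrl : Set.range (PrimeSpectrum.comap φ.hom) = Set.range l := by
    rw [← hφ]; rfl
  have hηW' : η ∈ Set.range hW'.fromSpec := by rw [hW'.range_fromSpec]; exact hηW
  obtain ⟨η', rfl⟩ := hηW'
  -- η' is a maximal point of Spec B
  have hmax : ∀ q : PrimeSpectrum Γ(S, W), q ⤳ η' → η' ⤳ q := by
    intro q hq
    have h1 : hW'.fromSpec q ⤳ hW'.fromSpec η' := hq.map hW'.fromSpec.continuous
    have h2 : closure {hW'.fromSpec η'} ⊆ closure {hW'.fromSpec q} :=
      specializes_iff_closure_subset.1 h1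
    have h3 : closure {hW'.fromSpec q} ⊆ closure {hW'.fromSpec η'} :=
      hη.2 isIrreducible_singleton.closure h2
    have h4 : hW'.fromSpec η' ⤳ hW'.fromSpec q := specializes_iff_closure_subset.2 h3
    exact hemb.isInducing.specializes_iff.1 h4
  have hnotcl : η' ∉ closure (Set.range l) := by
    intro hcl
    rw [← hrl] at hcl
    have hcl' : (η' : PrimeSpectrum Γ(S, W)) ∈
        closure (Set.range (PrimeSpectrum.comap (CommRingCat.Hom.hom φ))) := hcl
    rw [PrimeSpectrum.closure_range_comap] at hcl'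
    have hle : RingHom.ker (CommRingCat.Hom.hom φ) ≤ PrimeSpectrum.asIdeal η' :=
      (PrimeSpectrum.mem_zeroLocus _ _).1 hcl'
    obtain ⟨p, hp, hpη⟩ := Ideal.exists_minimalPrimes_le (J := PrimeSpectrum.asIdeal η') hle
    have hpp : p.IsPrime := hp.1.1
    have h1 : (⟨p, hpp⟩ : PrimeSpectrum Γ(S, W)) ⤳ η' :=
      (PrimeSpectrum.le_iff_specializes _ _).1 hpη
    have h2 := (PrimeSpectrum.le_iff_specializes _ _).2 (hmax _ h1)
    have hpeq : p = η'.asIdeal := le_antisymm hpη h2
    rw [hpeq] at hp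
    have hker : RingHom.ker φ.hom = Ideal.comap φ.hom ⊥ := rfl
    rw [hker] at hp
    obtain ⟨p', hp', -, hp'c⟩ := Ideal.exists_comap_eq_of_mem_minimalPrimes φ.hom _ hp
    have : η' ∈ Set.range l := by
      rw [← hrl]
      exact ⟨⟨p', hp'⟩, PrimeSpectrum.ext hp'c⟩
    obtain ⟨a, rfl⟩ := this
    apply hnot
    rw [hl']
    exact ⟨_, rfl⟩
  let V' : Set (Spec Γ(S, W)) := (closure (Set.range l))ᶜ
  have hV' : IsOpen V' := isClosed_closure.isOpen_compl
  refine ⟨⟨hW'.fromSpec '' V', hemb.isOpenMap V' hV'⟩, ⟨η', hnotcl, rfl⟩, ?_⟩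
  rw [eq_bot_iff]
  intro x hx
  exfalso
  obtain ⟨v, hv, hvx⟩ := hx
  have hxW : f x ∈ (W : Set S) := by
    rw [← hW'.range_fromSpec]; exact ⟨v, hvx⟩
  have : x ∈ ((f ⁻¹ᵁ W : X.Opens) : Set X) := hxW
  rw [← hk] at this
  obtain ⟨a, rfl⟩ := this
  have : v = l a := hinj (hvx.trans (hl' a).symm)
  exact hv (subset_closure ⟨a, this.symm⟩)

end Groth.Agent.S9347
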