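import Groth.Statements.S9360
import Mathlib
import Groth.Agent.Lib.helper2.KerReduced

set_option autoImplicit false
universe u
open SchDense

namespace Groth.Agent.S9360

open AlgebraicGeometry CategoryTheory in
/-- Let U ⊆ X be a reduced open subscheme. Then the scheme-theoretic closure of U in X is X if and only
if U is scheme-theoretically dense in X (for every open W the scheme-theoretic closure of U ∩ W in W
is W); and in that case X is reduced. -/
theorem result (X : Scheme.{u}) (U : X.Opens) [IsReduced (↑U : Scheme.{u})] :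
    (IsSchemeTheoreticallyDominant U.ι ↔
        ∀ W : X.Opens, IsSchemeTheoreticallyDominant (X.homOfLE (inf_le_right : U ⊓ W ≤ W))) ∧
      (IsSchemeTheoreticallyDominant U.ι → IsReduced X) := by
  -- dense range from scheme-theoretic dominance
  have hdense : IsSchemeTheoreticallyDominant U.ι → closure (Set.range U.ι) = Set.univ := by
    intro h
    have h1 := Groth.Agent.H2.H2_ker_eq_vanishingIdeal U.ι
    rw [h.ker_eq_bot] at h1
    have h2 := congrArg (fun I : X.IdealSheafData => (I.support : Set X)) h1
    simp only [Scheme.IdealSheafData.support_bot, TopologicalSpace.Closeds.coe_top,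
      Scheme.IdealSheafData.coe_support_vanishingIdeal] at h2
    exact h2.symm
  have hred : IsSchemeTheoreticallyDominant U.ι → IsReduced X := by
    intro h
    have h1 := Groth.Agent.H2.H2_ker_eq_vanishingIdeal U.ι
    rw [h.ker_eq_bot] at h1
    have h2 : X.nilradical = ⊥ := by
      rw [← le_bot_iff, h1, ← Scheme.IdealSheafData.vanishingIdeal_top]
      exact Scheme.IdealSheafData.vanishingIdeal_antimono le_top
    haveI : ∀ x : X, _root_.IsReduced (X.presheaf.stalk x) := by
      intro x
      obtain ⟨_, ⟨V, hV, rfl⟩, hxV, -⟩ :=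
        X.isBasis_affineOpens.exists_subset_of_mem_open (Set.mem_univ x) isOpen_univ
      have h3 : nilradical Γ(X, V) = ⊥ := by
        have := congrArg (fun I : X.IdealSheafData => I.ideal ⟨V, hV⟩) h2
        simpa [Scheme.nilradical, Scheme.IdealSheafData.radical_ideal, nilradical] using this
      haveI : _root_.IsReduced Γ(X, V) := by
        rw [← nilradical_eq_bot_iff]
        exact h3
      letI := TopCat.Presheaf.algebra_section_stalk X.presheaf (⟨x, hxV⟩ : V)
      haveI := hV.isLocalization_stalk ⟨x, hxV⟩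
      exact isReduced_localizationPreserves (hV.primeIdealOf ⟨x, hxV⟩).asIdeal.primeCompl _ inferInstance
    exact isReduced_of_isReduced_stalk X
  refine ⟨⟨fun h W => ?_, fun h => ?_⟩, hred⟩
  · haveI := hred h
    have hd := hdense h
    haveI : IsDominant (X.homOfLE (inf_le_right : U ⊓ W ≤ W)) := by
      rw [isDominant_iff, DenseRange]
      have hU : Dense (U : Set X) := by
        rw [dense_iff_closure_eq]
        have : Set.range U.ι = (U : Set X) := by simp
        rw [← this]; exact hd
      have h1 : Dense ((Subtype.val : W → X) ⁻¹' (U : Set X)) :=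
        hU.preimage W.2.isOpenMap_subtype_val
      refine h1.mono ?_
      rintro ⟨w, hw⟩ hwU
      exact ⟨⟨w, hwU, hw⟩, by
        apply Subtype.ext
        exact X.homOfLE_apply _ _⟩
    exact IsSchemeTheoreticallyDominant.of_isDominant _
  · haveI h1 := h ⊤
    have e1 : X.homOfLE (inf_le_right : U ⊓ ⊤ ≤ ⊤) ≫ (⊤ : X.Opens).ι = (U ⊓ ⊤ : X.Opens).ι :=
      X.homOfLE_ι _
    have e2 : X.homOfLE (le_inf le_rfl le_top : U ≤ U ⊓ ⊤) ≫ (U ⊓ ⊤ : X.Opens).ι = U.ι :=
      X.homOfLE_ι _
    haveI : IsIso (X.homOfLE (le_inf le_rfl le_top : U ≤ U ⊓ ⊤)) :=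
      ⟨X.homOfLE inf_le_left, by rw [X.homOfLE_homOfLE, X.homOfLE_rfl],
        by rw [X.homOfLE_homOfLE, X.homOfLE_rfl]⟩
    rw [← e2, ← e1]
    haveI : IsIso (⊤ : X.Opens).ι := by
      have : (⊤ : X.Opens).ι = X.topIso.hom := rfl
      rw [this]; infer_instance
    haveI h3 : IsSchemeTheoreticallyDominant
        (X.homOfLE (inf_le_right : U ⊓ ⊤ ≤ ⊤) ≫ (⊤ : X.Opens).ι) := inferInstance
    exact inferInstance

end Groth.Agent.S9360
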