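import Groth.Statements.S9391
import Mathlib
import Groth.Agent.Lib.helper4.N1Loc

set_option autoImplicit false
universe u
open CAlg

namespace Groth.Agent.S9391

/-- A localization of an N-1 domain which is again a domain is N-1. -/
theorem result (R : Type u) [CommRing R] [IsDomain R] (M : Submonoid R)
    (S : Type u) [CommRing S] [IsDomain S] [Algebra R S] [IsLocalization M S]
    (h : CAlg.IsN1 R) : CAlg.IsN1 S := by
  classical
  unfold CAlg.IsN1 at h ⊢
  have hM0 : ∀ m : M, (m : R) ≠ 0 := by
    intro m hm
    have h1 := IsLocalization.map_units S m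
    rw [hm, map_zero] at h1
    exact not_isUnit_zero h1
  let g : S →+* FractionRing R := IsLocalization.lift (M := M) (g := algebraMap R (FractionRing R))
    (fun y => IsUnit.mk0 _ (by
      rw [Ne, FaithfulSMul.algebraMap_eq_zero_iff]
      exact hM0 y))
  letI algSFR : Algebra S (FractionRing R) := g.toAlgebra
  haveI : IsScalarTower R S (FractionRing R) :=
    IsScalarTower.of_algebraMap_eq (fun r => (IsLocalization.lift_eq _ r).symm)
  haveI : IsFractionRing S (FractionRing R) :=
    IsFractionRing.isFractionRing_of_isDomain_of_isLocalization M S (FractionRing R)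
  let e : FractionRing S ≃ₐ[S] FractionRing R := FractionRing.algEquiv S (FractionRing R)
  haveI h2 : Module.Finite S (integralClosure S (FractionRing R)) :=
    Groth.Agent.H4.H4_intClosure_loc_finite M h
  exact Module.Finite.equiv (e.symm.mapIntegralClosure.toLinearEquiv)

end Groth.Agent.S9391
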