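import Groth.Statements.S9394
import Mathlib
import Groth.Agent.Lib.helper4.N1Loc

set_option autoImplicit false
universe u
open CAlg

namespace Groth.Agent.S9394

/-- Being N-2 (Japanese) can be checked on a finite cover of Spec R by principal opens whose rings are
N-2 domains. -/
theorem result (R : Type u) [CommRing R] [IsDomain R]
    {ι : Type u} [Finite ι] (f : ι → R) (hf : Ideal.span (Set.range f) = ⊤)
    (Rf : ι → Type u) [∀ i, CommRing (Rf i)] [∀ i, IsDomain (Rf i)] [∀ i, Algebra R (Rf i)]
    [∀ i, IsLocalization.Away (f i) (Rf i)] (h : ∀ i, CAlg.IsN2 (Rf i)) : CAlg.IsN2 R := by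
  classical
  unfold CAlg.IsN2 at h ⊢
  intro L _ _ _ _ hfd
  refine Groth.Agent.H4.H4_N1_cover f hf L (fun i => ?_)
  have hM0 : ∀ m : Submonoid.powers (f i), (m : R) ≠ 0 := by
    intro m hm
    have h1 := IsLocalization.map_units (Rf i) m
    rw [hm, map_zero] at h1
    exact not_isUnit_zero h1
  let g : Rf i →+* FractionRing R :=
    IsLocalization.lift (M := Submonoid.powers (f i)) (g := algebraMap R (FractionRing R))
    (fun y => IsUnit.mk0 _ (by
      rw [Ne, FaithfulSMul.algebraMap_eq_zero_iff]
      exact hM0 y))
  letI algSFR : Algebra (Rf i) (FractionRing R) := g.toAlgebra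
  haveI : IsScalarTower R (Rf i) (FractionRing R) :=
    IsScalarTower.of_algebraMap_eq (fun r => (IsLocalization.lift_eq _ r).symm)
  haveI : IsFractionRing (Rf i) (FractionRing R) :=
    IsFractionRing.isFractionRing_of_isDomain_of_isLocalization (Submonoid.powers (f i)) (Rf i)
      (FractionRing R)
  let e : FractionRing (Rf i) ≃ₐ[Rf i] FractionRing R :=
    FractionRing.algEquiv (Rf i) (FractionRing R)
  letI algSL : Algebra (Rf i) L :=
    ((algebraMap (FractionRing R) L).comp (algebraMap (Rf i) (FractionRing R))).toAlgebra
  haveI : IsScalarTower R (Rf i) L := by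
    refine IsScalarTower.of_algebraMap_eq (fun r => ?_)
    show algebraMap R L r =
      algebraMap (FractionRing R) L (algebraMap (Rf i) (FractionRing R) (algebraMap R (Rf i) r))
    rw [← IsScalarTower.algebraMap_apply R (Rf i) (FractionRing R),
      ← IsScalarTower.algebraMap_apply R (FractionRing R) L]
  letI algFSL : Algebra (FractionRing (Rf i)) L :=
    ((algebraMap (FractionRing R) L).comp (e : FractionRing (Rf i) →+* FractionRing R)).toAlgebra
  haveI : IsScalarTower (Rf i) (FractionRing (Rf i)) L := by
    refine IsScalarTower.of_algebraMap_eq (fun s => ?_)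
    show algebraMap (FractionRing R) L (algebraMap (Rf i) (FractionRing R) s) =
      algebraMap (FractionRing R) L (e (algebraMap (Rf i) (FractionRing (Rf i)) s))
    rw [AlgEquiv.commutes]
  letI algFRFS : Algebra (FractionRing R) (FractionRing (Rf i)) :=
    (e.symm : FractionRing R →+* FractionRing (Rf i)).toAlgebra
  haveI : IsScalarTower (FractionRing R) (FractionRing (Rf i)) L := by
    refine IsScalarTower.of_algebraMap_eq (fun c => ?_)
    show algebraMap (FractionRing R) L c = algebraMap (FractionRing R) L (e (e.symm c))
    rw [e.apply_symm_apply]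
  haveI : Module.Finite (FractionRing R) L := hfd
  have hfd' : FiniteDimensional (FractionRing (Rf i)) L :=
    Module.Finite.of_restrictScalars_finite (FractionRing R) (FractionRing (Rf i)) L
  have h2 : Module.Finite (Rf i) (integralClosure (Rf i) L) := h i L hfd'
  exact Groth.Agent.H4.H4_N1_cover_aux (f i) (Rf i) L h2

end Groth.Agent.S9394
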