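import Groth.Statements.S9397
import Mathlib
import Groth.Agent.Lib.helper4.N2Ext

set_option autoImplicit false
universe u
open CAlg

namespace Groth.Agent.S9397

/-- A ring R is universally Japanese provided that each R-algebra of finite type which is a domain is
N-1. -/
theorem result (R : Type u) [CommRing R]
    (h : ∀ (S : Type u) [CommRing S] [IsDomain S] [Algebra R S], Algebra.FiniteType R S → CAlg.IsN1 S) :
    CAlg.IsUniversallyJapanese R := by
  intro S _ _ _ hft
  intro L _ _ _ _ hfd
  refine Groth.Agent.H4.H4_N2_of_N1_finite_ext S (fun S' _ _ _ hfin => ?_) L hfd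
  letI algRS' : Algebra R S' := ((algebraMap S S').comp (algebraMap R S)).toAlgebra
  haveI : IsScalarTower R S S' := IsScalarTower.of_algebraMap_eq (fun _ => rfl)
  haveI := hfin
  have hft' : Algebra.FiniteType R S' :=
    Algebra.FiniteType.trans hft (inferInstance : Algebra.FiniteType S S')
  exact h S' hft'

end Groth.Agent.S9397
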