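import Groth.Statements.S9399
import Mathlib
import Groth.Agent.S9394

set_option autoImplicit false
universe u
open CAlg

namespace Groth.Agent.S9399

/-- Being universally Japanese can be checked on a finite cover of Spec R by principal opens. -/
theorem result (R : Type u) [CommRing R]
    {ι : Type u} [Finite ι] (f : ι → R) (hf : Ideal.span (Set.range f) = ⊤)
    (h : ∀ i, CAlg.IsUniversallyJapanese (Localization.Away (f i))) :
    CAlg.IsUniversallyJapanese R := by
  classical
  intro S _ _ _ hft
  haveI hdom : ∀ i : {i : ι // algebraMap R S (f i) ≠ 0},
      IsDomain (Localization.Away (algebraMap R S (f i.1))) := fun i =>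
    IsLocalization.isDomain_localization (powers_le_nonZeroDivisors_of_noZeroDivisors i.2)
  refine Groth.Agent.S9394.result S (ι := {i : ι // algebraMap R S (f i) ≠ 0})
    (fun i => algebraMap R S (f i.1)) ?_
    (fun i => Localization.Away (algebraMap R S (f i.1))) ?_
  · have h1 : Ideal.map (algebraMap R S) (Ideal.span (Set.range f)) = ⊤ := by
      rw [hf, Ideal.map_top]
    rw [Ideal.map_span] at h1
    rw [eq_top_iff, ← h1, Ideal.span_le]
    rintro _ ⟨_, ⟨i, rfl⟩, rfl⟩
    by_cases hi : algebraMap R S (f i) = 0
    · rw [hi]; exact Submodule.zero_mem _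
    · exact Ideal.subset_span ⟨⟨i, hi⟩, rfl⟩
  · intro i
    letI alg : Algebra (Localization.Away (f i.1)) (Localization.Away (algebraMap R S (f i.1))) :=
      (IsLocalization.Away.map (Localization.Away (f i.1))
        (Localization.Away (algebraMap R S (f i.1))) (algebraMap R S) (f i.1)).toAlgebra
    have hft' : (algebraMap R S).FiniteType := RingHom.finiteType_algebraMap.2 hft
    have h2 : Algebra.FiniteType (Localization.Away (f i.1))
        (Localization.Away (algebraMap R S (f i.1))) :=
      RingHom.localization_away_map_finiteType R S (Localization.Away (f i.1))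
        (Localization.Away (algebraMap R S (f i.1))) (algebraMap R S) (f i.1) hft'
    exact h i.1 (Localization.Away (algebraMap R S (f i.1))) h2

end Groth.Agent.S9399
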