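import Groth.Statements.S9400
import Mathlib
import Groth.Agent.S9394

set_option autoImplicit false
universe u
open CAlg

namespace Groth.Agent.S9400

/-- Being a Nagata ring can be checked on a finite cover of Spec R by principal opens. -/
theorem result (R : Type u) [CommRing R]
    {ι : Type u} [Finite ι] (f : ι → R) (hf : Ideal.span (Set.range f) = ⊤)
    (h : ∀ i, CAlg.IsNagata (Localization.Away (f i))) : CAlg.IsNagata R := by
  classical
  haveI := Fintype.ofFinite ι
  refine ⟨?_, ?_⟩
  · refine AlgebraicGeometry.isNoetherianRing_of_away (Finset.univ.image f) ?_ ?_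
    · rw [Finset.coe_image, Finset.coe_univ, Set.image_univ]
      exact hf
    · rintro ⟨s, hs⟩
      obtain ⟨i, -, rfl⟩ := Finset.mem_image.1 hs
      exact (h i).1
  · intro p hp
    have hprime : ∀ i : {i : ι // f i ∉ p},
        (p.map (algebraMap R (Localization.Away (f i.1)))).IsPrime := by
      intro i
      refine IsLocalization.isPrime_of_isPrime_disjoint (Submonoid.powers (f i.1)) _ p hp ?_
      rw [Set.disjoint_left]
      rintro x ⟨n, rfl⟩ hx
      exact i.2 (hp.mem_of_pow_mem n hx)
    haveI hdom : ∀ i : {i : ι // f i ∉ p},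
        IsDomain (Localization.Away (f i.1) ⧸ (p.map (algebraMap R (Localization.Away (f i.1))))) :=
      fun i => by
        haveI := hprime i
        exact Ideal.Quotient.isDomain _
    haveI hloc : ∀ i : {i : ι // f i ∉ p},
        IsLocalization.Away (Ideal.Quotient.mk p (f i.1))
          (Localization.Away (f i.1) ⧸ (p.map (algebraMap R (Localization.Away (f i.1))))) := by
      intro i
      have h1 : IsLocalization (Algebra.algebraMapSubmonoid (R ⧸ p) (Submonoid.powers (f i.1)))
          (Localization.Away (f i.1) ⧸ (p.map (algebraMap R (Localization.Away (f i.1))))) :=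
        inferInstance
      have h2 : Algebra.algebraMapSubmonoid (R ⧸ p) (Submonoid.powers (f i.1)) =
          Submonoid.powers (Ideal.Quotient.mk p (f i.1)) := by
        show Submonoid.map (algebraMap R (R ⧸ p)) (Submonoid.powers (f i.1)) = _
        rw [Submonoid.map_powers]
        rfl
      rw [h2] at h1
      exact h1
    refine Groth.Agent.S9394.result (R ⧸ p) (ι := {i : ι // f i ∉ p})
      (fun i => Ideal.Quotient.mk p (f i.1)) ?_
      (fun i => Localization.Away (f i.1) ⧸ (p.map (algebraMap R (Localization.Away (f i.1))))) ?_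
    · have h1 : Ideal.map (Ideal.Quotient.mk p) (Ideal.span (Set.range f)) = ⊤ := by
        rw [hf, Ideal.map_top]
      rw [Ideal.map_span] at h1
      rw [eq_top_iff, ← h1, Ideal.span_le]
      rintro _ ⟨_, ⟨i, rfl⟩, rfl⟩
      by_cases hi : f i ∈ p
      · rw [Ideal.Quotient.eq_zero_iff_mem.2 hi]; exact Submodule.zero_mem _
      · exact Ideal.subset_span ⟨⟨i, hi⟩, rfl⟩
    · intro i
      haveI := hprime i
      exact (h i.1).2 (p.map (algebraMap R (Localization.Away (f i.1))))

end Groth.Agent.S9400
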