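import Groth.Statements.S9403
import Mathlib

set_option autoImplicit false
universe u
open CAlg

namespace Groth.Agent.S9403

/-- Let R → S be a ring map with S a Noetherian local ring which is an algebra over the rationals, and f
∈ S such that some S-linear form on the module of differentials of S over R sends df to 1 (df spans
a free direct summand of rank one). Then f is a nonzerodivisor of S. (The published statement asks
only that S·df be a direct summand of the module of differentials, which also holds for the
rationals with a square-zero element adjoined, where f is a zero divisor; this row asks for an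
S-linear form on the differentials sending df to 1, as the published proof uses.) -/
theorem result (R : Type u) [CommRing R]
    (S : Type u) [CommRing S] [IsLocalRing S] [IsNoetherianRing S] [Algebra R S] [Algebra ℚ S]
    (f : S) (θ : Ω[S⁄R] →ₗ[S] S) (hθ : θ (KaehlerDifferential.D R S f) = 1) : f ∈ nonZeroDivisors S := by
  classical
  by_cases hfu : IsUnit f
  · exact hfu.mem_nonZeroDivisors
  have hfm : f ∈ IsLocalRing.maximalIdeal S := (IsLocalRing.mem_maximalIdeal f).mpr hfu
  -- the derivation
  let Dθ : Derivation R S S := θ.compDer (KaehlerDifferential.D R S)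
  have hDf : Dθ f = 1 := hθ
  -- annihilators of powers
  let I : ℕ → Ideal S := fun n => LinearMap.ker (LinearMap.mul S S (f ^ n))
  have hImem : ∀ n g, g ∈ I n ↔ f ^ n * g = 0 := fun n g => by
    simp only [I, LinearMap.mem_ker, LinearMap.mul_apply_apply]
  have hImono : Monotone I := by
    intro n m hnm g hg
    rw [hImem] at hg ⊢
    obtain ⟨k, rfl⟩ := Nat.exists_eq_add_of_le hnm
    rw [pow_add, mul_comm (f ^ n), mul_assoc, hg, mul_zero]
  obtain ⟨N, hN⟩ := monotone_stabilizes_iff_noetherian.mpr (inferInstance : IsNoetherian S S)
    ⟨I, hImono⟩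
  have hIK : ∀ n, I n ≤ I N := by
    intro n
    rcases le_total n N with h | h
    · exact hImono h
    · exact le_of_eq (hN n h).symm
  -- key: I n ≤ span{f} • I N
  have hkey : ∀ n, I n ≤ Ideal.span {f} • I N := by
    intro n
    induction n with
    | zero =>
      intro g hg
      rw [hImem, pow_zero, one_mul] at hg
      rw [hg]; exact Submodule.zero_mem _
    | succ n ih =>
      intro g hg
      rw [hImem] at hg
      -- apply the derivation
      have h1 : Dθ (f ^ (n + 1) * g) = 0 := by rw [hg, map_zero]
      rw [Derivation.leibniz, Derivation.leibniz_pow, hDf] at h1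
      simp only [smul_eq_mul, Nat.add_sub_cancel, mul_one, nsmul_eq_mul] at h1
      -- h1 : f^(n+1) * Dθ g + g * ((n+1) * f^n) = 0
      have h2 : f ^ n * (((n + 1 : ℕ) : S) * g + f * Dθ g) = 0 := by
        have : f ^ n * (((n + 1 : ℕ) : S) * g + f * Dθ g)
            = f ^ (n + 1) * Dθ g + g * (((n + 1 : ℕ) : S) * f ^ n) := by
          rw [pow_succ]; ring
        rw [this]; exact h1
      have h3 : ((n + 1 : ℕ) : S) * g + f * Dθ g ∈ Ideal.span {f} • I N := ih ((hImem _ _).mpr h2)
      have h4 : Dθ g ∈ I N := by
        apply hIK (n + 2)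
        rw [hImem]
        have : f ^ (n + 2) * Dθ g = f * (f ^ (n + 1) * Dθ g + g * (((n + 1 : ℕ) : S) * f ^ n))
            - ((n + 1 : ℕ) : S) * (f ^ (n + 1) * g) := by
          rw [pow_succ f (n + 1), pow_succ f n]; ring
        rw [this, h1, hg, mul_zero, mul_zero, sub_zero]
      have h5 : f * Dθ g ∈ Ideal.span {f} • I N :=
        Submodule.smul_mem_smul (Ideal.mem_span_singleton_self f) h4
      have h6 : ((n + 1 : ℕ) : S) * g ∈ Ideal.span {f} • I N := by
        have := Submodule.sub_mem _ h3 h5
        rwa [add_sub_cancel_right] at this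
      have hunit : IsUnit (((n + 1 : ℕ) : S)) := by
        have : IsUnit (((n + 1 : ℕ) : ℚ)) := isUnit_iff_ne_zero.mpr (by positivity)
        have := this.map (algebraMap ℚ S)
        rwa [map_natCast] at this
      obtain ⟨u, hu⟩ := hunit
      have : g = (↑u⁻¹ : S) * (((n + 1 : ℕ) : S) * g) := by
        rw [← mul_assoc, ← hu, Units.inv_mul, one_mul]
      rw [this]
      exact Ideal.mul_mem_left _ _ h6
  have hK : I N = ⊥ := by
    apply Submodule.eq_bot_of_le_smul_of_le_jacobson_bot (Ideal.span {f}) (I N)
      (IsNoetherian.noetherian _) (hkey N)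
    rw [Ideal.span_singleton_le_iff_mem]
    exact IsLocalRing.maximalIdeal_le_jacobson ⊥ hfm
  rw [mem_nonZeroDivisors_iff_right]
  intro g hg
  have : g ∈ I 1 := by rw [hImem, pow_one, mul_comm]; exact hg
  have := hIK 1 this
  rw [hK] at this
  exact this

end Groth.Agent.S9403
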