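import Groth.Statements.S9412
import Mathlib
import Groth.Agent.Lib.helper4.NormalLoc

set_option autoImplicit false
universe u
open EGA4

namespace Groth.Agent.S9412

/-- A localization of a geometrically normal algebra over a field k is geometrically normal over k. -/
theorem result (k : Type u) [Field k] (A : Type u) [CommRing A]
    [Algebra k A] (M : Submonoid A) (B : Type u) [CommRing B] [Algebra A B] [IsLocalization M B]
    [Algebra k B] [IsScalarTower k A B] (h : EGA4.IsGeomNormal k A) :
    EGA4.IsGeomNormal k B := by
  intro k' _ _ hfin
  have hA := h k' hfin
  intro q _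
  letI alg : Algebra (TensorProduct k k' A) (TensorProduct k k' B) :=
    (Algebra.TensorProduct.map (AlgHom.id k' k') (IsScalarTower.toAlgHom k A B)).toRingHom.toAlgebra
  haveI : IsScalarTower k' (TensorProduct k k' A) (TensorProduct k k' B) := by
    refine IsScalarTower.of_algebraMap_eq (fun x => ?_)
    show TensorProduct.tmul k x (1 : B) =
      (Algebra.TensorProduct.map (AlgHom.id k' k') (IsScalarTower.toAlgHom k A B))
        (TensorProduct.tmul k x (1 : A))
    simp
  have H : (algebraMap (TensorProduct k k' A) (TensorProduct k k' B)).comp
      (Algebra.TensorProduct.includeRight (R := k) (A := k') (B := A)).toRingHom =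
      (Algebra.TensorProduct.includeRight (R := k) (A := k') (B := B)).toRingHom.comp
        (algebraMap A B) := by
    ext a
    show (Algebra.TensorProduct.map (AlgHom.id k' k') (IsScalarTower.toAlgHom k A B))
        (TensorProduct.tmul k (1 : k') a) = TensorProduct.tmul k (1 : k') (algebraMap A B a)
    simp
  haveI := IsLocalization.tensorProduct_tensorProduct_right k k' M B H
  exact Groth.Agent.H4.H4_normal_localization (TensorProduct k k' A)
    (M.map (Algebra.TensorProduct.includeRight (R := k) (A := k'))) (TensorProduct k k' B)
    (fun p _ => hA p) q

end Groth.Agent.S9412
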