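import Groth.Statements.S9414
import Mathlib

set_option autoImplicit false
universe u
open CAlg

namespace Groth.Agent.S9414

open TensorProduct in
/-- For an algebraically closed field k, a finite type k-algebra S and a maximal ideal m of S with
residue field κ = S/m, the κ-vector spaces κ ⊗_S Ω_{S/k} and m/m² have the same dimension. -/
theorem result (k : Type u) [Field k]
    [IsAlgClosed k] (S : Type u) [CommRing S] [Algebra k S] [Algebra.FiniteType k S]
    (m : Ideal S) [m.IsMaximal] :
    Module.finrank (S ⧸ m) ((S ⧸ m) ⊗[S] Ω[S⁄k]) = Module.finrank (S ⧸ m) m.Cotangent := by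
  classical
  letI : Field (S ⧸ m) := Ideal.Quotient.field m
  haveI : Module.Finite k (S ⧸ m) := finite_of_finite_type_of_isJacobsonRing k (S ⧸ m)
  have hbij : Function.Bijective (algebraMap k (S ⧸ m)) :=
    IsAlgClosed.algebraMap_bijective_of_isIntegral
  have hsurjSm : Function.Surjective (algebraMap S (S ⧸ m)) := Ideal.Quotient.mk_surjective
  let e : k ≃ₐ[k] (S ⧸ m) := AlgEquiv.ofBijective (Algebra.ofId k (S ⧸ m)) hbij
  let g : (S ⧸ m) →ₐ[k] S ⧸ (RingHom.ker (algebraMap S (S ⧸ m)) ^ 2) :=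
    (Algebra.ofId k _).comp e.symm.toAlgHom
  have hg : (IsScalarTower.toAlgHom k S (S ⧸ m)).kerSquareLift.comp g = AlgHom.id k (S ⧸ m) := by
    apply AlgHom.ext
    intro y
    obtain ⟨c, rfl⟩ := hbij.2 y
    simp
  let r := (retractionKerCotangentToTensorEquivSection (R := k) hsurjSm).symm
    ⟨g, hg⟩
  have hinj : Function.Injective (KaehlerDifferential.kerCotangentToTensor k S (S ⧸ m)) := by
    have h1 : Function.LeftInverse r.1 (KaehlerDifferential.kerCotangentToTensor k S (S ⧸ m)) :=
      fun z => LinearMap.congr_fun r.2 z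
    exact h1.injective
  haveI : Algebra.FormallyUnramified k (S ⧸ m) :=
    Algebra.FormallyUnramified.of_surjective (Algebra.ofId k (S ⧸ m)) hbij.2
  have hsurj : Function.Surjective (KaehlerDifferential.kerCotangentToTensor k S (S ⧸ m)) := by
    intro y
    exact (KaehlerDifferential.exact_kerCotangentToTensor_mapBaseChange k S (S ⧸ m) hsurjSm y).mp
      (Subsingleton.elim _ _)
  let φ : (RingHom.ker (algebraMap S (S ⧸ m))).Cotangent ≃ₗ[S] (S ⧸ m) ⊗[S] Ω[S⁄k] :=
    LinearEquiv.ofBijective _ ⟨hinj, hsurj⟩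
  have key : ∀ (I : Ideal S) (hI : I = m), Nonempty (m.Cotangent ≃ₗ[S] I.Cotangent) := by
    rintro _ rfl
    exact ⟨LinearEquiv.refl _ _⟩
  have hker : RingHom.ker (algebraMap S (S ⧸ m)) = m := Ideal.mk_ker
  let ψ : m.Cotangent ≃ₗ[S] (S ⧸ m) ⊗[S] Ω[S⁄k] := (key _ hker).some.trans φ
  exact ((ψ.extendScalarsOfSurjective hsurjSm).finrank_eq).symm

end Groth.Agent.S9414
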