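import Groth.Statements.S9425
import Mathlib
import Groth.Agent.S9424

set_option autoImplicit false
universe u
open CAlg

namespace Groth.Agent.S9425

/-- A directed colimit of formally étale R-algebras is formally étale over R. The colimit is encoded by
compatible R-algebra maps S_i → S which are jointly surjective and whose kernels die further along
the system. -/
theorem result {ι : Type u} [Preorder ι] [IsDirected ι (· ≤ ·)] [Nonempty ι]
    (R : Type u) [CommRing R] (G : ι → Type u) [∀ i, CommRing (G i)] [∀ i, Algebra R (G i)]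
    (f : ∀ i j, i ≤ j → (G i →ₐ[R] G j)) (S : Type u) [CommRing S] [Algebra R S]
    (g : ∀ i, G i →ₐ[R] S) (hg : ∀ i j (h : i ≤ j), (g j).comp (f i j h) = g i)
    (hsurj : ∀ s : S, ∃ i, ∃ x : G i, g i x = s)
    (hker : ∀ i (x : G i), g i x = 0 → ∃ j, ∃ h : i ≤ j, f i j h x = 0)
    (h : ∀ i, Algebra.FormallyEtale R (G i)) : Algebra.FormallyEtale R S := by
  have hunr : Algebra.FormallyUnramified R S :=
    Groth.Agent.S9424.result R G f S g hg hsurj hker (fun i => inferInstance)
  have hsm : Algebra.FormallySmooth R S := by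
    refine Algebra.FormallySmooth.of_comp_surjective fun B _ _ I hI φ => ?_
    have hb : ∀ i, Function.Bijective
        ((Ideal.Quotient.mkₐ R I).comp : (G i →ₐ[R] B) → G i →ₐ[R] B ⧸ I) :=
      fun i => Algebra.FormallyEtale.comp_bijective R (G i) I hI
    choose ℓ hℓ using fun i => (hb i).2 (φ.comp (g i))
    have huniq : ∀ i (ψ : G i →ₐ[R] B),
        (Ideal.Quotient.mkₐ R I).comp ψ = φ.comp (g i) → ψ = ℓ i :=
      fun i ψ hψ => (hb i).1 (hψ.trans (hℓ i).symm)
    have hcomp : ∀ i j (h : i ≤ j), (ℓ j).comp (f i j h) = ℓ i := by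
      intro i j h
      apply huniq
      rw [← AlgHom.comp_assoc, hℓ j, AlgHom.comp_assoc, hg]
    have hcomp' : ∀ i j (h : i ≤ j) (a : G i), ℓ j (f i j h a) = ℓ i a := fun i j h a =>
      AlgHom.congr_fun (hcomp i j h) a
    have hg' : ∀ i j (h : i ≤ j) (a : G i), g j (f i j h a) = g i a := fun i j h a =>
      AlgHom.congr_fun (hg i j h) a
    have wd : ∀ i (a : G i) j (b : G j), g i a = g j b → ℓ i a = ℓ j b := by
      intro i a j b hab
      obtain ⟨k, hik, hjk⟩ := exists_ge_ge i j
      have h0 : g k (f i k hik a - f j k hjk b) = 0 := by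
        rw [map_sub, hg', hg', hab, sub_self]
      obtain ⟨m, hkm, hm⟩ := hker k _ h0
      have h1 : ℓ i a = ℓ m (f k m hkm (f i k hik a)) := by rw [hcomp', hcomp']
      have h2 : ℓ j b = ℓ m (f k m hkm (f j k hjk b)) := by rw [hcomp', hcomp']
      rw [h1, h2, ← sub_eq_zero, ← map_sub, ← map_sub, hm, map_zero]
    choose idx x hx using hsurj
    let L : S → B := fun s => ℓ (idx s) (x s)
    have hL : ∀ i (a : G i), L (g i a) = ℓ i a := fun i a => wd _ _ _ _ (hx (g i a))
    have hrep2 : ∀ s t : S, ∃ k, ∃ a b : G k, g k a = s ∧ g k b = t := by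
      intro s t
      obtain ⟨k, hik, hjk⟩ := exists_ge_ge (idx s) (idx t)
      exact ⟨k, f _ k hik (x s), f _ k hjk (x t), by rw [hg', hx], by rw [hg', hx]⟩
    have hadd : ∀ s t, L (s + t) = L s + L t := by
      intro s t
      obtain ⟨k, a, b, rfl, rfl⟩ := hrep2 s t
      rw [← map_add, hL, hL, hL, map_add]
    have hmul : ∀ s t, L (s * t) = L s * L t := by
      intro s t
      obtain ⟨k, a, b, rfl, rfl⟩ := hrep2 s t
      rw [← map_mul, hL, hL, hL, map_mul]
    obtain ⟨i₀⟩ := ‹Nonempty ι›
    have hone : L 1 = 1 := by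
      have : (1 : S) = g i₀ 1 := (map_one _).symm
      rw [this, hL, map_one]
    have hzero : L 0 = 0 := by
      have : (0 : S) = g i₀ 0 := (map_zero _).symm
      rw [this, hL, map_zero]
    let Lalg : S →ₐ[R] B :=
      { toFun := L
        map_one' := hone
        map_mul' := hmul
        map_zero' := hzero
        map_add' := hadd
        commutes' := fun r => by
          change L (algebraMap R S r) = _
          rw [← (g i₀).commutes r, hL, (ℓ i₀).commutes] }
    refine ⟨Lalg, ?_⟩
    apply AlgHom.ext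
    intro s
    have hs := hx s
    change Ideal.Quotient.mk I (L s) = φ s
    conv_lhs => rw [← hs]
    conv_rhs => rw [← hs]
    rw [hL]
    exact AlgHom.congr_fun (hℓ (idx s)) (x s)
  exact Algebra.FormallyEtale.of_formallyUnramified_and_formallySmooth

end Groth.Agent.S9425
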