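import Groth.Statements.S9428
import Mathlib
import Mathlib

set_option autoImplicit false
universe u
open CAlg

namespace Groth.Agent.S9428

/-- If R → S is formally étale and J ⊆ S is an ideal with R → S/J surjective, I ⊆ R its kernel (the
preimage of J), then R/I^n → S/J^n is bijective for all n. (The published statement adds that the
associated graded rings are then isomorphic, which follows from these bijections.) -/
theorem result (R : Type u) [CommRing R] (S : Type u)
    [CommRing S] [Algebra R S] [Algebra.FormallyEtale R S] (J : Ideal S)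
    (hJ : Function.Surjective (algebraMap R (S ⧸ J))) (n : ℕ) :
    Function.Bijective (Ideal.quotientMap (J ^ n) (algebraMap R S)
      (le_of_le_of_eq (Ideal.le_comap_pow (algebraMap R S) n) rfl :
        (J.comap (algebraMap R S)) ^ n ≤ (J ^ n).comap (algebraMap R S))) := by
  classical
  set I : Ideal R := J.comap (algebraMap R S) with hI
  set φ := Ideal.quotientMap (J ^ n) (algebraMap R S)
      (le_of_le_of_eq (Ideal.le_comap_pow (algebraMap R S) n) rfl :
        (J.comap (algebraMap R S)) ^ n ≤ (J ^ n).comap (algebraMap R S)) with hφ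
  have hφmk : ∀ r : R, φ (Ideal.Quotient.mk (I ^ n) r) =
      Ideal.Quotient.mk (J ^ n) (algebraMap R S r) := fun r => rfl
  rcases Nat.eq_zero_or_pos n with hn | hn
  · subst hn
    haveI : Subsingleton (R ⧸ I ^ 0) := by
      rw [pow_zero, Ideal.one_eq_top]; exact Ideal.Quotient.subsingleton_iff.2 rfl
    haveI : Subsingleton (S ⧸ J ^ 0) := by
      rw [pow_zero, Ideal.one_eq_top]; exact Ideal.Quotient.subsingleton_iff.2 rfl
    exact ⟨fun a b _ => Subsingleton.elim a b, fun b => ⟨0, Subsingleton.elim _ _⟩⟩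
  -- the R-algebra map g : R/I^n → S/J
  have hle : ∀ a : R, a ∈ I ^ n → (Algebra.ofId R (S ⧸ J)) a = 0 := by
    intro a ha
    have ha' : a ∈ I := Ideal.pow_le_self (Nat.pos_iff_ne_zero.1 hn) ha
    show algebraMap R (S ⧸ J) a = 0
    rw [IsScalarTower.algebraMap_apply R S (S ⧸ J), Ideal.Quotient.algebraMap_eq,
      Ideal.Quotient.eq_zero_iff_mem]
    exact ha'
  let g : (R ⧸ I ^ n) →ₐ[R] (S ⧸ J) := Ideal.Quotient.liftₐ (I ^ n) (Algebra.ofId R (S ⧸ J)) hle
  have hgmk : ∀ r : R, g (Ideal.Quotient.mk (I ^ n) r) = algebraMap R (S ⧸ J) r := fun r => rfl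
  have hgsurj : Function.Surjective g := by
    intro c
    obtain ⟨r, rfl⟩ := hJ c
    exact ⟨Ideal.Quotient.mk (I ^ n) r, hgmk r⟩
  have hker : RingHom.ker (g : (R ⧸ I ^ n) →+* (S ⧸ J)) ≤ I.map (Ideal.Quotient.mk (I ^ n)) := by
    intro b hb
    obtain ⟨r, rfl⟩ := Ideal.Quotient.mk_surjective b
    have h1 : g (Ideal.Quotient.mk (I ^ n) r) = 0 := hb
    rw [hgmk, IsScalarTower.algebraMap_apply R S (S ⧸ J), Ideal.Quotient.algebraMap_eq,
      Ideal.Quotient.eq_zero_iff_mem] at h1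
    exact Ideal.mem_map_of_mem _ h1
  have hkerpow : (RingHom.ker (g : (R ⧸ I ^ n) →+* (S ⧸ J))) ^ n = ⊥ := by
    rw [eq_bot_iff]
    refine (Ideal.pow_right_mono hker n).trans ?_
    rw [← Ideal.map_pow, Ideal.map_quotient_self]
  have hnil : IsNilpotent (RingHom.ker (g : (R ⧸ I ^ n) →+* (S ⧸ J))) := ⟨n, hkerpow⟩
  haveI : Algebra.FormallySmooth R S := inferInstance
  haveI : Algebra.FormallyUnramified R S := inferInstance
  let σ : S →ₐ[R] (R ⧸ I ^ n) :=
    Algebra.FormallySmooth.liftOfSurjective (Ideal.Quotient.mkₐ R J) g hgsurj hnil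
  have hσ : ∀ s : S, g (σ s) = Ideal.Quotient.mk J s := fun s =>
    Algebra.FormallySmooth.liftOfSurjective_apply (Ideal.Quotient.mkₐ R J) g hgsurj hnil s
  have hσJ : ∀ s ∈ J ^ n, σ s = 0 := by
    intro s hs
    have h1 : J ≤ (RingHom.ker (g : (R ⧸ I ^ n) →+* (S ⧸ J))).comap (σ : S →+* (R ⧸ I ^ n)) := by
      intro t ht
      show g (σ t) = 0
      rw [hσ, Ideal.Quotient.eq_zero_iff_mem]
      exact ht
    have h2 : J ^ n ≤ ((RingHom.ker (g : (R ⧸ I ^ n) →+* (S ⧸ J))) ^ n).comap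
        (σ : S →+* (R ⧸ I ^ n)) :=
      (Ideal.pow_right_mono h1 n).trans (Ideal.le_comap_pow _ n)
    have h3 := h2 hs
    rw [hkerpow] at h3
    exact h3
  constructor
  · -- injective: τ ∘ φ = id
    intro a b hab
    obtain ⟨r, rfl⟩ := Ideal.Quotient.mk_surjective a
    obtain ⟨r', rfl⟩ := Ideal.Quotient.mk_surjective b
    rw [hφmk, hφmk, Ideal.Quotient.eq] at hab
    have h1 := hσJ _ hab
    rw [map_sub, AlgHom.commutes, AlgHom.commutes, sub_eq_zero] at h1
    exact h1
  · -- surjective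
    have hπle : J ^ n ≤ J := Ideal.pow_le_self (Nat.pos_iff_ne_zero.1 hn)
    let π : (S ⧸ J ^ n) →ₐ[R] (S ⧸ J) := Ideal.Quotient.factorₐ R hπle
    have hπmk : ∀ s : S, π (Ideal.Quotient.mk (J ^ n) s) = Ideal.Quotient.mk J s := fun s => rfl
    have hπker : RingHom.ker (π : (S ⧸ J ^ n) →+* (S ⧸ J)) ≤ J.map (Ideal.Quotient.mk (J ^ n)) := by
      intro b hb
      obtain ⟨s, rfl⟩ := Ideal.Quotient.mk_surjective b
      have h1 : π (Ideal.Quotient.mk (J ^ n) s) = 0 := hb
      rw [hπmk, Ideal.Quotient.eq_zero_iff_mem] at h1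
      exact Ideal.mem_map_of_mem _ h1
    have hπnil : IsNilpotent (RingHom.ker (π : (S ⧸ J ^ n) →+* (S ⧸ J))) := by
      refine ⟨n, ?_⟩
      rw [Ideal.zero_eq_bot, eq_bot_iff]
      refine (Ideal.pow_right_mono hπker n).trans ?_
      rw [← Ideal.map_pow, Ideal.map_quotient_self]
    let φ' : (R ⧸ I ^ n) →ₐ[R] (S ⧸ J ^ n) :=
      { φ with commutes' := fun r => rfl }
    have hφ' : ∀ x, φ' x = φ x := fun x => rfl
    have heq : Ideal.Quotient.mkₐ R (J ^ n) = φ'.comp σ := by
      refine Algebra.FormallyUnramified.lift_unique' π hπnil _ _ ?_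
      ext s
      simp only [AlgHom.comp_apply, Ideal.Quotient.mkₐ_eq_mk]
      rw [hπmk]
      obtain ⟨r, hr⟩ := Ideal.Quotient.mk_surjective (σ s)
      have h1 := hσ s
      rw [← hr, hgmk] at h1
      rw [← hr, hφ', hφmk, hπmk, ← h1, IsScalarTower.algebraMap_apply R S (S ⧸ J),
        Ideal.Quotient.algebraMap_eq]
    intro b
    obtain ⟨s, rfl⟩ := Ideal.Quotient.mk_surjective b
    refine ⟨σ s, ?_⟩
    have := AlgHom.congr_fun heq s
    simp only [AlgHom.comp_apply, Ideal.Quotient.mkₐ_eq_mk] at this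
    rw [this, hφ']

end Groth.Agent.S9428
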