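import Groth.Statements.S9431
import Mathlib
import Groth.Agent.Lib.helper6.GeomRedFS

set_option autoImplicit false
universe u
open CAlg

namespace Groth.Agent.S9431

/-- For a separable (geometrically reduced) field extension K/k, every finite subset of K lies in a
k-subalgebra of K which is smooth over k; in particular K is a filtered colimit of smooth
k-algebras. -/
theorem result (k : Type u) [Field k]
    (K : Type u) [Field K] [Algebra k K] [Algebra.IsGeometricallyReduced k K] (E : Finset K) :
    ∃ A : Subalgebra k K, (↑E : Set K) ⊆ (A : Set K) ∧ Algebra.Smooth k A := by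
  classical
  haveI hft : Algebra.FiniteType k (Algebra.adjoin k (E : Set K)) :=
    (Subalgebra.fg_iff_finiteType _).1 (Subalgebra.fg_adjoin_finset E)
  haveI hfp : Algebra.FinitePresentation k (Algebra.adjoin k (E : Set K)) :=
    Algebra.FinitePresentation.of_finiteType.1 hft
  haveI hfr : IsFractionRing (Algebra.adjoin k (E : Set K))
      (Localization.AtPrime (⊥ : Ideal (Algebra.adjoin k (E : Set K)))) := by
    simpa [Ideal.primeCompl_bot] using
      Localization.isLocalization (M := (⊥ : Ideal (Algebra.adjoin k (E : Set K))).primeCompl)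
  letI : Field (Localization.AtPrime (⊥ : Ideal (Algebra.adjoin k (E : Set K)))) :=
    IsFractionRing.toField (Algebra.adjoin k (E : Set K))
  let ι : Localization.AtPrime (⊥ : Ideal (Algebra.adjoin k (E : Set K))) →ₐ[k] K :=
    IsFractionRing.liftAlgHom (g := (Algebra.adjoin k (E : Set K)).val) Subtype.val_injective
  have hι : Function.Injective ι := ι.toRingHom.injective
  haveI : Algebra.IsGeometricallyReduced k
      (Localization.AtPrime (⊥ : Ideal (Algebra.adjoin k (E : Set K)))) :=
    Algebra.IsGeometricallyReduced.of_injective ι hι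
  haveI : Algebra.EssFiniteType k
      (Localization.AtPrime (⊥ : Ideal (Algebra.adjoin k (E : Set K)))) :=
    Algebra.EssFiniteType.comp k (Algebra.adjoin k (E : Set K)) _
  haveI hfs : Algebra.FormallySmooth k
      (Localization.AtPrime (⊥ : Ideal (Algebra.adjoin k (E : Set K)))) :=
    Groth.Agent.Lib.helper6.H6_fs_of_geomReduced k _
  haveI : Algebra.IsSmoothAt k (⊥ : Ideal (Algebra.adjoin k (E : Set K))) := hfs
  obtain ⟨f, hf, hsm⟩ := Algebra.IsSmoothAt.exists_notMem_smooth k
    (⊥ : Ideal (Algebra.adjoin k (E : Set K)))
  have hf0 : f ≠ 0 := fun h => hf (by rw [h]; exact zero_mem _)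
  have hunit : IsUnit ((Algebra.adjoin k (E : Set K)).val f) :=
    isUnit_iff_ne_zero.2 (fun h => hf0 (Subtype.ext h))
  let φ : Localization.Away f →ₐ[k] K :=
    IsLocalization.liftAlgHom (M := Submonoid.powers f) (f := (Algebra.adjoin k (E : Set K)).val)
      (by
        rintro ⟨y, n, rfl⟩
        rw [map_pow]
        exact hunit.pow n)
  have hφa : ∀ x : Algebra.adjoin k (E : Set K),
      φ (algebraMap (Algebra.adjoin k (E : Set K)) (Localization.Away f) x) = (x : K) :=
    fun x => IsLocalization.lift_eq _ x
  have hφ : Function.Injective φ := by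
    have h1 : Function.Injective (algebraMap (Algebra.adjoin k (E : Set K)) (Localization.Away f)) :=
      IsLocalization.injective _ (powers_le_nonZeroDivisors_of_noZeroDivisors hf0)
    refine (IsLocalization.lift_injective_iff (M := Submonoid.powers f) _).2 ?_
    intro x y
    constructor
    · intro h
      rw [h1 h]
    · intro h
      rw [Subtype.val_injective h]
  refine ⟨φ.range, ?_, ?_⟩
  · intro e he
    exact ⟨algebraMap (Algebra.adjoin k (E : Set K)) (Localization.Away f)
      ⟨e, Algebra.subset_adjoin he⟩, hφa _⟩
  · exact Algebra.Smooth.of_equiv (AlgEquiv.ofInjective φ hφ)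

end Groth.Agent.S9431
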