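import Groth.Statements.S9435
import Mathlib

set_option autoImplicit false
universe u
open CAlg

namespace Groth.Agent.S9435

/-- Given a prime p of a ring R and a finite separable extension L of κ(p), there is an étale R-algebra
R' with a prime p' over p whose residue field is κ(p)-isomorphic to L. Stated through an R-algebra
map ψ : R' → L whose image generates the field L: its kernel is such a prime p' and the induced
κ(p') → L is then an isomorphism over κ(p). -/
theorem result (R : Type u) [CommRing R]
    (p : Ideal R) [p.IsPrime] (L : Type u) [Field L] [Algebra p.ResidueField L] [Algebra R L]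
    [IsScalarTower R p.ResidueField L] [Module.Finite p.ResidueField L]
    [Algebra.IsSeparable p.ResidueField L] :
    ∃ (R' : Type u) (_ : CommRing R') (_ : Algebra R R') (_ : Algebra.Etale R R') (ψ : R' →ₐ[R] L),
      Subfield.closure (Set.range ψ) = ⊤ := by
  classical
  obtain ⟨α, hα⟩ := Field.exists_primitive_element p.ResidueField L
  have hαint : IsIntegral p.ResidueField α := Algebra.IsIntegral.isIntegral α
  have hfmonic : (minpoly p.ResidueField α).Monic := minpoly.monic hαint
  -- clear denominators
  obtain ⟨b, hb⟩ := IsLocalization.exist_integer_multiples_of_finset (nonZeroDivisors (R ⧸ p))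
    ((Finset.range ((minpoly p.ResidueField α).natDegree + 1)).image (minpoly p.ResidueField α).coeff)
  obtain ⟨b', hb'⟩ := Ideal.Quotient.mk_surjective (b : R ⧸ p)
  have hb'p : b' ∉ p := by
    intro h
    have : (b : R ⧸ p) = 0 := by rw [← hb']; exact Ideal.Quotient.eq_zero_iff_mem.mpr h
    exact nonZeroDivisors.coe_ne_zero b this
  have hβ0 : algebraMap R p.ResidueField b' ≠ 0 := by
    rw [Ne, Ideal.algebraMap_residueField_eq_zero]; exact hb'p
  have hcoef : ∀ i, ∃ a : R, algebraMap R p.ResidueField b' * (minpoly p.ResidueField α).coeff i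
      = algebraMap R p.ResidueField a := by
    intro i
    by_cases hi : i ≤ (minpoly p.ResidueField α).natDegree
    · have := hb ((minpoly p.ResidueField α).coeff i)
        (Finset.mem_image_of_mem _ (Finset.mem_range.mpr (Nat.lt_succ_of_le hi)))
      obtain ⟨c, hc⟩ := this
      obtain ⟨c', rfl⟩ := Ideal.Quotient.mk_surjective c
      refine ⟨c', ?_⟩
      rw [Algebra.smul_def, ← hb'] at hc
      exact hc.symm
    · exact ⟨0, by rw [Polynomial.coeff_eq_zero_of_natDegree_lt (not_le.mp hi)]; simp⟩
  have hGmonic : (Polynomial.scaleRoots (minpoly p.ResidueField α) (algebraMap R p.ResidueField b')).Monic :=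
    (Polynomial.monic_scaleRoots_iff _).mpr hfmonic
  have hGlifts : Polynomial.scaleRoots (minpoly p.ResidueField α) (algebraMap R p.ResidueField b')
      ∈ Polynomial.lifts (algebraMap R p.ResidueField) := by
    rw [Polynomial.lifts_iff_coeff_lifts]
    intro i
    rw [Polynomial.coeff_scaleRoots]
    rcases lt_or_ge i (minpoly p.ResidueField α).natDegree with hi | hi
    · obtain ⟨a, ha⟩ := hcoef i
      refine ⟨a * b' ^ ((minpoly p.ResidueField α).natDegree - i - 1), ?_⟩
      have h1 : (minpoly p.ResidueField α).natDegree - i
          = ((minpoly p.ResidueField α).natDegree - i - 1) + 1 := by omega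
      rw [map_mul, map_pow, ← ha]
      conv_rhs => rw [h1, pow_succ]
      ring
    · rcases eq_or_lt_of_le hi with h | h
      · refine ⟨1, ?_⟩
        rw [← h, Nat.sub_self, pow_zero, mul_one, map_one]
        exact hfmonic.symm
      · refine ⟨0, ?_⟩
        rw [Polynomial.coeff_eq_zero_of_natDegree_lt h, zero_mul, map_zero]
  obtain ⟨F, hFmap, hFdeg, hFmonic⟩ :=
    Polynomial.lifts_and_natDegree_eq_and_monic hGlifts hGmonic
  have hGα' : Polynomial.aeval (algebraMap p.ResidueField L (algebraMap R p.ResidueField b') * α)
      (Polynomial.scaleRoots (minpoly p.ResidueField α) (algebraMap R p.ResidueField b')) = 0 :=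
    Polynomial.scaleRoots_aeval_eq_zero (minpoly.aeval p.ResidueField α)
  generalize hα'def : algebraMap p.ResidueField L (algebraMap R p.ResidueField b') * α = α' at hGα'
  generalize hGdef : Polynomial.scaleRoots (minpoly p.ResidueField α) (algebraMap R p.ResidueField b') = G
    at hGα' hGmonic hFmap hFdeg
  have hα'top : IntermediateField.adjoin p.ResidueField {α'} = ⊤ := by
    rw [eq_top_iff, ← hα, IntermediateField.adjoin_simple_le_iff]
    have h1 : α' ∈ IntermediateField.adjoin p.ResidueField {α'} :=
      IntermediateField.mem_adjoin_simple_self _ α'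
    have h2 : algebraMap p.ResidueField L (algebraMap R p.ResidueField b') ∈
        IntermediateField.adjoin p.ResidueField {α'} := IntermediateField.algebraMap_mem _ _
    have : α = (algebraMap p.ResidueField L (algebraMap R p.ResidueField b'))⁻¹ * α' := by
      rw [← hα'def, ← mul_assoc, inv_mul_cancel₀, one_mul]
      exact (map_ne_zero _).mpr hβ0
    rw [this]
    exact mul_mem (inv_mem h2) h1
  have hα'int : IsIntegral p.ResidueField α' := Algebra.IsIntegral.isIntegral α'
  have hGmin : minpoly p.ResidueField α' = G := by
    have hdvd : minpoly p.ResidueField α' ∣ G := minpoly.dvd _ α' hGα'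
    have hdeg : G.natDegree ≤ (minpoly p.ResidueField α').natDegree := by
      rw [← hGdef, Polynomial.natDegree_scaleRoots,
        ← IntermediateField.adjoin.finrank hα'int, ← IntermediateField.adjoin.finrank hαint,
        hα, hα'top]
    exact (Polynomial.eq_of_monic_of_dvd_of_natDegree_le (minpoly.monic hα'int) hGmonic hdvd hdeg).symm
  have hGsep : G.Separable := hGmin ▸ Algebra.IsSeparable.isSeparable p.ResidueField α'
  have hGder : Polynomial.aeval α' (Polynomial.derivative G) ≠ 0 :=
    hGsep.aeval_derivative_ne_zero hGα'
  let P : StandardEtalePair R := ⟨F, hFmonic, Polynomial.derivative F, ⟨1, 0, 1, by simp⟩⟩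
  have haevalF : ∀ q : Polynomial R,
      Polynomial.aeval α' q = Polynomial.aeval α' (q.map (algebraMap R p.ResidueField)) :=
    fun q => (Polynomial.aeval_map_algebraMap p.ResidueField α' q).symm
  have hmap : P.HasMap α' := by
    refine ⟨?_, ?_⟩
    · change Polynomial.aeval α' F = 0
      rw [haevalF, hFmap]; exact hGα'
    · change IsUnit (Polynomial.aeval α' (Polynomial.derivative F))
      rw [haevalF, ← Polynomial.derivative_map, hFmap]
      exact isUnit_iff_ne_zero.mpr hGder
  refine ⟨P.Ring, inferInstance, inferInstance, inferInstance, P.lift α' hmap, ?_⟩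
  have hRmem : ∀ r : R, algebraMap R L r ∈ Subfield.closure (Set.range (P.lift α' hmap)) :=
    fun r => Subfield.subset_closure ⟨algebraMap R P.Ring r, AlgHom.commutes _ r⟩
  have hKmem : ∀ x : p.ResidueField,
      algebraMap p.ResidueField L x ∈ Subfield.closure (Set.range (P.lift α' hmap)) := by
    intro x
    obtain ⟨⟨a, s⟩, hs⟩ := IsLocalization.surj (nonZeroDivisors (R ⧸ p)) x
    obtain ⟨a', rfl⟩ := Ideal.Quotient.mk_surjective a
    obtain ⟨s', hs'⟩ := Ideal.Quotient.mk_surjective (s : R ⧸ p)
    have hs'0 : algebraMap R p.ResidueField s' ≠ 0 := by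
      rw [Ne, Ideal.algebraMap_residueField_eq_zero]
      intro h
      have : (s : R ⧸ p) = 0 := by rw [← hs']; exact Ideal.Quotient.eq_zero_iff_mem.mpr h
      exact nonZeroDivisors.coe_ne_zero s this
    have hx : x * algebraMap R p.ResidueField s' = algebraMap R p.ResidueField a' := by
      have := hs
      simp only [← hs'] at this
      exact this
    have hx' : algebraMap p.ResidueField L x
        = algebraMap R L a' / algebraMap R L s' := by
      rw [IsScalarTower.algebraMap_apply R p.ResidueField L a',
        IsScalarTower.algebraMap_apply R p.ResidueField L s', ← hx, map_mul,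
        mul_div_assoc, div_self ((map_ne_zero _).mpr hs'0), mul_one]
    rw [hx']
    exact div_mem (hRmem a') (hRmem s')
  have hα'mem : α' ∈ Subfield.closure (Set.range (P.lift α' hmap)) :=
    Subfield.subset_closure ⟨P.X, P.lift_X α' hmap⟩
  have hle : IntermediateField.adjoin p.ResidueField {α'} ≤
      (Subfield.closure (Set.range (P.lift α' hmap))).toIntermediateField hKmem :=
    IntermediateField.adjoin_simple_le_iff.mpr hα'mem
  rw [hα'top] at hle
  rw [eq_top_iff]
  intro y _
  exact hle (IntermediateField.mem_top)

end Groth.Agent.S9435
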