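import Groth.Statements.S9468
import Mathlib
import Groth.Agent.Lib.helper4.EtalePairs

set_option autoImplicit false
universe u
open Hensel

namespace Groth.Agent.S9468

/-- Let R be a ring and p a prime of R. Consider pairs (S, q) with S an étale R-algebra and q a prime of
S lying over p such that κ(p) → κ(q) is bijective; a morphism of pairs is an R-algebra map pulling
the second prime back to the first. Then any two pairs admit morphisms of pairs to a common third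
pair. -/
theorem result (R : Type u) [CommRing R]
    (p : Ideal R) [p.IsPrime] (S₁ : Type u) [CommRing S₁] [Algebra R S₁] [Algebra.Etale R S₁] (q₁ : Ideal S₁) [q₁.IsPrime] (hq₁ : p = q₁.comap (algebraMap R S₁))
    (hq₁κ : Function.Bijective (Ideal.ResidueField.map p q₁ (algebraMap R S₁) hq₁))
    (S₂ : Type u) [CommRing S₂] [Algebra R S₂] [Algebra.Etale R S₂] (q₂ : Ideal S₂) [q₂.IsPrime] (hq₂ : p = q₂.comap (algebraMap R S₂))
    (hq₂κ : Function.Bijective (Ideal.ResidueField.map p q₂ (algebraMap R S₂) hq₂)) :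
    ∃ (S₃ : Type u) (_ : CommRing S₃) (_ : Algebra R S₃) (_ : Algebra.Etale R S₃) (q₃ : Ideal S₃)
      (_ : q₃.IsPrime) (hq₃ : p = q₃.comap (algebraMap R S₃)),
      Function.Bijective (Ideal.ResidueField.map p q₃ (algebraMap R S₃) hq₃) ∧
        ∃ (φ₁ : S₁ →ₐ[R] S₃) (φ₂ : S₂ →ₐ[R] S₃),
          q₃.comap φ₁.toRingHom = q₁ ∧ q₃.comap φ₂.toRingHom = q₂ := by
  classical
  obtain ⟨χ₁, hχ₁⟩ := Groth.Agent.H4.H4_pair_char p q₁ hq₁ hq₁κ
  obtain ⟨χ₂, hχ₂⟩ := Groth.Agent.H4.H4_pair_char p q₂ hq₂ hq₂κ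
  have hk₁ : ∀ c, c ∈ q₁ ↔ χ₁ c = 0 := fun c => by rw [← hχ₁]; exact RingHom.mem_ker
  have hk₂ : ∀ c, c ∈ q₂ ↔ χ₂ c = 0 := fun c => by rw [← hχ₂]; exact RingHom.mem_ker
  haveI : Algebra.Etale R (TensorProduct R S₁ S₂) :=
    Algebra.Etale.comp R S₁ (TensorProduct R S₁ S₂)
  let χ : TensorProduct R S₁ S₂ →ₐ[R] p.ResidueField :=
    Algebra.TensorProduct.productMap χ₁ χ₂
  have hχ : ∀ a b, χ (a ⊗ₜ b) = χ₁ a * χ₂ b := fun a b => by simp [χ]
  let q₃ : Ideal (TensorProduct R S₁ S₂) := RingHom.ker χ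
  haveI hq₃ : q₃.IsPrime := RingHom.ker_isPrime χ
  have hmem : ∀ w, w ∈ q₃ ↔ χ w = 0 := fun w => RingHom.mem_ker
  obtain ⟨hq₃', hbij⟩ := Groth.Agent.H4.H4_char_pair p χ q₃ rfl
  refine ⟨TensorProduct R S₁ S₂, inferInstance, inferInstance, inferInstance, q₃, hq₃, hq₃', hbij,
    Algebra.TensorProduct.includeLeft, Algebra.TensorProduct.includeRight, ?_, ?_⟩
  · ext s
    rw [Ideal.mem_comap, hmem, hk₁]
    show χ (s ⊗ₜ 1) = 0 ↔ _
    rw [hχ, map_one, mul_one]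
  · ext s
    rw [Ideal.mem_comap, hmem, hk₂]
    show χ (1 ⊗ₜ s) = 0 ↔ _
    rw [hχ, map_one, one_mul]

end Groth.Agent.S9468
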