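import Groth.Statements.S9469
import Mathlib
import Groth.Agent.Lib.helper4.EtalePairs

set_option autoImplicit false
universe u
open Hensel

namespace Groth.Agent.S9469

/-- Let R be a ring and p a prime of R. Consider pairs (S, q) with S an étale R-algebra and q a prime of
S lying over p such that κ(p) → κ(q) is bijective; a morphism of pairs is an R-algebra map pulling
the second prime back to the first. Then any two parallel morphisms of pairs φ, ψ : (S₁, q₁) → (S₂,
q₂) are coequalized by a morphism of pairs (S₂, q₂) → (S₃, q₃). -/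
theorem result (R : Type u) [CommRing R]
    (p : Ideal R) [p.IsPrime] (S₁ : Type u) [CommRing S₁] [Algebra R S₁] [Algebra.Etale R S₁] (q₁ : Ideal S₁) [q₁.IsPrime] (hq₁ : p = q₁.comap (algebraMap R S₁))
    (hq₁κ : Function.Bijective (Ideal.ResidueField.map p q₁ (algebraMap R S₁) hq₁))
    (S₂ : Type u) [CommRing S₂] [Algebra R S₂] [Algebra.Etale R S₂] (q₂ : Ideal S₂) [q₂.IsPrime] (hq₂ : p = q₂.comap (algebraMap R S₂))
    (hq₂κ : Function.Bijective (Ideal.ResidueField.map p q₂ (algebraMap R S₂) hq₂))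
    (φ ψ : S₁ →ₐ[R] S₂) (hφ : q₂.comap φ.toRingHom = q₁) (hψ : q₂.comap ψ.toRingHom = q₁) :
    ∃ (S₃ : Type u) (_ : CommRing S₃) (_ : Algebra R S₃) (_ : Algebra.Etale R S₃) (q₃ : Ideal S₃)
      (_ : q₃.IsPrime) (hq₃ : p = q₃.comap (algebraMap R S₃)),
      Function.Bijective (Ideal.ResidueField.map p q₃ (algebraMap R S₃) hq₃) ∧
        ∃ χ : S₂ →ₐ[R] S₃, q₃.comap χ.toRingHom = q₂ ∧ χ.comp φ = χ.comp ψ := by
  classical
  obtain ⟨χ₂, hχ₂⟩ := Groth.Agent.H4.H4_pair_char p q₂ hq₂ hq₂κ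
  have hk₂ : ∀ c, c ∈ q₂ ↔ χ₂ c = 0 := fun c => by rw [← hχ₂]; exact RingHom.mem_ker
  -- the two composites agree
  have hker : ∀ (θ : S₁ →ₐ[R] S₂), q₂.comap θ.toRingHom = q₁ → RingHom.ker (χ₂.comp θ) = q₁ := by
    intro θ hθ
    ext s
    rw [RingHom.mem_ker, AlgHom.comp_apply, ← hk₂, ← hθ]
    rfl
  have hcomp : χ₂.comp φ = χ₂.comp ψ :=
    Groth.Agent.H4.H4_char_unique p q₁ hq₁ hq₁κ _ _ (hker φ hφ) (hker ψ hψ)
  -- the idempotent of the diagonal of S₁
  obtain ⟨e, he, hsp⟩ : ∃ e, IsIdempotentElem e ∧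
      KaehlerDifferential.ideal R S₁ = Ideal.span {e} :=
    (Ideal.isIdempotentElem_iff_of_fg _ (KaehlerDifferential.ideal_fg R S₁)).mp <|
      (Ideal.cotangent_subsingleton_iff _).mp <| inferInstanceAs <| Subsingleton (Ω[S₁⁄R])
  let Φ : TensorProduct R S₁ S₁ →ₐ[R] S₂ := Algebra.TensorProduct.productMap φ ψ
  have hΦ : ∀ a b, Φ (a ⊗ₜ b) = φ a * ψ b := fun a b => by simp [Φ]
  let E : S₂ := Φ e
  have hE : IsIdempotentElem E := he.map Φ
  have he_mem : e ∈ KaehlerDifferential.ideal R S₁ := by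
    rw [hsp]; exact Ideal.mem_span_singleton_self e
  have hχE : χ₂ E = 0 := by
    have h1 : χ₂.comp Φ = (χ₂.comp φ).comp (Algebra.TensorProduct.lmul' R) := by
      apply Algebra.TensorProduct.ext'
      intro a b
      simp only [AlgHom.comp_apply, hΦ, Algebra.TensorProduct.lmul'_apply_tmul, map_mul]
      rw [← AlgHom.comp_apply χ₂ ψ, ← hcomp, AlgHom.comp_apply]
    have h2 : Algebra.TensorProduct.lmul' R e = 0 := he_mem
    show χ₂ (Φ e) = 0
    rw [← AlgHom.comp_apply, h1, AlgHom.comp_apply, h2, map_zero]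
  have hχ1E : χ₂ (1 - E) = 1 := by rw [map_sub, map_one, hχE, sub_zero]
  have hunit : ∀ y : Submonoid.powers (1 - E), IsUnit (χ₂ y) := by
    rintro ⟨_, n, rfl⟩
    simp only [map_pow, hχ1E, one_pow, isUnit_one]
  haveI : Algebra.Etale S₂ (Localization.Away (1 - E)) := inferInstance
  haveI : Algebra.Etale R (Localization.Away (1 - E)) :=
    Algebra.Etale.comp R S₂ (Localization.Away (1 - E))
  let χ₃ : Localization.Away (1 - E) →ₐ[R] p.ResidueField :=
    IsLocalization.liftAlgHom (M := Submonoid.powers (1 - E)) hunit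
  have hχ₃ : ∀ s, χ₃ (algebraMap S₂ _ s) = χ₂ s := fun s => by
    show IsLocalization.lift hunit (algebraMap S₂ _ s) = χ₂ s
    rw [IsLocalization.lift_eq]; rfl
  let q₃ : Ideal (Localization.Away (1 - E)) := RingHom.ker χ₃
  haveI hq₃ : q₃.IsPrime := RingHom.ker_isPrime χ₃
  have hmem : ∀ w, w ∈ q₃ ↔ χ₃ w = 0 := fun w => RingHom.mem_ker
  obtain ⟨hq₃', hbij⟩ := Groth.Agent.H4.H4_char_pair p χ₃ q₃ rfl
  refine ⟨Localization.Away (1 - E), inferInstance, inferInstance, inferInstance, q₃, hq₃, hq₃',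
    hbij, IsScalarTower.toAlgHom R S₂ (Localization.Away (1 - E)), ?_, ?_⟩
  · ext s
    rw [Ideal.mem_comap, hmem, hk₂]
    show χ₃ (algebraMap S₂ _ s) = 0 ↔ _
    rw [hχ₃]
  · ext x
    show algebraMap S₂ (Localization.Away (1 - E)) (φ x) = algebraMap S₂ _ (ψ x)
    have hx : (x ⊗ₜ[R] (1 : S₁) - 1 ⊗ₜ[R] x) ∈ KaehlerDifferential.ideal R S₁ := by
      have := (KaehlerDifferential.ideal R S₁).neg_mem
        (KaehlerDifferential.one_smul_sub_smul_one_mem_ideal R x)
      simpa using this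
    rw [hsp, Ideal.mem_span_singleton'] at hx
    obtain ⟨t, ht⟩ := hx
    have h3 := congrArg Φ ht
    rw [map_mul, map_sub, hΦ, hΦ, map_one, map_one, mul_one, one_mul] at h3
    have hE0 : algebraMap S₂ (Localization.Away (1 - E)) E = 0 := by
      have hu : IsUnit (algebraMap S₂ (Localization.Away (1 - E)) (1 - E)) :=
        IsLocalization.Away.algebraMap_isUnit (1 - E)
      have h4 : algebraMap S₂ (Localization.Away (1 - E)) E *
          algebraMap S₂ (Localization.Away (1 - E)) (1 - E) = 0 := by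
        rw [← map_mul, mul_sub, mul_one, hE.eq, sub_self, map_zero]
      exact (hu.mul_left_eq_zero).mp h4
    rw [← sub_eq_zero, ← map_sub, ← h3, map_mul]
    show _ * algebraMap S₂ (Localization.Away (1 - E)) E = 0
    rw [hE0, mul_zero]

end Groth.Agent.S9469
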