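import Groth.Statements.S9472
import Mathlib
import Groth.Agent.Lib.helper6.EtaleBC4

set_option autoImplicit false
universe u
open Diff16 Groth.Agent.Lib.helper6
open scoped TensorProduct
set_option linter.style.haveILetI false

namespace Groth.Agent.S9472

open TensorProduct in
/-- Let R → S → S' be ring maps with S → S' formally étale, M an S-module and (P, D_u) a module of
principal parts of order k of M relative to R → S, i.e. D_u : M → P is a differential operator of
order at most k through which every differential operator of order at most k from M to an S-module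
factors by a unique S-linear map. If D_u' : S' ⊗_S M → S' ⊗_S P is a differential operator of order
at most k relative to R → S' with D_u'(1 ⊗ m) = 1 ⊗ D_u(m), then (S' ⊗_S P, D_u') is a module of
principal parts of order k of S' ⊗_S M relative to R → S'. (The published statement writes this as
an identification of S' ⊗_S P^k_{S/R}(M) with P^k_{S'/R}(M') and forms M' by base change over R
rather than over S; with base change over R the identification fails already for k = 0, R the
rationals, S = S' a polynomial ring in one variable and M = S, and the published proof computes with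
the base change over S, used here. Target modules are taken in one universe.) -/
theorem result (R S S' : Type u) [CommRing R]
    [CommRing S] [CommRing S'] [Algebra R S] [Algebra R S'] [Algebra S S'] [IsScalarTower R S S']
    [Algebra.FormallyEtale S S'] (M : Type u) [AddCommGroup M] [Module S M] [Module R M]
    [IsScalarTower R S M] (k : ℕ) (P : Type u) [AddCommGroup P] [Module S P] [Module R P]
    [IsScalarTower R S P] (Du : M →ₗ[R] P) (hDu : Diff16.IsDiffOpLE R S M P k Du)
    (huniv : ∀ (N : Type u) [AddCommGroup N] [Module S N] [Module R N] [IsScalarTower R S N]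
      (D : M →ₗ[R] N), Diff16.IsDiffOpLE R S M N k D → ∃! α : P →ₗ[S] N, α.restrictScalars R ∘ₗ Du = D)
    (Du' : S' ⊗[S] M →ₗ[R] S' ⊗[S] P) (hDu' : Diff16.IsDiffOpLE R S' (S' ⊗[S] M) (S' ⊗[S] P) k Du')
    (hext : Du' ∘ₗ (TensorProduct.mk S S' M 1).restrictScalars R =
      (TensorProduct.mk S S' P 1).restrictScalars R ∘ₗ Du) :
    ∀ (N' : Type u) [AddCommGroup N'] [Module S' N'] [Module R N'] [IsScalarTower R S' N']
      (D' : S' ⊗[S] M →ₗ[R] N'), Diff16.IsDiffOpLE R S' (S' ⊗[S] M) N' k D' →
        ∃! α : S' ⊗[S] P →ₗ[S'] N', α.restrictScalars R ∘ₗ Du' = D' := by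
  intro N' _ _ _ _ D' hD'
  letI : Module S N' := Module.compHom N' (algebraMap S S')
  haveI : IsScalarTower S S' N' := IsScalarTower.of_algebraMap_smul (fun s n => rfl)
  haveI : IsScalarTower R S N' := ⟨fun r s n => by
    show algebraMap S S' (r • s) • n = r • (algebraMap S S' s • n)
    rw [← smul_assoc]
    congr 1
    rw [Algebra.smul_def, map_mul, ← IsScalarTower.algebraMap_apply R S S', Algebra.smul_def]⟩
  let ι : M →ₗ[R] S' ⊗[S] M := (TensorProduct.mk S S' M 1).restrictScalars R
  have hι_apply : ∀ m, ι m = (1 : S') ⊗ₜ[S] m := fun m => rfl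
  have hι : ∀ (s : S) (m : M), ι (s • m) = algebraMap S S' s • ι m := fun s m => by
    rw [hι_apply, hι_apply, H6_algebraMap_smul_one_tmul]
  have hD₀ : Diff16.IsDiffOpLE R S M N' k (D' ∘ₗ ι) :=
    H6_isDiffOpLE_restrict R S S' M (S' ⊗[S] M) N' ι hι k D' hD'
  obtain ⟨α₀, hα₀, hα₀u⟩ := huniv N' (D' ∘ₗ ι) hD₀
  have hα₀' : ∀ m, α₀ (Du m) = D' ((1 : S') ⊗ₜ[S] m) := fun m => LinearMap.congr_fun hα₀ m
  have hDu'1 : ∀ m, Du' ((1 : S') ⊗ₜ[S] m) = (1 : S') ⊗ₜ[S] Du m := fun m =>
    LinearMap.congr_fun hext m
  refine ⟨LinearMap.liftBaseChange S' α₀, ?_, ?_⟩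
  · show (LinearMap.liftBaseChange S' α₀).restrictScalars R ∘ₗ Du' = D'
    rw [← sub_eq_zero]
    refine H6_eq_zero_of_vanish_on_base R S S' M N' k _ ?_ ?_
    · rw [sub_eq_add_neg]
      refine Groth.Agent.H1.H1_isDiffOpLE_add _ _ _ ?_ (Groth.Agent.H1.H1_isDiffOpLE_neg _ _ hD')
      exact Groth.Agent.H1.H1_isDiffOpLE_comp k 0 Du' _ hDu'
        (fun b x => (LinearMap.liftBaseChange S' α₀).map_smul b x)
    · intro m
      rw [LinearMap.sub_apply, LinearMap.comp_apply, hDu'1, LinearMap.restrictScalars_apply,
        LinearMap.liftBaseChange_tmul, one_smul, hα₀', sub_self]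
  · intro α' hα'
    have hα'1 : ∀ m, α' ((1 : S') ⊗ₜ[S] Du m) = D' ((1 : S') ⊗ₜ[S] m) := fun m => by
      rw [← hDu'1]
      exact LinearMap.congr_fun hα' ((1 : S') ⊗ₜ[S] m)
    let α'₀ : P →ₗ[S] N' :=
      { toFun := fun p => α' ((1 : S') ⊗ₜ[S] p)
        map_add' := fun p p' => by rw [TensorProduct.tmul_add, map_add]
        map_smul' := fun s p => by
          rw [← H6_algebraMap_smul_one_tmul, map_smul, RingHom.id_apply]
          rfl }
    have h1 : α'₀ = α₀ := by
      apply hα₀u
      ext m
      exact hα'1 m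
    apply LinearMap.ext
    intro x
    induction x using TensorProduct.induction_on with
    | zero => simp
    | tmul s' p =>
      rw [LinearMap.liftBaseChange_tmul, ← h1]
      have : s' ⊗ₜ[S] p = s' • ((1 : S') ⊗ₜ[S] p) := by
        rw [TensorProduct.smul_tmul', smul_eq_mul, mul_one]
      rw [this, map_smul]
      rfl
    | add x y hx hy => rw [map_add, map_add, hx, hy]

end Groth.Agent.S9472
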