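import Groth.Statements.S9495
import Mathlib

set_option autoImplicit false
universe u
open SchMor

namespace Groth.Agent.S9495

open AlgebraicGeometry in
open CategoryTheory in
/-- For a quasi-compact morphism of schemes f : X → S, the image f(X) is closed in S if and only if it
is stable under specialization. -/
theorem result
    {X S : Scheme.{u}} (f : X ⟶ S) [QuasiCompact f] :
    IsClosed (Set.range f) ↔ StableUnderSpecialization (Set.range f) := by
  constructor
  · intro h
    exact h.stableUnderSpecialization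
  · intro H
    rw [← closure_subset_iff_isClosed]
    intro y hy
    obtain ⟨_, ⟨W, hW, rfl⟩, hyW, -⟩ :=
      S.isBasis_affineOpens.exists_subset_of_mem_open (Set.mem_univ y) isOpen_univ
    have hW' : IsAffineOpen W := hW
    have hWc : IsCompact (W : Set S) := hW'.isCompact
    have hpre : IsCompact ((f ⁻¹ᵁ W : X.Opens) : Set X) := f.isCompact_preimage hWc
    obtain ⟨A, k, hk⟩ := isCompact_iff_exists.1 hpre
    have hrange : Set.range (k ≫ f) ⊆ Set.range hW'.fromSpec := by
      rw [hW'.range_fromSpec]
      rintro _ ⟨a, rfl⟩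
      have : k a ∈ ((f ⁻¹ᵁ W : X.Opens) : Set X) := by rw [← hk]; exact ⟨a, rfl⟩
      exact this
    let l := IsOpenImmersion.lift hW'.fromSpec (k ≫ f) hrange
    have hl : l ≫ hW'.fromSpec = k ≫ f := IsOpenImmersion.lift_fac _ _ _
    have hl' : ∀ a, hW'.fromSpec (l a) = f (k a) := by
      intro a
      have := congrArg (fun m => m a) hl
      simpa using this
    have hinj : Function.Injective hW'.fromSpec := hW'.fromSpec.isOpenEmbedding.injective
    have hinter : ∀ z, z ∈ Set.range f → z ∈ (W : Set S) → ∃ a, hW'.fromSpec (l a) = z := by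
      rintro _ ⟨x, rfl⟩ hxW
      have : x ∈ ((f ⁻¹ᵁ W : X.Opens) : Set X) := hxW
      rw [← hk] at this
      obtain ⟨a, rfl⟩ := this
      exact ⟨a, hl' a⟩
    have hCstable : StableUnderSpecialization (Set.range l) := by
      rintro c c' hcc' ⟨a, rfl⟩
      have h1 : hW'.fromSpec (l a) ⤳ hW'.fromSpec c' := hcc'.map hW'.fromSpec.continuous
      have h2 : hW'.fromSpec c' ∈ Set.range f := H h1 (by rw [hl']; exact ⟨_, rfl⟩)
      have h3 : hW'.fromSpec c' ∈ (W : Set S) := by
        rw [← hW'.range_fromSpec]; exact ⟨_, rfl⟩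
      obtain ⟨b, hb⟩ := hinter _ h2 h3
      exact ⟨b, hinj hb⟩
    obtain ⟨φ, hφ⟩ := Spec.homEquiv.symm.surjective l
    have hCclosed : IsClosed (Set.range l) := by
      have hst : StableUnderSpecialization (PrimeSpectrum.comap φ.hom '' Set.univ) := by
        rw [Set.image_univ]
        have : Set.range (PrimeSpectrum.comap φ.hom) = Set.range l := by
          rw [← hφ]; rfl
        rw [this]
        exact hCstable
      have := PrimeSpectrum.isClosed_image_of_stableUnderSpecialization φ.hom Set.univ isClosed_univ hst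
      rw [Set.image_univ] at this
      have h2 : Set.range (PrimeSpectrum.comap φ.hom) = Set.range l := by
        rw [← hφ]; rfl
      rwa [h2] at this
    have hyW' : y ∈ Set.range hW'.fromSpec := by rw [hW'.range_fromSpec]; exact hyW
    obtain ⟨y', rfl⟩ := hyW'
    have hy' : y' ∈ closure (Set.range l) := by
      rw [mem_closure_iff]
      intro U' hU' hy'U'
      have hopen : IsOpen (hW'.fromSpec '' U') := hW'.fromSpec.isOpenEmbedding.isOpenMap U' hU'
      obtain ⟨z, ⟨u', hu', rfl⟩, hzf⟩ := mem_closure_iff.1 hy _ hopen ⟨y', hy'U', rfl⟩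
      have h3 : hW'.fromSpec u' ∈ (W : Set S) := by
        rw [← hW'.range_fromSpec]; exact ⟨_, rfl⟩
      obtain ⟨b, hb⟩ := hinter _ hzf h3
      exact ⟨u', hu', b, hinj hb⟩
    rw [hCclosed.closure_eq] at hy'
    obtain ⟨a, rfl⟩ := hy'
    rw [hl']
    exact ⟨_, rfl⟩

end Groth.Agent.S9495
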