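import Groth.Statements.S9509
import Mathlib

set_option autoImplicit false
universe u
open SchMor

namespace Groth.Agent.S9509

open AlgebraicGeometry in
open CategoryTheory in
/-- (3) ⇒ (1): Let f : X → S be a morphism of schemes. Suppose S is covered by affine opens W_i, each
preimage f⁻¹(W_i) is covered by affine opens V_{i,j}, and any two V_{i,j}, V_{i,j'} with the same
index i meet in a quasi-compact open (one covered by finitely many affine opens). Then f is
quasi-separated. -/
theorem result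
    {X S : Scheme.{u}} (f : X ⟶ S) {ι : Type u} (W : ι → S.affineOpens)
    (hW : ⨆ i, (W i : S.Opens) = ⊤) {κ : ι → Type u} (V : ∀ i, κ i → X.affineOpens)
    (hV : ∀ i, ⨆ j, (V i j : X.Opens) = f ⁻¹ᵁ (W i : S.Opens))
    (hVV : ∀ i (j j' : κ i), IsCompact ((V i j : Set X) ∩ (V i j' : Set X))) :
    QuasiSeparated f := by
  apply IsZariskiLocalAtTarget.of_iSup_eq_top (P := @QuasiSeparated) (fun i => (W i : S.Opens)) hW
  intro i
  haveI : IsAffine (W i : S.Opens).toScheme := (W i).2
  rw [HasAffineProperty.iff_of_isAffine (P := @QuasiSeparated)]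
  let Y : X.Opens := f ⁻¹ᵁ (W i : S.Opens)
  change QuasiSeparatedSpace ↥Y
  let U' : κ i → Y.toScheme.Opens := fun j => Y.ι ⁻¹ᵁ (V i j : X.Opens)
  have hle : ∀ j, (V i j : X.Opens) ≤ Y := fun j => by
    change (V i j : X.Opens) ≤ f ⁻¹ᵁ (W i : S.Opens)
    rw [← hV i]; exact le_iSup (fun j => (V i j : X.Opens)) j
  apply Scheme.quasiSeparatedSpace_of_isOpenCover U'
  · apply TopologicalSpace.IsOpenCover.mk
    rw [eq_top_iff]
    intro x _
    have hx : (Y.ι.base x) ∈ (⨆ j, (V i j : X.Opens)) := by rw [hV i]; exact x.2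
    obtain ⟨j, hj⟩ := TopologicalSpace.Opens.mem_iSup.mp hx
    exact TopologicalSpace.Opens.mem_iSup.mpr ⟨j, hj⟩
  · intro j
    exact (V i j).2.preimage_of_isOpenImmersion Y.ι (by rw [Scheme.Opens.opensRange_ι]; exact hle j)
  · intro j j'
    have : ((U' j : Set Y.toScheme) ∩ (U' j' : Set Y.toScheme)) =
        Y.ι.base ⁻¹' ((V i j : Set X) ∩ (V i j' : Set X)) := rfl
    rw [this]
    apply Y.ι.isOpenEmbedding.isInducing.isCompact_preimage' (hVV i j j')
    intro x hx
    rw [Scheme.Opens.range_ι]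
    exact hle j hx.1

end Groth.Agent.S9509
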