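import Groth.Statements.S9510
import Mathlib

set_option autoImplicit false
universe u
open SchMor

namespace Groth.Agent.S9510

open AlgebraicGeometry in
open CategoryTheory in
/-- Let X be a scheme, X = ⋃ U_i an affine open covering and V ⊆ X an affine open. Then there is a
standard open covering V = D(f_1) ∪ … ∪ D(f_m), with f_1, …, f_m sections of O_X over V, such that
each D(f_j) is also a standard open D(g) of one of the U_i (g a section over that U_i). -/
theorem result
    (X : Scheme.{u}) {ι : Type u} (U : ι → X.affineOpens) (hU : ⨆ i, (U i : X.Opens) = ⊤)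
    (V : X.affineOpens) :
    ∃ s : Finset Γ(X, (V : X.Opens)),
      (⨆ f ∈ s, X.basicOpen f) = (V : X.Opens) ∧
        ∀ f ∈ s, ∃ (i : ι) (g : Γ(X, (U i : X.Opens))), X.basicOpen f = X.basicOpen g := by
  classical
  have hex : ∀ x : (V : X.Opens), ∃ (i : ι) (r : Γ(X, (V : X.Opens))) (rU : Γ(X, (U i : X.Opens))),
      X.basicOpen r = X.basicOpen rU ∧ x.1 ∈ X.basicOpen r := by
    intro ⟨x, hxV⟩
    obtain ⟨i, hi⟩ := TopologicalSpace.Opens.mem_iSup.mp (hU.ge (Set.mem_univ x))
    exact ⟨i, exists_basicOpen_le_affine_inter V.2 (U i).2 _ ⟨hxV, hi⟩⟩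
  choose i r rU e hxr using hex
  have hspan : Ideal.span (Set.range r) = ⊤ := by
    rw [← V.2.self_le_iSup_basicOpen_iff]
    exact fun x hxV ↦ TopologicalSpace.Opens.mem_iSup.mpr ⟨⟨_, _, rfl⟩, hxr ⟨x, hxV⟩⟩
  obtain ⟨s, hs, hs'⟩ := (Ideal.span_eq_top_iff_finite _).mp hspan
  refine ⟨s, ?_, ?_⟩
  · have := (V.2.iSup_basicOpen_eq_self_iff (s := (s : Set Γ(X, (V : X.Opens))))).mpr hs'
    refine Eq.trans ?_ this
    apply le_antisymm
    · refine iSup₂_le fun f hf => ?_
      exact le_iSup (fun f : (s : Set Γ(X, (V : X.Opens))) => X.basicOpen (f : Γ(X, (V : X.Opens)))) ⟨f, hf⟩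
    · refine iSup_le fun f => ?_
      exact le_iSup₂ (f := fun f (_ : f ∈ s) => X.basicOpen f) f.1 f.2
  · intro f hf
    obtain ⟨x, rfl⟩ := hs hf
    exact ⟨i x, rU x, e x⟩

end Groth.Agent.S9510
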