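import Groth.Statements.S9512
import Mathlib

set_option autoImplicit false
universe u
open LRSImm

namespace Groth.Agent.S9512

open AlgebraicGeometry in
open CategoryTheory Opposite in
/-- Let X be a locally ringed space, Y = Spec R an affine scheme and f : X → Y a morphism of locally
ringed spaces. Given a point x of X, the image f(x) is the prime of R obtained as the inverse image
of the maximal ideal of O_{X,x} under the composite R = Γ(Y, O_Y) → Γ(X, O_X) → O_{X,x}. -/
theorem result
    (X : LocallyRingedSpace.{u}) (R : CommRingCat.{u})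
    (f : X ⟶ (Spec R).toLocallyRingedSpace) (x : X.toTopCat) :
    f.base x = PrimeSpectrum.comap
      ((Scheme.ΓSpecIso R).inv ≫ f.c.app (op ⊤) ≫ X.presheaf.germ ⊤ x trivial).hom
      (IsLocalRing.closedPoint (X.presheaf.stalk x)) := by
  apply PrimeSpectrum.ext
  ext r
  have key : r ∉ (f.base x).asIdeal ↔
      IsUnit ((X.presheaf.germ ⊤ x trivial).hom ((f.c.app (op ⊤)).hom
        ((Scheme.ΓSpecIso R).inv.hom r))) := by
    have e := basicOpen_eq_of_affine r
    have h2 := LocallyRingedSpace.preimage_basicOpen f (U := ⊤) ((Scheme.ΓSpecIso R).inv.hom r)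
    have h4 : x ∈ X.toRingedSpace.basicOpen ((f.c.app (op ⊤)).hom ((Scheme.ΓSpecIso R).inv.hom r)) ↔
        IsUnit ((X.presheaf.germ ⊤ x trivial).hom ((f.c.app (op ⊤)).hom
          ((Scheme.ΓSpecIso R).inv.hom r))) :=
      RingedSpace.mem_basicOpen X.toRingedSpace (U := ⊤) _ x (by trivial)
    refine Iff.trans ?_ h4
    have h6 : (((Spec R).basicOpen ((Scheme.ΓSpecIso R).inv.hom r) : (Spec R).Opens) : Set (Spec R)) =
        ((PrimeSpectrum.basicOpen r : TopologicalSpace.Opens (PrimeSpectrum R)) :
          Set (PrimeSpectrum R)) := congrArg (fun U : TopologicalSpace.Opens (PrimeSpectrum R) => (U : Set (PrimeSpectrum R))) e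
    have h7 := Set.ext_iff.1 h6 (f.base x)
    have h8 : x ∈ (TopologicalSpace.Opens.map f.base).obj
        ((Spec R).toLocallyRingedSpace.toRingedSpace.basicOpen
          ((Scheme.ΓSpecIso R).inv.hom r)) ↔
        x ∈ X.toRingedSpace.basicOpen ((f.c.app (op ⊤)).hom ((Scheme.ΓSpecIso R).inv.hom r)) := by
      rw [h2]
    exact Iff.trans h7.symm h8
  rw [← not_iff_not, key]
  change _ ↔ ¬ (_ ∈ IsLocalRing.maximalIdeal _)
  rw [IsLocalRing.mem_maximalIdeal, mem_nonunits_iff, not_not]
  rfl

end Groth.Agent.S9512
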