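import Groth.Statements.S9589
import Mathlib

set_option autoImplicit false
universe u
open CAlg

namespace Groth.Agent.S9589

/-- For a ring R, an R-module M, a multiplicative subset S of R and a prime p of R not meeting S, p is
weakly associated to M if and only if the extended prime p S⁻¹R is weakly associated to the
S⁻¹R-module S⁻¹M. -/
theorem result {R : Type u} [CommRing R] (S : Submonoid R) (M : Type u) [AddCommGroup M] [Module R M] (p : Ideal R) [p.IsPrime] (hS : Disjoint (S : Set R) (p : Set R)) :
    p ∈ FlatCA.weakAss R M ↔ Ideal.map (algebraMap R (Localization S)) p ∈ FlatCA.weakAss (Localization S) (LocalizedModule S M) := by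
  have hannloc : ∀ (m : M) (s : S), (Submodule.span (Localization S) {LocalizedModule.mk m s}).annihilator =
      ((Submodule.span R {m}).annihilator).map (algebraMap R (Localization S)) := by
    intro m s
    ext z
    rw [Submodule.mem_annihilator_span_singleton, IsLocalization.mem_map_algebraMap_iff S]
    obtain ⟨⟨a, t⟩, rfl⟩ := IsLocalization.mk'_surjective S z
    rw [← Localization.mk_eq_mk', LocalizedModule.mk_smul_mk, ← LocalizedModule.zero_mk 1,
      LocalizedModule.mk_eq]
    simp only [smul_zero, one_smul]
    constructor
    · rintro ⟨u, hu⟩
      refine ⟨⟨⟨(u : R) * a, ?_⟩, u * t⟩, ?_⟩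
      · rw [Submodule.mem_annihilator_span_singleton, mul_smul]
        simpa [Submonoid.smul_def] using hu
      · simp only [Localization.mk_eq_mk', Submonoid.coe_mul, map_mul]
        rw [mul_comm (algebraMap R (Localization S) (u : R)), ← mul_assoc, IsLocalization.mk'_spec]
        ring
    · rintro ⟨⟨⟨b, hb⟩, t'⟩, h⟩
      rw [Submodule.mem_annihilator_span_singleton] at hb
      simp only [Localization.mk_eq_mk'] at h
      have h2 : algebraMap R (Localization S) (a * t') = algebraMap R (Localization S) (b * t) := by
        rw [map_mul, map_mul, ← h, mul_assoc, mul_comm (algebraMap R (Localization S) (t' : R)),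
          ← mul_assoc, IsLocalization.mk'_spec]
      obtain ⟨c, hc⟩ := (IsLocalization.eq_iff_exists S (Localization S)).mp h2
      refine ⟨c * t', ?_⟩
      have : ((c * t' : S) : R) • a • m = (c : R) • (t : R) • b • m := by
        simp only [Submonoid.coe_mul, ← mul_smul]
        congr 1
        linear_combination hc
      rw [Submonoid.smul_def, this, hb, smul_zero, smul_zero]
  have hpp : Ideal.under R (Ideal.map (algebraMap R (Localization S)) p) = p :=
    IsLocalization.under_map_of_isPrime_disjoint S (Localization S) ‹p.IsPrime› hS
  constructor
  · rintro ⟨m, hm⟩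
    refine ⟨LocalizedModule.mk m 1, ?_⟩
    rw [hannloc, IsLocalization.minimalPrimes_map S (Localization S), Set.mem_preimage, hpp]
    exact hm
  · rintro ⟨x, hx⟩
    induction x using LocalizedModule.induction_on with
    | h m s =>
      rw [hannloc, IsLocalization.minimalPrimes_map S (Localization S), Set.mem_preimage, hpp] at hx
      exact ⟨m, hx⟩

end Groth.Agent.S9589
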