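import Groth.Statements.S9582
import Mathlib

set_option autoImplicit false
universe u
open CAlg

namespace Groth.Agent.S9582

/-- For a reduced ring R, the primes weakly associated to the R-module R (primes minimal over the
annihilator of some element) are exactly the minimal primes of R. -/
theorem result {R : Type u} [CommRing R] [IsReduced R] :
    FlatCA.weakAss R R = minimalPrimes R := by
  ext p
  constructor
  · rintro ⟨x, hp⟩
    have hpp : p.IsPrime := hp.1.1
    set I := (Submodule.span R {x}).annihilator with hI
    -- step 1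
    have key : ∀ f ∈ p, ∃ s : R, s ∉ p ∧ s * f * x = 0 := by
      intro f hf
      have hrad := IsLocalization.AtPrime.radical_map_of_mem_minimalPrimes
        (A := Localization.AtPrime p) p I hp
      have hmem : algebraMap R (Localization.AtPrime p) f ∈
          (p.map (algebraMap R (Localization.AtPrime p))) := Ideal.mem_map_of_mem _ hf
      rw [← hrad] at hmem
      obtain ⟨n, hn⟩ := hmem
      rw [← map_pow, IsLocalization.mem_map_algebraMap_iff p.primeCompl] at hn
      obtain ⟨⟨⟨a, ha⟩, t⟩, h⟩ := hn
      rw [← map_mul] at h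
      obtain ⟨c, hc⟩ := (IsLocalization.eq_iff_exists p.primeCompl (Localization.AtPrime p)).mp h
      simp only at hc
      have h1 : (c : R) * t * f ^ n ∈ I := by
        have : (c : R) * t * f ^ n = c * a := by rw [← hc]; ring
        rw [this]; exact I.mul_mem_left _ ha
      rw [hI, Submodule.mem_annihilator_span_singleton, smul_eq_mul] at h1
      refine ⟨c * t, (mul_mem c.2 t.2 : (c * t : R) ∈ p.primeCompl), ?_⟩
      have h2 : ((c : R) * t * f * x) ^ (n + 1) = 0 := by
        have : ((c : R) * t * f * x) ^ (n + 1) = ((c : R) * t * f ^ n * x) * ((c * t) ^ n * f * x ^ n) := by ring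
        rw [this, h1, zero_mul]
      exact pow_eq_zero_iff (n.succ_ne_zero) |>.mp h2
    -- step 2
    let T : Submonoid R := p.primeCompl ⊔ Submonoid.powers x
    have hT0 : Disjoint ((⊥ : Ideal R) : Set R) (T : Set R) := by
      rw [Set.disjoint_left]
      intro z hz hzT
      have hz0 : z = 0 := hz
      subst hz0
      obtain ⟨y, hy, w, ⟨k, rfl⟩, hyw⟩ := Submonoid.mem_sup.mp hzT
      have h3 : (y * x) ^ (k + 1) = 0 := by
        have : (y * x) ^ (k + 1) = (y * x ^ k) * (y ^ k * x) := by ring
        rw [this, hyw, zero_mul]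
      have h4 : y * x = 0 := pow_eq_zero_iff (k.succ_ne_zero) |>.mp h3
      have h5 : y ∈ I := by
        rw [hI, Submodule.mem_annihilator_span_singleton, smul_eq_mul]; exact h4
      exact hy (hp.1.2 h5)
    obtain ⟨q, hq, -, hqT⟩ := Ideal.exists_le_prime_disjoint ⊥ T hT0
    obtain ⟨q₀, hq₀, hq₀q⟩ := Ideal.exists_minimalPrimes_le (I := ⊥) (J := q) bot_le
    have hq₀p : q₀ ≤ p := by
      intro z hz
      by_contra hzp
      exact Set.disjoint_left.mp hqT (hq₀q hz) (Submonoid.mem_sup_left hzp)
    have hxq₀ : x ∉ q₀ := fun hx =>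
      Set.disjoint_left.mp hqT (hq₀q hx) (Submonoid.mem_sup_right (Submonoid.mem_powers x))
    have hq₀prime : q₀.IsPrime := hq₀.1.1
    have hpq₀ : p ≤ q₀ := by
      intro f hf
      obtain ⟨s, hs, hsfx⟩ := key f hf
      have h0 : s * f * x ∈ q₀ := by rw [hsfx]; exact zero_mem _
      rcases hq₀prime.mem_or_mem h0 with h | h
      · rcases hq₀prime.mem_or_mem h with h' | h'
        · exact absurd (hq₀p h') hs
        · exact h'
      · exact absurd h hxq₀
    have : p = q₀ := le_antisymm hpq₀ hq₀p
    rw [this]; exact hq₀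
  · intro hp
    refine ⟨1, ?_⟩
    have : (Submodule.span R {(1 : R)}).annihilator = ⊥ := by
      ext r
      rw [Submodule.mem_annihilator_span_singleton]
      simp
    rw [this]; exact hp

end Groth.Agent.S9582
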