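import Groth.Statements.S9586
import Mathlib

set_option autoImplicit false
universe u
open CAlg

namespace Groth.Agent.S9586

/-- For a ring R, an R-module M and a finitely generated prime ideal p of R, p is associated to M (equal
to the annihilator of an element) if and only if p is weakly associated to M (minimal over the
annihilator of an element). -/
theorem result {R : Type u} [CommRing R] (M : Type u) [AddCommGroup M] [Module R M] (p : Ideal R) [p.IsPrime] (hp : p.FG) :
    p ∈ FlatCA.ass R M ↔ p ∈ FlatCA.weakAss R M := by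
  classical
  constructor
  · rintro ⟨_, m, hm⟩
    refine ⟨m, ?_⟩
    rw [← hm, Ideal.minimalPrimes_eq_subsingleton_self]
    rfl
  · rintro ⟨m, hpm⟩
    set I := (Submodule.span R {m}).annihilator with hI
    have key : ∀ f ∈ p, ∃ s : R, s ∉ p ∧ ∃ n : ℕ, s * f ^ n ∈ I := by
      intro f hf
      have hrad := IsLocalization.AtPrime.radical_map_of_mem_minimalPrimes
        (A := Localization.AtPrime p) p I hpm
      have hmem : algebraMap R (Localization.AtPrime p) f ∈
          (p.map (algebraMap R (Localization.AtPrime p))) := Ideal.mem_map_of_mem _ hf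
      rw [← hrad] at hmem
      obtain ⟨n, hn⟩ := hmem
      rw [← map_pow, IsLocalization.mem_map_algebraMap_iff p.primeCompl] at hn
      obtain ⟨⟨⟨a, ha⟩, t⟩, h⟩ := hn
      rw [← map_mul] at h
      obtain ⟨c, hc⟩ := (IsLocalization.eq_iff_exists p.primeCompl (Localization.AtPrime p)).mp h
      simp only at hc
      refine ⟨c * t, (mul_mem c.2 t.2 : (c * t : R) ∈ p.primeCompl), n, ?_⟩
      have : (c : R) * t * f ^ n = c * a := by rw [← hc]; ring
      rw [this]; exact I.mul_mem_left _ ha
    let I' : Ideal R :=
      { carrier := {a | ∃ s : R, s ∉ p ∧ s * a ∈ I}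
        add_mem' := by
          rintro a b ⟨s, hs, hsa⟩ ⟨t, ht, htb⟩
          refine ⟨s * t, fun h => (‹p.IsPrime›.mem_or_mem h).elim hs ht, ?_⟩
          have : s * t * (a + b) = t * (s * a) + s * (t * b) := by ring
          rw [this]
          exact I.add_mem (I.mul_mem_left _ hsa) (I.mul_mem_left _ htb)
        zero_mem' := ⟨1, fun h => ‹p.IsPrime›.ne_top ((Ideal.eq_top_iff_one p).mpr h), by simp⟩
        smul_mem' := by
          rintro c a ⟨s, hs, hsa⟩
          refine ⟨s, hs, ?_⟩
          have : s * (c • a) = c * (s * a) := by simp only [smul_eq_mul]; ring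
          rw [this]; exact I.mul_mem_left _ hsa }
    have hI'mem : ∀ a, a ∈ I' ↔ ∃ s : R, s ∉ p ∧ s * a ∈ I := fun a => Iff.rfl
    have hrad : p ≤ I'.radical := by
      intro f hf
      obtain ⟨s, hs, n, hn⟩ := key f hf
      exact ⟨n, (hI'mem _).mpr ⟨s, hs, hn⟩⟩
    have hex : ∃ N, p ^ N ≤ I' := Ideal.exists_pow_le_of_le_radical_of_fg hrad hp
    have h1I' : (1 : R) ∉ I' := by
      rintro ⟨s, hs, hs1⟩
      rw [mul_one] at hs1
      exact hs (hpm.1.2 hs1)
    have hN0 : Nat.find hex ≠ 0 := by
      intro h0
      have := Nat.find_spec hex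
      rw [h0, pow_zero, Ideal.one_eq_top] at this
      exact h1I' (this Submodule.mem_top)
    obtain ⟨N, hN⟩ := Nat.exists_eq_succ_of_ne_zero hN0
    have hNle : p ^ (N + 1) ≤ I' := by
      have := Nat.find_spec hex
      rw [hN] at this; exact this
    have hNnot : ¬ p ^ N ≤ I' := Nat.find_min hex (by omega)
    rw [SetLike.not_le_iff_exists] at hNnot
    obtain ⟨g, hg, hgI'⟩ := hNnot
    obtain ⟨F, hF⟩ := hp
    have hFg : ∀ f ∈ F, ∃ s : R, s ∉ p ∧ s * (f * g) ∈ I := by
      intro f hf
      have hfp : f ∈ p := hF ▸ Ideal.subset_span hf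
      have : f * g ∈ p ^ (N + 1) := by
        rw [pow_succ']; exact Ideal.mul_mem_mul hfp hg
      exact (hI'mem _).mp (hNle this)
    choose! sf hsf1 hsf2 using hFg
    set s := ∏ f ∈ F, sf f with hs
    have hsp : s ∉ p := by
      rw [hs, Ideal.IsPrime.prod_mem_iff]
      rintro ⟨f, hf, hfp⟩
      exact hsf1 f hf hfp
    have hsF : ∀ f ∈ p, s * (f * g) ∈ I := by
      intro f hf
      rw [← hF] at hf
      induction hf using Submodule.span_induction with
      | mem f hf =>
        rw [hs, ← Finset.mul_prod_erase F sf hf]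
        have : (sf f * ∏ x ∈ F.erase f, sf x) * (f * g) = (∏ x ∈ F.erase f, sf x) * (sf f * (f * g)) := by ring
        rw [this]; exact I.mul_mem_left _ (hsf2 f hf)
      | zero => simp
      | add a b _ _ ha hb =>
        have : s * ((a + b) * g) = s * (a * g) + s * (b * g) := by ring
        rw [this]; exact I.add_mem ha hb
      | smul c a _ ha =>
        have : s * (c • a * g) = c * (s * (a * g)) := by simp only [smul_eq_mul]; ring
        rw [this]; exact I.mul_mem_left _ ha
    refine ⟨‹p.IsPrime›, (s * g) • m, ?_⟩
    ext a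
    rw [Submodule.mem_annihilator_span_singleton]
    constructor
    · intro ha
      have := hsF a ha
      rw [hI, Submodule.mem_annihilator_span_singleton] at this
      rw [← mul_smul]
      have e : a * (s * g) = s * (a * g) := by ring
      rw [e]; exact this
    · intro ha
      by_contra hap
      apply hgI'
      refine (hI'mem _).mpr ⟨a * s, fun h => (‹p.IsPrime›.mem_or_mem h).elim hap hsp, ?_⟩
      rw [hI, Submodule.mem_annihilator_span_singleton]
      rw [← mul_smul] at ha
      have e : a * s * g = a * (s * g) := by ring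
      rw [e]; exact ha

end Groth.Agent.S9586
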