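import Groth.Statements.S9590
import Mathlib
import Groth.Agent.S9585
import Groth.Agent.S9588
import Groth.Agent.S9589

set_option autoImplicit false
universe u
open CAlg

namespace Groth.Agent.S9590

/-- For a ring R, an R-module M and a multiplicative subset S of R such that every element of S is a
nonzerodivisor on M, the primes of R weakly associated to M are the same as those weakly associated
to the R-module S⁻¹M. -/
theorem result {R : Type u} [CommRing R] (S : Submonoid R) (M : Type u) [AddCommGroup M] [Module R M] (hS : ∀ s ∈ S, IsSMulRegular M s) :
    FlatCA.weakAss R M = FlatCA.weakAss R (LocalizedModule S M) := by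
  rw [Groth.Agent.S9588.result S M]
  ext p
  constructor
  · intro hp
    have hpp : p.IsPrime := by
      obtain ⟨m, hm⟩ := hp
      exact hm.1.1
    have hdisj : Disjoint (S : Set R) (p : Set R) := by
      rw [Set.disjoint_left]
      intro s hs hsp
      have : s ∈ ⋃ q ∈ FlatCA.weakAss R M, (q : Set R) := Set.mem_biUnion hp hsp
      rw [Groth.Agent.S9585.result M] at this
      exact this (hS s hs)
    refine ⟨Ideal.map (algebraMap R (Localization S)) p,
      (Groth.Agent.S9589.result S M p hdisj).mp hp, ?_⟩
    exact IsLocalization.under_map_of_isPrime_disjoint S (Localization S) hpp hdisj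
  · rintro ⟨q, hq, rfl⟩
    have hqp : q.IsPrime := by
      obtain ⟨m, hm⟩ := hq
      exact hm.1.1
    have hdisj : Disjoint (S : Set R) ((q.comap (algebraMap R (Localization S)) : Ideal R) : Set R) :=
      ((IsLocalization.isPrime_iff_isPrime_disjoint S (Localization S) q).mp hqp).2
    have hcp : (q.comap (algebraMap R (Localization S))).IsPrime := Ideal.comap_isPrime _ _
    rw [Groth.Agent.S9589.result S M _ hdisj, IsLocalization.map_comap S (Localization S)]
    exact hq

end Groth.Agent.S9590
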