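import Groth.Statements.S9594
import Mathlib

set_option autoImplicit false
universe u
open CAlg

namespace Groth.Agent.S9594

/-- For a ring R, an R-module M and a multiplicative subset S of R, (1) the primes of R associated to
the R-module S⁻¹M are the inverse images of the primes of S⁻¹R associated to S⁻¹M, and (2) a prime
of R associated to M which does not meet S is associated to the R-module S⁻¹M. Here a prime is
associated to a module when it equals the annihilator of some element. -/
theorem result {R : Type u} [CommRing R] (S : Submonoid R) (M : Type u) [AddCommGroup M] [Module R M] :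
    FlatCA.ass R (LocalizedModule S M) = Ideal.comap (algebraMap R (Localization S)) '' FlatCA.ass (Localization S) (LocalizedModule S M) ∧
      ∀ p ∈ FlatCA.ass R M, Disjoint (S : Set R) (p : Set R) → p ∈ FlatCA.ass R (LocalizedModule S M) := by
  have hann : ∀ x : LocalizedModule S M, (Submodule.span R {x}).annihilator =
      ((Submodule.span (Localization S) {x}).annihilator).comap (algebraMap R (Localization S)) := by
    intro x
    ext r
    simp only [Ideal.mem_comap, Submodule.mem_annihilator_span_singleton]
    rw [algebraMap_smul]
  constructor
  · ext p
    constructor
    · rintro ⟨hp, x, rfl⟩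
      refine ⟨(Submodule.span (Localization S) {x}).annihilator, ⟨?_, x, rfl⟩, (hann x).symm⟩
      have hdisj : Disjoint (S : Set R) ((Submodule.span R {x}).annihilator : Set R) := by
        rw [Set.disjoint_left]
        intro s hs hsx
        rw [SetLike.mem_coe, Submodule.mem_annihilator_span_singleton] at hsx
        have hx0 : x = 0 := by
          have hu : IsUnit (algebraMap R (Module.End R (LocalizedModule S M)) s) :=
            IsLocalizedModule.map_units (LocalizedModule.mkLinearMap S M) ⟨s, hs⟩
          have hinj := ((Module.End.isUnit_iff _).mp hu).injective
          apply hinj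
          simpa using hsx
        apply hp.ne_top
        rw [hx0]
        ext r
        rw [Submodule.mem_annihilator_span_singleton]
        simp
      have := IsLocalization.isPrime_of_isPrime_disjoint S (Localization S) _ hp hdisj
      rw [hann x, IsLocalization.map_comap S (Localization S)] at this
      exact this
    · rintro ⟨q, ⟨hq, x, rfl⟩, rfl⟩
      exact ⟨Ideal.comap_isPrime _ _, x, (hann x).symm⟩
  · rintro p ⟨hp, m, rfl⟩ hdisj
    refine ⟨hp, LocalizedModule.mk m 1, ?_⟩
    ext r
    rw [Submodule.mem_annihilator_span_singleton, Submodule.mem_annihilator_span_singleton,
      LocalizedModule.smul'_mk, ← LocalizedModule.zero_mk 1, LocalizedModule.mk_eq]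
    simp only [one_smul, smul_zero]
    constructor
    · intro h
      exact ⟨1, by simp [h]⟩
    · rintro ⟨u, hu⟩
      rw [Submonoid.smul_def, ← mul_smul] at hu
      have h1 : (u : R) * r ∈ (Submodule.span R {m}).annihilator := by
        rw [Submodule.mem_annihilator_span_singleton]; exact hu
      rcases hp.mem_or_mem h1 with h | h
      · exact absurd h (Set.disjoint_left.mp hdisj u.2)
      · rwa [Submodule.mem_annihilator_span_singleton] at h

end Groth.Agent.S9594
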