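import Groth.Statements.S9595
import Mathlib
import Groth.Agent.S9594

set_option autoImplicit false
universe u
open CAlg

namespace Groth.Agent.S9595

/-- For a ring R, an R-module M and a multiplicative subset S of R whose elements are all
nonzerodivisors on M, a prime of R is the annihilator of an element of M if and only if it is the
annihilator in R of an element of S⁻¹M. -/
theorem result {R : Type u} [CommRing R] (S : Submonoid R) (M : Type u) [AddCommGroup M] [Module R M] (hS : ∀ s ∈ S, IsSMulRegular M s) :
    FlatCA.ass R M = FlatCA.ass R (LocalizedModule S M) := by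
  ext p
  constructor
  · intro hp
    refine (Groth.Agent.S9594.result S M).2 p hp ?_
    obtain ⟨hpp, m, rfl⟩ := hp
    rw [Set.disjoint_left]
    intro s hs hsm
    rw [SetLike.mem_coe, Submodule.mem_annihilator_span_singleton] at hsm
    have hm0 : m = 0 := hS s hs (show s • m = s • (0 : M) by rw [hsm, smul_zero])
    apply hpp.ne_top
    rw [hm0]
    ext r
    rw [Submodule.mem_annihilator_span_singleton]
    simp
  · rintro ⟨hpp, x, rfl⟩
    induction x using LocalizedModule.induction_on with
    | h m s =>
      refine ⟨hpp, m, ?_⟩
      ext r
      rw [Submodule.mem_annihilator_span_singleton, Submodule.mem_annihilator_span_singleton,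
        LocalizedModule.smul'_mk, ← LocalizedModule.zero_mk s, LocalizedModule.mk_eq]
      simp only [smul_zero]
      constructor
      · rintro ⟨u, hu⟩
        have h2 : (u : R) • ((s : R) • (r • m)) = 0 := by
          simpa [Submonoid.smul_def] using hu
        have h3 : (s : R) • (r • m) = 0 :=
          hS u u.2 (show (u : R) • ((s : R) • (r • m)) = (u : R) • (0 : M) by rw [h2, smul_zero])
        exact hS s s.2 (show (s : R) • (r • m) = (s : R) • (0 : M) by rw [h3, smul_zero])
      · intro h
        exact ⟨1, by simp [h]⟩

end Groth.Agent.S9595
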