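import Groth.Statements.S9596
import Mathlib

set_option autoImplicit false
universe u
open CAlg

namespace Groth.Agent.S9596

/-- For a Noetherian ring R and any R-module M, a prime which is minimal among the primes in the support
of M is an associated prime of M. -/
theorem result {R : Type u} [CommRing R] [IsNoetherianRing R] (M : Type u) [AddCommGroup M] [Module R M] (p : PrimeSpectrum R) (hp : Minimal (fun q : PrimeSpectrum R => q ∈ Module.support R M) p) :
    p.asIdeal ∈ associatedPrimes R M := by
  have hpS : p ∈ Module.support R M := hp.prop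
  have : Nontrivial (LocalizedModule p.asIdeal.primeCompl M) := hpS
  let Rₚ := Localization.AtPrime p.asIdeal
  rcases associatedPrimes.nonempty Rₚ (LocalizedModule p.asIdeal.primeCompl M) with ⟨q, hq⟩
  have q_prime : q.IsPrime := IsAssociatedPrime.isPrime hq
  rw [← Module.associatedPrimes.preimage_comap_associatedPrimes_eq_associatedPrimes_of_isLocalizedModule
    p.asIdeal.primeCompl Rₚ (LocalizedModule.mkLinearMap p.asIdeal.primeCompl M), Set.mem_preimage] at hq
  have le : Ideal.comap (algebraMap R Rₚ) q ≤ p.asIdeal := by
    have := (IsLocalization.disjoint_under_iff p.asIdeal.primeCompl Rₚ q).mpr q_prime.ne_top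
    simpa only [Ideal.primeCompl, Submonoid.coe_set_mk, Subsemigroup.coe_set_mk,
      Set.disjoint_compl_left_iff_subset] using! this
  have hqp : (Ideal.comap (algebraMap R Rₚ) q).IsPrime := hq.isPrime
  have hsupp : (⟨Ideal.comap (algebraMap R Rₚ) q, hqp⟩ : PrimeSpectrum R) ∈ Module.support R M := by
    rw [Module.mem_support_iff_exists_annihilator]
    obtain ⟨x, hx⟩ := hq.2
    refine ⟨x, ?_⟩
    show _ ≤ Ideal.comap (algebraMap R Rₚ) q
    rw [hx]
    intro r hr
    apply Ideal.le_radical
    rw [Submodule.mem_annihilator_span_singleton] at hr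
    simp [Submodule.mem_colon_singleton, hr]
  have heq := hp.eq_of_le hsupp le
  rw [← heq]
  exact hq

end Groth.Agent.S9596
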