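import Groth.Statements.S9597
import Mathlib

set_option autoImplicit false
universe u
open CAlg

namespace Groth.Agent.S9597

/-- Let R be a Noetherian ring, M a finite R-module whose associated primes are pairwise incomparable
under inclusion (M has no embedded associated primes), and I the annihilator of M. Then the
associated primes of R/I, viewed as a module over itself, are again pairwise incomparable: R/I has
no embedded primes either. -/
theorem result {R : Type u} [CommRing R] [IsNoetherianRing R] (M : Type u) [AddCommGroup M] [Module R M] [Module.Finite R M] (hM : ∀ p ∈ associatedPrimes R M, ∀ q ∈ associatedPrimes R M, p ≤ q → p = q) :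
    ∀ p ∈ associatedPrimes (R ⧸ Module.annihilator R M) (R ⧸ Module.annihilator R M), ∀ q ∈ associatedPrimes (R ⧸ Module.annihilator R M) (R ⧸ Module.annihilator R M), p ≤ q → p = q := by
  classical
  set I := Module.annihilator R M with hI
  obtain ⟨s, hs⟩ := (Module.Finite.fg_top : (⊤ : Submodule R M).FG)
  -- comap of an associated prime of R/I (over R/I) is an associated prime of M
  have key : ∀ p ∈ associatedPrimes (R ⧸ I) (R ⧸ I), p.comap (Ideal.Quotient.mk I) ∈ associatedPrimes R M := by
    intro p hp
    rw [AssociatedPrimes.mem_iff, isAssociatedPrime_iff] at hp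
    obtain ⟨hpp, x, hx⟩ := hp
    obtain ⟨r, rfl⟩ := Ideal.Quotient.mk_surjective x
    have hP : (p.comap (Ideal.Quotient.mk I)).IsPrime := Ideal.comap_isPrime _ _
    have hmem : ∀ a : R, a ∈ p.comap (Ideal.Quotient.mk I) ↔ ∀ m ∈ s, a ∈ (Submodule.span R {r • m}).annihilator := by
      intro a
      rw [Ideal.mem_comap, hx, Submodule.mem_colon_singleton, smul_eq_mul, ← map_mul, Submodule.mem_bot,
        Ideal.Quotient.eq_zero_iff_mem, hI, Module.mem_annihilator]
      constructor
      · intro h m _
        rw [Submodule.mem_annihilator_span_singleton, ← mul_smul]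
        exact h m
      · intro h m
        have hm : m ∈ Submodule.span R (s : Set M) := hs ▸ Submodule.mem_top
        induction hm using Submodule.span_induction with
        | mem m hm =>
          have := h m hm
          rwa [Submodule.mem_annihilator_span_singleton, ← mul_smul] at this
        | zero => simp
        | add a b _ _ ha hb => rw [smul_add, ha, hb, add_zero]
        | smul c a _ ha => rw [smul_comm, ha, smul_zero]
    have hinf : s.inf (fun m => (Submodule.span R {r • m}).annihilator) ≤ p.comap (Ideal.Quotient.mk I) := by
      intro a ha
      rw [hmem]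
      intro m hm
      exact (Finset.inf_le hm : s.inf (fun m => (Submodule.span R {r • m}).annihilator) ≤ _) ha
    obtain ⟨m, hm, hle⟩ := hP.inf_le'.mp hinf
    rw [AssociatedPrimes.mem_iff, isAssociatedPrime_iff]
    refine ⟨hP, r • m, ?_⟩
    rw [Submodule.bot_colon']
    apply le_antisymm
    · intro a ha
      exact (hmem a).mp ha m hm
    · exact hle
  intro p hp q hq hpq
  have h1 := key p hp
  have h2 := key q hq
  have h3 := hM _ h1 _ h2 (Ideal.comap_mono hpq)
  exact Ideal.comap_injective_of_surjective _ Ideal.Quotient.mk_surjective h3

end Groth.Agent.S9597
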