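import Groth.Statements.S9598
import Mathlib

set_option autoImplicit false
universe u
open CAlg

namespace Groth.Agent.S9598

/-- For a field k and a finite type k-algebra S with dim S > 0, some element of S is a nonzerodivisor
and a nonunit. -/
theorem result {k S : Type u} [Field k] [CommRing S] [Algebra k S] [Algebra.FiniteType k S] (hdim : 0 < ringKrullDim S) :
    ∃ f : S, f ∈ nonZeroDivisors S ∧ ¬ IsUnit f := by
  classical
  have : IsNoetherianRing S := Algebra.FiniteType.isNoetherianRing k S
  have : IsJacobsonRing S := isJacobsonRing_of_finiteType (A := k)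
  by_contra hcon
  push Not at hcon
  have hfin := associatedPrimes.finite S S
  have hmax : ∀ m : Ideal S, m.IsMaximal → m ∈ associatedPrimes S S := by
    intro m hm
    have hsub : (m : Set S) ⊆ ⋃ p ∈ (↑hfin.toFinset : Set (Ideal S)), (id p : Ideal S) := by
      intro f hf
      have hnu : ¬ IsUnit f := fun hu => hm.ne_top (Ideal.eq_top_of_isUnit_mem _ hf hu)
      have h1 : f ∉ nonZeroDivisors S := fun h => hnu (hcon f h)
      have h2 : f ∈ ((nonZeroDivisors S : Set S))ᶜ := h1
      rw [← biUnion_associatedPrimes_eq_compl_nonZeroDivisors] at h2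
      simpa using h2
    rw [Ideal.subset_union_prime (R := S) (s := hfin.toFinset) (f := id) ⊥ ⊥] at hsub
    · obtain ⟨p, hp, hle⟩ := hsub
      have hpA : p ∈ associatedPrimes S S := by simpa using hp
      have hpp : p.IsPrime := IsAssociatedPrime.isPrime (show IsAssociatedPrime p S from hpA)
      have : m = p := hm.eq_of_le hpp.ne_top hle
      rw [this]; exact hpA
    · intro q hq _ _
      exact IsAssociatedPrime.isPrime (show IsAssociatedPrime q S from (by simpa using hq : q ∈ associatedPrimes S S))
  have hdim0 : Ring.KrullDimLE 0 S := by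
    rw [Ring.krullDimLE_zero_iff]
    intro P hP
    have hJ : P.jacobson = P := (isJacobsonRing_iff.mp ‹IsJacobsonRing S›) P hP.isRadical
    have hTfin : {J : Ideal S | P ≤ J ∧ J.IsMaximal}.Finite :=
      hfin.subset (fun J hJ => hmax J hJ.2)
    have hinf : hTfin.toFinset.inf id ≤ P := by
      intro x hx
      rw [← hJ, Ideal.jacobson, Ideal.mem_sInf]
      intro J hJm
      have : hTfin.toFinset.inf id ≤ J := Finset.inf_le (f := id) (by simpa using hJm)
      exact this hx
    obtain ⟨J, hJ1, hJP⟩ := hP.inf_le'.mp hinf
    have hJ2 : P ≤ J ∧ J.IsMaximal := by simpa using hJ1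
    have : P = J := le_antisymm hJ2.1 hJP
    rw [this]; exact hJ2.2
  rw [Ring.krullDimLE_iff] at hdim0
  exact absurd hdim0 (not_le.mpr (by simpa using hdim))

end Groth.Agent.S9598
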