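import Groth.Statements.S9600
import Mathlib
import Groth.Agent.Lib.helper5.AdicExact

set_option autoImplicit false
universe u
open CAlg

namespace Groth.Agent.S9600

/-- Let R be a ring, I an ideal of R and 0 → M → N → Q → 0 a short exact sequence of R-modules in which
Q is killed by some power I^c of I. Then on I-adic completions the map M^ → N^ is injective, N^ → Q^
is surjective with kernel equal to the image of M^, and the canonical map Q → Q^ is bijective; so 0
→ M^ → N^ → Q → 0 is again short exact. -/
theorem result {R : Type u} [CommRing R] (I : Ideal R) {M N Q : Type u} [AddCommGroup M] [Module R M] [AddCommGroup N] [Module R N] [AddCommGroup Q] [Module R Q] (i : M →ₗ[R] N) (g : N →ₗ[R] Q) (hi : Function.Injective i) (hg : Function.Surjective g) (hig : Function.Exact i g) (c : ℕ) (hc : ∀ x ∈ I ^ c, ∀ q : Q, x • q = 0) :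
    Function.Injective (AdicCompletion.map I i) ∧ Function.Exact (AdicCompletion.map I i) (AdicCompletion.map I g) ∧ Function.Surjective (AdicCompletion.map I g) ∧ Function.Bijective (AdicCompletion.of I Q) := by
  have hQ : (I ^ c • ⊤ : Submodule R Q) = ⊥ := by
    rw [eq_bot_iff, Submodule.smul_le]
    intro r hr q _
    rw [Submodule.mem_bot]; exact hc r hr q
  have hrange : (I ^ c • ⊤ : Submodule R N) ≤ LinearMap.range i := by
    rw [Submodule.smul_le]
    intro r hr n _
    rw [← (LinearMap.exact_iff.mp hig)]
    rw [LinearMap.mem_ker, map_smul]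
    exact hc r hr _
  have hstrict : ∀ (n : ℕ) (m : M), i m ∈ (I ^ (n + c) • ⊤ : Submodule R N) →
      m ∈ (I ^ n • ⊤ : Submodule R M) := by
    intro n m hm
    have h1 : (I ^ (n + c) • ⊤ : Submodule R N) ≤ Submodule.map i (I ^ n • ⊤ : Submodule R M) := by
      rw [Submodule.map_smul'', Submodule.map_top, pow_add, Submodule.mul_smul]
      exact Submodule.smul_mono le_rfl hrange
    obtain ⟨m', hm', hmm'⟩ := h1 hm
    rwa [← hi hmm']
  refine ⟨H5_adic_map_injective_of_shift I i c hstrict,
    H5_adic_map_exact_of_shift I i g hig hg c hstrict,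
    AdicCompletion.map_surjective I hg, ?_⟩
  have hcomplete : IsAdicComplete I Q := by
    have hH : IsHausdorff I Q := ⟨fun x hx => by
      have := hx c
      rw [SModEq.zero, hQ, Submodule.mem_bot] at this
      exact this⟩
    have hP : IsPrecomplete I Q := ⟨fun f hf => ⟨f c, fun n => by
      rcases le_total n c with hnc | hcn
      · exact hf hnc
      · have := hf hcn
        rw [hQ, SModEq.bot] at this
        rw [this]⟩⟩
    exact { toIsHausdorff := hH, toIsPrecomplete := hP }
  exact AdicCompletion.of_bijective I Q

end Groth.Agent.S9600
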