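import Groth.Statements.S9601
import Mathlib

set_option autoImplicit false
universe u
open CAlg

namespace Groth.Agent.S9601

/-- For a ring R, an ideal I of R and an R-module M, let M^ be the I-adic completion and K_n the kernel
of the projection M^ → M/IⁿM. The completion M^ is I-adically complete exactly when K_n = Iⁿ M^
holds for every n ≥ 1. -/
theorem result {R : Type u} [CommRing R] (I : Ideal R) (M : Type u) [AddCommGroup M] [Module R M] :
    IsAdicComplete I (AdicCompletion I M) ↔ ∀ n : ℕ, 1 ≤ n → LinearMap.ker (AdicCompletion.eval I M n) = I ^ n • (⊤ : Submodule R (AdicCompletion I M)) := by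
  classical
  have h0 : ∀ n, (I ^ n • ⊤ : Submodule R (AdicCompletion I M)) ≤
      LinearMap.ker (AdicCompletion.eval I M n) :=
    fun n => AdicCompletion.pow_smul_top_le_ker_eval I n
  have hmonoK : ∀ {a b : ℕ}, b ≤ a → LinearMap.ker (AdicCompletion.eval I M a) ≤
      LinearMap.ker (AdicCompletion.eval I M b) := by
    intro a b hab x hx
    rw [LinearMap.mem_ker, AdicCompletion.eval_apply] at hx ⊢
    rw [← AdicCompletion.transitionMap_comp_eval_apply I M hab x, hx, map_zero]
  have hof : ∀ (k : ℕ) (m : M), m ∈ (I ^ k • ⊤ : Submodule R M) →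
      AdicCompletion.of I M m ∈ (I ^ k • ⊤ : Submodule R (AdicCompletion I M)) := by
    intro k m hm
    refine Submodule.smul_induction_on hm ?_ ?_
    · intro r hr m' _
      rw [map_smul]; exact Submodule.smul_mem_smul hr Submodule.mem_top
    · intro a b ha hb
      rw [map_add]; exact Submodule.add_mem _ ha hb
  have hstep : ∀ (k : ℕ) (z : AdicCompletion I M),
      z ∈ LinearMap.ker (AdicCompletion.eval I M k) →
      ∃ y ∈ (I ^ k • ⊤ : Submodule R (AdicCompletion I M)),
        z - y ∈ LinearMap.ker (AdicCompletion.eval I M (k + 1)) := by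
    intro k z hz
    obtain ⟨m, hm⟩ := Submodule.mkQ_surjective _ (z.val (k + 1))
    have hmk : m ∈ (I ^ k • ⊤ : Submodule R M) := by
      rw [LinearMap.mem_ker, AdicCompletion.eval_apply] at hz
      have h1 := AdicCompletion.transitionMap_comp_eval_apply I M (Nat.le_succ k) z
      rw [← hm, hz] at h1
      have h2 : AdicCompletion.transitionMap I M (Nat.le_succ k) (Submodule.mkQ _ m) =
          Submodule.mkQ (I ^ k • ⊤ : Submodule R M) m := rfl
      rw [h2] at h1
      exact (Submodule.Quotient.mk_eq_zero _).mp h1
    refine ⟨AdicCompletion.of I M m, hof k m hmk, ?_⟩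
    rw [LinearMap.mem_ker, AdicCompletion.eval_apply, AdicCompletion.val_sub_apply,
      AdicCompletion.of_apply, hm, sub_self]
  constructor
  · intro hc n _
    refine le_antisymm ?_ (h0 n)
    intro x hx
    choose! Y hY1 hY2 using hstep
    let z : ℕ → AdicCompletion I M := fun j => Nat.rec x (fun j zj => zj - Y (n + j) zj) j
    have hz : ∀ j, z j ∈ LinearMap.ker (AdicCompletion.eval I M (n + j)) := by
      intro j; induction j with
      | zero => exact hx
      | succ j ih => exact hY2 (n + j) (z j) ih
    let y : ℕ → AdicCompletion I M := fun j => Y (n + j) (z j)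
    have hy : ∀ j, y j ∈ (I ^ (n + j) • ⊤ : Submodule R (AdicCompletion I M)) :=
      fun j => hY1 _ _ (hz j)
    have hzs : ∀ j, z (j + 1) = z j - y j := fun j => rfl
    let s : ℕ → AdicCompletion I M := fun m => ∑ j ∈ Finset.range m, y j
    have hxs : ∀ m, x - s m = z m := by
      intro m; induction m with
      | zero => simp [s, z]
      | succ m ih => rw [hzs, ← ih]; simp only [s, Finset.sum_range_succ]; abel
    have hpowmono : ∀ {a b : ℕ}, a ≤ b → (I ^ b • ⊤ : Submodule R (AdicCompletion I M)) ≤
        I ^ a • ⊤ := fun h => Submodule.smul_mono_left (Ideal.pow_le_pow_right h)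
    have hs_diff : ∀ m d, s (m + d) - s m ∈
        (I ^ (n + m) • ⊤ : Submodule R (AdicCompletion I M)) := by
      intro m d
      induction d with
      | zero => simp
      | succ d ih =>
        have : s (m + (d + 1)) - s m = (s (m + d) - s m) + y (m + d) := by
          simp only [s, ← add_assoc, Finset.sum_range_succ]; abel
        rw [this]
        exact Submodule.add_mem _ ih (hpowmono (by omega) (hy (m + d)))
    obtain ⟨L, hL⟩ := hc.toIsPrecomplete.prec' s (by
      intro m m' hmm'
      obtain ⟨d, rfl⟩ := Nat.exists_eq_add_of_le hmm'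
      rw [SModEq.sub_mem]
      have := hs_diff m d
      rw [← neg_sub]; exact Submodule.neg_mem _ (hpowmono (by omega) this))
    have hxL : x = L := by
      apply AdicCompletion.ext
      intro m
      have h1 : x - L = z m + (s m - L) := by rw [← hxs m]; abel
      have h2 : x - L ∈ LinearMap.ker (AdicCompletion.eval I M m) := by
        rw [h1]
        refine Submodule.add_mem _ (hmonoK (by omega) (hz m)) (h0 m ?_)
        exact (SModEq.sub_mem).mp (hL m)
      rw [LinearMap.mem_ker, AdicCompletion.eval_apply, AdicCompletion.val_sub_apply,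
        sub_eq_zero] at h2
      exact h2
    rw [hxL]
    have h3 : L - s n ∈ (I ^ n • ⊤ : Submodule R (AdicCompletion I M)) := by
      have := (SModEq.sub_mem).mp (hL n)
      rw [← neg_sub]; exact Submodule.neg_mem _ this
    have h4 : s n ∈ (I ^ n • ⊤ : Submodule R (AdicCompletion I M)) :=
      Submodule.sum_mem _ fun j _ => hpowmono (by omega) (hy j)
    have : L = (L - s n) + s n := by abel
    rw [this]; exact Submodule.add_mem _ h3 h4
  · intro hK
    have hK' : ∀ n, (I ^ n • ⊤ : Submodule R (AdicCompletion I M)) =
        LinearMap.ker (AdicCompletion.eval I M n) := by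
      intro n
      rcases Nat.eq_zero_or_pos n with rfl | hn
      · refine le_antisymm (h0 0) ?_
        have htop : (I ^ 0 • ⊤ : Submodule R (AdicCompletion I M)) = ⊤ := by
          rw [pow_zero, Ideal.one_eq_top, Submodule.top_smul]
        intro x _
        rw [htop]; trivial
      · exact (hK n hn).symm
    refine { prec' := fun x hx => ?_ }
    let L : AdicCompletion I M := {
      val i := (x i).val i
      property {m n} h' := by
        simp only [AdicCompletion.transitionMap_comp_eval_apply]
        specialize hx h'
        rwa [SModEq.sub_mem, hK', LinearMap.mem_ker, _root_.map_sub,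
          sub_eq_zero, AdicCompletion.eval_apply, AdicCompletion.eval_apply, eq_comm] at hx
    }
    use L; intro i
    rw [SModEq.sub_mem, hK']
    simp [L]

end Groth.Agent.S9601
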