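import Groth.Statements.S9602
import Mathlib

set_option autoImplicit false
universe u
open CAlg

namespace Groth.Agent.S9602

/-- Let R be a ring, I an ideal of R and R^ = lim R/Iⁿ the I-adic completion. An element of R^ whose
image in R/I is invertible is itself invertible in R^; and the kernel of R^ → R/I as well as the
extended ideal I R^ both lie inside the Jacobson radical of R^. -/
theorem result {R : Type u} [CommRing R] (I : Ideal R) :
    (∀ x : AdicCompletion I R, IsUnit (AdicCompletion.evalOneₐ I x) → IsUnit x) ∧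
      RingHom.ker (AdicCompletion.evalOneₐ I).toRingHom ≤ (⊥ : Ideal (AdicCompletion I R)).jacobson ∧
      I.map (algebraMap R (AdicCompletion I R)) ≤ (⊥ : Ideal (AdicCompletion I R)).jacobson := by
  classical
  have hsmul : ∀ m : ℕ, (I ^ m • ⊤ : Submodule R R) = I ^ m := by
    intro m; rw [smul_eq_mul, Ideal.mul_top]
  have ha : ∀ x : AdicCompletion I R, IsUnit (AdicCompletion.evalOneₐ I x) → IsUnit x := by
    intro x hx
    obtain ⟨a, rfl⟩ := AdicCompletion.mk_surjective I R x
    have hcau : ∀ {m n : ℕ}, m ≤ n → a m - a n ∈ I ^ m := by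
      intro m n hmn
      have := a.property hmn
      rw [SModEq.sub_mem, hsmul] at this
      exact this
    have h1 : AdicCompletion.evalOneₐ I (AdicCompletion.mk I R a) = Ideal.Quotient.mk I (a 1) := by
      rw [← AdicCompletion.factorₐ_evalₐ_one, AdicCompletion.evalₐ_mk]
      rfl
    rw [h1] at hx
    have hunit : ∀ n : ℕ, IsUnit (Ideal.Quotient.mk (I ^ n) (a n)) := by
      intro n
      rcases Nat.eq_zero_or_pos n with rfl | hn
      · have : Subsingleton (R ⧸ I ^ 0) := by
          rw [pow_zero, Ideal.one_eq_top]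
          exact Ideal.Quotient.subsingleton_iff.mpr rfl
        exact isUnit_of_subsingleton _
      · rw [Ideal.Quotient.isUnit_mk_pow_iff_isUnit_mk I hn.ne']
        have : Ideal.Quotient.mk I (a n) = Ideal.Quotient.mk I (a 1) := by
          rw [Ideal.Quotient.eq]
          have := hcau (m := 1) (n := n) hn
          rw [pow_one] at this
          rw [← neg_sub]; exact I.neg_mem this
        rw [this]; exact hx
    have hb : ∀ n : ℕ, ∃ b : R, a n * b - 1 ∈ I ^ n := by
      intro n
      obtain ⟨c, hc⟩ := (hunit n).exists_right_inv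
      obtain ⟨b, rfl⟩ := Ideal.Quotient.mk_surjective c
      refine ⟨b, ?_⟩
      rw [← map_mul, ← map_one (Ideal.Quotient.mk (I ^ n)), Ideal.Quotient.eq] at hc
      exact hc
    choose b hb using hb
    have hbc : AdicCompletion.IsAdicCauchy I R b := by
      intro m n hmn
      rw [SModEq.sub_mem, hsmul]
      have e : b m - b n = -(b m * (a n * b n - 1)) + b n * (a m * b m - 1)
          + -(b m * b n * (a m - a n)) := by ring
      rw [e]
      refine Ideal.add_mem _ (Ideal.add_mem _ ?_ ?_) ?_
      · exact Submodule.neg_mem _ (Ideal.mul_mem_left _ _ (Ideal.pow_le_pow_right hmn (hb n)))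
      · exact Ideal.mul_mem_left _ _ (hb m)
      · exact Submodule.neg_mem _ (Ideal.mul_mem_left _ _ (hcau hmn))
    refine IsUnit.of_mul_eq_one (AdicCompletion.mk I R ⟨b, hbc⟩) ?_
    apply AdicCompletion.ext_evalₐ
    intro n
    rw [map_mul, AdicCompletion.evalₐ_mk, AdicCompletion.evalₐ_mk, map_one, ← map_mul,
      ← map_one (Ideal.Quotient.mk (I ^ n)), Ideal.Quotient.eq]
    exact hb n
  have hker : RingHom.ker (AdicCompletion.evalOneₐ I).toRingHom ≤
      (⊥ : Ideal (AdicCompletion I R)).jacobson := by
    intro z hz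
    rw [Ideal.mem_jacobson_bot]
    intro y
    apply ha
    have hz' : AdicCompletion.evalOneₐ I z = 0 := hz
    rw [map_add, map_mul, hz', zero_mul, zero_add, map_one]
    exact isUnit_one
  refine ⟨ha, hker, le_trans ?_ hker⟩
  rw [Ideal.map_le_iff_le_comap]
  intro r hr
  rw [Ideal.mem_comap, RingHom.mem_ker]
  show AdicCompletion.evalOneₐ I (algebraMap R (AdicCompletion I R) r) = 0
  rw [AlgHom.commutes]
  exact Ideal.Quotient.eq_zero_iff_mem.mpr hr

end Groth.Agent.S9602
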