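import Groth.Statements.S9603
import Mathlib
import Groth.Agent.Lib.helper5.Precomplete

set_option autoImplicit false
universe u
open CAlg

namespace Groth.Agent.S9603

/-- For a ring A, elements f_1, …, f_r generating an ideal I and an A-module M, if the canonical map
from M to its (f_i)-adic completion is surjective for every i, then the canonical map from M to its
I-adic completion is surjective. -/
theorem result {A : Type u} [CommRing A] {r : ℕ} (f : Fin r → A) (M : Type u) [AddCommGroup M] [Module A M] (h : ∀ i, Function.Surjective (AdicCompletion.of (Ideal.span {f i}) M)) :
    Function.Surjective (AdicCompletion.of (Ideal.span (Set.range f)) M) := by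
  classical
  rw [AdicCompletion.of_surjective_iff]
  have h' : ∀ i, IsPrecomplete (Ideal.span {f i}) M := fun i =>
    AdicCompletion.of_surjective_iff.mp (h i)
  have hrange : Set.range f = ((Finset.univ.image f : Finset A) : Set A) := by
    ext x; simp
  rw [hrange]
  apply H5_isPrecomplete_span_finset
  intro a ha
  obtain ⟨i, -, rfl⟩ := Finset.mem_image.mp ha
  exact h' i

end Groth.Agent.S9603
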