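import Groth.Statements.S9604
import Mathlib

set_option autoImplicit false
universe u
open CAlg

namespace Groth.Agent.S9604

/-- Let R be a ring and I, J ideals of R with I^c ⊆ J and J^d ⊆ I for some integers c, d > 0. Then for
an R-module, being complete in the I-adic topology is equivalent to being complete in the J-adic
topology. -/
theorem result {R : Type u} [CommRing R] (I J : Ideal R) (c d : ℕ) (hc : 0 < c) (hd : 0 < d) (hI : I ^ c ≤ J) (hJ : J ^ d ≤ I) (M : Type u) [AddCommGroup M] [Module R M] :
    IsAdicComplete I M ↔ IsAdicComplete J M := by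
  have key : ∀ (I J : Ideal R) (c d : ℕ), 0 < c → 0 < d → I ^ c ≤ J → J ^ d ≤ I →
      IsAdicComplete I M → IsAdicComplete J M := by
    intro I J c d hc hd hI hJ h
    have hJI : ∀ n : ℕ, (J ^ (d * n) • ⊤ : Submodule R M) ≤ I ^ n • ⊤ := by
      intro n
      apply Submodule.smul_mono_left
      rw [pow_mul]
      exact Ideal.pow_right_mono hJ n
    have hIJ : ∀ n : ℕ, (I ^ (c * n) • ⊤ : Submodule R M) ≤ J ^ n • ⊤ := by
      intro n
      apply Submodule.smul_mono_left
      rw [pow_mul]
      exact Ideal.pow_right_mono hI n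
    have hmonoJ : ∀ {m n : ℕ}, m ≤ n → (J ^ n • ⊤ : Submodule R M) ≤ J ^ m • ⊤ := by
      intro m n hmn
      exact Submodule.smul_mono_left (Ideal.pow_le_pow_right hmn)
    refine { haus' := ?_, prec' := ?_ }
    · intro x hx
      apply h.toIsHausdorff.haus
      intro n
      exact (hx (d * n)).mono (hJI n)
    · intro f hf
      obtain ⟨L, hL⟩ := h.toIsPrecomplete.prec (f := fun n => f (d * n)) (by
        intro m n hmn
        have h1 : d * m ≤ d * n := Nat.mul_le_mul_left d hmn
        exact (hf h1).mono (hJI m))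
      refine ⟨L, fun n => ?_⟩
      have h1 : n ≤ d * (c * n) := by
        calc n = 1 * (1 * n) := by ring
          _ ≤ d * (c * n) := Nat.mul_le_mul hd (Nat.mul_le_mul_right n hc)
      have h2 : f n ≡ f (d * (c * n)) [SMOD (J ^ n • ⊤ : Submodule R M)] := hf h1
      have h3 : f (d * (c * n)) ≡ L [SMOD (J ^ n • ⊤ : Submodule R M)] := (hL (c * n)).mono (hIJ n)
      exact h2.trans h3
  exact ⟨key I J c d hc hd hI hJ, key J I d c hd hc hJ hI⟩

end Groth.Agent.S9604
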