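import Groth.Statements.S9605
import Mathlib

set_option autoImplicit false
universe u
open CAlg

namespace Groth.Agent.S9605

/-- For a ring R, an ideal I of R, an I-adically complete R-module M and a submodule K of M, the
quotient M/K is I-adically complete if and only if K = ⋂ₙ (K + IⁿM). -/
theorem result {R : Type u} [CommRing R] (I : Ideal R) (M : Type u) [AddCommGroup M] [Module R M] [IsAdicComplete I M] (K : Submodule R M) :
    IsAdicComplete I (M ⧸ K) ↔ K = ⨅ n : ℕ, K ⊔ I ^ n • (⊤ : Submodule R M) := by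
  have hmap : ∀ n : ℕ, (I ^ n • ⊤ : Submodule R (M ⧸ K)) = (I ^ n • ⊤ : Submodule R M).map K.mkQ := by
    intro n
    rw [Submodule.map_smul'', Submodule.map_top, Submodule.range_mkQ]
  have hmem : ∀ (n : ℕ) (x : M), K.mkQ x ∈ (I ^ n • ⊤ : Submodule R (M ⧸ K)) ↔
      x ∈ K ⊔ (I ^ n • ⊤ : Submodule R M) := by
    intro n x
    rw [hmap, ← Submodule.mem_comap, Submodule.comap_map_mkQ]
  -- precompleteness of the quotient
  have hprec : IsPrecomplete I (M ⧸ K) := by
    refine ⟨fun f hf => ?_⟩
    have step : ∀ n (x : {x : M // K.mkQ x = f n}),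
        ∃ x' : {x : M // K.mkQ x = f (n + 1)}, (x'.1 - x.1) ∈ (I ^ n • ⊤ : Submodule R M) := by
      intro n x
      have h1 : f (n + 1) - f n ∈ (I ^ n • ⊤ : Submodule R (M ⧸ K)) := by
        have := (hf (Nat.le_succ n)).symm
        exact SModEq.sub_mem.mp this
      rw [hmap] at h1
      obtain ⟨y, hy, hy'⟩ := h1
      refine ⟨⟨x.1 + y, ?_⟩, ?_⟩
      · rw [map_add, x.2, hy']; abel
      · simpa using hy
    choose nxt hnxt using step
    let g : ∀ n, {x : M // K.mkQ x = f n} := fun n =>
      Nat.rec ⟨_, Classical.choose_spec (Submodule.mkQ_surjective K (f 0))⟩ (fun n x => nxt n x) n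
    have hg : ∀ n, (g (n + 1)).1 - (g n).1 ∈ (I ^ n • ⊤ : Submodule R M) := fun n => hnxt n (g n)
    have hcauchy : ∀ {m n}, m ≤ n → (g m).1 ≡ (g n).1 [SMOD (I ^ m • ⊤ : Submodule R M)] := by
      intro m n hmn
      induction n, hmn using Nat.le_induction with
      | base => rfl
      | succ n hmn ih =>
        refine ih.trans ?_
        have h2 : (I ^ n • ⊤ : Submodule R M) ≤ I ^ m • ⊤ :=
          Submodule.smul_mono_left (Ideal.pow_le_pow_right hmn)
        exact (SModEq.sub_mem.mpr (h2 (hg n))).symm
    obtain ⟨L, hL⟩ := IsPrecomplete.prec' (I := I) (fun n => (g n).1) hcauchy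
    refine ⟨K.mkQ L, fun n => ?_⟩
    rw [← (g n).2]
    apply SModEq.sub_mem.mpr
    rw [← map_sub, hmem]
    exact Submodule.mem_sup_right (SModEq.sub_mem.mp (hL n))
  constructor
  · intro h
    apply le_antisymm
    · exact le_iInf fun n => le_sup_left
    · intro x hx
      rw [Submodule.mem_iInf] at hx
      have : K.mkQ x = 0 := by
        apply h.toIsHausdorff.haus
        intro n
        rw [SModEq.zero, hmem]
        exact hx n
      simpa using this
  · intro h
    refine { haus' := ?_, prec' := hprec.prec' }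
    intro x hx
    obtain ⟨x, rfl⟩ := Submodule.mkQ_surjective K x
    have : x ∈ K := by
      rw [h, Submodule.mem_iInf]
      intro n
      rw [← hmem]
      exact SModEq.zero.mp (hx n)
    simpa using this

end Groth.Agent.S9605
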