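import Groth.Statements.S9607
import Mathlib
import Groth.Agent.Lib.helper5.BinomAdjoin

set_option autoImplicit false
universe u
open CAlg

namespace Groth.Agent.S9607

/-- For a prime number p and integers n, m > 0 there exists an integer a such that (x + y)^(p^a) and p^a
(x + y) both belong to the subring ℤ[x^(p^n), p^n x, y^(p^m), p^m y] of the polynomial ring ℤ[x, y]. -/
theorem result (p : ℕ) (hp : p.Prime) (n m : ℕ) (hn : 0 < n) (hm : 0 < m) :
    ∃ a : ℕ, ((MvPolynomial.X 0 + MvPolynomial.X 1 : MvPolynomial (Fin 2) ℤ) ^ (p ^ a) ∈ Algebra.adjoin ℤ ({MvPolynomial.X 0 ^ (p ^ n), (p : MvPolynomial (Fin 2) ℤ) ^ n * MvPolynomial.X 0, MvPolynomial.X 1 ^ (p ^ m), (p : MvPolynomial (Fin 2) ℤ) ^ m * MvPolynomial.X 1} : Set (MvPolynomial (Fin 2) ℤ)) ∧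
      (p : MvPolynomial (Fin 2) ℤ) ^ a * (MvPolynomial.X 0 + MvPolynomial.X 1) ∈ Algebra.adjoin ℤ ({MvPolynomial.X 0 ^ (p ^ n), (p : MvPolynomial (Fin 2) ℤ) ^ n * MvPolynomial.X 0, MvPolynomial.X 1 ^ (p ^ m), (p : MvPolynomial (Fin 2) ℤ) ^ m * MvPolynomial.X 1} : Set (MvPolynomial (Fin 2) ℤ))) := by
  classical
  refine ⟨n + m + n * p ^ n + m * p ^ m, ?_, ?_⟩
  · exact H5BA.H5_binom_mem _ p hp n m _ _
      (Algebra.subset_adjoin (by simp)) (Algebra.subset_adjoin (by simp))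
      (Algebra.subset_adjoin (by simp)) (Algebra.subset_adjoin (by simp))
  · have h1 : (p : MvPolynomial (Fin 2) ℤ) ^ (n + m + n * p ^ n + m * p ^ m) *
        (MvPolynomial.X 0 + MvPolynomial.X 1) =
        (p : MvPolynomial (Fin 2) ℤ) ^ (m + n * p ^ n + m * p ^ m) *
          ((p : MvPolynomial (Fin 2) ℤ) ^ n * MvPolynomial.X 0) +
        (p : MvPolynomial (Fin 2) ℤ) ^ (n + n * p ^ n + m * p ^ m) *
          ((p : MvPolynomial (Fin 2) ℤ) ^ m * MvPolynomial.X 1) := by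
      ring
    rw [h1]
    refine Subalgebra.add_mem _ (Subalgebra.mul_mem _ (Subalgebra.pow_mem _ (natCast_mem _ p) _)
      (Algebra.subset_adjoin (by simp))) (Subalgebra.mul_mem _
      (Subalgebra.pow_mem _ (natCast_mem _ p) _) (Algebra.subset_adjoin (by simp)))

end Groth.Agent.S9607
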