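import Groth.Statements.S9608
import Mathlib

set_option autoImplicit false
universe u
open CAlg

namespace Groth.Agent.S9608

/-- Let k'/k be a field extension and p a prime number. Then k' is generated over k by elements x for
which some n > 0 has x^(p^n) ∈ k and p^n x ∈ k, if and only if either k' = k, or k has
characteristic p and k'/k is purely inseparable. -/
theorem result {k k' : Type u} [Field k] [Field k'] [Algebra k k'] (p : ℕ) (hp : p.Prime) :
    IntermediateField.adjoin k {x : k' | ∃ n : ℕ, 0 < n ∧ x ^ (p ^ n) ∈ Set.range (algebraMap k k') ∧ (p : k') ^ n * x ∈ Set.range (algebraMap k k')} = ⊤ ↔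
      (Function.Surjective (algebraMap k k') ∨ (CharP k p ∧ IsPurelyInseparable k k')) := by
  classical
  constructor
  · intro htop
    by_cases hp0 : (p : k) = 0
    · right
      haveI : CharP k p := (CharP.charP_iff_prime_eq_zero hp).mpr hp0
      haveI : ExpChar k p := ExpChar.prime hp
      refine ⟨inferInstance, ?_⟩
      have h1 : IsPurelyInseparable k (⊤ : IntermediateField k k') := by
        rw [← htop, IntermediateField.isPurelyInseparable_adjoin_iff_pow_mem (F := k) (E := k') (q := p)]
        rintro x ⟨n, -, hx, -⟩
        exact ⟨n, RingHom.mem_range.mpr (Set.mem_range.mp hx)⟩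
      exact IntermediateField.topEquiv.isPurelyInseparable
    · left
      have hle : IntermediateField.adjoin k {x : k' | ∃ n : ℕ, 0 < n ∧
          x ^ (p ^ n) ∈ Set.range (algebraMap k k') ∧
          (p : k') ^ n * x ∈ Set.range (algebraMap k k')} ≤ ⊥ := by
        refine IntermediateField.adjoin_le_iff.mpr ?_
        rintro x ⟨n, -, -, ⟨b, hb⟩⟩
        rw [SetLike.mem_coe, IntermediateField.mem_bot]
        refine ⟨((p : k) ^ n)⁻¹ * b, ?_⟩
        have hpk : (algebraMap k k') ((p : k) ^ n) = (p : k') ^ n := by
          rw [map_pow, map_natCast]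
        have hne : ((p : k') ^ n) ≠ 0 := by
          rw [← hpk]
          exact (map_ne_zero (algebraMap k k')).mpr (pow_ne_zero n hp0)
        rw [map_mul, map_inv₀, hpk, hb, inv_mul_cancel_left₀ hne]
      rw [htop] at hle
      intro x
      have hx : x ∈ (⊥ : IntermediateField k k') := hle IntermediateField.mem_top
      exact IntermediateField.mem_bot.mp hx
  · rintro (hsurj | ⟨hchar, hpi⟩)
    · refine eq_top_iff.mpr fun x _ => ?_
      obtain ⟨a, rfl⟩ := hsurj x
      exact IntermediateField.algebraMap_mem _ a
    · haveI := hchar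
      haveI := hpi
      haveI : ExpChar k p := ExpChar.prime hp
      haveI : CharP k' p := charP_of_injective_algebraMap (algebraMap k k').injective p
      refine eq_top_iff.mpr fun x _ => ?_
      refine IntermediateField.subset_adjoin k _ ?_
      obtain ⟨n, hn⟩ := IsPurelyInseparable.pow_mem k p x
      refine ⟨n + 1, Nat.succ_pos n, ?_, ?_⟩
      · obtain ⟨b, hb⟩ := RingHom.mem_range.mp hn
        refine ⟨b ^ p, ?_⟩
        rw [map_pow, hb, ← pow_mul, ← pow_succ]
      · refine ⟨0, ?_⟩
        rw [map_zero, CharP.cast_eq_zero k' p, zero_pow (Nat.succ_ne_zero n), zero_mul]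

end Groth.Agent.S9608
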