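import Groth.Statements.S9610
import Mathlib

set_option autoImplicit false
universe u
open CAlg

namespace Groth.Agent.S9610

/-- Let k be a field and V a nonzero k-vector space with dim_k V < #k as cardinals. Then every k-linear
endomorphism T of V admits a monic polynomial P over k for which P(T) is not invertible. -/
theorem result {k V : Type u} [Field k] [AddCommGroup V] [Module k V] [Nontrivial V] (hV : Module.rank k V < Cardinal.mk k) (T : Module.End k V) :
    ∃ P : Polynomial k, P.Monic ∧ ¬ IsUnit (Polynomial.aeval T P) := by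
  classical
  by_contra hcon
  push_neg at hcon
  have hmonic : ∀ P : Polynomial k, P.Monic → IsUnit (Polynomial.aeval T P) := hcon
  have hne : ∀ P : Polynomial k, P ≠ 0 → IsUnit (Polynomial.aeval T P) := by
    intro P hP
    have h1 := hmonic _ (Polynomial.monic_mul_leadingCoeff_inv hP)
    have hlc : P.leadingCoeff ≠ 0 := Polynomial.leadingCoeff_ne_zero.mpr hP
    have h2 : P = (P * Polynomial.C (P.leadingCoeff)⁻¹) * Polynomial.C P.leadingCoeff := by
      rw [mul_assoc, ← Polynomial.C_mul, inv_mul_cancel₀ hlc, Polynomial.C_1, mul_one]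
    rw [h2, map_mul]
    refine h1.mul ?_
    rw [Polynomial.aeval_C]
    exact (IsUnit.mk0 _ hlc).map (algebraMap k (Module.End k V))
  obtain ⟨v, hv⟩ := exists_ne (0 : V)
  have hu : ∀ a : k, IsUnit (Polynomial.aeval T (Polynomial.X - Polynomial.C a)) := fun a =>
    hmonic _ (Polynomial.monic_X_sub_C a)
  let w : k → V := fun a => ((hu a).unit⁻¹ : (Module.End k V)ˣ).1 v
  have hw : ∀ a, (Polynomial.aeval T (Polynomial.X - Polynomial.C a)) (w a) = v := by
    intro a
    have : (Polynomial.aeval T (Polynomial.X - Polynomial.C a)) * ((hu a).unit⁻¹ : (Module.End k V)ˣ).1 = 1 :=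
      (hu a).mul_val_inv
    have h2 : ((Polynomial.aeval T (Polynomial.X - Polynomial.C a)) *
        ((hu a).unit⁻¹ : (Module.End k V)ˣ).1) v = (1 : Module.End k V) v := by rw [this]
    rw [Module.End.mul_apply, Module.End.one_apply] at h2
    exact h2
  have hli : LinearIndependent k w := by
    rw [linearIndependent_iff']
    intro s c hsum a₀ ha₀
    let Da : k → Polynomial k := fun a => ∏ b ∈ s.erase a, (Polynomial.X - Polynomial.C b)
    let D : Polynomial k := ∏ b ∈ s, (Polynomial.X - Polynomial.C b)
    have hD : ∀ a ∈ s, D = Da a * (Polynomial.X - Polynomial.C a) := by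
      intro a ha
      rw [mul_comm]
      exact (Finset.mul_prod_erase s (fun b => Polynomial.X - Polynomial.C b) ha).symm
    let Q : Polynomial k := ∑ a ∈ s, Polynomial.C (c a) * Da a
    have hQv : (Polynomial.aeval T Q) v = 0 := by
      have h1 : (Polynomial.aeval T D) (∑ a ∈ s, c a • w a) = 0 := by rw [hsum, map_zero]
      rw [map_sum] at h1
      have h2 : ∀ a ∈ s, (Polynomial.aeval T D) (c a • w a) =
          (Polynomial.aeval T (Polynomial.C (c a) * Da a)) v := by
        intro a ha
        rw [hD a ha, map_mul, map_mul, Module.End.mul_apply, Module.End.mul_apply, map_smul, hw a,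
          Polynomial.aeval_C]
        simp
      rw [Finset.sum_congr rfl h2] at h1
      simp only [Q, map_sum, LinearMap.sum_apply]
      exact h1
    have hQ0 : Q = 0 := by
      by_contra hQ
      have hunit := hne Q hQ
      have hinj : Function.Injective (Polynomial.aeval T Q) := by
        have := (Module.End.isUnit_iff _).mp hunit
        exact this.injective
      exact hv (hinj (by rw [hQv, map_zero]))
    have heval : Q.eval a₀ = c a₀ * ∏ b ∈ s.erase a₀, (a₀ - b) := by
      simp only [Q, Da, Polynomial.eval_finsetSum, Polynomial.eval_mul, Polynomial.eval_C,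
        Polynomial.eval_prod, Polynomial.eval_sub, Polynomial.eval_X]
      rw [Finset.sum_eq_single_of_mem a₀ ha₀]
      intro a ha hne'
      have : a₀ ∈ s.erase a := Finset.mem_erase.mpr ⟨fun h => hne' h.symm, ha₀⟩
      rw [Finset.prod_eq_zero this (sub_self a₀), mul_zero]
    rw [hQ0, Polynomial.eval_zero] at heval
    have hprod : ∏ b ∈ s.erase a₀, (a₀ - b) ≠ 0 := by
      rw [Finset.prod_ne_zero_iff]
      intro b hb
      exact sub_ne_zero.mpr (Finset.ne_of_mem_erase hb).symm
    rcases mul_eq_zero.mp heval.symm with h | h
    · exact h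
    · exact absurd h hprod
  exact absurd (hli.cardinal_le_rank) (not_le.mpr hV)

end Groth.Agent.S9610
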