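import Groth.Statements.S9611
import Mathlib

set_option autoImplicit false
universe u
open CAlg

namespace Groth.Agent.S9611

/-- Let R be a Jacobson ring, p a prime ideal of R which is not maximal, and f an element of R not in p.
Then the set of primes of R containing p and not containing f is infinite. -/
theorem result {R : Type u} [CommRing R] [IsJacobsonRing R] (p : Ideal R) [p.IsPrime] (hp : ¬ p.IsMaximal) (f : R) (hf : f ∉ p) :
    {q : PrimeSpectrum R | p ≤ q.asIdeal ∧ f ∉ q.asIdeal}.Infinite := by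
  intro hfin
  have hpp : p.IsPrime := inferInstance
  set T : Set (Ideal R) := {m | p ≤ m ∧ m.IsMaximal ∧ f ∉ m} with hT
  have hTfin : T.Finite := by
    have : T ⊆ (fun q : PrimeSpectrum R => q.asIdeal) '' {q : PrimeSpectrum R | p ≤ q.asIdeal ∧ f ∉ q.asIdeal} := by
      rintro m ⟨h1, h2, h3⟩
      exact ⟨⟨m, h2.isPrime⟩, ⟨h1, h3⟩, rfl⟩
    exact (hfin.image _).subset this
  have hp_le : sInf T ≤ p := by
    intro x hx
    have hjac : p.jacobson = p := IsJacobsonRing.out (R := R) inferInstance hpp.isRadical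
    have hxf : x * f ∈ p.jacobson := by
      rw [Ideal.jacobson, Ideal.mem_sInf]
      rintro m ⟨hpm, hm⟩
      by_cases hfm : f ∈ m
      · exact m.mul_mem_left _ hfm
      · exact m.mul_mem_right _ ((Ideal.mem_sInf.mp hx) ⟨hpm, hm, hfm⟩)
    rw [hjac] at hxf
    exact (hpp.mem_or_mem hxf).resolve_right hf
  have h2 : hTfin.toFinset.inf id ≤ p := by
    rw [Finset.inf_id_eq_sInf]
    simpa using hp_le
  obtain ⟨m, hmT, hmp⟩ := (Ideal.IsPrime.inf_le' (s := hTfin.toFinset) (f := id) (P := p) hpp).mp h2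
  rw [Set.Finite.mem_toFinset] at hmT
  obtain ⟨h1, h2', h3⟩ := hmT
  have : m = p := le_antisymm hmp h1
  exact hp (this ▸ h2')

end Groth.Agent.S9611
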