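import Groth.Statements.S9613
import Mathlib

set_option autoImplicit false
universe u
open CAlg

namespace Groth.Agent.S9613

/-- Let R → K be an injective ring map into a field K which makes K an R-algebra of finite type. Then
for some nonzero f ∈ R the localization R_f is a field over which K is finite; here R_f is realised
as the R-subalgebra of K that is a localization of R away from f. -/
theorem result {R K : Type u} [CommRing R] [Field K] [Algebra R K] (hinj : Function.Injective (algebraMap R K)) [Algebra.FiniteType R K] :
    ∃ f : R, f ≠ 0 ∧ ∃ Rf : Subalgebra R K, IsLocalization.Away f Rf ∧ IsField Rf ∧ Module.Finite Rf K := by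
  classical
  haveI hdom : IsDomain R := Function.Injective.isDomain (algebraMap R K) hinj
  let L := FractionRing R
  letI algLK : Algebra L K := (IsFractionRing.lift hinj).toAlgebra
  haveI : IsScalarTower R L K :=
    IsScalarTower.of_algebraMap_eq (fun x => (IsFractionRing.lift_algebraMap hinj x).symm)
  haveI : Algebra.FiniteType L K := Algebra.FiniteType.of_restrictScalars_finiteType R L K
  haveI : Module.Finite L K := finite_of_finite_type_of_isJacobsonRing L K
  haveI : Algebra.IsAlgebraic R L := IsLocalization.isAlgebraic (R := R) (S := L) (nonZeroDivisors R)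
  haveI : Algebra.IsAlgebraic R K := Algebra.IsAlgebraic.trans R L K
  obtain ⟨s, hs⟩ := (inferInstance : Algebra.FiniteType R K).out
  obtain ⟨f, hf0, hint⟩ := Algebra.IsAlgebraic.exists_integral_multiples R s
  refine ⟨f, hf0, ?_⟩
  have hfK : algebraMap R K f ≠ 0 := fun h => hf0 (hinj (by rw [h, map_zero]))
  have hunits : ∀ y : Submonoid.powers f, IsUnit ((Algebra.ofId R K) y) := by
    rintro ⟨_, n, rfl⟩
    show IsUnit (algebraMap R K (f ^ n))
    rw [map_pow]; exact (IsUnit.mk0 _ hfK).pow n
  let φ : Localization.Away f →ₐ[R] K :=
    IsLocalization.liftAlgHom (M := Submonoid.powers f) (f := Algebra.ofId R K) hunits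
  have hφinj : Function.Injective φ := by
    show Function.Injective (IsLocalization.lift (M := Submonoid.powers f)
      (S := Localization.Away f) hunits)
    rw [IsLocalization.lift_injective_iff]
    intro x y
    have hA : Function.Injective (algebraMap R (Localization.Away f)) :=
      IsLocalization.injective (Localization.Away f)
        (powers_le_nonZeroDivisors_of_noZeroDivisors hf0)
    exact ⟨fun h => by rw [hA h], fun h => by rw [hinj h]⟩
  let Rf : Subalgebra R K := φ.range
  let e : Localization.Away f ≃ₐ[R] Rf := AlgEquiv.ofInjective φ hφinj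
  have hloc : IsLocalization.Away f Rf :=
    IsLocalization.isLocalization_of_algEquiv (Submonoid.powers f) e
  refine ⟨Rf, hloc, ?_⟩
  have hfinv : (algebraMap R K f)⁻¹ ∈ Rf := by
    refine ⟨IsLocalization.Away.invSelf (S := Localization.Away f) f, ?_⟩
    have h1 : φ (IsLocalization.Away.invSelf (S := Localization.Away f) f) * algebraMap R K f = 1 := by
      rw [← φ.commutes f, ← map_mul, mul_comm, IsLocalization.Away.mul_invSelf, map_one]
    exact eq_inv_of_mul_eq_one_left h1
  have hintK : ∀ x : K, IsIntegral Rf x := by
    have hle : Algebra.adjoin R (s : Set K) ≤ (integralClosure Rf K).restrictScalars R := by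
      apply Algebra.adjoin_le
      intro z hz
      have h1 : IsIntegral Rf (f • z) := (hint z hz).tower_top
      have h2 : z = (⟨(algebraMap R K f)⁻¹, hfinv⟩ : Rf) • (f • z) := by
        rw [Subalgebra.smul_def, smul_eq_mul, Algebra.smul_def, ← mul_assoc,
          inv_mul_cancel₀ hfK, one_mul]
      show IsIntegral Rf z
      rw [h2]
      exact h1.smul _
    intro x
    have : x ∈ Algebra.adjoin R (s : Set K) := by rw [hs]; trivial
    exact hle this
  haveI : Algebra.IsIntegral Rf K := ⟨hintK⟩
  refine ⟨isField_of_isIntegral_of_isField (S := K) Subtype.val_injective (Field.toIsField K), ?_⟩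
  haveI : Algebra.FiniteType Rf K := Algebra.FiniteType.of_restrictScalars_finiteType R Rf K
  exact Algebra.IsIntegral.finite

end Groth.Agent.S9613
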