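import Groth.Statements.S9618
import Mathlib
import Groth.Agent.Lib.helper5.SpecConn

set_option autoImplicit false
universe u
open CAlg

namespace Groth.Agent.S9618

/-- For a ring R and a subset T of Spec R the following are equivalent: (1) T is closed and contains the
connected component of each of its points; (2) T can be written as an intersection of subsets of
Spec R that are both open and closed; (3) T is the common zero locus of some set of idempotent
elements of R (equivalently, of the ideal they generate). -/
theorem result {R : Type u} [CommRing R] (T : Set (PrimeSpectrum R)) :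
    [IsClosed T ∧ ∀ x ∈ T, connectedComponent x ⊆ T,
      ∃ U : Set (Set (PrimeSpectrum R)), (∀ u ∈ U, IsClopen u) ∧ T = ⋂₀ U,
      ∃ E : Set R, (∀ e ∈ E, IsIdempotentElem e) ∧ T = PrimeSpectrum.zeroLocus E].TFAE := by
  classical
  tfae_have 3 → 2 := by
    rintro ⟨E, hE, rfl⟩
    refine ⟨(fun e => PrimeSpectrum.zeroLocus ({e} : Set R)) '' E, ?_, ?_⟩
    · rintro _ ⟨e, he, rfl⟩
      exact PrimeSpectrum.isClopen_iff_zeroLocus.mpr ⟨e, hE e he, rfl⟩
    · ext q
      simp only [PrimeSpectrum.mem_zeroLocus, Set.sInter_image, Set.mem_iInter,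
        Set.singleton_subset_iff]
      exact ⟨fun h e he => h he, fun h e he => h e he⟩
  tfae_have 2 → 1 := by
    rintro ⟨U, hU, rfl⟩
    refine ⟨isClosed_sInter fun u hu => (hU u hu).1, fun x hx => ?_⟩
    exact Set.subset_sInter fun u hu => (hU u hu).connectedComponent_subset (hx u hu)
  tfae_have 1 → 3 := by
    rintro ⟨hclosed, hcomp⟩
    refine ⟨{e | IsIdempotentElem e ∧ T ⊆ PrimeSpectrum.zeroLocus ({e} : Set R)},
      fun e he => he.1, ?_⟩
    apply Set.Subset.antisymm
    · intro q hq
      rw [PrimeSpectrum.mem_zeroLocus]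
      intro e he
      have := he.2 hq
      rw [PrimeSpectrum.mem_zeroLocus, Set.singleton_subset_iff] at this
      exact this
    · intro q hq
      by_contra hqT
      have hTJ : T = PrimeSpectrum.zeroLocus (PrimeSpectrum.vanishingIdeal T : Set R) := by
        rw [PrimeSpectrum.zeroLocus_vanishingIdeal_eq_closure, hclosed.closure_eq]
      have hdisj : PrimeSpectrum.zeroLocus {e : R | IsIdempotentElem e ∧ e ∈ q.asIdeal} ∩ T = ∅ := by
        rw [← H5_connectedComponent_eq q]
        apply Set.eq_empty_of_forall_notMem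
        rintro y ⟨hy1, hy2⟩
        have : connectedComponent q = connectedComponent y := connectedComponent_eq hy1
        exact hqT (hcomp y hy2 (this ▸ mem_connectedComponent))
      rw [hTJ, ← PrimeSpectrum.zeroLocus_span {e : R | IsIdempotentElem e ∧ e ∈ q.asIdeal},
        ← PrimeSpectrum.zeroLocus_sup, PrimeSpectrum.zeroLocus_empty_iff_eq_top] at hdisj
      have h1 : (1 : R) ∈ Ideal.span {e : R | IsIdempotentElem e ∧ e ∈ q.asIdeal} ⊔
          PrimeSpectrum.vanishingIdeal T := by rw [hdisj]; trivial
      obtain ⟨a, ha, b, hb, hab⟩ := Submodule.mem_sup.mp h1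
      obtain ⟨F, hFsub, haF⟩ := Submodule.mem_span_finite_of_mem_span ha
      have hFidem : ∀ e ∈ F, IsIdempotentElem e := fun e he => (hFsub he).1
      have hπidem := H5_isIdem_prod_one_sub F hFidem
      have hkill := H5_span_mul_prod_one_sub F hFidem haF
      have hπJ : (∏ e ∈ F, (1 - e)) ∈ PrimeSpectrum.vanishingIdeal T := by
        have : (∏ e ∈ F, (1 - e)) = b * ∏ e ∈ F, (1 - e) := by
          have h2 : (a + b) * ∏ e ∈ F, (1 - e) = ∏ e ∈ F, (1 - e) := by rw [hab, one_mul]
          rw [add_mul, hkill, zero_add] at h2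
          exact h2.symm
        rw [this]
        exact Ideal.mul_mem_right _ _ hb
      have hπE : (∏ e ∈ F, (1 - e)) ∈
          {e | IsIdempotentElem e ∧ T ⊆ PrimeSpectrum.zeroLocus ({e} : Set R)} := by
        refine ⟨hπidem, fun t ht => ?_⟩
        rw [PrimeSpectrum.mem_zeroLocus, Set.singleton_subset_iff]
        exact (PrimeSpectrum.mem_vanishingIdeal _ _).mp hπJ t ht
      have hπq : (∏ e ∈ F, (1 - e)) ∈ q.asIdeal := by
        rw [PrimeSpectrum.mem_zeroLocus] at hq
        exact hq hπE
      obtain ⟨e, heF, heq⟩ := (q.isPrime.prod_mem_iff).mp hπq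
      have : (1 : R) ∈ q.asIdeal := by
        have := q.asIdeal.add_mem heq (hFsub heF).2
        rwa [sub_add_cancel] at this
      exact q.isPrime.ne_top ((Ideal.eq_top_iff_one _).mpr this)
  tfae_finish

end Groth.Agent.S9618
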