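import Groth.Statements.S9621
import Mathlib

set_option autoImplicit false
universe u
open CAlg

namespace Groth.Agent.S9621

/-- Let R be a ring, p a minimal prime of R and W a quasi-compact open subset of Spec R not containing
p. Then there is an f ∈ R, f ∉ p, whose basic open D(f) is disjoint from W. -/
theorem result {R : Type u} [CommRing R] (p : PrimeSpectrum R) (hp : p.asIdeal ∈ minimalPrimes R) (W : Set (PrimeSpectrum R)) (hWo : IsOpen W) (hWc : IsCompact W) (hpW : p ∉ W) :
    ∃ f : R, f ∉ p.asIdeal ∧ Disjoint (PrimeSpectrum.basicOpen f : Set (PrimeSpectrum R)) W := by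
  classical
  obtain ⟨t, ht⟩ := PrimeSpectrum.isCompact_isOpen_iff.mp ⟨hWc, hWo⟩
  have hpt : ∀ g ∈ t, g ∈ p.asIdeal := by
    intro g hg
    have : p ∈ PrimeSpectrum.zeroLocus (t : Set R) := by
      by_contra hcon
      exact hpW (ht ▸ hcon)
    exact this hg
  have key : ∀ g ∈ p.asIdeal, ∃ s : R, s ∉ p.asIdeal ∧ ∃ n : ℕ, s * g ^ n = 0 := by
    intro g hg
    have hrad := IsLocalization.AtPrime.radical_map_of_mem_minimalPrimes
      (A := Localization.AtPrime p.asIdeal) p.asIdeal ⊥ hp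
    have hmem : algebraMap R (Localization.AtPrime p.asIdeal) g ∈
        (p.asIdeal.map (algebraMap R (Localization.AtPrime p.asIdeal))) := Ideal.mem_map_of_mem _ hg
    rw [← hrad, Ideal.map_bot] at hmem
    obtain ⟨n, hn⟩ := hmem
    rw [Ideal.mem_bot, ← map_pow, IsLocalization.map_eq_zero_iff p.asIdeal.primeCompl] at hn
    obtain ⟨m, hm⟩ := hn
    exact ⟨m.1, m.2, n, hm⟩
  choose! sf hsf1 hsf2 using key
  refine ⟨∏ g ∈ t, sf g, ?_, ?_⟩
  · intro hmem
    rw [Ideal.IsPrime.prod_mem_iff] at hmem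
    obtain ⟨g, hg, hgp⟩ := hmem
    exact hsf1 g (hpt g hg) hgp
  · rw [Set.disjoint_left]
    intro q hqf hqW
    rw [← ht] at hqW
    have : ¬ ((t : Set R) ⊆ q.asIdeal) := hqW
    rw [Set.not_subset] at this
    obtain ⟨g, hg, hgq⟩ := this
    have hsq : sf g ∉ q.asIdeal := by
      intro hs
      apply hqf
      show (∏ g ∈ t, sf g) ∈ q.asIdeal
      rw [← Finset.mul_prod_erase t sf hg]
      exact Ideal.mul_mem_right _ _ hs
    obtain ⟨n, hn⟩ := hsf2 g (hpt g hg)
    have h0 : sf g * g ^ n ∈ q.asIdeal := by rw [hn]; exact zero_mem _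
    rcases q.2.mem_or_mem h0 with h | h
    · exact hsq h
    · exact hgq (q.2.mem_of_pow_mem n h)

end Groth.Agent.S9621
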