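import Groth.Statements.S9622
import Mathlib
import Groth.Agent.Lib.helper5.ArtinLocalFinite

set_option autoImplicit false
universe u
open CAlg

namespace Groth.Agent.S9622

/-- Let R → S be a ring map whose target S is a local Artinian ring, and write m for the maximal ideal
of S. Then S is a finite R-module exactly when S/m is, and S is an R-algebra of finite type exactly
when S/m is. -/
theorem result {R S : Type u} [CommRing R] [CommRing S] [Algebra R S] [IsArtinianRing S] [IsLocalRing S] :
    (Module.Finite R S ↔ Module.Finite R (S ⧸ IsLocalRing.maximalIdeal S)) ∧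
      (Algebra.FiniteType R S ↔ Algebra.FiniteType R (S ⧸ IsLocalRing.maximalIdeal S)) := by
  classical
  have hlen : IsFiniteLength S S :=
    isFiniteLength_iff_isNoetherian_isArtinian.mpr ⟨inferInstance, inferInstance⟩
  have hsurj : Function.Surjective (Ideal.Quotient.mkₐ R (IsLocalRing.maximalIdeal S)) :=
    Ideal.Quotient.mkₐ_surjective R _
  have key : ∀ (R' : Type u) [CommRing R'] [Algebra R' S],
      Module.Finite R' (S ⧸ IsLocalRing.maximalIdeal S) → Module.Finite R' S := by
    intro R' _ _ hfin
    exact H5_finite_of_isFiniteLength hfin S hlen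
  refine ⟨⟨fun h => ?_, fun h => key R h⟩, ⟨fun h => ?_, fun h => ?_⟩⟩
  · exact Module.Finite.of_surjective
      (Ideal.Quotient.mkₐ R (IsLocalRing.maximalIdeal S)).toLinearMap hsurj
  · exact Algebra.FiniteType.of_surjective
      (Ideal.Quotient.mkₐ R (IsLocalRing.maximalIdeal S)) hsurj
  · obtain ⟨t, ht⟩ := h.out
    let lift : S ⧸ IsLocalRing.maximalIdeal S → S := Function.surjInv Ideal.Quotient.mk_surjective
    have hlift : ∀ y, Ideal.Quotient.mk (IsLocalRing.maximalIdeal S) (lift y) = y :=
      Function.surjInv_eq Ideal.Quotient.mk_surjective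
    let R' : Subalgebra R S := Algebra.adjoin R ((t.image lift : Finset S) : Set S)
    have hR'fg : R'.FG := Subalgebra.fg_adjoin_finset _
    haveI : Algebra.FiniteType R R' := (Subalgebra.fg_iff_finiteType R').mp hR'fg
    have hmap : R'.map (Ideal.Quotient.mkₐ R (IsLocalRing.maximalIdeal S)) = ⊤ := by
      rw [AlgHom.map_adjoin, ← ht]
      congr 1
      ext y
      simp only [Finset.coe_image, Set.mem_image, Finset.mem_coe]
      constructor
      · rintro ⟨_, ⟨z, hz, rfl⟩, rfl⟩
        rw [Ideal.Quotient.mkₐ_eq_mk, hlift]; exact hz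
      · intro hy
        exact ⟨lift y, ⟨y, hy, rfl⟩, by rw [Ideal.Quotient.mkₐ_eq_mk, hlift]⟩
    have hfin' : Module.Finite R' (S ⧸ IsLocalRing.maximalIdeal S) := by
      refine Module.Finite.of_surjective (Algebra.linearMap R' (S ⧸ IsLocalRing.maximalIdeal S)) ?_
      intro y
      have hy : y ∈ R'.map (Ideal.Quotient.mkₐ R (IsLocalRing.maximalIdeal S)) := by
        rw [hmap]; trivial
      obtain ⟨x, hx, rfl⟩ := hy
      exact ⟨⟨x, hx⟩, rfl⟩
    haveI : Module.Finite R' S := key R' hfin'
    haveI : Algebra.FiniteType R' S := Module.Finite.finiteType S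
    exact Algebra.FiniteType.trans (S := R') inferInstance inferInstance

end Groth.Agent.S9622
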