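import Groth.Statements.S9625
import Groth.Statements.S9625
import Mathlib

set_option autoImplicit false
universe u
open CAlg

namespace Groth.Agent.S9625

open TensorProduct in
/-- Let k be a field and S a k-algebra such that Spec(k' ⊗_k S) is irreducible for every field extension
k'/k. Then every k-subalgebra of S has the same property. Here the test fields range over field
extensions in the universe of k; this is equivalent to the unrestricted notion, since an algebraic
closure of k suffices as a test. -/
theorem result {k S : Type u} [Field k] [CommRing S] [Algebra k S]
    (hS : ∀ (k' : Type u) [Field k'] [Algebra k k'], IrreducibleSpace (PrimeSpectrum (k' ⊗[k] S))) (S' : Subalgebra k S) :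
    ∀ (k' : Type u) [Field k'] [Algebra k k'], IrreducibleSpace (PrimeSpectrum (k' ⊗[k] S')) := by
  intro k' _ _
  let ι : k' ⊗[k] S' →ₐ[k'] k' ⊗[k] S := Algebra.TensorProduct.map (AlgHom.id k' k') S'.val
  have hinj : Function.Injective ι.toRingHom :=
    Module.Flat.lTensor_preserves_injective_linearMap (M := k') S'.val.toLinearMap Subtype.val_injective
  have hdense : DenseRange (PrimeSpectrum.comap ι.toRingHom) := by
    rw [PrimeSpectrum.denseRange_comap_iff_ker_le_nilRadical,
      (RingHom.injective_iff_ker_eq_bot _).mp hinj]
    exact bot_le
  have := hS k'
  rw [irreducibleSpace_def]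
  have h1 := (IrreducibleSpace.isIrreducible_univ (PrimeSpectrum (k' ⊗[k] S))).image
    (PrimeSpectrum.comap ι.toRingHom) (PrimeSpectrum.continuous_comap _).continuousOn
  have h2 := h1.closure
  rw [Set.image_univ, hdense.closure_range] at h2
  exact h2

end Groth.Agent.S9625
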