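import Groth.Statements.S9633
import Mathlib

set_option autoImplicit false
universe u
open CAlg

namespace Groth.Agent.S9633

/-- For a ring R with spectrum X the following are equivalent: (1) X is profinite, i.e. compact,
Hausdorff and totally disconnected; (2) X is Hausdorff; (3) X is totally disconnected; (4) every
quasi-compact open subset of X is closed; (5) there are no nontrivial inclusions among prime ideals
of R; (6) every prime ideal of R is maximal; (7) every prime ideal of R is a minimal prime; (8)
every standard open D(f) is closed. -/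
theorem result {R : Type u} [CommRing R] :
    [CompactSpace (PrimeSpectrum R) ∧ T2Space (PrimeSpectrum R) ∧ TotallyDisconnectedSpace (PrimeSpectrum R),
      T2Space (PrimeSpectrum R),
      TotallyDisconnectedSpace (PrimeSpectrum R),
      ∀ W : Set (PrimeSpectrum R), IsOpen W → IsCompact W → IsClosed W,
      ∀ p q : PrimeSpectrum R, p ≤ q → p = q,
      ∀ p : Ideal R, p.IsPrime → p.IsMaximal,
      ∀ p : Ideal R, p.IsPrime → p ∈ minimalPrimes R,
      ∀ f : R, IsClosed (PrimeSpectrum.basicOpen f : Set (PrimeSpectrum R))].TFAE := by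
  classical
  tfae_have 1 → 2 := fun h => h.2.1
  tfae_have 1 → 3 := fun h => h.2.2
  tfae_have 2 → 5 := by
    intro h p q hpq
    have := (PrimeSpectrum.le_iff_specializes p q).mp hpq
    exact this.eq
  tfae_have 3 → 5 := by
    intro h p q hpq
    have hsp := (PrimeSpectrum.le_iff_specializes p q).mp hpq
    have hq : q ∈ closure ({p} : Set (PrimeSpectrum R)) := specializes_iff_mem_closure.mp hsp
    have hp : p ∈ closure ({p} : Set (PrimeSpectrum R)) := subset_closure rfl
    have hpre : IsPreconnected (closure ({p} : Set (PrimeSpectrum R))) :=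
      isPreconnected_singleton.closure
    exact hpre.subsingleton hp hq
  tfae_have 5 → 6 := by
    intro h p hp
    obtain ⟨m, hm, hpm⟩ := Ideal.exists_le_maximal p hp.ne_top
    have := h ⟨p, hp⟩ ⟨m, hm.isPrime⟩ hpm
    have hpm' : p = m := congrArg PrimeSpectrum.asIdeal this
    rw [hpm']; exact hm
  tfae_have 6 → 7 := by
    intro h p hp
    obtain ⟨q, hq, hqp⟩ := Ideal.exists_minimalPrimes_le (I := ⊥) (J := p) bot_le
    have hqprime : q.IsPrime := hq.1.1
    have hqmax := h q hqprime
    have : q = p := hqmax.eq_of_le hp.ne_top hqp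
    rw [← this]; exact hq
  tfae_have 7 → 5 := by
    intro h p q hpq
    have hq := h q.asIdeal q.isPrime
    have : q.asIdeal ≤ p.asIdeal := hq.2 ⟨p.isPrime, bot_le⟩ hpq
    exact PrimeSpectrum.ext (le_antisymm hpq this)
  tfae_have 5 → 8 := by
    intro h f
    rw [← isOpen_compl_iff, isOpen_iff_forall_mem_open]
    intro p hp
    have hfp : f ∈ p.asIdeal := by
      by_contra hc; exact hp hc
    let S : Submonoid R := p.asIdeal.primeCompl ⊔ Submonoid.powers f
    by_cases h0 : (0 : R) ∈ S
    · obtain ⟨s, hs, t, ⟨n, rfl⟩, hst⟩ := Submonoid.mem_sup.mp h0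
      refine ⟨(PrimeSpectrum.basicOpen s : Set _), ?_, (PrimeSpectrum.basicOpen s).2, hs⟩
      intro q hq hqf
      have : s * f ^ n ∈ q.asIdeal := by rw [hst]; exact zero_mem _
      rcases q.isPrime.mem_or_mem this with h1 | h1
      · exact hq h1
      · exact hqf (q.isPrime.mem_of_pow_mem n h1)
    · exfalso
      have hdisj : Disjoint ((⊥ : Ideal R) : Set R) S := by
        rw [Set.disjoint_left]
        intro x hx hxS
        rw [SetLike.mem_coe, Ideal.mem_bot] at hx
        subst hx; exact h0 hxS
      obtain ⟨q, hq, -, hqS⟩ := Ideal.exists_le_prime_disjoint ⊥ S hdisj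
      have hqp : q ≤ p.asIdeal := by
        intro x hx
        by_contra hxp
        exact Set.disjoint_left.mp hqS hx (Submonoid.mem_sup_left hxp)
      have := h ⟨q, hq⟩ p hqp
      have hfq : f ∈ q := by
        have e : q = p.asIdeal := congrArg PrimeSpectrum.asIdeal this
        rw [e]; exact hfp
      exact Set.disjoint_left.mp hqS hfq (Submonoid.mem_sup_right (Submonoid.mem_powers f))
  tfae_have 8 → 4 := by
    intro h W hWo hWc
    obtain ⟨s, hs, rfl⟩ := (isCompact_open_iff_eq_finite_iUnion_of_isTopologicalBasis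
      (fun r : R => (PrimeSpectrum.basicOpen r : Set (PrimeSpectrum R)))
      PrimeSpectrum.isTopologicalBasis_basic_opens PrimeSpectrum.isCompact_basicOpen W).mp
      ⟨hWc, hWo⟩
    exact hs.isClosed_biUnion fun i _ => h i
  tfae_have 4 → 8 := fun h f =>
    h _ (PrimeSpectrum.basicOpen f).2 (PrimeSpectrum.isCompact_basicOpen f)
  tfae_have 8 → 1 := by
    intro h
    have hts : TotallySeparatedSpace (PrimeSpectrum R) := by
      rw [totallySeparatedSpace_iff_exists_isClopen]
      intro p q hpq
      have : ¬ (p.asIdeal ≤ q.asIdeal) ∨ ¬ (q.asIdeal ≤ p.asIdeal) := by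
        by_contra hc
        push Not at hc
        exact hpq (PrimeSpectrum.ext (le_antisymm hc.1 hc.2))
      rcases this with h1 | h1
      · obtain ⟨f, hfp, hfq⟩ := SetLike.not_le_iff_exists.mp h1
        refine ⟨(PrimeSpectrum.basicOpen f : Set _)ᶜ,
          ⟨(PrimeSpectrum.basicOpen f).2.isClosed_compl, (h f).isOpen_compl⟩, ?_, ?_⟩
        · exact fun hc => hc hfp
        · rw [compl_compl]; exact hfq
      · obtain ⟨f, hfq, hfp⟩ := SetLike.not_le_iff_exists.mp h1
        refine ⟨(PrimeSpectrum.basicOpen f : Set _), ⟨h f, (PrimeSpectrum.basicOpen f).2⟩, hfp, ?_⟩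
        exact fun hc => hc hfq
    exact ⟨inferInstance, inferInstance, inferInstance⟩
  tfae_finish

end Groth.Agent.S9633
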