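import Groth.Statements.S9636
import Mathlib

set_option autoImplicit false
universe u
open CAlg

namespace Groth.Agent.S9636

open TensorProduct in
/-- Let k'/k be a separable algebraic field extension. Then for some multiplicative subset S of k' ⊗_k
k' the multiplication map k' ⊗_k k' → k' is a localization at S: there is a ring isomorphism S⁻¹(k'
⊗_k k') ≅ k' carrying the localization map to the multiplication map. -/
theorem result {k k' : Type u} [Field k] [Field k'] [Algebra k k'] [Algebra.IsSeparable k k'] :
    ∃ (S : Submonoid (k' ⊗[k] k')) (e : Localization S ≃+* k'), ∀ x : k' ⊗[k] k', e (algebraMap (k' ⊗[k] k') (Localization S) x) = Algebra.TensorProduct.lmul' (S := k') k x := by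
  classical
  set μ := Algebra.TensorProduct.lmul' (S := k') k with hμ
  have hμsurj : Function.Surjective μ := fun x => ⟨x ⊗ₜ 1, by simp [μ]⟩
  have hI : RingHom.ker μ = KaehlerDifferential.ideal k k' := rfl
  -- key
  have key : ∀ s : k', ∃ c : k' ⊗[k] k', μ c = 1 ∧ c * (1 ⊗ₜ s - s ⊗ₜ 1) = 0 := by
    intro s
    let L := IntermediateField.adjoin k {s}
    haveI : FiniteDimensional k L :=
      IntermediateField.adjoin.finiteDimensional (Algebra.IsIntegral.isIntegral s)
    haveI : Algebra.IsSeparable k L := inferInstance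
    haveI : Algebra.FormallyUnramified k L := Algebra.FormallyUnramified.of_isSeparable k L
    haveI : Algebra.EssFiniteType k L := inferInstance
    let φ : L ⊗[k] L →ₐ[k] k' ⊗[k] k' := Algebra.TensorProduct.map L.val L.val
    refine ⟨φ (Algebra.FormallyUnramified.elem k L), ?_, ?_⟩
    · have : ∀ x, μ (φ x) = L.val (Algebra.TensorProduct.lmul' k x) := by
        intro x
        induction x with
        | zero => simp
        | tmul a b => simp [μ, φ]
        | add a b ha hb => simp [map_add, ha, hb]
      rw [this, Algebra.FormallyUnramified.lmul_elem]; simp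
    · let s' : L := ⟨s, IntermediateField.mem_adjoin_simple_self k s⟩
      have : (1 ⊗ₜ s - s ⊗ₜ 1 : k' ⊗[k] k') = φ (1 ⊗ₜ s' - s' ⊗ₜ 1) := by simp [φ, s']
      rw [this, ← map_mul, mul_comm (Algebra.FormallyUnramified.elem k L),
        Algebra.FormallyUnramified.one_tmul_sub_tmul_one_mul_elem, map_zero]
  have key2 : ∀ z ∈ RingHom.ker μ, ∃ c, μ c = 1 ∧ c * z = 0 := by
    intro z hz
    rw [hI, ← KaehlerDifferential.span_range_eq_ideal k k'] at hz
    refine Submodule.span_induction ?_ ?_ ?_ ?_ hz
    · rintro _ ⟨s, rfl⟩; exact key s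
    · exact ⟨1, map_one _, by simp⟩
    · rintro x y _ _ ⟨c, hc, hcx⟩ ⟨d, hd, hdy⟩
      refine ⟨c * d, by simp [hc, hd], ?_⟩
      rw [mul_add, mul_right_comm, hcx, mul_assoc, hdy]; simp
    · rintro a x _ ⟨c, hc, hcx⟩
      exact ⟨c, hc, by rw [smul_eq_mul, mul_left_comm, hcx, mul_zero]⟩
  haveI hImax : (RingHom.ker μ).IsMaximal := RingHom.ker_isMaximal_of_surjective μ hμsurj
  haveI hIprime : (RingHom.ker μ).IsPrime := hImax.isPrime
  let S : Submonoid (k' ⊗[k] k') := (RingHom.ker μ).primeCompl
  have hg : ∀ y : S, IsUnit (μ.toRingHom y) := by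
    intro y
    have : μ y ≠ 0 := fun h => y.2 h
    exact this.isUnit
  let g : Localization S →+* k' := IsLocalization.lift hg
  have hginj : Function.Injective g := by
    rw [IsLocalization.lift_injective_iff]
    intro x y
    constructor
    · intro h
      obtain ⟨c, hc⟩ := (IsLocalization.eq_iff_exists S _).1 h
      have h1 : μ c * μ x = μ c * μ y := by rw [← map_mul, ← map_mul, hc]
      have : μ c ≠ 0 := fun h => c.2 h
      exact mul_left_cancel₀ this h1
    · intro h
      have hz : x - y ∈ RingHom.ker μ := by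
        rw [RingHom.mem_ker, map_sub]; exact sub_eq_zero.2 h
      obtain ⟨c, hc, hcz⟩ := key2 _ hz
      have hcS : c ∈ S := by
        intro hc'
        have hc'' : μ c = 0 := hc'
        rw [hc] at hc''
        exact one_ne_zero hc''
      rw [IsLocalization.eq_iff_exists S]
      refine ⟨⟨c, hcS⟩, ?_⟩
      rw [mul_sub] at hcz
      exact sub_eq_zero.1 hcz
  have hgsurj : Function.Surjective g := by
    intro x
    obtain ⟨t, ht⟩ := hμsurj x
    exact ⟨algebraMap _ _ t, by rw [IsLocalization.lift_eq]; exact ht⟩
  refine ⟨S, RingEquiv.ofBijective g ⟨hginj, hgsurj⟩, ?_⟩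
  intro x
  change g _ = _
  rw [IsLocalization.lift_eq]
  rfl

end Groth.Agent.S9636
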