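import Groth.Statements.S9637
import Mathlib

set_option autoImplicit false
universe u
open CAlg

namespace Groth.Agent.S9637

/-- Let R be a local Noetherian ring, I an ideal contained in its maximal ideal, and M a finite
R-module. Then I contains an M-regular element (one acting injectively on M) if and only if no
associated prime of M contains I. -/
theorem result {R : Type u} [CommRing R] [IsNoetherianRing R] [IsLocalRing R] (I : Ideal R) (hI : I ≤ IsLocalRing.maximalIdeal R) (M : Type u) [AddCommGroup M] [Module R M] [Module.Finite R M] :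
    (∃ x ∈ I, IsSMulRegular M x) ↔ ∀ q ∈ associatedPrimes R M, ¬ I ≤ q := by
  classical
  have hzd := biUnion_associatedPrimes_eq_zero_divisors R M
  constructor
  · rintro ⟨x, hxI, hreg⟩ q hq hle
    have hx : x ∈ ⋃ p ∈ associatedPrimes R M, (p : Set R) := Set.mem_biUnion hq (hle hxI)
    rw [hzd] at hx
    obtain ⟨m, hm, hxm⟩ := hx
    exact hm (hreg (by simpa using hxm))
  · intro h
    have hfin : (associatedPrimes R M).Finite := associatedPrimes.finite R M
    have hnot : ¬ ((I : Set R) ⊆ ⋃ p ∈ (↑hfin.toFinset : Set (Ideal R)), (id p : Ideal R)) := by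
      rw [Ideal.subset_union_prime (R := R) (s := hfin.toFinset) (f := id) ⊥ ⊥]
      · rintro ⟨q, hq, hle⟩
        exact h q (by simpa using hq) hle
      · intro q hq _ _
        exact IsAssociatedPrime.isPrime (show IsAssociatedPrime q M from (by simpa using hq : q ∈ associatedPrimes R M))
    rw [Set.not_subset] at hnot
    obtain ⟨x, hxI, hx⟩ := hnot
    refine ⟨x, hxI, ?_⟩
    rw [isSMulRegular_iff_right_eq_zero_of_smul]
    intro m hxm
    by_contra hm
    apply hx
    have : x ∈ { r : R | ∃ x : M, x ≠ 0 ∧ r • x = 0 } := ⟨m, hm, hxm⟩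
    rw [← hzd] at this
    simpa using this

end Groth.Agent.S9637
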