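import Groth.Statements.S9638
import Mathlib
import Mathlib.RingTheory.Flat.TorsionFree
import Mathlib.RingTheory.Localization.Ideal

set_option autoImplicit false
universe u
open CAlg

namespace Groth.Agent.S9638

/-- Let R → S be a ring map with R a domain with fraction field K, and N an S-module flat over R.
Writing T for the image in S of the nonzero elements of R, so that T⁻¹S = S ⊗_R K and T⁻¹N = N ⊗_R
K, the associated primes of N over S (primes equal to the annihilator of an element) coincide with
those of T⁻¹N over S, and these are exactly the inverse images in S of the associated primes of T⁻¹N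
over T⁻¹S. -/
theorem result {R S : Type u} [CommRing R] [IsDomain R] [CommRing S] [Algebra R S] (N : Type u) [AddCommGroup N] [Module S N] [Module R N] [IsScalarTower R S N] [Module.Flat R N] :
    FlatCA.ass S N = FlatCA.ass S (LocalizedModule (Algebra.algebraMapSubmonoid S (nonZeroDivisors R)) N) ∧
      FlatCA.ass S N = Ideal.comap (algebraMap S (Localization (Algebra.algebraMapSubmonoid S (nonZeroDivisors R)))) '' FlatCA.ass (Localization (Algebra.algebraMapSubmonoid S (nonZeroDivisors R))) (LocalizedModule (Algebra.algebraMapSubmonoid S (nonZeroDivisors R)) N) := by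
  classical
  generalize hT : Algebra.algebraMapSubmonoid S (nonZeroDivisors R) = T
  have hF : ∀ (t : S), t ∈ T → ∀ n : N, t • n = 0 → n = 0 := by
    intro t ht n hn
    rw [← hT] at ht
    obtain ⟨r, hr, rfl⟩ : ∃ r ∈ nonZeroDivisors R, algebraMap R S r = t := ht
    rw [algebraMap_smul] at hn
    have hreg := Module.Flat.isSMulRegular_of_nonZeroDivisors (M := N) hr
    apply hreg
    show r • n = r • 0
    rw [hn, smul_zero]
  have hann : ∀ (n : N) (t : T) (s : S), s • LocalizedModule.mk n t = 0 ↔ s • n = 0 := by
    intro n t s
    rw [LocalizedModule.smul'_mk, ← LocalizedModule.zero_mk t, LocalizedModule.mk_eq]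
    constructor
    · rintro ⟨u, hu⟩
      simp only [Submonoid.smul_def, smul_zero] at hu
      exact hF t t.2 _ (hF u u.2 _ hu)
    · intro h
      exact ⟨1, by rw [h]⟩
  have hann' : ∀ (n : N) (t : T), (Submodule.span S {LocalizedModule.mk n t}).annihilator =
      (Submodule.span S {n}).annihilator := by
    intro n t
    ext s
    rw [Submodule.mem_annihilator_span_singleton, Submodule.mem_annihilator_span_singleton, hann]
  have hsurj : ∀ y : LocalizedModule T N, ∃ n t, y = LocalizedModule.mk n t :=
    fun y => LocalizedModule.induction_on (fun n t => ⟨n, t, rfl⟩) y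
  have hcomap : ∀ y : LocalizedModule T N,
      Ideal.comap (algebraMap S (Localization T))
        (Submodule.span (Localization T) {y}).annihilator =
      (Submodule.span S {y}).annihilator := by
    intro y
    ext s
    rw [Ideal.mem_comap, Submodule.mem_annihilator_span_singleton,
      Submodule.mem_annihilator_span_singleton, algebraMap_smul]
  refine ⟨?_, ?_⟩
  · ext p
    constructor
    · rintro ⟨hp, n, hpn⟩
      exact ⟨hp, LocalizedModule.mk n 1, hpn.trans (hann' n 1).symm⟩
    · rintro ⟨hp, y, hpy⟩
      obtain ⟨n, t, rfl⟩ := hsurj y
      exact ⟨hp, n, hpy.trans (hann' n t)⟩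
  · ext p
    constructor
    · rintro ⟨hp, n, hpn⟩
      have hc : Ideal.comap (algebraMap S (Localization T))
          (Submodule.span (Localization T) {LocalizedModule.mk n (1 : T)}).annihilator = p := by
        rw [hcomap, hann', hpn]
      refine ⟨(Submodule.span (Localization T) {LocalizedModule.mk n (1 : T)}).annihilator,
        ⟨?_, _, rfl⟩, hc⟩
      have hdisj : Disjoint (T : Set S) (p : Set S) := by
        refine Set.disjoint_left.2 (fun t ht htp => ?_)
        rw [hpn, SetLike.mem_coe, Submodule.mem_annihilator_span_singleton] at htp
        have hn0 : n = 0 := hF t ht n htp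
        apply hp.ne_top
        rw [Ideal.eq_top_iff_one, hpn, Submodule.mem_annihilator_span_singleton, hn0, smul_zero]
      have hprime := IsLocalization.isPrime_of_isPrime_disjoint T (Localization T) p hp hdisj
      rw [← hc, IsLocalization.map_comap T (Localization T)] at hprime
      exact hprime
    · rintro ⟨q, ⟨hq, y, hqy⟩, rfl⟩
      obtain ⟨n, t, rfl⟩ := hsurj y
      refine ⟨Ideal.IsPrime.comap _, n, ?_⟩
      rw [hqy, hcomap, hann']

end Groth.Agent.S9638
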