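import Groth.Statements.S9640
import Mathlib
import Mathlib.RingTheory.Flat.TorsionFree
import Mathlib.RingTheory.Localization.Ideal
import Mathlib.RingTheory.Ideal.MinimalPrime.Localization

set_option autoImplicit false
universe u
open CAlg

namespace Groth.Agent.S9640

/-- Let R → S be a ring map with R a domain with fraction field K and N an S-module flat over R. Writing
T for the image in S of the nonzero elements of R, so that T⁻¹S = S ⊗_R K and T⁻¹N = N ⊗_R K, the
primes of S weakly associated to N are exactly the inverse images in S of the primes of T⁻¹S weakly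
associated to T⁻¹N. -/
theorem result {R S : Type u} [CommRing R] [IsDomain R] [CommRing S] [Algebra R S] (N : Type u) [AddCommGroup N] [Module S N] [Module R N] [IsScalarTower R S N] [Module.Flat R N] :
    FlatCA.weakAss S N = Ideal.comap (algebraMap S (Localization (Algebra.algebraMapSubmonoid S (nonZeroDivisors R)))) '' FlatCA.weakAss (Localization (Algebra.algebraMapSubmonoid S (nonZeroDivisors R))) (LocalizedModule (Algebra.algebraMapSubmonoid S (nonZeroDivisors R)) N) := by
  classical
  generalize hT : Algebra.algebraMapSubmonoid S (nonZeroDivisors R) = T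
  have hF : ∀ (t : S), t ∈ T → ∀ n : N, t • n = 0 → n = 0 := by
    intro t ht n hn
    rw [← hT] at ht
    obtain ⟨r, hr, rfl⟩ : ∃ r ∈ nonZeroDivisors R, algebraMap R S r = t := ht
    rw [algebraMap_smul] at hn
    have hreg := Module.Flat.isSMulRegular_of_nonZeroDivisors (M := N) hr
    apply hreg
    show r • n = r • 0
    rw [hn, smul_zero]
  have hann : ∀ (n : N) (t : T) (s : S), s • LocalizedModule.mk n t = 0 ↔ s • n = 0 := by
    intro n t s
    rw [LocalizedModule.smul'_mk, ← LocalizedModule.zero_mk t, LocalizedModule.mk_eq]
    constructor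
    · rintro ⟨u, hu⟩
      simp only [Submonoid.smul_def, smul_zero] at hu
      exact hF t t.2 _ (hF u u.2 _ hu)
    · intro h
      exact ⟨1, by rw [h]⟩
  have hann' : ∀ (n : N) (t : T), (Submodule.span S {LocalizedModule.mk n t}).annihilator =
      (Submodule.span S {n}).annihilator := by
    intro n t
    ext s
    rw [Submodule.mem_annihilator_span_singleton, Submodule.mem_annihilator_span_singleton, hann]
  have hsurj : ∀ y : LocalizedModule T N, ∃ n t, y = LocalizedModule.mk n t :=
    fun y => LocalizedModule.induction_on (fun n t => ⟨n, t, rfl⟩) y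
  have hcomap : ∀ y : LocalizedModule T N,
      Ideal.comap (algebraMap S (Localization T))
        (Submodule.span (Localization T) {y}).annihilator =
      (Submodule.span S {y}).annihilator := by
    intro y
    ext s
    rw [Ideal.mem_comap, Submodule.mem_annihilator_span_singleton,
      Submodule.mem_annihilator_span_singleton, algebraMap_smul]
  ext p
  constructor
  · rintro ⟨n, hp⟩
    rw [← hann' n 1, ← hcomap (LocalizedModule.mk n 1),
      IsLocalization.minimalPrimes_comap T (Localization T)] at hp
    obtain ⟨q, hq, rfl⟩ := hp
    exact ⟨q, ⟨LocalizedModule.mk n 1, hq⟩, rfl⟩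
  · rintro ⟨q, ⟨y, hq⟩, rfl⟩
    obtain ⟨n, t, rfl⟩ := hsurj y
    refine ⟨n, ?_⟩
    rw [← hann' n t, ← hcomap (LocalizedModule.mk n t),
      IsLocalization.minimalPrimes_comap T (Localization T)]
    exact ⟨q, hq, rfl⟩

end Groth.Agent.S9640
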