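import Groth.Statements.S9641
import Mathlib

set_option autoImplicit false
universe u
open CAlg

namespace Groth.Agent.S9641

open TensorProduct in
/-- Let k be a field and R, S two k-algebras. If R ⊗_k S is not reduced then there are finitely
generated k-subalgebras R' ⊆ R and S' ⊆ S such that R' ⊗_k S' is not reduced. -/
theorem result {k R S : Type u} [Field k] [CommRing R] [CommRing S] [Algebra k R] [Algebra k S] (h : ¬ IsReduced (R ⊗[k] S)) :
    ∃ (R' : Subalgebra k R) (S' : Subalgebra k S), R'.FG ∧ S'.FG ∧ ¬ IsReduced (R' ⊗[k] S') := by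
  classical
  have h' : ∃ z : R ⊗[k] S, IsNilpotent z ∧ z ≠ 0 := by
    by_contra hcon
    push Not at hcon
    exact h ⟨fun z hz => hcon z hz⟩
  obtain ⟨z, ⟨n, hzn⟩, hz0⟩ := h'
  obtain ⟨F, hF⟩ := TensorProduct.exists_finset z
  let R' : Subalgebra k R := Algebra.adjoin k ((F.image Prod.fst : Finset R) : Set R)
  let S' : Subalgebra k S := Algebra.adjoin k ((F.image Prod.snd : Finset S) : Set S)
  have hR' : ∀ i ∈ F, i.1 ∈ R' := fun i hi =>
    Algebra.subset_adjoin (Finset.mem_coe.mpr (Finset.mem_image_of_mem Prod.fst hi))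
  have hS' : ∀ i ∈ F, i.2 ∈ S' := fun i hi =>
    Algebra.subset_adjoin (Finset.mem_coe.mpr (Finset.mem_image_of_mem Prod.snd hi))
  refine ⟨R', S', Subalgebra.fg_adjoin_finset _, Subalgebra.fg_adjoin_finset _, ?_⟩
  let ψ : R' ⊗[k] S' →ₐ[k] R ⊗[k] S := Algebra.TensorProduct.map R'.val S'.val
  have hψinj : Function.Injective ψ := by
    have := TensorProduct.map_injective_of_flat_flat R'.val.toLinearMap S'.val.toLinearMap
      Subtype.val_injective Subtype.val_injective
    exact this
  let z' : R' ⊗[k] S' := ∑ i ∈ F.attach, (⟨i.1.1, hR' i.1 i.2⟩ : R') ⊗ₜ[k] (⟨i.1.2, hS' i.1 i.2⟩ : S')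
  have hψz : ψ z' = z := by
    simp only [z', map_sum, ψ, Algebra.TensorProduct.map_tmul, Subalgebra.coe_val]
    rw [hF, ← Finset.sum_attach F]
  intro hred
  have hnil : IsNilpotent z' := ⟨n, hψinj (by rw [map_pow, hψz, hzn, map_zero])⟩
  have := hred.eq_zero z' hnil
  rw [this, map_zero] at hψz
  exact hz0 hψz.symm

end Groth.Agent.S9641
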