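import Groth.Statements.S9642
import Mathlib
import Mathlib.RingTheory.LocalRing.ResidueField.Fiber

set_option autoImplicit false
universe u
open CAlg

namespace Groth.Agent.S9642

/-- In the general form stated there: let R → S be a ring map inducing an open map Spec(S) → Spec(R),
with Spec(R) irreducible, such that for a dense set of primes p of R the fibre ring κ(p) ⊗_R S has
irreducible spectrum. Then Spec(S) is irreducible. The flat and finitely presented case is the
special case in which the map on spectra is open by fppf-openness. -/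
theorem result {R S : Type u} [CommRing R] [CommRing S] [Algebra R S]
    (hopen : IsOpenMap (PrimeSpectrum.comap (algebraMap R S))) [IrreducibleSpace (PrimeSpectrum R)]
    (D : Set (PrimeSpectrum R)) (hD : Dense D) (hfib : ∀ p ∈ D, IrreducibleSpace (PrimeSpectrum (p.asIdeal.Fiber S))) :
    IrreducibleSpace (PrimeSpectrum S) := by
  have hF : ∀ p ∈ D, IsIrreducible (PrimeSpectrum.comap (algebraMap R S) ⁻¹' {p}) := by
    intro p hp
    haveI := hfib p hp
    let e := PrimeSpectrum.preimageHomeomorphFiber R S p
    have h1 := (IrreducibleSpace.isIrreducible_univ (PrimeSpectrum (p.asIdeal.Fiber S))).image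
      (Subtype.val ∘ e.symm) (continuous_subtype_val.comp e.symm.continuous).continuousOn
    have h2 : (Subtype.val ∘ e.symm) '' Set.univ =
        PrimeSpectrum.comap (algebraMap R S) ⁻¹' {p} := by
      rw [Set.image_univ, Set.range_comp, e.symm.surjective.range_eq, Set.image_univ,
        Subtype.range_coe]
    rw [h2] at h1
    exact h1
  refine { isPreirreducible_univ := ?_, toNonempty := ?_ }
  · intro U V hU hV hUne hVne
    rw [Set.univ_inter] at hUne hVne ⊢
    have hW := nonempty_preirreducible_inter (hopen U hU) (hopen V hV)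
      (hUne.image _) (hVne.image _)
    obtain ⟨p, ⟨⟨u, huU, hup⟩, ⟨v, hvV, hvp⟩⟩, hpD⟩ :=
      hD.inter_open_nonempty _ ((hopen U hU).inter (hopen V hV)) hW
    obtain ⟨w, hwF, hwU, hwV⟩ := (hF p hpD).2 U V hU hV ⟨u, hup, huU⟩ ⟨v, hvp, hvV⟩
    exact ⟨w, hwU, hwV⟩
  · obtain ⟨p, hp⟩ := hD.nonempty
    obtain ⟨w, _⟩ := (hF p hp).1
    exact ⟨w⟩

end Groth.Agent.S9642
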