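import Groth.Statements.S9643
import Mathlib

set_option autoImplicit false
universe u
open CAlg

namespace Groth.Agent.S9643

/-- Let R be a Noetherian ring, M a finite R-module and 0 = M_0 ⊆ M_1 ⊆ ⋯ ⊆ M_n = M a chain of
submodules whose successive quotients M_i/M_{i-1} are isomorphic to R/p_i for prime ideals p_i. Then
the primes minimal among p_1, …, p_n are exactly the primes minimal in the support of M. -/
theorem result {R : Type u} [CommRing R] [IsNoetherianRing R] (M : Type u) [AddCommGroup M] [Module R M] [Module.Finite R M]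
    {n : ℕ} (N : Fin (n + 1) → Submodule R M) (hN : Monotone N) (h0 : N 0 = ⊥) (hlast : N (Fin.last n) = ⊤)
    (p : Fin n → PrimeSpectrum R)
    (hquot : ∀ i : Fin n, Nonempty ((↥(N i.succ) ⧸ Submodule.comap (N i.succ).subtype (N i.castSucc)) ≃ₗ[R] (R ⧸ (p i).asIdeal))) :
    {q : PrimeSpectrum R | Minimal (fun x => x ∈ Set.range p) q} = {q : PrimeSpectrum R | Minimal (fun x => x ∈ Module.support R M) q} := by
  classical
  have hquotsupp : ∀ I : Ideal R, Module.support R (R ⧸ I) = PrimeSpectrum.zeroLocus (I : Set R) := by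
    intro I
    rw [Module.support_of_algebra]
    congr 1
    have : RingHom.ker (algebraMap R (R ⧸ I)) = I := by
      rw [Ideal.Quotient.algebraMap_eq, Ideal.mk_ker]
    rw [this]
  -- support of each step
  have hstep : ∀ i : Fin (n + 1), Module.support R ↥(N i) =
      {q : PrimeSpectrum R | ∃ j : Fin n, j.castSucc < i ∧ (p j).asIdeal ≤ q.asIdeal} := by
    intro i
    induction i using Fin.induction with
    | zero =>
      have hsub : Subsingleton ↥(N 0) := by
        rw [h0]; infer_instance
      rw [Module.support_eq_empty_iff.mpr hsub]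
      ext q
      simp only [Set.mem_empty_iff_false, Set.mem_setOf_eq, false_iff, not_exists, not_and]
      intro j hj
      exact absurd hj (Fin.not_lt_zero _)
    | succ i ih =>
      have hle : N i.castSucc ≤ N i.succ := hN (Fin.castSucc_le_succ i)
      have hexact : Function.Exact (Submodule.inclusion hle)
          (Submodule.comap (N i.succ).subtype (N i.castSucc)).mkQ := by
        rw [LinearMap.exact_iff, Submodule.ker_mkQ, Submodule.range_inclusion]
      have h1 := Module.support_of_exact hexact (Submodule.inclusion_injective hle)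
        (Submodule.mkQ_surjective _)
      obtain ⟨e⟩ := hquot i
      rw [h1, ih, e.support_eq, hquotsupp]
      ext q
      simp only [Set.mem_union, Set.mem_setOf_eq, PrimeSpectrum.mem_zeroLocus,
        SetLike.coe_subset_coe]
      constructor
      · rintro (⟨j, hj, hjq⟩ | hq)
        · exact ⟨j, lt_of_lt_of_le hj (Fin.castSucc_le_succ i), hjq⟩
        · exact ⟨i, Fin.castSucc_lt_succ, hq⟩
      · rintro ⟨j, hj, hjq⟩
        by_cases hji : j = i
        · subst hji; exact Or.inr hjq
        · left
          refine ⟨j, ?_, hjq⟩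
          rw [Fin.castSucc_lt_succ_iff] at hj
          exact Fin.castSucc_lt_castSucc_iff.mpr (lt_of_le_of_ne hj hji)
  have hsupp : Module.support R M =
      {q : PrimeSpectrum R | ∃ j : Fin n, (p j).asIdeal ≤ q.asIdeal} := by
    have e : ↥(N (Fin.last n)) ≃ₗ[R] M :=
      (LinearEquiv.ofEq _ _ hlast).trans Submodule.topEquiv
    rw [← e.support_eq, hstep]
    ext q
    simp only [Set.mem_setOf_eq]
    exact ⟨fun ⟨j, _, h⟩ => ⟨j, h⟩, fun ⟨j, h⟩ => ⟨j, Fin.castSucc_lt_last j, h⟩⟩
  have hmem : ∀ j, p j ∈ Module.support R M := by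
    intro j; rw [hsupp]; exact ⟨j, le_rfl⟩
  ext q
  simp only [Set.mem_setOf_eq]
  constructor
  · rintro ⟨⟨j, rfl⟩, hmin⟩
    refine ⟨hmem j, fun q' hq' hle => ?_⟩
    rw [hsupp] at hq'
    obtain ⟨j', hj'⟩ := hq'
    have h1 : p j' ≤ p j := le_trans hj' hle
    have h2 : p j ≤ p j' := hmin ⟨j', rfl⟩ h1
    exact le_trans h2 hj'
  · rintro ⟨hq, hmin⟩
    have hq' := hq
    rw [hsupp] at hq'
    obtain ⟨j, hj⟩ := hq'
    have hjq : p j ≤ q := hj
    have hqj : q ≤ p j := hmin (hmem j) hjq
    have heq : q = p j := le_antisymm hqj hjq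
    refine ⟨⟨j, heq.symm⟩, fun q' hq'r hle => ?_⟩
    obtain ⟨j', rfl⟩ := hq'r
    exact hmin (hmem j') hle

end Groth.Agent.S9643
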