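import Groth.Statements.S9646
import Mathlib

set_option autoImplicit false
universe u
open CAlg

namespace Groth.Agent.S9646

/-- (2) ⇒ (1): let R → S be a ring map and x ∈ S. If for every prime ideal p of R the image of x in S_p
(the localization of S at the image of R ∖ p) is integral over R_p, then x is integral over R. Here
R_p and S_p are any rings satisfying the localization universal properties. -/
theorem result {R S : Type u} [CommRing R] [CommRing S] [Algebra R S] (x : S)
    (h : ∀ (p : Ideal R) [p.IsPrime] (Rp Sp : Type u) [CommRing Rp] [CommRing Sp] [Algebra R Rp] [Algebra S Sp] [Algebra Rp Sp] [Algebra R Sp] [IsScalarTower R S Sp] [IsScalarTower R Rp Sp] [IsLocalization.AtPrime Rp p] [IsLocalization (Algebra.algebraMapSubmonoid S p.primeCompl) Sp], IsIntegral Rp (algebraMap S Sp x)) :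
    IsIntegral R x := by
  classical
  let I : Ideal R :=
    { carrier := {r | IsIntegral R (r • x)}
      add_mem' := by
        intro a b ha hb
        simp only [Set.mem_setOf_eq] at ha hb ⊢
        rw [add_smul]; exact ha.add hb
      zero_mem' := by simp [isIntegral_zero]
      smul_mem' := by
        intro c a ha
        simp only [Set.mem_setOf_eq] at ha ⊢
        rw [smul_eq_mul, mul_smul, Algebra.smul_def c]
        exact isIntegral_algebraMap.mul ha }
  by_contra hx
  have hI : I ≠ ⊤ := by
    intro htop
    have : (1 : R) ∈ I := htop ▸ Submodule.mem_top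
    apply hx
    simpa [I] using this
  obtain ⟨p, hpmax, hIp⟩ := Ideal.exists_le_maximal I hI
  have hpprime : p.IsPrime := hpmax.isPrime
  have h1 := h p (Localization.AtPrime p) (Localization (Algebra.algebraMapSubmonoid S p.primeCompl))
  obtain ⟨⟨m₂, hm₂⟩, hm₂s⟩ := IsIntegral.exists_multiple_integral_of_isLocalization p.primeCompl _ h1
  simp only [Submonoid.smul_def] at hm₂s
  obtain ⟨m₃, hm₃, hm₃s⟩ := IsLocalization.exists_isIntegral_smul_of_isIntegral_map
    (Sₘ := Localization (Algebra.algebraMapSubmonoid S p.primeCompl))
    p.primeCompl (x := m₂ • x) <| by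
      rw [Algebra.smul_def, map_mul, ← IsScalarTower.algebraMap_apply, ← Algebra.smul_def]
      exact hm₂s
  have hmem : m₃ * m₂ ∈ I := by
    show IsIntegral R ((m₃ * m₂) • x)
    rw [mul_smul]; exact hm₃s
  exact (mul_mem hm₃ hm₂ : m₃ * m₂ ∈ p.primeCompl) (hIp hmem)

end Groth.Agent.S9646
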