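import Groth.Statements.S9650
import Mathlib
import Mathlib.FieldTheory.SeparablyGenerated
import Mathlib.FieldTheory.PrimitiveElement

set_option autoImplicit false
universe u
open CAlg

namespace Groth.Agent.S9650

/-- Let K/k be a finitely generated field extension that is separably generated, i.e. admits a
transcendence basis over whose generated subfield K is separable algebraic. Then K is generated over
k by finitely many elements x_1, …, x_r, y such that the x_i form a transcendence basis of K/k and y
is separable over the subfield k(x_1, …, x_r). -/
theorem result {k K : Type u} [Field k] [Field K] [Algebra k K]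
    (hfg : ∃ s : Finset K, IntermediateField.adjoin k (s : Set K) = ⊤)
    (hsep : ∃ (ι : Type u) (x : ι → K), IsTranscendenceBasis k x ∧ Algebra.IsSeparable (IntermediateField.adjoin k (Set.range x)) K) :
    ∃ (r : ℕ) (x : Fin r → K) (y : K), IsTranscendenceBasis k x ∧ IntermediateField.adjoin k (insert y (Set.range x)) = ⊤ ∧ IsSeparable (IntermediateField.adjoin k (Set.range x)) y := by
  obtain ⟨s, hs⟩ := hfg
  obtain ⟨ι, x, hx, hsepx⟩ := hsep
  haveI halg : Algebra.IsAlgebraic (Algebra.adjoin k (s : Set K)) K := by
    rw [← IntermediateField.isAlgebraic_adjoin_iff_top, hs, Algebra.isAlgebraic_iff_isIntegral]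
    exact Algebra.isIntegral_of_surjective IntermediateField.topEquiv.surjective
  haveI : Finite ι := by
    have h1 := Algebra.IsAlgebraic.trdeg_le_cardinalMk k (s : Set K)
    rw [← hx.cardinalMk_eq_trdeg] at h1
    exact Cardinal.lt_aleph0_iff_finite.1
      (lt_of_le_of_lt h1 (Cardinal.lt_aleph0_iff_set_finite.2 s.finite_toSet))
  obtain ⟨x', hx', hr⟩ : ∃ x' : Fin (Nat.card ι) → K, IsTranscendenceBasis k x' ∧
      Set.range x' = Set.range x :=
    ⟨x ∘ (Finite.equivFin ι).symm, (isTranscendenceBasis_equiv (Finite.equivFin ι).symm).2 hx,
      (Finite.equivFin ι).symm.surjective.range_comp x⟩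
  have hsepx' : Algebra.IsSeparable (IntermediateField.adjoin k (Set.range x')) K := by
    rw [hr]; exact hsepx
  have htop : IntermediateField.adjoin (IntermediateField.adjoin k (Set.range x')) (s : Set K) = ⊤ := by
    have hle : IntermediateField.adjoin k (s : Set K) ≤
        (IntermediateField.adjoin (IntermediateField.adjoin k (Set.range x')) (s : Set K)).restrictScalars k :=
      IntermediateField.adjoin_le_iff.2 (fun a ha => IntermediateField.subset_adjoin _ _ ha)
    rw [hs] at hle
    exact eq_top_iff.2 (fun a _ => hle IntermediateField.mem_top)
  haveI : FiniteDimensional (IntermediateField.adjoin k (Set.range x')) K := by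
    have h1 : FiniteDimensional (IntermediateField.adjoin k (Set.range x'))
        (IntermediateField.adjoin (IntermediateField.adjoin k (Set.range x')) (s : Set K)) :=
      IntermediateField.finiteDimensional_adjoin
        (fun a _ => Algebra.IsSeparable.isIntegral _ a)
    rw [htop] at h1
    exact (IntermediateField.topEquiv (F := IntermediateField.adjoin k (Set.range x'))
      (E := K)).toLinearEquiv.finiteDimensional
  obtain ⟨y, hy⟩ := Field.exists_primitive_element (IntermediateField.adjoin k (Set.range x')) K
  refine ⟨Nat.card ι, x', y, hx', ?_, Algebra.IsSeparable.isSeparable _ y⟩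
  rw [← Set.union_singleton, ← IntermediateField.adjoin_adjoin_left, hy,
    IntermediateField.restrictScalars_top]

end Groth.Agent.S9650
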