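import Groth.Statements.S9656
import Mathlib

set_option autoImplicit false
universe u
open CAlg

namespace Groth.Agent.S9656

/-- Let R_i → S_i be ring maps indexed by a finite type ι, with product map R = Π R_i → S = Π S_i. Then
an element (s_i) of S is integral over R exactly when s_i is integral over R_i for every i; so
integral closure in a finite product is computed factor by factor. -/
theorem result {ι : Type u} [Fintype ι] {R S : ι → Type u} [∀ i, CommRing (R i)] [∀ i, CommRing (S i)] (f : ∀ i, R i →+* S i) (s : ∀ i, S i) :
    (RingHom.pi fun i => (f i).comp (Pi.evalRingHom R i)).IsIntegralElem s ↔ ∀ i, (f i).IsIntegralElem (s i) := by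
  classical
  constructor
  · rintro ⟨p, hp, hp0⟩ i
    refine ⟨p.map (Pi.evalRingHom R i), hp.map _, ?_⟩
    rw [Polynomial.eval₂_map]
    have := congrArg (Pi.evalRingHom S i) hp0
    rw [Polynomial.hom_eval₂] at this
    exact this
  · intro h
    choose p hp hp0 using h
    let N := Finset.univ.sup fun i => (p i).natDegree
    let q : ∀ i, Polynomial (R i) := fun i => p i * Polynomial.X ^ (N - (p i).natDegree)
    have hqm : ∀ i, (q i).Monic := fun i => (hp i).mul (Polynomial.monic_X_pow _)
    have hqle : ∀ i, (q i).natDegree ≤ N := by
      intro i
      have hle : (p i).natDegree ≤ N := Finset.le_sup (f := fun i => (p i).natDegree) (Finset.mem_univ i)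
      refine (Polynomial.natDegree_mul_le).trans ?_
      have := Polynomial.natDegree_X_pow_le (R := R i) (N - (p i).natDegree)
      omega
    have hqN : ∀ i, (q i).coeff N = 1 := by
      intro i
      rcases subsingleton_or_nontrivial (R i) with hs | hn
      · exact Subsingleton.elim _ _
      · have hle : (p i).natDegree ≤ N := Finset.le_sup (f := fun i => (p i).natDegree) (Finset.mem_univ i)
        have hd : (q i).natDegree = N := by
          rw [(hp i).natDegree_mul (Polynomial.monic_X_pow _), Polynomial.natDegree_X_pow]
          omega
        have := hqm i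
        rw [Polynomial.Monic, Polynomial.leadingCoeff, hd] at this
        exact this
    have hq0 : ∀ i, Polynomial.eval₂ (f i) (s i) (q i) = 0 := by
      intro i
      simp [q, Polynomial.eval₂_mul, hp0 i]
    let P : Polynomial (∀ i, R i) :=
      ∑ n ∈ Finset.range (N + 1), Polynomial.monomial n (fun i => (q i).coeff n)
    have hPc : ∀ n, P.coeff n = fun i => (q i).coeff n := by
      intro n
      simp only [P, Polynomial.finsetSum_coeff, Polynomial.coeff_monomial]
      by_cases hn : n ∈ Finset.range (N + 1)
      · rw [Finset.sum_eq_single n]
        · simp
        · intro b _ hb; simp [hb]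
        · intro h'; exact absurd hn h'
      · rw [Finset.sum_eq_zero]
        · funext i
          have : N < n := by simpa using hn
          rw [Polynomial.coeff_eq_zero_of_natDegree_lt (lt_of_le_of_lt (hqle i) this)]
          rfl
        · intro b hb
          have : b ≠ n := fun h' => hn (h' ▸ hb)
          simp [this]
    have hPmap : ∀ i, P.map (Pi.evalRingHom R i) = q i := by
      intro i
      ext n
      rw [Polynomial.coeff_map, hPc]
      rfl
    have hPm : P.Monic := by
      apply Polynomial.monic_of_natDegree_le_of_coeff_eq_one N
      · rw [Polynomial.natDegree_le_iff_coeff_eq_zero]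
        intro n hn
        rw [hPc]
        funext i
        rw [Polynomial.coeff_eq_zero_of_natDegree_lt (lt_of_le_of_lt (hqle i) hn)]
        rfl
      · rw [hPc]
        funext i
        rw [hqN i]; rfl
    refine ⟨P, hPm, ?_⟩
    funext i
    have : (Pi.evalRingHom S i) (Polynomial.eval₂ (RingHom.pi fun i => (f i).comp (Pi.evalRingHom R i)) s P)
        = Polynomial.eval₂ (f i) (s i) (q i) := by
      rw [Polynomial.hom_eval₂, ← hPmap i, Polynomial.eval₂_map]
      rfl
    rw [hq0 i] at this
    exact this

end Groth.Agent.S9656
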