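import Groth.Statements.S9658
import Mathlib

set_option autoImplicit false
universe u
open CAlg

namespace Groth.Agent.S9658

/-- Let R be a ring, f_1, …, f_n ∈ R generating the unit ideal and M an R-module. With M_i = M_{f_i},
M_ij = M_{f_i f_j} (any localizations, with the canonical compatible maps M → M_i → M_ij), the
sequence 0 → M → ⊕ M_i → ⊕ M_ij is exact: an element of M whose image vanishes in every M_i is zero,
and every family (m_i ∈ M_i) such that m_i and m_j have the same image in M_ij for all i, j is the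
image of an element of M. -/
theorem result {R : Type u} [CommRing R] {ι : Type u} [Fintype ι] (f : ι → R) (hf : Ideal.span (Set.range f) = ⊤)
    (M : Type u) [AddCommGroup M] [Module R M]
    (Mi : ι → Type u) [∀ i, AddCommGroup (Mi i)] [∀ i, Module R (Mi i)] (g : ∀ i, M →ₗ[R] Mi i) [∀ i, IsLocalizedModule (Submonoid.powers (f i)) (g i)]
    (Mij : ι → ι → Type u) [∀ i j, AddCommGroup (Mij i j)] [∀ i j, Module R (Mij i j)] (gij : ∀ i j, M →ₗ[R] Mij i j) [∀ i j, IsLocalizedModule (Submonoid.powers (f i * f j)) (gij i j)]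
    (ρ₁ : ∀ i j, Mi i →ₗ[R] Mij i j) (hρ₁ : ∀ i j, ρ₁ i j ∘ₗ g i = gij i j) (ρ₂ : ∀ i j, Mi j →ₗ[R] Mij i j) (hρ₂ : ∀ i j, ρ₂ i j ∘ₗ g j = gij i j) :
    (∀ m : M, (∀ i, g i m = 0) → m = 0) ∧
      ∀ s : ∀ i, Mi i, (∀ i j, ρ₁ i j (s i) = ρ₂ i j (s j)) → ∃ m : M, ∀ i, g i m = s i := by
  classical
  constructor
  · intro m hm
    have : m ∈ (⊥ : Submodule R M) := by
      refine Submodule.mem_of_span_eq_top_of_smul_pow_mem ⊥ (Set.range f) hf m ?_
      rintro ⟨_, i, rfl⟩
      have h0 : g i m = g i 0 := by rw [hm i, map_zero]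
      obtain ⟨⟨_, n, rfl⟩, hc⟩ := IsLocalizedModule.exists_of_eq (S := Submonoid.powers (f i)) h0
      refine ⟨n, ?_⟩
      rw [Submodule.mem_bot]
      simpa [Submonoid.smul_def] using hc
    exact (Submodule.mem_bot R).mp this
  · intro s hs
    -- step 1: clear denominators
    have h1 : ∀ i, ∃ (n : ℕ) (m : M), (f i ^ n) • s i = g i m := by
      intro i
      obtain ⟨⟨m, ⟨_, n, rfl⟩⟩, hm⟩ := IsLocalizedModule.surj (Submonoid.powers (f i)) (g i) (s i)
      exact ⟨n, m, by simpa [Submonoid.smul_def] using hm⟩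
    choose n m hnm using h1
    let N := Finset.univ.sup n
    have hnN : ∀ i, n i ≤ N := fun i => Finset.le_sup (Finset.mem_univ i)
    obtain ⟨m', hm'def⟩ : ∃ m' : ι → M, ∀ i, m' i = (f i ^ (N - n i)) • m i := ⟨_, fun _ => rfl⟩
    have hm' : ∀ i, (f i ^ N) • s i = g i (m' i) := by
      intro i
      have : f i ^ N = f i ^ (N - n i) * f i ^ (n i) := by
        rw [← pow_add, Nat.sub_add_cancel (hnN i)]
      rw [this, mul_smul, hnm i, ← map_smul, hm'def]
    -- step 2: compatibility
    have h2 : ∀ i j, ∃ k : ℕ, ((f i * f j) ^ k) • ((f j ^ N) • m' i) =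
        ((f i * f j) ^ k) • ((f i ^ N) • m' j) := by
      intro i j
      have e1 : ∀ x, gij i j x = ρ₁ i j (g i x) := fun x => by rw [← hρ₁ i j]; rfl
      have e2 : ∀ x, gij i j x = ρ₂ i j (g j x) := fun x => by rw [← hρ₂ i j]; rfl
      have heq : gij i j ((f j ^ N) • m' i) = gij i j ((f i ^ N) • m' j) := by
        rw [map_smul, map_smul, e1 (m' i), e2 (m' j), ← hm' i, ← hm' j, map_smul, map_smul,
          hs i j, smul_comm]
      obtain ⟨⟨_, k, rfl⟩, hc⟩ :=
        IsLocalizedModule.exists_of_eq (S := Submonoid.powers (f i * f j)) heq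
      exact ⟨k, by simpa [Submonoid.smul_def] using hc⟩
    choose k hk using h2
    let K := (Finset.univ ×ˢ Finset.univ).sup (fun p : ι × ι => k p.1 p.2)
    have hkK : ∀ i j, k i j ≤ K := fun i j =>
      Finset.le_sup (s := Finset.univ ×ˢ Finset.univ) (f := fun p : ι × ι => k p.1 p.2)
        (b := (i, j)) (Finset.mem_product.mpr ⟨Finset.mem_univ i, Finset.mem_univ j⟩)
    have hK : ∀ i j, ((f i * f j) ^ K) • ((f j ^ N) • m' i) =
        ((f i * f j) ^ K) • ((f i ^ N) • m' j) := by
      intro i j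
      have : (f i * f j) ^ K = (f i * f j) ^ (K - k i j) * (f i * f j) ^ (k i j) := by
        rw [← pow_add, Nat.sub_add_cancel (hkK i j)]
      rw [this, mul_smul, mul_smul, hk i j]
    obtain ⟨m'', hm''def⟩ : ∃ m'' : ι → M, ∀ i, m'' i = (f i ^ K) • m' i := ⟨_, fun _ => rfl⟩
    have hm'' : ∀ i, (f i ^ (N + K)) • s i = g i (m'' i) := by
      intro i
      rw [pow_add, mul_comm, mul_smul, hm' i, ← map_smul, hm''def]
    have hcomp : ∀ i j, (f j ^ (N + K)) • m'' i = (f i ^ (N + K)) • m'' j := by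
      intro i j
      have e1 : (f j ^ (N + K)) • m'' i = ((f i * f j) ^ K) • ((f j ^ N) • m' i) := by
        simp only [hm''def, smul_smul]; congr 1; ring
      have e2 : (f i ^ (N + K)) • m'' j = ((f i * f j) ^ K) • ((f i ^ N) • m' j) := by
        simp only [hm''def, smul_smul]; congr 1; ring
      rw [e1, e2, hK i j]
    -- step 3: partition of unity
    have htop : Ideal.span (Set.range fun i => f i ^ (N + K)) = ⊤ := by
      have := Ideal.span_pow_eq_top (Set.range f) hf (N + K)
      rwa [← Set.range_comp] at this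
    have hone : (1 : R) ∈ Ideal.span (Set.range fun i => f i ^ (N + K)) := by rw [htop]; trivial
    obtain ⟨a, ha⟩ := Ideal.mem_span_range_iff_exists_fun.mp hone
    refine ⟨∑ i, a i • m'' i, fun j => ?_⟩
    have hj : (f j ^ (N + K)) • (∑ i, a i • m'' i) = m'' j := by
      rw [Finset.smul_sum]
      have : ∀ i, (f j ^ (N + K)) • a i • m'' i = (a i * f i ^ (N + K)) • m'' j := by
        intro i
        rw [smul_comm, hcomp i j, smul_smul]
      simp_rw [this]
      rw [← Finset.sum_smul, ha, one_smul]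
    have hfin : (f j ^ (N + K)) • g j (∑ i, a i • m'' i) = (f j ^ (N + K)) • s j := by
      rw [← map_smul, hj, hm'' j]
    exact IsLocalizedModule.smul_injective (g j)
      (⟨f j ^ (N + K), N + K, rfl⟩ : Submonoid.powers (f j)) hfin

end Groth.Agent.S9658
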