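import Groth.Statements.S9664
import Mathlib
import Mathlib.RingTheory.LocalRing.ResidueField.Fiber

set_option autoImplicit false
universe u
open CAlg

namespace Groth.Agent.S9664

/-- Let R → S be a ring map, N an S-module, q a prime of S and p the prime of R below q; an associated
prime of a module is a prime ideal equal to the annihilator of some element. Then q is an associated
prime of the S-module N ⊗_R κ(p) (the fibre module of N over p, an S-module by restriction of
scalars along S → S ⊗_R κ(p)) if and only if q is the inverse image in S of an associated prime of N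
⊗_R κ(p) regarded as a module over the fibre ring S ⊗_R κ(p). -/
theorem result {R S : Type u} [CommRing R] [CommRing S] [Algebra R S] (N : Type u) [AddCommGroup N] [Module S N] [Module R N] [IsScalarTower R S N]
    (p : Ideal R) [p.IsPrime] (q : Ideal S) [q.IsPrime] (hq : q.comap (algebraMap R S) = p) :
    q ∈ FlatCA.ass S (FlatCA.fiberMod p S N) ↔
      ∃ Q ∈ FlatCA.ass (p.Fiber S) (FlatCA.fiberMod p S N),
        Q.comap (Algebra.TensorProduct.includeRight (R := R) (A := p.ResidueField) (B := S)).toRingHom = q := by
  classical
  letI : Algebra S (p.Fiber S) := Algebra.TensorProduct.rightAlgebra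
  have hC0 : ∀ (s : S) (m : TensorProduct S (p.Fiber S) N),
      s • m = ((1 : p.ResidueField) ⊗ₜ[R] s : p.Fiber S) • m := by
    intro s m
    induction m using TensorProduct.induction_on with
    | zero => rw [smul_zero, smul_zero]
    | tmul t n =>
      rw [TensorProduct.smul_tmul', TensorProduct.smul_tmul', smul_eq_mul, Algebra.smul_def]
      rfl
    | add a b ha hb => rw [smul_add, smul_add, ha, hb]
  have hC : ∀ (s : S) (m : FlatCA.fiberMod p S N),
      s • m = ((1 : p.ResidueField) ⊗ₜ[R] s : p.Fiber S) • m := fun s m => hC0 s m
  have hunit : ∀ r : R, r ∉ p → IsUnit (algebraMap R (p.Fiber S) r) := by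
    intro r hr
    have hne : algebraMap R p.ResidueField r ≠ 0 := fun h0 =>
      hr (Ideal.algebraMap_residueField_eq_zero.1 h0)
    have hu := (IsUnit.mk0 _ hne).map
      (Algebra.TensorProduct.includeLeft : p.ResidueField →ₐ[R] p.Fiber S)
    rwa [AlgHom.commutes] at hu
  have hcomap : ∀ (m : FlatCA.fiberMod p S N),
      Ideal.comap (Algebra.TensorProduct.includeRight (R := R) (A := p.ResidueField)
        (B := S)).toRingHom (Submodule.span (p.Fiber S) {m}).annihilator =
      (Submodule.span S {m}).annihilator := by
    intro m
    ext s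
    rw [Ideal.mem_comap, Submodule.mem_annihilator_span_singleton,
      Submodule.mem_annihilator_span_singleton, hC]
    rfl
  constructor
  · rintro ⟨hq', m, hm⟩
    refine ⟨(Submodule.span (p.Fiber S) {m}).annihilator, ⟨?_, m, rfl⟩, (hcomap m).trans hm.symm⟩
    rw [Ideal.isPrime_iff]
    constructor
    · intro htop
      have h1 : (1 : p.Fiber S) ∈ (Submodule.span (p.Fiber S) {m}).annihilator := by
        rw [htop]; trivial
      rw [Submodule.mem_annihilator_span_singleton, one_smul] at h1
      apply hq'.ne_top
      rw [Ideal.eq_top_iff_one, hm, Submodule.mem_annihilator_span_singleton, h1, smul_zero]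
    · intro x y hxy
      rw [Submodule.mem_annihilator_span_singleton] at hxy
      obtain ⟨r, hr, s, e⟩ := Ideal.Fiber.exists_smul_eq_one_tmul p x
      obtain ⟨r', hr', s', e'⟩ := Ideal.Fiber.exists_smul_eq_one_tmul p y
      have hss : s * s' ∈ q := by
        rw [hm, Submodule.mem_annihilator_span_singleton, hC]
        have e2 : ((1 : p.ResidueField) ⊗ₜ[R] (s * s') : p.Fiber S) = (r * r') • (x * y) := by
          rw [← smul_mul_smul_comm, e, e', Algebra.TensorProduct.tmul_mul_tmul, one_mul]
        rw [e2, Algebra.smul_def, mul_smul, hxy, smul_zero]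
      have key : ∀ (x : p.Fiber S) (r : R) (s : S), r ∉ p → r • x = (1 : p.ResidueField) ⊗ₜ[R] s →
          s ∈ q → x ∈ (Submodule.span (p.Fiber S) {m}).annihilator := by
        intro x r s hr e hs
        rw [hm, Submodule.mem_annihilator_span_singleton, hC, ← e, Algebra.smul_def, mul_smul] at hs
        rw [Submodule.mem_annihilator_span_singleton]
        exact ((hunit r hr).smul_eq_zero).1 hs
      rcases hq'.mem_or_mem hss with h1 | h1
      · exact Or.inl (key x r s hr e h1)
      · exact Or.inr (key y r' s' hr' e' h1)
  · rintro ⟨Q, ⟨hQ, m, hQm⟩, rfl⟩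
    refine ⟨inferInstance, m, ?_⟩
    rw [hQm, hcomap]

end Groth.Agent.S9664
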