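import Groth.Statements.S9667
import Mathlib
import Mathlib.LinearAlgebra.TensorProduct.Finiteness
import Mathlib.RingTheory.TensorProduct.DirectLimitFG

set_option autoImplicit false
universe u
open CAlg

namespace Groth.Agent.S9667

open TensorProduct in
/-- Part (3): (B = B_fin): let R → S be a ring map with S Noetherian, N an S-module, M an R-module and q
a prime of S; an associated prime of a module is a prime ideal equal to the annihilator of some
element. If q is an associated prime of the S-module N ⊗_R M, then there is a finitely generated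
R-submodule M' ⊆ M such that q is an associated prime of the S-module N ⊗_R M'. -/
theorem result {R S : Type u} [CommRing R] [CommRing S] [Algebra R S] (N : Type u) [AddCommGroup N] [Module S N] [Module R N] [IsScalarTower R S N] [IsNoetherianRing S]
    (M : Type u) [AddCommGroup M] [Module R M] (q : Ideal S) [q.IsPrime] (h : q ∈ FlatCA.ass S (N ⊗[R] M)) :
    ∃ M' : Submodule R M, M'.FG ∧ q ∈ FlatCA.ass S (N ⊗[R] ↥M') := by
  classical
  obtain ⟨hq, z, hz⟩ := h
  obtain ⟨M₀, hfin₀, hsub⟩ := TensorProduct.exists_finite_submodule_right_of_setFinite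
    ({z} : Set (N ⊗[R] M)) (Set.finite_singleton z)
  obtain ⟨z₀, hz₀⟩ := hsub (Set.mem_singleton z)
  have hM₀ : M₀.FG := Module.Finite.iff_fg.1 hfin₀
  have hlin : ∀ (A B : Type u) [AddCommGroup A] [Module R A] [AddCommGroup B] [Module R B]
      (f : A →ₗ[R] B) (s : S) (w : N ⊗[R] A), f.lTensor N (s • w) = s • f.lTensor N w := by
    intro A B _ _ _ _ f s w
    induction w using TensorProduct.induction_on with
    | zero => simp
    | tmul n m => simp [TensorProduct.smul_tmul']
    | add a b ha hb => rw [smul_add, map_add, map_add, smul_add, ha, hb]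
  have hzero : ∀ (P : Submodule R M) (hP : P.FG) (t : N ⊗[R] ↥P), P.subtype.lTensor N t = 0 →
      ∃ (Q : Submodule R M) (hPQ : P ≤ Q), Q.FG ∧ (Submodule.inclusion hPQ).lTensor N t = 0 := by
    intro P hP t ht
    have h1 : LinearMap.rTensor N P.subtype (TensorProduct.comm R N P t) = 0 := by
      rw [LinearMap.rTensor_comm, ht, map_zero]
    obtain ⟨Q, hPQ, hQ, h2⟩ := TensorProduct.eq_zero_of_fg_of_subtype_eq_zero hP h1
    refine ⟨Q, hPQ, hQ, ?_⟩
    rw [LinearMap.rTensor_comm] at h2
    exact (LinearEquiv.map_eq_zero_iff _).1 h2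
  obtain ⟨G, hG⟩ := (IsNoetherian.noetherian q : q.FG)
  have hs0 : ∀ s ∈ G, M₀.subtype.lTensor N (s • z₀) = 0 := by
    intro s hs
    rw [hlin, hz₀]
    have hsq : s ∈ q := hG ▸ Submodule.subset_span hs
    rw [hz, Submodule.mem_annihilator_span_singleton] at hsq
    exact hsq
  choose! Q hle hQfg hQ0 using fun s (hs : s ∈ G) => hzero M₀ hM₀ (s • z₀) (hs0 s hs)
  have hFG : (M₀ ⊔ G.sup Q).FG := hM₀.sup (Submodule.fg_finset_sup G Q hQfg)
  have hM₀le : M₀ ≤ M₀ ⊔ G.sup Q := le_sup_left
  have hQle : ∀ s ∈ G, Q s ≤ M₀ ⊔ G.sup Q := fun s hs => le_sup_of_le_right (Finset.le_sup hs)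
  have ha : (M₀ ⊔ G.sup Q).subtype.lTensor N ((Submodule.inclusion hM₀le).lTensor N z₀) = z := by
    rw [← LinearMap.lTensor_comp_apply, Submodule.subtype_comp_inclusion, hz₀]
  have hb : ∀ s ∈ G, s • (Submodule.inclusion hM₀le).lTensor N z₀ = 0 := by
    intro s hs
    have hcomp : Submodule.inclusion hM₀le =
        (Submodule.inclusion (hQle s hs)) ∘ₗ (Submodule.inclusion (hle s hs)) :=
      LinearMap.ext fun x => rfl
    rw [← hlin, hcomp, LinearMap.lTensor_comp_apply, hQ0 s hs, map_zero]
  refine ⟨M₀ ⊔ G.sup Q, hFG, hq, (Submodule.inclusion hM₀le).lTensor N z₀, le_antisymm ?_ ?_⟩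
  · rw [← hG]
    refine Ideal.span_le.2 (fun s hs => ?_)
    exact (Submodule.mem_annihilator_span_singleton _ _).2 (hb s hs)
  · intro s hs
    rw [Submodule.mem_annihilator_span_singleton] at hs
    rw [hz, Submodule.mem_annihilator_span_singleton, ← ha, ← hlin, hs, map_zero]

end Groth.Agent.S9667
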