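import Groth.Statements.S9693
import Mathlib
import Groth.Agent.Lib.helper5.ProjSpaceProper

set_option autoImplicit false
universe u
open CategoryTheory CategoryTheory.Limits AlgebraicGeometry
open Mor

namespace Groth.Agent.S9693

/-- A base change of an H-projective morphism (a closed immersion into some P^n over the base followed
by the projection) is H-projective. -/
theorem result {X S S' : Scheme.{u}} (f : X ⟶ S) (hf : RelProj.IsHProjective f)
    (g : S' ⟶ S) : RelProj.IsHProjective (pullback.snd f g) := by
  obtain ⟨n, i, hi, hif⟩ := hf
  obtain ⟨i', h1, h2⟩ := H5PP.baseChange_aux (CohB1.ProjSpace.toSpec n (ULift.{u} ℤ))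
    (specULiftZIsTerminal.from S) (specULiftZIsTerminal.from S') g
    (specULiftZIsTerminal.hom_ext _ _) f i hi hif
  exact ⟨n, i', h1, h2⟩

end Groth.Agent.S9693
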