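import Groth.Statements.S9709
import Mathlib
import Groth.Agent.Lib.helper2.IntegralDim

set_option autoImplicit false
universe u
open CategoryTheory CategoryTheory.Limits AlgebraicGeometry
open Mor

namespace Groth.Agent.S9709

/-- Let f : X ⟶ S be an integral morphism. Then every point x of X is closed in its fibre: a point of
f⁻¹(f x) specialising from x equals x. -/
theorem result {X S : Scheme.{u}} (f : X ⟶ S) [IsIntegralHom f] (x : X) :
    closure {x} ∩ f.base ⁻¹' {f.base x} = {x} := by
  ext y
  simp only [Set.mem_inter_iff, Set.mem_preimage, Set.mem_singleton_iff]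
  constructor
  · rintro ⟨hy, hfy⟩
    have hs : x ⤳ y := specializes_iff_mem_closure.mpr hy
    exact (Groth.Agent.H2.H2_eq_of_specializes_of_isIntegralHom f hs hfy.symm).symm
  · rintro rfl
    exact ⟨subset_closure rfl, rfl⟩

end Groth.Agent.S9709
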