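import Groth.Statements.S9723
import Groth.Agent.Lib.helper1.FEtRes

set_option autoImplicit false
universe u
open FlatMor

namespace Groth.Agent.S9723

open AlgebraicGeometry CategoryTheory in
/-- Let f : X ⟶ S be formally étale (unique infinitesimal lifting against square-zero thickenings of
affine schemes), and let U be an open subscheme of X and V an open subscheme of S such that f maps U
into V. Then the restricted morphism U ⟶ V is formally étale. -/
theorem result {X S : Scheme.{u}} (f : X ⟶ S) (hf : MoreMor.IsFormallyEtaleHom f)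
    (U : X.Opens) (V : S.Opens) (h : U ≤ f ⁻¹ᵁ V) : MoreMor.IsFormallyEtaleHom (f.resLE V U h) := by
  intro A _ I hI a b w
  have w' : Spec.map (CommRingCat.ofHom (Ideal.Quotient.mk I)) ≫ (b ≫ V.ι) = (a ≫ U.ι) ≫ f := by
    rw [← Category.assoc, w, Category.assoc, Category.assoc, Scheme.Hom.resLE_comp_ι]
  obtain ⟨l', ⟨h1, h2⟩, h3⟩ := hf A I hI (a ≫ U.ι) (b ≫ V.ι) w'
  obtain ⟨l, hl, hl1, hl2⟩ := Groth.Agent.H1.H1_lift_resLE f U V h I hI a b l' h1 h2
  refine ⟨l, ⟨hl1, hl2⟩, ?_⟩
  rintro l₂ ⟨k1, k2⟩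
  rw [← cancel_mono U.ι, hl]
  apply h3
  constructor
  · rw [← Category.assoc, k1]
  · rw [Category.assoc, ← Scheme.Hom.resLE_comp_ι f h, ← Category.assoc, k2]

end Groth.Agent.S9723
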