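import Groth.Statements.S9793
import Mathlib

set_option autoImplicit false
universe u
open CategoryTheory AlgebraicGeometry TopologicalSpace
open Props

namespace Groth.Agent.S9793

/-- Let S be a Noetherian scheme and T a set of points of S. Every point of T is a specialization of
some point of T which admits no non-trivial generization lying in T. -/
theorem result (S : Scheme.{u}) [IsNoetherian S]
    (T : Set S) (t : S) (ht : t ∈ T) :
    ∃ t₀ ∈ T, (∀ t' ∈ T, t' ⤳ t₀ → t' = t₀) ∧ t₀ ⤳ t := by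
  obtain ⟨_, ⟨U, hU, rfl⟩, htU, -⟩ :=
    S.isBasis_affineOpens.exists_subset_of_mem_open (Set.mem_univ t) isOpen_univ
  have hU' : IsAffineOpen U := hU
  have hN : IsNoetherianRing Γ(S, U) := IsLocallyNoetherian.component_noetherian ⟨U, hU'⟩
  have hrange : Set.range hU'.fromSpec = U := hU'.range_fromSpec
  have hind := hU'.fromSpec.isOpenEmbedding.isInducing
  let A : Set (Spec Γ(S, U)) := {p | hU'.fromSpec p ∈ T ∧ hU'.fromSpec p ⤳ t}
  have hne : A.Nonempty := by
    have : t ∈ Set.range hU'.fromSpec := by rw [hrange]; exact htU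
    obtain ⟨p, hp⟩ := this
    exact ⟨p, by change hU'.fromSpec p ∈ T ∧ hU'.fromSpec p ⤳ t; rw [hp]; exact ⟨ht, specializes_rfl⟩⟩
  obtain ⟨p₀, hp₀A, hmin⟩ := WellFounded.has_min
    (InvImage.wf (fun p : Spec Γ(S, U) => p.asIdeal.height) wellFounded_lt) A hne
  refine ⟨hU'.fromSpec p₀, hp₀A.1, ?_, hp₀A.2⟩
  intro t' ht' hspec
  have ht'U : t' ∈ Set.range hU'.fromSpec := by
    rw [hrange]
    exact hspec.mem_open U.isOpen (by rw [← hrange]; exact ⟨p₀, rfl⟩)
  obtain ⟨p', rfl⟩ := ht'U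
  have h1 : p' ⤳ p₀ := hind.specializes_iff.mp hspec
  have h2 : p'.asIdeal ≤ p₀.asIdeal := (PrimeSpectrum.le_iff_specializes (R := Γ(S, U)) p' p₀).mpr h1
  have hp'A : p' ∈ A := ⟨ht', hspec.trans hp₀A.2⟩
  have h3 := hmin p' hp'A
  by_contra hne'
  have hne'' : p' ≠ p₀ := fun h => hne' (by rw [h])
  have hlt : p'.asIdeal < p₀.asIdeal := lt_of_le_of_ne h2 (fun h => hne'' (PrimeSpectrum.ext h))
  exact h3 (Ideal.height_strict_mono_of_isPrime_of_isPrime hlt)

end Groth.Agent.S9793
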