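import Groth.Statements.S9797
import Mathlib
import Groth.Agent.Lib.helper2.ZeroDim

set_option autoImplicit false
universe u
open CategoryTheory AlgebraicGeometry TopologicalSpace
open Props

namespace Groth.Agent.S9797

/-- In a separated scheme of dimension at most zero, every quasi-compact open is affine. -/
theorem result (X : Scheme.{u}) [X.IsSeparated]
    (h : topologicalKrullDim X ≤ 0) (U : X.Opens) (hU : IsCompact (U : Set X)) :
    IsAffineOpen U := by
  haveI := (Groth.Agent.H2.H2_t2_and_totallyDisconnected_of_isSeparated_of_dim_le_zero X h).1
  exact Groth.Agent.H2.H2_isAffineOpen_of_isCompact_of_t2 X U hU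

end Groth.Agent.S9797
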