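import Groth.Statements.S9798
import Mathlib
import Groth.Agent.Lib.helper2.TopDim2

set_option autoImplicit false
universe u
open CategoryTheory AlgebraicGeometry TopologicalSpace
open Props

namespace Groth.Agent.S9798

/-- A point of a locally Noetherian scheme has local dimension zero exactly when it is isolated. -/
theorem result (X : Scheme.{u}) [IsLocallyNoetherian X] (x : X) :
    FlatMor.localDim X x = 0 ↔ IsOpen ({x} : Set X) := by
  obtain ⟨_, ⟨W₀, hW, rfl⟩, hxW, -⟩ :=
    X.isBasis_affineOpens.exists_subset_of_mem_open (Set.mem_univ x) isOpen_univ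
  obtain ⟨W, rfl⟩ : ∃ W : X.Opens, W = W₀ := ⟨W₀, rfl⟩
  have hW' : IsAffineOpen W := hW
  haveI : IsNoetherianRing Γ(X, W) := IsLocallyNoetherian.component_noetherian ⟨W, hW'⟩
  haveI : TopologicalSpace.NoetherianSpace W := noetherianSpace_of_isAffineOpen W hW'
  have h1 : FlatMor.localDim X x = Groth.Agent.H2.H2localDim W ⟨x, hxW⟩ :=
    Groth.Agent.H2.H2_localDim_open W x hxW
  have key : IsOpen ({x} : Set X) ↔ IsOpen ({(⟨x, hxW⟩ : W)} : Set W) := by
    constructor
    · intro h
      have h2 : IsOpen ((Subtype.val : W → X) ⁻¹' {x}) := h.preimage continuous_subtype_val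
      have e : ((Subtype.val : W → X) ⁻¹' {x}) = {(⟨x, hxW⟩ : W)} := by
        ext y
        simp only [Set.mem_preimage, Set.mem_singleton_iff]
        exact ⟨fun h => Subtype.ext h, fun h => congrArg Subtype.val h⟩
      rw [e] at h2; exact h2
    · intro h
      have h2 : IsOpen ((Subtype.val : W → X) '' {(⟨x, hxW⟩ : W)}) :=
        (W.isOpen.isOpenMap_subtype_val : IsOpenMap (Subtype.val : W → X)) _ h
      rw [Set.image_singleton] at h2; exact h2
  rw [h1, key]
  exact (Groth.Agent.H2.H2_isOpen_singleton_iff_localDim (X := W) ⟨x, hxW⟩).symm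

end Groth.Agent.S9798
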