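import Groth.Statements.S9812
import Mathlib

set_option autoImplicit false
universe u
open CAlg2

namespace Groth.Agent.S9812

/-- At the level of the local ring: an integrally closed local domain is geometrically unibranch.
Consequently a normal scheme is geometrically unibranch. -/
theorem result (A : Type u) [CommRing A] [IsLocalRing A]
    [IsDomain A] [IsIntegrallyClosed A] : CAlg2.IsGeomUnibranch A := by
  have hnil : nilradical A = ⊥ := nilradical_eq_zero A
  haveI hprime : (nilradical A).IsPrime := by rw [hnil]; exact Ideal.isPrime_bot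
  haveI hdom : IsDomain (CAlg2.red A) := Ideal.Quotient.isDomain (nilradical A)
  have hbij : Function.Bijective (Ideal.Quotient.mk (nilradical A)) := by
    refine ⟨?_, Ideal.Quotient.mk_surjective⟩
    rw [injective_iff_map_eq_zero]
    intro a ha
    rw [Ideal.Quotient.eq_zero_iff_mem, hnil] at ha
    exact Ideal.mem_bot.1 ha
  haveI hic : IsIntegrallyClosed (CAlg2.red A) :=
    IsIntegrallyClosed.of_equiv (RingEquiv.ofBijective _ hbij)
  have hsurj : Function.Surjective (algebraMap (CAlg2.red A) (CAlg2.normRed A)) := by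
    intro y
    obtain ⟨r, hr⟩ := IsIntegrallyClosed.isIntegral_iff.1 y.2
    exact ⟨r, Subtype.ext hr⟩
  have hsurj2 : Function.Surjective ((algebraMap (CAlg2.red A) (CAlg2.normRed A)).comp
      (Ideal.Quotient.mk (nilradical A))) := by
    intro y
    obtain ⟨r, hr⟩ := hsurj y
    obtain ⟨a, ha⟩ := Ideal.Quotient.mk_surjective r
    exact ⟨a, by rw [RingHom.comp_apply, ha, hr]⟩
  haveI : Nontrivial (CAlg2.normRed A) :=
    ⟨⟨0, 1, fun h => zero_ne_one (α := FractionRing (CAlg2.red A)) (congrArg Subtype.val h)⟩⟩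
  have hloc : IsLocalRing (CAlg2.normRed A) := IsLocalRing.of_surjective' _ hsurj2
  refine ⟨⟨hdom, hloc⟩, ?_⟩
  intro m' hm' x
  refine ⟨0, ?_⟩
  obtain ⟨y, rfl⟩ := Ideal.Quotient.mk_surjective x
  obtain ⟨a, rfl⟩ := hsurj2 y
  rw [pow_zero, pow_one]
  exact ⟨a, rfl⟩

end Groth.Agent.S9812
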