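import Groth.Statements.S9822
import Mathlib

set_option autoImplicit false
universe u
open CategoryTheory CategoryTheory.Limits AlgebraicGeometry TopologicalSpace Opposite
open Props

namespace Groth.Agent.S9822

/-- A scheme is irreducible if and only if it is nonempty and every nonempty affine open subset is
irreducible. -/
theorem result (X : Scheme.{u}) :
    IrreducibleSpace X ↔ Nonempty X ∧ ∀ U : X.Opens, IsAffineOpen U → (U : Set X).Nonempty → IsIrreducible (U : Set X) := by
  constructor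
  · intro h
    refine ⟨inferInstance, fun U _ hne => ⟨hne, ?_⟩⟩
    exact (PreirreducibleSpace.isPreirreducible_univ (X := X)).open_subset U.isOpen (Set.subset_univ _)
  · rintro ⟨hne, h⟩
    have hpre : PreirreducibleSpace X := by
      constructor
      intro U' V' hU' hV' ⟨x, _, hx⟩ ⟨y, _, hy⟩
      have hb : ∀ (U : Opens ↥X) (x : ↥X), x ∈ U → ∃ U' ∈ X.affineOpens, x ∈ U' ∧ U' ≤ U :=
        fun U x hx => Opens.isBasis_iff_nbhd.mp X.isBasis_affineOpens hx
      obtain ⟨Ux, hUx, hxUx, hUxU⟩ := hb ⟨U', hU'⟩ x hx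
      obtain ⟨Vy, hVy, hyVy, hVyV⟩ := hb ⟨V', hV'⟩ y hy
      by_cases hdisj : Disjoint Ux Vy
      · exfalso
        have haff := IsAffineOpen.sup_of_disjoint hUx hVy hdisj
        have hirr := h (Ux ⊔ Vy) haff ⟨x, Or.inl hxUx⟩
        obtain ⟨z, _, hz1, hz2⟩ := hirr.2 Ux Vy Ux.isOpen Vy.isOpen
          ⟨x, Or.inl hxUx, hxUx⟩ ⟨y, Or.inr hyVy, hyVy⟩
        exact (Set.disjoint_left.mp ((Opens.coe_disjoint).mpr hdisj)) hz1 hz2
      · rw [← Opens.coe_disjoint, Set.not_disjoint_iff] at hdisj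
        obtain ⟨z, hz1, hz2⟩ := hdisj
        exact ⟨z, Set.mem_univ _, hUxU hz1, hVyV hz2⟩
    exact { toPreirreducibleSpace := hpre, toNonempty := hne }

end Groth.Agent.S9822
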