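import Groth.Statements.S9832
import Mathlib
import Groth.Agent.S3432

set_option autoImplicit false
universe u
open Props

namespace Groth.Agent.S9832

/-- For a Noetherian ring R and an ideal I inside the Jacobson radical of R, the complement of V(I) in
Spec R is a Jacobson topological space. -/
theorem result (R : Type u) [CommRing R] [IsNoetherianRing R]
    (I : Ideal R) (hI : I ≤ (⊥ : Ideal R).jacobson) :
    JacobsonSpace ↥((PrimeSpectrum.zeroLocus (I : Set R))ᶜ) := by
  haveI : AlgebraicGeometry.IsLocallyNoetherian (AlgebraicGeometry.Spec (CommRingCat.of R)) := by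
    rw [AlgebraicGeometry.isLocallyNoetherian_Spec]; infer_instance
  refine Groth.Agent.S3432.result (AlgebraicGeometry.Spec (CommRingCat.of R))
    (PrimeSpectrum.zeroLocus (I : Set R) : Set (PrimeSpectrum R))
    (PrimeSpectrum.isClosed_zeroLocus _) ?_
  intro Z hZ hne
  obtain ⟨z, hz⟩ := hne
  obtain ⟨m, hm, hzm⟩ := Ideal.exists_le_maximal z.asIdeal z.2.ne_top
  refine ⟨⟨m, hm.isPrime⟩, ?_, ?_⟩
  · have : z ⤳ (⟨m, hm.isPrime⟩ : PrimeSpectrum R) :=
      (PrimeSpectrum.le_iff_specializes z ⟨m, hm.isPrime⟩).mp hzm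
    exact this.mem_closed hZ hz
  · change (⟨m, hm.isPrime⟩ : PrimeSpectrum R) ∈ PrimeSpectrum.zeroLocus (I : Set R)
    rw [PrimeSpectrum.mem_zeroLocus]
    have h1 : (⊥ : Ideal R).jacobson ≤ m := by
      rw [Ideal.jacobson]
      exact sInf_le (show m ∈ {J : Ideal R | ⊥ ≤ J ∧ J.IsMaximal} from ⟨bot_le, hm⟩)
    exact le_trans hI h1

end Groth.Agent.S9832
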