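import Groth.Statements.S9833
import Mathlib
import Groth.Agent.Lib.helper4.NagataLoc
import Groth.Agent.S9400

set_option autoImplicit false
universe u
open CategoryTheory AlgebraicGeometry TopologicalSpace
open Props

namespace Groth.Agent.S9833

/-- If a scheme has an affine open covering by spectra of Nagata rings, then the coordinate ring of
every affine open is Nagata. -/
theorem result (X : Scheme.{u}) {ι : Type u} (U : ι → X.Opens)
    (hU : iSup U = ⊤) (haff : ∀ i, IsAffineOpen (U i)) (hN : ∀ i, CAlg.IsNagata Γ(X, U i))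
    (V : X.Opens) (hV : IsAffineOpen V) : CAlg.IsNagata Γ(X, V) := by
  classical
  let W : ι → X.affineOpens := fun i => ⟨U i, haff i⟩
  refine of_affine_open_cover (P := fun V => CAlg.IsNagata Γ(X, V.1)) W hU ⟨V, hV⟩
    ?_ ?_ hN
  · intro U' f hP
    haveI := U'.2.isLocalization_basicOpen f
    exact Groth.Agent.H4.H4_nagata_localization Γ(X, U'.1) hP (Submonoid.powers f)
      Γ(X, X.basicOpen f)
  · intro U' s hs hP
    refine Groth.Agent.S9400.result Γ(X, U'.1) (ι := ↥s) (fun f => f.1) ?_ ?_
    · rw [Subtype.range_coe_subtype]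
      exact hs
    · intro f
      haveI := U'.2.isLocalization_basicOpen f.1
      let e : Γ(X, X.basicOpen f.1) ≃ₐ[Γ(X, U'.1)] Localization.Away f.1 :=
        IsLocalization.algEquiv (Submonoid.powers f.1) _ _
      exact Groth.Agent.H4.H4_nagata_of_ringEquiv _ _ e.toRingEquiv (hP f)

end Groth.Agent.S9833
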