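import Groth.Statements.S9834
import Mathlib
import Groth.Agent.Lib.helper4.NagataLoc
import Groth.Agent.S9399

set_option autoImplicit false
universe u
open CategoryTheory AlgebraicGeometry TopologicalSpace
open Props

namespace Groth.Agent.S9834

/-- If a scheme has an affine open covering by spectra of universally Japanese rings, then the
coordinate ring of every affine open is universally Japanese. -/
theorem result (X : Scheme.{u}) {ι : Type u} (U : ι → X.Opens)
    (hU : iSup U = ⊤) (haff : ∀ i, IsAffineOpen (U i)) (hJ : ∀ i, CAlg.IsUniversallyJapanese Γ(X, U i))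
    (V : X.Opens) (hV : IsAffineOpen V) : CAlg.IsUniversallyJapanese Γ(X, V) := by
  classical
  let W : ι → X.affineOpens := fun i => ⟨U i, haff i⟩
  refine of_affine_open_cover (P := fun V => CAlg.IsUniversallyJapanese Γ(X, V.1)) W hU ⟨V, hV⟩
    ?_ ?_ hJ
  · intro U' f hP
    haveI := U'.2.isLocalization_basicOpen f
    haveI : Algebra.EssFiniteType Γ(X, U'.1) Γ(X, X.basicOpen f) :=
      Algebra.EssFiniteType.of_isLocalization _ (Submonoid.powers f)
    exact Groth.Agent.S9398.result Γ(X, U'.1) hP Γ(X, X.basicOpen f)
  · intro U' s hs hP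
    refine Groth.Agent.S9399.result Γ(X, U'.1) (ι := ↥s) (fun f => f.1) ?_ ?_
    · rw [Subtype.range_coe_subtype]
      exact hs
    · intro f
      haveI := U'.2.isLocalization_basicOpen f.1
      let e : Γ(X, X.basicOpen f.1) ≃ₐ[Γ(X, U'.1)] Localization.Away f.1 :=
        IsLocalization.algEquiv (Submonoid.powers f.1) _ _
      exact Groth.Agent.H4.H4_univJap_of_ringEquiv _ _ e.toRingEquiv (hP f)

end Groth.Agent.S9834
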