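import Groth.Statements.S9835
import Mathlib
import Groth.Agent.S9392
import Groth.Agent.S9394

set_option autoImplicit false
universe u
open CategoryTheory AlgebraicGeometry TopologicalSpace
open Props

namespace Groth.Agent.S9835

/-- If an integral scheme has an affine open covering by spectra of Japanese (N-2) domains, then the
coordinate ring of every nonempty affine open is a Japanese domain. -/
theorem result (X : Scheme.{u}) [IsIntegral X] {ι : Type u}
    (U : ι → X.Opens) [∀ i, Nonempty (U i)] (hU : iSup U = ⊤) (haff : ∀ i, IsAffineOpen (U i))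
    (hJ : ∀ i, CAlg.IsN2 Γ(X, U i)) (V : X.Opens) [Nonempty V] (hV : IsAffineOpen V) :
    CAlg.IsN2 Γ(X, V) := by
  classical
  let W : ι → X.affineOpens := fun i => ⟨U i, haff i⟩
  let Q : X.Opens → Prop := fun V' => ∀ [Nonempty V'], CAlg.IsN2 Γ(X, V')
  have key : Q V := by
    refine of_affine_open_cover (P := fun V' : X.affineOpens => Q V'.1) W hU ⟨V, hV⟩
      ?_ ?_ (fun i _ => hJ i)
    · rintro ⟨U', hU'⟩ f hP
      change Q U' at hP
      change Q (X.basicOpen f)
      intro hne
      haveI : Nonempty U' := by
        obtain ⟨x⟩ := hne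
        exact ⟨⟨x.1, X.basicOpen_le f x.2⟩⟩
      haveI := hU'.isLocalization_basicOpen f
      exact Groth.Agent.S9392.result Γ(X, U') (Submonoid.powers f) Γ(X, X.basicOpen f) hP
    · rintro ⟨U', hU'⟩ s hs hP
      change Q U'
      intro hne
      have hne' : ∀ i : {f : ↥s // f.1 ≠ 0}, Nonempty (X.basicOpen i.1.1) := by
        intro i
        by_contra hcon
        have h1 : X.basicOpen i.1.1 = ⊥ := by
          ext x
          simp only [TopologicalSpace.Opens.coe_bot, Set.mem_empty_iff_false, iff_false]
          intro hx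
          exact hcon ⟨⟨x, hx⟩⟩
        exact i.2 ((basicOpen_eq_bot_iff _).1 h1)
      haveI := hne'
      haveI hloc : ∀ i : {f : ↥s // f.1 ≠ 0},
          IsLocalization.Away i.1.1 Γ(X, X.basicOpen i.1.1) :=
        fun i => hU'.isLocalization_basicOpen i.1.1
      refine Groth.Agent.S9394.result Γ(X, U') (ι := {f : ↥s // f.1 ≠ 0}) (fun f => f.1.1) ?_
        (fun f => Γ(X, X.basicOpen f.1.1)) ?_
      · rw [eq_top_iff, ← hs, Ideal.span_le]
        intro g hg
        by_cases hg0 : g = 0
        · rw [hg0]; exact Submodule.zero_mem _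
        · exact Ideal.subset_span ⟨⟨⟨g, hg⟩, hg0⟩, rfl⟩
      · intro i
        exact @hP i.1 (hne' i)
  exact key

end Groth.Agent.S9835
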