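import Groth.Statements.S9841
import Mathlib
import Groth.Agent.Lib.helper4.SmoothStalk

set_option autoImplicit false
open CategoryTheory CategoryTheory.Limits AlgebraicGeometry Opposite
universe u
open Desc

namespace Groth.Agent.S9841

/-- Being reduced is local in the smooth topology: for a jointly surjective family of smooth morphisms f
i : X i ⟶ S, the scheme S is reduced if and only if every X i is reduced. -/
theorem result {ι : Type u} {S : Scheme.{u}} {X : ι → Scheme.{u}} (f : ∀ i, X i ⟶ S)
    (hf : Presieve.ofArrows X f ∈ Scheme.precoverage @Smooth S) :
    IsReduced S ↔ ∀ i, IsReduced (X i) := by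
  rw [Scheme.ofArrows_mem_precoverage_iff] at hf
  obtain ⟨hsurj, hsm⟩ := hf
  have key : ∀ (i : ι) (x : X i), _root_.IsReduced ((X i).presheaf.stalk x) ↔
      _root_.IsReduced (S.presheaf.stalk ((f i).base x)) := by
    intro i x
    haveI : Smooth (f i) := hsm i
    have hx : x ∈ (f i).smoothLocus := by
      rw [Scheme.Hom.smoothLocus_eq_top]; trivial
    obtain ⟨A, B, _, _, _, _, q, _, ⟨e1⟩, ⟨e2⟩⟩ := Groth.Agent.H4.H4_smooth_stalk_data (f i) x hx
    have keyR := Groth.Agent.H4.H4_isReduced_localization_iff_of_smooth A B q
    constructor
    · intro h
      haveI := h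
      haveI : _root_.IsReduced (Localization.AtPrime q) :=
        isReduced_of_injective e1.symm.toRingHom e1.symm.injective
      haveI := keyR.mpr inferInstance
      exact isReduced_of_injective e2.toRingHom e2.injective
    · intro h
      haveI := h
      haveI : _root_.IsReduced (Localization.AtPrime (q.comap (algebraMap A B))) :=
        isReduced_of_injective e2.symm.toRingHom e2.symm.injective
      haveI := keyR.mp inferInstance
      exact isReduced_of_injective e1.toRingHom e1.injective
  constructor
  · intro hS i
    haveI : ∀ x : X i, _root_.IsReduced ((X i).presheaf.stalk x) := fun x =>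
      (key i x).mpr inferInstance
    exact isReduced_of_isReduced_stalk (X i)
  · intro hX
    haveI : ∀ s : S, _root_.IsReduced (S.presheaf.stalk s) := by
      intro s
      obtain ⟨i, x, rfl⟩ := hsurj s
      haveI := hX i
      exact (key i x).mp inferInstance
    exact isReduced_of_isReduced_stalk S

end Groth.Agent.S9841
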