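import Groth.Statements.S9842
import Mathlib

set_option autoImplicit false
open CategoryTheory CategoryTheory.Limits AlgebraicGeometry Opposite
universe u
open Desc

namespace Groth.Agent.S9842

/-- Let E/k be a field extension, Y a scheme over k and f : X ⟶ Y a morphism. Writing Y_E = Y ×_k Spec
E, the morphism f is dominant if and only if its base change X ×_Y Y_E ⟶ Y_E is dominant. -/
theorem result {k E : Type u} [Field k] [Field E] [Algebra k E]
    {X Y : Scheme.{u}} (f : X ⟶ Y) (q : Y ⟶ Spec (.of k)) :
    IsDominant f ↔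
      IsDominant (pullback.snd f (pullback.fst q (Spec.map (CommRingCat.ofHom (algebraMap k E))))) := by
  set g := pullback.fst q (Spec.map (CommRingCat.ofHom (algebraMap k E))) with hgdef
  have hgo : UniversallyOpen g := inferInstance
  have hgs : Surjective g := inferInstance
  constructor
  · intro hf'
    refine ⟨?_⟩
    rw [denseRange_iff_closure_range, ← Set.univ_subset_iff]
    intro v _
    rw [mem_closure_iff_nhds]
    intro t ht
    obtain ⟨V, hVt, hVo, hvV⟩ := mem_nhds_iff.mp ht
    have hgV : IsOpen (g.base '' V) := g.isOpenMap V hVo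
    obtain ⟨_, ⟨v', hv'V, rfl⟩, ⟨y, hy⟩⟩ :=
      hf'.denseRange.inter_open_nonempty _ hgV ⟨g.base v, v, hvV, rfl⟩
    have hy' : f.base y = g.base v' := hy
    obtain ⟨z, hz1, hz2⟩ := Scheme.Pullback.exists_preimage_pullback (f := f) (g := g) y v' hy'
    exact ⟨v', hVt hv'V, z, hz2⟩
  · intro hdom
    refine ⟨?_⟩
    rw [denseRange_iff_closure_range, ← Set.univ_subset_iff]
    intro x _
    rw [mem_closure_iff_nhds]
    intro t ht
    obtain ⟨W, hWt, hWo, hxW⟩ := mem_nhds_iff.mp ht
    obtain ⟨u, hu⟩ := g.surjective x
    have hu' : g.base u = x := hu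
    have hO : IsOpen (g.base ⁻¹' W) := hWo.preimage g.continuous
    obtain ⟨_, hv, ⟨z, rfl⟩⟩ := hdom.denseRange.inter_open_nonempty _ hO ⟨u, by
      show g.base u ∈ W
      rw [hu']; exact hxW⟩
    refine ⟨f.base ((pullback.fst f g).base z), hWt ?_, _, rfl⟩
    have hcomm : f.base ((pullback.fst f g).base z) = g.base ((pullback.snd f g).base z) := by
      have := congrArg (fun φ => φ.base z) (pullback.condition (f := f) (g := g))
      simpa using this
    rw [hcomm]
    exact hv

end Groth.Agent.S9842
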