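import Groth.Statements.S9843
import Mathlib

set_option autoImplicit false
open CategoryTheory CategoryTheory.Limits AlgebraicGeometry Opposite
universe u
open Desc

namespace Groth.Agent.S9843

/-- Being dominant is fppf local on the base: for every fppf covering family Y i ⟶ Y (flat, locally of
finite presentation, jointly surjective), a morphism X ⟶ Y is dominant if and only if all its base
changes X ×_Y Y i ⟶ Y i are. -/
theorem result :
    MorphismProperty.IsLocalAtTarget (@IsDominant : MorphismProperty Scheme.{u}) Scheme.fppfPrecoverage := by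
  refine @MorphismProperty.IsLocalAtTarget.mk _ _ _ _ inferInstance ?_ ?_
  · intro X Y f R U g hR hg hf _
    have hgP : (@Flat ⊓ @LocallyOfFinitePresentation) g := hR.2 hg
    have : Flat g := hgP.1
    have : LocallyOfFinitePresentation g := hgP.2
    have hf' : IsDominant f := hf
    refine ⟨?_⟩
    rw [denseRange_iff_closure_range, ← Set.univ_subset_iff]
    intro v _
    rw [mem_closure_iff_nhds]
    intro t ht
    obtain ⟨V, hVt, hVo, hvV⟩ := mem_nhds_iff.mp ht
    -- g '' V is open in X and nonempty
    have hgV : IsOpen (g.base '' V) := g.isOpenMap V hVo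
    obtain ⟨_, ⟨v', hv'V, rfl⟩, ⟨y, hy⟩⟩ :=
      hf'.denseRange.inter_open_nonempty _ hgV ⟨g.base v, v, hvV, rfl⟩
    have hy' : f.base y = g.base v' := hy
    obtain ⟨z, hz1, hz2⟩ := Scheme.Pullback.exists_preimage_pullback (f := f) (g := g) y v' hy'
    exact ⟨v', hVt hv'V, z, hz2⟩
  · intro X Y f R hR h
    refine ⟨?_⟩
    rw [denseRange_iff_closure_range, ← Set.univ_subset_iff]
    intro x _
    rw [mem_closure_iff_nhds]
    intro t ht
    obtain ⟨W, hWt, hWo, hxW⟩ := mem_nhds_iff.mp ht
    obtain ⟨U', g', hg', hx⟩ := hR.1 x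
    obtain ⟨hg⟩ := hg'
    rename_i U g
    obtain ⟨u, hu⟩ := hx
    have hu' : g.base u = x := hu
    have hdom : IsDominant (pullback.snd f g) := h hg
    have hO : IsOpen (g.base ⁻¹' W) := hWo.preimage g.continuous
    obtain ⟨_, hv, ⟨z, rfl⟩⟩ := hdom.denseRange.inter_open_nonempty _ hO ⟨u, by
      show g.base u ∈ W
      rw [hu']; exact hxW⟩
    refine ⟨f.base ((pullback.fst f g).base z), hWt ?_, _, rfl⟩
    have hcomm : f.base ((pullback.fst f g).base z) = g.base ((pullback.snd f g).base z) := by
      have := congrArg (fun φ => φ.base z) (pullback.condition (f := f) (g := g))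
      simpa using this
    rw [hcomm]
    exact hv

end Groth.Agent.S9843
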