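import Groth.Statements.S9845
import Mathlib

set_option autoImplicit false
open CategoryTheory CategoryTheory.Limits AlgebraicGeometry Opposite
universe u
open Desc

namespace Groth.Agent.S9845

/-- Being an open morphism (open underlying map) is fppf local on the source: for every fppf covering
family g i : X i ⟶ X, a morphism f : X ⟶ Y has open underlying map if and only if every composite g
i ≫ f does. -/
theorem result :
    MorphismProperty.IsLocalAtSource (topologically (fun f => IsOpenMap f) : MorphismProperty Scheme.{u})
      Scheme.fppfPrecoverage := by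
  have hiso : (topologically (fun f => IsOpenMap f) : MorphismProperty Scheme.{u}).RespectsIso :=
    inferInstanceAs (topologically IsOpenMap).RespectsIso
  refine @MorphismProperty.IsLocalAtSource.mk _ _ _ _ hiso ?_ ?_
  · intro X Y f R hR U g hg hf
    have hgP : (@Flat ⊓ @LocallyOfFinitePresentation) g := hR.2 hg
    have : Flat g := hgP.1
    have : LocallyOfFinitePresentation g := hgP.2
    show IsOpenMap (g ≫ f).base
    have hf' : IsOpenMap f.base := hf
    have := hf'.comp g.isOpenMap
    convert this using 1
    ext z
    simp
  · intro X Y f R hR h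
    show IsOpenMap f.base
    intro V hV
    rw [isOpen_iff_mem_nhds]
    rintro _ ⟨x, hxV, rfl⟩
    obtain ⟨U', g', hg', hx⟩ := hR.1 x
    obtain ⟨hg⟩ := hg'
    rename_i U g
    obtain ⟨u, hu⟩ := hx
    have hgf : IsOpenMap (g ≫ f).base := h hg
    have hopen : IsOpen ((g ≫ f).base '' (g.base ⁻¹' V)) := hgf _ (hV.preimage g.continuous)
    refine Filter.mem_of_superset (hopen.mem_nhds ⟨u, ?_, ?_⟩) ?_
    · show g.base u ∈ V
      have : g.base u = x := hu
      rw [this]; exact hxV
    · have : g.base u = x := hu
      rw [← this]; rfl
    · rintro _ ⟨w, hw, rfl⟩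
      exact ⟨g.base w, hw, rfl⟩

end Groth.Agent.S9845
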