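import Groth.Statements.S9846
import Mathlib

set_option autoImplicit false
open CategoryTheory CategoryTheory.Limits AlgebraicGeometry Opposite
universe u
open Desc

namespace Groth.Agent.S9846

/-- Being universally open is fppf local on the source: for every fppf covering family g i : X i ⟶ X, a
morphism f : X ⟶ Y is universally open if and only if every composite g i ≫ f is. -/
theorem result :
    MorphismProperty.IsLocalAtSource (@UniversallyOpen : MorphismProperty Scheme.{u}) Scheme.fppfPrecoverage := by
  refine @MorphismProperty.IsLocalAtSource.mk _ _ _ _ inferInstance ?_ ?_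
  · intro X Y f R hR U g hg hf
    have hgP : (@Flat ⊓ @LocallyOfFinitePresentation) g := hR.2 hg
    have : Flat g := hgP.1
    have : LocallyOfFinitePresentation g := hgP.2
    have : UniversallyOpen f := hf
    exact inferInstanceAs (UniversallyOpen (g ≫ f))
  · intro X Y f R hR h
    rw [UniversallyOpen.eq]
    intro X' Y' i₁ i₂ f' hsq
    show IsOpenMap f'.base
    intro V hV
    rw [isOpen_iff_mem_nhds]
    rintro _ ⟨x', hx'V, rfl⟩
    obtain ⟨U', g', hg', hx⟩ := hR.1 (i₁.base x')
    obtain ⟨hg⟩ := hg'
    rename_i U g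
    obtain ⟨u, hu⟩ := hx
    have hu' : g.base u = i₁.base x' := hu
    obtain ⟨w, hw1, hw2⟩ := Scheme.Pullback.exists_preimage_pullback (f := g) (g := i₁) u x' hu'
    have hUO : UniversallyOpen (g ≫ f) := h hg
    have hbig : IsPullback (pullback.snd g i₁ ≫ f') (pullback.fst g i₁) i₂ (g ≫ f) :=
      (IsPullback.of_hasPullback g i₁).flip.paste_horiz hsq
    have hopen : IsOpenMap (pullback.snd g i₁ ≫ f').base :=
      (UniversallyOpen.eq ▸ hUO : MorphismProperty.universally (topologically @IsOpenMap) (g ≫ f))
        _ _ _ hbig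
    have hO : IsOpen ((pullback.snd g i₁ ≫ f').base '' ((pullback.snd g i₁).base ⁻¹' V)) :=
      hopen _ (hV.preimage (pullback.snd g i₁).continuous)
    refine Filter.mem_of_superset (hO.mem_nhds ⟨w, ?_, ?_⟩) ?_
    · show (pullback.snd g i₁).base w ∈ V
      rw [hw2]; exact hx'V
    · show (pullback.snd g i₁ ≫ f').base w = f'.base x'
      rw [← hw2]; rfl
    · rintro _ ⟨z, hz, rfl⟩
      exact ⟨(pullback.snd g i₁).base z, hz, rfl⟩

end Groth.Agent.S9846
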