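import Groth.Statements.S9871
import Mathlib
import Groth.Agent.Lib.helper5.AlgSpFib

set_option autoImplicit false
universe u
open CategoryTheory CategoryTheory.Limits AlgebraicGeometry
open AlgSp

namespace Groth.Agent.S9871

/-- Let `s, t : R ⟶ U` be an etale equivalence relation on a scheme `U` over `S` and let `g : U' ⟶ U` be
an etale morphism over `S`. Let `s', t' : R' ⟶ U'` be the restriction to `U'`: `R'`, with `(t', s')`
and `R' ⟶ R`, is the fibre product of `U' ×_S U'` and `R` over `U ×_S U`. Then `s', t'` is again an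
etale equivalence relation. -/
theorem result (S : Scheme.{u}) {R U R' U' : Over S} (s t : R ⟶ U)
    (g : U' ⟶ U) (s' t' : R' ⟶ U') (r : R' ⟶ R)
    (hsq : IsPullback (prod.lift t' s') r (prod.map g g) (prod.lift t s))
    (h : AlgSp.IsEtaleEqvRel s t) [Etale g.left] :
    AlgSp.IsEtaleEqvRel s' t' := by
  have l1 : prod.lift t' s' ≫ prod.fst = t' := prod.lift_fst _ _
  have l2 : prod.lift t' s' ≫ prod.snd = s' := prod.lift_snd _ _
  have m1 : prod.lift t s ≫ prod.fst = t := prod.lift_fst _ _
  have m2 : prod.lift t s ≫ prod.snd = s := prod.lift_snd _ _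
  have g1 : prod.map g g ≫ prod.fst = prod.fst ≫ g := prod.map_fst _ _
  have g2 : prod.map g g ≫ prod.snd = prod.snd ≫ g := prod.map_snd _ _
  have hrt : r ≫ t = t' ≫ g := by
    have := congrArg (· ≫ prod.fst) hsq.w
    simp only [Category.assoc] at this
    rw [g1, m1, ← Category.assoc, l1] at this
    exact this.symm
  have hrs : r ≫ s = s' ≫ g := by
    have := congrArg (· ≫ prod.snd) hsq.w
    simp only [Category.assoc] at this
    rw [g2, m2, ← Category.assoc, l2] at this
    exact this.symm
  have hext : ∀ {T : Over S} (φ φ' : T ⟶ R'), φ ≫ t' = φ' ≫ t' → φ ≫ s' = φ' ≫ s' →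
      φ ≫ r = φ' ≫ r → φ = φ' := by
    intro T φ φ' h1 h2 h3
    apply hsq.hom_ext _ h3
    apply Limits.prod.hom_ext
    · rw [Category.assoc, Category.assoc, l1, h1]
    · rw [Category.assoc, Category.assoc, l2, h2]
  have hlift : ∀ {T : Over S} (a b : T ⟶ U') (ρ : T ⟶ R), ρ ≫ t = a ≫ g → ρ ≫ s = b ≫ g →
      ∃ l : T ⟶ R', l ≫ t' = a ∧ l ≫ s' = b ∧ l ≫ r = ρ := by
    intro T a b ρ h1 h2
    have pa : prod.lift a b ≫ prod.fst = a := prod.lift_fst _ _
    have pb : prod.lift a b ≫ prod.snd = b := prod.lift_snd _ _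
    have hc : prod.lift a b ≫ prod.map g g = ρ ≫ prod.lift t s := by
      apply Limits.prod.hom_ext
      · rw [Category.assoc, Category.assoc, g1, m1, ← Category.assoc, pa, h1]
      · rw [Category.assoc, Category.assoc, g2, m2, ← Category.assoc, pb, h2]
    refine ⟨hsq.lift _ _ hc, ?_, ?_, hsq.lift_snd _ _ _⟩
    · calc hsq.lift _ _ hc ≫ t' = (hsq.lift _ _ hc ≫ prod.lift t' s') ≫ prod.fst := by
            rw [Category.assoc, l1]
        _ = a := by rw [hsq.lift_fst, pa]
    · calc hsq.lift _ _ hc ≫ s' = (hsq.lift _ _ hc ≫ prod.lift t' s') ≫ prod.snd := by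
            rw [Category.assoc, l2]
        _ = b := by rw [hsq.lift_fst, pb]
  haveI hs_et : Etale s.left := h.etale_left
  haveI ht_et : Etale t.left := h.etale_right
  -- the intermediate fibre product R ×_{s,U} U'
  have sq1 : IsPullback (pullback.fst s g) (pullback.snd s g) s g := IsPullback.of_hasPullback s g
  have hq1 : Etale (pullback.fst s g).left :=
    MorphismProperty.of_isPullback (P := @Etale) (sq1.flip.map (Over.forget S)) ‹Etale g.left›
  have hq2 : Etale (pullback.snd s g).left :=
    MorphismProperty.of_isPullback (P := @Etale) (sq1.map (Over.forget S)) hs_et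
  let ℓ : R' ⟶ pullback s g := pullback.lift r s' hrs
  have hℓ1 : ℓ ≫ pullback.fst s g = r := pullback.lift_fst _ _ _
  have hℓ2 : ℓ ≫ pullback.snd s g = s' := pullback.lift_snd _ _ _
  have sq2 : IsPullback ℓ t' (pullback.fst s g ≫ t) g := by
    refine IsPullback.mk' ?_ ?_ ?_
    · rw [← Category.assoc, hℓ1, hrt]
    · intro T φ φ' h1 h2
      apply hext φ φ' h2
      · rw [← hℓ2, ← Category.assoc, ← Category.assoc, h1]
      · rw [← hℓ1, ← Category.assoc, ← Category.assoc, h1]
    · intro T a b hab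
      obtain ⟨l, hl1, hl2, hl3⟩ := hlift b (a ≫ pullback.snd s g) (a ≫ pullback.fst s g)
        (by rw [Category.assoc]; exact hab)
        (by rw [Category.assoc, Category.assoc, pullback.condition])
      refine ⟨l, ?_, hl1⟩
      apply pullback.hom_ext
      · rw [Category.assoc, hℓ1, hl3]
      · rw [Category.assoc, hℓ2, hl2]
  have hℓ_et : Etale ℓ.left :=
    MorphismProperty.of_isPullback (P := @Etale) (sq2.flip.map (Over.forget S)) ‹Etale g.left›
  have hq1t : Etale (pullback.fst s g ≫ t).left := by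
    rw [Over.comp_left]
    infer_instance
  have ht' : Etale t'.left :=
    MorphismProperty.of_isPullback (P := @Etale) (sq2.map (Over.forget S)) hq1t
  have hs' : Etale s'.left := by
    rw [← hℓ2, Over.comp_left]
    infer_instance
  refine ⟨⟨?_, ?_⟩, hs', ht'⟩
  · intro T φ φ' h1 h2
    apply hext φ φ' h1 h2
    apply h.injective T
    · rw [Category.assoc, Category.assoc, hrt, ← Category.assoc, ← Category.assoc, h1]
    · rw [Category.assoc, Category.assoc, hrs, ← Category.assoc, ← Category.assoc, h2]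
  · intro T
    have rel_iff : ∀ (a b : T ⟶ U'), (∃ r' : T ⟶ R', r' ≫ t' = a ∧ r' ≫ s' = b) ↔
        ∃ ρ : T ⟶ R, ρ ≫ t = a ≫ g ∧ ρ ≫ s = b ≫ g := by
      intro a b
      constructor
      · rintro ⟨r', rfl, rfl⟩
        exact ⟨r' ≫ r, by rw [Category.assoc, hrt, Category.assoc],
          by rw [Category.assoc, hrs, Category.assoc]⟩
      · rintro ⟨ρ, h1, h2⟩
        obtain ⟨l, hl1, hl2, _⟩ := hlift a b ρ h1 h2
        exact ⟨l, hl1, hl2⟩
    have hE := h.equivalence T
    refine ⟨fun a => (rel_iff a a).2 (hE.refl _), fun {a b} hab => (rel_iff b a).2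
      (hE.symm ((rel_iff a b).1 hab)), fun {a b c} h1 h2 => (rel_iff a c).2
      (hE.trans ((rel_iff a b).1 h1) ((rel_iff b c).1 h2))⟩

end Groth.Agent.S9871
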