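import Groth.Statements.S9872
import Mathlib
import Groth.Agent.Lib.helper5.AlgSpFib

set_option autoImplicit false
universe u
open CategoryTheory CategoryTheory.Limits AlgebraicGeometry
open AlgSp

namespace Groth.Agent.S9872

/-- Let `F` be an algebraic space over `S`, `p : h_U ⟶ F` representable etale and representable
surjective with `U` a scheme over `S`, and let `s, t : R ⟶ U` over `S` be such that `h_R`, with
`h_t` and `h_s`, is the fibre product `h_U ×_F h_U`. Then `s, t` is an etale equivalence relation on
`U` over `S`, and `p` exhibits `F` as the coequalizer of `h_t, h_s : h_R ⟶ h_U` in fppf sheaves of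
sets over `S`. -/
theorem result (S : Scheme.{u}) (F : AlgSp.Sp S) (hF : AlgSp.IsAlgSpace F)
    {R U : Over S} (p : (AlgSp.yon S).obj U ⟶ F) (he : AlgSp.RepWith @Etale p)
    (hs : AlgSp.RepWith @Surjective p) (s t : R ⟶ U)
    (sq : IsPullback ((AlgSp.yon S).map t) ((AlgSp.yon S).map s) p p) :
    AlgSp.IsEtaleEqvRel s t ∧ Nonempty (IsColimit (Cofork.ofπ p sq.w)) := by
  have rel_iff : ∀ {T : Over S} (a b : T ⟶ U), (∃ r : T ⟶ R, r ≫ t = a ∧ r ≫ s = b) ↔
      (AlgSp.yon S).map a ≫ p = (AlgSp.yon S).map b ≫ p := by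
    intro T a b
    constructor
    · rintro ⟨r, rfl, rfl⟩
      rw [Functor.map_comp, Functor.map_comp, Category.assoc, Category.assoc, sq.w]
    · intro h
      refine ⟨(AlgSp.yon S).preimage (sq.lift _ _ h), ?_, ?_⟩
      · apply (AlgSp.yon S).map_injective
        rw [Functor.map_comp, Functor.map_preimage, sq.lift_fst]
      · apply (AlgSp.yon S).map_injective
        rw [Functor.map_comp, Functor.map_preimage, sq.lift_snd]
  refine ⟨⟨⟨?_, ?_⟩, ?_, ?_⟩, ?_⟩
  · intro T r r' h1 h2
    apply (AlgSp.yon S).map_injective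
    apply sq.hom_ext
    · rw [← Functor.map_comp, ← Functor.map_comp, h1]
    · rw [← Functor.map_comp, ← Functor.map_comp, h2]
  · intro T
    refine ⟨fun a => (rel_iff a a).2 rfl, fun {a b} h => (rel_iff b a).2 ((rel_iff a b).1 h).symm,
      fun {a b c} h1 h2 => (rel_iff a c).2 (((rel_iff a b).1 h1).trans ((rel_iff b c).1 h2))⟩
  · exact he.2 p _ s sq
  · exact he.2 p _ t sq.flip
  · have hp1 : AlgSp.RepWith @Flat p := ⟨he.1, fun U V g fst snd sq => by
      haveI : Etale snd.left := he.2 g fst snd sq
      show Flat snd.left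
      infer_instance⟩
    have hp2 : AlgSp.RepWith @LocallyOfFinitePresentation p := ⟨he.1, fun U V g fst snd sq => by
      haveI : Etale snd.left := he.2 g fst snd sq
      show LocallyOfFinitePresentation snd.left
      infer_instance⟩
    haveI : Sheaf.IsLocallySurjective p := AlgSp.H5_isLocallySurjective_of_fppf p hp1 hp2 hs
    haveI : Epi p := inferInstance
    haveI : IsRegularEpi p := IsRegularEpiCategory.regularEpiOfEpi p
    haveI : EffectiveEpi p := inferInstance
    exact ⟨(EffectiveEpi.effectiveEpi (f := p)).some.isColimitCoforkOfIsPullback sq⟩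

end Groth.Agent.S9872
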