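import Groth.Statements.S9875
import Mathlib
import Groth.Agent.Lib.helper5.AlgSpFib

set_option autoImplicit false
universe u
open CategoryTheory CategoryTheory.Limits AlgebraicGeometry
open AlgSp

namespace Groth.Agent.S9875

/-- The category of algebraic spaces over `S` has fibre products, and the inclusion functor into fppf
sheaves of sets over `S` preserves them (the fibre product of sheaves of two algebraic spaces over a
third is an algebraic space and is their fibre product as algebraic spaces). -/
theorem result (S : Scheme.{u}) :
    HasPullbacks (AlgSp.Space S) ∧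
      PreservesLimitsOfShape WalkingCospan (ObjectProperty.ι (AlgSp.IsAlgSpace (S := S))) := by
  haveI : ObjectProperty.IsClosedUnderLimitsOfShape (AlgSp.IsAlgSpace (S := S)) WalkingCospan := by
    refine ObjectProperty.IsClosedUnderLimitsOfShape.mk' ?_
    rintro _ ⟨F, hF⟩
    have e : limit F ≅ pullback (F.map WalkingCospan.Hom.inl) (F.map WalkingCospan.Hom.inr) :=
      HasLimit.isoOfNatIso (diagramIsoCospan F)
    have hP : AlgSp.IsAlgSpace (pullback (F.map WalkingCospan.Hom.inl)
        (F.map WalkingCospan.Hom.inr)) :=
      AlgSp.H5_isAlgSpace_of_isPullback (F.obj WalkingCospan.one) (hF _).diag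
        ⟨F.obj WalkingCospan.left, hF _⟩ ⟨F.obj WalkingCospan.right, hF _⟩ _ _ _ _ _
        (IsPullback.of_hasPullback _ _)
    exact hP.of_iso e.symm
  exact ⟨inferInstance, inferInstance⟩

end Groth.Agent.S9875
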