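import Groth.Statements.S9902
import Mathlib
import Groth.Agent.Lib.helper5.AlgSpDiag2

set_option autoImplicit false
universe u
open CategoryTheory CategoryTheory.Limits AlgebraicGeometry
open AlgSp

namespace Groth.Agent.S9902

/-- Let s be a section of a morphism f : X -> T of algebraic spaces. Then s is representable by schemes
and, in the representable sense, a separated monomorphism that is locally of finite type and locally
quasi-finite; when f is separated s is a closed immersion, and when f is quasi-separated s is
quasi-compact. (The published lemma also shows that s is an immersion when f is locally separated;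
this row omits that clause.) -/
theorem result {S : Scheme.{u}} {X T : AlgSp.Space S} (f : X ⟶ T) (s : T ⟶ X)
    (hs : s ≫ f = 𝟙 T) :
    AlgSp.Representable s.hom ∧
    AlgSp.RepWith @LocallyOfFiniteType s.hom ∧
    AlgSp.RepWith (@LocallyQuasiFinite ⊓ @LocallyOfFiniteType) s.hom ∧
    AlgSp.RepWith @IsSeparated s.hom ∧
    AlgSp.RepWith (MorphismProperty.monomorphisms Scheme.{u}) s.hom ∧
    (AlgSp.IsSeparatedMor f.hom → AlgSp.RepWith @IsClosedImmersion s.hom) ∧
    (AlgSp.IsQuasiSeparatedMor f.hom → AlgSp.RepWith @QuasiCompact s.hom) := by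
  obtain ⟨k0, k1, k2, k3, k4⟩ := AlgSp.H5_diagonal_properties X.property f.hom
  have hs' : s.hom ≫ f.hom = 𝟙 T.obj := by
    have := congrArg (fun φ => φ.hom) hs
    exact this
  have m1 := AlgSp.H5_section_of_diagonal (AlgSp.RepWith @LocallyOfFiniteType) f.hom s.hom hs' k1
  exact ⟨m1.1, m1,
    AlgSp.H5_section_of_diagonal (AlgSp.RepWith (@LocallyQuasiFinite ⊓ @LocallyOfFiniteType))
      f.hom s.hom hs' k4,
    AlgSp.H5_section_of_diagonal (AlgSp.RepWith @IsSeparated) f.hom s.hom hs' k3,
    AlgSp.H5_section_of_diagonal (AlgSp.RepWith (MorphismProperty.monomorphisms Scheme.{u}))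
      f.hom s.hom hs' k2,
    fun h => AlgSp.H5_section_of_diagonal (AlgSp.RepWith @IsClosedImmersion) f.hom s.hom hs' h,
    fun h => AlgSp.H5_section_of_diagonal (AlgSp.RepWith @QuasiCompact) f.hom s.hom hs' h⟩

end Groth.Agent.S9902
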