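import Groth.Statements.S9911
import Mathlib
import Groth.Agent.Lib.helper5.AlgSpUniv

set_option autoImplicit false
universe u
open CategoryTheory CategoryTheory.Limits AlgebraicGeometry
open AlgSp

namespace Groth.Agent.S9911

/-- A morphism from an algebraic space to the spectrum of a field is universally open. -/
theorem result {S : Scheme.{u}} (X : AlgSp.Space S) {k : Type u} [Field k]
    (str : Spec (CommRingCat.of k) ⟶ S) (p : X ⟶ (AlgSp.ofScheme S).obj (Over.mk str)) :
    AlgSp.IsUnivOpenMor p.hom := by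
  obtain ⟨U, φ, hφe, hφs⟩ := X.property.atlas
  refine AlgSp.H5_isUnivOpenMor_of_chart_comp p.hom φ (AlgSp.H5_surjective_of_repWith φ hφs) ?_
  obtain ⟨h, hh⟩ := (AlgSp.yon S).map_surjective
    (φ ≫ p.hom : (AlgSp.yon S).obj U ⟶ (AlgSp.yon S).obj (Over.mk str))
  have h2 : AlgSp.RepWith @UniversallyOpen ((AlgSp.yon S).map h) := by
    rw [AlgSp.repWith_yon_map_iff]
    have key : ∀ (f : U.left ⟶ Spec (CommRingCat.of k)), UniversallyOpen f := fun f => inferInstance
    exact key h.left
  rw [hh] at h2
  exact h2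

end Groth.Agent.S9911
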