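import Groth.Statements.S9921
import Mathlib
import Groth.Agent.Lib.helper5.AlgSpProd

set_option autoImplicit false
universe u
open CategoryTheory CategoryTheory.Limits AlgebraicGeometry
open AlgSp

namespace Groth.Agent.S9921

/-- Over a base scheme with quasi-separated underlying space, a fibre product of algebraic spaces that
are quasi-compact and quasi-separated over S is again quasi-compact and quasi-separated over S. (The
published statement takes quasi-separatedness in the absolute sense; this row takes it over S and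
assumes S quasi-separated.) -/
theorem result {S : Scheme.{u}} [QuasiSeparatedSpace ↥S] {X Y Z P : AlgSp.Space S}
    (f : X ⟶ Y) (g : Z ⟶ Y) (fst : P ⟶ X) (snd : P ⟶ Z) (sq : IsPullback fst.hom snd.hom f.hom g.hom)
    (hX : AlgSp.IsQuasiCompactSp X.obj ∧ AlgSp.IsQuasiSeparatedSp X.obj)
    (hY : AlgSp.IsQuasiCompactSp Y.obj ∧ AlgSp.IsQuasiSeparatedSp Y.obj)
    (hZ : AlgSp.IsQuasiCompactSp Z.obj ∧ AlgSp.IsQuasiSeparatedSp Z.obj) :
    AlgSp.IsQuasiCompactSp P.obj ∧ AlgSp.IsQuasiSeparatedSp P.obj := by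
  refine ⟨?_, ?_⟩
  · exact (AlgSp.H5_isQuasiCompactMor_of_qc_qsep f.hom X.property hX.1 hY.2) Z.property hZ.1
      g.hom fst.hom snd.hom sq
  · have h1 : AlgSp.IsQuasiSeparatedMor f.hom :=
      AlgSp.H5_isQuasiSeparatedMor_of_isQuasiSeparatedSp f.hom hX.2
    have h2 : AlgSp.IsQuasiSeparatedMor snd.hom := AlgSp.H5_isQuasiSeparatedMor_baseChange sq h1
    exact AlgSp.H5_isQuasiSeparatedSp_of_mor snd.hom h2 hZ.2

end Groth.Agent.S9921
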