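import Groth.Statements.S9929
import Mathlib
import Groth.Agent.Lib.helper5.AlgSpPoints
import Groth.Agent.Lib.helper5.AlgSpDiag2

set_option autoImplicit false
universe u
open CategoryTheory CategoryTheory.Limits AlgebraicGeometry
open AlgSp

namespace Groth.Agent.S9929

/-- A monomorphism from an algebraic space to the spectrum of a field is either the empty space or an
isomorphism. -/
theorem result {S : Scheme.{u}} {k : Type u} [Field k] (str : Spec (CommRingCat.of k) ⟶ S)
    (Z : AlgSp.Space S) (f : Z ⟶ (AlgSp.ofScheme S).obj (Over.mk str)) [Mono f.hom] :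
    IsEmpty (AlgSp.Points Z.obj) ∨ IsIso f := by
  by_cases hE : IsEmpty (AlgSp.Points Z.obj)
  · exact Or.inl hE
  · right
    rw [not_isEmpty_iff] at hE
    obtain ⟨z⟩ := hE
    obtain ⟨U, a, hae, has⟩ := Z.property.atlas
    obtain ⟨y, hy⟩ := AlgSp.H5_surjective_of_repWith a has z
    obtain ⟨O, hO, hu₀O, -⟩ := exists_isAffineOpen_mem_and_subset
      (x := AlgSp.Points.toScheme U y) (U := ⊤) trivial
    let U' : Over S := Over.mk (O.ι ≫ U.hom)
    let j : U' ⟶ U := Over.homMk O.ι rfl
    have hj : AlgSp.RepWith @Etale ((AlgSp.yon S).map j) :=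
      (AlgSp.repWith_yon_map_iff @Etale j).2 (inferInstance : Etale O.ι)
    have ha' : AlgSp.RepWith @Etale ((AlgSp.yon S).map j ≫ a) :=
      (AlgSp.RepWith @Etale).comp_mem _ _ hj hae
    obtain ⟨u', hu'⟩ := (AlgSp.yon S).map_surjective
      (((AlgSp.yon S).map j ≫ a) ≫ f.hom : (AlgSp.yon S).obj U' ⟶ (AlgSp.yon S).obj (Over.mk str))
    have sqO := IsPullback.of_hasPullback u' u'
    have sqY := sqO.map (AlgSp.yon S)
    rw [hu'] at sqY
    have sqZ : IsPullback ((AlgSp.yon S).map (pullback.fst u' u'))
        ((AlgSp.yon S).map (pullback.snd u' u')) ((AlgSp.yon S).map j ≫ a)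
        ((AlgSp.yon S).map j ≫ a) := by
      refine IsPullback.mk' ?_ ?_ ?_
      · rw [← cancel_mono f.hom]
        have h0 := sqY.w
        simp only [Category.assoc] at h0 ⊢
        exact h0
      · intro T φ φ' h1 h2
        exact sqY.hom_ext h1 h2
      · intro T x y hxy
        have h0 : x ≫ ((AlgSp.yon S).map j ≫ a) ≫ f.hom =
            y ≫ ((AlgSp.yon S).map j ≫ a) ≫ f.hom := by
          rw [← Category.assoc, hxy, Category.assoc]
        exact ⟨sqY.lift x y h0, sqY.lift_fst _ _ _, sqY.lift_snd _ _ _⟩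
    have hpr : Etale (pullback.snd u' u').left :=
      (AlgSp.repWith_yon_map_iff @Etale _).1 (MorphismProperty.of_isPullback sqZ ha')
    have sqS : IsPullback (pullback.snd u' u').left (pullback.fst u' u').left u'.left u'.left :=
      (sqO.map (Over.forget S)).flip
    haveI hsub : Subsingleton ↥(Over.mk str).left :=
      (inferInstance : Subsingleton (PrimeSpectrum k))
    haveI hOaff : IsAffine U'.left := hO
    haveI hint : IsIntegral (Over.mk str).left :=
      (inferInstance : IsIntegral (Spec (CommRingCat.of k)))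
    haveI hKaff : IsAffine (Over.mk str).left :=
      (inferInstance : IsAffine (Spec (CommRingCat.of k)))
    have hsurj : Surjective u'.left :=
      ⟨fun x => ⟨⟨AlgSp.Points.toScheme U y, hu₀O⟩, Subsingleton.elim _ _⟩⟩
    have hflat : Flat u'.left := inferInstance
    have hqc : QuasiCompact u'.left := inferInstance
    have hEt : Etale u'.left :=
      MorphismProperty.of_isPullback_of_descendsAlong (P := @Etale)
        (Q := @Surjective ⊓ @Flat ⊓ @QuasiCompact) sqS ⟨⟨hsurj, hflat⟩, hqc⟩ hpr
    have he1 : AlgSp.RepWith @Etale ((AlgSp.yon S).map u') :=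
      (AlgSp.repWith_yon_map_iff @Etale u').2 hEt
    have he2 : AlgSp.RepWith @Surjective ((AlgSp.yon S).map u') :=
      (AlgSp.repWith_yon_map_iff @Surjective u').2 hsurj
    haveI : Sheaf.IsLocallySurjective ((AlgSp.yon S).map u') :=
      AlgSp.H5_isLocallySurjective_of_etale _ he1 he2
    have hepi : Epi ((AlgSp.yon S).map u') :=
      Sheaf.epi_of_isLocallySurjective' ((AlgSp.yon S).map u')
    haveI : Epi f.hom :=
      @epi_of_epi_fac _ _ _ _ _ ((AlgSp.yon S).map j ≫ a) f.hom ((AlgSp.yon S).map u') hepi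
        hu'.symm
    haveI : IsIso f.hom := isIso_of_mono_of_epi f.hom
    exact ⟨⟨ObjectProperty.homMk (inv f.hom), by
      apply ObjectProperty.hom_ext
      exact IsIso.hom_inv_id f.hom, by
      apply ObjectProperty.hom_ext
      exact IsIso.inv_hom_id f.hom⟩⟩

end Groth.Agent.S9929
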