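import Groth.Statements.S9930
import Mathlib
import Groth.Agent.Lib.helper5.AlgSpUniv
import Groth.Agent.Lib.helper5.AlgSpPoints

set_option autoImplicit false
universe u
open CategoryTheory CategoryTheory.Limits AlgebraicGeometry
open AlgSp

namespace Groth.Agent.S9930

/-- For a morphism of algebraic spaces representable by schemes, representable universal submersiveness
is equivalent to |Z x_Y X| -> |Z| being a quotient map after every base change along a morphism of
algebraic spaces. -/
theorem result {S : Scheme.{u}} {X Y : AlgSp.Space S} (f : X ⟶ Y)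
    (hf : AlgSp.Representable f.hom) :
    AlgSp.RepWith SGA1.UnivSubmersive f.hom ↔ AlgSp.IsUnivSubmersiveMor f.hom := by
  have hle0 : SGA1.UnivSubmersive ≤
      (AlgebraicGeometry.topologically fun f => Topology.IsQuotientMap f :
        MorphismProperty Scheme.{u}) := MorphismProperty.universally_le _
  have key : ∀ {F G : AlgSp.Sp S} (φ : F ⟶ G), AlgSp.RepWith SGA1.UnivSubmersive φ →
      Topology.IsQuotientMap (AlgSp.Points.map φ) := by
    intro F G φ hφ
    have hle : SGA1.UnivSubmersive ≤ (@Surjective : MorphismProperty Scheme.{u}) := by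
      intro A B k hk
      have hq : Topology.IsQuotientMap k := hle0 _ hk
      exact ⟨hq.surjective⟩
    refine ⟨Topology.IsCoinducing.of_isOpen_preimage_iff_isOpen fun s =>
      ⟨fun hs => ?_, fun hs => hs.preimage (AlgSp.Points.continuous_map φ)⟩,
      AlgSp.H5_surjective_of_repWith φ (AlgSp.H5_repWith_of_le hle hφ)⟩
    rw [AlgSp.Points.isOpen_iff]
    intro T g
    have sq := hφ.1.isPullback g
    have hb : SGA1.UnivSubmersive (hφ.1.snd g).left := hφ.2 _ _ _ sq
    have hq : Topology.IsQuotientMap (hφ.1.snd g).left := hle0 _ hb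
    rw [← hq.isCoinducing.isOpen_preimage]
    have e : (hφ.1.snd g).left ⁻¹' (AlgSp.Points.ofPt g ⁻¹' s) =
        AlgSp.Points.ofPt (hφ.1.fst g) ⁻¹' (AlgSp.Points.map φ ⁻¹' s) := by
      ext v
      simp only [Set.mem_preimage]
      rw [AlgSp.Points.map_ofPt, sq.w, AlgSp.H5_ofPt_comp]
    rw [e]
    exact hs.preimage (AlgSp.Points.continuous_ofPt _)
  constructor
  · intro h Z Z' _ g fst snd sq
    exact key snd (MorphismProperty.of_isPullback sq h)
  · intro h
    refine AlgSp.H5_repWith_universally f.hom hf _ fun T V g a b sq => ?_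
    have h1 : Topology.IsQuotientMap (AlgSp.Points.map ((AlgSp.yon S).map b)) :=
      h (AlgSp.IsAlgSpace.yon_obj T) g a _ sq
    show Topology.IsQuotientMap (fun t => b.left t)
    rw [AlgSp.H5_left_eq]
    exact (AlgSp.Points.schemeHomeo T).symm.isQuotientMap.comp
      (h1.comp (AlgSp.Points.schemeHomeo V).isQuotientMap)

end Groth.Agent.S9930
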