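import Groth.Statements.S9934
import Mathlib
import Groth.Agent.Lib.helper5.AlgSpUniv
import Groth.Agent.Lib.helper5.AlgSpPoints

set_option autoImplicit false
universe u
open CategoryTheory CategoryTheory.Limits AlgebraicGeometry
open AlgSp

namespace Groth.Agent.S9934

/-- An immersion of algebraic spaces is a closed immersion exactly when its image on points is closed. -/
theorem result {S : Scheme.{u}} {Z X : AlgSp.Space S} (i : Z ⟶ X)
    (hi : AlgSp.RepWith @IsImmersion i.hom) :
    AlgSp.RepWith @IsClosedImmersion i.hom ↔ IsClosed (Set.range (AlgSp.Points.map i.hom)) := by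
  constructor
  · intro h
    have hcl : IsClosedMap (AlgSp.Points.map i.hom) :=
      AlgSp.H5_isClosedMap_of_repWith i.hom
        (AlgSp.H5_repWith_of_le
          (fun _ _ g hg => by haveI : IsClosedImmersion g := hg; infer_instance) h)
    rw [← Set.image_univ]
    exact hcl _ isClosed_univ
  · intro hcl
    refine ⟨hi.1, ?_⟩
    intro T W g fst snd sq
    haveI : IsImmersion snd.left := hi.2 g fst snd sq
    have hr : Set.range snd.left =
        AlgSp.Points.ofPt g ⁻¹' (Set.range (AlgSp.Points.map i.hom)) := by
      have h0 := AlgSp.H5_preimage_image_eq sq Set.univ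
      rw [Set.image_univ, Set.preimage_univ, Set.image_univ] at h0
      exact h0.symm
    show IsClosedImmersion snd.left
    exact IsClosedImmersion.of_isPreimmersion _
      (by rw [hr]; exact hcl.preimage (AlgSp.Points.continuous_ofPt g))

end Groth.Agent.S9934
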