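import Groth.Statements.S9937
import Mathlib
import Groth.Agent.Lib.helper5.AlgSpDiag

set_option autoImplicit false
universe u
open CategoryTheory CategoryTheory.Limits AlgebraicGeometry
open AlgSp

namespace Groth.Agent.S9937

/-- Closed immersions between algebraic spaces are separated morphisms. -/
theorem result {S : Scheme.{u}} {X Y : AlgSp.Space S} (f : X ⟶ Y)
    (hf : AlgSp.RepWith @IsClosedImmersion f.hom) : AlgSp.IsSeparatedMor f.hom := by
  refine (AlgSp.H5_repWith_diagonal_iff @IsClosedImmersion f.hom hf.1).2 ⟨hf.1, ?_⟩
  intro U V g fst snd sq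
  have h : IsClosedImmersion snd.left := hf.2 g fst snd sq
  change IsClosedImmersion (pullback.diagonal snd.left)
  infer_instance

end Groth.Agent.S9937
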