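import Groth.Statements.S9939
import Mathlib
import Groth.Agent.Lib.helper5.AlgSpPoints

set_option autoImplicit false
universe u
open CategoryTheory CategoryTheory.Limits AlgebraicGeometry
open AlgSp

namespace Groth.Agent.S9939

/-- For a morphism of algebraic spaces representable by schemes, representable universal injectivity is
equivalent to injectivity on K-valued points for every field K. -/
theorem result {S : Scheme.{u}} {X Y : AlgSp.Space S} (f : X ⟶ Y)
    (hf : AlgSp.Representable f.hom) :
    AlgSp.RepWith @UniversallyInjective f.hom ↔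
      ∀ (K : Type u) [Field K] (str : Spec (CommRingCat.of K) ⟶ S),
        Function.Injective (fun a : (AlgSp.yon S).obj (Over.mk str) ⟶ X.obj => a ≫ f.hom) := by
  constructor
  · intro h K _ str a a' haa
    have haa' : a ≫ f.hom = a' ≫ f.hom := haa
    have sq := h.1.isPullback (a ≫ f.hom)
    haveI hb : UniversallyInjective (h.1.snd (a ≫ f.hom)).left := h.2 _ _ _ sq
    obtain ⟨s, hs⟩ := (AlgSp.yon S).map_surjective
      (sq.lift a (𝟙 _) (by rw [Category.id_comp]))
    obtain ⟨s', hs'⟩ := (AlgSp.yon S).map_surjective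
      (sq.lift a' (𝟙 _) (by rw [Category.id_comp, haa']))
    have e1 : s ≫ h.1.snd (a ≫ f.hom) = 𝟙 _ := by
      apply (AlgSp.yon S).map_injective
      rw [CategoryTheory.Functor.map_comp, hs, sq.lift_snd, CategoryTheory.Functor.map_id]
    have e2 : s' ≫ h.1.snd (a ≫ f.hom) = 𝟙 _ := by
      apply (AlgSp.yon S).map_injective
      rw [CategoryTheory.Functor.map_comp, hs', sq.lift_snd, CategoryTheory.Functor.map_id]
    have e3 : s.left = s'.left := by
      have key : ∀ (K : Type u) [Field K], Function.Injective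
          (fun g : Spec (.of K) ⟶ (h.1.pullback (a ≫ f.hom)).left ↦ g ≫ (h.1.snd (a ≫ f.hom)).left) :=
        ((tfae_universallyInjective (h.1.snd (a ≫ f.hom)).left).out 0 1).1 hb
      apply key K
      change s.left ≫ (h.1.snd (a ≫ f.hom)).left = s'.left ≫ (h.1.snd (a ≫ f.hom)).left
      rw [← Over.comp_left, ← Over.comp_left, e1, e2]
    have e4 : s = s' := Over.OverMorphism.ext e3
    have e5 : a = (AlgSp.yon S).map s ≫ h.1.fst (a ≫ f.hom) := by rw [hs, sq.lift_fst]
    have e6 : a' = (AlgSp.yon S).map s' ≫ h.1.fst (a ≫ f.hom) := by rw [hs', sq.lift_fst]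
    rw [e5, e6, e4]
  · intro h
    refine ⟨hf, ?_⟩
    intro T V g fst b sq
    change UniversallyInjective b.left
    have key : (∀ (K : Type u) [Field K], Function.Injective
          (fun g : Spec (.of K) ⟶ V.left ↦ g ≫ b.left)) → UniversallyInjective b.left :=
        ((tfae_universallyInjective b.left).out 0 1).2
    apply key
    intro K _ g₁ g₂ hg
    have hg' : g₁ ≫ b.left = g₂ ≫ b.left := hg
    have hstr : g₂ ≫ V.hom = g₁ ≫ V.hom := by
      rw [← Over.w b, ← Category.assoc, ← Category.assoc, hg']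
    let γ₁ : Over.mk (g₁ ≫ V.hom) ⟶ V := Over.homMk g₁ rfl
    let γ₂ : Over.mk (g₁ ≫ V.hom) ⟶ V := Over.homMk g₂ hstr
    have hγ : γ₁ ≫ b = γ₂ ≫ b := Over.OverMorphism.ext hg'
    have h1 : (AlgSp.yon S).map γ₁ ≫ fst = (AlgSp.yon S).map γ₂ ≫ fst := by
      apply h K (g₁ ≫ V.hom)
      change ((AlgSp.yon S).map γ₁ ≫ fst) ≫ f.hom = ((AlgSp.yon S).map γ₂ ≫ fst) ≫ f.hom
      rw [Category.assoc, Category.assoc, sq.w, ← Category.assoc, ← Category.assoc,
        ← Functor.map_comp, ← Functor.map_comp, hγ]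
    have h2 : (AlgSp.yon S).map γ₁ = (AlgSp.yon S).map γ₂ := by
      apply sq.hom_ext h1
      rw [← Functor.map_comp, ← Functor.map_comp, hγ]
    have h3 : γ₁ = γ₂ := (AlgSp.yon S).map_injective h2
    exact congrArg (fun x => x.left) h3

end Groth.Agent.S9939
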