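import Groth.Statements.S9944
import Mathlib
import Groth.Agent.Lib.helper5.AlgSpFinite

set_option autoImplicit false
universe u
open CategoryTheory CategoryTheory.Limits AlgebraicGeometry
open AlgSp

namespace Groth.Agent.S9944

/-- Let g : X -> Y be a morphism over a base algebraic space B with X affine over B. Then g is affine as
soon as the diagonal of Y over B is affine, and in particular as soon as Y is B-separated. (The
published lemma also has two versions with the absolute diagonal of Y; this row states the versions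
over B.) -/
theorem result {S : Scheme.{u}} {X Y B : AlgSp.Space S} (g : X ⟶ Y) (p : X ⟶ B)
    (q : Y ⟶ B) (comm : g ≫ q = p) (hp : AlgSp.IsAffineMor p.hom) :
    (AlgSp.IsAffineMor (pullback.diagonal q.hom) → AlgSp.IsAffineMor g.hom) ∧
    (AlgSp.IsSeparatedMor q.hom → AlgSp.IsAffineMor g.hom) := by
  have hp' : AlgSp.H5_AffRep ⊤ (g.hom ≫ q.hom) := by
    have e : g.hom ≫ q.hom = p.hom := congrArg (fun k => k.hom) comm
    rw [e]
    exact (AlgSp.H5_isAffineMor_iff _).1 hp
  refine ⟨fun hd => ?_, fun hs => ?_⟩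
  · rw [AlgSp.H5_isAffineMor_iff]
    have h1 : AlgSp.H5_AffRep ⊤
        (pullback.lift (𝟙 X.obj) g.hom (by simp) : X.obj ⟶ pullback (g.hom ≫ q.hom) q.hom) :=
      AlgSp.H5_affRep_baseChange ⊤ (pullback_lift_diagonal_isPullback g.hom q.hom)
        ((AlgSp.H5_isAffineMor_iff _).1 hd)
    have h2 : AlgSp.H5_AffRep ⊤ (pullback.snd (g.hom ≫ q.hom) q.hom) :=
      AlgSp.H5_affRep_baseChange ⊤ (IsPullback.of_hasPullback (g.hom ≫ q.hom) q.hom) hp'
    have h3 := AlgSp.H5_affRep_comp ⊤ _ _ h1 h2
    rwa [pullback.lift_snd] at h3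
  · rw [AlgSp.H5_isAffineMor_iff]
    exact AlgSp.H5_affRep_of_comp_separated ⊤ le_top g.hom q.hom hs hp'

end Groth.Agent.S9944
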