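import Groth.Statements.S9951
import Mathlib
import Groth.Agent.Lib.helper5.SchemeNoeth

set_option autoImplicit false
universe u
open CategoryTheory CategoryTheory.Limits AlgebraicGeometry
open AlgSp

namespace Groth.Agent.S9951

/-- The source of a morphism locally of finite type with locally Noetherian target is locally
Noetherian. -/
theorem result {S : Scheme.{u}} {X Y : AlgSp.Space S} (f : X ⟶ Y)
    (hf : AlgSp.LocP @LocallyOfFiniteType f.hom) (hY : AlgSp.IsLocNoethSp Y.obj) : AlgSp.IsLocNoethSp X.obj := by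
  obtain ⟨U, a, haet, hasurj⟩ := X.property.atlas
  obtain ⟨V, b, hbet, hbsurj, hV⟩ := hY
  have hrep : AlgSp.Representable b := hbet.1
  have sq := hrep.isPullback (a ≫ f.hom)
  obtain ⟨k, hk⟩ := (AlgSp.yon S).map_surjective (hrep.fst (a ≫ f.hom))
  have hc_et : AlgSp.RepWith @Etale ((AlgSp.yon S).map (hrep.snd (a ≫ f.hom)) ≫ a) :=
    (AlgSp.RepWith @Etale).comp_mem _ _ (MorphismProperty.of_isPullback sq hbet) haet
  have hc_surj : AlgSp.RepWith @Surjective ((AlgSp.yon S).map (hrep.snd (a ≫ f.hom)) ≫ a) :=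
    (AlgSp.RepWith @Surjective).comp_mem _ _ (MorphismProperty.of_isPullback sq hbsurj) hasurj
  have hklft : LocallyOfFiniteType k.left := by
    refine hf _ b k hc_et hbet ?_
    rw [hk, Category.assoc]
    exact sq.w.symm
  haveI : IsLocallyNoetherian V.left := hV
  exact ⟨hrep.pullback (a ≫ f.hom), _, hc_et, hc_surj,
    AlgebraicGeometry.H5_isLocallyNoetherian_of_lft k.left⟩

end Groth.Agent.S9951
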