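import Groth.Statements.S9952
import Mathlib
import Groth.Agent.Lib.helper5.AlgSpLocP

set_option autoImplicit false
universe u
open CategoryTheory CategoryTheory.Limits AlgebraicGeometry
open AlgSp

namespace Groth.Agent.S9952

/-- If g ∘ f is locally of finite type then f is locally of finite type. -/
theorem result {S : Scheme.{u}} {X Y Z : AlgSp.Space S} (f : X ⟶ Y) (g : Y ⟶ Z)
    (h : AlgSp.LocP @LocallyOfFiniteType (f ≫ g).hom) : AlgSp.LocP @LocallyOfFiniteType f.hom := by
  exact AlgSp.H5_locP_of_comp @LocallyOfFiniteType
    (fun _ _ _ u v huv => by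
      haveI : LocallyOfFiniteType (u ≫ v) := huv
      exact locallyOfFiniteType_of_comp u v) Z.property f.hom g.hom h

end Groth.Agent.S9952
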