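import Groth.Statements.S9957
import Mathlib
import Groth.Agent.S9951
import Groth.Agent.Lib.helper5.AlgSpLargestOpen
import Groth.Agent.Lib.helper5.RelRep

set_option autoImplicit false
universe u
open CategoryTheory CategoryTheory.Limits AlgebraicGeometry
open AlgSp

namespace Groth.Agent.S9957

/-- The source of a morphism of finite presentation whose target is Noetherian is itself Noetherian,
Noetherian meaning quasi-compact, quasi-separated over S and locally Noetherian. (The published
statement uses quasi-separatedness in the absolute sense; this row uses quasi-separatedness over S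
in hypothesis and conclusion.) -/
theorem result {S : Scheme.{u}} {X Y : AlgSp.Space S} (f : X ⟶ Y)
    (hf : AlgSp.IsFinitePresentationMor f.hom)
    (hY : AlgSp.IsQuasiCompactSp Y.obj ∧ AlgSp.IsQuasiSeparatedSp Y.obj ∧ AlgSp.IsLocNoethSp Y.obj) :
    AlgSp.IsQuasiCompactSp X.obj ∧ AlgSp.IsQuasiSeparatedSp X.obj ∧ AlgSp.IsLocNoethSp X.obj := by
  obtain ⟨hlfp, hqc, hqs⟩ := hf
  obtain ⟨hYqc, hYqs, hYln⟩ := hY
  refine ⟨?_, ?_, ?_⟩
  · have sq : IsPullback (𝟙 X.obj) f.hom f.hom (𝟙 Y.obj) := IsPullback.of_horiz_isIso ⟨by simp⟩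
    exact hqc Y.property hYqc (𝟙 Y.obj) (𝟙 X.obj) f.hom sq
  · have hj : AlgSp.RepWith @QuasiCompact
        (prod.lift (pullback.fst f.hom f.hom) (pullback.snd f.hom f.hom)) :=
      MorphismProperty.of_isPullback
        (H5_isPullback_diag (IsPullback.of_hasPullback f.hom f.hom)) hYqs
    have heq : Limits.diag X.obj = pullback.diagonal f.hom ≫
        prod.lift (pullback.fst f.hom f.hom) (pullback.snd f.hom f.hom) := by
      apply Limits.prod.hom_ext <;> simp [Limits.diag]
    change AlgSp.RepWith @QuasiCompact (Limits.diag X.obj)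
    rw [heq]
    exact (AlgSp.RepWith @QuasiCompact).comp_mem _ _ hqs hj
  · refine Groth.Agent.S9951.result f (AlgSp.H5_locP_mono (fun _ _ k hk => ?_) hlfp) hYln
    haveI : LocallyOfFinitePresentation k := hk
    exact (inferInstance : LocallyOfFiniteType k)

end Groth.Agent.S9957
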