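import Groth.Statements.S9962
import Mathlib
import Groth.Agent.Lib.helper5.AlgSpCover
import Groth.Agent.Lib.helper5.FppfLocalInst

set_option autoImplicit false
universe u
open CategoryTheory CategoryTheory.Limits AlgebraicGeometry
open AlgSp

namespace Groth.Agent.S9962

/-- A flat morphism locally of finite presentation between algebraic spaces is universally open. -/
theorem result {S : Scheme.{u}} {X Y : AlgSp.Space S} (f : X ⟶ Y)
    (hfl : AlgSp.LocP @Flat f.hom) (hfp : AlgSp.LocP @LocallyOfFinitePresentation f.hom) :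
    AlgSp.IsUnivOpenMor f.hom := by
  intro Z Z' hZ g fst snd sq
  obtain ⟨U, a, haet, hasurj⟩ := X.property.atlas
  have hφfl : AlgSp.RepWith @Flat (a ≫ f.hom) :=
    AlgSp.H5_repWith_comp_chart_of_locP @Flat Y.property f.hom hfl a haet
  have hφfp : AlgSp.RepWith @LocallyOfFinitePresentation (a ≫ f.hom) :=
    AlgSp.H5_repWith_comp_chart_of_locP @LocallyOfFinitePresentation Y.property f.hom hfp a haet
  have hφ : AlgSp.RepWith @UniversallyOpen (a ≫ f.hom) := by
    refine ⟨hφfl.1, fun _ _ g' fst' snd' pb => ?_⟩
    haveI : Flat snd'.left := hφfl.2 g' fst' snd' pb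
    haveI : LocallyOfFinitePresentation snd'.left := hφfp.2 g' fst' snd' pb
    exact UniversallyOpen.of_flat snd'.left
  have sqP : IsPullback (pullback.fst a fst) (pullback.snd a fst) a fst :=
    IsPullback.of_hasPullback a fst
  have big : IsPullback (pullback.fst a fst) (pullback.snd a fst ≫ snd) (a ≫ f.hom) g :=
    sqP.paste_vert sq
  have hopen : IsOpenMap (AlgSp.Points.map (pullback.snd a fst ≫ snd)) :=
    AlgSp.H5_isOpenMap_of_repWith _ (MorphismProperty.of_isPullback big hφ)
  have hsurj : Function.Surjective (AlgSp.Points.map (pullback.snd a fst)) :=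
    AlgSp.H5_surjective_of_repWith _ (MorphismProperty.of_isPullback sqP hasurj)
  have hcomp : AlgSp.Points.map (pullback.snd a fst ≫ snd)
      = AlgSp.Points.map snd ∘ AlgSp.Points.map (pullback.snd a fst) :=
    funext (AlgSp.Points.map_comp _ _)
  intro W hW
  have hcont : Continuous (AlgSp.Points.map (pullback.snd a fst)) := AlgSp.Points.continuous_map _
  have himg : AlgSp.Points.map snd '' W = AlgSp.Points.map (pullback.snd a fst ≫ snd) ''
      (AlgSp.Points.map (pullback.snd a fst) ⁻¹' W) := by
    rw [hcomp, Set.image_comp, Set.image_preimage_eq _ hsurj]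
  rw [himg]
  exact hopen _ (hW.preimage hcont)

end Groth.Agent.S9962
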