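import Groth.Statements.S9972
import Mathlib
import Groth.Agent.Lib.helper5.AlgSpFib

set_option autoImplicit false
universe u
open CategoryTheory CategoryTheory.Limits AlgebraicGeometry
open AlgSp

namespace Groth.Agent.S9972

/-- Two morphisms to an algebraic space separated over B that agree on an open subspace whose scheme
theoretic closure is everything are equal. -/
theorem result {S : Scheme.{u}} {U X Y B : AlgSp.Space S} (q : Y ⟶ B)
    (hq : AlgSp.IsSeparatedMor q.hom) (f g : X ⟶ Y) (hfg : f ≫ q = g ≫ q) (j : U ⟶ X)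
    (hj : AlgSp.RepWith @IsOpenImmersion j.hom) (hcl : AlgSp.IsSchImage j.hom (𝟙 X.obj)) (heq : j ≫ f = j ≫ g) :
    f = g := by
  have hfg' : f.hom ≫ q.hom = g.hom ≫ q.hom := congrArg (fun k => k.hom) hfg
  have heq' : j.hom ≫ f.hom = j.hom ≫ g.hom := congrArg (fun k => k.hom) heq
  let δ := pullback.diagonal q.hom
  let ℓ : X.obj ⟶ pullback q.hom q.hom := pullback.lift f.hom g.hom hfg'
  have hδ1 : δ ≫ pullback.fst q.hom q.hom = 𝟙 _ := pullback.diagonal_fst q.hom
  have hδ2 : δ ≫ pullback.snd q.hom q.hom = 𝟙 _ := pullback.diagonal_snd q.hom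
  have hℓ1 : ℓ ≫ pullback.fst q.hom q.hom = f.hom := pullback.lift_fst _ _ _
  have hℓ2 : ℓ ≫ pullback.snd q.hom q.hom = g.hom := pullback.lift_snd _ _ _
  have sqE : IsPullback (pullback.fst δ ℓ) (pullback.snd δ ℓ) δ ℓ := IsPullback.of_hasPullback δ ℓ
  have hEci : AlgSp.RepWith @IsClosedImmersion (pullback.snd δ ℓ) :=
    MorphismProperty.of_isPullback sqE hq
  have hEalg : AlgSp.IsAlgSpace (pullback δ ℓ) :=
    AlgSp.H5_isAlgSpace_of_representable_to_space X _ (pullback.snd δ ℓ) hEci.1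
  have h1 : pullback.fst δ ℓ = pullback.snd δ ℓ ≫ f.hom := by
    have := congrArg (· ≫ pullback.fst q.hom q.hom) sqE.w
    simp only [Category.assoc] at this
    rw [hδ1, Category.comp_id, hℓ1] at this
    exact this
  have h2 : pullback.fst δ ℓ = pullback.snd δ ℓ ≫ g.hom := by
    have := congrArg (· ≫ pullback.snd q.hom q.hom) sqE.w
    simp only [Category.assoc] at this
    rw [hδ2, Category.comp_id, hℓ2] at this
    exact this
  have hjw : (j.hom ≫ f.hom) ≫ δ = j.hom ≫ ℓ := by
    apply pullback.hom_ext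
    · rw [Category.assoc, hδ1, Category.comp_id, Category.assoc, hℓ1]
    · rw [Category.assoc, hδ2, Category.comp_id, Category.assoc, hℓ2, heq']
  obtain ⟨k, hk⟩ := hcl.2.2 (pullback.snd δ ℓ) hEalg hEci
    ⟨pullback.lift (j.hom ≫ f.hom) j.hom hjw, pullback.lift_snd _ _ _⟩
  apply ObjectProperty.hom_ext
  calc f.hom = (k ≫ pullback.snd δ ℓ) ≫ f.hom := by rw [hk, Category.id_comp]
    _ = (k ≫ pullback.snd δ ℓ) ≫ g.hom := by rw [Category.assoc, ← h1, h2, Category.assoc]
    _ = g.hom := by rw [hk, Category.id_comp]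

end Groth.Agent.S9972
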